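import Mathlib
import Cfsg.Prelude.Def_GeometricClasses
import Cfsg.Agent.Lib.helper6.SympBasis
import Cfsg.Agent.Lib.Helper28.SympAbs

set_option autoImplicit false

/-!
# Abstract symplectic forms on `F^n` are standard
-/

namespace Cfsg.Agent.Lib.helper14.SpSLa

open Cfsg.Agent.Lib.helper6 Cfsg.Agent.Lib.helper6.SB Cfsg.Agent.Lib.Helper28.SympAbs Module

variable {F : Type*} [Field F] {n : ℕ}

/-- the part of `W` orthogonal to `e` and `h` for an abstract form -/
def perpA (f : (Fin n → F) → (Fin n → F) → F) (hf : Cfsg.Geo.IsSymplecticForm f)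
    (W : Submodule F (Fin n → F)) (e h : Fin n → F) : Submodule F (Fin n → F) where
  carrier := {w | w ∈ W ∧ f w e = 0 ∧ f w h = 0}
  add_mem' := by
    rintro a b ⟨ha, ha1, ha2⟩ ⟨hb, hb1, hb2⟩
    exact ⟨W.add_mem ha hb, by rw [hf.bilinear.add_left, ha1, hb1, add_zero],
      by rw [hf.bilinear.add_left, ha2, hb2, add_zero]⟩
  zero_mem' := ⟨W.zero_mem, f_zero_left hf e, f_zero_left hf h⟩
  smul_mem' := by
    rintro c a ⟨ha, ha1, ha2⟩
    exact ⟨W.smul_mem c ha, by rw [hf.bilinear.smul_left, ha1, mul_zero],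
      by rw [hf.bilinear.smul_left, ha2, mul_zero]⟩

theorem exists_param_abs (f : (Fin n → F) → (Fin n → F) → F) (hf : Cfsg.Geo.IsSymplecticForm f) :
    ∀ (d : ℕ) (W : Submodule F (Fin n → F)), Module.finrank F W = d →
    (∀ u ∈ W, (∀ v ∈ W, f u v = 0) → u = 0) →
    ∃ (k : ℕ) (φ : (Fin k ⊕ Fin k → F) →ₗ[F] (Fin n → F)), LinearMap.range φ = W ∧
      ∀ x y, f (φ x) (φ y) = Cfsg.sympForm k F x y := by
  intro d
  induction d using Nat.strong_induction_on with
  | _ d ih =>
  intro W hd hW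
  by_cases hbot : W = ⊥
  · refine ⟨0, 0, ?_, ?_⟩
    · rw [LinearMap.range_zero, hbot]
    · intro x y
      rw [sympForm_zero_dim]
      simp [f_zero_left hf]
  obtain ⟨e, heW, he0⟩ := Submodule.exists_mem_ne_zero_of_ne_bot hbot
  obtain ⟨h0, hh0W, heh0⟩ : ∃ h0 ∈ W, f e h0 ≠ 0 := by
    by_contra hcon
    push Not at hcon
    exact he0 (hW e heW hcon)
  obtain ⟨h, hhW, heh⟩ : ∃ h ∈ W, f e h = -1 := by
    refine ⟨(-(f e h0)⁻¹) • h0, W.smul_mem _ hh0W, ?_⟩
    rw [hf.bilinear.smul_right]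
    field_simp
  have hhe : f h e = 1 := by
    rw [hf.skew, heh, neg_neg]
  have hee : f e e = 0 := hf.alternating e
  have hhh : f h h = 0 := hf.alternating h
  set W' := perpA f hf W e h with hW'
  have hW'le : W' ≤ W := fun w hw => hw.1
  have hlt : W' < W := by
    rw [lt_iff_le_and_ne]
    refine ⟨hW'le, ?_⟩
    intro heq
    have : e ∈ W' := by rw [heq]; exact heW
    have h1 := this.2.2
    rw [heh] at h1
    exact (neg_ne_zero.mpr one_ne_zero) h1
  have hdecomp : ∀ w ∈ W, w - (-(f w h)) • e - (f w e) • h ∈ W' := by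
    intro w hw
    refine ⟨W.sub_mem (W.sub_mem hw (W.smul_mem _ heW)) (W.smul_mem _ hhW), ?_, ?_⟩
    · rw [f_sub_left hf, f_sub_left hf, hf.bilinear.smul_left, hf.bilinear.smul_left, hee, hhe]
      ring
    · rw [f_sub_left hf, f_sub_left hf, hf.bilinear.smul_left, hf.bilinear.smul_left, heh, hhh]
      ring
  have hW'nd : ∀ u ∈ W', (∀ v ∈ W', f u v = 0) → u = 0 := by
    intro u hu huv
    apply hW u hu.1
    intro w hw
    have h1 := huv _ (hdecomp w hw)
    rw [f_sub_right hf, f_sub_right hf, hf.bilinear.smul_right, hf.bilinear.smul_right, hu.2.1,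
      hu.2.2] at h1
    linear_combination h1
  obtain ⟨k, φk, hφkr, hφkf⟩ := ih (Module.finrank F W')
    (by rw [← hd]; exact Submodule.finrank_lt_finrank_of_lt hlt) W' rfl hW'nd
  have hφkW' : ∀ z, φk z ∈ W' := fun z => by rw [← hφkr]; exact LinearMap.mem_range_self φk z
  let φ : (Fin (k + 1) ⊕ Fin (k + 1) → F) →ₗ[F] (Fin n → F) :=
    (LinearMap.proj (Sum.inl (Fin.last k))).smulRight e +
      (LinearMap.proj (Sum.inr (Fin.last k))).smulRight h + φk ∘ₗ rho k
  have hφ : ∀ x, φ x = x (Sum.inl (Fin.last k)) • e + x (Sum.inr (Fin.last k)) • h +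
      φk (rho k x) := fun x => rfl
  refine ⟨k + 1, φ, ?_, ?_⟩
  · apply le_antisymm
    · rintro _ ⟨x, rfl⟩
      rw [hφ]
      exact W.add_mem (W.add_mem (W.smul_mem _ heW) (W.smul_mem _ hhW)) (hW'le (hφkW' _))
    · intro w hw
      have h1 := hdecomp w hw
      rw [← hφkr] at h1
      obtain ⟨z, hz⟩ := h1
      let x : Fin (k + 1) ⊕ Fin (k + 1) → F := fun s =>
        Sum.elim (Fin.lastCases (-(f w h)) (fun i => z (Sum.inl i)))
          (Fin.lastCases (f w e) (fun i => z (Sum.inr i))) s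
      have hx1 : x (Sum.inl (Fin.last k)) = -(f w h) := by simp [x]
      have hx2 : x (Sum.inr (Fin.last k)) = f w e := by simp [x]
      have hx3 : rho k x = z := by
        ext s
        rcases s with i | i
        · rw [rho_inl]; simp [x]
        · rw [rho_inr]; simp [x]
      refine ⟨x, ?_⟩
      rw [hφ, hx1, hx2, hx3, hz]
      abel
  · intro x y
    rw [sympForm_succ, hφ, hφ, ← hφkf]
    have hx := hφkW' (rho k x)
    have hy := hφkW' (rho k y)
    have hy1 : f e (φk (rho k y)) = 0 := by rw [hf.skew, hy.2.1, neg_zero]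
    have hy2 : f h (φk (rho k y)) = 0 := by rw [hf.skew, hy.2.2, neg_zero]
    simp only [hf.bilinear.add_left, hf.bilinear.add_right, hf.bilinear.smul_left,
      hf.bilinear.smul_right, hee, hhh, heh, hhe, hx.2.1, hx.2.2, hy1, hy2]
    ring

/-- a symplectic form on `F^n` is isometric to the standard one; in particular `n` is even -/
theorem exists_std (f : (Fin n → F) → (Fin n → F) → F) (hf : Cfsg.Geo.IsSymplecticForm f) :
    ∃ (k : ℕ) (φ : (Fin k ⊕ Fin k → F) ≃ₗ[F] (Fin n → F)), n = 2 * k ∧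
      ∀ x y, f (φ x) (φ y) = Cfsg.sympForm k F x y := by
  obtain ⟨k, φ, hr, hφ⟩ := exists_param_abs f hf _ ⊤ rfl (by
    intro u _ hu
    by_contra hne
    obtain ⟨x, hx⟩ := (hf.nondegenerate u hne).2
    exact hx (hu x Submodule.mem_top))
  have hinj : Function.Injective φ := by
    rw [injective_iff_map_eq_zero]
    intro x hx
    by_contra hne
    obtain ⟨y, hy⟩ := sympForm_nondeg k x hne
    apply hy
    rw [← hφ, hx, f_zero_left hf]
  have hsurj : Function.Surjective φ := LinearMap.range_eq_top.mp hr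
  refine ⟨k, LinearEquiv.ofBijective φ ⟨hinj, hsurj⟩, ?_, fun x y => hφ x y⟩
  have h1 := LinearEquiv.finrank_eq (LinearEquiv.ofBijective φ ⟨hinj, hsurj⟩)
  rw [Module.finrank_fintype_fun_eq_card, Module.finrank_fintype_fun_eq_card, Fintype.card_sum,
    Fintype.card_fin, Fintype.card_fin] at h1
  omega

end Cfsg.Agent.Lib.helper14.SpSLa
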