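import Cfsg.Agent.S4765
import Cfsg.Prelude.Def_DegreeGraph
import Cfsg.Agent.Lib.helper7.CliffordSub

set_option autoImplicit false
open Cfsg

namespace Cfsg.Agent.Lib.helper14

open Cfsg.Agent.Lib.helper7

section General

variable {G : Type*} [Group G]

theorem charDegree_of_natCast (χ : G → ℂ) (n : ℕ) (h : χ 1 = (n : ℂ)) :
    Cfsg.charDegree χ = n := by
  unfold Cfsg.charDegree
  rw [h, Complex.natCast_re, Nat.floor_natCast]

theorem charDegrees_subset_of_equiv {S T : Type*} [Group S] [Group T] (e : S ≃* T) :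
    Cfsg.charDegrees T ⊆ Cfsg.charDegrees S := by
  rintro d ⟨χ, rfl⟩
  refine ⟨⟨fun s => (χ : T → ℂ) (e s), h7_isIrr_comp_equiv e _ χ.2⟩, ?_⟩
  unfold Cfsg.charDegree
  show ⌊((χ : T → ℂ) (e 1)).re⌋₊ = _
  rw [map_one]

theorem charDegrees_congr {S T : Type*} [Group S] [Group T] (e : S ≃* T) :
    Cfsg.charDegrees S = Cfsg.charDegrees T :=
  Set.Subset.antisymm (charDegrees_subset_of_equiv e.symm) (charDegrees_subset_of_equiv e)

theorem charDegrees_quot_subset (K : Subgroup G) [K.Normal] :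
    Cfsg.charDegrees (G ⧸ K) ⊆ Cfsg.charDegrees G := by
  rintro d ⟨χ, rfl⟩
  refine ⟨⟨_, Cfsg.Agent.S4765.infl_irr K _ χ.2⟩, ?_⟩
  rfl

theorem mem_charDegrees_quot [Finite G] (K : Subgroup G) [K.Normal] (ψ : Cfsg.IrrCharacter G)
    (hK : ∀ k ∈ K, (ψ : G → ℂ) k = (ψ : G → ℂ) 1) :
    Cfsg.charDegree (ψ : G → ℂ) ∈ Cfsg.charDegrees (G ⧸ K) := by
  obtain ⟨χ, hχ, hval⟩ := Cfsg.Agent.S4765.descend_irr K _ ψ.2 hK
  refine ⟨⟨χ, hχ⟩, ?_⟩
  unfold Cfsg.charDegree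
  show ⌊(χ ((1 : G) : G ⧸ K)).re⌋₊ = _
  rw [hval 1]

theorem mem_degreePrimes_iff (p : ℕ) :
    p ∈ Cfsg.degreePrimes G ↔ p.Prime ∧ ∃ d ∈ Cfsg.charDegrees G, p ∣ d := Iff.rfl

theorem degreeGraph_adj_iff (p q : ℕ) :
    (Cfsg.degreeGraph G).Adj p q ↔
      p ≠ q ∧ p.Prime ∧ q.Prime ∧ ∃ d ∈ Cfsg.charDegrees G, p * q ∣ d := Iff.rfl

end General

end Cfsg.Agent.Lib.helper14
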