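import Cfsg.Agent.Lib.helper14.SL2Half

set_option autoImplicit false
set_option linter.unusedSectionVars false
open Cfsg

namespace Cfsg.Agent.Lib.helper14

open Cfsg.Agent.Lib.helper7 Cfsg.Agent.Lib.helper2 Cfsg.Agent.Lib.Helper25 Cfsg.Agent.Lib.Helper11
open Cfsg.Agent.S2304 Cfsg.Agent.S2307

open scoped ComplexConjugate

section Count

variable {F : Type*} [Field F] [DecidableEq F]

local notation "S2" => Matrix.SpecialLinearGroup (Fin 2) F
local notation "M2" => Matrix (Fin 2) (Fin 2) F

/-- a parametrisation of the matrices of trace `2ε` and determinant `1` -/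
def parMat (ε : F) (p : F × F) : M2 :=
  if p.2 = 0 then !![ε, 0; p.1, ε] else !![ε + p.1, p.2; -(p.1 * p.1) / p.2, ε - p.1]

theorem parMat_det (ε : F) (hε : ε * ε = 1) (p : F × F) : (parMat ε p).det = 1 := by
  unfold parMat
  split_ifs with h
  · rw [Matrix.det_fin_two_of]
    linear_combination hε
  · rw [Matrix.det_fin_two_of]
    have : (ε + p.1) * (ε - p.1) - p.2 * (-(p.1 * p.1) / p.2) = ε * ε := by
      field_simp
      ring
    rw [this, hε]

def parS (ε : F) (hε : ε * ε = 1) (p : F × F) : S2 := ⟨parMat ε p, parMat_det ε hε p⟩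

theorem parS_coe (ε : F) (hε : ε * ε = 1) (p : F × F) : ((parS ε hε p : S2) : M2) = parMat ε p := rfl

theorem parS_trace (ε : F) (hε : ε * ε = 1) (p : F × F) :
    ((parS ε hε p : S2) : M2).trace = 2 * ε := by
  rw [parS_coe]
  unfold parMat
  split_ifs with h
  · rw [Matrix.trace_fin_two_of]; ring
  · rw [Matrix.trace_fin_two_of]; ring

theorem parS_injective (ε : F) (hε : ε * ε = 1) : Function.Injective (parS ε hε) := by
  intro p p' h
  have h' : parMat ε p = parMat ε p' := congrArg (fun s : S2 => (s : M2)) h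
  unfold parMat at h'
  have e01 := congrFun (congrFun h' 0) 1
  have e10 := congrFun (congrFun h' 1) 0
  have e00 := congrFun (congrFun h' 0) 0
  split_ifs at e01 e10 e00 with h1 h2 h2
  · simp at e10
    exact Prod.ext e10 (h1.trans h2.symm)
  · simp at e01
    exact absurd e01.symm h2
  · simp at e01
    exact absurd e01 h1
  · simp at e01 e00
    exact Prod.ext e00 e01

theorem parS_surj (ε : F) (hε : ε * ε = 1) (s : S2) (hs : (s : M2).trace = 2 * ε) :
    ∃ p : F × F, parS ε hε p = s := by
  have hd := sl2_det s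
  rw [Matrix.trace_fin_two] at hs
  by_cases h01 : (s : M2) 0 1 = 0
  · refine ⟨((s : M2) 1 0, 0), ?_⟩
    apply Subtype.ext
    rw [parS_coe]
    unfold parMat
    rw [if_pos rfl]
    rw [h01, zero_mul, sub_zero] at hd
    have h1 : ((s : M2) 0 0 - ε) * ((s : M2) 0 0 - ε) = 0 := by
      linear_combination ((s : M2) 0 0) * hs - hd + hε
    have h00 : (s : M2) 0 0 = ε := by
      rcases mul_eq_zero.mp h1 with h | h <;> linear_combination h
    have h11 : (s : M2) 1 1 = ε := by linear_combination hs - h00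
    conv_rhs => rw [Matrix.eta_fin_two (s : M2), h01, h00, h11]
  · refine ⟨((s : M2) 0 0 - ε, (s : M2) 0 1), ?_⟩
    apply Subtype.ext
    rw [parS_coe]
    unfold parMat
    rw [if_neg h01]
    conv_rhs => rw [Matrix.eta_fin_two (s : M2)]
    dsimp only
    apply m2_congr
    · ring
    · rfl
    · field_simp
      linear_combination (-(s : M2) 0 0) * hs + hd - hε
    · linear_combination -hs

theorem parS_zero (ε : F) (hε : ε * ε = 1) : IsScalar2 ((parS ε hε (0, 0) : S2) : M2) := by
  rw [parS_coe]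
  unfold parMat
  rw [if_pos rfl]
  refine ⟨by simp, by simp, by simp⟩

theorem parS_not_scalar (ε : F) (hε : ε * ε = 1) (p : F × F) (hp : p ≠ (0, 0)) :
    ¬ IsScalar2 ((parS ε hε p : S2) : M2) := by
  rw [parS_coe]
  unfold parMat
  intro h
  split_ifs at h with h2
  · obtain ⟨-, h10, -⟩ := h
    simp at h10
    exact hp (Prod.ext h10 h2)
  · obtain ⟨h01, -, -⟩ := h
    simp at h01
    exact h2 h01

theorem sum_trace_eq [Fintype F] (ε : F) (hε : ε * ε = 1) (f : S2 → ℂ) :
    ∑ s : S2, (if (s : M2).trace = 2 * ε then f s else 0) = ∑ p : F × F, f (parS ε hε p) := by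
  rw [← Finset.sum_filter]
  symm
  apply Finset.sum_bij (fun p _ => parS ε hε p)
  · intro p _
    rw [Finset.mem_filter]
    exact ⟨Finset.mem_univ _, parS_trace ε hε p⟩
  · intro p _ p' _ h
    exact parS_injective ε hε h
  · intro s hs
    rw [Finset.mem_filter] at hs
    obtain ⟨p, hp⟩ := parS_surj ε hε s hs.2
    exact ⟨p, Finset.mem_univ _, hp⟩
  · intro p _
    rfl

/-- sum over the elements of trace `2ε` of a function vanishing at the scalar one and constant
elsewhere -/
theorem sum_trace_const [Fintype F] (ε : F) (hε : ε * ε = 1) (f : S2 → ℂ) (c : ℂ)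
    (h0 : ∀ s : S2, IsScalar2 (s : M2) → f s = 0)
    (h1 : ∀ s : S2, ¬ IsScalar2 (s : M2) → (s : M2).trace = 2 * ε → f s = c) :
    ∑ s : S2, (if (s : M2).trace = 2 * ε then f s else 0) =
      ((Fintype.card F : ℂ) ^ 2 - 1) * c := by
  rw [sum_trace_eq ε hε]
  have : ∀ p : F × F, f (parS ε hε p) = c - (if p = (0, 0) then c else 0) := by
    intro p
    by_cases hp : p = (0, 0)
    · rw [if_pos hp, hp, h0 _ (parS_zero ε hε)]
      ring
    · rw [if_neg hp, h1 _ (parS_not_scalar ε hε p hp) (parS_trace ε hε p)]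
      ring
  rw [Finset.sum_congr rfl (fun p _ => this p), Finset.sum_sub_distrib, Finset.sum_const,
    Finset.sum_ite_eq' Finset.univ ((0 : F), (0 : F)), if_pos (Finset.mem_univ _), Finset.card_univ,
    Fintype.card_prod]
  simp
  ring

end Count


section Core

variable {F : Type*} [Field F] [Fintype F] [DecidableEq F]
variable [Fintype (Cfsg.IrrCharacter (GL (Fin 2) F))] [Fintype (MulChar F ℂ)]

local notation "G2" => GL (Fin 2) F
local notation "S2" => Matrix.SpecialLinearGroup (Fin 2) F
local notation "M2" => Matrix (Fin 2) (Fin 2) F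
local notation "Irr2" => Cfsg.IrrCharacter (GL (Fin 2) F)
local notation "IrrS" => Cfsg.IrrCharacter (Matrix.SpecialLinearGroup (Fin 2) F)

omit [Fintype (Cfsg.IrrCharacter (GL (Fin 2) F))] [Fintype (MulChar F ℂ)] in
/-- the central sign of an irreducible character of `SL₂` -/
theorem sl_central_sign (ψ : S2 → ℂ) (hψ : Cfsg.IsIrrCharacter S2 ψ) :
    ∃ ω : ℂ, (∀ x : S2, ψ (-x) = ω * ψ x) ∧ ω * conj ω = 1 := by
  have hz : (-1 : S2) ∈ Subgroup.center S2 := by
    rw [Subgroup.mem_center_iff]
    intro g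
    rw [mul_neg_one, neg_one_mul]
  obtain ⟨c, hc⟩ := h7_central_char hψ (-1 : S2) hz
  have hc' : ∀ x : S2, ψ (-x) = c * ψ x := by
    intro x
    rw [← hc x, neg_one_mul]
  refine ⟨c, hc', ?_⟩
  have h1 := hc' (-1)
  rw [neg_neg, hc' 1] at h1
  have hne : ψ 1 ≠ 0 := irr_one_ne_zero (⟨ψ, hψ⟩ : IrrS)
  have : (c - 1) * (c + 1) = 0 := by
    have : ψ 1 * ((c - 1) * (c + 1)) = 0 := by linear_combination -h1
    rcases mul_eq_zero.mp this with h | h
    · exact absurd h hne
    · exact h
  rcases mul_eq_zero.mp this with h | h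
  · have : c = 1 := by linear_combination h
    rw [this]; simp
  · have : c = -1 := by linear_combination h
    rw [this]; simp

omit [Fintype (Cfsg.IrrCharacter (GL (Fin 2) F))] [Fintype (MulChar F ℂ)] in
theorem classInner_parallelogram (a b : S2 → ℂ) :
    Cfsg.classInner (a + b) (a + b) + Cfsg.classInner (a - b) (a - b) =
      2 * Cfsg.classInner a a + 2 * Cfsg.classInner b b := by
  unfold Cfsg.classInner
  rw [← mul_add, mul_left_comm 2, mul_left_comm 2, ← mul_add, Finset.mul_sum, Finset.mul_sum,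
    ← Finset.sum_add_distrib, ← Finset.sum_add_distrib]
  congr 1
  apply Finset.sum_congr rfl
  intro g _
  simp only [Pi.add_apply, Pi.sub_apply, map_add, map_sub]
  ring

theorem half_core (hodd : Odd (Fintype.card F)) (η : Irr2) (ψ ψ' : S2 → ℂ)
    (hψ : Cfsg.IsIrrCharacter S2 ψ) (hψ' : Cfsg.IsIrrCharacter S2 ψ') (ht : twI η = 2)
    (hres : resS (η : G2 → ℂ) = ψ + ψ') (k : G2) (hk : ∀ s : S2, ψ' s = ψ (conjS k s)) :
    (ψ (uS 1) - ψ' (uS 1)) * conj (ψ (uS 1) - ψ' (uS 1)) = (Fintype.card F : ℂ) ∧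
    conj (ψ (uS 1) - ψ' (uS 1)) =
      (-1 : ℂ) ^ ((Fintype.card F - 1) / 2) * (ψ (uS 1) - ψ' (uS 1)) := by
  have hcf := h7_irr_isClassFunction hψ
  have hδ : (k : M2).det ≠ 0 := Matrix.GeneralLinearGroup.det_ne_zero k
  have hψ'eq : ∀ s : S2, ψ' s = ψ (sig (k : M2).det hδ s) := by
    intro s
    rw [hk]
    obtain ⟨c, hc⟩ := isConj_iff.mp (sig_isConj_conjS k s)
    rw [← hc, hcf]
  generalize (k : M2).det = δ at hδ hψ'eq
  have hΔ : ψ - ψ' = dlt ψ δ hδ := by
    funext s
    simp only [Pi.sub_apply, dlt]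
    rw [hψ'eq]
  have hΔ1 : ψ (uS 1) - ψ' (uS 1) = dlt ψ δ hδ (uS 1) := by
    rw [← hΔ]; rfl
  rw [hΔ1]
  have hD := dlt_classFunction ψ hcf δ hδ
  -- the norm of the difference
  have hnorm : Cfsg.classInner (dlt ψ δ hδ) (dlt ψ δ hδ) = 2 := by
    have h1 := classInner_parallelogram ψ ψ'
    rw [← hres, resS_norm, ht, hΔ] at h1
    have e1 : Cfsg.classInner ψ ψ = 1 := by
      have := irr_classInner (⟨ψ, hψ⟩ : IrrS) ⟨ψ, hψ⟩
      rw [if_pos rfl] at this
      exact this
    have e2 : Cfsg.classInner ψ' ψ' = 1 := by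
      have := irr_classInner (⟨ψ', hψ'⟩ : IrrS) ⟨ψ', hψ'⟩
      rw [if_pos rfl] at this
      exact this
    rw [e1, e2] at h1
    push_cast at h1
    linear_combination h1
  have hScard : (Nat.card S2 : ℂ) ≠ 0 := by exact_mod_cast Nat.card_pos.ne'
  have hsum : ∑ s : S2, dlt ψ δ hδ s * conj (dlt ψ δ hδ s) = 2 * (Nat.card S2 : ℂ) := by
    unfold Cfsg.classInner at hnorm
    field_simp at hnorm
    linear_combination hnorm
  -- `δ` is not a square
  have hδns : ¬ IsSquare δ := by
    rintro ⟨c, rfl⟩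
    have hc0 : c ≠ 0 := fun h => hδ (by rw [h, mul_zero])
    have hz : ∀ s : S2, dlt ψ (c * c) hδ s = 0 := by
      intro s
      exact dlt_of_isConj ψ hcf (c * c) hδ s (sig_sq_isConj c hc0 s).symm
    rw [Finset.sum_congr rfl (fun s _ => by rw [hz s, zero_mul])] at hsum
    rw [Finset.sum_const_zero] at hsum
    have : (2 : ℂ) * (Nat.card S2 : ℂ) ≠ 0 := mul_ne_zero two_ne_zero hScard
    exact this hsum.symm
  obtain ⟨ω, hω, hω1⟩ := sl_central_sign ψ hψ
  have h2F : (2 : F) ≠ 0 := by
    intro h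
    have hchar : ringChar F = 2 := by
      have : ringChar F ∣ 2 := by
        rw [← Nat.cast_ofNat] at h
        exact (ringChar.spec F 2).mp h
      rcases (Nat.dvd_prime Nat.prime_two).mp this with h1 | h1
      · exfalso
        exact CharP.ringChar_ne_one (R := F) h1
      · exact h1
    have := FiniteField.even_card_of_char_two hchar
    have := Nat.odd_iff.mp hodd
    omega
  set c := dlt ψ δ hδ (uS 1) * conj (dlt ψ δ hδ (uS 1)) with hcdef
  -- evaluate the sum
  have hscal : ∀ s : S2, IsScalar2 (s : M2) → dlt ψ δ hδ s * conj (dlt ψ δ hδ s) = 0 := by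
    intro s hs
    have : dlt ψ δ hδ s = 0 := by
      apply dlt_of_isConj ψ hcf δ hδ s
      rw [sig_scalar δ hδ s hs]
    rw [this, zero_mul]
  have hpar : ∀ (ε : F) (hε : ε * ε = 1) (s : S2), ¬ IsScalar2 (s : M2) → (s : M2).trace = 2 * ε →
      dlt ψ δ hδ s * conj (dlt ψ δ hδ s) = c := by
    intro ε hε s hs htr
    apply dlt_parabolic ψ hcf δ hδ hδns ω hω hω1 s hs
    rw [htr]
    linear_combination 4 * hε
  have hsplit : ∀ s : S2, dlt ψ δ hδ s * conj (dlt ψ δ hδ s) =
      (if (s : M2).trace = 2 * 1 then dlt ψ δ hδ s * conj (dlt ψ δ hδ s) else 0) +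
      (if (s : M2).trace = 2 * (-1) then dlt ψ δ hδ s * conj (dlt ψ δ hδ s) else 0) := by
    intro s
    by_cases h1 : (s : M2).trace = 2 * 1
    · have h2 : ¬ (s : M2).trace = 2 * (-1) := by
        rw [h1]
        intro h
        apply h2F
        have : (2 : F) * 2 = 0 := by linear_combination h
        rcases mul_eq_zero.mp this with h' | h' <;> exact h'
      rw [if_pos h1, if_neg h2, add_zero]
    · by_cases h2 : (s : M2).trace = 2 * (-1)
      · rw [if_neg h1, if_pos h2, zero_add]
      · rw [if_neg h1, if_neg h2, add_zero]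
        by_cases hs : IsScalar2 (s : M2)
        · exact hscal s hs
        · have htr : (s : M2).trace * (s : M2).trace ≠ 4 := by
            intro h
            have : ((s : M2).trace - 2 * 1) * ((s : M2).trace - 2 * (-1)) = 0 := by
              linear_combination h
            rcases mul_eq_zero.mp this with h' | h'
            · exact h1 (sub_eq_zero.mp h')
            · exact h2 (sub_eq_zero.mp h')
          have : dlt ψ δ hδ s = 0 :=
            dlt_of_isConj ψ hcf δ hδ s (sig_regular_isConj hodd δ hδ s hs htr)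
          rw [this, zero_mul]
  have hsum2 : ∑ s : S2, dlt ψ δ hδ s * conj (dlt ψ δ hδ s) =
      2 * (((Fintype.card F : ℂ) ^ 2 - 1) * c) := by
    rw [Finset.sum_congr rfl (fun s _ => hsplit s), Finset.sum_add_distrib,
      sum_trace_const 1 (by ring) _ c hscal (hpar 1 (by ring)),
      sum_trace_const (-1) (by ring) _ c hscal (hpar (-1) (by ring))]
    ring
  have hq1 : 1 < Fintype.card F := Fintype.one_lt_card
  have hcardS : (Nat.card S2 : ℂ) = (Fintype.card F : ℂ) * ((Fintype.card F : ℂ) ^ 2 - 1) := by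
    rw [card_sl2]
    have : 1 ≤ Fintype.card F ^ 2 := Nat.one_le_pow _ _ (by omega)
    push_cast [Nat.cast_sub this]
    ring
  have hq21 : (Fintype.card F : ℂ) ^ 2 - 1 ≠ 0 := by
    intro h
    apply hScard
    rw [hcardS, h, mul_zero]
  constructor
  · have h := hsum.symm.trans hsum2
    rw [hcardS] at h
    have h' : ((Fintype.card F : ℂ) ^ 2 - 1) * (c - (Fintype.card F : ℂ)) = 0 := by
      linear_combination (-1 / 2 : ℂ) * h
    rcases mul_eq_zero.mp h' with h'' | h''
    · exact absurd h'' hq21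
    · linear_combination h''
  · -- complex conjugate
    have hinv : (uS (1 : F))⁻¹ = uS (-1) := by
      rw [inv_eq_iff_mul_eq_one, uS_mul]
      rw [show (1 : F) + -1 = 0 by ring, uS_zero]
    have hconj : ∀ (φ : S2 → ℂ), Cfsg.IsIrrCharacter S2 φ → ∀ s : S2, conj (φ s) = φ s⁻¹ := by
      intro φ hφ s
      obtain ⟨n, ρ, _, rfl⟩ := hφ
      rw [char_inv]
    have hcX : conj (dlt ψ δ hδ (uS 1)) = dlt ψ δ hδ (uS (-1)) := by
      rw [← hΔ]
      simp only [Pi.sub_apply, map_sub]
      rw [hconj ψ hψ, hconj ψ' hψ', hinv]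
    rw [hcX]
    obtain ⟨m, hm⟩ := hodd
    by_cases hsq : IsSquare (-1 : F)
    · have h4 := (FiniteField.isSquare_neg_one_iff (F := F)).mp hsq
      have hmeven : Even ((Fintype.card F - 1) / 2) := by
        have : (Fintype.card F - 1) / 2 = m := by omega
        rw [this]
        rcases Nat.even_or_odd m with he | ho
        · exact he
        · exfalso
          obtain ⟨j, hj⟩ := ho
          omega
      rw [Even.neg_one_pow hmeven, one_mul]
      exact classFun_uS_of_isSquare hD (-1) 1 (neg_ne_zero.mpr one_ne_zero) one_ne_zero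
        (by rwa [mul_one])
    · have h4 : Fintype.card F % 4 = 3 := by
        by_contra h
        exact hsq ((FiniteField.isSquare_neg_one_iff (F := F)).mpr h)
      have hmodd : Odd ((Fintype.card F - 1) / 2) := by
        have : (Fintype.card F - 1) / 2 = m := by omega
        rw [this]
        rcases Nat.even_or_odd m with he | ho
        · exfalso
          obtain ⟨j, hj⟩ := he
          omega
        · exact ho
      rw [Odd.neg_one_pow hmodd, neg_one_mul]
      have h1 : dlt ψ δ hδ (uS (-1)) = dlt ψ δ hδ (uS (δ * 1)) :=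
        classFun_uS_of_isSquare hD (-1) (δ * 1) (neg_ne_zero.mpr one_ne_zero)
          (mul_ne_zero hδ one_ne_zero) (by rw [mul_one]; exact isSquare_mul_of_not (-1) δ hsq hδns)
      rw [h1, ← sig_uS δ hδ 1, dlt_sig ψ hcf]

end Core

end Cfsg.Agent.Lib.helper14
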