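import Cfsg.Agent.Lib.helper14.SL2Tw

set_option autoImplicit false
set_option linter.unusedSectionVars false
open Cfsg

namespace Cfsg.Agent.Lib.helper14

open Cfsg.Agent.Lib.helper7 Cfsg.Agent.Lib.helper2 Cfsg.Agent.Lib.Helper25 Cfsg.Agent.Lib.Helper11
open Cfsg.Agent.S2304

open scoped ComplexConjugate

section Odd

variable {F : Type*} [Field F] [Fintype F] [DecidableEq F]
variable [Fintype (Cfsg.IrrCharacter (GL (Fin 2) F))] [Fintype (MulChar F ℂ)]

local notation "G2" => GL (Fin 2) F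
local notation "S2" => Matrix.SpecialLinearGroup (Fin 2) F
local notation "M2" => Matrix (Fin 2) (Fin 2) F
local notation "Irr2" => Cfsg.IrrCharacter (GL (Fin 2) F)
local notation "IrrS" => Cfsg.IrrCharacter (Matrix.SpecialLinearGroup (Fin 2) F)

theorem glR_twist (α β l : MulChar F ℂ) (g : G2) :
    l ((g : M2).det) * glR α β g = glR (α * l) (β * l) g := by
  rw [glR, glR, indFun_eq, indFun_eq, mul_left_comm, Finset.mul_sum]
  congr 1
  apply Finset.sum_congr rfl
  intro x _
  by_cases h : ((x⁻¹ * g * x : G2) : M2) 1 0 = 0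
  · rw [if_pos h, if_pos h, MulChar.mul_apply, MulChar.mul_apply]
    have hdet : (g : M2).det = ((x⁻¹ * g * x : G2) : M2) 0 0 * ((x⁻¹ * g * x : G2) : M2) 1 1 := by
      have h1 : ((x⁻¹ * g * x : G2) : M2).det = (g : M2).det := by
        have h3 : Matrix.GeneralLinearGroup.det (x⁻¹ * g * x : G2) =
            Matrix.GeneralLinearGroup.det g := by
          rw [map_mul, map_mul, map_inv, mul_comm, mul_inv_cancel_left]
        exact congrArg (fun u : Fˣ => (u : F)) h3
      rw [← h1, Matrix.det_fin_two, h, mul_zero, sub_zero]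
    rw [hdet, map_mul]
    ring
  · rw [if_neg h, if_neg h, mul_zero]

theorem glTwist_glRirr (α β l : MulChar F ℂ) (h : α ≠ β) :
    glTwist (glRirr α β h) l = glRirr (α * l) (β * l) (fun e => h (mul_right_cancel e)) := by
  apply Subtype.ext
  funext g
  rw [glTwist_apply, glRirr_apply, glRirr_apply, glR_twist]


theorem twI_ne_one_iff (χ : Irr2) : twI χ ≠ 1 ↔ ∃ l : MulChar F ℂ, l ≠ 1 ∧ glTwist χ l = χ := by
  classical
  constructor
  · intro h
    have h2 : twI χ = 2 := by
      rcases twI_cases χ with h1 | h1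
      · exact absurd h1 h
      · exact h1
    by_contra hcon
    push_neg at hcon
    have : Finset.univ.filter (fun l : MulChar F ℂ => glTwist χ l = χ) ⊆ {1} := by
      intro l hl
      rw [Finset.mem_filter] at hl
      rw [Finset.mem_singleton]
      by_contra hne
      exact hcon l hne hl.2
    have := Finset.card_le_card this
    rw [Finset.card_singleton] at this
    unfold twI at h2
    omega
  · rintro ⟨l, hl1, hl⟩ h
    unfold twI at h
    rw [Finset.card_eq_one] at h
    obtain ⟨a, ha⟩ := h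
    have m1 : (1 : MulChar F ℂ) ∈ Finset.univ.filter (fun l : MulChar F ℂ => glTwist χ l = χ) := by
      rw [Finset.mem_filter]; exact ⟨Finset.mem_univ _, glTwist_one χ⟩
    have m2 : l ∈ Finset.univ.filter (fun l : MulChar F ℂ => glTwist χ l = χ) := by
      rw [Finset.mem_filter]; exact ⟨Finset.mem_univ _, hl⟩
    rw [ha, Finset.mem_singleton] at m1 m2
    exact hl1 (m2.trans m1.symm)

theorem twI_glRirr_ne_one_iff (α β : MulChar F ℂ) (h : α ≠ β) :
    twI (glRirr α β h) ≠ 1 ↔ (α⁻¹ * β) ^ 2 = 1 := by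
  rw [twI_ne_one_iff]
  constructor
  · rintro ⟨l, hl1, hl⟩
    rw [glTwist_glRirr, glRirr_eq_iff] at hl
    rcases hl with ⟨h1, -⟩ | ⟨h1, h2⟩
    · exfalso
      apply hl1
      have : α * l = α * 1 := by rw [h1, mul_one]
      exact mul_left_cancel this
    · have e1 : l = α⁻¹ * β := by rw [← h1]; group
      have e2 : l = β⁻¹ * α := by rw [← h2]; group
      rw [pow_two]
      nth_rewrite 1 [← e1]
      rw [e2]
      group
  · intro hsq
    refine ⟨α⁻¹ * β, ?_, ?_⟩
    · intro h1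
      apply h
      have : α * (α⁻¹ * β) = α * 1 := by rw [h1]
      rw [mul_inv_cancel_left, mul_one] at this
      exact this.symm
    · rw [glTwist_glRirr, glRirr_eq_iff]
      right
      constructor
      · group
      · have : β * (α⁻¹ * β) = α * (α⁻¹ * β) ^ 2 := by
          rw [pow_two, ← mul_assoc α, mul_inv_cancel_left]
        rw [this, hsq, mul_one]


open Classical in
theorem card_sq_eq_one_odd (hodd : Odd (Fintype.card F)) :
    (Finset.univ.filter (fun l : MulChar F ℂ => l ^ 2 = 1)).card = 2 := by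
  apply le_antisymm card_sq_eq_one_le
  have h2 : 2 ∣ Fintype.card (MulChar F ℂ) := by
    rw [card_mulChar]
    obtain ⟨k, hk⟩ := hodd
    exact ⟨k, by omega⟩
  haveI : Fact (Nat.Prime 2) := ⟨Nat.prime_two⟩
  obtain ⟨l0, hl0⟩ := exists_prime_orderOf_dvd_card 2 h2
  have hne : l0 ≠ 1 := by
    intro h
    rw [h, orderOf_one] at hl0
    norm_num at hl0
  have hsq : l0 ^ 2 = 1 := by
    rw [← hl0]
    exact pow_orderOf_eq_one l0
  have hsub : ({1, l0} : Finset (MulChar F ℂ)) ⊆
      Finset.univ.filter (fun l : MulChar F ℂ => l ^ 2 = 1) := by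
    intro l hl
    rw [Finset.mem_insert, Finset.mem_singleton] at hl
    rw [Finset.mem_filter]
    refine ⟨Finset.mem_univ _, ?_⟩
    rcases hl with rfl | rfl
    · exact one_pow 2
    · exact hsq
  have := Finset.card_le_card hsub
  rw [Finset.card_pair (Ne.symm hne)] at this
  exact this

open Classical in
theorem sum_off_sq (hodd : Odd (Fintype.card F)) :
    ∑ p : GlOff F, (if (p.1.1⁻¹ * p.1.2) ^ 2 = 1 then (1 : ℂ) else 0) =
      (Fintype.card F : ℂ) - 1 := by
  have h1 : ∑ p : GlOff F, (if (p.1.1⁻¹ * p.1.2) ^ 2 = 1 then (1 : ℂ) else 0) =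
      ∑ p ∈ Finset.univ.filter (fun p : MulChar F ℂ × MulChar F ℂ => p.1 ≠ p.2),
        (if (p.1⁻¹ * p.2) ^ 2 = 1 then (1 : ℂ) else 0) := by
    rw [Finset.sum_subtype (Finset.univ.filter (fun p : MulChar F ℂ × MulChar F ℂ => p.1 ≠ p.2))
      (p := fun p : MulChar F ℂ × MulChar F ℂ => p.1 ≠ p.2) (by simp)
      (f := fun p : MulChar F ℂ × MulChar F ℂ => if (p.1⁻¹ * p.2) ^ 2 = 1 then (1 : ℂ) else 0)]
  rw [h1, Finset.sum_filter, Fintype.sum_prod_type]
  have hin : ∀ α : MulChar F ℂ,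
      ∑ β : MulChar F ℂ, (if (α, β).1 ≠ (α, β).2 then
        (if ((α, β).1⁻¹ * (α, β).2) ^ 2 = 1 then (1 : ℂ) else 0) else 0) = 1 := by
    intro α
    have e1 : ∑ β : MulChar F ℂ, (if (α, β).1 ≠ (α, β).2 then
        (if ((α, β).1⁻¹ * (α, β).2) ^ 2 = 1 then (1 : ℂ) else 0) else 0) =
        ∑ l : MulChar F ℂ, ((if l ^ 2 = 1 then (1 : ℂ) else 0) - (if l = 1 then (1 : ℂ) else 0)) := by
      symm
      apply Fintype.sum_equiv (Equiv.mulLeft α)
      intro l
      simp only [Equiv.coe_mulLeft, inv_mul_cancel_left]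
      by_cases hl : l = 1
      · subst hl
        simp
      · have : α ≠ α * l := by
          intro h
          apply hl
          have : α * l = α * 1 := by rw [← h, mul_one]
          exact mul_left_cancel this
        rw [if_neg hl, if_pos this, sub_zero]
    rw [e1, Finset.sum_sub_distrib, Finset.sum_boole, Finset.sum_boole, card_sq_eq_one_odd hodd,
      Finset.filter_eq' Finset.univ (1 : MulChar F ℂ), if_pos (Finset.mem_univ _),
      Finset.card_singleton]
    norm_num
  rw [Finset.sum_congr rfl (fun α _ => hin α), Finset.sum_const, Finset.card_univ, nsmul_eq_mul,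
    mul_one, card_mulChar_cast]


open Classical in
theorem two_card_glK3_tw (hodd : Odd (Fintype.card F)) :
    2 * (((glK3 (F := F)).filter (fun χ => twI χ ≠ 1)).card : ℂ) = (Fintype.card F : ℂ) - 1 := by
  have h := sum_glK3 (F := F) (fun χ => if twI χ ≠ 1 then (1 : ℂ) else 0)
  rw [Finset.sum_boole] at h
  rw [h, ← sum_off_sq hodd]
  apply Finset.sum_congr rfl
  intro p _
  have : twI (glRp p) ≠ 1 ↔ (p.1.1⁻¹ * p.1.2) ^ 2 = 1 := twI_glRirr_ne_one_iff p.1.1 p.1.2 p.2
  by_cases hp : (p.1.1⁻¹ * p.1.2) ^ 2 = 1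
  · rw [if_pos hp, if_pos (this.mpr hp)]
  · rw [if_neg hp, if_neg (fun h => hp (this.mp h))]

theorem twI_ne_one_deg (χ : Irr2) (h : twI χ ≠ 1) : ∃ n : ℕ, (χ : G2 → ℂ) 1 = 2 * (n : ℂ) := by
  have h2 : twI χ = 2 := by
    rcases twI_cases χ with h1 | h1
    · exact absurd h1 h
    · exact h1
  have hn := resS_norm χ
  rw [h2] at hn
  have hn2 : Cfsg.classInner (resS (χ : G2 → ℂ)) (resS (χ : G2 → ℂ)) = 2 := by
    rw [hn]; norm_num
  obtain ⟨η₁, η₂, h1, h2', hne, hsum⟩ :=
    Cfsg.Agent.S2307.split_of_norm_two (isCharacter_resS χ) hn2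
  have c1 : Cfsg.classInner (resS (χ : G2 → ℂ)) η₁ ≠ 0 := by
    rw [hsum, classInner_add_left, h7_irr_norm h1, h7_irr_inner_ne h2' h1 (Ne.symm hne)]
    norm_num
  have c2 : Cfsg.classInner (resS (χ : G2 → ℂ)) η₂ ≠ 0 := by
    rw [hsum, classInner_add_left, h7_irr_norm h2', h7_irr_inner_ne h1 h2' hne]
    norm_num
  have hdeg := resS_constituents_deg χ η₁ η₂ h1 h2' c1 c2
  obtain ⟨n, -, hn1⟩ := irr_one_eq_finrank (⟨η₁, h1⟩ : IrrS)
  refine ⟨n, ?_⟩
  have e0 : (χ : G2 → ℂ) 1 = resS (χ : G2 → ℂ) 1 := (resS_one _).symm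
  rw [e0, hsum, Pi.add_apply, hdeg]
  change η₁ 1 = (n : ℂ) at hn1
  rw [hn1]
  ring

theorem twI_glLam (α : MulChar F ℂ) : twI (glLam α) = 1 := by
  by_contra h
  obtain ⟨n, hn⟩ := twI_ne_one_deg _ h
  rw [glLam_one] at hn
  have : (1 : ℕ) = 2 * n := by exact_mod_cast hn
  omega

theorem twI_glSt (hodd : Odd (Fintype.card F)) (α : MulChar F ℂ) : twI (glSt α) = 1 := by
  by_contra h
  obtain ⟨n, hn⟩ := twI_ne_one_deg _ h
  rw [glSt_one] at hn
  have : Fintype.card F = 2 * n := by exact_mod_cast hn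
  obtain ⟨k, hk⟩ := hodd
  omega

end Odd

end Cfsg.Agent.Lib.helper14
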