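import Mathlib

set_option autoImplicit false

namespace Cfsg.Agent.Lib.helper14

section
variable {F : Type*} [Field F]

theorem m2_congr (p q r s p' q' r' s' : F) (h1 : p = p') (h2 : q = q') (h3 : r = r') (h4 : s = s') :
    (!![p, q; r, s] : Matrix (Fin 2) (Fin 2) F) = !![p', q'; r', s'] := by
  subst h1 h2 h3 h4; rfl

theorem m2_eq_iff (p q r s p' q' r' s' : F) :
    (!![p, q; r, s] : Matrix (Fin 2) (Fin 2) F) = !![p', q'; r', s'] ↔ p = p' ∧ q = q' ∧ r = r' ∧ s = s' := by
  constructor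
  · intro h
    refine ⟨?_, ?_, ?_, ?_⟩
    · simpa using congrFun (congrFun h 0) 0
    · simpa using congrFun (congrFun h 0) 1
    · simpa using congrFun (congrFun h 1) 0
    · simpa using congrFun (congrFun h 1) 1
  · rintro ⟨h1, h2, h3, h4⟩
    exact m2_congr _ _ _ _ _ _ _ _ h1 h2 h3 h4

/-- the companion matrix with trace `t` and determinant `δ` -/
def compMat (t δ : F) : Matrix (Fin 2) (Fin 2) F := !![0, -δ; 1, t]

theorem compMat_det (t δ : F) : (compMat t δ).det = δ := by
  rw [compMat, Matrix.det_fin_two_of]; ring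

theorem compMat_trace (t δ : F) : (compMat t δ).trace = t := by
  rw [compMat, Matrix.trace_fin_two_of]; ring

/-- `M` is a scalar matrix -/
def IsScalar2 (M : Matrix (Fin 2) (Fin 2) F) : Prop := M 0 1 = 0 ∧ M 1 0 = 0 ∧ M 0 0 = M 1 1

theorem compMat_not_scalar (t δ : F) : ¬ IsScalar2 (compMat t δ) := by
  rintro ⟨-, h, -⟩
  simp [compMat] at h

theorem isScalar2_iff (M : Matrix (Fin 2) (Fin 2) F) : IsScalar2 M ↔ M = !![M 0 0, 0; 0, M 0 0] := by
  constructor
  · rintro ⟨h1, h2, h3⟩
    have := Matrix.eta_fin_two M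
    rw [h1, h2, ← h3] at this
    exact this
  · intro h
    refine ⟨?_, ?_, ?_⟩
    · have := congrFun (congrFun h 0) 1
      simpa using this
    · have := congrFun (congrFun h 1) 0
      simpa using this
    · have := congrFun (congrFun h 1) 1
      simpa using this.symm

/-- a non-scalar 2×2 matrix is similar to the companion matrix of its characteristic polynomial -/
theorem exists_conj_compMat (M : Matrix (Fin 2) (Fin 2) F) (hM : ¬ IsScalar2 M) :
    ∃ P : Matrix (Fin 2) (Fin 2) F, P.det ≠ 0 ∧ M * P = P * compMat M.trace M.det := by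
  set a := M 0 0 with ha
  set b := M 0 1 with hb
  set c := M 1 0 with hc
  set d := M 1 1 with hd
  have hMeta : M = !![a, b; c, d] := Matrix.eta_fin_two M
  have htr : M.trace = a + d := by rw [Matrix.trace_fin_two]
  have hdet : M.det = a * d - b * c := by rw [Matrix.det_fin_two]
  by_cases hc0 : c = 0
  · by_cases hb0 : b = 0
    · have had : a ≠ d := fun h => hM ⟨hb0, hc0, h⟩
      refine ⟨!![1, a; 1, d], ?_, ?_⟩
      · rw [Matrix.det_fin_two_of]
        intro h; apply had; linear_combination (-1 : F) * h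
      · rw [htr, hdet, compMat, hMeta, hb0, hc0, Matrix.mul_fin_two, Matrix.mul_fin_two]
        apply m2_congr <;> ring
    · refine ⟨!![0, b; 1, d], ?_, ?_⟩
      · rw [Matrix.det_fin_two_of]
        intro h; apply hb0; linear_combination (-1 : F) * h
      · rw [htr, hdet, compMat, hMeta, hc0, Matrix.mul_fin_two, Matrix.mul_fin_two]
        apply m2_congr <;> ring
  · refine ⟨!![1, a; 0, c], ?_, ?_⟩
    · rw [Matrix.det_fin_two_of]
      intro h; apply hc0; linear_combination h
    · rw [htr, hdet, compMat, hMeta, Matrix.mul_fin_two, Matrix.mul_fin_two]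
      apply m2_congr <;> ring

/-- GL₂ version: a non-scalar element is conjugate to the companion matrix -/
theorem gl2_exists_conj (g : GL (Fin 2) F) (hg : ¬ IsScalar2 (g : Matrix (Fin 2) (Fin 2) F)) :
    ∃ P : GL (Fin 2) F, (g : Matrix (Fin 2) (Fin 2) F) * (P : Matrix (Fin 2) (Fin 2) F) =
      (P : Matrix (Fin 2) (Fin 2) F) * compMat (g : Matrix (Fin 2) (Fin 2) F).trace (g : Matrix (Fin 2) (Fin 2) F).det := by
  obtain ⟨P, hP, h⟩ := exists_conj_compMat (g : Matrix (Fin 2) (Fin 2) F) hg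
  exact ⟨Matrix.GeneralLinearGroup.mkOfDetNeZero P hP, h⟩

theorem gl2_det_ne_zero (g : GL (Fin 2) F) : (g : Matrix (Fin 2) (Fin 2) F).det ≠ 0 :=
  ((Matrix.isUnit_iff_isUnit_det _).mp (Units.isUnit g)).ne_zero

/-- two non-scalar elements of GL₂ with the same trace and determinant are conjugate -/
theorem gl2_isConj_of_trace_det (g h : GL (Fin 2) F)
    (hg : ¬ IsScalar2 (g : Matrix (Fin 2) (Fin 2) F)) (hh : ¬ IsScalar2 (h : Matrix (Fin 2) (Fin 2) F))
    (ht : (g : Matrix (Fin 2) (Fin 2) F).trace = (h : Matrix (Fin 2) (Fin 2) F).trace)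
    (hd : (g : Matrix (Fin 2) (Fin 2) F).det = (h : Matrix (Fin 2) (Fin 2) F).det) : IsConj g h := by
  obtain ⟨P, hP⟩ := gl2_exists_conj g hg
  obtain ⟨Q, hQ⟩ := gl2_exists_conj h hh
  rw [← ht, ← hd] at hQ
  rw [isConj_iff]
  refine ⟨Q * P⁻¹, ?_⟩
  rw [mul_inv_eq_iff_eq_mul]
  apply Units.ext
  have hP' : (P⁻¹ : GL (Fin 2) F) * g * P = Matrix.GeneralLinearGroup.mkOfDetNeZero
      (compMat (g : Matrix (Fin 2) (Fin 2) F).trace (g : Matrix (Fin 2) (Fin 2) F).det)
      (by rw [compMat_det]; exact gl2_det_ne_zero g) := by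
    rw [mul_assoc, inv_mul_eq_iff_eq_mul]
    apply Units.ext
    exact hP
  have hQ' : h * Q = Q * Matrix.GeneralLinearGroup.mkOfDetNeZero
      (compMat (g : Matrix (Fin 2) (Fin 2) F).trace (g : Matrix (Fin 2) (Fin 2) F).det)
      (by rw [compMat_det]; exact gl2_det_ne_zero g) := by
    apply Units.ext
    exact hQ
  have : Q * P⁻¹ * g = h * (Q * P⁻¹) := by
    calc Q * P⁻¹ * g = Q * (P⁻¹ * g * P) * P⁻¹ := by group
      _ = (h * Q) * P⁻¹ := by rw [hP', ← hQ']
      _ = h * (Q * P⁻¹) := by group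
  exact congrArg (fun x : GL (Fin 2) F => (x : Matrix (Fin 2) (Fin 2) F)) this

/-- being scalar is invariant under conjugation -/
theorem isScalar2_conj (M P Pinv : Matrix (Fin 2) (Fin 2) F) (hP : P * Pinv = 1)
    (hM : IsScalar2 M) : P * M * Pinv = M := by
  rw [isScalar2_iff] at hM
  have : M = (M 0 0) • (1 : Matrix (Fin 2) (Fin 2) F) := by
    rw [Matrix.one_fin_two, Matrix.smul_of]
    simp only [Matrix.smul_cons, Matrix.smul_empty, smul_eq_mul, mul_one, mul_zero]
    exact hM
  rw [this, Matrix.mul_smul, Matrix.mul_one, Matrix.smul_mul, hP]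

end

end Cfsg.Agent.Lib.helper14
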