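import Mathlib
import Cfsg.Agent.Lib.helper14.Mat2

set_option autoImplicit false
set_option linter.unusedSectionVars false

namespace Cfsg.Agent.Lib.helper14

section general

theorem card_centralizer_conj {G : Type*} [Group G] (g u : G) :
    Nat.card (Subgroup.centralizer ({g * u * g⁻¹} : Set G)) = Nat.card (Subgroup.centralizer ({u} : Set G)) := by
  refine Nat.card_congr
    { toFun := fun c => ⟨g⁻¹ * c.1 * g, ?_⟩
      invFun := fun c => ⟨g * c.1 * g⁻¹, ?_⟩
      left_inv := fun c => by apply Subtype.ext; simp [mul_assoc]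
      right_inv := fun c => by apply Subtype.ext; simp [mul_assoc] }
  · have hc := Subgroup.mem_centralizer_singleton_iff.mp c.2
    rw [Subgroup.mem_centralizer_singleton_iff]
    have e1 : g⁻¹ * c.1 * g * u = g⁻¹ * (c.1 * (g * u * g⁻¹)) * g := by group
    have e2 : u * (g⁻¹ * c.1 * g) = g⁻¹ * ((g * u * g⁻¹) * c.1) * g := by group
    rw [e1, e2, hc]
  · have hc := Subgroup.mem_centralizer_singleton_iff.mp c.2
    rw [Subgroup.mem_centralizer_singleton_iff]
    have e1 : g * c.1 * g⁻¹ * (g * u * g⁻¹) = g * (c.1 * u) * g⁻¹ := by group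
    have e2 : g * u * g⁻¹ * (g * c.1 * g⁻¹) = g * (u * c.1) * g⁻¹ := by group
    rw [e1, e2, hc]

/-- every Sylow subgroup is a conjugate of a given one, in membership form -/
theorem sylow_conj_mem {G : Type*} [Group G] [Finite G] {p : ℕ} [Fact p.Prime] (P0 P : Sylow p G) :
    ∃ g : G, ∀ a : G, a ∈ P ↔ g⁻¹ * a * g ∈ P0 := by
  obtain ⟨g, hg⟩ := MulAction.exists_smul_eq G P0 P
  refine ⟨g, fun a => ?_⟩
  have : a ∈ P ↔ a ∈ (P : Subgroup G) := Iff.rfl
  rw [this, ← hg, Sylow.coe_subgroup_smul, Subgroup.mem_pointwise_smul_iff_inv_smul_mem]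
  have : (MulAut.conj g)⁻¹ • a = g⁻¹ * a * g := by
    rw [← map_inv]; simp [MulAut.smul_def]
  rw [this]
  rfl

end general

section
variable {F : Type*} [Field F]

local notation "G2" => GL (Fin 2) F
local notation "M2" => Matrix (Fin 2) (Fin 2) F

theorem gl2_coe_mul (a b : G2) : ((a * b : G2) : M2) = (a : M2) * (b : M2) := rfl

theorem gl2_coe_one : ((1 : G2) : M2) = 1 := rfl

theorem gl2_det (x : G2) : (x : M2) 0 0 * (x : M2) 1 1 - (x : M2) 0 1 * (x : M2) 1 0 ≠ 0 := by
  have := ((Matrix.isUnit_iff_isUnit_det _).mp (Units.isUnit x)).ne_zero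
  rwa [Matrix.det_fin_two] at this

/-- the upper unitriangular element of `GL₂` -/
def uG (x : F) : G2 :=
  ⟨!![1, x; 0, 1], !![1, -x; 0, 1], by
    rw [Matrix.mul_fin_two, Matrix.one_fin_two]; apply m2_congr <;> ring, by
    rw [Matrix.mul_fin_two, Matrix.one_fin_two]; apply m2_congr <;> ring⟩

theorem uG_coe (x : F) : ((uG x : G2) : M2) = !![1, x; 0, 1] := rfl

theorem uG_mul (x y : F) : uG x * uG y = uG (x + y) := by
  apply Units.ext
  rw [gl2_coe_mul, uG_coe, uG_coe, uG_coe, Matrix.mul_fin_two]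
  apply m2_congr <;> ring

theorem uG_zero : uG (0 : F) = 1 := by
  apply Units.ext
  rw [uG_coe, gl2_coe_one, Matrix.one_fin_two]

theorem uG_injective : Function.Injective (uG (F := F)) := by
  intro x y h
  have := congrArg (fun g : G2 => (g : M2) 0 1) h
  simpa [uG_coe] using this

def uGHom : Multiplicative F →* G2 where
  toFun x := uG (Multiplicative.toAdd x)
  map_one' := uG_zero
  map_mul' x y := (uG_mul _ _).symm

variable (F) in
def UG : Subgroup G2 := (uGHom (F := F)).range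

theorem mem_UG (g : G2) : g ∈ UG F ↔ ∃ x : F, uG x = g := by
  constructor
  · rintro ⟨x, rfl⟩
    exact ⟨Multiplicative.toAdd x, rfl⟩
  · rintro ⟨x, rfl⟩
    exact ⟨Multiplicative.ofAdd x, rfl⟩

theorem mem_UG_iff (g : G2) : g ∈ UG F ↔ (g : M2) 0 0 = 1 ∧ (g : M2) 1 0 = 0 ∧ (g : M2) 1 1 = 1 := by
  rw [mem_UG]
  constructor
  · rintro ⟨x, rfl⟩
    rw [uG_coe]
    simp
  · rintro ⟨h1, h2, h3⟩
    refine ⟨(g : M2) 0 1, ?_⟩
    apply Units.ext
    rw [uG_coe]
    nth_rewrite 2 [Matrix.eta_fin_two (g : M2)]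
    rw [h1, h2, h3]

theorem uG_mem (x : F) : uG x ∈ UG F := (mem_UG _).mpr ⟨x, rfl⟩

theorem card_UG [Fintype F] : Nat.card (UG F) = Fintype.card F := by
  have hinj : Function.Injective (uGHom (F := F)) := by
    intro x y h
    have h' : uG (Multiplicative.toAdd x) = uG (Multiplicative.toAdd y) := h
    exact Multiplicative.toAdd.injective (uG_injective h')
  show Nat.card (uGHom (F := F)).range = _
  rw [← Nat.card_congr (MonoidHom.ofInjective hinj).toEquiv, Nat.card_eq_fintype_card,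
    Fintype.card_multiplicative]

variable (F) in
def BG : Subgroup G2 where
  carrier := {g | (g : M2) 1 0 = 0}
  one_mem' := by simp
  mul_mem' := by
    intro a b ha hb
    simp only [Set.mem_setOf_eq] at ha hb ⊢
    rw [gl2_coe_mul, Matrix.mul_apply, Fin.sum_univ_two, ha, hb]
    ring
  inv_mem' := by
    intro a ha
    simp only [Set.mem_setOf_eq] at ha ⊢
    have h1 : ((a⁻¹ * a : G2) : M2) 1 0 = 0 := by rw [inv_mul_cancel]; simp
    rw [gl2_coe_mul, Matrix.mul_apply, Fin.sum_univ_two, ha, mul_zero, add_zero] at h1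
    have hd := gl2_det a
    rw [ha, mul_zero, sub_zero] at hd
    rcases mul_eq_zero.mp h1 with h | h
    · exact h
    · exfalso; apply hd; rw [h, zero_mul]

theorem mem_BG (g : G2) : g ∈ BG F ↔ (g : M2) 1 0 = 0 := Iff.rfl

/-- key lemma: an element conjugating a nontrivial unitriangular element into `U` is triangular -/
theorem mem_BG_of_conj (g : G2) (x : F) (hx : x ≠ 0) (h : g⁻¹ * uG x * g ∈ UG F) : g ∈ BG F := by
  obtain ⟨y, hy⟩ := (mem_UG _).mp h
  have h1 : uG x * g = g * uG y := by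
    rw [hy]; group
  have h2 := congrArg (fun k : G2 => (k : M2) 0 0) h1
  simp only [gl2_coe_mul, uG_coe] at h2
  rw [Matrix.eta_fin_two (g : M2), Matrix.mul_fin_two, Matrix.mul_fin_two] at h2
  simp only [Matrix.of_apply, Matrix.cons_val_zero, Matrix.cons_val_one] at h2
  rw [mem_BG]
  have h3 : x * (g : M2) 1 0 = 0 := by linear_combination h2
  rcases mul_eq_zero.mp h3 with h' | h'
  · exact absurd h' hx
  · exact h'

theorem conj_uG_of_mem_BG (g : G2) (hg : g ∈ BG F) (x : F) :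
    g * uG x * g⁻¹ = uG ((g : M2) 0 0 * x / (g : M2) 1 1) := by
  rw [mem_BG] at hg
  have hd := gl2_det g
  rw [hg, mul_zero, sub_zero] at hd
  have hd1 : (g : M2) 1 1 ≠ 0 := right_ne_zero_of_mul hd
  rw [mul_inv_eq_iff_eq_mul]
  apply Units.ext
  rw [gl2_coe_mul, gl2_coe_mul, uG_coe, uG_coe]
  obtain ⟨a, ha⟩ : ∃ a, (g : M2) 0 0 = a := ⟨_, rfl⟩
  obtain ⟨b, hb⟩ : ∃ b, (g : M2) 0 1 = b := ⟨_, rfl⟩
  obtain ⟨d, hd'⟩ : ∃ d, (g : M2) 1 1 = d := ⟨_, rfl⟩
  have hgeta : (g : M2) = !![a, b; 0, d] := by rw [Matrix.eta_fin_two (g : M2), ha, hb, hg, hd']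
  rw [hd'] at hd1
  rw [ha, hd']
  rw [hgeta, Matrix.mul_fin_two, Matrix.mul_fin_two]
  apply m2_congr
  · ring
  · field_simp
    ring
  · ring
  · ring

theorem conj_mem_UG_of_mem_BG (g : G2) (hg : g ∈ BG F) (m : G2) (hm : m ∈ UG F) : g * m * g⁻¹ ∈ UG F := by
  obtain ⟨x, rfl⟩ := (mem_UG _).mp hm
  rw [conj_uG_of_mem_BG g hg]
  exact uG_mem _

theorem conj_mem_UG_iff (g : G2) (hg : g ∈ BG F) (m : G2) : g * m * g⁻¹ ∈ UG F ↔ m ∈ UG F := by
  constructor
  · intro h
    have := conj_mem_UG_of_mem_BG g⁻¹ ((BG F).inv_mem hg) _ h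
    have e : g⁻¹ * (g * m * g⁻¹) * g⁻¹⁻¹ = m := by group
    rwa [e] at this
  · exact conj_mem_UG_of_mem_BG g hg m

theorem normalizer_UG (hF : ∃ x : F, x ≠ 0) : Subgroup.normalizer ((UG F : Subgroup G2) : Set G2) = BG F := by
  ext g
  constructor
  · intro hg
    obtain ⟨x, hx⟩ := hF
    rw [Subgroup.mem_set_normalizer_iff''] at hg
    exact mem_BG_of_conj g x hx ((hg (uG x)).mp (uG_mem x))
  · intro hg
    rw [Subgroup.mem_set_normalizer_iff]
    intro m
    exact (conj_mem_UG_iff g hg m).symm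

/-- the Borel subgroup is `Fˣ × Fˣ × F` as a set -/
noncomputable def BGEquiv : BG F ≃ Fˣ × Fˣ × F where
  toFun g :=
    have hd : (g.1 : M2) 0 0 * (g.1 : M2) 1 1 ≠ 0 := by
      have hd := gl2_det g.1
      rwa [(mem_BG _).mp g.2, mul_zero, sub_zero] at hd
    (Units.mk0 _ (left_ne_zero_of_mul hd), Units.mk0 _ (right_ne_zero_of_mul hd), (g.1 : M2) 0 1)
  invFun t := ⟨Matrix.GeneralLinearGroup.mkOfDetNeZero !![(t.1 : F), t.2.2; 0, (t.2.1 : F)] (by
      rw [Matrix.det_fin_two_of, mul_zero, sub_zero]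
      exact mul_ne_zero t.1.ne_zero t.2.1.ne_zero), by
      rw [mem_BG]
      show (!![(t.1 : F), t.2.2; 0, (t.2.1 : F)] : M2) 1 0 = 0
      simp⟩
  left_inv g := by
    apply Subtype.ext
    apply Units.ext
    show (!![(g.1 : M2) 0 0, (g.1 : M2) 0 1; 0, (g.1 : M2) 1 1] : M2) = (g.1 : M2)
    nth_rewrite 4 [Matrix.eta_fin_two (g.1 : M2)]
    rw [(mem_BG _).mp g.2]
  right_inv t := by
    obtain ⟨a, d, b⟩ := t
    refine Prod.ext ?_ (Prod.ext ?_ ?_)
    · apply Units.ext
      show (!![(a : F), b; 0, (d : F)] : M2) 0 0 = a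
      simp
    · apply Units.ext
      show (!![(a : F), b; 0, (d : F)] : M2) 1 1 = d
      simp
    · show (!![(a : F), b; 0, (d : F)] : M2) 0 1 = b
      simp

theorem card_BG [Fintype F] : Nat.card (BG F) = Fintype.card F * (Fintype.card F - 1) ^ 2 := by
  classical
  rw [Nat.card_congr BGEquiv, Nat.card_eq_fintype_card, Fintype.card_prod, Fintype.card_prod,
    Fintype.card_units]
  ring

theorem card_GL2 [Fintype F] :
    Nat.card G2 = Fintype.card F * (Fintype.card F - 1) ^ 2 * (Fintype.card F + 1) := by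
  classical
  rw [Matrix.card_GL_field, Fin.prod_univ_two]
  simp only [Fin.val_zero, Fin.val_one, pow_zero, pow_one]
  have hq : 1 < Fintype.card F := Fintype.one_lt_card
  obtain ⟨k, hk⟩ : ∃ k, Fintype.card F = k + 1 := ⟨Fintype.card F - 1, by omega⟩
  rw [hk]
  have e1 : (k + 1) ^ 2 - 1 = k * (k + 2) := by
    have : (k + 1) ^ 2 = k * (k + 2) + 1 := by ring
    rw [this]; omega
  have e2 : (k + 1) ^ 2 - (k + 1) = (k + 1) * k := by
    have : (k + 1) ^ 2 = (k + 1) * k + (k + 1) := by ring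
    rw [this]; omega
  rw [e1, e2]
  have : k + 1 - 1 = k := by omega
  rw [this]
  ring

theorem mem_centralizer_uG (x : F) (hx : x ≠ 0) (k : G2) :
    k ∈ Subgroup.centralizer ({uG x} : Set G2) ↔ (k : M2) 1 0 = 0 ∧ (k : M2) 0 0 = (k : M2) 1 1 := by
  rw [Subgroup.mem_centralizer_singleton_iff]
  obtain ⟨a, ha⟩ : ∃ a, (k : M2) 0 0 = a := ⟨_, rfl⟩
  obtain ⟨b, hb⟩ : ∃ b, (k : M2) 0 1 = b := ⟨_, rfl⟩
  obtain ⟨c, hc⟩ : ∃ c, (k : M2) 1 0 = c := ⟨_, rfl⟩
  obtain ⟨d, hd⟩ : ∃ d, (k : M2) 1 1 = d := ⟨_, rfl⟩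
  have hketa : (k : M2) = !![a, b; c, d] := by rw [Matrix.eta_fin_two (k : M2), ha, hb, hc, hd]
  have hiff : k * uG x = uG x * k ↔ (k : M2) * !![1, x; 0, 1] = !![1, x; 0, 1] * (k : M2) :=
    ⟨fun h => congrArg Units.val h, fun h => Units.ext h⟩
  rw [hiff, hc, ha, hd, hketa, Matrix.mul_fin_two, Matrix.mul_fin_two, m2_eq_iff]
  constructor
  · rintro ⟨e1, e2, -, -⟩
    have hc0 : c = 0 := by
      have : x * c = 0 := by linear_combination -e1
      rcases mul_eq_zero.mp this with h' | h'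
      · exact absurd h' hx
      · exact h'
    refine ⟨hc0, ?_⟩
    have : x * (a - d) = 0 := by linear_combination e2
    rcases mul_eq_zero.mp this with h' | h'
    · exact absurd h' hx
    · exact sub_eq_zero.mp h'
  · rintro ⟨hc0, had⟩
    rw [hc0, had]
    refine ⟨by ring, by ring, by ring, by ring⟩

noncomputable def centUGEquiv (x : F) (hx : x ≠ 0) : Subgroup.centralizer ({uG x} : Set G2) ≃ Fˣ × F where
  toFun k :=
    have hk := (mem_centralizer_uG x hx k.1).mp k.2
    have hd : (k.1 : M2) 0 0 ≠ 0 := by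
      have hd := gl2_det k.1
      rw [hk.1, mul_zero, sub_zero] at hd
      exact left_ne_zero_of_mul hd
    (Units.mk0 _ hd, (k.1 : M2) 0 1)
  invFun t := ⟨Matrix.GeneralLinearGroup.mkOfDetNeZero !![(t.1 : F), t.2; 0, (t.1 : F)] (by
      rw [Matrix.det_fin_two_of, mul_zero, sub_zero]
      exact mul_ne_zero t.1.ne_zero t.1.ne_zero), by
      rw [mem_centralizer_uG x hx]
      show (!![(t.1 : F), t.2; 0, (t.1 : F)] : M2) 1 0 = 0 ∧
        (!![(t.1 : F), t.2; 0, (t.1 : F)] : M2) 0 0 = (!![(t.1 : F), t.2; 0, (t.1 : F)] : M2) 1 1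
      simp⟩
  left_inv k := by
    have hk := (mem_centralizer_uG x hx k.1).mp k.2
    apply Subtype.ext
    apply Units.ext
    show (!![(k.1 : M2) 0 0, (k.1 : M2) 0 1; 0, (k.1 : M2) 0 0] : M2) = (k.1 : M2)
    nth_rewrite 4 [Matrix.eta_fin_two (k.1 : M2)]
    rw [hk.1, ← hk.2]
  right_inv t := by
    obtain ⟨a, b⟩ := t
    refine Prod.ext ?_ ?_
    · apply Units.ext
      show (!![(a : F), b; 0, (a : F)] : M2) 0 0 = a
      simp
    · show (!![(a : F), b; 0, (a : F)] : M2) 0 1 = b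
      simp

theorem card_centralizer_uG [Fintype F] (x : F) (hx : x ≠ 0) :
    Nat.card (Subgroup.centralizer ({uG x} : Set G2)) = Fintype.card F * (Fintype.card F - 1) := by
  classical
  rw [Nat.card_congr (centUGEquiv x hx), Nat.card_eq_fintype_card, Fintype.card_prod, Fintype.card_units]
  ring

variable (p : ℕ) [Fact p.Prime] [CharP F p]

theorem not_dvd_index_UG [Fintype F] : ¬ p ∣ (UG F).index := by
  obtain ⟨n, hp, hq⟩ := FiniteField.card F p
  have hpq : p ∣ Fintype.card F := by rw [hq]; exact dvd_pow_self p n.ne_zero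
  have hqpos : 0 < Fintype.card F := Fintype.card_pos
  have h1 := Subgroup.card_mul_index (UG F)
  rw [card_UG, card_GL2, mul_assoc] at h1
  have h2 := Nat.eq_of_mul_eq_mul_left hqpos h1
  rw [h2]
  intro hdiv
  have hq1 : 1 < Fintype.card F := Fintype.one_lt_card
  rcases (Nat.Prime.dvd_mul hp).mp hdiv with h8 | h8
  · have h9 := hp.dvd_of_dvd_pow h8
    have h10 := Nat.dvd_sub hpq h9
    have : Fintype.card F - (Fintype.card F - 1) = 1 := by omega
    rw [this] at h10
    exact hp.one_lt.ne' (Nat.dvd_one.mp h10)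
  · have h10 := Nat.dvd_sub h8 hpq
    have : Fintype.card F + 1 - Fintype.card F = 1 := by omega
    rw [this] at h10
    exact hp.one_lt.ne' (Nat.dvd_one.mp h10)

theorem isPGroup_UG [Fintype F] : IsPGroup p (UG F) := by
  obtain ⟨n, hp, hq⟩ := FiniteField.card F p
  exact IsPGroup.of_card (card_UG.trans hq)

/-- the unitriangular subgroup as a Sylow subgroup -/
noncomputable def UGSylow [Fintype F] : Sylow p G2 := (isPGroup_UG p).toSylow (not_dvd_index_UG p)

theorem UGSylow_coe [Fintype F] : ((UGSylow p : Sylow p G2) : Subgroup G2) = UG F := rfl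

theorem mem_UGSylow [Fintype F] (g : G2) : g ∈ UGSylow (F := F) p ↔ g ∈ UG F := Iff.rfl

theorem exists_ne_zero' : ∃ x : F, x ≠ 0 := ⟨1, one_ne_zero⟩

theorem card_sylow_GL2 [Fintype F] : Nat.card (Sylow p G2) = Fintype.card F + 1 := by
  rw [Sylow.card_eq_index_normalizer (UGSylow p)]
  have hN : Subgroup.normalizer ((UGSylow (F := F) p : Sylow p G2) : Set G2) = BG F :=
    normalizer_UG exists_ne_zero'
  rw [hN]
  have h1 := Subgroup.card_mul_index (BG F)
  rw [card_BG, card_GL2] at h1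
  have hq1 : 1 < Fintype.card F := Fintype.one_lt_card
  have hpos : 0 < Fintype.card F * (Fintype.card F - 1) ^ 2 := by
    apply Nat.mul_pos (by omega)
    apply Nat.pow_pos
    omega
  exact Nat.eq_of_mul_eq_mul_left hpos h1

end

end Cfsg.Agent.Lib.helper14
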