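import Mathlib
import Cfsg.Agent.Lib.helper14.Mat2

set_option autoImplicit false
set_option linter.unusedSectionVars false

namespace Cfsg.Agent.Lib.helper14

section
variable {F : Type*} [Field F]

local notation "SL2" => Matrix.SpecialLinearGroup (Fin 2) F
local notation "M2" => Matrix (Fin 2) (Fin 2) F

theorem sl2_coe_mul (a b : SL2) : ((a * b : SL2) : M2) = (a : M2) * (b : M2) := rfl

theorem sl2_coe_one : ((1 : SL2) : M2) = 1 := rfl

theorem sl2_det (g : SL2) : (g : M2) 0 0 * (g : M2) 1 1 - (g : M2) 0 1 * (g : M2) 1 0 = 1 := by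
  have := g.2
  rwa [Matrix.det_fin_two] at this

/-- `g * P = P * h` gives conjugacy in `SL₂` -/
theorem sl2_isConj_of_mul_eq (g h P : SL2) (hP : (g : M2) * (P : M2) = (P : M2) * (h : M2)) : IsConj h g := by
  rw [isConj_iff]
  refine ⟨P, ?_⟩
  rw [mul_inv_eq_iff_eq_mul]
  apply Subtype.ext
  exact hP.symm

/-- the upper triangular element with diagonal `ε` (`ε² = 1`) and corner `β` -/
def Umat (ε β : F) (h : ε * ε = 1) : SL2 :=
  ⟨!![ε, β; 0, ε], by rw [Matrix.det_fin_two_of]; linear_combination h⟩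

theorem Umat_coe (ε β : F) (h : ε * ε = 1) : ((Umat ε β h : SL2) : M2) = !![ε, β; 0, ε] := rfl

theorem Umat_add_zero (ε β : F) (h : ε * ε = 1) : Umat ε (β + 0) h = Umat ε β h := by
  simp only [add_zero]

theorem Umat_conj_of_isSquare (ε β β' : F) (h : ε * ε = 1) (hβ : β ≠ 0) (hβ' : β' ≠ 0)
    (hsq : IsSquare (β * β')) : IsConj (Umat ε β h) (Umat ε β' h) := by
  obtain ⟨s, hs⟩ := hsq
  have hs0 : s ≠ 0 := by
    intro h0
    rw [h0, mul_zero] at hs
    exact (mul_ne_zero hβ hβ') hs
  set p := s / β with hp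
  have hp0 : p ≠ 0 := div_ne_zero hs0 hβ
  have hpp : p * p * β = β' := by
    rw [hp]
    field_simp
    linear_combination (-1 : F) * hs
  let P : SL2 := ⟨!![p, 0; 0, p⁻¹], by
    rw [Matrix.det_fin_two_of, mul_inv_cancel₀ hp0]
    ring⟩
  apply sl2_isConj_of_mul_eq (Umat ε β' h) (Umat ε β h) P
  show (!![ε, β'; 0, ε] : M2) * !![p, 0; 0, p⁻¹] = !![p, 0; 0, p⁻¹] * !![ε, β; 0, ε]
  rw [Matrix.mul_fin_two, Matrix.mul_fin_two]
  have hβp : β' * p⁻¹ = p * β := by
    rw [← hpp, mul_assoc p p β, mul_comm p (p * β), mul_assoc, mul_inv_cancel₀ hp0, mul_one]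
  apply m2_congr
  · ring
  · linear_combination hβp
  · ring
  · ring

theorem isSquare_of_Umat_conj (ε β β' : F) (h : ε * ε = 1) (hβ : β ≠ 0) (hβ' : β' ≠ 0)
    (hc : IsConj (Umat ε β h) (Umat ε β' h)) : IsSquare (β * β') := by
  obtain ⟨P, hP⟩ := isConj_iff.mp hc
  rw [mul_inv_eq_iff_eq_mul] at hP
  have hP' : (P : M2) * !![ε, β; 0, ε] = !![ε, β'; 0, ε] * (P : M2) := congrArg Subtype.val hP
  have hd := sl2_det P
  set p := (P : M2) 0 0
  set q := (P : M2) 0 1
  set r := (P : M2) 1 0
  set s := (P : M2) 1 1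
  have hPeta : (P : M2) = !![p, q; r, s] := Matrix.eta_fin_two _
  rw [hPeta, Matrix.mul_fin_two, Matrix.mul_fin_two, m2_eq_iff] at hP'
  obtain ⟨e1, e2, -, -⟩ := hP'
  have hr : r = 0 := by
    have : β' * r = 0 := by linear_combination -e1
    rcases mul_eq_zero.mp this with h' | h'
    · exact absurd h' hβ'
    · exact h'
  rw [hr] at hd
  have hps : p * s = 1 := by linear_combination hd
  refine ⟨p * β, ?_⟩
  have e2' : p * β = β' * s := by linear_combination e2
  calc β * β' = β * β' * (p * s) := by rw [hps, mul_one]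
    _ = p * β * (β' * s) := by ring
    _ = p * β * (p * β) := by rw [← e2']

/-- the corner invariant of a parabolic element -/
noncomputable def betaOf (g : SL2) : F :=
  open Classical in if (g : M2) 1 0 ≠ 0 then -((g : M2) 1 0) else (g : M2) 0 1

theorem parabolic_conj (g : SL2) (ε : F) (h : ε * ε = 1) (hns : ¬ IsScalar2 (g : M2))
    (htr : (g : M2).trace = 2 * ε) : betaOf g ≠ 0 ∧ IsConj (Umat ε (betaOf g) h) g := by
  have hd := sl2_det g
  rw [Matrix.trace_fin_two] at htr
  set a := (g : M2) 0 0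
  set b := (g : M2) 0 1
  set c := (g : M2) 1 0
  set d := (g : M2) 1 1
  have hgeta : (g : M2) = !![a, b; c, d] := Matrix.eta_fin_two _
  have hsq : (a - ε) * (a - ε) = -(b * c) := by
    linear_combination (-1 : F) * hd + a * htr + h
  by_cases hc : c = 0
  · have hβ : betaOf g = b := by
      unfold betaOf
      rw [if_neg (by simpa using hc)]
    have ha : a = ε := by
      rw [hc, mul_zero, neg_zero] at hsq
      exact sub_eq_zero.mp (mul_self_eq_zero.mp hsq)
    have hd' : d = ε := by linear_combination htr - ha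
    have hb : b ≠ 0 := by
      intro hb
      exact hns ⟨hb, hc, by rw [show (g : M2) 0 0 = a from rfl, show (g : M2) 1 1 = d from rfl, ha, hd']⟩
    rw [hβ]
    refine ⟨hb, ?_⟩
    have : Umat ε b h = g := by
      apply Subtype.ext
      rw [Umat_coe, hgeta, hc, ha, hd']
    rw [this]
  · have hβ : betaOf g = -c := by
      unfold betaOf
      rw [if_pos (by simpa using hc)]
    rw [hβ]
    refine ⟨neg_ne_zero.mpr hc, ?_⟩
    obtain ⟨x, hx⟩ : ∃ x : F, c * x = ε - a := ⟨(ε - a) / c, mul_div_cancel₀ _ hc⟩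
    let P : SL2 := ⟨!![x, 1; -1, 0], by rw [Matrix.det_fin_two_of]; ring⟩
    apply sl2_isConj_of_mul_eq g (Umat ε (-c) h) P
    show (g : M2) * !![x, 1; -1, 0] = !![x, 1; -1, 0] * !![ε, -c; 0, ε]
    rw [hgeta, Matrix.mul_fin_two, Matrix.mul_fin_two]
    apply m2_congr
    · apply mul_left_cancel₀ hc
      linear_combination (a - ε) * hx - hsq
    · linear_combination hx
    · linear_combination hx - htr
    · ring

/-- the companion element of trace `t` in `SL₂` -/
def CmatSL (t : F) : SL2 := ⟨compMat t 1, compMat_det t 1⟩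

theorem CmatSL_coe (t : F) : ((CmatSL t : SL2) : M2) = compMat t 1 := rfl

/-- a binary form `x² + txy + y²` with `t² ≠ 4` over a finite field of odd order is universal -/
theorem norm_form_universal [Fintype F] (hodd : Fintype.card F % 2 = 1) (h2 : (2 : F) ≠ 0) (t : F)
    (ht : t * t ≠ 4) (δ : F) : ∃ x y : F, x * x + t * x * y + y * y = δ := by
  set κ : F := 1 - t * t / 4 with hκ
  have h4 : (4 : F) ≠ 0 := by
    have : (4 : F) = 2 * 2 := by norm_num
    rw [this]; exact mul_ne_zero h2 h2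
  have hκ0 : κ ≠ 0 := by
    intro h0
    apply ht
    have : t * t / 4 = 1 := by linear_combination (-1 : F) * h0
    field_simp at this
    linear_combination this
  have hf2 : (Polynomial.X ^ 2 - Polynomial.C δ : Polynomial F).degree = 2 :=
    Polynomial.degree_X_pow_sub_C (by norm_num) δ
  have hg2 : (Polynomial.C κ * Polynomial.X ^ 2 : Polynomial F).degree = 2 := by
    rw [Polynomial.degree_C_mul hκ0, Polynomial.degree_X_pow]
    rfl
  obtain ⟨a, b, hab⟩ := FiniteField.exists_root_sum_quadratic hf2 hg2 hodd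
  simp only [Polynomial.eval_sub, Polynomial.eval_pow, Polynomial.eval_X, Polynomial.eval_C,
    Polynomial.eval_mul] at hab
  refine ⟨a - t / 2 * b, b, ?_⟩
  have h2' : (2 : F) * 2 = 4 := by norm_num
  rw [hκ] at hab
  field_simp at hab ⊢
  linear_combination hab

theorem regular_conj [Fintype F] (hodd : Fintype.card F % 2 = 1) (h2 : (2 : F) ≠ 0) (g : SL2)
    (hns : ¬ IsScalar2 (g : M2)) (ht : (g : M2).trace * (g : M2).trace ≠ 4) :
    IsConj (CmatSL (g : M2).trace) g := by
  obtain ⟨P, hP, hc⟩ := exists_conj_compMat (g : M2) hns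
  have hd : (g : M2).det = 1 := g.2
  rw [hd] at hc
  set t := (g : M2).trace with htdef
  obtain ⟨x, y, hxy⟩ := norm_form_universal hodd h2 t ht (P.det⁻¹)
  let Z : M2 := !![x, -y; y, x + t * y]
  have hZdet : Z.det = P.det⁻¹ := by
    show (!![x, -y; y, x + t * y] : M2).det = _
    rw [Matrix.det_fin_two_of]
    linear_combination hxy
  have hZC : compMat t 1 * Z = Z * compMat t 1 := by
    show (!![0, -1; 1, t] : M2) * !![x, -y; y, x + t * y] = !![x, -y; y, x + t * y] * !![0, -1; 1, t]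
    rw [Matrix.mul_fin_two, Matrix.mul_fin_two]
    apply m2_congr <;> ring
  let Q : SL2 := ⟨P * Z, by rw [Matrix.det_mul, hZdet, mul_inv_cancel₀ hP]⟩
  apply sl2_isConj_of_mul_eq g (CmatSL t) Q
  show (g : M2) * (P * Z) = (P * Z) * compMat t 1
  rw [← Matrix.mul_assoc, hc, Matrix.mul_assoc, hZC, Matrix.mul_assoc]

theorem scalar_sl2 (g : SL2) (h : IsScalar2 (g : M2)) : g = 1 ∨ g = -1 := by
  have hd := sl2_det g
  rw [h.1, h.2.1, ← h.2.2] at hd
  have hsq : ((g : M2) 0 0 - 1) * ((g : M2) 0 0 + 1) = 0 := by linear_combination hd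
  have hg := (isScalar2_iff _).mp h
  rcases mul_eq_zero.mp hsq with h1 | h1
  · left
    have h00 : (g : M2) 0 0 = 1 := sub_eq_zero.mp h1
    apply Subtype.ext
    rw [hg, h00, sl2_coe_one, Matrix.one_fin_two]
  · right
    have h00 : (g : M2) 0 0 = -1 := eq_neg_of_add_eq_zero_left h1
    apply Subtype.ext
    rw [hg, h00, Matrix.SpecialLinearGroup.coe_neg, sl2_coe_one, Matrix.one_fin_two]
    ext i j
    fin_cases i <;> fin_cases j <;> simp

end

end Cfsg.Agent.Lib.helper14
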