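import Mathlib
import Cfsg.Agent.Lib.helper14.Mat2
import Cfsg.Agent.Lib.helper14.SL2Odd
import Cfsg.Agent.Lib.helper14.SL2Card
import Cfsg.Agent.Lib.helper14.GL2Sylow

set_option autoImplicit false
set_option linter.unusedSectionVars false

namespace Cfsg.Agent.Lib.helper14

section
variable {F : Type*} [Field F]

local notation "SL2" => Matrix.SpecialLinearGroup (Fin 2) F
local notation "M2" => Matrix (Fin 2) (Fin 2) F

def uS (x : F) : SL2 := ⟨!![1, x; 0, 1], by rw [Matrix.det_fin_two_of]; ring⟩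

def lS (x : F) : SL2 := ⟨!![1, 0; x, 1], by rw [Matrix.det_fin_two_of]; ring⟩

theorem uS_coe (x : F) : ((uS x : SL2) : M2) = !![1, x; 0, 1] := rfl

theorem lS_coe (x : F) : ((lS x : SL2) : M2) = !![1, 0; x, 1] := rfl

theorem uS_mul (x y : F) : uS x * uS y = uS (x + y) := by
  apply Subtype.ext
  rw [sl2_coe_mul, uS_coe, uS_coe, uS_coe, Matrix.mul_fin_two]
  apply m2_congr <;> ring

theorem lS_mul (x y : F) : lS x * lS y = lS (x + y) := by
  apply Subtype.ext
  rw [sl2_coe_mul, lS_coe, lS_coe, lS_coe, Matrix.mul_fin_two]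
  apply m2_congr <;> ring

theorem uS_zero : uS (0 : F) = 1 := by
  apply Subtype.ext
  rw [uS_coe, sl2_coe_one, Matrix.one_fin_two]

theorem lS_zero : lS (0 : F) = 1 := by
  apply Subtype.ext
  rw [lS_coe, sl2_coe_one, Matrix.one_fin_two]

theorem uS_injective : Function.Injective (uS (F := F)) := by
  intro x y h
  have := congrArg (fun g : SL2 => (g : M2) 0 1) h
  simpa [uS_coe] using this

def uSHom : Multiplicative F →* SL2 where
  toFun x := uS (Multiplicative.toAdd x)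
  map_one' := uS_zero
  map_mul' x y := (uS_mul _ _).symm

variable (F) in
def US : Subgroup SL2 := (uSHom (F := F)).range

theorem mem_US (g : SL2) : g ∈ US F ↔ ∃ x : F, uS x = g := by
  constructor
  · rintro ⟨x, rfl⟩
    exact ⟨Multiplicative.toAdd x, rfl⟩
  · rintro ⟨x, rfl⟩
    exact ⟨Multiplicative.ofAdd x, rfl⟩

theorem uS_mem (x : F) : uS x ∈ US F := (mem_US _).mpr ⟨x, rfl⟩

theorem card_US [Fintype F] : Nat.card (US F) = Fintype.card F := by
  have hinj : Function.Injective (uSHom (F := F)) := by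
    intro x y h
    have h' : uS (Multiplicative.toAdd x) = uS (Multiplicative.toAdd y) := h
    exact Multiplicative.toAdd.injective (uS_injective h')
  show Nat.card (uSHom (F := F)).range = _
  rw [← Nat.card_congr (MonoidHom.ofInjective hinj).toEquiv, Nat.card_eq_fintype_card,
    Fintype.card_multiplicative]

variable (F) in
def BS : Subgroup SL2 where
  carrier := {g | (g : M2) 1 0 = 0}
  one_mem' := by simp
  mul_mem' := by
    intro a b ha hb
    simp only [Set.mem_setOf_eq] at ha hb ⊢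
    rw [sl2_coe_mul, Matrix.mul_apply, Fin.sum_univ_two, ha, hb]
    ring
  inv_mem' := by
    intro a ha
    simp only [Set.mem_setOf_eq] at ha ⊢
    rw [Matrix.SpecialLinearGroup.coe_inv, Matrix.adjugate_fin_two]
    simp [ha]

theorem mem_BS (g : SL2) : g ∈ BS F ↔ (g : M2) 1 0 = 0 := Iff.rfl

theorem mem_BS_of_conj_uS (g : SL2) (x : F) (hx : x ≠ 0) (h : g⁻¹ * uS x * g ∈ US F) : g ∈ BS F := by
  obtain ⟨y, hy⟩ := (mem_US _).mp h
  have h1 : uS x * g = g * uS y := by
    rw [hy]; group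
  have h2 := congrArg (fun k : SL2 => (k : M2) 0 0) h1
  simp only [sl2_coe_mul, uS_coe] at h2
  rw [Matrix.eta_fin_two (g : M2), Matrix.mul_fin_two, Matrix.mul_fin_two] at h2
  simp only [Matrix.of_apply, Matrix.cons_val_zero] at h2
  rw [mem_BS]
  have h3 : x * (g : M2) 1 0 = 0 := by linear_combination h2
  rcases mul_eq_zero.mp h3 with h' | h'
  · exact absurd h' hx
  · exact h'

theorem conj_uS_of_mem_BS (g : SL2) (hg : g ∈ BS F) (x : F) :
    g * uS x * g⁻¹ = uS ((g : M2) 0 0 * x / (g : M2) 1 1) := by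
  rw [mem_BS] at hg
  have hd := sl2_det g
  rw [hg, mul_zero, sub_zero] at hd
  have hd1 : (g : M2) 1 1 ≠ 0 := by
    intro h0
    rw [h0, mul_zero] at hd
    exact zero_ne_one hd
  rw [mul_inv_eq_iff_eq_mul]
  apply Subtype.ext
  rw [sl2_coe_mul, sl2_coe_mul, uS_coe, uS_coe]
  obtain ⟨a, ha⟩ : ∃ a, (g : M2) 0 0 = a := ⟨_, rfl⟩
  obtain ⟨b, hb⟩ : ∃ b, (g : M2) 0 1 = b := ⟨_, rfl⟩
  obtain ⟨d, hd'⟩ : ∃ d, (g : M2) 1 1 = d := ⟨_, rfl⟩
  have hgeta : (g : M2) = !![a, b; 0, d] := by rw [Matrix.eta_fin_two (g : M2), ha, hb, hg, hd']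
  rw [hd'] at hd1
  rw [ha, hd']
  rw [hgeta, Matrix.mul_fin_two, Matrix.mul_fin_two]
  apply m2_congr
  · ring
  · field_simp
    ring
  · ring
  · ring

theorem conj_mem_US_of_mem_BS (g : SL2) (hg : g ∈ BS F) (m : SL2) (hm : m ∈ US F) : g * m * g⁻¹ ∈ US F := by
  obtain ⟨x, rfl⟩ := (mem_US _).mp hm
  rw [conj_uS_of_mem_BS g hg]
  exact uS_mem _

theorem conj_mem_US_iff (g : SL2) (hg : g ∈ BS F) (m : SL2) : g * m * g⁻¹ ∈ US F ↔ m ∈ US F := by
  constructor
  · intro h
    have := conj_mem_US_of_mem_BS g⁻¹ ((BS F).inv_mem hg) _ h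
    have e : g⁻¹ * (g * m * g⁻¹) * g⁻¹⁻¹ = m := by group
    rwa [e] at this
  · exact conj_mem_US_of_mem_BS g hg m

/-- `SL₂` is generated by upper and lower unitriangular elements -/
theorem eq_top_of_uS_lS (H : Subgroup SL2) (hu : ∀ x : F, uS x ∈ H) (hl : ∀ x : F, lS x ∈ H) : H = ⊤ := by
  have key : ∀ s : SL2, (s : M2) 1 0 ≠ 0 → s ∈ H := by
    intro s hc
    have hd := sl2_det s
    obtain ⟨a, ha⟩ : ∃ a, (s : M2) 0 0 = a := ⟨_, rfl⟩
    obtain ⟨b, hb⟩ : ∃ b, (s : M2) 0 1 = b := ⟨_, rfl⟩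
    obtain ⟨c, hc'⟩ : ∃ c, (s : M2) 1 0 = c := ⟨_, rfl⟩
    obtain ⟨d, hd'⟩ : ∃ d, (s : M2) 1 1 = d := ⟨_, rfl⟩
    have hseta : (s : M2) = !![a, b; c, d] := by rw [Matrix.eta_fin_two (s : M2), ha, hb, hc', hd']
    rw [ha, hb, hc', hd'] at hd
    rw [hc'] at hc
    have : s = uS ((a - 1) / c) * lS c * uS ((d - 1) / c) := by
      apply Subtype.ext
      rw [sl2_coe_mul, sl2_coe_mul, uS_coe, lS_coe, uS_coe, hseta, Matrix.mul_fin_two, Matrix.mul_fin_two]
      apply m2_congr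
      · field_simp
        ring
      · field_simp
        linear_combination (-1 : F) * hd
      · ring
      · field_simp
        ring
    rw [this]
    exact H.mul_mem (H.mul_mem (hu _) (hl _)) (hu _)
  rw [eq_top_iff]
  intro s _
  by_cases hc : (s : M2) 1 0 = 0
  · have hd := sl2_det s
    rw [hc, mul_zero, sub_zero] at hd
    have ha : (s : M2) 0 0 ≠ 0 := by
      intro h0
      rw [h0, zero_mul] at hd
      exact zero_ne_one hd
    have h1 : lS 1 * s ∈ H := by
      apply key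
      rw [sl2_coe_mul, lS_coe, Matrix.mul_apply, Fin.sum_univ_two]
      simp [hc, ha]
    have : s = lS (-1) * (lS 1 * s) := by
      rw [← mul_assoc, lS_mul, neg_add_cancel, lS_zero, one_mul]
    rw [this]
    exact H.mul_mem (hl _) h1
  · exact key s hc

/-- a subgroup containing `U` and a conjugate of `U` by a non-triangular element is everything -/
theorem eq_top_of_US_conj (H : Subgroup SL2) (hu : ∀ x : F, uS x ∈ H) (m : SL2) (hm : (m : M2) 1 0 ≠ 0)
    (hc : ∀ x : F, m * uS x * m⁻¹ ∈ H) : H = ⊤ := by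
  apply eq_top_of_uS_lS H hu
  intro z
  have hd := sl2_det m
  obtain ⟨a, ha⟩ : ∃ a, (m : M2) 0 0 = a := ⟨_, rfl⟩
  obtain ⟨b, hb⟩ : ∃ b, (m : M2) 0 1 = b := ⟨_, rfl⟩
  obtain ⟨c, hc'⟩ : ∃ c, (m : M2) 1 0 = c := ⟨_, rfl⟩
  obtain ⟨d, hd'⟩ : ∃ d, (m : M2) 1 1 = d := ⟨_, rfl⟩
  have hmeta : (m : M2) = !![a, b; c, d] := by rw [Matrix.eta_fin_two (m : M2), ha, hb, hc', hd']
  rw [ha, hb, hc', hd'] at hd
  rw [hc'] at hm
  have hkey : lS z = uS (-a / c) * (m * uS (-z / (c * c)) * m⁻¹) * (uS (-a / c))⁻¹ := by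
    rw [eq_mul_inv_iff_mul_eq, ← mul_assoc, eq_mul_inv_iff_mul_eq]
    apply Subtype.ext
    rw [sl2_coe_mul, sl2_coe_mul, sl2_coe_mul, sl2_coe_mul, lS_coe, uS_coe, uS_coe, hmeta,
      Matrix.mul_fin_two, Matrix.mul_fin_two, Matrix.mul_fin_two, Matrix.mul_fin_two]
    apply m2_congr
    · field_simp
      ring
    · field_simp
      ring
    · field_simp
      ring
    · field_simp
      linear_combination (-(z * c)) * hd
  rw [hkey]
  exact H.mul_mem (H.mul_mem (hu _) (hc _)) (H.inv_mem (hu _))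

variable (p : ℕ) [Fact p.Prime] [CharP F p]

theorem not_dvd_index_US [Fintype F] : ¬ p ∣ (US F).index := by
  obtain ⟨n, hp, hq⟩ := FiniteField.card F p
  have hpq : p ∣ Fintype.card F := by rw [hq]; exact dvd_pow_self p n.ne_zero
  have hqpos : 0 < Fintype.card F := Fintype.card_pos
  have h1 := Subgroup.card_mul_index (US F)
  rw [card_US, card_sl2] at h1
  have h2 := Nat.eq_of_mul_eq_mul_left hqpos h1
  rw [h2]
  intro hdiv
  have h9 : p ∣ Fintype.card F ^ 2 := dvd_pow hpq (by norm_num)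
  have h10 := Nat.dvd_sub h9 hdiv
  have hq2 : 1 ≤ Fintype.card F ^ 2 := Nat.one_le_pow _ _ hqpos
  have : Fintype.card F ^ 2 - (Fintype.card F ^ 2 - 1) = 1 := by omega
  rw [this] at h10
  exact hp.one_lt.ne' (Nat.dvd_one.mp h10)

theorem isPGroup_US [Fintype F] : IsPGroup p (US F) := by
  obtain ⟨n, hp, hq⟩ := FiniteField.card F p
  exact IsPGroup.of_card (card_US.trans hq)

noncomputable def USSylow [Fintype F] : Sylow p SL2 := (isPGroup_US p).toSylow (not_dvd_index_US p)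

theorem mem_USSylow [Fintype F] (g : SL2) : g ∈ USSylow (F := F) p ↔ g ∈ US F := Iff.rfl

end

end Cfsg.Agent.Lib.helper14
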