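import Cfsg.Agent.S2305
import Cfsg.Agent.S2307
import Cfsg.Agent.S0133
import Cfsg.Agent.Lib.Helper25.CharOrth
import Cfsg.Agent.Lib.helper2.CharInt

set_option autoImplicit false
set_option linter.unusedSectionVars false
open Cfsg

namespace Cfsg.Agent.Lib.helper14

open Cfsg.Agent.Lib.helper7 Cfsg.Agent.Lib.helper2 Cfsg.Agent.Lib.Helper25 Cfsg.Agent.S2304

open scoped ComplexConjugate

section GL2Char

variable {F : Type*} [Field F] [Fintype F] [DecidableEq F]

local notation "G2" => GL (Fin 2) F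
local notation "M2" => Matrix (Fin 2) (Fin 2) F

noncomputable def glR (α β : MulChar F ℂ) : G2 → ℂ :=
  Cfsg.indFun (BorG F) (fun b => α (((b : G2) : M2) 0 0) * β (((b : G2) : M2) 1 1))

noncomputable def glLamHom (α : MulChar F ℂ) : G2 →* ℂˣ :=
  (MulChar.toUnitHom α).comp Matrix.GeneralLinearGroup.det

noncomputable def glLam (α : MulChar F ℂ) : Cfsg.IrrCharacter G2 := linIrr (glLamHom α)

theorem glLam_apply (α : MulChar F ℂ) (g : G2) : (glLam α : G2 → ℂ) g = α ((g : M2).det) := by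
  show (((glLamHom α) g : ℂˣ) : ℂ) = _
  rw [glLamHom, MonoidHom.comp_apply, MulChar.coe_toUnitHom, Matrix.GeneralLinearGroup.val_det_apply]

theorem glR_isCharacter (α β : MulChar F ℂ) : Cfsg.IsCharacter G2 (glR α β) :=
  isCharacter_indFun (BorG F) _ (isCharacter_theta α β)

theorem glR_inner_lam (α : MulChar F ℂ) :
    Cfsg.classInner (glR α α) (glLam α : G2 → ℂ) = 1 := by
  classical
  have : Fintype ↥(BorG F) := Fintype.ofFinite _
  have hcl : Cfsg.IsClassFunction G2 (glLam α : G2 → ℂ) :=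
    isCharacter_isClassFunction (isCharacter_of_irr (glLam α))
  rw [glR, h7_frobenius_reciprocity (BorG F) _ _ hcl]
  have hres : (fun h : BorG F => (glLam α : G2 → ℂ) (h : G2)) =
      (fun b : BorG F => α (((b : G2) : M2) 0 0) * α (((b : G2) : M2) 1 1)) := by
    funext b
    rw [glLam_apply, Matrix.det_fin_two, (mem_BorG b.1).mp b.2, mul_zero, sub_zero, map_mul]
  rw [hres]
  have hirr : Cfsg.IsIrrCharacter (BorG F)
      (fun b : BorG F => α (((b : G2) : M2) 0 0) * α (((b : G2) : M2) 1 1)) := by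
    have h := (linIrr (((MulChar.toUnitHom α).comp (diagHom0 (F := F))) *
      ((MulChar.toUnitHom α).comp (diagHom1 (F := F))))).2
    convert h using 1
    funext b
    rw [linIrr_apply, MonoidHom.mul_apply, Units.val_mul, MonoidHom.comp_apply,
      MonoidHom.comp_apply, MulChar.coe_toUnitHom, MulChar.coe_toUnitHom]
    rfl
  exact h7_irr_norm hirr

theorem exists_glSt (α : MulChar F ℂ) :
    ∃ σ : Cfsg.IrrCharacter G2, glR α α = (glLam α : G2 → ℂ) + (σ : G2 → ℂ) ∧ σ ≠ glLam α := by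
  classical
  have hR := glR_isCharacter α α
  have hinner := Cfsg.Agent.S2304.inner α α α α
  rw [if_pos rfl] at hinner
  have h2 : Cfsg.classInner (glR α α) (glR α α) = 2 := by
    rw [glR, hinner]
    norm_num
  obtain ⟨η₁, η₂, h1, h2', hne, hsum⟩ := Cfsg.Agent.S2307.split_of_norm_two hR h2
  have hlam := glR_inner_lam α
  rw [hsum, classInner_add_left] at hlam
  by_cases e1 : η₁ = (glLam α : G2 → ℂ)
  · refine ⟨⟨η₂, h2'⟩, ?_, ?_⟩
    · rw [hsum, e1]
    · intro h
      apply hne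
      rw [e1, ← h]
  · by_cases e2 : η₂ = (glLam α : G2 → ℂ)
    · refine ⟨⟨η₁, h1⟩, ?_, ?_⟩
      · rw [hsum, e2, add_comm]
      · intro h
        apply e1
        rw [← h]
    · exfalso
      rw [h7_irr_inner_ne h1 (glLam α).2 e1, h7_irr_inner_ne h2' (glLam α).2 e2, add_zero] at hlam
      exact zero_ne_one hlam

noncomputable def glSt (α : MulChar F ℂ) : Cfsg.IrrCharacter G2 := Classical.choose (exists_glSt α)

theorem glSt_spec (α : MulChar F ℂ) : glR α α = (glLam α : G2 → ℂ) + (glSt α : G2 → ℂ) :=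
  (Classical.choose_spec (exists_glSt α)).1

theorem glSt_apply (α : MulChar F ℂ) (g : G2) :
    (glSt α : G2 → ℂ) g = glR α α g - α ((g : M2).det) := by
  rw [glSt_spec, Pi.add_apply, glLam_apply]
  ring

noncomputable def glRirr (α β : MulChar F ℂ) (h : α ≠ β) : Cfsg.IrrCharacter G2 :=
  ⟨glR α β, Cfsg.Agent.S2304.irr_of_ne α β h⟩

theorem glRirr_apply (α β : MulChar F ℂ) (h : α ≠ β) (g : G2) :
    (glRirr α β h : G2 → ℂ) g = glR α β g := rfl

theorem glR_one (α β : MulChar F ℂ) : glR α β 1 = (Fintype.card F : ℂ) + 1 := by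
  have := value_scalar α β (1 : G2) (by simp) (by simp) (by simp)
  rw [glR, this]
  simp

theorem glR_uG (α β : MulChar F ℂ) (x : F) (hx : x ≠ 0) : glR α β (uG x) = 1 := by
  have := value_unip α β (uG x) (by rw [uG_coe]; simp) (by rw [uG_coe]; simp)
    (by rw [uG_coe]; simpa using hx)
  rw [glR, this, uG_coe]
  simp

theorem glLam_one (α : MulChar F ℂ) : (glLam α : G2 → ℂ) 1 = 1 := by
  rw [glLam_apply]
  simp

theorem glLam_uG (α : MulChar F ℂ) (x : F) : (glLam α : G2 → ℂ) (uG x) = 1 := by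
  rw [glLam_apply, uG_coe, Matrix.det_fin_two_of]
  simp

theorem glSt_one (α : MulChar F ℂ) : (glSt α : G2 → ℂ) 1 = (Fintype.card F : ℂ) := by
  rw [glSt_apply, glR_one]
  simp

theorem glSt_uG (α : MulChar F ℂ) (x : F) (hx : x ≠ 0) : (glSt α : G2 → ℂ) (uG x) = 0 := by
  rw [glSt_apply, glR_uG α α x hx, uG_coe, Matrix.det_fin_two_of]
  simp

theorem glRirr_one (α β : MulChar F ℂ) (h : α ≠ β) :
    (glRirr α β h : G2 → ℂ) 1 = (Fintype.card F : ℂ) + 1 := glR_one α β

theorem glRirr_uG (α β : MulChar F ℂ) (h : α ≠ β) (x : F) (hx : x ≠ 0) :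
    (glRirr α β h : G2 → ℂ) (uG x) = 1 := glR_uG α β x hx

theorem glLam_injective : Function.Injective (glLam (F := F)) := by
  intro α β h
  apply MulChar.ext
  intro a
  have h1 := congrArg (fun χ : Cfsg.IrrCharacter G2 => (χ : G2 → ℂ) (bG a 1 0)) h
  simp only [glLam_apply, bG_coe, Matrix.det_fin_two_of] at h1
  simpa using h1

theorem glSt_bG (α : MulChar F ℂ) (a : Fˣ) (ha : a ≠ 1) :
    (glSt α : G2 → ℂ) (bG a 1 0) = α (a : F) := by
  have hne : ((bG a 1 0 : G2) : M2) 0 0 ≠ ((bG a 1 0 : G2) : M2) 1 1 := by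
    rw [bG_coe]
    simp only [Matrix.of_apply, Matrix.cons_val', Matrix.cons_val_zero, Matrix.cons_val_one,
      Matrix.cons_val_fin_one, Matrix.empty_val', Units.val_one]
    intro h
    apply ha
    exact Units.ext h
  have := value_diag α α (bG a 1 0) (by rw [bG_coe]; simp) (by rw [bG_coe]; simp) hne
  rw [glSt_apply, glR, this, bG_coe, Matrix.det_fin_two_of]
  simp

theorem glSt_injective : Function.Injective (glSt (F := F)) := by
  intro α β h
  apply MulChar.ext
  intro a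
  by_cases ha : a = 1
  · rw [ha]
    simp
  · have h1 := congrArg (fun χ : Cfsg.IrrCharacter G2 => (χ : G2 → ℂ) (bG a 1 0)) h
    simp only [glSt_bG _ a ha] at h1
    exact h1

theorem glRirr_eq_iff (α β α' β' : MulChar F ℂ) (h : α ≠ β) (h' : α' ≠ β') :
    glRirr α β h = glRirr α' β' h' ↔ (α = α' ∧ β = β') ∨ (α = β' ∧ β = α') := by
  rw [← Cfsg.Agent.S2305.result α β α' β']
  constructor
  · intro e
    exact congrArg Subtype.val e
  · intro e
    exact Subtype.ext e

theorem q_ne_facts : (Fintype.card F : ℂ) ≠ 1 ∧ (Fintype.card F : ℂ) + 1 ≠ 1 ∧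
    (Fintype.card F : ℂ) ≠ (Fintype.card F : ℂ) + 1 := by
  have hq : 2 ≤ Fintype.card F := Fintype.one_lt_card
  refine ⟨?_, ?_, ?_⟩
  · have : Fintype.card F ≠ 1 := by omega
    exact_mod_cast this
  · have : Fintype.card F + 1 ≠ 1 := by omega
    exact_mod_cast this
  · intro h
    have : (0 : ℂ) = 1 := by linear_combination h
    exact zero_ne_one this

theorem glLam_ne_glSt (α β : MulChar F ℂ) : glLam α ≠ glSt β := by
  intro h
  have h1 := congrArg (fun χ : Cfsg.IrrCharacter G2 => (χ : G2 → ℂ) 1) h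
  simp only [glLam_one, glSt_one] at h1
  exact q_ne_facts.1 h1.symm

theorem glLam_ne_glRirr (α β γ : MulChar F ℂ) (h : β ≠ γ) : glLam α ≠ glRirr β γ h := by
  intro e
  have h1 := congrArg (fun χ : Cfsg.IrrCharacter G2 => (χ : G2 → ℂ) 1) e
  simp only [glLam_one, glRirr_one] at h1
  exact q_ne_facts.2.1 h1.symm

theorem glSt_ne_glRirr (α β γ : MulChar F ℂ) (h : β ≠ γ) : glSt α ≠ glRirr β γ h := by
  intro e
  have h1 := congrArg (fun χ : Cfsg.IrrCharacter G2 => (χ : G2 → ℂ) 1) e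
  simp only [glSt_one, glRirr_one] at h1
  exact q_ne_facts.2.2 h1

end GL2Char

section Known

variable {F : Type*} [Field F] [Fintype F] [DecidableEq F]
variable [Fintype (Cfsg.IrrCharacter (GL (Fin 2) F))] [Fintype (MulChar F ℂ)]

local notation "G2" => GL (Fin 2) F
local notation "M2" => Matrix (Fin 2) (Fin 2) F
local notation "Irr2" => Cfsg.IrrCharacter (GL (Fin 2) F)

open Classical

abbrev GlOff (F : Type*) [Field F] := {p : MulChar F ℂ × MulChar F ℂ // p.1 ≠ p.2}

noncomputable def glRp (p : GlOff F) : Irr2 := glRirr p.1.1 p.1.2 p.2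

noncomputable def glK1 : Finset Irr2 := Finset.univ.image (glLam (F := F))

noncomputable def glK2 : Finset Irr2 := Finset.univ.image (glSt (F := F))

noncomputable def glK3 : Finset Irr2 := Finset.univ.image (glRp (F := F))

noncomputable def glPsi : Finset Irr2 := Finset.univ \ (glK1 ∪ glK2 ∪ glK3)

theorem sum_glK1 (f : Irr2 → ℂ) : ∑ χ ∈ glK1 (F := F), f χ = ∑ α : MulChar F ℂ, f (glLam α) := by
  rw [glK1, Finset.sum_image]
  intro a _ b _ h
  exact glLam_injective h

theorem sum_glK2 (f : Irr2 → ℂ) : ∑ χ ∈ glK2 (F := F), f χ = ∑ α : MulChar F ℂ, f (glSt α) := by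
  rw [glK2, Finset.sum_image]
  intro a _ b _ h
  exact glSt_injective h

theorem glRp_fiber (p : GlOff F) :
    (Finset.univ.filter (fun p' : GlOff F => glRp p' = glRp p)).card = 2 := by
  obtain ⟨⟨α, β⟩, h⟩ := p
  have hswap : (β, α).1 ≠ (β, α).2 := fun e => h e.symm
  have : Finset.univ.filter (fun p' : GlOff F => glRp p' = glRp ⟨(α, β), h⟩) =
      {⟨(α, β), h⟩, ⟨(β, α), hswap⟩} := by
    ext p'
    obtain ⟨⟨α', β'⟩, h'⟩ := p'
    simp only [Finset.mem_filter, Finset.mem_univ, true_and, Finset.mem_insert,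
      Finset.mem_singleton, Subtype.mk.injEq, Prod.mk.injEq]
    show glRirr α' β' h' = glRirr α β h ↔ _
    rw [glRirr_eq_iff]
  rw [this, Finset.card_pair]
  intro e
  have := congrArg (fun p : GlOff F => p.1.1) e
  exact h this

theorem sum_glK3 (f : Irr2 → ℂ) :
    2 * ∑ χ ∈ glK3 (F := F), f χ = ∑ p : GlOff F, f (glRp p) := by
  rw [Finset.sum_comp f (glRp (F := F)), glK3, Finset.mul_sum]
  apply Finset.sum_congr rfl
  intro χ hχ
  obtain ⟨p, -, rfl⟩ := Finset.mem_image.mp hχ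
  rw [glRp_fiber p]
  simp

theorem glK_disjoint : Disjoint (glK1 (F := F)) glK2 ∧ Disjoint (glK1 (F := F) ∪ glK2) glK3 := by
  constructor
  · rw [Finset.disjoint_left]
    intro χ h1 h2
    obtain ⟨α, -, rfl⟩ := Finset.mem_image.mp h1
    obtain ⟨β, -, e⟩ := Finset.mem_image.mp h2
    exact glLam_ne_glSt α β e.symm
  · rw [Finset.disjoint_left]
    intro χ h1 h3
    obtain ⟨p, -, e⟩ := Finset.mem_image.mp h3
    rcases Finset.mem_union.mp h1 with h1 | h1
    · obtain ⟨α, -, rfl⟩ := Finset.mem_image.mp h1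
      exact glLam_ne_glRirr α p.1.1 p.1.2 p.2 e.symm
    · obtain ⟨α, -, rfl⟩ := Finset.mem_image.mp h1
      exact glSt_ne_glRirr α p.1.1 p.1.2 p.2 e.symm

theorem sum_irr_decomp (f : Irr2 → ℂ) :
    ∑ χ : Irr2, f χ = ∑ α : MulChar F ℂ, f (glLam α) + ∑ α : MulChar F ℂ, f (glSt α) +
      ∑ χ ∈ glK3 (F := F), f χ + ∑ χ ∈ glPsi (F := F), f χ := by
  have h := Finset.sum_sdiff (Finset.subset_univ (glK1 (F := F) ∪ glK2 ∪ glK3)) (f := f)
  rw [← h, Finset.sum_union glK_disjoint.2, Finset.sum_union glK_disjoint.1, sum_glK1, sum_glK2,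
    glPsi]
  ring

end Known

section ClassCount

variable {F : Type*} [Field F] [Fintype F] [DecidableEq F]

local notation "G2" => GL (Fin 2) F
local notation "M2" => Matrix (Fin 2) (Fin 2) F

noncomputable def glComp (t : F) (d : Fˣ) : G2 :=
  Matrix.GeneralLinearGroup.mkOfDetNeZero (compMat t (d : F)) (by
    rw [compMat_det]
    exact d.ne_zero)

theorem glComp_coe (t : F) (d : Fˣ) : ((glComp t d : G2) : M2) = compMat t (d : F) := rfl

noncomputable def glClassRep : Fˣ ⊕ (F × Fˣ) → G2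
  | Sum.inl a => bG a a 0
  | Sum.inr p => glComp p.1 p.2

theorem conj_coe (c g : G2) : ((c * g * c⁻¹ : G2) : M2) = (c : M2) * (g : M2) * ((c⁻¹ : G2) : M2) := rfl

theorem glClassRep_injective :
    Function.Injective (fun x : Fˣ ⊕ (F × Fˣ) => ConjClasses.mk (glClassRep x)) := by
  intro x y h
  rw [ConjClasses.mk_eq_mk_iff_isConj, isConj_iff] at h
  obtain ⟨c, hc⟩ := h
  have hmat : (c : M2) * ((glClassRep x : G2) : M2) * ((c⁻¹ : G2) : M2) =
      ((glClassRep y : G2) : M2) := by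
    rw [← conj_coe, hc]
  have hdet : ((glClassRep x : G2) : M2).det = ((glClassRep y : G2) : M2).det := by
    rw [← hmat]
    exact (Matrix.det_units_conj c _).symm
  have htr : ((glClassRep x : G2) : M2).trace = ((glClassRep y : G2) : M2).trace := by
    rw [← hmat]
    exact (Matrix.trace_units_conj c _).symm
  have hscal : ∀ a : Fˣ, (c : M2) * ((bG a a 0 : G2) : M2) * ((c⁻¹ : G2) : M2) =
      ((bG a a 0 : G2) : M2) := by
    intro a
    apply isScalar2_conj
    · rw [← Units.val_mul, mul_inv_cancel, Units.val_one]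
    · rw [bG_coe]
      refine ⟨by simp, by simp, by simp⟩
  rcases x with a | ⟨t, d⟩ <;> rcases y with a' | ⟨t', d'⟩
  · simp only [glClassRep] at hmat
    rw [hscal a] at hmat
    have := congrFun (congrFun hmat 0) 0
    rw [bG_coe, bG_coe] at this
    simp at this
    rw [Units.ext this]
  · exfalso
    simp only [glClassRep] at hmat
    rw [hscal a] at hmat
    have := congrFun (congrFun hmat 1) 0
    rw [bG_coe, glComp_coe, compMat] at this
    simp at this
  · exfalso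
    simp only [glClassRep] at hc
    have hc' : c⁻¹ * bG a' a' 0 * c⁻¹⁻¹ = glComp t d := by
      rw [← hc]
      group
    have hmat' := congrArg (fun g : G2 => (g : M2)) hc'
    simp only [conj_coe] at hmat'
    have hs : ((c⁻¹ : G2) : M2) * ((bG a' a' 0 : G2) : M2) * (((c⁻¹)⁻¹ : G2) : M2) =
        ((bG a' a' 0 : G2) : M2) := by
      apply isScalar2_conj
      · rw [← Units.val_mul, mul_inv_cancel, Units.val_one]
      · rw [bG_coe]
        refine ⟨by simp, by simp, by simp⟩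
    rw [hs] at hmat'
    have := congrFun (congrFun hmat' 1) 0
    rw [bG_coe, glComp_coe, compMat] at this
    simp at this
  · simp only [glClassRep, glComp_coe, compMat_det, compMat_trace] at hdet htr
    rw [htr, Units.ext hdet]

theorem card_conjClasses_ge :
    Fintype.card F ^ 2 - 1 ≤ Nat.card (ConjClasses G2) := by
  have h := Nat.card_le_card_of_injective _ (glClassRep_injective (F := F))
  rw [Nat.card_sum, Nat.card_prod, Nat.card_units, Nat.card_eq_fintype_card] at h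
  have hq : 1 ≤ Fintype.card F := Fintype.card_pos
  obtain ⟨k, hk⟩ : ∃ k, Fintype.card F = k + 1 := ⟨Fintype.card F - 1, by omega⟩
  rw [hk] at h ⊢
  have e : (k + 1) ^ 2 - 1 = k + 1 - 1 + (k + 1) * (k + 1 - 1) := by
    have : (k + 1) ^ 2 = k * (k + 2) + 1 := by ring
    rw [this]
    simp only [Nat.add_sub_cancel]
    ring
  rw [e]
  exact h

end ClassCount

section MainComp

variable {F : Type*} [Field F] [Fintype F] [DecidableEq F]
variable [Fintype (Cfsg.IrrCharacter (GL (Fin 2) F))] [Fintype (MulChar F ℂ)]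

local notation "G2" => GL (Fin 2) F
local notation "M2" => Matrix (Fin 2) (Fin 2) F
local notation "Irr2" => Cfsg.IrrCharacter (GL (Fin 2) F)

open Classical

theorem card_mulChar : Fintype.card (MulChar F ℂ) = Fintype.card F - 1 := by
  rw [← Nat.card_eq_fintype_card, MulChar.card_eq_card_units_of_hasEnoughRootsOfUnity F ℂ,
    Nat.card_units, Nat.card_eq_fintype_card]

theorem card_glOff : Fintype.card (GlOff F) = (Fintype.card F - 1) * (Fintype.card F - 1) -
    (Fintype.card F - 1) := by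
  rw [Fintype.card_subtype]
  have : (Finset.univ.filter (fun p : MulChar F ℂ × MulChar F ℂ => p.1 ≠ p.2)) =
      (Finset.univ : Finset (MulChar F ℂ)).offDiag := by
    ext p
    simp [Finset.mem_offDiag]
  rw [this, Finset.offDiag_card, Finset.card_univ, card_mulChar]

theorem uG_one_ne_one : (uG (1 : F) : G2) ≠ 1 := by
  intro h
  have := congrArg (fun g : G2 => (g : M2) 0 1) h
  rw [uG_coe] at this
  simp at this

theorem orth_11 : ∑ χ : Irr2, (χ : G2 → ℂ) 1 * conj ((χ : G2 → ℂ) 1) = (Nat.card G2 : ℂ) := by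
  rw [irr_column_orthogonality (1 : G2) 1, if_pos (IsConj.refl 1)]
  congr 1
  have : Subgroup.centralizer ({1} : Set G2) = ⊤ := by
    rw [Subgroup.centralizer_eq_top_iff_subset]
    intro x hx
    rw [Set.mem_singleton_iff] at hx
    rw [hx]
    exact Subgroup.one_mem _
  rw [this, Subgroup.card_top]

theorem orth_uu : ∑ χ : Irr2, (χ : G2 → ℂ) (uG 1) * conj ((χ : G2 → ℂ) (uG 1)) =
    ((Fintype.card F * (Fintype.card F - 1) : ℕ) : ℂ) := by
  rw [irr_column_orthogonality (uG (1 : F)) (uG 1), if_pos (IsConj.refl _),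
    card_centralizer_uG 1 one_ne_zero]

theorem orth_1u : ∑ χ : Irr2, (χ : G2 → ℂ) 1 * conj ((χ : G2 → ℂ) (uG 1)) = 0 := by
  rw [irr_column_orthogonality (1 : G2) (uG 1), if_neg]
  intro h
  rw [isConj_one_left] at h
  exact uG_one_ne_one h

theorem orth_u1 : ∑ χ : Irr2, (χ : G2 → ℂ) (uG 1) * conj ((χ : G2 → ℂ) 1) = 0 := by
  rw [irr_column_orthogonality (uG (1 : F)) (1 : G2), if_neg]
  intro h
  rw [isConj_one_right] at h
  exact uG_one_ne_one h

noncomputable def glZ (χ : Irr2) : ℂ :=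
  (χ : G2 → ℂ) (uG 1) + (χ : G2 → ℂ) 1 / ((Fintype.card F : ℂ) - 1)

theorem qm1_ne_zero : ((Fintype.card F : ℂ) - 1) ≠ 0 := by
  have hq : 2 ≤ Fintype.card F := Fintype.one_lt_card
  have : (Fintype.card F : ℂ) ≠ 1 := by
    have h3 : Fintype.card F ≠ 1 := by omega
    exact_mod_cast h3
  exact sub_ne_zero.mpr this

theorem conj_deg (χ : Irr2) : conj ((χ : G2 → ℂ) 1) = (χ : G2 → ℂ) 1 := by
  obtain ⟨n, -, hn⟩ := irr_one_eq_finrank χ
  rw [hn, Complex.conj_natCast]

theorem conj_qm1 : conj ((Fintype.card F : ℂ) - 1) = (Fintype.card F : ℂ) - 1 := by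
  rw [map_sub, Complex.conj_natCast, map_one]

theorem card_G2_cast : (Nat.card G2 : ℂ) =
    (Fintype.card F : ℂ) * ((Fintype.card F : ℂ) - 1) ^ 2 * ((Fintype.card F : ℂ) + 1) := by
  have hq : 1 ≤ Fintype.card F := Fintype.card_pos
  rw [card_GL2]
  push_cast [Nat.cast_sub hq]
  ring

theorem sum_glZ : ∑ χ : Irr2, glZ χ * conj (glZ χ) = 2 * (Fintype.card F : ℂ) ^ 2 := by
  have hq : 1 ≤ Fintype.card F := Fintype.card_pos
  have h0 := qm1_ne_zero (F := F)
  have hexp : ∀ χ : Irr2, glZ χ * conj (glZ χ) =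
      (χ : G2 → ℂ) (uG 1) * conj ((χ : G2 → ℂ) (uG 1)) +
      ((Fintype.card F : ℂ) - 1)⁻¹ * ((χ : G2 → ℂ) (uG 1) * conj ((χ : G2 → ℂ) 1)) +
      ((Fintype.card F : ℂ) - 1)⁻¹ * ((χ : G2 → ℂ) 1 * conj ((χ : G2 → ℂ) (uG 1))) +
      (((Fintype.card F : ℂ) - 1)⁻¹) ^ 2 * ((χ : G2 → ℂ) 1 * conj ((χ : G2 → ℂ) 1)) := by
    intro χ
    rw [glZ, map_add, map_div₀, conj_qm1]
    field_simp
    ring
  rw [Finset.sum_congr rfl (fun χ _ => hexp χ), Finset.sum_add_distrib, Finset.sum_add_distrib,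
    Finset.sum_add_distrib, ← Finset.mul_sum, ← Finset.mul_sum, ← Finset.mul_sum, orth_uu, orth_u1,
    orth_1u, orth_11, card_G2_cast]
  push_cast [Nat.cast_sub hq]
  field_simp
  ring

theorem glZ_lam (α : MulChar F ℂ) :
    glZ (glLam α) = (Fintype.card F : ℂ) / ((Fintype.card F : ℂ) - 1) := by
  have h0 := qm1_ne_zero (F := F)
  rw [glZ, glLam_uG, glLam_one]
  field_simp
  ring

theorem glZ_St (α : MulChar F ℂ) :
    glZ (glSt α) = (Fintype.card F : ℂ) / ((Fintype.card F : ℂ) - 1) := by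
  rw [glZ, glSt_uG α 1 one_ne_zero, glSt_one, zero_add]

theorem glZ_Rp (p : GlOff F) :
    glZ (glRp p) = 2 * (Fintype.card F : ℂ) / ((Fintype.card F : ℂ) - 1) := by
  have h0 := qm1_ne_zero (F := F)
  rw [glZ, glRp, glRirr_uG _ _ _ 1 one_ne_zero, glRirr_one]
  field_simp
  ring

theorem sum_glPsi_glZ : ∑ χ ∈ glPsi (F := F), glZ χ * conj (glZ χ) = 0 := by
  have hq : 2 ≤ Fintype.card F := Fintype.one_lt_card
  have h0 := qm1_ne_zero (F := F)
  have hdec := sum_irr_decomp (F := F) (fun χ => glZ χ * conj (glZ χ))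
  have h3 := sum_glK3 (F := F) (fun χ => glZ χ * conj (glZ χ))
  rw [sum_glZ] at hdec
  simp only [glZ_lam, glZ_St, glZ_Rp] at hdec h3
  simp only [map_div₀, map_mul, Complex.conj_natCast, conj_qm1, Complex.conj_ofNat,
    Finset.sum_const, Finset.card_univ, card_mulChar, card_glOff, nsmul_eq_mul] at hdec h3
  have hc1 : (((Fintype.card F - 1 : ℕ)) : ℂ) = (Fintype.card F : ℂ) - 1 := by
    have : 1 ≤ Fintype.card F := by omega
    push_cast [Nat.cast_sub this]
    ring
  have hc2 : ((((Fintype.card F - 1) * (Fintype.card F - 1) - (Fintype.card F - 1) : ℕ)) : ℂ) =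
      ((Fintype.card F : ℂ) - 1) * ((Fintype.card F : ℂ) - 1) - ((Fintype.card F : ℂ) - 1) := by
    have h1 : Fintype.card F - 1 ≤ (Fintype.card F - 1) * (Fintype.card F - 1) :=
      Nat.le_mul_self _
    rw [Nat.cast_sub h1, Nat.cast_mul, hc1]
  rw [hc1] at hdec
  rw [hc2] at h3
  have h3' : ∑ χ ∈ glK3 (F := F), glZ χ * conj (glZ χ) =
      ((((Fintype.card F : ℂ) - 1) * ((Fintype.card F : ℂ) - 1) - ((Fintype.card F : ℂ) - 1)) *
        (2 * (Fintype.card F : ℂ) / ((Fintype.card F : ℂ) - 1) *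
          (2 * (Fintype.card F : ℂ) / ((Fintype.card F : ℂ) - 1)))) / 2 := by
    rw [← h3]
    ring
  rw [h3'] at hdec
  have : ∑ χ ∈ glPsi (F := F), glZ χ * conj (glZ χ) =
      2 * (Fintype.card F : ℂ) ^ 2 -
      (((Fintype.card F : ℂ) - 1) * ((Fintype.card F : ℂ) / ((Fintype.card F : ℂ) - 1) *
        ((Fintype.card F : ℂ) / ((Fintype.card F : ℂ) - 1))) +
       ((Fintype.card F : ℂ) - 1) * ((Fintype.card F : ℂ) / ((Fintype.card F : ℂ) - 1) *
        ((Fintype.card F : ℂ) / ((Fintype.card F : ℂ) - 1))) +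
       ((((Fintype.card F : ℂ) - 1) * ((Fintype.card F : ℂ) - 1) - ((Fintype.card F : ℂ) - 1)) *
        (2 * (Fintype.card F : ℂ) / ((Fintype.card F : ℂ) - 1) *
          (2 * (Fintype.card F : ℂ) / ((Fintype.card F : ℂ) - 1)))) / 2) := by
    rw [hdec]
    ring
  rw [this]
  field_simp
  ring

theorem glZ_eq_zero (χ : Irr2) (hχ : χ ∈ glPsi (F := F)) : glZ χ = 0 := by
  have h := sum_glPsi_glZ (F := F)
  have h' : ∑ χ ∈ glPsi (F := F), ((Complex.normSq (glZ χ) : ℝ) : ℂ) = 0 := by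
    rw [← h]
    apply Finset.sum_congr rfl
    intro χ _
    rw [Complex.mul_conj]
  rw [← Complex.ofReal_sum, Complex.ofReal_eq_zero] at h'
  have := (Finset.sum_eq_zero_iff_of_nonneg (fun χ _ => Complex.normSq_nonneg (glZ χ))).mp h' χ hχ
  exact Complex.normSq_eq_zero.mp this

theorem glPsi_deg (χ : Irr2) (hχ : χ ∈ glPsi (F := F)) :
    ∃ m : ℕ, 0 < m ∧ (χ : G2 → ℂ) 1 = ((Fintype.card F : ℂ) - 1) * (m : ℂ) ∧
      (χ : G2 → ℂ) (uG 1) = -(m : ℂ) := by
  have hq : 2 ≤ Fintype.card F := Fintype.one_lt_card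
  have h0 := qm1_ne_zero (F := F)
  have hz := glZ_eq_zero χ hχ
  obtain ⟨n, hn, hn1⟩ := irr_one_eq_finrank χ
  rw [glZ, hn1] at hz
  have hu : (χ : G2 → ℂ) (uG 1) = -((n : ℂ) / ((Fintype.card F : ℂ) - 1)) := by
    linear_combination hz
  have hc1 : (((Fintype.card F - 1 : ℕ)) : ℂ) = (Fintype.card F : ℂ) - 1 := by
    have : 1 ≤ Fintype.card F := by omega
    push_cast [Nat.cast_sub this]
    ring
  have hint : IsIntegral ℤ ((n : ℂ) / ((Fintype.card F - 1 : ℕ) : ℂ)) := by
    rw [hc1]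
    have := (irr_integral χ (uG 1)).neg
    rw [hu, neg_neg] at this
    exact this
  obtain ⟨m, hm⟩ := nat_dvd_of_isIntegral_div n (Fintype.card F - 1) (by omega) hint
  refine ⟨m, ?_, ?_, ?_⟩
  · rcases Nat.eq_zero_or_pos m with h | h
    · rw [h, mul_zero] at hm
      omega
    · exact h
  · rw [hn1, hm, Nat.cast_mul, hc1]
  · rw [hu, hm, Nat.cast_mul, hc1]
    field_simp

theorem two_card_glK3 : 2 * (glK3 (F := F)).card =
    (Fintype.card F - 1) * (Fintype.card F - 1) - (Fintype.card F - 1) := by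
  have h := sum_glK3 (F := F) (fun _ => (1 : ℂ))
  simp only [Finset.sum_const, Finset.card_univ, nsmul_eq_mul, mul_one, card_glOff] at h
  exact_mod_cast h

theorem card_irr_decomp : Fintype.card Irr2 =
    (Fintype.card F - 1) + (Fintype.card F - 1) + (glK3 (F := F)).card + (glPsi (F := F)).card := by
  have h := sum_irr_decomp (F := F) (fun _ => (1 : ℂ))
  simp only [Finset.sum_const, Finset.card_univ, nsmul_eq_mul, mul_one, card_mulChar] at h
  exact_mod_cast h

theorem two_card_glPsi_ge :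
    (Fintype.card F - 1) * (Fintype.card F - 1) + (Fintype.card F - 1) ≤
      2 * (glPsi (F := F)).card := by
  have h1 := card_conjClasses_ge (F := F)
  rw [← Cfsg.Agent.S0133.result, Nat.card_eq_fintype_card, card_irr_decomp] at h1
  have h2 := two_card_glK3 (F := F)
  have hq : 1 ≤ Fintype.card F := Fintype.card_pos
  obtain ⟨k, hk⟩ : ∃ k, Fintype.card F = k + 1 := ⟨Fintype.card F - 1, by omega⟩
  rw [hk] at h1 h2 ⊢
  simp only [Nat.add_sub_cancel] at h1 h2 ⊢
  have e : (k + 1) ^ 2 - 1 = k * k + 2 * k := by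
    have : (k + 1) ^ 2 = k * k + 2 * k + 1 := by ring
    rw [this, Nat.add_sub_cancel]
  rw [e] at h1
  have hkk : k ≤ k * k := Nat.le_mul_self k
  omega

noncomputable def glM (χ : Irr2) : ℕ :=
  if h : χ ∈ glPsi (F := F) then Classical.choose (glPsi_deg χ h) else 1

theorem glM_spec (χ : Irr2) (hχ : χ ∈ glPsi (F := F)) :
    0 < glM χ ∧ (χ : G2 → ℂ) 1 = ((Fintype.card F : ℂ) - 1) * (glM χ : ℂ) ∧
      (χ : G2 → ℂ) (uG 1) = -(glM χ : ℂ) := by
  rw [glM, dif_pos hχ]
  exact Classical.choose_spec (glPsi_deg χ hχ)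

theorem two_sum_glM : 2 * ∑ χ ∈ glPsi (F := F), glM χ ^ 2 =
    (Fintype.card F - 1) * (Fintype.card F - 1) + (Fintype.card F - 1) := by
  have hdec := sum_irr_decomp (F := F) (fun χ => (χ : G2 → ℂ) (uG 1) * conj ((χ : G2 → ℂ) (uG 1)))
  rw [orth_uu] at hdec
  have hK3 : ∑ χ ∈ glK3 (F := F), (χ : G2 → ℂ) (uG 1) * conj ((χ : G2 → ℂ) (uG 1)) =
      ((glK3 (F := F)).card : ℂ) := by
    rw [Finset.card_eq_sum_ones, Nat.cast_sum]
    apply Finset.sum_congr rfl
    intro χ hχ
    obtain ⟨p, -, rfl⟩ := Finset.mem_image.mp hχ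
    rw [glRp, glRirr_uG _ _ _ 1 one_ne_zero]
    simp
  have hPsi : ∑ χ ∈ glPsi (F := F), (χ : G2 → ℂ) (uG 1) * conj ((χ : G2 → ℂ) (uG 1)) =
      ((∑ χ ∈ glPsi (F := F), glM χ ^ 2 : ℕ) : ℂ) := by
    rw [Nat.cast_sum]
    apply Finset.sum_congr rfl
    intro χ hχ
    rw [(glM_spec χ hχ).2.2]
    simp only [map_neg, Complex.conj_natCast, Nat.cast_pow]
    ring
  rw [hK3, hPsi] at hdec
  simp only [glLam_uG, glSt_uG _ (1 : F) one_ne_zero, map_one, mul_one, map_zero, mul_zero,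
    Finset.sum_const, Finset.card_univ, card_mulChar, nsmul_eq_mul, Finset.sum_const_zero,
    add_zero] at hdec
  have hnat : Fintype.card F * (Fintype.card F - 1) =
      (Fintype.card F - 1) + (glK3 (F := F)).card + ∑ χ ∈ glPsi (F := F), glM χ ^ 2 := by
    exact_mod_cast hdec
  have h2 := two_card_glK3 (F := F)
  have hq : 1 ≤ Fintype.card F := Fintype.card_pos
  obtain ⟨k, hk⟩ : ∃ k, Fintype.card F = k + 1 := ⟨Fintype.card F - 1, by omega⟩
  rw [hk] at hnat h2 ⊢
  simp only [Nat.add_sub_cancel] at hnat h2 ⊢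
  have hkk : k ≤ k * k := Nat.le_mul_self k
  have e : (k + 1) * k = k * k + k := by ring
  rw [e] at hnat
  omega

theorem glM_eq_one (χ : Irr2) (hχ : χ ∈ glPsi (F := F)) : glM χ = 1 := by
  have h1 := two_sum_glM (F := F)
  have h2 := two_card_glPsi_ge (F := F)
  have hle : ∀ χ ∈ glPsi (F := F), 1 ≤ glM χ ^ 2 := by
    intro χ hχ
    exact Nat.one_le_pow _ _ (glM_spec χ hχ).1
  have hsum : ∑ χ ∈ glPsi (F := F), 1 = ∑ χ ∈ glPsi (F := F), glM χ ^ 2 := by
    have hge := Finset.sum_le_sum hle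
    rw [Finset.sum_const, smul_eq_mul, mul_one] at hge ⊢
    omega
  have := (Finset.sum_eq_sum_iff_of_le hle).mp hsum χ hχ
  have h3 : glM χ ^ 2 = 1 ^ 2 := by rw [← this]; norm_num
  exact Nat.pow_left_injective (by norm_num : 2 ≠ 0) h3

theorem glPsi_values (χ : Irr2) (hχ : χ ∈ glPsi (F := F)) :
    (χ : G2 → ℂ) 1 = (Fintype.card F : ℂ) - 1 ∧ (χ : G2 → ℂ) (uG 1) = -1 := by
  obtain ⟨-, h1, h2⟩ := glM_spec χ hχ
  rw [glM_eq_one χ hχ] at h1 h2
  constructor
  · rw [h1]; simp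
  · rw [h2]; simp

theorem two_card_glPsi : 2 * (glPsi (F := F)).card =
    (Fintype.card F - 1) * (Fintype.card F - 1) + (Fintype.card F - 1) := by
  rw [← two_sum_glM]
  congr 1
  rw [Finset.card_eq_sum_ones]
  apply Finset.sum_congr rfl
  intro χ hχ
  rw [glM_eq_one χ hχ]
  norm_num

theorem gl_classification (χ : Irr2) :
    (∃ α : MulChar F ℂ, χ = glLam α) ∨ (∃ α : MulChar F ℂ, χ = glSt α) ∨
    (∃ (α β : MulChar F ℂ) (h : α ≠ β), χ = glRirr α β h) ∨ χ ∈ glPsi (F := F) := by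
  by_cases h1 : χ ∈ glK1 (F := F)
  · left
    obtain ⟨α, -, rfl⟩ := Finset.mem_image.mp h1
    exact ⟨α, rfl⟩
  by_cases h2 : χ ∈ glK2 (F := F)
  · right; left
    obtain ⟨α, -, rfl⟩ := Finset.mem_image.mp h2
    exact ⟨α, rfl⟩
  by_cases h3 : χ ∈ glK3 (F := F)
  · right; right; left
    obtain ⟨p, -, rfl⟩ := Finset.mem_image.mp h3
    exact ⟨p.1.1, p.1.2, p.2, rfl⟩
  · right; right; right
    rw [glPsi, Finset.mem_sdiff]
    refine ⟨Finset.mem_univ _, ?_⟩
    rw [Finset.mem_union, Finset.mem_union]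
    tauto

end MainComp

end Cfsg.Agent.Lib.helper14
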