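import Cfsg.Agent.Lib.helper14.SL2Res
import Cfsg.Agent.S0181
import Cfsg.Agent.Lib.Helper11.AbelianQuot

set_option autoImplicit false
set_option linter.unusedSectionVars false
open Cfsg

namespace Cfsg.Agent.Lib.helper14

open Cfsg.Agent.Lib.helper7 Cfsg.Agent.Lib.helper2 Cfsg.Agent.Lib.Helper25 Cfsg.Agent.Lib.Helper11

section Even

variable {F : Type*} [Field F] [Fintype F] [CharP F 2]

local notation "G2" => GL (Fin 2) F
local notation "S2" => Matrix.SpecialLinearGroup (Fin 2) F
local notation "M2" => Matrix (Fin 2) (Fin 2) F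

/-- square root on the units of a finite field of characteristic 2 -/
noncomputable def sqrtU : Fˣ →* Fˣ :=
  Units.map ((frobeniusEquiv F 2).symm : F →* F)

theorem sqrtU_sq (x : Fˣ) : (sqrtU x) ^ 2 = x := by
  apply Units.ext
  rw [Units.val_pow_eq_pow_val]
  exact frobeniusEquiv_symm_pow_p F 2 (x : F)

theorem sqrtU_of_sq (x : Fˣ) : sqrtU (x ^ 2) = x := by
  rw [map_pow, sqrtU_sq]

/-- the root of the determinant -/
noncomputable def rootDet : G2 →* Fˣ := sqrtU.comp Matrix.GeneralLinearGroup.det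

theorem rootDet_sq (g : G2) : (((rootDet g : Fˣ) : F)) ^ 2 = (g : M2).det := by
  have := sqrtU_sq (Matrix.GeneralLinearGroup.det g)
  have h2 := congrArg (fun u : Fˣ => (u : F)) this
  simpa [rootDet] using h2

/-- the projection of `GL₂` onto `SL₂` in characteristic 2 -/
noncomputable def glProj : G2 →* S2 where
  toFun g := ⟨(((rootDet g)⁻¹ : Fˣ) : F) • (g : M2), by
    rw [Matrix.det_smul, Fintype.card_fin, ← rootDet_sq g, ← mul_pow, Units.inv_mul, one_pow]⟩
  map_one' := by
    apply Subtype.ext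
    simp
  map_mul' a b := by
    apply Subtype.ext
    show (((rootDet (a * b))⁻¹ : Fˣ) : F) • ((a * b : G2) : M2) =
      ((((rootDet a)⁻¹ : Fˣ) : F) • (a : M2)) * ((((rootDet b)⁻¹ : Fˣ) : F) • (b : M2))
    rw [Matrix.smul_mul, Matrix.mul_smul, smul_smul, map_mul, mul_inv, Units.val_mul,
      Matrix.GeneralLinearGroup.coe_mul]

theorem glProj_coe (g : G2) : ((glProj g : S2) : M2) = (((rootDet g)⁻¹ : Fˣ) : F) • (g : M2) := rfl

theorem glProj_toGL (s : S2) : glProj (Matrix.SpecialLinearGroup.toGL s : G2) = s := by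
  apply Subtype.ext
  rw [glProj_coe]
  have h1 : Matrix.GeneralLinearGroup.det (Matrix.SpecialLinearGroup.toGL s : G2) = 1 := by
    apply Units.ext
    simpa using s.2
  have : rootDet (Matrix.SpecialLinearGroup.toGL s : G2) = 1 := by
    rw [rootDet, MonoidHom.comp_apply, h1, map_one]
  rw [this]
  simp

theorem glProj_surjective : Function.Surjective (glProj (F := F)) := fun s => ⟨_, glProj_toGL s⟩


/-- the scalar matrix `z • 1` in `GL₂` -/
noncomputable def scG (z : Fˣ) : G2 :=
  ⟨(z : F) • (1 : M2), ((z⁻¹ : Fˣ) : F) • (1 : M2), by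
    rw [Matrix.smul_mul, Matrix.mul_smul, smul_smul, mul_one, Units.mul_inv, one_smul], by
    rw [Matrix.smul_mul, Matrix.mul_smul, smul_smul, mul_one, Units.inv_mul, one_smul]⟩

theorem scG_coe (z : Fˣ) : ((scG z : G2) : M2) = (z : F) • (1 : M2) := rfl

theorem det_scG (z : Fˣ) : Matrix.GeneralLinearGroup.det (scG z : G2) = z ^ 2 := by
  apply Units.ext
  rw [Matrix.GeneralLinearGroup.val_det_apply, scG_coe, Matrix.det_smul, Fintype.card_fin,
    Matrix.det_one, mul_one, Units.val_pow_eq_pow_val]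

theorem glProj_scG (z : Fˣ) : glProj (scG z : G2) = 1 := by
  apply Subtype.ext
  rw [glProj_coe, rootDet, MonoidHom.comp_apply, det_scG, sqrtU_of_sq, scG_coe, smul_smul,
    Units.inv_mul, one_smul]
  rfl

variable [DecidableEq F]

/-- inflation of an irreducible character of `SL₂` along the projection -/
noncomputable def glInfl (ψ : Cfsg.IrrCharacter S2) : Cfsg.IrrCharacter G2 :=
  ⟨fun g => (ψ : S2 → ℂ) (glProj g), by
    obtain ⟨n, σ, hσ, hψ⟩ := ψ.2
    haveI := hσ
    refine ⟨n, σ.comp glProj,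
      Cfsg.Agent.S0181.comp_surj_irreducible σ glProj glProj_surjective, ?_⟩
    funext x
    rw [← hψ]
    rfl⟩

theorem glInfl_apply (ψ : Cfsg.IrrCharacter S2) (g : G2) :
    (glInfl ψ : G2 → ℂ) g = (ψ : S2 → ℂ) (glProj g) := rfl

/-- inflation twisted by a character of the determinant -/
noncomputable def glTw (p : Cfsg.IrrCharacter S2 × MulChar F ℂ) : Cfsg.IrrCharacter G2 :=
  ⟨fun g => ((glLamHom p.2 g : ℂˣ) : ℂ) * (glInfl p.1 : G2 → ℂ) g,
    isIrr_linChar_mul (glLamHom p.2) _ (glInfl p.1).2⟩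

theorem glTw_apply (p : Cfsg.IrrCharacter S2 × MulChar F ℂ) (g : G2) :
    (glTw p : G2 → ℂ) g =
      p.2 ((Matrix.GeneralLinearGroup.det g : Fˣ) : F) * (p.1 : S2 → ℂ) (glProj g) := by
  show ((glLamHom p.2 g : ℂˣ) : ℂ) * (glInfl p.1 : G2 → ℂ) g = _
  rw [glInfl_apply, glLamHom, MonoidHom.comp_apply, MulChar.coe_toUnitHom]

theorem glTw_one (p : Cfsg.IrrCharacter S2 × MulChar F ℂ) :
    (glTw p : G2 → ℂ) 1 = (p.1 : S2 → ℂ) 1 := by
  rw [glTw_apply, map_one, map_one, Units.val_one, map_one, one_mul]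

theorem glTw_injective : Function.Injective (glTw (F := F)) := by
  rintro ⟨ψ, l⟩ ⟨ψ', l'⟩ h
  have hv : ∀ g : G2, (glTw (ψ, l) : G2 → ℂ) g = (glTw (ψ', l') : G2 → ℂ) g := by
    intro g
    rw [h]
  have h1 : ψ = ψ' := by
    apply Subtype.ext
    funext s
    have := hv (Matrix.SpecialLinearGroup.toGL s)
    rw [glTw_apply, glTw_apply, glProj_toGL] at this
    have hd : Matrix.GeneralLinearGroup.det (Matrix.SpecialLinearGroup.toGL s : G2) = 1 := by
      apply Units.ext
      simpa using s.2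
    rw [hd] at this
    simpa using this
  subst h1
  have h2 : l = l' := by
    apply MulChar.ext
    intro x
    have := hv (scG (sqrtU x))
    rw [glTw_apply, glTw_apply, glProj_scG, det_scG, sqrtU_sq] at this
    exact mul_right_cancel₀ (irr_one_ne_zero ψ) this
  rw [h2]

end Even

end Cfsg.Agent.Lib.helper14
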