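import Cfsg.Agent.Lib.helper14.GL2Char3
import Cfsg.Agent.Lib.Helper11.Clifford

set_option autoImplicit false
set_option linter.unusedSectionVars false
open Cfsg

namespace Cfsg.Agent.Lib.helper14

open Cfsg.Agent.Lib.helper7 Cfsg.Agent.Lib.helper2 Cfsg.Agent.Lib.Helper25 Cfsg.Agent.Lib.Helper11

open scoped ComplexConjugate

/-- Clifford, degree form: an irreducible character lying over an irreducible character `φ` of a
normal subgroup has degree a multiple `M * φ 1`, and restricts to `φ` if `M = 1`. -/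
theorem clifford_degree {K : Type*} [Group K] [Fintype K] (N : Subgroup K) [hN : N.Normal]
    [Fintype N] (η : K → ℂ) (hη : Cfsg.IsIrrCharacter K η) (φ : N → ℂ)
    (hφ : Cfsg.IsIrrCharacter N φ)
    (h1 : Cfsg.classInner (fun n : N => η n) φ ≠ 0) :
    ∃ M : ℕ, 1 ≤ M ∧ η 1 = (M : ℂ) * φ 1 ∧ (M = 1 → (fun n : N => η n) = φ) := by
  classical
  haveI : Fintype (Cfsg.IrrCharacter N) := Fintype.ofFinite _
  have hres : Cfsg.IsCharacter N (fun n : N => η n) :=
    isCharacter_restrict (isCharacter_of_irr ⟨η, hη⟩) N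
  obtain ⟨m, hm, hexp⟩ := isCharacter_expansion hres
  have hdeg : ∀ ξ : Cfsg.IrrCharacter N, m ξ ≠ 0 → (ξ : N → ℂ) 1 = φ 1 := by
    intro ξ hξ
    have h2 : Cfsg.classInner (fun n : N => η n) (ξ : N → ℂ) ≠ 0 := by
      rw [hm]
      exact_mod_cast hξ
    obtain ⟨k, hk⟩ := clifford_conj N η hη φ ξ hφ ξ.2 h1 h2
    rw [hk, cj_apply]
    congr 1
    ext
    simp
  have hmφ : m ⟨φ, hφ⟩ ≠ 0 := by
    intro h0
    apply h1
    have := hm ⟨φ, hφ⟩
    rw [h0] at this
    simpa using this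
  have hle : m ⟨φ, hφ⟩ ≤ ∑ ξ : Cfsg.IrrCharacter N, m ξ :=
    Finset.single_le_sum (f := fun ξ => m ξ) (fun _ _ => Nat.zero_le _) (Finset.mem_univ _)
  refine ⟨∑ ξ : Cfsg.IrrCharacter N, m ξ, ?_, ?_, ?_⟩
  · have := Nat.pos_of_ne_zero hmφ
    omega
  · have e : η 1 = (fun n : N => η n) 1 := rfl
    rw [e, hexp]
    simp only [Finset.sum_apply, Pi.smul_apply, smul_eq_mul]
    push_cast
    rw [Finset.sum_mul]
    apply Finset.sum_congr rfl
    intro ξ _
    by_cases h0 : m ξ = 0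
    · simp [h0]
    · rw [hdeg ξ h0]
  · intro hM
    have hφ1 : m ⟨φ, hφ⟩ = 1 := by
      have := Nat.pos_of_ne_zero hmφ
      omega
    have hother : ∀ ξ : Cfsg.IrrCharacter N, ξ ≠ ⟨φ, hφ⟩ → m ξ = 0 := by
      intro ξ hξ
      by_contra h0
      have h2 : m ⟨φ, hφ⟩ + m ξ ≤ ∑ ξ : Cfsg.IrrCharacter N, m ξ := by
        have hsub : ({⟨φ, hφ⟩, ξ} : Finset (Cfsg.IrrCharacter N)) ⊆ Finset.univ :=
          Finset.subset_univ _
        have := Finset.sum_le_sum_of_subset (f := fun ξ => m ξ) hsub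
        rw [Finset.sum_pair (Ne.symm hξ)] at this
        exact this
      have := Nat.pos_of_ne_zero h0
      omega
    rw [hexp, Finset.sum_eq_single (⟨φ, hφ⟩ : Cfsg.IrrCharacter N)]
    · rw [hφ1]
      simp
    · intro ξ _ hξ
      rw [hother ξ hξ]
      simp
    · intro h
      exact absurd (Finset.mem_univ _) h

section SL2Res

variable {F : Type*} [Field F] [Fintype F] [DecidableEq F]

local notation "G2" => GL (Fin 2) F
local notation "S2" => Matrix.SpecialLinearGroup (Fin 2) F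
local notation "M2" => Matrix (Fin 2) (Fin 2) F

/-- the kernel of the determinant on `GL₂` -/
def detKer (F : Type*) [Field F] : Subgroup (GL (Fin 2) F) :=
  (Matrix.GeneralLinearGroup.det : GL (Fin 2) F →* Fˣ).ker

instance detKer_normal : (detKer F).Normal := MonoidHom.normal_ker _

theorem mem_detKer (g : G2) : g ∈ detKer F ↔ (g : M2).det = 1 := by
  rw [detKer, MonoidHom.mem_ker]
  constructor
  · intro h
    have := congrArg (fun u : Fˣ => (u : F)) h
    simpa using this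
  · intro h
    apply Units.ext
    simpa using h

/-- `SL₂` as the kernel of the determinant -/
noncomputable def slEquiv : S2 ≃* detKer F where
  toFun s := ⟨Matrix.SpecialLinearGroup.toGL s, by
    rw [mem_detKer]
    exact s.2⟩
  invFun n := ⟨((n : G2) : M2), (mem_detKer _).mp n.2⟩
  left_inv s := by
    apply Subtype.ext
    rfl
  right_inv n := by
    apply Subtype.ext
    apply Units.ext
    rfl
  map_mul' a b := by
    apply Subtype.ext
    exact map_mul _ a b

theorem slEquiv_coe (s : S2) : ((slEquiv s : detKer F) : G2) = Matrix.SpecialLinearGroup.toGL s := rfl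

/-- transport of an irreducible character of `SL₂` to the determinant kernel -/
theorem isIrr_toKer (ψ : S2 → ℂ) (hψ : Cfsg.IsIrrCharacter S2 ψ) :
    Cfsg.IsIrrCharacter (detKer F) (fun n => ψ (slEquiv.symm n)) := by
  obtain ⟨n, ρ, hρ, hχ⟩ := hψ
  refine ⟨n, (ρ.comp (slEquiv (F := F)).symm.toMonoidHom : Representation ℂ (detKer F) (Fin n → ℂ)),
    isIrreducible_comp_equiv ρ (slEquiv (F := F)).symm, ?_⟩
  funext x
  rw [← hχ]
  rfl

/-- Every irreducible character `ψ` of `SL₂` lies under an irreducible character `χ` of `GL₂`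
whose degree is a multiple `M * ψ 1`, and `χ` restricts to `ψ` if `M = 1`. -/
theorem exists_above (ψ : S2 → ℂ) (hψ : Cfsg.IsIrrCharacter S2 ψ) :
    ∃ χ : G2 → ℂ, Cfsg.IsIrrCharacter G2 χ ∧ ∃ M : ℕ, 1 ≤ M ∧ χ 1 = (M : ℂ) * ψ 1 ∧
      (M = 1 → ∀ s : S2, χ (Matrix.SpecialLinearGroup.toGL s) = ψ s) := by
  classical
  haveI : Fintype (detKer F) := Fintype.ofFinite _
  set φ : detKer F → ℂ := fun n => ψ (slEquiv.symm n) with hφdef
  have hφ : Cfsg.IsIrrCharacter (detKer F) φ := isIrr_toKer ψ hψ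
  have hind : Cfsg.IsCharacter G2 (Cfsg.indFun (detKer F) φ) :=
    isCharacter_indFun (detKer F) φ (isCharacter_of_irr ⟨φ, hφ⟩)
  have hφ1 : φ 1 = ψ 1 := by
    show ψ (slEquiv.symm 1) = ψ 1
    rw [map_one]
  have hne : Cfsg.indFun (detKer F) φ 1 ≠ 0 := by
    rw [h7_indFun_one, hφ1]
    apply mul_ne_zero
    · have : (detKer F).index ≠ 0 := Subgroup.index_ne_zero_of_finite
      exact_mod_cast this
    · exact irr_one_ne_zero ⟨ψ, hψ⟩
  obtain ⟨χ, m, hm, hinner⟩ := isCharacter_exists_constituent hind hne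
  have hcl : Cfsg.IsClassFunction G2 (χ : G2 → ℂ) :=
    isCharacter_isClassFunction (isCharacter_of_irr χ)
  rw [h7_frobenius_reciprocity (detKer F) φ (χ : G2 → ℂ) hcl] at hinner
  have h1 : Cfsg.classInner (fun n : detKer F => (χ : G2 → ℂ) n) φ ≠ 0 := by
    rw [classInner_symm_of_nat _ _ m hinner]
    exact_mod_cast hm.ne'
  obtain ⟨M, hM1, hM2, hM3⟩ := clifford_degree (detKer F) (χ : G2 → ℂ) χ.2 φ hφ h1
  refine ⟨(χ : G2 → ℂ), χ.2, M, hM1, ?_, ?_⟩
  · rw [hM2, hφ1]
  · intro hM s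
    have := congrFun (hM3 hM) (slEquiv s)
    simp only [hφdef, MulEquiv.symm_apply_apply] at this
    rw [← this, slEquiv_coe]

end SL2Res

end Cfsg.Agent.Lib.helper14
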