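import Cfsg.Agent.S0133
import Cfsg.Agent.S0169
import Cfsg.Agent.S4765
import Cfsg.Agent.Lib.Helper25.CodPrimes
import Cfsg.Agent.Lib.Helper25.CharLinear
import Cfsg.Agent.Lib.helper7.CliffordSub
import Cfsg.Agent.Lib.helper14.DegGraph

/-!
# General counting lemmas for characters of degree prime to `ℓ`
-/

set_option autoImplicit false
open Cfsg

namespace Cfsg.Agent.Lib.helper14.McKay

open Cfsg.Agent.Lib.helper7 Cfsg.Agent.Lib.Helper25

section General

variable {G : Type*} [Group G]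

theorem irr_one_eq_charDegree (χ : Cfsg.IrrCharacter G) :
    (χ : G → ℂ) 1 = (Cfsg.charDegree (χ : G → ℂ) : ℂ) := by
  obtain ⟨n, -, hn⟩ := irr_one_eq_finrank χ
  rw [Cfsg.Agent.Lib.helper14.charDegree_of_natCast _ n hn, hn]

theorem charDegree_pos (χ : Cfsg.IrrCharacter G) : 0 < Cfsg.charDegree (χ : G → ℂ) := by
  obtain ⟨n, hn0, hn⟩ := irr_one_eq_finrank χ
  rw [Cfsg.Agent.Lib.helper14.charDegree_of_natCast _ n hn]
  exact hn0

/-- irreducible characters correspond under a group isomorphism -/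
def irrCongr {S T : Type*} [Group S] [Group T] (e : S ≃* T) :
    Cfsg.IrrCharacter S ≃ Cfsg.IrrCharacter T where
  toFun χ := ⟨fun t => (χ : S → ℂ) (e.symm t), h7_isIrr_comp_equiv e.symm _ χ.2⟩
  invFun ψ := ⟨fun s => (ψ : T → ℂ) (e s), h7_isIrr_comp_equiv e _ ψ.2⟩
  left_inv χ := by
    apply Subtype.ext
    funext s
    show (χ : S → ℂ) (e.symm (e s)) = _
    rw [MulEquiv.symm_apply_apply]
  right_inv ψ := by
    apply Subtype.ext
    funext t
    show (ψ : T → ℂ) (e (e.symm t)) = _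
    rw [MulEquiv.apply_symm_apply]

theorem charDegree_irrCongr {S T : Type*} [Group S] [Group T] (e : S ≃* T)
    (χ : Cfsg.IrrCharacter S) :
    Cfsg.charDegree ((irrCongr e χ : Cfsg.IrrCharacter T) : T → ℂ) =
      Cfsg.charDegree (χ : S → ℂ) := by
  unfold Cfsg.charDegree
  show ⌊((χ : S → ℂ) (e.symm 1)).re⌋₊ = _
  rw [map_one]

theorem card_degree_congr {S T : Type*} [Group S] [Group T] (e : S ≃* T) (Q : ℕ → Prop) :
    Nat.card {χ : Cfsg.IrrCharacter S // Q (Cfsg.charDegree (χ : S → ℂ))} =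
      Nat.card {χ : Cfsg.IrrCharacter T // Q (Cfsg.charDegree (χ : T → ℂ))} := by
  apply Nat.card_congr
  exact Equiv.subtypeEquiv (irrCongr e) (fun χ => by rw [charDegree_irrCongr])

theorem card_degree_of_forall [Finite G] (Q : ℕ → Prop)
    (h : ∀ χ : Cfsg.IrrCharacter G, Q (Cfsg.charDegree (χ : G → ℂ))) :
    Nat.card {χ : Cfsg.IrrCharacter G // Q (Cfsg.charDegree (χ : G → ℂ))} =
      Nat.card (ConjClasses G) := by
  rw [← Cfsg.Agent.S0133.result]
  apply Nat.card_congr
  exact Equiv.subtypeUnivEquiv h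

/-- Itô: degrees divide the index of an abelian normal subgroup -/
theorem charDegree_dvd_index [Finite G] (A : Subgroup G) [A.Normal]
    (hA : ∀ a ∈ A, ∀ b ∈ A, a * b = b * a) (χ : Cfsg.IrrCharacter G) :
    Cfsg.charDegree (χ : G → ℂ) ∣ A.index := by
  obtain ⟨n, ρ, hρ, hχ⟩ := χ.2
  haveI := hρ
  have h := Cfsg.Agent.S0169.result ρ A hA
  have h1 : (χ : G → ℂ) 1 = ((Module.finrank ℂ (Fin n → ℂ) : ℕ) : ℂ) := by
    rw [← hχ, Representation.char_one]
  rw [Cfsg.Agent.Lib.helper14.charDegree_of_natCast _ _ h1]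
  exact h

theorem sq_mod_four (d : ℕ) : d ^ 2 % 4 = if ¬ 2 ∣ d then 1 else 0 := by
  rcases Nat.even_or_odd d with ⟨k, hk⟩ | ⟨k, hk⟩
  · have h2 : 2 ∣ d := ⟨k, by omega⟩
    rw [if_neg (not_not.mpr h2)]
    subst hk
    have : (k + k) ^ 2 = 4 * (k * k) := by ring
    rw [this]
    exact Nat.mul_mod_right 4 _
  · have h2 : ¬ 2 ∣ d := by
      rintro ⟨j, hj⟩
      omega
    rw [if_pos h2]
    subst hk
    have : (2 * k + 1) ^ 2 = 4 * (k * k + k) + 1 := by ring
    rw [this]
    omega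

/-- if `4 ∣ |G|` the number of irreducible characters of odd degree is divisible by 4 -/
theorem four_dvd_card_odd [Finite G] (h4 : 4 ∣ Nat.card G) :
    4 ∣ Nat.card {χ : Cfsg.IrrCharacter G // ¬ 2 ∣ Cfsg.charDegree (χ : G → ℂ)} := by
  classical
  haveI : Fintype G := Fintype.ofFinite G
  haveI : Fintype (Cfsg.IrrCharacter G) := Fintype.ofFinite _
  have hs := cod_sum_sq (G := G)
  rw [Nat.card_eq_fintype_card, Fintype.card_subtype, Finset.card_filter]
  have h1 : (∑ χ : Cfsg.IrrCharacter G, Cfsg.charDegree (χ : G → ℂ) ^ 2) % 4 = 0 := by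
    rw [hs]
    exact Nat.mod_eq_zero_of_dvd h4
  rw [Finset.sum_nat_mod] at h1
  simp only [sq_mod_four] at h1
  exact Nat.dvd_of_mod_eq_zero h1

/-- counting linear characters through an abelian quotient -/
theorem card_linear_of_quot [Finite G] (K : Subgroup G) [K.Normal]
    (hab : ∀ a b : G ⧸ K, a * b = b * a)
    (hK : ∀ χ : Cfsg.IrrCharacter G, Cfsg.charDegree (χ : G → ℂ) = 1 →
      ∀ k ∈ K, (χ : G → ℂ) k = 1) :
    Nat.card {χ : Cfsg.IrrCharacter G // Cfsg.charDegree (χ : G → ℂ) = 1} = K.index := by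
  classical
  have hdeg : ∀ ψ : Cfsg.IrrCharacter (G ⧸ K), Cfsg.charDegree (ψ : G ⧸ K → ℂ) = 1 := by
    intro ψ
    have h := charDegree_dvd_index (⊤ : Subgroup (G ⧸ K)) (fun a _ b _ => hab a b) ψ
    rw [Subgroup.index_top] at h
    exact Nat.dvd_one.mp h
  have hcard : Nat.card (Cfsg.IrrCharacter (G ⧸ K)) = K.index := by
    haveI : Fintype (G ⧸ K) := Fintype.ofFinite _
    haveI : Fintype (Cfsg.IrrCharacter (G ⧸ K)) := Fintype.ofFinite _
    have hs := cod_sum_sq (G := G ⧸ K)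
    rw [Finset.sum_congr rfl (fun ψ _ => by rw [hdeg ψ])] at hs
    simp only [one_pow, Finset.sum_const, Finset.card_univ, smul_eq_mul, mul_one] at hs
    rw [Nat.card_eq_fintype_card, hs, Subgroup.index_eq_card]
  rw [← hcard]
  symm
  apply Nat.card_congr
  refine Equiv.ofBijective (fun ψ => ⟨⟨fun g => (ψ : G ⧸ K → ℂ) (g : G ⧸ K),
    Cfsg.Agent.S4765.infl_irr K _ ψ.2⟩, ?_⟩) ⟨?_, ?_⟩
  · have := hdeg ψ
    unfold Cfsg.charDegree at this ⊢
    exact this
  · intro ψ ψ' h
    have h' := congrArg (fun x => (x.1 : G → ℂ)) h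
    simp only at h'
    apply Subtype.ext
    funext x
    obtain ⟨g, rfl⟩ := QuotientGroup.mk_surjective x
    exact congrFun h' g
  · rintro ⟨χ, hχ⟩
    have h1 : (χ : G → ℂ) 1 = 1 := by
      rw [irr_one_eq_charDegree, hχ, Nat.cast_one]
    obtain ⟨ψ, hψ, hval⟩ := Cfsg.Agent.S4765.descend_irr K _ χ.2
      (fun k hk => by rw [hK χ hχ k hk, h1])
    refine ⟨⟨ψ, hψ⟩, ?_⟩
    apply Subtype.ext
    apply Subtype.ext
    funext g
    exact hval g

section Fiber

variable [Finite G]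

theorem card_degree_eq_filter [Fintype (Cfsg.IrrCharacter G)] (b : ℕ) :
    Nat.card {χ : Cfsg.IrrCharacter G // Cfsg.charDegree (χ : G → ℂ) = b} =
      (Finset.univ.filter (fun χ : Cfsg.IrrCharacter G =>
        Cfsg.charDegree (χ : G → ℂ) = b)).card := by
  classical
  rw [Nat.card_eq_fintype_card, Fintype.card_subtype]

theorem sum_card_fiberwise (D : Finset ℕ)
    (hD : ∀ χ : Cfsg.IrrCharacter G, Cfsg.charDegree (χ : G → ℂ) ∈ D) :
    ∑ b ∈ D, Nat.card {χ : Cfsg.IrrCharacter G // Cfsg.charDegree (χ : G → ℂ) = b} =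
      Nat.card (ConjClasses G) := by
  classical
  haveI : Fintype (Cfsg.IrrCharacter G) := Fintype.ofFinite _
  rw [← Cfsg.Agent.S0133.result, Nat.card_eq_fintype_card, ← Finset.card_univ,
    Finset.card_eq_sum_card_fiberwise (f := fun χ : Cfsg.IrrCharacter G =>
      Cfsg.charDegree (χ : G → ℂ)) (t := D) (fun χ _ => hD χ)]
  apply Finset.sum_congr rfl
  intro b _
  rw [card_degree_eq_filter]

theorem sum_sq_fiberwise (D : Finset ℕ)
    (hD : ∀ χ : Cfsg.IrrCharacter G, Cfsg.charDegree (χ : G → ℂ) ∈ D) :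
    ∑ b ∈ D, b ^ 2 * Nat.card {χ : Cfsg.IrrCharacter G // Cfsg.charDegree (χ : G → ℂ) = b} =
      Nat.card G := by
  classical
  haveI : Fintype G := Fintype.ofFinite G
  haveI : Fintype (Cfsg.IrrCharacter G) := Fintype.ofFinite _
  rw [← cod_sum_sq (G := G), ← Finset.sum_fiberwise_of_maps_to (s := Finset.univ) (t := D)
    (g := fun χ : Cfsg.IrrCharacter G => Cfsg.charDegree (χ : G → ℂ)) (fun χ _ => hD χ)]
  apply Finset.sum_congr rfl
  intro b _
  rw [card_degree_eq_filter, mul_comm, ← smul_eq_mul, ← Finset.sum_const]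
  apply Finset.sum_congr rfl
  intro χ hχ
  rw [(Finset.mem_filter.mp hχ).2]

theorem card_degree_fiberwise (Q : ℕ → Prop) [DecidablePred Q] (D : Finset ℕ)
    (hD : ∀ χ : Cfsg.IrrCharacter G, Cfsg.charDegree (χ : G → ℂ) ∈ D) :
    Nat.card {χ : Cfsg.IrrCharacter G // Q (Cfsg.charDegree (χ : G → ℂ))} =
      ∑ b ∈ D, if Q b then
        Nat.card {χ : Cfsg.IrrCharacter G // Cfsg.charDegree (χ : G → ℂ) = b} else 0 := by
  classical
  haveI : Fintype (Cfsg.IrrCharacter G) := Fintype.ofFinite _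
  rw [Nat.card_eq_fintype_card, Fintype.card_subtype,
    Finset.card_eq_sum_card_fiberwise (f := fun χ : Cfsg.IrrCharacter G =>
      Cfsg.charDegree (χ : G → ℂ)) (t := D) (fun χ _ => hD χ)]
  apply Finset.sum_congr rfl
  intro b _
  by_cases hQ : Q b
  · rw [if_pos hQ, card_degree_eq_filter]
    congr 1
    ext χ
    simp only [Finset.mem_filter, Finset.mem_univ, true_and]
    constructor
    · rintro ⟨_, h⟩
      exact h
    · intro h
      exact ⟨by rw [h]; exact hQ, h⟩
  · rw [if_neg hQ, Finset.card_eq_zero, Finset.filter_eq_empty_iff]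
    intro χ hχ h
    rw [Finset.mem_filter] at hχ
    rw [h] at hχ
    exact hQ hχ.2

/-- a bound on the number of odd-degree characters in terms of the number of linear characters -/
theorem nine_mul_card_odd_le :
    9 * Nat.card {χ : Cfsg.IrrCharacter G // ¬ 2 ∣ Cfsg.charDegree (χ : G → ℂ)} ≤
      Nat.card G +
        8 * Nat.card {χ : Cfsg.IrrCharacter G // Cfsg.charDegree (χ : G → ℂ) = 1} := by
  classical
  haveI : Fintype G := Fintype.ofFinite G
  haveI : Fintype (Cfsg.IrrCharacter G) := Fintype.ofFinite _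
  rw [← cod_sum_sq (G := G), Nat.card_eq_fintype_card, Nat.card_eq_fintype_card,
    Fintype.card_subtype, Fintype.card_subtype, Finset.card_filter, Finset.card_filter,
    Finset.mul_sum, Finset.mul_sum, ← Finset.sum_add_distrib]
  apply Finset.sum_le_sum
  intro χ _
  have hpos := charDegree_pos χ
  by_cases h2 : 2 ∣ Cfsg.charDegree (χ : G → ℂ)
  · rw [if_neg (not_not.mpr h2)]
    omega
  · rw [if_pos h2]
    by_cases h1 : Cfsg.charDegree (χ : G → ℂ) = 1
    · rw [if_pos h1, h1]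
      norm_num
    · rw [if_neg h1]
      have h3 : 3 ≤ Cfsg.charDegree (χ : G → ℂ) := by
        by_contra hcon
        have : Cfsg.charDegree (χ : G → ℂ) = 2 := by omega
        exact h2 ⟨1, by omega⟩
      nlinarith

end Fiber

end General

end Cfsg.Agent.Lib.helper14.McKay
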