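import Mathlib
import Cfsg.Prelude.Def_Blocks
import Cfsg.Agent.Lib.Helper25.PrincipalDefect
import Cfsg.Agent.Lib.helper7.BlockCover
import Cfsg.Agent.Lib.helper2.CharInt

/-!
# Blocks containing a character of degree prime to `p`

The Sylow `p`-subgroups are defect groups of the block of an irreducible character of degree
prime to `p` (generalising the case of the principal block, `Helper25.pb_main`).
-/

set_option autoImplicit false

namespace Cfsg.Agent.Lib.helper14

open Cfsg.Agent.Lib.helper7 Cfsg.Agent.Lib.Helper25 Cfsg.Agent.Lib.helper2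
open scoped ComplexConjugate Pointwise

/-- a character value divided by a degree prime to `p` is a local integer -/
theorem memLocalRing_char_div {G : Type*} [Group G] [Finite G] {p : ℕ} {M : Ideal Cfsg.AlgInt}
    (hM : Cfsg.IsPModular p M) (χ : Cfsg.IrrCharacter G) (d : ℕ) (hcop : d.Coprime p) (g : G) :
    Cfsg.MemLocalRing M ((χ : G → ℂ) g * (d : ℂ)⁻¹) := by
  have hMp := h7_isPrime_of_isPModular hM
  apply h7_memLocalRing_mul hMp
  · exact h7_memLocalRing_of_algInt hMp (⟨_, irr_integral χ g⟩ : Cfsg.AlgInt)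
  · exact h7_memLocalRing_inv_natCast hM d hcop

/-- a natural number divisible by `p` lies in the local ideal -/
theorem memLocalIdeal_natCast_of_dvd {p : ℕ} {M : Ideal Cfsg.AlgInt}
    (hM : Cfsg.IsPModular p M) (n : ℕ) (h : p ∣ n) : Cfsg.MemLocalIdeal M (n : ℂ) := by
  have hMp := h7_isPrime_of_isPModular hM
  obtain ⟨k, rfl⟩ := h
  have h1 : ((p : Cfsg.AlgInt) * (k : Cfsg.AlgInt)) ∈ M := M.mul_mem_right _ hM.2.2
  have h2 := h7_memLocalIdeal_of_mem hMp h1
  convert h2 using 1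
  push_cast
  rfl

/-- the central character at a class of size divisible by `p`, for a degree prime to `p` -/
theorem memLocalIdeal_centralChar_of_dvd {G : Type*} [Group G] [Finite G] {p : ℕ}
    {M : Ideal Cfsg.AlgInt} (hM : Cfsg.IsPModular p M) (χ : Cfsg.IrrCharacter G) (d : ℕ)
    (hd : (χ : G → ℂ) 1 = (d : ℂ)) (hcop : d.Coprime p) (g : G)
    (hdvd : p ∣ (Subgroup.centralizer ({g} : Set G)).index) :
    Cfsg.MemLocalIdeal M (Cfsg.centralChar (χ : G → ℂ) g) := by
  have hMp := h7_isPrime_of_isPModular hM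
  unfold Cfsg.centralChar
  rw [hd, mul_div_assoc, div_eq_mul_inv]
  exact h7_memLocalIdeal_mul_right hMp (memLocalIdeal_natCast_of_dvd hM _ hdvd)
    (memLocalRing_char_div hM χ d hcop g)

/-- a defect class of the block of a character of degree prime to `p` has centralizer of index
prime to `p` -/
theorem not_dvd_index_of_defectClass {G : Type*} [Group G] [Fintype G] (p : ℕ) [Fact p.Prime]
    (M : Ideal Cfsg.AlgInt) (hM : Cfsg.IsPModular p M) (χ₀ : Cfsg.IrrCharacter G) (d : ℕ)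
    (hd : (χ₀ : G → ℂ) 1 = (d : ℂ)) (hcop : d.Coprime p) (g : G)
    (hg : Cfsg.IsDefectClass M (Cfsg.blockOf M (χ₀ : G → ℂ)) g) :
    ¬ p ∣ (Subgroup.centralizer ({g} : Set G)).index := by
  intro hdvd
  haveI : Fintype (Cfsg.IrrCharacter G) := Fintype.ofFinite _
  have hMp := h7_isPrime_of_isPModular hM
  have h1 : χ₀ ∈ Cfsg.blockOf M (χ₀ : G → ℂ) := h7_sameBlock_refl hMp _
  exact hg.2.2 χ₀ h1 (memLocalIdeal_centralChar_of_dvd hM χ₀ d hd hcop g hdvd)

/-- the Sylow `p`-subgroups are defect groups of the block of a character of degree prime to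
`p` -/
theorem sylow_defect_of_coprime_degree {G : Type*} [Group G] [Fintype G] (p : ℕ) [Fact p.Prime]
    (M : Ideal Cfsg.AlgInt) (hM : Cfsg.IsPModular p M) (χ₀ : Cfsg.IrrCharacter G) (d : ℕ)
    (hd : (χ₀ : G → ℂ) 1 = (d : ℂ)) (hcop : d.Coprime p) (S : Sylow p G) :
    Cfsg.IsDefectGroup p M (Cfsg.blockOf M (χ₀ : G → ℂ)) (S : Subgroup G) := by
  classical
  haveI : Fintype (Cfsg.IrrCharacter G) := Fintype.ofFinite _
  have hMp := h7_isPrime_of_isPModular hM
  obtain ⟨g₀, hg₀⟩ := h7_exists_defect_class hMp χ₀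
  have hidx := not_dvd_index_of_defectClass p M hM χ₀ d hd hcop g₀ hg₀
  obtain ⟨P₀⟩ : Nonempty (Sylow p (Subgroup.centralizer ({g₀} : Set G))) := inferInstance
  obtain ⟨S₀, hS₀⟩ := pb_sylow_of_centralizer p g₀ hidx P₀
  obtain ⟨x, hx⟩ := MulAction.exists_smul_eq G S₀ S
  have hmem : ∀ s ∈ (S : Subgroup G), x⁻¹ * s * x ∈ Subgroup.centralizer ({g₀} : Set G) := by
    intro s hs
    rw [← hx, Sylow.coe_subgroup_smul, Subgroup.mem_smul_pointwise_iff_exists] at hs
    obtain ⟨t, ht, rfl⟩ := hs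
    rw [MulAut.smul_def, MulAut.conj_apply]
    have : x⁻¹ * (x * t * x⁻¹) * x = t := by group
    rw [this]
    rw [hS₀] at ht
    obtain ⟨u, _, rfl⟩ := ht
    exact u.2
  refine ⟨x * g₀ * x⁻¹, pb_defectClass_conj M _ g₀ x hg₀, ?_⟩
  have hle : (S : Subgroup G) ≤ Subgroup.centralizer ({x * g₀ * x⁻¹} : Set G) := by
    intro s hs
    have h1 := hmem s hs
    rw [Subgroup.mem_centralizer_iff] at h1 ⊢
    intro y hy
    rw [Set.mem_singleton_iff] at hy
    subst hy
    have h2 := h1 g₀ rfl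
    have h3 : x * (g₀ * (x⁻¹ * s * x)) * x⁻¹ = x * ((x⁻¹ * s * x) * g₀) * x⁻¹ := by rw [h2]
    calc x * g₀ * x⁻¹ * s = x * (g₀ * (x⁻¹ * s * x)) * x⁻¹ := by group
      _ = x * ((x⁻¹ * s * x) * g₀) * x⁻¹ := h3
      _ = s * (x * g₀ * x⁻¹) := by group
  have hp : IsPGroup p ((S : Subgroup G).subgroupOf
      (Subgroup.centralizer ({x * g₀ * x⁻¹} : Set G))) :=
    S.isPGroup'.comap_of_injective _ (Subgroup.subtype_injective _)
  have hi : ¬ p ∣ ((S : Subgroup G).subgroupOf
      (Subgroup.centralizer ({x * g₀ * x⁻¹} : Set G))).index := by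
    intro h
    apply S.not_dvd_index
    rw [← Subgroup.relIndex_mul_index hle]
    exact Dvd.dvd.mul_right h _
  refine ⟨hp.toSylow hi, ?_⟩
  rw [IsPGroup.toSylow_coe, Subgroup.subgroupOf_map_subtype, inf_eq_left.mpr hle]

end Cfsg.Agent.Lib.helper14
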