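import Mathlib

set_option autoImplicit false
set_option linter.unusedSectionVars false

namespace Cfsg.Agent.Lib.helper14

section
variable {G : Type*} [Group G]

/-- the additive hom `ZMod m → Additive G`, `i ↦ t ^ i`, when `t ^ m = 1` -/
noncomputable def zmodPowHom (m : ℕ) (t : G) (ht : t ^ m = 1) : ZMod m →+ Additive G :=
  ZMod.lift m ⟨zmultiplesHom (Additive G) (Additive.ofMul t), by
    show ((m : ℕ) : ℤ) • Additive.ofMul t = 0
    rw [natCast_zsmul, ← ofMul_pow, ht]
    rfl⟩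

noncomputable def zmodPow (m : ℕ) (t : G) (ht : t ^ m = 1) (i : ZMod m) : G :=
  Additive.toMul (zmodPowHom m t ht i)

theorem zmodPow_add (m : ℕ) (t : G) (ht : t ^ m = 1) (i j : ZMod m) :
    zmodPow m t ht (i + j) = zmodPow m t ht i * zmodPow m t ht j := by
  unfold zmodPow
  rw [map_add]
  rfl

theorem zmodPow_zero (m : ℕ) (t : G) (ht : t ^ m = 1) : zmodPow m t ht 0 = 1 := by
  unfold zmodPow
  rw [map_zero]
  rfl

theorem zmodPow_neg (m : ℕ) (t : G) (ht : t ^ m = 1) (i : ZMod m) :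
    zmodPow m t ht (-i) = (zmodPow m t ht i)⁻¹ := by
  unfold zmodPow
  rw [map_neg]
  rfl

theorem zmodPow_sub (m : ℕ) (t : G) (ht : t ^ m = 1) (i j : ZMod m) :
    zmodPow m t ht (i - j) = zmodPow m t ht i * (zmodPow m t ht j)⁻¹ := by
  rw [sub_eq_add_neg, zmodPow_add, zmodPow_neg]

theorem zmodPow_natCast (m : ℕ) (t : G) (ht : t ^ m = 1) (k : ℕ) :
    zmodPow m t ht (k : ZMod m) = t ^ k := by
  unfold zmodPow zmodPowHom
  have h1 : ((k : ℕ) : ZMod m) = ((k : ℤ) : ZMod m) := by push_cast; rfl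
  rw [h1, ZMod.lift_coe]
  show Additive.toMul (((k : ℕ) : ℤ) • Additive.ofMul t) = t ^ k
  rw [natCast_zsmul, ← ofMul_pow]
  rfl

theorem zmodPow_eq_pow (m : ℕ) [NeZero m] (t : G) (ht : t ^ m = 1) (i : ZMod m) :
    zmodPow m t ht i = t ^ i.val := by
  rw [← zmodPow_natCast m t ht i.val, ZMod.natCast_zmod_val]

theorem zmodPow_comm (m : ℕ) (t : G) (ht : t ^ m = 1) (i j : ZMod m) :
    zmodPow m t ht i * zmodPow m t ht j = zmodPow m t ht j * zmodPow m t ht i := by
  rw [← zmodPow_add, ← zmodPow_add, add_comm]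

theorem zmodPow_eq_one (m : ℕ) [NeZero m] (t : G) (ht : t ^ m = 1) (hord : orderOf t = m) (i : ZMod m)
    (h : zmodPow m t ht i = 1) : i = 0 := by
  rw [zmodPow_eq_pow] at h
  have h1 := orderOf_dvd_of_pow_eq_one h
  rw [hord] at h1
  have h2 : i.val < m := ZMod.val_lt i
  have h3 : i.val = 0 := Nat.eq_zero_of_dvd_of_lt h1 h2
  exact (ZMod.val_eq_zero i).mp h3

theorem exists_quatHom (n : ℕ) (hn : 1 ≤ n) (t w : G)
    (hord : orderOf t = 2 * n) (hw : w * w = t ^ n) (hwt : w * t * w⁻¹ = t⁻¹) :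
    ∃ ψ : QuaternionGroup n →* G, Function.Injective ψ ∧ ψ (QuaternionGroup.a 1) = t ∧
      ψ (QuaternionGroup.xa 0) = w := by
  haveI : NeZero n := ⟨by omega⟩
  haveI : NeZero (2 * n) := ⟨by omega⟩
  have ht : t ^ (2 * n) = 1 := by rw [← hord]; exact pow_orderOf_eq_one t
  have hconj : ∀ i : ZMod (2 * n), zmodPow (2 * n) t ht i * w = w * zmodPow (2 * n) t ht (-i) := by
    intro i
    rw [zmodPow_neg, zmodPow_eq_pow]
    have h1 : w * t ^ i.val * w⁻¹ = (t ^ i.val)⁻¹ := by
      rw [← conj_pow, hwt, inv_pow]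
    obtain ⟨x, hx⟩ : ∃ x, t ^ i.val = x := ⟨_, rfl⟩
    rw [hx] at h1 ⊢
    calc x * w = (w * x * w⁻¹)⁻¹ * w := by rw [h1, inv_inv]
      _ = w * x⁻¹ := by group
  have hn' : zmodPow (2 * n) t ht (n : ZMod (2 * n)) = t ^ n := zmodPow_natCast _ _ _ _
  let ψf : QuaternionGroup n → G := fun x =>
    match x with
    | QuaternionGroup.a i => zmodPow (2 * n) t ht i
    | QuaternionGroup.xa i => w * zmodPow (2 * n) t ht i
  have hmul : ∀ x y, ψf (x * y) = ψf x * ψf y := by
    rintro (i | i) (j | j)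
    · rw [QuaternionGroup.a_mul_a]
      exact zmodPow_add _ _ _ _ _
    · rw [QuaternionGroup.a_mul_xa]
      show w * zmodPow (2 * n) t ht (j - i) = zmodPow (2 * n) t ht i * (w * zmodPow (2 * n) t ht j)
      rw [← mul_assoc, hconj, mul_assoc, ← zmodPow_add, neg_add_eq_sub]
    · rw [QuaternionGroup.xa_mul_a]
      show w * zmodPow (2 * n) t ht (i + j) = w * zmodPow (2 * n) t ht i * zmodPow (2 * n) t ht j
      rw [zmodPow_add, mul_assoc]
    · rw [QuaternionGroup.xa_mul_xa]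
      show zmodPow (2 * n) t ht ((n : ZMod (2 * n)) + j - i) =
        w * zmodPow (2 * n) t ht i * (w * zmodPow (2 * n) t ht j)
      rw [mul_assoc w, ← mul_assoc (zmodPow (2 * n) t ht i), hconj, mul_assoc w, ← mul_assoc w, hw, ← hn',
        ← zmodPow_add, ← zmodPow_add]
      congr 1
      ring
  let ψ : QuaternionGroup n →* G := MonoidHom.mk' ψf hmul
  have hψ : Function.Injective ψ := by
    rw [injective_iff_map_eq_one]
    rintro (i | i) hx
    · have hx' : zmodPow (2 * n) t ht i = 1 := hx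
      rw [zmodPow_eq_one (2 * n) t ht hord i hx', QuaternionGroup.a_zero]
    · exfalso
      have hx' : w * zmodPow (2 * n) t ht i = 1 := hx
      have hw' : w = zmodPow (2 * n) t ht (-i) := by
        rw [zmodPow_neg]
        exact eq_inv_of_mul_eq_one_left hx'
      obtain ⟨k, hk⟩ : ∃ k : ℕ, w = t ^ k := ⟨_, hw'.trans (zmodPow_eq_pow _ _ _ _)⟩
      have hcomm : w * t = t * w := by
        rw [hk, ← pow_succ, ← pow_succ']
      have htt : t = t⁻¹ := by
        rw [← hwt, hcomm, mul_inv_cancel_right]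
      have htt' : t * t = 1 := by
        nth_rewrite 2 [htt]
        exact mul_inv_cancel t
      have h2 : orderOf t ∣ 2 := orderOf_dvd_of_pow_eq_one (by rw [pow_two]; exact htt')
      rw [hord] at h2
      have hn1 : n = 1 := by
        have := Nat.le_of_dvd (by norm_num) h2
        omega
      have hww : w * w = 1 := by
        rw [hk, ← pow_add, ← two_mul, pow_mul, pow_two, htt', one_pow]
      rw [hww, hn1, pow_one] at hw
      rw [← hw, orderOf_one, hn1] at hord
      omega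
  refine ⟨ψ, hψ, ?_, ?_⟩
  · show zmodPow (2 * n) t ht 1 = t
    have := zmodPow_natCast (2 * n) t ht 1
    rwa [Nat.cast_one, pow_one] at this
  · show w * zmodPow (2 * n) t ht 0 = w
    rw [zmodPow_zero, mul_one]

theorem exists_quaternion_subgroup (n : ℕ) (hn : 1 ≤ n) (t w : G)
    (hord : orderOf t = 2 * n) (hw : w * w = t ^ n) (hwt : w * t * w⁻¹ = t⁻¹) :
    ∃ S : Subgroup G, Nat.card S = 4 * n ∧ t ∈ S ∧ w ∈ S ∧ Nonempty (S ≃* QuaternionGroup n) := by
  haveI : NeZero n := ⟨by omega⟩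
  obtain ⟨ψ, hψ, h1, h2⟩ := exists_quatHom n hn t w hord hw hwt
  refine ⟨ψ.range, ?_, ⟨_, h1⟩, ⟨_, h2⟩, ⟨(MonoidHom.ofInjective hψ).symm⟩⟩
  rw [← Nat.card_congr (MonoidHom.ofInjective hψ).toEquiv, Nat.card_eq_fintype_card, QuaternionGroup.card]

theorem quaternionGroup_closure (n : ℕ) [NeZero n] :
    Subgroup.closure ({QuaternionGroup.a 1, QuaternionGroup.xa 0} : Set (QuaternionGroup n)) = ⊤ := by
  rw [eq_top_iff]
  have ha : ∀ i : ZMod (2 * n), QuaternionGroup.a i ∈
      Subgroup.closure ({QuaternionGroup.a 1, QuaternionGroup.xa 0} : Set (QuaternionGroup n)) := by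
    intro i
    have h1 : (QuaternionGroup.a 1 : QuaternionGroup n) ^ i.val = QuaternionGroup.a i := by
      rw [QuaternionGroup.a_one_pow, ZMod.natCast_zmod_val]
    rw [← h1]
    exact Subgroup.pow_mem _ (Subgroup.subset_closure (by simp)) _
  rintro (i | i) -
  · exact ha i
  · have h1 : (QuaternionGroup.xa i : QuaternionGroup n) = QuaternionGroup.xa 0 * QuaternionGroup.a i := by
      rw [QuaternionGroup.xa_mul_a, zero_add]
    rw [h1]
    exact Subgroup.mul_mem _ (Subgroup.subset_closure (by simp)) (ha i)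

theorem quaternion_closure (n : ℕ) (hn : 1 ≤ n) (t w : G)
    (hord : orderOf t = 2 * n) (hw : w * w = t ^ n) (hwt : w * t * w⁻¹ = t⁻¹) :
    Nat.card (Subgroup.closure ({t, w} : Set G)) = 4 * n ∧
      Nonempty (Subgroup.closure ({t, w} : Set G) ≃* QuaternionGroup n) := by
  haveI : NeZero n := ⟨by omega⟩
  obtain ⟨ψ, hψ, h1, h2⟩ := exists_quatHom n hn t w hord hw hwt
  have hrange : ψ.range = Subgroup.closure ({t, w} : Set G) := by
    rw [MonoidHom.range_eq_map, ← quaternionGroup_closure n, MonoidHom.map_closure, Set.image_pair, h1, h2]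
  rw [← hrange]
  refine ⟨?_, ⟨(MonoidHom.ofInjective hψ).symm⟩⟩
  rw [← Nat.card_congr (MonoidHom.ofInjective hψ).toEquiv, Nat.card_eq_fintype_card, QuaternionGroup.card]

end

end Cfsg.Agent.Lib.helper14
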