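import Mathlib
import Cfsg.Agent.Lib.helper14.Mat2

set_option autoImplicit false
set_option linter.unusedSectionVars false

namespace Cfsg.Agent.Lib.helper14

open scoped LinearAlgebra.Projectivization

section
variable {F : Type*} [Field F]

local notation "V2" => Fin 2 → F
local notation "P1" => Projectivization F (Fin 2 → F)
local notation "M2" => Matrix (Fin 2) (Fin 2) F

def cross (v w : V2) : F := v 0 * w 1 - v 1 * w 0

theorem vec_eta (v : V2) : v = ![v 0, v 1] := by
  ext i; fin_cases i <;> rfl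

theorem vec_ne_zero_iff (v : V2) : v ≠ 0 ↔ v 0 ≠ 0 ∨ v 1 ≠ 0 := by
  constructor
  · intro h
    by_contra hc
    push_neg at hc
    apply h
    ext i; fin_cases i
    · exact hc.1
    · exact hc.2
  · rintro (h | h) h0
    · apply h; rw [h0]; rfl
    · apply h; rw [h0]; rfl

theorem mk_eq_mk_iff_cross (v w : V2) (hv : v ≠ 0) (hw : w ≠ 0) :
    Projectivization.mk F v hv = Projectivization.mk F w hw ↔ cross v w = 0 := by
  rw [Projectivization.mk_eq_mk_iff' F v w hv hw]
  constructor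
  · rintro ⟨a, rfl⟩
    simp only [cross, Pi.smul_apply, smul_eq_mul]
    ring
  · intro h
    unfold cross at h
    rcases (vec_ne_zero_iff w).mp hw with h0 | h1
    · refine ⟨v 0 / w 0, ?_⟩
      have : ∀ i : Fin 2, ((v 0 / w 0) • w) i = v i := by
        rw [Fin.forall_fin_two]
        constructor
        · simp only [Pi.smul_apply, smul_eq_mul]
          field_simp
        · simp only [Pi.smul_apply, smul_eq_mul]
          field_simp
          linear_combination h
      exact funext this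
    · refine ⟨v 1 / w 1, ?_⟩
      have : ∀ i : Fin 2, ((v 1 / w 1) • w) i = v i := by
        rw [Fin.forall_fin_two]
        constructor
        · simp only [Pi.smul_apply, smul_eq_mul]
          field_simp
          linear_combination (-1 : F) * h
        · simp only [Pi.smul_apply, smul_eq_mul]
          field_simp
      exact funext this

theorem e0_ne : (![1, 0] : V2) ≠ 0 := by
  rw [vec_ne_zero_iff]; left; simp

theorem e1_ne : (![0, 1] : V2) ≠ 0 := by
  rw [vec_ne_zero_iff]; right; simp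

theorem e2_ne : (![1, 1] : V2) ≠ 0 := by
  rw [vec_ne_zero_iff]; left; simp

def pt0 : P1 := Projectivization.mk F ![1, 0] e0_ne
def pt1 : P1 := Projectivization.mk F ![0, 1] e1_ne
def pt2 : P1 := Projectivization.mk F ![1, 1] e2_ne

theorem gl_smul_vec (g : GL (Fin 2) F) (v : V2) :
    g • v = ![(g : M2) 0 0 * v 0 + (g : M2) 0 1 * v 1, (g : M2) 1 0 * v 0 + (g : M2) 1 1 * v 1] := by
  rw [Units.smul_def, Matrix.smul_eq_mulVec]
  ext i; fin_cases i
  · simp [Matrix.mulVec, dotProduct, Fin.sum_univ_two]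
  · simp [Matrix.mulVec, dotProduct, Fin.sum_univ_two]

theorem gl_smul_ne (g : GL (Fin 2) F) (v : V2) (hv : v ≠ 0) : g • v ≠ 0 :=
  (smul_ne_zero_iff_ne g).mpr hv

/-- `g • [v] = [w]` in terms of the cross product -/
theorem gl_smul_mk_eq_iff (g : GL (Fin 2) F) (v w : V2) (hv : v ≠ 0) (hw : w ≠ 0) :
    g • Projectivization.mk F v hv = Projectivization.mk F w hw ↔
      ((g : M2) 0 0 * v 0 + (g : M2) 0 1 * v 1) * w 1 - ((g : M2) 1 0 * v 0 + (g : M2) 1 1 * v 1) * w 0 = 0 := by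
  rw [Projectivization.smul_mk, mk_eq_mk_iff_cross]
  unfold cross
  rw [gl_smul_vec]
  simp

/-- every triple of distinct points is the image of the standard triple under `GL₂` -/
theorem exists_gl_std (a b c : P1) (hab : a ≠ b) (hac : a ≠ c) (hbc : b ≠ c) :
    ∃ g : GL (Fin 2) F, g • (pt0 : P1) = a ∧ g • (pt1 : P1) = b ∧ g • (pt2 : P1) = c := by
  induction a using Projectivization.ind with | h v1 hv1 => ?_
  induction b using Projectivization.ind with | h v2 hv2 => ?_
  induction c using Projectivization.ind with | h v3 hv3 => ?_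
  have hD : cross v1 v2 ≠ 0 := fun h => hab ((mk_eq_mk_iff_cross v1 v2 hv1 hv2).mpr h)
  have hα : cross v3 v2 ≠ 0 := fun h => hbc ((mk_eq_mk_iff_cross v3 v2 hv3 hv2).mpr h).symm
  have hβ : cross v1 v3 ≠ 0 := fun h => hac ((mk_eq_mk_iff_cross v1 v3 hv1 hv3).mpr h)
  have hdet : (!![cross v3 v2 * v1 0, cross v1 v3 * v2 0; cross v3 v2 * v1 1, cross v1 v3 * v2 1] : M2).det ≠ 0 := by
    rw [Matrix.det_fin_two_of]
    have : cross v3 v2 * v1 0 * (cross v1 v3 * v2 1) - cross v1 v3 * v2 0 * (cross v3 v2 * v1 1) =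
        cross v3 v2 * cross v1 v3 * cross v1 v2 := by
      simp only [cross]; ring
    rw [this]
    exact mul_ne_zero (mul_ne_zero hα hβ) hD
  refine ⟨Matrix.GeneralLinearGroup.mkOfDetNeZero _ hdet, ?_, ?_, ?_⟩
  · unfold pt0
    rw [gl_smul_mk_eq_iff]
    show ((!![cross v3 v2 * v1 0, cross v1 v3 * v2 0; cross v3 v2 * v1 1, cross v1 v3 * v2 1] : M2) 0 0 * (![1, 0] : V2) 0 +
      (!![cross v3 v2 * v1 0, cross v1 v3 * v2 0; cross v3 v2 * v1 1, cross v1 v3 * v2 1] : M2) 0 1 * (![1, 0] : V2) 1) * v1 1 -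
      ((!![cross v3 v2 * v1 0, cross v1 v3 * v2 0; cross v3 v2 * v1 1, cross v1 v3 * v2 1] : M2) 1 0 * (![1, 0] : V2) 0 +
      (!![cross v3 v2 * v1 0, cross v1 v3 * v2 0; cross v3 v2 * v1 1, cross v1 v3 * v2 1] : M2) 1 1 * (![1, 0] : V2) 1) * v1 0 = 0
    simp only [Matrix.of_apply, Matrix.cons_val_zero, Matrix.cons_val_one, cross]
    ring
  · unfold pt1
    rw [gl_smul_mk_eq_iff]
    show ((!![cross v3 v2 * v1 0, cross v1 v3 * v2 0; cross v3 v2 * v1 1, cross v1 v3 * v2 1] : M2) 0 0 * (![0, 1] : V2) 0 +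
      (!![cross v3 v2 * v1 0, cross v1 v3 * v2 0; cross v3 v2 * v1 1, cross v1 v3 * v2 1] : M2) 0 1 * (![0, 1] : V2) 1) * v2 1 -
      ((!![cross v3 v2 * v1 0, cross v1 v3 * v2 0; cross v3 v2 * v1 1, cross v1 v3 * v2 1] : M2) 1 0 * (![0, 1] : V2) 0 +
      (!![cross v3 v2 * v1 0, cross v1 v3 * v2 0; cross v3 v2 * v1 1, cross v1 v3 * v2 1] : M2) 1 1 * (![0, 1] : V2) 1) * v2 0 = 0
    simp only [Matrix.of_apply, Matrix.cons_val_zero, Matrix.cons_val_one, cross]
    ring
  · unfold pt2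
    rw [gl_smul_mk_eq_iff]
    show ((!![cross v3 v2 * v1 0, cross v1 v3 * v2 0; cross v3 v2 * v1 1, cross v1 v3 * v2 1] : M2) 0 0 * (![1, 1] : V2) 0 +
      (!![cross v3 v2 * v1 0, cross v1 v3 * v2 0; cross v3 v2 * v1 1, cross v1 v3 * v2 1] : M2) 0 1 * (![1, 1] : V2) 1) * v3 1 -
      ((!![cross v3 v2 * v1 0, cross v1 v3 * v2 0; cross v3 v2 * v1 1, cross v1 v3 * v2 1] : M2) 1 0 * (![1, 1] : V2) 0 +
      (!![cross v3 v2 * v1 0, cross v1 v3 * v2 0; cross v3 v2 * v1 1, cross v1 v3 * v2 1] : M2) 1 1 * (![1, 1] : V2) 1) * v3 0 = 0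
    simp only [Matrix.of_apply, Matrix.cons_val_zero, Matrix.cons_val_one, cross]
    ring

/-- an element of `GL₂` fixing the three standard points is scalar -/
theorem scalar_of_fix_std (g : GL (Fin 2) F) (h0 : g • (pt0 : P1) = pt0) (h1 : g • (pt1 : P1) = pt1)
    (h2 : g • (pt2 : P1) = pt2) : (g : M2) 1 0 = 0 ∧ (g : M2) 0 1 = 0 ∧ (g : M2) 0 0 = (g : M2) 1 1 := by
  unfold pt0 at h0
  unfold pt1 at h1
  unfold pt2 at h2
  rw [gl_smul_mk_eq_iff] at h0 h1 h2
  simp only [Matrix.cons_val_zero, Matrix.cons_val_one, mul_one, mul_zero, add_zero, zero_add, sub_zero,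
    zero_sub, neg_eq_zero] at h0 h1 h2
  refine ⟨h0, h1, ?_⟩
  rw [h0, h1] at h2
  linear_combination h2

end

end Cfsg.Agent.Lib.helper14
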