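import Mathlib
import Cfsg.Agent.Lib.helper14.BGL.SPDefs
import Cfsg.Agent.Lib.helper14.BGL.SPDefs2

/-! Project BGL, block SP (helper14), row X0: coordinate basics. VERBATIM. -/

set_option autoImplicit false

namespace Cfsg.Agent.Lib.helper14.BGLSP

open Cfsg.Lie Cfsg.Lie.ChevalleyDatum Cfsg.Agent.Lib.helper8 Cfsg.Agent.Lib.Helper10.BGL Matrix

universe u

variable {K : Type u} [Field K] (D : ChevalleyDatum)

/-- X0 [S] -/
theorem rc_of_lt {s : ℕ} (hs : s < D.nroots) (w : D.Idx → K) : rc D w s = w (Sum.inr ⟨s, hs⟩) := by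
  unfold rc; rw [dif_pos hs]

theorem re_of_lt {s : ℕ} (hs : s < D.nroots) : re D K s = Pi.single (Sum.inr ⟨s, hs⟩) 1 := by
  unfold re; rw [dif_pos hs]

theorem he_of_lt {i : ℕ} (hi : i < D.rank) : he D K i = Pi.single (Sum.inl ⟨i, hi⟩) 1 := by
  unfold he; rw [dif_pos hi]

theorem hc_of_lt {i : ℕ} (hi : i < D.rank) (w : D.Idx → K) : hc D w i = w (Sum.inl ⟨i, hi⟩) := by
  unfold hc; rw [dif_pos hi]

theorem rc_re {s : ℕ} (hs : s < D.nroots) (u : ℕ) : rc D (re D K s) u = if u = s then 1 else 0 := by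
  unfold rc
  by_cases hu : u < D.nroots
  · rw [dif_pos hu, re_of_lt D hs, Pi.single_apply]
    by_cases h : u = s
    · subst h; rw [if_pos rfl, if_pos rfl]
    · rw [if_neg h, if_neg]
      intro e
      exact h (congrArg Fin.val (Sum.inr.inj e))
  · rw [dif_neg hu, if_neg]
    intro e; exact hu (e ▸ hs)

theorem rc_he (i u : ℕ) : rc D (he D K i) u = 0 := by
  unfold rc he
  by_cases hu : u < D.nroots
  · rw [dif_pos hu]
    by_cases hi : i < D.rank
    · rw [dif_pos hi, Pi.single_apply, if_neg (by simp)]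
    · rw [dif_neg hi]; rfl
  · rw [dif_neg hu]

theorem rc_hvec (s u : ℕ) : rc D (hvec D K s) u = 0 := by
  unfold rc hvec
  by_cases hu : u < D.nroots
  · rw [dif_pos hu]; rfl
  · rw [dif_neg hu]

theorem rc_add (w w' : D.Idx → K) (s : ℕ) : rc D (w + w') s = rc D w s + rc D w' s := by
  unfold rc
  by_cases hs : s < D.nroots
  · rw [dif_pos hs, dif_pos hs, dif_pos hs, Pi.add_apply]
  · rw [dif_neg hs, dif_neg hs, dif_neg hs, add_zero]

theorem rc_sub (w w' : D.Idx → K) (s : ℕ) : rc D (w - w') s = rc D w s - rc D w' s := by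
  unfold rc
  by_cases hs : s < D.nroots
  · rw [dif_pos hs, dif_pos hs, dif_pos hs, Pi.sub_apply]
  · rw [dif_neg hs, dif_neg hs, dif_neg hs, sub_zero]

theorem rc_smul (c : K) (w : D.Idx → K) (s : ℕ) : rc D (c • w) s = c * rc D w s := by
  unfold rc
  by_cases hs : s < D.nroots
  · rw [dif_pos hs, dif_pos hs, Pi.smul_apply, smul_eq_mul]
  · rw [dif_neg hs, dif_neg hs, mul_zero]

theorem alpha_add (s : ℕ) (w w' : D.Idx → K) : alpha D s (w + w') = alpha D s w + alpha D s w' := by
  unfold alpha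
  simp only [Pi.add_apply, mul_add, Finset.sum_add_distrib]

theorem alpha_smul (s : ℕ) (c : K) (w : D.Idx → K) : alpha D s (c • w) = c * alpha D s w := by
  unfold alpha
  rw [Finset.mul_sum]
  refine Finset.sum_congr rfl fun i _ => ?_
  rw [Pi.smul_apply, smul_eq_mul]; ring

/-- the vector `hvec` is the combination of the `he` -/
theorem hvec_eq_sum (s : ℕ) : hvec D K s = ∑ i : Fin D.rank, ((cor D s i.val : ℤ) : K) • he D K i.val := by
  funext c
  rw [Finset.sum_apply]
  rcases c with j | v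
  · rw [Finset.sum_eq_single j]
    · rw [Pi.smul_apply, he_of_lt D j.2, Pi.single_eq_same, smul_eq_mul, mul_one]
      rfl
    · intro b _ hb
      rw [Pi.smul_apply, he_of_lt D b.2, Pi.single_apply, if_neg, smul_zero]
      intro e
      exact hb (Sum.inl.inj e).symm
    · intro h; exact absurd (Finset.mem_univ _) h
  · rw [Finset.sum_eq_zero]
    · rfl
    · intro b _
      rw [Pi.smul_apply, he_of_lt D b.2, Pi.single_apply, if_neg (by simp), smul_zero]

/-- a vector is determined by its coordinates -/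
theorem ext_rc_hc {w w' : D.Idx → K} (h1 : ∀ i : Fin D.rank, w (Sum.inl i) = w' (Sum.inl i))
    (h2 : ∀ s < D.nroots, rc D w s = rc D w' s) : w = w' := by
  funext c
  rcases c with i | s
  · exact h1 i
  · have := h2 s.val s.2
    rw [rc_of_lt D s.2, rc_of_lt D s.2] at this
    exact this

end Cfsg.Agent.Lib.helper14.BGLSP
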