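import Mathlib
import Cfsg.Agent.Lib.helper14.BGL.SPDefs
import Cfsg.Agent.Lib.helper14.BGL.SPDefs2
import Cfsg.Agent.Lib.helper14.BGLSPX0

/-! Project BGL, block SP (helper14), rows X1 X2 X3: the clean columns `h_i`, `e_{−r}` and the clean row `h_i` of `x_r(t)`. VERBATIM.
Extras: `bglspx1_x_eq`, entry lemmas `bglspx1_col_inl_inl`, `bglspx1_col_inl_inr`, `bglspx1_col_neg_inl`, `bglspx1_col_neg_inr`, `bglspx1_row_inl_inr`. -/

set_option autoImplicit false

namespace Cfsg.Agent.Lib.helper14.BGLSP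

open Cfsg.Lie Cfsg.Lie.ChevalleyDatum Cfsg.Agent.Lib.helper8 Cfsg.Agent.Lib.Helper10.BGL Matrix

universe u

variable {K : Type u} [Field K] (D : ChevalleyDatum)

theorem bglspx1_x_eq {r : ℕ} (hr : r < D.nroots) (t : K) : D.x K r t = D.xMat K ⟨r, hr⟩ t := by
  unfold ChevalleyDatum.x; rw [dif_pos hr]

/-- the entries of the column `h_i` -/
theorem bglspx1_col_inl_inl {r : ℕ} (hr : r < D.nroots) (t : K) (i i' : Fin D.rank) :
    D.xMat K ⟨r, hr⟩ t (Sum.inl i') (Sum.inl i) = if i' = i then 1 else 0 := rfl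

theorem bglspx1_col_inl_inr {r : ℕ} (hr : r < D.nroots) (t : K) (i : Fin D.rank) (u : Fin D.nroots) :
    D.xMat K ⟨r, hr⟩ t (Sum.inr u) (Sum.inl i) =
      if u = ⟨r, hr⟩ then - (((D.cartan i.val r : ℤ)) : K) * t else 0 := rfl

/-- X1 [S-M]  column `h_i`: `x_r(t) h_i = h_i − A_{p_i,r} t e_r`. -/
theorem x_mulVec_he {r : ℕ} (hr : r < D.nroots) (t : K) {i : ℕ} (hi : i < D.rank) :
    D.x K r t *ᵥ he D K i = he D K i - (((D.cartan i r : ℤ) : K) * t) • re D K r := by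
  rw [bglspx1_x_eq D hr, he_of_lt D hi, re_of_lt D hr, Matrix.mulVec_single_one]
  funext row
  show D.xMat K ⟨r, hr⟩ t row (Sum.inl ⟨i, hi⟩) = _
  rw [Pi.sub_apply, Pi.smul_apply, smul_eq_mul]
  rcases row with i' | u
  · rw [bglspx1_col_inl_inl, Pi.single_apply, Pi.single_apply,
      if_neg (Sum.inl_ne_inr : (Sum.inl i' : D.Idx) ≠ Sum.inr ⟨r, hr⟩), mul_zero, sub_zero]
    by_cases h : i' = ⟨i, hi⟩
    · rw [if_pos h, if_pos (by rw [h])]
    · rw [if_neg h, if_neg (fun e => h (Sum.inl.inj e))]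
  · rw [bglspx1_col_inl_inr, Pi.single_apply, Pi.single_apply,
      if_neg (Sum.inr_ne_inl : (Sum.inr u : D.Idx) ≠ Sum.inl ⟨i, hi⟩), zero_sub]
    by_cases h : u = ⟨r, hr⟩
    · rw [if_pos h, if_pos (by rw [h]), mul_one, neg_mul]
    · rw [if_neg h, if_neg (fun e => h (Sum.inr.inj e)), mul_zero, neg_zero]

/-- the entries of the column `e_{−r}` -/
theorem bglspx1_col_neg_inl {r : ℕ} (hr : r < D.nroots) (t : K) (s : Fin D.nroots) (hs : s ≠ ⟨r, hr⟩)
    (hsn : s.val = D.negIdx.getD r 0) (i : Fin D.rank) :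
    D.xMat K ⟨r, hr⟩ t (Sum.inl i) (Sum.inr s) = ((cor D r i.val : ℤ) : K) * t := by
  show (if s = ⟨r, hr⟩ then _ else if s.val = D.negIdx.getD r 0 then _ else _) = _
  rw [if_neg hs, if_pos hsn]
  rfl

theorem bglspx1_col_neg_inr {r : ℕ} (hr : r < D.nroots) (t : K) (s : Fin D.nroots) (hs : s ≠ ⟨r, hr⟩)
    (hsn : s.val = D.negIdx.getD r 0) (u : Fin D.nroots) :
    D.xMat K ⟨r, hr⟩ t (Sum.inr u) (Sum.inr s) = if u = s then 1 else if u = ⟨r, hr⟩ then -(t ^ 2) else 0 := by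
  show (if s = ⟨r, hr⟩ then _ else if s.val = D.negIdx.getD r 0 then _ else _) = _
  rw [if_neg hs, if_pos hsn]

/-- X2 [S-M]  column `e_{−r}`: `x_r(t) e_{−r} = e_{−r} + t h_r − t² e_r`. -/
theorem x_mulVec_re_neg {r : ℕ} (hr : r < D.nroots) (hnr : D.neg r < D.nroots) (hne : D.neg r ≠ r) (t : K) :
    D.x K r t *ᵥ re D K (D.neg r) = re D K (D.neg r) + t • hvec D K r - t ^ 2 • re D K r := by
  rw [bglspx1_x_eq D hr, re_of_lt D hnr, re_of_lt D hr, Matrix.mulVec_single_one]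
  have hs : (⟨D.neg r, hnr⟩ : Fin D.nroots) ≠ ⟨r, hr⟩ := fun e => hne (congrArg Fin.val e)
  funext row
  show D.xMat K ⟨r, hr⟩ t row (Sum.inr ⟨D.neg r, hnr⟩) = _
  rw [Pi.sub_apply, Pi.add_apply, Pi.smul_apply, Pi.smul_apply, smul_eq_mul, smul_eq_mul]
  rcases row with i | u
  · rw [bglspx1_col_neg_inl D hr t _ hs rfl, Pi.single_apply, Pi.single_apply,
      if_neg (Sum.inl_ne_inr : (Sum.inl i : D.Idx) ≠ Sum.inr ⟨D.neg r, hnr⟩),
      if_neg (Sum.inl_ne_inr : (Sum.inl i : D.Idx) ≠ Sum.inr ⟨r, hr⟩), mul_zero, sub_zero, zero_add]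
    show _ = t * ((cor D r i.val : ℤ) : K)
    ring
  · rw [bglspx1_col_neg_inr D hr t _ hs rfl, Pi.single_apply, Pi.single_apply]
    have hv : hvec D K r (Sum.inr u) = 0 := rfl
    rw [hv, mul_zero, add_zero]
    by_cases h1 : u = ⟨D.neg r, hnr⟩
    · have h2 : u ≠ ⟨r, hr⟩ := by rw [h1]; exact hs
      rw [if_pos h1, if_pos (by rw [h1]), if_neg (fun e => h2 (Sum.inr.inj e)), mul_zero, sub_zero]
    · rw [if_neg h1, if_neg (fun e => h1 (Sum.inr.inj e)), zero_sub]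
      by_cases h2 : u = ⟨r, hr⟩
      · rw [if_pos h2, if_pos (by rw [h2]), mul_one]
      · rw [if_neg h2, if_neg (fun e => h2 (Sum.inr.inj e)), mul_zero, neg_zero]

/-- the entries of the row `h_i` at the root columns -/
theorem bglspx1_row_inl_inr {r : ℕ} (hr : r < D.nroots) (t : K) (i : Fin D.rank) (s : Fin D.nroots) :
    D.xMat K ⟨r, hr⟩ t (Sum.inl i) (Sum.inr s) =
      if s = ⟨r, hr⟩ then 0 else if s.val = D.negIdx.getD r 0 then ((cor D r i.val : ℤ) : K) * t else 0 := by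
  show (if s = ⟨r, hr⟩ then _ else if s.val = D.negIdx.getD r 0 then _ else _) = _
  split_ifs <;> rfl

/-- X3 [S-M]  row `h_i`: `(x_r(t) w)_i = w_i + c_i(r) t w_{−r}`. -/
theorem x_mulVec_inl {r : ℕ} (hr : r < D.nroots) (hne : D.neg r ≠ r) (t : K) (w : D.Idx → K) (i : Fin D.rank) :
    (D.x K r t *ᵥ w) (Sum.inl i) = w (Sum.inl i) + ((cor D r i.val : ℤ) : K) * t * rc D w (D.neg r) := by
  rw [bglspx1_x_eq D hr]
  show ∑ j, D.xMat K ⟨r, hr⟩ t (Sum.inl i) j * w j = _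
  rw [Fintype.sum_sum_type]
  congr 1
  · rw [Finset.sum_eq_single i]
    · rw [bglspx1_col_inl_inl, if_pos rfl, one_mul]
    · intro b _ hb
      rw [bglspx1_col_inl_inl, if_neg (Ne.symm hb), zero_mul]
    · intro h; exact absurd (Finset.mem_univ _) h
  · by_cases hnr : D.neg r < D.nroots
    · rw [rc_of_lt D hnr, Finset.sum_eq_single (⟨D.neg r, hnr⟩ : Fin D.nroots)]
      · rw [bglspx1_row_inl_inr, if_neg (fun e => hne (congrArg Fin.val e)),
          if_pos (show (⟨D.neg r, hnr⟩ : Fin D.nroots).val = D.negIdx.getD r 0 from rfl)]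
      · intro b _ hb
        rw [bglspx1_row_inl_inr]
        split_ifs with h1 h2
        · rw [zero_mul]
        · exact absurd (Fin.ext h2) hb
        · rw [zero_mul]
      · intro h; exact absurd (Finset.mem_univ _) h
    · have : rc D w (D.neg r) = 0 := by unfold rc; rw [dif_neg hnr]
      rw [this, mul_zero]
      apply Finset.sum_eq_zero
      intro b _
      rw [bglspx1_row_inl_inr]
      split_ifs with h1 h2
      · rw [zero_mul]
      · exfalso; apply hnr; show D.negIdx.getD r 0 < D.nroots; rw [← h2]; exact b.2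
      · rw [zero_mul]

end Cfsg.Agent.Lib.helper14.BGLSP
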