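import Mathlib
import Cfsg.Agent.Lib.helper14.GL2Sylow

set_option autoImplicit false
set_option linter.unusedSectionVars false

namespace Cfsg.Agent.Lib.helper14

/-- if a cyclic subgroup `T` has index prime to `r`, every `r`-group embedding in `G` is cyclic -/
theorem isCyclic_of_injective_of_cyclic_index {G : Type*} [Group G] [Finite G] {r : ℕ} [Fact r.Prime]
    (T : Subgroup G) [IsCyclic T] (hT : ¬ r ∣ T.index) {R : Type*} [Group R] (hR : IsPGroup r R)
    (f : R →* G) (hf : Function.Injective f) : IsCyclic R := by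
  have hr : r.Prime := Fact.out
  let S : Sylow r T := default
  have hS' : IsPGroup r ((S : Subgroup T).map T.subtype) := S.isPGroup'.map _
  have hidx : ¬ r ∣ ((S : Subgroup T).map T.subtype).index := by
    rw [Subgroup.index_map_subtype]
    intro h
    rcases (Nat.Prime.dvd_mul hr).mp h with h | h
    · exact S.not_dvd_index h
    · exact hT h
  let P0 : Sylow r G := hS'.toSylow hidx
  have hrange : IsPGroup r f.range := hR.of_surjective f.rangeRestrict f.rangeRestrict_surjective
  obtain ⟨P, hP⟩ := hrange.exists_le_sylow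
  obtain ⟨g, hg⟩ := sylow_conj_mem P0 P
  have hmem : ∀ x : R, g⁻¹ * f x * g ∈ T := by
    intro x
    have h1 : f x ∈ P := hP ⟨x, rfl⟩
    have h2 : g⁻¹ * f x * g ∈ P0 := (hg _).mp h1
    obtain ⟨y, -, hy⟩ := Subgroup.mem_map.mp (show g⁻¹ * f x * g ∈ (S : Subgroup T).map T.subtype from h2)
    rw [← hy]
    exact y.2
  let ψ : R →* T := ((MulAut.conj g⁻¹).toMonoidHom.comp f).codRestrict T (fun x => by
    show g⁻¹ * f x * g⁻¹⁻¹ ∈ T
    rw [inv_inv]
    exact hmem x)
  have hψ : Function.Injective ψ := by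
    intro x y hxy
    have h1 := congrArg Subtype.val hxy
    have h2 : g⁻¹ * f x * g⁻¹⁻¹ = g⁻¹ * f y * g⁻¹⁻¹ := h1
    apply hf
    exact mul_left_cancel (mul_right_cancel h2)
  exact isCyclic_of_injective ψ hψ

end Cfsg.Agent.Lib.helper14
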