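import Mathlib

set_option autoImplicit false
set_option linter.unusedSectionVars false

namespace Cfsg.Agent.Lib.helper14

section
variable {G : Type*} [Group G]

def kleinElt (a b : G) (i j : Bool) : G := (if i then a else 1) * (if j then b else 1)

theorem kleinElt_mul (a b : G) (ha : a * a = 1) (hb : b * b = 1) (hab : a * b = b * a) (i j k l : Bool) :
    kleinElt a b i j * kleinElt a b k l = kleinElt a b (xor i k) (xor j l) := by
  have hba' : ∀ z, b * (a * z) = a * (b * z) := fun z => by rw [← mul_assoc, ← hab, mul_assoc]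
  have haa' : ∀ z, a * (a * z) = z := fun z => by rw [← mul_assoc, ha, one_mul]
  have hbb' : ∀ z, b * (b * z) = z := fun z => by rw [← mul_assoc, hb, one_mul]
  cases i <;> cases j <;> cases k <;> cases l <;>
    simp only [kleinElt, if_true, if_false, Bool.false_eq_true, Bool.xor_false, Bool.xor_true, Bool.not_false,
      Bool.not_true, Bool.false_xor, Bool.true_xor, Bool.xor_self, mul_assoc, one_mul, mul_one, ha, hb, hab.symm,
      hba', haa', hbb']

theorem kleinElt_sq (a b : G) (ha : a * a = 1) (hb : b * b = 1) (hab : a * b = b * a) (i j : Bool) :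
    kleinElt a b i j * kleinElt a b i j = 1 := by
  rw [kleinElt_mul a b ha hb hab, Bool.xor_self, Bool.xor_self]
  simp [kleinElt]

theorem kleinElt_injective (a b : G) (ha : a * a = 1) (hb : b * b = 1) (hab : a * b = b * a)
    (ha1 : a ≠ 1) (hb1 : b ≠ 1) (hne : a ≠ b) :
    Function.Injective (fun x : Bool × Bool => kleinElt a b x.1 x.2) := by
  have key : ∀ i j, kleinElt a b i j = 1 → i = false ∧ j = false := by
    intro i j h
    cases i <;> cases j
    · exact ⟨rfl, rfl⟩
    · simp only [kleinElt, if_true, if_false, Bool.false_eq_true, one_mul] at h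
      exact absurd h hb1
    · simp only [kleinElt, if_true, if_false, Bool.false_eq_true, mul_one] at h
      exact absurd h ha1
    · simp only [kleinElt, if_true] at h
      exfalso
      apply hne
      calc a = a * (b * b) := by rw [hb, mul_one]
        _ = (a * b) * b := by rw [mul_assoc]
        _ = b := by rw [h, one_mul]
  rintro ⟨i, j⟩ ⟨k, l⟩ h
  simp only at h
  have h1 : kleinElt a b i j * kleinElt a b k l = 1 := by
    rw [h]; exact kleinElt_sq a b ha hb hab k l
  rw [kleinElt_mul a b ha hb hab] at h1
  obtain ⟨h2, h3⟩ := key _ _ h1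
  have e1 : i = k := by cases i <;> cases k <;> simp_all
  have e2 : j = l := by cases j <;> cases l <;> simp_all
  rw [e1, e2]

def kleinSubgroup (a b : G) (ha : a * a = 1) (hb : b * b = 1) (hab : a * b = b * a) : Subgroup G where
  carrier := Set.range (fun x : Bool × Bool => kleinElt a b x.1 x.2)
  one_mem' := ⟨(false, false), by simp [kleinElt]⟩
  mul_mem' := by
    rintro _ _ ⟨⟨i, j⟩, rfl⟩ ⟨⟨k, l⟩, rfl⟩
    exact ⟨(xor i k, xor j l), (kleinElt_mul a b ha hb hab i j k l).symm⟩
  inv_mem' := by
    rintro _ ⟨⟨i, j⟩, rfl⟩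
    refine ⟨(i, j), ?_⟩
    exact (inv_eq_of_mul_eq_one_right (kleinElt_sq a b ha hb hab i j)).symm

theorem kleinSubgroup_sq (a b : G) (ha : a * a = 1) (hb : b * b = 1) (hab : a * b = b * a)
    (e : G) (he : e ∈ kleinSubgroup a b ha hb hab) : e * e = 1 := by
  obtain ⟨⟨i, j⟩, rfl⟩ := he
  exact kleinElt_sq a b ha hb hab i j

theorem card_kleinSubgroup (a b : G) (ha : a * a = 1) (hb : b * b = 1) (hab : a * b = b * a)
    (ha1 : a ≠ 1) (hb1 : b ≠ 1) (hne : a ≠ b) : Nat.card (kleinSubgroup a b ha hb hab) = 4 := by
  have : Nat.card (Set.range (fun x : Bool × Bool => kleinElt a b x.1 x.2)) = 4 := by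
    rw [Nat.card_range_of_injective (kleinElt_injective a b ha hb hab ha1 hb1 hne), Nat.card_eq_fintype_card,
      Fintype.card_prod, Fintype.card_bool]
  exact this

/-- a group of order four in which every element squares to one is a Klein four-group -/
theorem isKleinFour_of_card_of_sq {H : Type*} [Group H] (hc : Nat.card H = 4) (hsq : ∀ h : H, h * h = 1) :
    IsKleinFour H := by
  refine ⟨hc, ?_⟩
  have h1 : Monoid.exponent H ∣ 2 := by
    rw [Monoid.exponent_dvd_iff_forall_pow_eq_one]
    intro g
    rw [pow_two]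
    exact hsq g
  rcases (Nat.dvd_prime Nat.prime_two).mp h1 with h | h
  · exfalso
    rw [Monoid.exp_eq_one_iff] at h
    have h1 := Nat.card_of_subsingleton (1 : H)
    omega
  · exact h

end

end Cfsg.Agent.Lib.helper14
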