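import Mathlib
import Cfsg.Prelude.Def_ChevStructure
import Cfsg.Agent.Lib.helper8.ChevOrd4

/-!
# The index filtration `V_k` of the positive unipotent subgroup is normalised by `U`

For a Chevalley datum whose commutator terms of a pair of positive roots `r < s` all have index
larger than `s`, conjugation by `u ∈ U` maps `x_k(a)` into `x_k(a) V_{k+1}`.  Consequences: a
conjugate (by an element of `U`) of a positive root element is never a root element of a different
positive root, and if it is a root element of the same root then the parameters agree.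
-/

set_option autoImplicit false

namespace Cfsg.Agent.Lib.helper14

open Cfsg.Lie Cfsg.Lie.ChevalleyDatum Cfsg.Agent.Lib.helper8

universe u

variable {F : Type u} [Field F]

/-- row check: for the positive root `r` and every `s > r`, every term of the commutator formula
of `(r, s)` has index larger than `s` -/
def cfMaxRow (D : ChevalleyDatum) (r : ℕ) : Bool :=
  !(decide (D.IsPosRoot r)) || (List.range' (r + 1) (D.nroots - (r + 1))).all fun s =>
    (D.commTerms r s).all fun c => decide (s < c.1)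

theorem cfMaxRow_spec (D : ChevalleyDatum) (h : ∀ r < D.nroots, cfMaxRow D r = true)
    (r s : ℕ) (hr : D.IsPosRoot r) (hrs : r < s) (hs : s < D.nroots) :
    ∀ c ∈ D.commTerms r s, s < c.1 := by
  have h1 := h r hr.1
  unfold cfMaxRow at h1
  simp only [hr, decide_true, Bool.not_true, Bool.false_or, List.all_eq_true,
    List.mem_range'_1, decide_eq_true_eq] at h1
  intro c hc
  exact h1 s ⟨by omega, by omega⟩ c hc

/-- `V_{l}` is contained in `V_m` for `m ≤ l` -/
theorem cfVk_anti (D : ChevalleyDatum) (m l : ℕ) (hml : m ≤ l) :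
    Subgroup.closure (h8VkSet D F l) ≤ Subgroup.closure (h8VkSet D F m) := by
  apply Subgroup.closure_mono
  rintro g ⟨r, t, hr, hkr, hg⟩
  exact ⟨r, t, hr, by omega, hg⟩

theorem cfx_mem_Vk (D : ChevalleyDatum) (hB : H8Base.{u} D) (m l : ℕ) (hl : D.IsPosRoot l)
    (hml : m ≤ l) (t : F) : h8xU D hB l t ∈ Subgroup.closure (h8VkSet D F m) :=
  Subgroup.subset_closure ⟨l, t, hl, hml, h8xU_val D hB l t⟩

theorem cfword_mem_Vk (D : ChevalleyDatum) (hB : H8Base.{u} D) (m : ℕ) (w : List (ℕ × F))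
    (hw : ∀ q ∈ w, D.IsPosRoot q.1 ∧ m ≤ q.1) :
    h8wordU D hB w ∈ Subgroup.closure (h8VkSet D F m) := by
  unfold h8wordU
  apply Subgroup.list_prod_mem
  intro g hg
  rw [List.mem_map] at hg
  obtain ⟨q, hq, rfl⟩ := hg
  exact cfx_mem_Vk D hB m q.1 (hw q hq).1 (hw q hq).2 q.2

/-- the hypothesis on commutator terms used below -/
def CfMax (D : ChevalleyDatum) : Prop :=
  ∀ r s, D.IsPosRoot r → D.IsPosRoot s → r < s → ∀ c ∈ D.commTerms r s, s < c.1

/-- conjugating `x_k(a)` by a positive root element stays in `x_k(a) V_{k+1}` -/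
theorem cf_conj_gen (D : ChevalleyDatum) (hB : H8Base.{u} D) (hC : H8CommAll.{u} D)
    (hO : H8Ord D) (hM : CfMax D) (s k : ℕ) (hs : D.IsPosRoot s) (hk : D.IsPosRoot k) (c a : F) :
    ∃ v ∈ Subgroup.closure (h8VkSet D F (k + 1)),
      h8xU D hB s c * h8xU D hB k a * (h8xU D hB s c)⁻¹ = h8xU D hB k a * v := by
  rcases lt_trichotomy s k with hsk | rfl | hks
  · -- `s < k`: use the commutator formula of `(s, k)` with parameter `-c`
    obtain ⟨hne, hterms⟩ := hO.comm s k hs hk hsk
    refine ⟨h8wordU D hB (D.commWord F s k (-c) a), ?_, ?_⟩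
    · apply cfword_mem_Vk
      intro q hq
      unfold ChevalleyDatum.commWord at hq
      rw [List.mem_map] at hq
      obtain ⟨cc, hcc, rfl⟩ := hq
      have h1 := (hterms cc hcc).1
      have h2 := hM s k hs hk hsk cc hcc
      exact ⟨h1, by simp only; omega⟩
    · have key : h8xU D hB k a * h8xU D hB s (-c) =
          h8xU D hB s (-c) * h8xU D hB k a * h8wordU D hB (D.commWord F s k (-c) a) := by
        apply Units.ext
        rw [Units.val_mul, Units.val_mul, Units.val_mul, h8wordU_val, h8xU_val, h8xU_val]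
        exact hC.all s hs.1 k hk.1 (by omega) hne F (-c) a
      have hinv : (h8xU D hB s c)⁻¹ = h8xU D hB s (-c) := h8xU_inv D hB s c
      rw [hinv, mul_assoc, key]
      have h2 : h8xU D hB s c * h8xU D hB s (-c) = 1 := by
        rw [← hinv, mul_inv_cancel]
      rw [← mul_assoc, ← mul_assoc, h2, one_mul]
  · -- `s = k`
    refine ⟨1, Subgroup.one_mem _, ?_⟩
    rw [mul_one, h8xU_add D hB s hs.1, h8xU_inv, h8xU_add D hB s hs.1]
    congr 1
    ring
  · -- `k < s`
    obtain ⟨hne, hterms⟩ := hO.comm k s hk hs hks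
    refine ⟨h8xU D hB s c * h8wordU D hB (D.commWord F k s a c) * (h8xU D hB s c)⁻¹, ?_, ?_⟩
    · have hxs : h8xU D hB s c ∈ Subgroup.closure (h8VkSet D F (k + 1)) :=
        cfx_mem_Vk D hB (k + 1) s hs (by omega) c
      apply Subgroup.mul_mem _ (Subgroup.mul_mem _ hxs _) (Subgroup.inv_mem _ hxs)
      apply cfword_mem_Vk
      intro q hq
      unfold ChevalleyDatum.commWord at hq
      rw [List.mem_map] at hq
      obtain ⟨cc, hcc, rfl⟩ := hq
      have h1 := hterms cc hcc
      exact ⟨h1.1, by simp only; omega⟩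
    · have key : h8xU D hB s c * h8xU D hB k a =
          h8xU D hB k a * h8xU D hB s c * h8wordU D hB (D.commWord F k s a c) := by
        apply Units.ext
        rw [Units.val_mul, Units.val_mul, Units.val_mul, h8wordU_val, h8xU_val, h8xU_val]
        exact hC.all k hk.1 s hs.1 (by omega) hne F a c
      rw [key]
      simp only [mul_assoc]

/-- a positive root element normalises every `V_m` -/
theorem cf_norm_gen (D : ChevalleyDatum) (hB : H8Base.{u} D) (hC : H8CommAll.{u} D)
    (hO : H8Ord D) (hM : CfMax D) (s : ℕ) (hs : D.IsPosRoot s) (c : F) (m : ℕ)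
    (g : GL D.Idx F) (hg : g ∈ Subgroup.closure (h8VkSet D F m)) :
    h8xU D hB s c * g * (h8xU D hB s c)⁻¹ ∈ Subgroup.closure (h8VkSet D F m) := by
  induction hg using Subgroup.closure_induction with
  | mem x hx =>
    obtain ⟨l, b, hl, hml, hxv⟩ := hx
    have hx' : x = h8xU D hB l b := Units.ext hxv
    obtain ⟨v, hv, e⟩ := cf_conj_gen D hB hC hO hM s l hs hl c b
    rw [hx', e]
    exact Subgroup.mul_mem _ (cfx_mem_Vk D hB m l hl hml b)
      (cfVk_anti D m (l + 1) (by omega) hv)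
  | one =>
    rw [mul_one, mul_inv_cancel]
    exact Subgroup.one_mem _
  | mul x y _ _ hx hy =>
    have : h8xU D hB s c * (x * y) * (h8xU D hB s c)⁻¹ =
        (h8xU D hB s c * x * (h8xU D hB s c)⁻¹) * (h8xU D hB s c * y * (h8xU D hB s c)⁻¹) := by
      group
    rw [this]
    exact Subgroup.mul_mem _ hx hy
  | inv x _ hx =>
    have : h8xU D hB s c * x⁻¹ * (h8xU D hB s c)⁻¹ =
        (h8xU D hB s c * x * (h8xU D hB s c)⁻¹)⁻¹ := by
      group
    rw [this]
    exact Subgroup.inv_mem _ hx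

/-- conjugating `x_k(a)` by any `u ∈ U` stays in `x_k(a) V_{k+1}` -/
theorem cf_conj_U (D : ChevalleyDatum) (hB : H8Base.{u} D) (hC : H8CommAll.{u} D)
    (hO : H8Ord D) (hM : CfMax D) (g : GL D.Idx F) (hg : g ∈ D.posUnipotent F)
    (k : ℕ) (hk : D.IsPosRoot k) (a : F) :
    ∃ v ∈ Subgroup.closure (h8VkSet D F (k + 1)),
      g * h8xU D hB k a * g⁻¹ = h8xU D hB k a * v := by
  unfold ChevalleyDatum.posUnipotent at hg
  induction hg using Subgroup.closure_induction_left with
  | one => exact ⟨1, Subgroup.one_mem _, by group⟩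
  | mul_left x hx y _ ih =>
    obtain ⟨v, hv, e⟩ := ih
    obtain ⟨s, c, hs, hxv⟩ := hx
    have hx' : x = h8xU D hB s c := Units.ext hxv
    obtain ⟨v1, hv1, e1⟩ := cf_conj_gen D hB hC hO hM s k hs hk c a
    refine ⟨v1 * (h8xU D hB s c * v * (h8xU D hB s c)⁻¹),
      Subgroup.mul_mem _ hv1 (cf_norm_gen D hB hC hO hM s hs c (k + 1) v hv), ?_⟩
    have : x * y * h8xU D hB k a * (x * y)⁻¹ = x * (y * h8xU D hB k a * y⁻¹) * x⁻¹ := by group
    rw [this, e, hx']
    have : h8xU D hB s c * (h8xU D hB k a * v) * (h8xU D hB s c)⁻¹ =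
        (h8xU D hB s c * h8xU D hB k a * (h8xU D hB s c)⁻¹) *
          (h8xU D hB s c * v * (h8xU D hB s c)⁻¹) := by group
    rw [this, e1, mul_assoc]
  | inv_mul_cancel x hx y _ ih =>
    obtain ⟨v, hv, e⟩ := ih
    obtain ⟨s, c, hs, hxv⟩ := hx
    have hx' : x⁻¹ = h8xU D hB s (-c) := by
      have : x = h8xU D hB s c := Units.ext hxv
      rw [this, h8xU_inv]
    obtain ⟨v1, hv1, e1⟩ := cf_conj_gen D hB hC hO hM s k hs hk (-c) a
    refine ⟨v1 * (h8xU D hB s (-c) * v * (h8xU D hB s (-c))⁻¹),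
      Subgroup.mul_mem _ hv1 (cf_norm_gen D hB hC hO hM s hs (-c) (k + 1) v hv), ?_⟩
    have : x⁻¹ * y * h8xU D hB k a * (x⁻¹ * y)⁻¹ =
        x⁻¹ * (y * h8xU D hB k a * y⁻¹) * (x⁻¹)⁻¹ := by group
    rw [this, e, hx']
    have : h8xU D hB s (-c) * (h8xU D hB k a * v) * (h8xU D hB s (-c))⁻¹ =
        (h8xU D hB s (-c) * h8xU D hB k a * (h8xU D hB s (-c))⁻¹) *
          (h8xU D hB s (-c) * v * (h8xU D hB s (-c))⁻¹) := by group
    rw [this, e1, mul_assoc]

/-- a `U`-conjugate of `x_r(a)`, `a ≠ 0`, is not a root element for a different positive root -/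
theorem cf_U_conj_ne (D : ChevalleyDatum) (hB : H8Base.{u} D) (hC : H8CommAll.{u} D)
    (hO : H8Ord D) (hO2 : H8Ord2 D) (hM : CfMax D) (g : GL D.Idx F) (hg : g ∈ D.posUnipotent F)
    (r r' : ℕ) (hr : D.IsPosRoot r) (hr' : D.IsPosRoot r') (hne : r ≠ r') (a a' : F) (ha : a ≠ 0) :
    g * h8xU D hB r a * g⁻¹ ≠ h8xU D hB r' a' := by
  intro heq
  rcases lt_or_gt_of_ne hne with hlt | hgt
  · obtain ⟨v, hv, e⟩ := cf_conj_U D hB hC hO hM g hg r hr a
    rw [e] at heq
    have h1 : h8xU D hB r a = h8xU D hB r' a' * v⁻¹ := by rw [← heq]; group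
    have h2 : h8xU D hB r a ∈ Subgroup.closure (h8VkSet D F (r + 1)) := by
      rw [h1]
      exact Subgroup.mul_mem _ (cfx_mem_Vk D hB (r + 1) r' hr' (by omega) a')
        (Subgroup.inv_mem _ hv)
    exact ha (h8x_not_mem_Vk D hB hO2 r hr a h2)
  · obtain ⟨v, hv, e⟩ := cf_conj_U D hB hC hO hM g⁻¹ (Subgroup.inv_mem _ hg) r' hr' a'
    rw [inv_inv] at e
    have h1 : h8xU D hB r a = h8xU D hB r' a' * v := by
      rw [← e, ← heq]; group
    have h2 : h8xU D hB r' a' ∈ Subgroup.closure (h8VkSet D F (r' + 1)) := by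
      have : h8xU D hB r' a' = h8xU D hB r a * v⁻¹ := by rw [h1]; group
      rw [this]
      exact Subgroup.mul_mem _ (cfx_mem_Vk D hB (r' + 1) r hr (by omega) a)
        (Subgroup.inv_mem _ hv)
    have ha' : a' = 0 := h8x_not_mem_Vk D hB hO2 r' hr' a' h2
    have hz : h8xU D hB r' (0 : F) = 1 := by
      apply Units.ext
      rw [h8xU_val, hB.zero]
      rfl
    rw [ha', hz] at heq
    have h3 : h8xU D hB r a = 1 := by
      have : h8xU D hB r a = g⁻¹ * (g * h8xU D hB r a * g⁻¹) * g := by group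
      rw [this, heq]; group
    have h4 : h8xU D hB r a ∈ Subgroup.closure (h8VkSet D F (r + 1)) := by
      rw [h3]; exact Subgroup.one_mem _
    exact ha (h8x_not_mem_Vk D hB hO2 r hr a h4)

/-- if a `U`-conjugate of `x_r(a)` is `x_r(a')` then `a = a'` -/
theorem cf_U_conj_eq (D : ChevalleyDatum) (hB : H8Base.{u} D) (hC : H8CommAll.{u} D)
    (hO : H8Ord D) (hO2 : H8Ord2 D) (hM : CfMax D) (g : GL D.Idx F) (hg : g ∈ D.posUnipotent F)
    (r : ℕ) (hr : D.IsPosRoot r) (a a' : F)
    (heq : g * h8xU D hB r a * g⁻¹ = h8xU D hB r a') : a = a' := by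
  obtain ⟨v, hv, e⟩ := cf_conj_U D hB hC hO hM g hg r hr a
  rw [e] at heq
  have h1 : h8xU D hB r (a' - a) = v := by
    have : h8xU D hB r (a' - a) = (h8xU D hB r a)⁻¹ * h8xU D hB r a' := by
      rw [h8xU_inv, h8xU_add D hB r hr.1]
      congr 1
      ring
    rw [this, ← heq]; group
  have h2 := h8x_not_mem_Vk D hB hO2 r hr (a' - a) (by rw [h1]; exact hv)
  exact (sub_eq_zero.mp h2).symm

end Cfsg.Agent.Lib.helper14
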