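import Mathlib
import Cfsg.Prelude.Def_ChevStructure
import Cfsg.Agent.Lib.helper14.ChevFilt
import Cfsg.Agent.Lib.helper8.ChevOrd3
import Cfsg.Agent.Lib.helper8.ChevSL

/-!
# Decidable checks on a Chevalley datum used for the centraliser of a unipotent radical
-/

set_option autoImplicit false

namespace Cfsg.Agent.Lib.helper14

open Cfsg.Lie Cfsg.Lie.ChevalleyDatum Cfsg.Agent.Lib.helper8

/-- for all fundamental reflections `i` and all nodes `j` there is a positive root `r` involving
the `j`-th fundamental root such that `w_i r` is a positive root different from `r` -/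
def cfRootChk (D : ChevalleyDatum) : Bool :=
  (List.range D.rank).all fun i => (List.range D.rank).all fun j =>
    (List.range D.nroots).any fun r => decide (D.IsPosRoot r) &&
      decide ((D.coroot.getD r #[]).getD j 0 ≠ 0) &&
      decide (D.IsPosRoot (D.reflectRoot i r)) && decide (D.reflectRoot i r ≠ r)

theorem cfRootChk_spec (D : ChevalleyDatum) (h : cfRootChk D = true) (i j : ℕ)
    (hi : i < D.rank) (hj : j < D.rank) :
    ∃ r, D.IsPosRoot r ∧ (D.coroot.getD r #[]).getD j 0 ≠ 0 ∧
      D.IsPosRoot (D.reflectRoot i r) ∧ D.reflectRoot i r ≠ r := by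
  unfold cfRootChk at h
  rw [List.all_eq_true] at h
  have h1 := h i (List.mem_range.mpr hi)
  rw [List.all_eq_true] at h1
  have h2 := h1 j (List.mem_range.mpr hj)
  rw [List.any_eq_true] at h2
  obtain ⟨r, _, hr⟩ := h2
  simp only [Bool.and_eq_true, decide_eq_true_eq] at hr
  exact ⟨r, hr.1.1.1, hr.1.1.2, hr.1.2, hr.2⟩

/-- row of the lattice check: the positive root `s` either involves the `j`-th fundamental root or
is the difference `u - v` of two positive roots involving it -/
def cfLatRow (D : ChevalleyDatum) (j s : ℕ) : Bool :=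
  !(decide (D.IsPosRoot s)) || decide ((D.coroot.getD s #[]).getD j 0 ≠ 0) ||
    (List.range D.nroots).any fun v => decide (D.IsPosRoot v) &&
      decide ((D.coroot.getD v #[]).getD j 0 ≠ 0) &&
      match D.chainRoot s v 1 with
      | some u => decide (D.IsPosRoot u) && decide ((D.coroot.getD u #[]).getD j 0 ≠ 0) &&
          (D.chainCoeff s v u).any fun km => decide (km.1 = 1)
      | none => false

theorem cfLatRow_spec (D : ChevalleyDatum) (j s : ℕ) (h : cfLatRow D j s = true)
    (hs : D.IsPosRoot s) (hsj : (D.coroot.getD s #[]).getD j 0 = 0) :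
    ∃ v u, D.IsPosRoot v ∧ (D.coroot.getD v #[]).getD j 0 ≠ 0 ∧ D.IsPosRoot u ∧
      (D.coroot.getD u #[]).getD j 0 ≠ 0 ∧ ∃ km ∈ D.chainCoeff s v u, km.1 = 1 := by
  unfold cfLatRow at h
  simp only [hs, decide_true, Bool.not_true, Bool.false_or, hsj, ne_eq, not_true_eq_false,
    decide_false, List.any_eq_true, List.mem_range, Bool.and_eq_true, decide_eq_true_eq] at h
  obtain ⟨v, _, ⟨hv1, hv2⟩, h3⟩ := h
  cases hu : D.chainRoot s v 1 with
  | none => rw [hu] at h3; cases h3
  | some u =>
    rw [hu] at h3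
    simp only [Bool.and_eq_true, decide_eq_true_eq, List.any_eq_true] at h3
    obtain ⟨⟨hu1, hu2⟩, km, hkm, hkm1⟩ := h3
    exact ⟨v, u, hv1, hv2, hu1, hu2, km, hkm, hkm1⟩

theorem cf_rows_of_all (f : ℕ → Bool) (n : ℕ) (h : (List.range n).all f = true) :
    ∀ r < n, f r = true := by
  intro r hr
  rw [List.all_eq_true] at h
  exact h r (List.mem_range.mpr hr)

theorem cfMax_of_rows (D : ChevalleyDatum) (h : (List.range D.nroots).all (cfMaxRow D) = true) :
    CfMax D := by
  intro r s hr hs hrs c hc
  exact cfMaxRow_spec D (cf_rows_of_all _ _ h) r s hr hrs hs.1 c hc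

/-- in a simply laced datum all chains have length one -/
theorem cf_chainRoot_none_of_SL (D : ChevalleyDatum) (hSL : H8SL D) (a b m : ℕ)
    (ha : a < D.nroots) (hm : 2 ≤ m) : D.chainRoot a b m = none := by
  unfold ChevalleyDatum.chainRoot
  rcases (hSL.sl a ha).entry b with h0 | ⟨w, N, h1, _⟩
  · rw [h0]
    rfl
  · rw [h1]
    have h2 : ([(w, N)] : List (ℕ × ℤ))[m - 1]? = none := by
      rw [List.getElem?_eq_none_iff]
      simp only [List.length_cons, List.length_nil]
      omega
    rw [h2]
    rfl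

/-- the hypothesis `CfMax` for the simply laced data -/
theorem cfMax_of_SL (D : ChevalleyDatum) (hB : H8Base.{0} D) (hN : h8NegOK D = true)
    (hlt : ∀ a b, a < D.nroots → ∀ q ∈ D.chainEntry a b, q.1 < D.nroots) (hSL : H8SL D) :
    CfMax D := by
  intro r s hr hs hrs c hc
  obtain ⟨hr1, hr2, _⟩ := h8PosOK_spec hB.posOK hr
  obtain ⟨hs1, hs2, _⟩ := h8PosOK_spec hB.posOK hs
  have A := h8chainRoot_gt D hB hN hlt
  have Z := cf_chainRoot_none_of_SL D hSL
  unfold ChevalleyDatum.commTerms at hc
  rw [List.mem_filterMap] at hc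
  obtain ⟨cand, hcand, hmap⟩ := hc
  have hc1 : cand.1 = some c.1 := by
    cases hk : cand.1 with
    | none => rw [hk] at hmap; cases hmap
    | some k =>
      rw [hk] at hmap
      have := Option.some.inj hmap
      rw [← this]
  simp only [List.mem_cons, List.mem_nil_iff, or_false] at hcand
  rcases hcand with rfl | rfl | rfl | rfl | rfl | rfl | rfl
  · exact (A r s 1 c.1 hr hs1 hc1).1
  · exact (A r s 2 c.1 hr hs1 hc1).1
  · simp only at hc1
    rw [Z s r 2 hs.1 le_rfl] at hc1
    cases hc1
  · exact (A r s 3 c.1 hr hs1 hc1).1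
  · simp only at hc1
    rw [Z s r 3 hs.1 (by omega)] at hc1
    cases hc1
  · simp only at hc1
    rw [Z r s 3 hr.1 (by omega)] at hc1
    cases hc1
  · simp only at hc1
    rw [Z s r 3 hs.1 (by omega)] at hc1
    cases hc1

end Cfsg.Agent.Lib.helper14
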