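import Mathlib
import Cfsg.Prelude.Def_LieTypes
import Cfsg.Prelude.Def_ChevB2
import Cfsg.Agent.Lib.helper14.ChevFiltChk

set_option autoImplicit false

namespace Cfsg.Agent.Lib.helper14

open Cfsg.Lie

def cfLatChk (D : ChevalleyDatum) : Bool :=
  (List.range D.rank).all fun j => (List.range D.nroots).all (cfLatRow D j)

theorem cfLatChk_spec (D : ChevalleyDatum) (h : cfLatChk D = true) :
    ∀ j < D.rank, ∀ s < D.nroots, cfLatRow D j s = true := by
  intro j hj s hs
  unfold cfLatChk at h
  rw [List.all_eq_true] at h
  exact cf_rows_of_all _ _ (h j (List.mem_range.mpr hj)) s hs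

set_option maxRecDepth 100000 in
theorem cfMaxT_G2 : (List.range chevG2.nroots).all (cfMaxRow chevG2) = true := by decide +kernel
set_option maxRecDepth 100000 in
theorem cfMaxT_B2 : (List.range chevB2.nroots).all (cfMaxRow chevB2) = true := by decide +kernel
set_option maxRecDepth 100000 in
theorem cfMaxT_F4 : (List.range chevF4.nroots).all (cfMaxRow chevF4) = true := by decide +kernel

set_option maxRecDepth 100000 in
theorem cfRootT_G2 : cfRootChk chevG2 = true := by decide +kernel
set_option maxRecDepth 100000 in
theorem cfRootT_B2 : cfRootChk chevB2 = true := by decide +kernel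
set_option maxRecDepth 100000 in
theorem cfRootT_D4 : cfRootChk chevD4 = true := by decide +kernel
set_option maxRecDepth 100000 in
theorem cfRootT_F4 : cfRootChk chevF4 = true := by decide +kernel
set_option maxRecDepth 100000 in
theorem cfRootT_E6 : cfRootChk chevE6 = true := by decide +kernel

set_option maxRecDepth 100000 in
theorem cfLatT_G2 : cfLatChk chevG2 = true := by decide +kernel
set_option maxRecDepth 100000 in
theorem cfLatT_B2 : cfLatChk chevB2 = true := by decide +kernel
set_option maxRecDepth 100000 in
theorem cfLatT_D4 : cfLatChk chevD4 = true := by decide +kernel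
set_option maxRecDepth 100000 in
theorem cfLatT_F4 : cfLatChk chevF4 = true := by decide +kernel
set_option maxRecDepth 100000 in
theorem cfLatT_E6 : cfLatChk chevE6 = true := by decide +kernel

end Cfsg.Agent.Lib.helper14
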