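import Mathlib
import Cfsg.Prelude.Def_LieTypes
import Cfsg.Agent.Lib.helper14.ChevFiltTabS

set_option autoImplicit false

namespace Cfsg.Agent.Lib.helper14

open Cfsg.Lie

set_option maxRecDepth 100000 in
theorem cfRootT_E7 : cfRootChk chevE7 = true := by decide +kernel
set_option maxRecDepth 100000 in
theorem cfLatT_E7 : cfLatChk chevE7 = true := by decide +kernel

end Cfsg.Agent.Lib.helper14
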