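import Mathlib
import Cfsg.Prelude.Def_LieTypes
import Cfsg.Agent.Lib.helper14.ChevFiltTabS

set_option autoImplicit false

namespace Cfsg.Agent.Lib.helper14

open Cfsg.Lie

set_option maxRecDepth 100000 in
theorem cfLatT_E8_4 : (List.range chevE8.nroots).all (cfLatRow chevE8 4) = true := by
  decide +kernel
set_option maxRecDepth 100000 in
theorem cfLatT_E8_5 : (List.range chevE8.nroots).all (cfLatRow chevE8 5) = true := by
  decide +kernel
set_option maxRecDepth 100000 in
theorem cfLatT_E8_6 : (List.range chevE8.nroots).all (cfLatRow chevE8 6) = true := by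
  decide +kernel
set_option maxRecDepth 100000 in
theorem cfLatT_E8_7 : (List.range chevE8.nroots).all (cfLatRow chevE8 7) = true := by
  decide +kernel

end Cfsg.Agent.Lib.helper14
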