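import Mathlib
import Cfsg.Prelude.Def_LieTypes
import Cfsg.Prelude.Def_ChevB2
import Cfsg.Agent.Lib.helper14.ChevFiltTabS
import Cfsg.Agent.Lib.helper14.ChevFiltTabE7
import Cfsg.Agent.Lib.helper14.ChevFiltTabE8a
import Cfsg.Agent.Lib.helper14.ChevFiltTabE8b
import Cfsg.Agent.Lib.helper14.ChevFiltTabE8c
import Cfsg.Agent.Lib.helper8.ChevTabSLD4
import Cfsg.Agent.Lib.helper8.ChevTabSLE6
import Cfsg.Agent.Lib.helper8.ChevTabSLE7
import Cfsg.Agent.Lib.helper8.ChevTabSLE8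
import Cfsg.Agent.Lib.helper8.ChevBaseAll
import Cfsg.Agent.Lib.helper8.ChevReflAll
import Cfsg.Agent.Lib.helper8.ChevNegAll
import Cfsg.Agent.Lib.helper8.ChevOrdAll

set_option autoImplicit false

namespace Cfsg.Agent.Lib.helper14

open Cfsg.Lie Cfsg.Agent.Lib.helper8

theorem cfMax_SL_aux (D : ChevalleyDatum)
    (hD : D ∈ [chevG2, chevB2, chevD4, chevF4, chevE6, chevE7, chevE8]) (hSL : H8SL D) :
    CfMax D := by
  have hB := h8base_all.{0} D hD
  have hA := h8reflAll D hD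
  obtain ⟨hrk, -⟩ := h8uq_all D hD
  obtain ⟨η, hR⟩ := h8reflAll_spec D hA 0 hrk
  exact cfMax_of_SL D hB (h8NegOK_all D hD)
    (fun a b ha => h8chainEntry_lt D 0 η hR a b ha) hSL

theorem cfMax_all (D : ChevalleyDatum)
    (hD : D ∈ [chevG2, chevB2, chevD4, chevF4, chevE6, chevE7, chevE8]) : CfMax D := by
  have hD' := hD
  simp only [List.mem_cons, List.not_mem_nil, or_false] at hD
  rcases hD with rfl | rfl | rfl | rfl | rfl | rfl | rfl
  · exact cfMax_of_rows _ cfMaxT_G2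
  · exact cfMax_of_rows _ cfMaxT_B2
  · exact cfMax_SL_aux _ hD' h8SL_D4
  · exact cfMax_of_rows _ cfMaxT_F4
  · exact cfMax_SL_aux _ hD' h8SL_E6
  · exact cfMax_SL_aux _ hD' h8SL_E7
  · exact cfMax_SL_aux _ hD' h8SL_E8

theorem cfRootChk_all (D : ChevalleyDatum)
    (hD : D ∈ [chevG2, chevB2, chevD4, chevF4, chevE6, chevE7, chevE8]) :
    cfRootChk D = true := by
  simp only [List.mem_cons, List.not_mem_nil, or_false] at hD
  rcases hD with rfl | rfl | rfl | rfl | rfl | rfl | rfl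
  · exact cfRootT_G2
  · exact cfRootT_B2
  · exact cfRootT_D4
  · exact cfRootT_F4
  · exact cfRootT_E6
  · exact cfRootT_E7
  · exact cfRootT_E8

theorem cfLat_E8 : ∀ j < chevE8.rank, ∀ s < chevE8.nroots, cfLatRow chevE8 j s = true := by
  intro j hj s hs
  have hr : chevE8.rank = 8 := rfl
  rw [hr] at hj
  interval_cases j
  · exact cf_rows_of_all _ _ cfLatT_E8_0 s hs
  · exact cf_rows_of_all _ _ cfLatT_E8_1 s hs
  · exact cf_rows_of_all _ _ cfLatT_E8_2 s hs
  · exact cf_rows_of_all _ _ cfLatT_E8_3 s hs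
  · exact cf_rows_of_all _ _ cfLatT_E8_4 s hs
  · exact cf_rows_of_all _ _ cfLatT_E8_5 s hs
  · exact cf_rows_of_all _ _ cfLatT_E8_6 s hs
  · exact cf_rows_of_all _ _ cfLatT_E8_7 s hs

theorem cfLat_all (D : ChevalleyDatum)
    (hD : D ∈ [chevG2, chevB2, chevD4, chevF4, chevE6, chevE7, chevE8]) :
    ∀ j < D.rank, ∀ s < D.nroots, cfLatRow D j s = true := by
  simp only [List.mem_cons, List.not_mem_nil, or_false] at hD
  rcases hD with rfl | rfl | rfl | rfl | rfl | rfl | rfl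
  · exact cfLatChk_spec _ cfLatT_G2
  · exact cfLatChk_spec _ cfLatT_B2
  · exact cfLatChk_spec _ cfLatT_D4
  · exact cfLatChk_spec _ cfLatT_F4
  · exact cfLatChk_spec _ cfLatT_E6
  · exact cfLatChk_spec _ cfLatT_E7
  · exact cfLat_E8

end Cfsg.Agent.Lib.helper14
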