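import Mathlib
import Cfsg.Prelude.Def_ChevStructure
import Cfsg.Agent.Lib.helper14.ChevFiltChk
import Cfsg.Agent.Lib.helper8.ChevOver
import Cfsg.Agent.Lib.helper8.ChevCore
import Cfsg.Agent.Lib.helper8.ChevTits2

/-!
# The centraliser of the unipotent radical of a maximal parabolic subgroup lies in `U`
-/

set_option autoImplicit false

namespace Cfsg.Agent.Lib.helper14

open Cfsg.Lie Cfsg.Lie.ChevalleyDatum Cfsg.Agent.Lib.helper8

universe u

variable {F : Type u} [Field F]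

/-- every element of `B` is a product `u * h` -/
theorem cf_B_decomp (D : ChevalleyDatum) (hB : H8Base.{u} D) (b : GL D.Idx F)
    (hb : b ∈ D.borelSubgroup F) :
    ∃ g ∈ D.posUnipotent F, ∃ h ∈ D.diagonalSubgroup F, b = g * h := by
  have hprod := Subgroup.coe_mul_of_right_le_normalizer_left (D.posUnipotent F)
    (D.diagonalSubgroup F) (h8_H_le_normalizer_U D hB)
  have hb' : b ∈ ((D.posUnipotent F ⊔ D.diagonalSubgroup F : Subgroup (GL D.Idx F)) :
      Set (GL D.Idx F)) := hb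
  rw [hprod] at hb'
  obtain ⟨g, hg, h, hh, e⟩ := hb'
  exact ⟨g, hg, h, hh, e.symm⟩

/-- a `B`-conjugate of `x_r(a)`, `a ≠ 0`, is not a root element for a different positive root -/
theorem cf_B_conj_ne (D : ChevalleyDatum) (hB : H8Base.{u} D) (hC : H8CommAll.{u} D)
    (hO : H8Ord D) (hO2 : H8Ord2 D) (hM : CfMax D) (b : GL D.Idx F)
    (hb : b ∈ D.borelSubgroup F)
    (r r' : ℕ) (hr : D.IsPosRoot r) (hr' : D.IsPosRoot r') (hne : r ≠ r') (a a' : F) (ha : a ≠ 0) :
    b * h8xU D hB r a * b⁻¹ ≠ h8xU D hB r' a' := by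
  obtain ⟨g, hg, h, hh, rfl⟩ := cf_B_decomp D hB b hb
  obtain ⟨c, hc, hact⟩ := h8perm_H_id D hB h hh r hr.1
  have e : g * h * h8xU D hB r a * (g * h)⁻¹ = g * (h * h8xU D hB r a * h⁻¹) * g⁻¹ := by group
  rw [e, hact a]
  exact cf_U_conj_ne D hB hC hO hO2 hM g hg r r' hr hr' hne (c * a) a' (mul_ne_zero hc ha)

theorem cf_mem_UJ (D : ChevalleyDatum) (hB : H8Base.{u} D) (j : ℕ) (hj : j < D.rank) (r : ℕ)
    (hr : D.IsPosRoot r) (hrj : (D.coroot.getD r #[]).getD j 0 ≠ 0) (t : F) :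
    h8xU D hB r t ∈ D.unipotentRadical F {i | i ≠ j} := by
  unfold ChevalleyDatum.unipotentRadical
  apply Subgroup.subset_closure
  refine ⟨r, t, hr, ?_, h8xU_val D hB r t⟩
  intro hin
  exact hrj (hin.2 j hj (by simp))

/-- the centraliser in `G` of `U_J`, `J` the complement of a node, lies in `B` -/
theorem cf_cent_le_B (D : ChevalleyDatum) (hB : H8Base.{u} D) (hA : H8ReflAll D)
    (hC : H8CommAll.{u} D) (hBN : H8BN D) (hW : H8BN2 D) (hO : H8Ord D) (hO2 : H8Ord2 D)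
    (hM : CfMax D) (hRC : cfRootChk D = true) (j : ℕ) (hj : j < D.rank)
    (hBUJ : D.borelSubgroup F ≤
      Subgroup.normalizer (D.unipotentRadical F {i | i ≠ j} : Set (GL D.Idx F))) :
    Subgroup.centralizer (D.unipotentRadical F {i | i ≠ j} : Set (GL D.Idx F)) ⊓ D.group F ≤
      D.borelSubgroup F := by
  set UJ := D.unipotentRadical F {i | i ≠ j} with hUJ
  set Cn : Subgroup (GL D.Idx F) :=
    Subgroup.centralizer (UJ : Set (GL D.Idx F)) ⊓ D.group F with hCn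
  have hconj : ∀ b ∈ D.borelSubgroup F, ∀ c ∈ Cn, b * c * b⁻¹ ∈ Cn := by
    intro b hb c hc
    rw [hCn, Subgroup.mem_inf] at hc ⊢
    refine ⟨?_, Subgroup.mul_mem _ (Subgroup.mul_mem _ (h8_B_le_group D hB hb) hc.2)
      (Subgroup.inv_mem _ (h8_B_le_group D hB hb))⟩
    rw [Subgroup.mem_centralizer_iff]
    intro x hx
    have hy : b⁻¹ * x * b⁻¹⁻¹ ∈ UJ :=
      (Subgroup.mem_normalizer_iff.mp (Subgroup.inv_mem _ (hBUJ hb)) x).mp hx
    have hcy := Subgroup.mem_centralizer_iff.mp hc.1 _ hy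
    have e1 : x * (b * c * b⁻¹) = b * ((b⁻¹ * x * b⁻¹⁻¹) * c) * b⁻¹ := by group
    have e2 : b * c * b⁻¹ * x = b * (c * (b⁻¹ * x * b⁻¹⁻¹)) * b⁻¹ := by group
    rw [e1, e2, hcy]
  have hBC : D.borelSubgroup F ≤ Subgroup.normalizer (Cn : Set (GL D.Idx F)) := by
    intro b hb
    rw [Subgroup.mem_normalizer_iff]
    intro c
    constructor
    · exact hconj b hb c
    · intro h
      have := hconj b⁻¹ (Subgroup.inv_mem _ hb) _ h
      have e : b⁻¹ * (b * c * b⁻¹) * b⁻¹⁻¹ = c := by group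
      rwa [e] at this
  have hover := h8overgroup D hB hA hC hBN hW hO2 (Cn ⊔ D.borelSubgroup F) le_sup_right
  have hempty : {g : GL D.Idx F | ∃ i < D.rank, g = h8nU D hB (D.simple i) (1 : F) ∧
      g ∈ Cn ⊔ D.borelSubgroup F} = ∅ := by
    rw [Set.eq_empty_iff_forall_notMem]
    rintro g ⟨i, hi, rfl, hmem⟩
    have hprod := Subgroup.coe_mul_of_right_le_normalizer_left Cn (D.borelSubgroup F) hBC
    have hmem' : h8nU D hB (D.simple i) (1 : F) ∈
        ((Cn ⊔ D.borelSubgroup F : Subgroup (GL D.Idx F)) : Set (GL D.Idx F)) := hmem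
    rw [hprod] at hmem'
    obtain ⟨c, hc, b, hb, e⟩ := hmem'
    obtain ⟨r, hr, hrj, hr'pos, hr'ne⟩ := cfRootChk_spec D hRC i j hi hj
    obtain ⟨η0, hR⟩ := h8reflAll_spec D hA i hi
    obtain ⟨η, hη, hact⟩ := h8act_nU (F := F) D hB hA i hi (D.reflectRoot i r) hr'pos.1
    rw [hR.invol r hr.1] at hact
    have hxU : h8xU D hB r (1 : F) ∈ UJ := cf_mem_UJ D hB j hj r hr hrj 1
    have hc' : c ∈ Subgroup.centralizer (UJ : Set (GL D.Idx F)) := by
      have hc2 : c ∈ Cn := hc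
      rw [hCn, Subgroup.mem_inf] at hc2
      exact hc2.1
    have hcomm := Subgroup.mem_centralizer_iff.mp hc' _ hxU
    -- `c = n_i b⁻¹`
    have hceq : c = h8nU D hB (D.simple i) (1 : F) * b⁻¹ := by rw [← e]; group
    have h1 := hact (η⁻¹)
    rw [mul_inv_cancel₀ hη] at h1
    -- `n (b⁻¹ x_r(1) b) n⁻¹ = x_r(1)`
    have h2 : h8nU D hB (D.simple i) (1 : F) * (b⁻¹ * h8xU D hB r 1 * b⁻¹⁻¹) *
        (h8nU D hB (D.simple i) (1 : F))⁻¹ = h8xU D hB r 1 := by
      have : h8nU D hB (D.simple i) (1 : F) * (b⁻¹ * h8xU D hB r 1 * b⁻¹⁻¹) *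
          (h8nU D hB (D.simple i) (1 : F))⁻¹ = c * h8xU D hB r 1 * c⁻¹ := by
        rw [hceq]; group
      rw [this, ← hcomm]; group
    have h3 : b⁻¹ * h8xU D hB r 1 * b⁻¹⁻¹ = h8xU D hB (D.reflectRoot i r) η⁻¹ := by
      have h4 := h2.trans h1.symm
      have h5 := mul_right_cancel h4
      exact mul_left_cancel h5
    exact cf_B_conj_ne D hB hC hO hO2 hM b⁻¹ (Subgroup.inv_mem _ hb) r (D.reflectRoot i r)
      hr hr'pos hr'ne.symm 1 η⁻¹ one_ne_zero h3
  rw [hempty, Subgroup.closure_empty, sup_bot_eq] at hover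
  intro g hg
  apply hover
  rw [Subgroup.mem_inf]
  refine ⟨Subgroup.mem_sup_left hg, ?_⟩
  rw [hCn, Subgroup.mem_inf] at hg
  exact hg.2

theorem cf_prod_zpow_add (γ : ℕ → F) (hγ : ∀ i, γ i ≠ 0) (n : ℕ) (e1 e2 e3 : ℕ → ℤ)
    (h : ∀ i < n, e1 i = e2 i + e3 i) :
    ∏ i ∈ Finset.range n, γ i ^ e1 i =
      (∏ i ∈ Finset.range n, γ i ^ e2 i) * ∏ i ∈ Finset.range n, γ i ^ e3 i := by
  rw [← Finset.prod_mul_distrib]
  apply Finset.prod_congr rfl
  intro i hi
  rw [h i (Finset.mem_range.mp hi), zpow_add₀ (hγ i)]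

theorem cf_prod_zpow_neg (γ : ℕ → F) (n : ℕ) (e1 e2 : ℕ → ℤ)
    (h : ∀ i < n, e1 i = - e2 i) :
    ∏ i ∈ Finset.range n, γ i ^ e1 i = (∏ i ∈ Finset.range n, γ i ^ e2 i)⁻¹ := by
  rw [← Finset.prod_inv_distrib]
  apply Finset.prod_congr rfl
  intro i hi
  rw [h i (Finset.mem_range.mp hi), zpow_neg]

/-- the centraliser in `G` of `U_J`, `J` the complement of a node, lies in `U` -/
theorem cf_cent_le_U (D : ChevalleyDatum) (hB : H8Base.{u} D) (hA : H8ReflAll D)
    (hC : H8CommAll.{u} D) (hBN : H8BN D) (hW : H8BN2 D) (hO : H8Ord D) (hO2 : H8Ord2 D)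
    (hM : CfMax D) (hRC : cfRootChk D = true) (hsc : h8scChk D = true)
    (hLat : ∀ j < D.rank, ∀ s < D.nroots, cfLatRow D j s = true)
    (j : ℕ) (hj : j < D.rank)
    (hBUJ : D.borelSubgroup F ≤
      Subgroup.normalizer (D.unipotentRadical F {i | i ≠ j} : Set (GL D.Idx F))) :
    Subgroup.centralizer (D.unipotentRadical F {i | i ≠ j} : Set (GL D.Idx F)) ⊓ D.group F ≤
      D.posUnipotent F := by
  intro c hc
  have hcB := cf_cent_le_B D hB hA hC hBN hW hO hO2 hM hRC j hj hBUJ hc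
  obtain ⟨g, hg, h, hh, rfl⟩ := cf_B_decomp D hB c hcB
  obtain ⟨γ, hγ, hval⟩ := h8_H_eq_Phi D hB h hh
  have hcc : g * h ∈ Subgroup.centralizer
      (D.unipotentRadical F {i | i ≠ j} : Set (GL D.Idx F)) := (Subgroup.mem_inf.mp hc).1
  -- action of `h` on root elements
  have hact : ∀ s (hs : s < D.nroots) (t : F), h * h8xU D hB s t * h⁻¹ =
      h8xU D hB s (h8Phi D D.rank γ (Sum.inr ⟨s, hs⟩) * t) := by
    intro s hs t
    rw [mul_inv_eq_iff_eq_mul]
    apply Units.ext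
    rw [Units.val_mul, Units.val_mul, h8xU_val, h8xU_val, hval]
    exact h8Phi_conj_x D hB hsc γ hγ s hs D.rank le_rfl t
  -- `Φ_r = 1` for the roots of `U_J`
  have hone : ∀ r (hr : D.IsPosRoot r), (D.coroot.getD r #[]).getD j 0 ≠ 0 →
      h8Phi D D.rank γ (Sum.inr ⟨r, hr.1⟩) = 1 := by
    intro r hr hrj
    have hxU := cf_mem_UJ D hB j hj r hr hrj (1 : F)
    have hcomm := Subgroup.mem_centralizer_iff.mp hcc _ hxU
    have e1 : g * (h * h8xU D hB r 1 * h⁻¹) * g⁻¹ = h8xU D hB r 1 := by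
      have : g * (h * h8xU D hB r 1 * h⁻¹) * g⁻¹ = (g * h) * h8xU D hB r 1 * (g * h)⁻¹ := by
        group
      rw [this, ← hcomm]; group
    rw [hact r hr.1 1] at e1
    have := cf_U_conj_eq D hB hC hO hO2 hM g hg r hr _ _ e1
    rwa [mul_one] at this
  have hPhi : ∀ s (hs : s < D.nroots), h8Phi D D.rank γ (Sum.inr ⟨s, hs⟩) =
      ∏ i ∈ Finset.range D.rank, γ i ^ (D.cartan i s) := fun s hs => rfl
  -- `Φ_s = 1` for all positive roots
  have hpos : ∀ s (hs : D.IsPosRoot s), h8Phi D D.rank γ (Sum.inr ⟨s, hs.1⟩) = 1 := by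
    intro s hs
    by_cases hsj : (D.coroot.getD s #[]).getD j 0 = 0
    · obtain ⟨v, w, hv, hvj, hw, hwj, km, hkm, hkm1⟩ :=
        cfLatRow_spec D j s (hLat j hj s hs.1) hs hsj
      have hadd : ∀ i < D.rank, D.cartan i w = D.cartan i v + D.cartan i s := by
        intro i hi
        have := hB.ca.add i hi s hs.1 v w km hkm
        rw [hkm1] at this
        simpa using this
      have e := cf_prod_zpow_add γ hγ D.rank (fun i => D.cartan i w) (fun i => D.cartan i v)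
        (fun i => D.cartan i s) hadd
      rw [← hPhi w hw.1, ← hPhi v hv.1, ← hPhi s hs.1, hone w hw hwj, hone v hv hvj,
        one_mul] at e
      exact e.symm
    · exact hone s hs hsj
  -- `Φ_s = 1` for all roots
  have hall : ∀ s (hs : s < D.nroots), h8Phi D D.rank γ (Sum.inr ⟨s, hs⟩) = 1 := by
    intro s hs
    rcases hB.posneg s hs with hp | hn
    · exact hpos s hp
    · have hp := h8pos_of_neg D hB hBN hO2 s hn
      obtain ⟨hnl, hnn⟩ := hO2.negneg s hs
      have hneg : ∀ i < D.rank, D.cartan i s = - D.cartan i (D.negIdx.getD s 0) := by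
        intro i hi
        have := hB.ca.neg i hi (D.negIdx.getD s 0) hnl
        rw [hnn] at this
        exact this
      have e := cf_prod_zpow_neg γ D.rank (fun i => D.cartan i s)
        (fun i => D.cartan i (D.negIdx.getD s 0)) hneg
      rw [← hPhi s hs, ← hPhi _ hnl, hpos _ hp, inv_one] at e
      exact e
  have hh1 : h = 1 := by
    apply Units.ext
    rw [hval, Units.val_one, ← Matrix.diagonal_one]
    congr 1
    funext x
    rcases x with k | v
    · rfl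
    · exact hall v.val v.2
  rw [hh1, mul_one]
  exact hg

end Cfsg.Agent.Lib.helper14
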