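import Mathlib
import Cfsg.Prelude.Def_ChevStructure
import Cfsg.Agent.Lib.helper14.ChevCentUJ

/-!
# The Borel subgroup normalises every member `V_m` of the index filtration of `U`
-/

set_option autoImplicit false

namespace Cfsg.Agent.Lib.helper14

open Cfsg.Lie Cfsg.Lie.ChevalleyDatum Cfsg.Agent.Lib.helper8

universe u

variable {F : Type u} [Field F]

/-- conjugation by `u ∈ U` maps `V_m` into itself -/
theorem cf_norm_U (D : ChevalleyDatum) (hB : H8Base.{u} D) (hC : H8CommAll.{u} D)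
    (hO : H8Ord D) (hM : CfMax D) (g : GL D.Idx F) (hg : g ∈ D.posUnipotent F) (m : ℕ) :
    ∀ x ∈ Subgroup.closure (h8VkSet D F m), g * x * g⁻¹ ∈ Subgroup.closure (h8VkSet D F m) := by
  unfold ChevalleyDatum.posUnipotent at hg
  induction hg using Subgroup.closure_induction_left with
  | one =>
    intro x hx
    rw [one_mul, inv_one, mul_one]
    exact hx
  | mul_left a ha y _ ih =>
    intro x hx
    obtain ⟨s, c, hs, hav⟩ := ha
    have ha' : a = h8xU D hB s c := Units.ext hav
    have e : a * y * x * (a * y)⁻¹ = a * (y * x * y⁻¹) * a⁻¹ := by group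
    rw [e, ha']
    exact cf_norm_gen D hB hC hO hM s hs c m _ (ih x hx)
  | inv_mul_cancel a ha y _ ih =>
    intro x hx
    obtain ⟨s, c, hs, hav⟩ := ha
    have ha' : a⁻¹ = h8xU D hB s (-c) := by
      have : a = h8xU D hB s c := Units.ext hav
      rw [this, h8xU_inv]
    have e : a⁻¹ * y * x * (a⁻¹ * y)⁻¹ = a⁻¹ * (y * x * y⁻¹) * (a⁻¹)⁻¹ := by group
    rw [e, ha']
    exact cf_norm_gen D hB hC hO hM s hs (-c) m _ (ih x hx)

theorem cf_U_le_normVk (D : ChevalleyDatum) (hB : H8Base.{u} D) (hC : H8CommAll.{u} D)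
    (hO : H8Ord D) (hM : CfMax D) (m : ℕ) :
    D.posUnipotent F ≤ Subgroup.normalizer (Subgroup.closure (h8VkSet D F m) : Set (GL D.Idx F)) := by
  intro g hg
  apply h8_mem_normalizer_closure
  · intro s hs
    exact cf_norm_U D hB hC hO hM g hg m s (Subgroup.subset_closure hs)
  · intro s hs
    have := cf_norm_U D hB hC hO hM g⁻¹ (Subgroup.inv_mem _ hg) m s (Subgroup.subset_closure hs)
    rwa [inv_inv] at this

theorem cf_H_le_normVk (D : ChevalleyDatum) (hB : H8Base.{u} D) (m : ℕ) :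
    D.diagonalSubgroup F ≤
      Subgroup.normalizer (Subgroup.closure (h8VkSet D F m) : Set (GL D.Idx F)) := by
  intro h hh
  have hact := h8perm_H_id D hB h hh
  have hact' := h8perm_H_id D hB h⁻¹ (Subgroup.inv_mem _ hh)
  apply h8_mem_normalizer_closure
  · rintro x ⟨s, v, hs, hms, hx⟩
    have hx' : x = h8xU D hB s v := Units.ext (by rw [hx, h8xU_val])
    obtain ⟨c, _, hc⟩ := hact s hs.1
    rw [hx', hc]
    exact cfx_mem_Vk D hB m s hs hms _
  · rintro x ⟨s, v, hs, hms, hx⟩
    have hx' : x = h8xU D hB s v := Units.ext (by rw [hx, h8xU_val])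
    obtain ⟨c, _, hc⟩ := hact' s hs.1
    have := hc v
    rw [inv_inv] at this
    rw [hx', this]
    exact cfx_mem_Vk D hB m s hs hms _

theorem cf_B_le_normVk (D : ChevalleyDatum) (hB : H8Base.{u} D) (hC : H8CommAll.{u} D)
    (hO : H8Ord D) (hM : CfMax D) (m : ℕ) :
    D.borelSubgroup F ≤
      Subgroup.normalizer (Subgroup.closure (h8VkSet D F m) : Set (GL D.Idx F)) := by
  unfold ChevalleyDatum.borelSubgroup
  exact sup_le (cf_U_le_normVk D hB hC hO hM m) (cf_H_le_normVk D hB m)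

/-- the filtration ends with the trivial group -/
theorem cf_Vk_top (D : ChevalleyDatum) (m : ℕ) (hm : D.nroots ≤ m) :
    Subgroup.closure (h8VkSet D F m) = ⊥ := by
  rw [Subgroup.closure_eq_bot_iff]
  rintro g ⟨r, t, hr, hmr, _⟩
  have := hr.1
  omega

/-- `U = V_m` when every positive root has index at least `m` -/
theorem cf_U_eq_Vk (D : ChevalleyDatum) (m : ℕ) (hm : ∀ r, D.IsPosRoot r → m ≤ r) :
    D.posUnipotent F = Subgroup.closure (h8VkSet D F m) := by
  unfold ChevalleyDatum.posUnipotent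
  congr 1
  ext g
  constructor
  · rintro ⟨r, t, hr, hg⟩
    exact ⟨r, t, hr, hm r hr, hg⟩
  · rintro ⟨r, t, hr, _, hg⟩
    exact ⟨r, t, hr, hg⟩

end Cfsg.Agent.Lib.helper14
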