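import Mathlib
import Cfsg.Prelude.Def_ChevStructure
import Cfsg.Agent.Lib.helper14.ChevNormVk
import Cfsg.Agent.Lib.helper8.ChevCnt3
import Cfsg.Agent.Lib.helper8.ChevBr3
import Cfsg.Agent.Lib.helper8.ChevPair

/-!
# Project F4C (S2179), generic part: canonical words in `U` and the positivity lemma

`f4cW D hB k t` is the increasing ordered product `∏_{r ≥ k, r > 0} x_r(t r)`.
* `f4c_W_unique` : the coefficients of a canonical word are unique.
* `f4c_ordP_fill` : a `P`-restricted increasing product is a canonical word (zeros filled in).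
* `f4c_pos_split` : if `n` acts on the root subgroups through `σ` and `n u n⁻¹ ∈ U` for `u ∈ U`,
  then `u` is an increasing product over the positive roots `r` with `σ r` positive.
* `f4c_coef_pos` : consequently every root in the support of a canonical word of `u` is mapped to a
  positive root.
* `f4c_conj_W_mem_U` : conversely, such a canonical word is conjugated into `U`.
-/

set_option autoImplicit false

namespace Cfsg.Agent.Lib.helper14

open Cfsg.Lie Cfsg.Lie.ChevalleyDatum Cfsg.Agent.Lib.helper8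

universe u

variable {F : Type u} [Field F]

/-- the increasing ordered product `∏_{r ≥ k, r > 0} x_r(t r)` -/
def f4cW (D : ChevalleyDatum) (hB : H8Base.{u} D) (k : ℕ) (t : ℕ → F) : GL D.Idx F :=
  h8wordU D hB (h8ordP D (fun _ => true) k t)

theorem f4cW_pos (D : ChevalleyDatum) (hB : H8Base.{u} D) (k : ℕ) (hk : D.IsPosRoot k)
    (t : ℕ → F) : f4cW D hB k t = h8xU D hB k (t k) * f4cW D hB (k + 1) t := by
  unfold f4cW h8ordP
  rw [h8Lk_pos D k hk, List.filter_cons, if_pos rfl, List.map_cons, h8wordU_cons]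

theorem f4cW_not (D : ChevalleyDatum) (hB : H8Base.{u} D) (k : ℕ) (hk : ¬ D.IsPosRoot k)
    (t : ℕ → F) : f4cW D hB k t = f4cW D hB (k + 1) t := by
  unfold f4cW h8ordP
  rw [h8Lk_not D k hk]

theorem f4cW_top (D : ChevalleyDatum) (hB : H8Base.{u} D) (k : ℕ) (hk : D.nroots ≤ k)
    (t : ℕ → F) : f4cW D hB k t = 1 := by
  have : h8Lk D k = [] := by
    rw [List.eq_nil_iff_forall_not_mem]
    intro r hr
    obtain ⟨h1, h2⟩ := (h8Lk_mem D k r).mp hr
    have := h2.1
    omega
  unfold f4cW h8ordP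
  rw [this]
  rfl

theorem f4cW_mem_Vk (D : ChevalleyDatum) (hB : H8Base.{u} D) (k : ℕ) (t : ℕ → F) :
    f4cW D hB k t ∈ Subgroup.closure (h8VkSet D F k) := by
  unfold f4cW
  apply cfword_mem_Vk
  intro q hq
  unfold h8ordP at hq
  rw [List.mem_map] at hq
  obtain ⟨r, hr, rfl⟩ := hq
  obtain ⟨h1, h2⟩ := (h8Lk_mem D k r).mp (List.mem_filter.mp hr).1
  exact ⟨h2, h1⟩

theorem f4cW_mem_U (D : ChevalleyDatum) (hB : H8Base.{u} D) (t : ℕ → F) :
    f4cW D hB 0 t ∈ D.posUnipotent F := by
  have := f4cW_mem_Vk D hB 0 t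
  rwa [h8Vk_zero] at this

theorem f4cW_congr (D : ChevalleyDatum) (hB : H8Base.{u} D) (k : ℕ) (t t' : ℕ → F)
    (h : ∀ r ∈ h8Lk D k, t r = t' r) : f4cW D hB k t = f4cW D hB k t' := by
  unfold f4cW
  rw [h8ordP_congr D _ k t t' h]

/-- uniqueness of the coefficients of a canonical word -/
theorem f4c_W_unique (D : ChevalleyDatum) (hB : H8Base.{u} D) (hO : H8Ord2 D) :
    ∀ (m k : ℕ), k + m = D.nroots → ∀ t t' : ℕ → F,
      f4cW D hB k t = f4cW D hB k t' → ∀ r ∈ h8Lk D k, t r = t' r := by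
  intro m
  induction m with
  | zero =>
    intro k hk t t' _ r hr
    obtain ⟨h1, h2⟩ := (h8Lk_mem D k r).mp hr
    have := h2.1
    omega
  | succ m ih =>
    intro k hk t t' heq r hr
    by_cases hpos : D.IsPosRoot k
    · rw [f4cW_pos D hB k hpos, f4cW_pos D hB k hpos] at heq
      have hmem : h8xU D hB k (t k - t' k) ∈ Subgroup.closure (h8VkSet D F (k + 1)) := by
        have e : h8xU D hB k (t k - t' k) =
            f4cW D hB (k + 1) t' * (f4cW D hB (k + 1) t)⁻¹ := by
          rw [eq_mul_inv_iff_mul_eq, sub_eq_add_neg, add_comm, ← h8xU_add D hB k hpos.1,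
            ← h8xU_inv, mul_assoc, heq, ← mul_assoc, inv_mul_cancel, one_mul]
        rw [e]
        exact Subgroup.mul_mem _ (f4cW_mem_Vk D hB (k + 1) t')
          (Subgroup.inv_mem _ (f4cW_mem_Vk D hB (k + 1) t))
      have h0 := h8x_not_mem_Vk D hB hO k hpos _ hmem
      have hk0 : t k = t' k := sub_eq_zero.mp h0
      rw [hk0] at heq
      have heq' := mul_left_cancel heq
      rw [h8Lk_pos D k hpos, List.mem_cons] at hr
      rcases hr with rfl | hr
      · exact hk0
      · exact ih (k + 1) (by omega) t t' heq' r hr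
    · rw [f4cW_not D hB k hpos, f4cW_not D hB k hpos] at heq
      rw [h8Lk_not D k hpos] at hr
      exact ih (k + 1) (by omega) t t' heq r hr

theorem f4c_W_unique0 (D : ChevalleyDatum) (hB : H8Base.{u} D) (hO : H8Ord2 D) (t t' : ℕ → F)
    (h : f4cW D hB 0 t = f4cW D hB 0 t') (r : ℕ) (hr : D.IsPosRoot r) : t r = t' r :=
  f4c_W_unique D hB hO D.nroots 0 (by omega) t t' h r ((h8Lk_mem D 0 r).mpr ⟨Nat.zero_le _, hr⟩)

/-- a `P`-restricted increasing product is a canonical word -/
theorem f4c_ordP_fill (D : ChevalleyDatum) (hB : H8Base.{u} D) (P : ℕ → Bool) (t : ℕ → F) :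
    ∀ (m k : ℕ), k + m = D.nroots →
      h8wordU D hB (h8ordP D P k t) = f4cW D hB k (fun r => if P r then t r else 0) := by
  intro m
  induction m with
  | zero =>
    intro k hk
    rw [f4cW_top D hB k (by omega)]
    have : h8Lk D k = [] := by
      rw [List.eq_nil_iff_forall_not_mem]
      intro r hr
      obtain ⟨h1, h2⟩ := (h8Lk_mem D k r).mp hr
      have := h2.1
      omega
    unfold h8ordP
    rw [this]
    rfl
  | succ m ih =>
    intro k hk
    by_cases hpos : D.IsPosRoot k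
    · rw [f4cW_pos D hB k hpos, ← ih (k + 1) (by omega)]
      unfold h8ordP
      rw [h8Lk_pos D k hpos, List.filter_cons]
      cases hP : P k with
      | true =>
        rw [if_pos rfl, List.map_cons, h8wordU_cons]
        simp
      | false =>
        rw [if_neg (by simp)]
        simp only [Bool.false_eq_true, if_false]
        rw [h8xU_zero, one_mul]
    · rw [f4cW_not D hB k hpos, ← ih (k + 1) (by omega)]
      unfold h8ordP
      rw [h8Lk_not D k hpos]

/-- **positivity lemma**: if `n` acts through `σ` and conjugates `u ∈ U` into `U`, then `u` is an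
increasing product over the positive roots which `σ` maps to positive roots -/
theorem f4c_pos_split (D : ChevalleyDatum) (hB : H8Base.{u} D) (hC : H8CommAll.{u} D)
    (hBN : H8BN D) (hO : H8Ord D) (n : GL D.Idx F) (σ : ℕ → ℕ)
    (hlt : ∀ r < D.nroots, σ r < D.nroots)
    (hact : ∀ r < D.nroots, H8Act D hB n r (σ r)) (g : GL D.Idx F)
    (hg : g ∈ D.posUnipotent F) (hconj : n * g * n⁻¹ ∈ D.posUnipotent F) :
    ∃ t : ℕ → F, g = h8wordU D hB (h8ordP D (fun r => decide (D.IsPosRoot (σ r))) 0 t) := by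
  obtain ⟨t, ht⟩ := h8split_main D hB hC hO (fun r => decide (D.IsPosRoot (σ r))) g hg
  refine ⟨t, ?_⟩
  set p := h8wordU D hB (h8ordP D (fun r => decide (D.IsPosRoot (σ r))) 0 t) with hp
  set q := h8wordU D hB (h8ordQ D (fun r => decide (D.IsPosRoot (σ r))) 0 t) with hq
  have hP := h8ordP_mem D hB (fun r => decide (D.IsPosRoot (σ r))) 0 t
  have hQ := h8ordQ_mem D hB (fun r => decide (D.IsPosRoot (σ r))) 0 t
  have hpU : n * p * n⁻¹ ∈ D.posUnipotent F := h8splitP_conj D hB n σ hact p hP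
  have hqV : n * q * n⁻¹ ∈ D.negUnipotent F :=
    h8Um_conj_mem_V D hB n q (h8splitQ_le D hB n σ hlt hact hQ)
  have hqU : n * q * n⁻¹ ∈ D.posUnipotent F := by
    have : n * q * n⁻¹ = (n * p * n⁻¹)⁻¹ * (n * g * n⁻¹) := by rw [ht]; group
    rw [this]
    exact Subgroup.mul_mem _ (Subgroup.inv_mem _ hpU) hconj
  have hbot : n * q * n⁻¹ ∈ D.borelSubgroup F ⊓ D.negUnipotent F :=
    Subgroup.mem_inf.mpr ⟨h8U_le_B D hqU, hqV⟩
  rw [h8_B_inf_V D hB hBN.negOK, Subgroup.mem_bot] at hbot
  have hq1 : q = 1 := by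
    have : q = n⁻¹ * (n * q * n⁻¹) * n := by group
    rw [this, hbot]; group
  rw [ht, hq1, mul_one]

/-- every root in the support of a canonical word of `u` is mapped to a positive root by an element
of `N` conjugating `u` into `U` -/
theorem f4c_coef_pos (D : ChevalleyDatum) (hB : H8Base.{u} D) (hC : H8CommAll.{u} D)
    (hBN : H8BN D) (hO : H8Ord D) (hO2 : H8Ord2 D) (n : GL D.Idx F) (σ : ℕ → ℕ)
    (hlt : ∀ r < D.nroots, σ r < D.nroots)
    (hact : ∀ r < D.nroots, H8Act D hB n r (σ r)) (c : ℕ → F)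
    (hconj : n * f4cW D hB 0 c * n⁻¹ ∈ D.posUnipotent F) (r : ℕ) (hr : D.IsPosRoot r)
    (hcr : c r ≠ 0) : D.IsPosRoot (σ r) := by
  obtain ⟨t, ht⟩ := f4c_pos_split D hB hC hBN hO n σ hlt hact _ (f4cW_mem_U D hB c) hconj
  rw [f4c_ordP_fill D hB _ t D.nroots 0 (by omega)] at ht
  have h1 := f4c_W_unique0 D hB hO2 _ _ ht r hr
  by_contra hneg
  rw [if_neg (by simpa using hneg)] at h1
  exact hcr h1

/-- a canonical word whose support is mapped into the positive roots is conjugated into `U` -/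
theorem f4c_conj_W_mem_U (D : ChevalleyDatum) (hB : H8Base.{u} D) (n : GL D.Idx F) (σ : ℕ → ℕ)
    (hact : ∀ r < D.nroots, H8Act D hB n r (σ r)) (c : ℕ → F)
    (hpos : ∀ r, D.IsPosRoot r → c r ≠ 0 → D.IsPosRoot (σ r)) :
    n * f4cW D hB 0 c * n⁻¹ ∈ D.posUnipotent F := by
  unfold f4cW h8wordU
  have : n * ((h8ordP D (fun _ => true) 0 c).map fun p => h8xU D hB p.1 p.2).prod * n⁻¹ =
      (((h8ordP D (fun _ => true) 0 c).map fun p => h8xU D hB p.1 p.2).map
        (MulAut.conj n)).prod := by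
    rw [← map_list_prod]
    rfl
  rw [this]
  apply Subgroup.list_prod_mem
  intro x hx
  rw [List.map_map, List.mem_map] at hx
  obtain ⟨q, hq, rfl⟩ := hx
  unfold h8ordP at hq
  rw [List.mem_map] at hq
  obtain ⟨r, hr, rfl⟩ := hq
  obtain ⟨_, hrpos⟩ := (h8Lk_mem D 0 r).mp (List.mem_filter.mp hr).1
  simp only [Function.comp, MulAut.conj_apply]
  obtain ⟨η, _, h1⟩ := hact r hrpos.1
  rw [h1]
  by_cases hc : c r = 0
  · rw [hc, mul_zero, h8xU_zero]
    exact Subgroup.one_mem _
  · exact h8xU_mem_U D hB _ (hpos r hrpos hc) _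

end Cfsg.Agent.Lib.helper14
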