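import Mathlib
import Cfsg.Prelude.Def_ChevStructure
import Cfsg.Agent.Lib.helper14.F4Ca
import Cfsg.Agent.Lib.helper14.ChevCentUJ
import Cfsg.Agent.Lib.helper8.ChevCent2

/-!
# Project F4C (S2179), generic part 2: commuting, `B`-stable lists of positive roots

For a list `L` of positive roots, `f4cQ D hB L` is the subgroup generated by the root subgroups
`X_r`, `r ∈ L`, and `f4cLW D hB L c = ∏_{r ∈ L} x_r(c r)` (in the order of the list).
Under the Boolean checks `f4cCommChk` (the `X_r`, `r ∈ L`, commute pairwise modulo `m`) and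
`f4cStabChk` (the commutator terms of a positive root with a root of `L` vanish modulo `m` or lie
in `L`), and `m = 0` in `F`:  `f4cQ` is normalised by `B`, and consists of the words `f4cLW`.
Also: the support transport lemma `f4c_support` (with witness Weyl words).
-/

set_option autoImplicit false

namespace Cfsg.Agent.Lib.helper14

open Cfsg.Lie Cfsg.Lie.ChevalleyDatum Cfsg.Agent.Lib.helper8

universe u

variable {F : Type u} [Field F]

/-- the subgroup generated by the root subgroups of the roots in `L` -/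
def f4cQ (D : ChevalleyDatum) (hB : H8Base.{u} D) (F : Type u) [Field F] (L : List ℕ) :
    Subgroup (GL D.Idx F) :=
  Subgroup.closure {g : GL D.Idx F | ∃ r ∈ L, ∃ c : F, g = h8xU D hB r c}

/-- the word `∏_{r ∈ L} x_r(c r)` -/
def f4cLW (D : ChevalleyDatum) (hB : H8Base.{u} D) (L : List ℕ) (c : ℕ → F) : GL D.Idx F :=
  h8wordU D hB (L.map fun r => (r, c r))

/-- the root subgroups `X_r`, `r ∈ L`, commute pairwise modulo `m` -/
def f4cCommChk (D : ChevalleyDatum) (L : List ℕ) (m : ℕ) : Bool :=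
  L.all fun r => decide (r < D.nroots) && L.all fun s => decide (s = r) ||
    (decide (s ≠ D.negIdx.getD r 0) &&
      (D.commTerms r s).all fun c => decide (c.2.1 % (m : ℤ) = 0))

/-- for every positive root `r` and `s ∈ L`, the terms of the commutator formula of `(r, s)` vanish
modulo `m` or belong to roots of `L` -/
def f4cStabChk (D : ChevalleyDatum) (L : List ℕ) (m : ℕ) : Bool :=
  L.all fun s => decide (s < D.nroots) && (List.range D.nroots).all fun r =>
    !(decide (D.IsPosRoot r)) || decide (s = r) ||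
      (decide (s ≠ D.negIdx.getD r 0) &&
        (D.commTerms r s).all fun c => decide (c.2.1 % (m : ℤ) = 0) || L.contains c.1)

theorem f4c_coef_zero (m : ℕ) (hm : ((m : ℤ) : F) = 0) (c : ℤ) (hc : c % (m : ℤ) = 0) :
    ((c : ℤ) : F) = 0 := by
  have := Int.emod_add_mul_ediv c (m : ℤ)
  rw [hc, zero_add] at this
  rw [← this, Int.cast_mul, hm, zero_mul]

theorem f4cQ_mem (D : ChevalleyDatum) (hB : H8Base.{u} D) (L : List ℕ) (r : ℕ) (hr : r ∈ L)
    (c : F) : h8xU D hB r c ∈ f4cQ D hB F L :=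
  Subgroup.subset_closure ⟨r, hr, c, rfl⟩

theorem f4cLW_nil (D : ChevalleyDatum) (hB : H8Base.{u} D) (c : ℕ → F) :
    f4cLW D hB [] c = 1 := rfl

theorem f4cLW_cons (D : ChevalleyDatum) (hB : H8Base.{u} D) (r : ℕ) (L : List ℕ) (c : ℕ → F) :
    f4cLW D hB (r :: L) c = h8xU D hB r (c r) * f4cLW D hB L c := by
  unfold f4cLW
  rw [List.map_cons, h8wordU_cons]

theorem f4cLW_mem_Q (D : ChevalleyDatum) (hB : H8Base.{u} D) (L L' : List ℕ) (hL : ∀ r ∈ L, r ∈ L')
    (c : ℕ → F) : f4cLW D hB L c ∈ f4cQ D hB F L' := by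
  unfold f4cLW
  apply h8wordU_mem_of
  intro p hp
  rw [List.mem_map] at hp
  obtain ⟨r, hr, rfl⟩ := hp
  exact f4cQ_mem D hB L' r (hL r hr) _

/-- pairwise commutation from the check -/
theorem f4c_comm_of_chk (D : ChevalleyDatum) (hB : H8Base.{u} D) (hC : H8CommAll.{u} D)
    (L : List ℕ) (m : ℕ) (hm : ((m : ℤ) : F) = 0) (hchk : f4cCommChk D L m = true)
    (r s : ℕ) (hr : r ∈ L) (hs : s ∈ L) (a b : F) :
    h8xU D hB s b * h8xU D hB r a = h8xU D hB r a * h8xU D hB s b := by
  unfold f4cCommChk at hchk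
  simp only [List.all_eq_true, Bool.and_eq_true, decide_eq_true_eq, Bool.or_eq_true] at hchk
  obtain ⟨hrlt, h1⟩ := hchk r hr
  have hslt := (hchk s hs).1
  rcases h1 s hs with h2 | ⟨h2, h3⟩
  · rw [h2, h8xU_add D hB r hrlt, h8xU_add D hB r hrlt, add_comm]
  · apply h8comm_of_zero D hB hC r s hrlt hslt h2
    intro _ c hc
    exact f4c_coef_zero m hm _ (h3 c hc)

/-- `x_r(a)` commutes with every word over `L` -/
theorem f4c_comm_LW (D : ChevalleyDatum) (hB : H8Base.{u} D) (hC : H8CommAll.{u} D)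
    (L : List ℕ) (m : ℕ) (hm : ((m : ℤ) : F) = 0) (hchk : f4cCommChk D L m = true)
    (r : ℕ) (hr : r ∈ L) (a : F) (c : ℕ → F) :
    ∀ (L' : List ℕ), (∀ s ∈ L', s ∈ L) →
      f4cLW D hB L' c * h8xU D hB r a = h8xU D hB r a * f4cLW D hB L' c := by
  intro L'
  induction L' with
  | nil => intro _; rw [f4cLW_nil, one_mul, mul_one]
  | cons s L' ih =>
    intro hL'
    rw [f4cLW_cons, mul_assoc, ih (fun x hx => hL' x (List.mem_cons_of_mem _ hx)), ← mul_assoc,
      f4c_comm_of_chk D hB hC L m hm hchk r s hr (hL' s List.mem_cons_self) a (c s), mul_assoc]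

theorem f4cLW_mul (D : ChevalleyDatum) (hB : H8Base.{u} D) (hC : H8CommAll.{u} D)
    (L : List ℕ) (m : ℕ) (hm : ((m : ℤ) : F) = 0) (hchk : f4cCommChk D L m = true)
    (c c' : ℕ → F) : ∀ (L' : List ℕ), (∀ s ∈ L', s ∈ L) →
      f4cLW D hB L' c * f4cLW D hB L' c' = f4cLW D hB L' (fun r => c r + c' r) := by
  intro L'
  induction L' with
  | nil => intro _; rw [f4cLW_nil, f4cLW_nil, f4cLW_nil, one_mul]
  | cons s L' ih =>
    intro hL'
    have hsL := hL' s List.mem_cons_self
    have hL'' : ∀ x ∈ L', x ∈ L := fun x hx => hL' x (List.mem_cons_of_mem _ hx)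
    have hslt : s < D.nroots := by
      unfold f4cCommChk at hchk
      simp only [List.all_eq_true, Bool.and_eq_true, decide_eq_true_eq] at hchk
      exact (hchk s hsL).1
    rw [f4cLW_cons, f4cLW_cons, f4cLW_cons, ← ih hL'', ← h8xU_add D hB s hslt]
    have h1 := f4c_comm_LW D hB hC L m hm hchk s hsL (c' s) c L' hL''
    calc h8xU D hB s (c s) * f4cLW D hB L' c * (h8xU D hB s (c' s) * f4cLW D hB L' c')
        = h8xU D hB s (c s) * (f4cLW D hB L' c * h8xU D hB s (c' s)) * f4cLW D hB L' c' := by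
          group
      _ = h8xU D hB s (c s) * (h8xU D hB s (c' s) * f4cLW D hB L' c) * f4cLW D hB L' c' := by
          rw [h1]
      _ = h8xU D hB s (c s) * h8xU D hB s (c' s) * (f4cLW D hB L' c * f4cLW D hB L' c') := by
          group

theorem f4cLW_zero (D : ChevalleyDatum) (hB : H8Base.{u} D) (L : List ℕ) :
    f4cLW D hB L (fun _ => (0 : F)) = 1 := by
  induction L with
  | nil => rfl
  | cons s L ih => rw [f4cLW_cons, ih, h8xU_zero, one_mul]

theorem f4cLW_congr (D : ChevalleyDatum) (hB : H8Base.{u} D) (L : List ℕ) (c c' : ℕ → F)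
    (h : ∀ r ∈ L, c r = c' r) : f4cLW D hB L c = f4cLW D hB L c' := by
  unfold f4cLW
  congr 1
  apply List.map_congr_left
  intro r hr
  rw [h r hr]

theorem f4cLW_single (D : ChevalleyDatum) (hB : H8Base.{u} D) (r : ℕ) (a : F) :
    ∀ (L : List ℕ), L.Nodup → r ∈ L →
      f4cLW D hB L (fun s => if s = r then a else 0) = h8xU D hB r a := by
  intro L
  induction L with
  | nil => intro _ h; exact absurd h List.not_mem_nil
  | cons s L ih =>
    intro hnd hr
    rw [f4cLW_cons]
    rw [List.nodup_cons] at hnd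
    by_cases hsr : s = r
    · subst hsr
      rw [if_pos rfl]
      have : f4cLW D hB L (fun x => if x = s then a else 0) = f4cLW D hB L (fun _ => (0 : F)) := by
        apply f4cLW_congr
        intro x hx
        rw [if_neg]
        rintro rfl
        exact hnd.1 hx
      rw [this, f4cLW_zero, mul_one]
    · rw [if_neg hsr, h8xU_zero, one_mul]
      rcases List.mem_cons.mp hr with h | h
      · exact absurd h.symm hsr
      · exact ih hnd.2 h

/-- every element of `f4cQ` is a word -/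
theorem f4c_Q_word (D : ChevalleyDatum) (hB : H8Base.{u} D) (hC : H8CommAll.{u} D)
    (L : List ℕ) (hnd : L.Nodup) (m : ℕ) (hm : ((m : ℤ) : F) = 0)
    (hchk : f4cCommChk D L m = true) (q : GL D.Idx F) (hq : q ∈ f4cQ D hB F L) :
    ∃ c : ℕ → F, q = f4cLW D hB L c := by
  unfold f4cQ at hq
  induction hq using Subgroup.closure_induction with
  | mem x hx =>
    obtain ⟨r, hr, a, rfl⟩ := hx
    exact ⟨_, (f4cLW_single D hB r a L hnd hr).symm⟩
  | one => exact ⟨fun _ => 0, (f4cLW_zero D hB L).symm⟩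
  | mul x y _ _ hx hy =>
    obtain ⟨c, rfl⟩ := hx
    obtain ⟨c', rfl⟩ := hy
    exact ⟨_, f4cLW_mul D hB hC L m hm hchk c c' L (fun _ h => h)⟩
  | inv x _ hx =>
    obtain ⟨c, rfl⟩ := hx
    refine ⟨fun r => -c r, ?_⟩
    rw [inv_eq_iff_mul_eq_one, f4cLW_mul D hB hC L m hm hchk c _ L (fun _ h => h)]
    have : (fun r => c r + -c r) = fun _ => (0 : F) := by
      funext r; ring
    rw [this, f4cLW_zero]

/-- conjugation of a generator of `f4cQ` by a positive root element -/
theorem f4c_conj_gen_Q (D : ChevalleyDatum) (hB : H8Base.{u} D) (hC : H8CommAll.{u} D)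
    (L : List ℕ) (m : ℕ) (hm : ((m : ℤ) : F) = 0) (hchk : f4cStabChk D L m = true)
    (r : ℕ) (hr : D.IsPosRoot r) (t : F) (s : ℕ) (hs : s ∈ L) (a : F) :
    h8xU D hB r t * h8xU D hB s a * (h8xU D hB r t)⁻¹ ∈ f4cQ D hB F L := by
  unfold f4cStabChk at hchk
  simp only [List.all_eq_true, Bool.and_eq_true, decide_eq_true_eq, Bool.or_eq_true,
    List.mem_range, Bool.not_eq_true', decide_eq_false_iff_not, List.contains_iff_mem] at hchk
  obtain ⟨hslt, h1⟩ := hchk s hs
  by_cases hsr : s = r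
  · subst hsr
    have : h8xU D hB s t * h8xU D hB s a * (h8xU D hB s t)⁻¹ = h8xU D hB s a := by
      rw [h8xU_add D hB s hslt, add_comm, ← h8xU_add D hB s hslt]
      group
    rw [this]
    exact f4cQ_mem D hB L s hs a
  · rcases h1 r hr.1 with (h2 | h2) | ⟨h2, h3⟩
    · exact absurd hr h2
    · exact absurd h2 hsr
    · have h4 : h8xU D hB s a * h8xU D hB r (-t) = h8xU D hB r (-t) * h8xU D hB s a *
          h8wordU D hB (D.commWord F r s (-t) a) := by
        apply Units.ext
        rw [Units.val_mul, Units.val_mul, Units.val_mul, h8xU_val, h8xU_val, h8wordU_val]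
        exact hC.all r hr.1 s hslt hsr h2 F (-t) a
      rw [← h8xU_inv] at h4
      have key : h8xU D hB r t * h8xU D hB s a * (h8xU D hB r t)⁻¹ =
          h8xU D hB s a * h8wordU D hB (D.commWord F r s (-t) a) := by
        calc h8xU D hB r t * h8xU D hB s a * (h8xU D hB r t)⁻¹
            = h8xU D hB r t * (h8xU D hB s a * (h8xU D hB r t)⁻¹) := by group
          _ = h8xU D hB r t * ((h8xU D hB r t)⁻¹ * h8xU D hB s a *
                h8wordU D hB (D.commWord F r s (-t) a)) := by rw [h4]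
          _ = h8xU D hB s a * h8wordU D hB (D.commWord F r s (-t) a) := by group
      rw [key]
      refine Subgroup.mul_mem _ (f4cQ_mem D hB L s hs a) (h8wordU_mem_of D hB _ _ ?_)
      intro p hp
      unfold ChevalleyDatum.commWord at hp
      rw [List.mem_map] at hp
      obtain ⟨c, hc, rfl⟩ := hp
      rcases h3 c hc with h5 | h5
      · simp only
        rw [f4c_coef_zero m hm _ h5, zero_mul, zero_mul, h8xU_zero]
        exact Subgroup.one_mem _
      · exact f4cQ_mem D hB L c.1 h5 _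

/-- `U` normalises `f4cQ` -/
theorem f4c_U_conj_Q (D : ChevalleyDatum) (hB : H8Base.{u} D) (hC : H8CommAll.{u} D)
    (L : List ℕ) (m : ℕ) (hm : ((m : ℤ) : F) = 0) (hchk : f4cStabChk D L m = true)
    (g : GL D.Idx F) (hg : g ∈ D.posUnipotent F) :
    ∀ x ∈ f4cQ D hB F L, g * x * g⁻¹ ∈ f4cQ D hB F L := by
  have hgen : ∀ (r : ℕ) (t : F), D.IsPosRoot r → ∀ x ∈ f4cQ D hB F L,
      h8xU D hB r t * x * (h8xU D hB r t)⁻¹ ∈ f4cQ D hB F L := by
    intro r t hr x hx
    unfold f4cQ at hx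
    induction hx using Subgroup.closure_induction with
    | mem y hy =>
      obtain ⟨s, hs, a, rfl⟩ := hy
      exact f4c_conj_gen_Q D hB hC L m hm hchk r hr t s hs a
    | one => simp
    | mul a b _ _ ha hb =>
      have : h8xU D hB r t * (a * b) * (h8xU D hB r t)⁻¹ =
          (h8xU D hB r t * a * (h8xU D hB r t)⁻¹) * (h8xU D hB r t * b * (h8xU D hB r t)⁻¹) := by
        group
      rw [this]
      exact Subgroup.mul_mem _ ha hb
    | inv a _ ha =>
      have : h8xU D hB r t * a⁻¹ * (h8xU D hB r t)⁻¹ =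
          (h8xU D hB r t * a * (h8xU D hB r t)⁻¹)⁻¹ := by group
      rw [this]
      exact Subgroup.inv_mem _ ha
  unfold ChevalleyDatum.posUnipotent at hg
  induction hg using Subgroup.closure_induction_left with
  | one =>
    intro x hx
    rw [one_mul, inv_one, mul_one]
    exact hx
  | mul_left a ha y _ ih =>
    intro x hx
    obtain ⟨s, c, hs, hav⟩ := ha
    have ha' : a = h8xU D hB s c := Units.ext hav
    have e : a * y * x * (a * y)⁻¹ = a * (y * x * y⁻¹) * a⁻¹ := by group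
    rw [e, ha']
    exact hgen s c hs _ (ih x hx)
  | inv_mul_cancel a ha y _ ih =>
    intro x hx
    obtain ⟨s, c, hs, hav⟩ := ha
    have ha' : a⁻¹ = h8xU D hB s (-c) := by
      have : a = h8xU D hB s c := Units.ext hav
      rw [this, h8xU_inv]
    have e : a⁻¹ * y * x * (a⁻¹ * y)⁻¹ = a⁻¹ * (y * x * y⁻¹) * (a⁻¹)⁻¹ := by group
    rw [e, ha']
    exact hgen s (-c) hs _ (ih x hx)

/-- `H` normalises `f4cQ` -/
theorem f4c_H_conj_Q (D : ChevalleyDatum) (hB : H8Base.{u} D) (L : List ℕ)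
    (hL : ∀ s ∈ L, s < D.nroots) (h : GL D.Idx F) (hh : h ∈ D.diagonalSubgroup F) :
    ∀ x ∈ f4cQ D hB F L, h * x * h⁻¹ ∈ f4cQ D hB F L := by
  intro x hx
  have hact := h8perm_H_id D hB h hh
  unfold f4cQ at hx
  induction hx using Subgroup.closure_induction with
  | mem y hy =>
    obtain ⟨s, hs, a, rfl⟩ := hy
    obtain ⟨c, _, hc⟩ := hact s (hL s hs)
    rw [hc]
    exact f4cQ_mem D hB L s hs _
  | one => simp
  | mul a b _ _ ha hb =>
    have : h * (a * b) * h⁻¹ = (h * a * h⁻¹) * (h * b * h⁻¹) := by group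
    rw [this]
    exact Subgroup.mul_mem _ ha hb
  | inv a _ ha =>
    have : h * a⁻¹ * h⁻¹ = (h * a * h⁻¹)⁻¹ := by group
    rw [this]
    exact Subgroup.inv_mem _ ha

theorem f4c_stab_lt (D : ChevalleyDatum) (L : List ℕ) (m : ℕ) (hchk : f4cStabChk D L m = true) :
    ∀ s ∈ L, s < D.nroots := by
  unfold f4cStabChk at hchk
  simp only [List.all_eq_true, Bool.and_eq_true, decide_eq_true_eq] at hchk
  exact fun s hs => (hchk s hs).1

/-- `B` normalises `f4cQ` (as a conjugation statement) -/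
theorem f4c_B_conj_Q (D : ChevalleyDatum) (hB : H8Base.{u} D) (hC : H8CommAll.{u} D)
    (L : List ℕ) (m : ℕ) (hm : ((m : ℤ) : F) = 0) (hchk : f4cStabChk D L m = true)
    (b : GL D.Idx F) (hb : b ∈ D.borelSubgroup F) :
    ∀ x ∈ f4cQ D hB F L, b * x * b⁻¹ ∈ f4cQ D hB F L := by
  intro x hx
  obtain ⟨g, hg, h, hh, rfl⟩ := cf_B_decomp D hB b hb
  have e : g * h * x * (g * h)⁻¹ = g * (h * x * h⁻¹) * g⁻¹ := by group
  rw [e]
  exact f4c_U_conj_Q D hB hC L m hm hchk g hg _
    (f4c_H_conj_Q D hB L (f4c_stab_lt D L m hchk) h hh x hx)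

theorem f4c_B_le_normQ (D : ChevalleyDatum) (hB : H8Base.{u} D) (hC : H8CommAll.{u} D)
    (L : List ℕ) (m : ℕ) (hm : ((m : ℤ) : F) = 0) (hchk : f4cStabChk D L m = true) :
    D.borelSubgroup F ≤ Subgroup.normalizer ((f4cQ D hB F L : Subgroup (GL D.Idx F)) :
      Set (GL D.Idx F)) := by
  intro b hb
  rw [Subgroup.mem_normalizer_iff]
  intro x
  constructor
  · exact f4c_B_conj_Q D hB hC L m hm hchk b hb x
  · intro hx
    have := f4c_B_conj_Q D hB hC L m hm hchk b⁻¹ (Subgroup.inv_mem _ hb) _ hx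
    have e : b⁻¹ * (b * x * b⁻¹) * b⁻¹⁻¹ = x := by group
    rwa [e] at this

/-- a word over a filtered sublist of the positive roots is a canonical word -/
theorem f4cLW_eq_W (D : ChevalleyDatum) (hB : H8Base.{u} D) (L : List ℕ)
    (hfil : (h8Lk D 0).filter (fun r => decide (r ∈ L)) = L) (c : ℕ → F) :
    f4cLW D hB L c = f4cW D hB 0 (fun r => if r ∈ L then c r else 0) := by
  have h1 := f4c_ordP_fill D hB (fun r => decide (r ∈ L)) c D.nroots 0 (by omega)
  have h2 : (fun r => if (fun r => decide (r ∈ L)) r = true then c r else 0) =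
      fun r => if r ∈ L then c r else 0 := by
    funext r
    simp
  rw [h2] at h1
  rw [← h1]
  unfold f4cLW h8ordP
  rw [hfil]

/-- **support transport**: if `n_w` conjugates a canonical word with coefficients `c` to a canonical
word supported on `L`, and `L` is cut out by the witness words `ws`, then `w` maps the support of `c`
into `L`. -/
theorem f4c_support (D : ChevalleyDatum) (hB : H8Base.{u} D) (hA : H8ReflAll D)
    (hC : H8CommAll.{u} D) (hBN : H8BN D) (hO : H8Ord D) (hO2 : H8Ord2 D) (L : List ℕ)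
    (ws : List (List ℕ)) (hws : ∀ v ∈ ws, ∀ i ∈ v, i < D.rank)
    (hLpos : ∀ v ∈ ws, ∀ r ∈ L, D.IsPosRoot (h8sW D v r))
    (hLcl : ∀ s < D.nroots, (∀ v ∈ ws, D.IsPosRoot (h8sW D v s)) → s ∈ L)
    (w : List ℕ) (hw : ∀ i ∈ w, i < D.rank) (c c' : ℕ → F)
    (hc' : ∀ r, D.IsPosRoot r → c' r ≠ 0 → r ∈ L)
    (h : (h8nWU D hB w : GL D.Idx F) * f4cW D hB 0 c * (h8nWU D hB w : GL D.Idx F)⁻¹ =
      f4cW D hB 0 c')
    (r : ℕ) (hr : D.IsPosRoot r) (hcr : c r ≠ 0) : h8sW D w r ∈ L := by
  apply hLcl _ (h8sW_lt D hA w hw r hr.1)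
  intro v hv
  have hvw : ∀ i ∈ v ++ w, i < D.rank := by
    intro i hi
    rcases List.mem_append.mp hi with h1 | h1
    · exact hws v hv i h1
    · exact hw i h1
  have hn : (h8nWU D hB (v ++ w) : GL D.Idx F) = h8nWU D hB v * h8nWU D hB w := by
    unfold h8nWU
    rw [List.map_append, List.prod_append]
  have hconj : (h8nWU D hB (v ++ w) : GL D.Idx F) * f4cW D hB 0 c *
      (h8nWU D hB (v ++ w) : GL D.Idx F)⁻¹ ∈ D.posUnipotent F := by
    have e : (h8nWU D hB (v ++ w) : GL D.Idx F) * f4cW D hB 0 c *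
        (h8nWU D hB (v ++ w) : GL D.Idx F)⁻¹ =
        h8nWU D hB v * (h8nWU D hB w * f4cW D hB 0 c * (h8nWU D hB w : GL D.Idx F)⁻¹) *
          (h8nWU D hB v : GL D.Idx F)⁻¹ := by
      rw [hn]; group
    rw [e, h]
    apply f4c_conj_W_mem_U D hB _ (h8sW D v)
      (fun s hs => h8nWU_act D hB hA v (hws v hv) s hs)
    intro s hs hcs
    exact hLpos v hv s (hc' s hs hcs)
  have := f4c_coef_pos D hB hC hBN hO hO2 _ (h8sW D (v ++ w))
    (fun s hs => h8sW_lt D hA _ hvw s hs)
    (fun s hs => h8nWU_act D hB hA _ hvw s hs) c hconj r hr hcr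
  rwa [h8sW_append] at this

end Cfsg.Agent.Lib.helper14
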