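import Mathlib
import Cfsg.Prelude.Def_ChevStructure
import Cfsg.Agent.Lib.helper14.F4Cb

/-!
# Project F4C (S2179): tables for type `F₄` (generated)

Roots of `chevF4`: `p₁ = 33`, `p₂ = 27` (short), `p₃ = 25`, `p₄ = 24` (long); `47 - r` is `-r`.
`f4cR = [39, 40, 44, 45, 46, 47]` carries the `B`-orbit of `x_39(1) x_45(1)` in characteristic two,
`f4cR1 = [44, 47]` that of `x_47(1) x_44(1)`.  `f4cT6` is the orbit of the tuple `f4cR` under the Weyl
group (encoded in base 48), `f4cT1` that of the pair `(44, 47)`.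
-/

set_option autoImplicit false

namespace Cfsg.Agent.Lib.helper14

open Cfsg.Lie Cfsg.Lie.ChevalleyDatum Cfsg.Agent.Lib.helper8

def f4cR : List ℕ := [39, 40, 44, 45, 46, 47]
def f4cRs : List ℕ := [39, 40, 44]
def f4cRl : List ℕ := [45, 46, 47]
def f4cR1 : List ℕ := [44, 47]

/-- witness words for `f4cR` -/
def f4cWs2 : List (List ℕ) := [[], [2, 1, 2, 0, 1, 2, 3, 0, 1, 0], [2, 1, 2, 0, 1, 2], [3, 2, 1, 2], [3, 2, 1, 2, 0]]
/-- witness words for `f4cR1` -/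
def f4cWs1 : List (List ℕ) := [[], [3, 2, 1, 2, 3, 2, 1, 2, 0, 1, 2, 0, 1], [3, 1, 2, 0, 1, 2, 3, 0], [1, 2, 3, 0, 1, 2]]

def f4cEnc6 (a b c d e f : ℕ) : ℕ := ((((a * 48 + b) * 48 + c) * 48 + d) * 48 + e) * 48 + f
def f4cEnc2 (a b : ℕ) : ℕ := a * 48 + b

theorem f4c_nroots : chevF4.nroots = 48 := by decide +kernel
theorem f4c_rank : chevF4.rank = 4 := by decide +kernel
theorem f4c_pos_iff : ∀ r < 48, (chevF4.IsPosRoot r ↔ 24 ≤ r) := by decide +kernel
theorem f4c_neg_iff : ∀ r < 48, (chevF4.IsNegRoot r ↔ r < 24) := by decide +kernel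
theorem f4c_negIdx : ∀ r < 48, chevF4.negIdx.getD r 0 = 47 - r := by decide +kernel
theorem f4c_simple : chevF4.simple 0 = 33 ∧ chevF4.simple 1 = 27 ∧ chevF4.simple 2 = 25 ∧
    chevF4.simple 3 = 24 := by decide +kernel

theorem f4c_comm_R : f4cCommChk chevF4 f4cR 2 = true := by decide +kernel
theorem f4c_stab_R : f4cStabChk chevF4 f4cR 2 = true := by decide +kernel
theorem f4c_comm_Rs : f4cCommChk chevF4 f4cRs 2 = true := by decide +kernel
theorem f4c_stab_Rs : f4cStabChk chevF4 f4cRs 2 = true := by decide +kernel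
theorem f4c_comm_Rl : f4cCommChk chevF4 f4cRl 2 = true := by decide +kernel
theorem f4c_stab_Rl : f4cStabChk chevF4 f4cRl 2 = true := by decide +kernel
theorem f4c_comm_R1 : f4cCommChk chevF4 f4cR1 2 = true := by decide +kernel
theorem f4c_stab_R1 : f4cStabChk chevF4 f4cR1 2 = true := by decide +kernel

theorem f4c_fil : ∀ L ∈ [f4cR, f4cRs, f4cRl, f4cR1, [38], [43], [40], [46]],
    (h8Lk chevF4 0).filter (fun r => decide (r ∈ L)) = L := by decide +kernel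

theorem f4c_ws2_rank : ∀ v ∈ f4cWs2, ∀ i ∈ v, i < chevF4.rank := by decide +kernel
theorem f4c_ws2_pos : ∀ v ∈ f4cWs2, ∀ r ∈ f4cR, chevF4.IsPosRoot (h8sW chevF4 v r) := by
  decide +kernel
theorem f4c_ws2_cl : ∀ s < chevF4.nroots,
    (∀ v ∈ f4cWs2, chevF4.IsPosRoot (h8sW chevF4 v s)) → s ∈ f4cR := by decide +kernel
theorem f4c_ws1_rank : ∀ v ∈ f4cWs1, ∀ i ∈ v, i < chevF4.rank := by decide +kernel
theorem f4c_ws1_pos : ∀ v ∈ f4cWs1, ∀ r ∈ f4cR1, chevF4.IsPosRoot (h8sW chevF4 v r) := by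
  decide +kernel
theorem f4c_ws1_cl : ∀ s < chevF4.nroots,
    (∀ v ∈ f4cWs1, chevF4.IsPosRoot (h8sW chevF4 v s)) → s ∈ f4cR1 := by decide +kernel


end Cfsg.Agent.Lib.helper14
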