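import Mathlib
import Cfsg.Prelude.Def_ChevStructure
import Cfsg.Agent.Lib.helper14.F4Cc

/-!
# Project F4C (S2179): Weyl group orbit tables for type `F₄` (generated)

`f4cT6 x` lists the tuples `(b, c, d, e, f)` such that `(x, b, c, d, e, f)` lies in the orbit of
`(39, 40, 44, 45, 46, 47)` under the Weyl group; `f4cT1` is the orbit of the pair `(44, 47)`.
-/

set_option autoImplicit false

namespace Cfsg.Agent.Lib.helper14

open Cfsg.Lie Cfsg.Lie.ChevalleyDatum Cfsg.Agent.Lib.helper8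

def f4cT1 : List (ℕ × ℕ) := [(3, 0), (3, 1), (3, 2), (3, 4), (3, 5), (3, 6), (7, 0), (7, 1), (7, 2), (7, 15), (7, 16), (7, 17), (8, 0), (8, 1), (8, 4), (8, 15), (8, 21), (8, 22), (9, 0), (9, 2), (9, 5), (9, 16), (9, 23), (9, 25), (10, 1), (10, 2), (10, 6), (10, 17), (10, 24), (10, 26), (11, 0), (11, 4), (11, 5), (11, 21), (11, 23), (11, 30), (12, 1), (12, 4), (12, 6), (12, 22), (12, 24), (12, 31), (13, 2), (13, 5), (13, 6), (13, 25), (13, 26), (13, 32), (14, 4), (14, 5), (14, 6), (14, 30), (14, 31), (14, 32), (18, 0), (18, 15), (18, 16), (18, 21), (18, 23), (18, 41), (19, 1), (19, 15), (19, 17), (19, 22), (19, 24), (19, 42), (20, 2), (20, 16), (20, 17), (20, 25), (20, 26), (20, 43), (27, 4), (27, 21), (27, 22), (27, 30), (27, 31), (27, 45), (28, 5), (28, 23), (28, 25), (28, 30), (28, 32), (28, 46), (29, 6), (29, 24), (29, 26), (29, 31), (29, 32), (29, 47), (33,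 15), (33, 16), (33, 17), (33, 41), (33, 42), (33, 43), (34, 15), (34, 21), (34, 22), (34, 41), (34, 42), (34, 45), (35, 16), (35, 23), (35, 25), (35, 41), (35, 43), (35, 46), (36, 17), (36, 24), (36, 26), (36, 42), (36, 43), (36, 47), (37, 21), (37, 23), (37, 30), (37, 41), (37, 45), (37, 46), (38, 22), (38, 24), (38, 31), (38, 42), (38, 45), (38, 47), (39, 25), (39, 26), (39, 32), (39, 43), (39, 46), (39, 47), (40, 30), (40, 31), (40, 32), (40, 45), (40, 46), (40, 47), (44, 41), (44, 42), (44, 43), (44, 45), (44, 46), (44, 47)]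

def f4cT6 (x : ℕ) : List (ℕ × ℕ × ℕ × ℕ × ℕ) :=
  match x with
  | 3 => [(7, 8, 15, 0, 1), (7, 8, 15, 1, 0), (7, 9, 16, 0, 2), (7, 9, 16, 2, 0), (7, 10, 17, 1, 2), (7, 10, 17, 2, 1), (8, 7, 15, 0, 1), (8, 7, 15, 1, 0), (8, 11, 21, 0, 4), (8, 11, 21, 4, 0), (8, 12, 22, 1, 4), (8, 12, 22, 4, 1), (9, 7, 16, 0, 2), (9, 7, 16, 2, 0), (9, 11, 23, 0, 5), (9, 11, 23, 5, 0), (9, 13, 25, 2, 5), (9, 13, 25, 5, 2), (10, 7, 17, 1, 2), (10, 7, 17, 2, 1), (10, 12, 24, 1, 6), (10, 12, 24, 6, 1), (10, 13, 26, 2, 6), (10, 13, 26, 6, 2), (11, 8, 21, 0, 4), (11, 8, 21, 4, 0), (11, 9, 23, 0, 5), (11, 9, 23, 5, 0), (11, 14, 30, 4, 5), (11, 14, 30, 5, 4), (12, 8, 22, 1, 4), (12, 8, 22, 4, 1), (12, 10, 24, 1, 6), (12, 10, 24, 6, 1), (12, 14, 31, 4, 6), (12, 14, 31, 6, 4), (13, 9, 25, 2, 5), (13, 9, 25, 5, 2), (13, 10, 26, 2, 6), (13, 10, 26, 6, 2), (13, 14, 32, 5, 6), (13, 14, 32, 6,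 5), (14, 11, 30, 4, 5), (14, 11, 30, 5, 4), (14, 12, 31, 4, 6), (14, 12, 31, 6, 4), (14, 13, 32, 5, 6), (14, 13, 32, 6, 5)]
  | 7 => [(3, 8, 4, 0, 1), (3, 8, 4, 1, 0), (3, 9, 5, 0, 2), (3, 9, 5, 2, 0), (3, 10, 6, 1, 2), (3, 10, 6, 2, 1), (8, 3, 4, 0, 1), (8, 3, 4, 1, 0), (8, 18, 21, 0, 15), (8, 18, 21, 15, 0), (8, 19, 22, 1, 15), (8, 19, 22, 15, 1), (9, 3, 5, 0, 2), (9, 3, 5, 2, 0), (9, 18, 23, 0, 16), (9, 18, 23, 16, 0), (9, 20, 25, 2, 16), (9, 20, 25, 16, 2), (10, 3, 6, 1, 2), (10, 3, 6, 2, 1), (10, 19, 24, 1, 17), (10, 19, 24, 17, 1), (10, 20, 26, 2, 17), (10, 20, 26, 17, 2), (18, 8, 21, 0, 15), (18, 8, 21, 15, 0), (18, 9, 23, 0, 16), (18, 9, 23, 16, 0), (18, 33, 41, 15, 16), (18, 33, 41, 16, 15), (19, 8, 22, 1, 15), (19, 8, 22, 15, 1), (19, 10, 24, 1, 17), (19, 10, 24, 17, 1), (19, 33, 42, 15, 17), (19, 33, 42, 17, 15), (20, 9, 25, 2, 16), (20, 9, 25, 16, 2),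 (20, 10, 26, 2, 17), (20, 10, 26, 17, 2), (20, 33, 43, 16, 17), (20, 33, 43, 17, 16), (33, 18, 41, 15, 16), (33, 18, 41, 16, 15), (33, 19, 42, 15, 17), (33, 19, 42, 17, 15), (33, 20, 43, 16, 17), (33, 20, 43, 17, 16)]
  | 8 => [(3, 7, 2, 0, 1), (3, 7, 2, 1, 0), (3, 11, 5, 0, 4), (3, 11, 5, 4, 0), (3, 12, 6, 1, 4), (3, 12, 6, 4, 1), (7, 3, 2, 0, 1), (7, 3, 2, 1, 0), (7, 18, 16, 0, 15), (7, 18, 16, 15, 0), (7, 19, 17, 1, 15), (7, 19, 17, 15, 1), (11, 3, 5, 0, 4), (11, 3, 5, 4, 0), (11, 18, 23, 0, 21), (11, 18, 23, 21, 0), (11, 27, 30, 4, 21), (11, 27, 30, 21, 4), (12, 3, 6, 1, 4), (12, 3, 6, 4, 1), (12, 19, 24, 1, 22), (12, 19, 24, 22, 1), (12, 27, 31, 4, 22), (12, 27, 31, 22, 4), (18, 7, 16, 0, 15), (18, 7, 16, 15, 0), (18, 11, 23, 0, 21), (18, 11, 23, 21, 0), (18, 34, 41, 15, 21), (18, 34, 41, 21, 15), (19, 7, 17, 1, 15), (19, 7, 17, 15, 1), (19, 12, 24, 1, 22),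 (19, 12, 24, 22, 1), (19, 34, 42, 15, 22), (19, 34, 42, 22, 15), (27, 11, 30, 4, 21), (27, 11, 30, 21, 4), (27, 12, 31, 4, 22), (27, 12, 31, 22, 4), (27, 34, 45, 21, 22), (27, 34, 45, 22, 21), (34, 18, 41, 15, 21), (34, 18, 41, 21, 15), (34, 19, 42, 15, 22), (34, 19, 42, 22, 15), (34, 27, 45, 21, 22), (34, 27, 45, 22, 21)]
  | 9 => [(3, 7, 1, 0, 2), (3, 7, 1, 2, 0), (3, 11, 4, 0, 5), (3, 11, 4, 5, 0), (3, 13, 6, 2, 5), (3, 13, 6, 5, 2), (7, 3, 1, 0, 2), (7, 3, 1, 2, 0), (7, 18, 15, 0, 16), (7, 18, 15, 16, 0), (7, 20, 17, 2, 16), (7, 20, 17, 16, 2), (11, 3, 4, 0, 5), (11, 3, 4, 5, 0), (11, 18, 21, 0, 23), (11, 18, 21, 23, 0), (11, 28, 30, 5, 23), (11, 28, 30, 23, 5), (13, 3, 6, 2, 5), (13, 3, 6, 5, 2), (13, 20, 26, 2, 25), (13, 20, 26, 25, 2), (13, 28, 32, 5, 25), (13, 28, 32, 25, 5), (18, 7, 15, 0, 16), (18, 7, 15, 16, 0), (18, 11, 21, 0, 23), (18, 11, 21, 23,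 0), (18, 35, 41, 16, 23), (18, 35, 41, 23, 16), (20, 7, 17, 2, 16), (20, 7, 17, 16, 2), (20, 13, 26, 2, 25), (20, 13, 26, 25, 2), (20, 35, 43, 16, 25), (20, 35, 43, 25, 16), (28, 11, 30, 5, 23), (28, 11, 30, 23, 5), (28, 13, 32, 5, 25), (28, 13, 32, 25, 5), (28, 35, 46, 23, 25), (28, 35, 46, 25, 23), (35, 18, 41, 16, 23), (35, 18, 41, 23, 16), (35, 20, 43, 16, 25), (35, 20, 43, 25, 16), (35, 28, 46, 23, 25), (35, 28, 46, 25, 23)]
  | 10 => [(3, 7, 0, 1, 2), (3, 7, 0, 2, 1), (3, 12, 4, 1, 6), (3, 12, 4, 6, 1), (3, 13, 5, 2, 6), (3, 13, 5, 6, 2), (7, 3, 0, 1, 2), (7, 3, 0, 2, 1), (7, 19, 15, 1, 17), (7, 19, 15, 17, 1), (7, 20, 16, 2, 17), (7, 20, 16, 17, 2), (12, 3, 4, 1, 6), (12, 3, 4, 6, 1), (12, 19, 22, 1, 24), (12, 19, 22, 24, 1), (12, 29, 31, 6, 24), (12, 29, 31, 24, 6), (13, 3, 5, 2, 6), (13, 3, 5, 6, 2), (13, 20, 25, 2, 26), (13, 20, 25, 26, 2), (13, 29, 32,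 6, 26), (13, 29, 32, 26, 6), (19, 7, 15, 1, 17), (19, 7, 15, 17, 1), (19, 12, 22, 1, 24), (19, 12, 22, 24, 1), (19, 36, 42, 17, 24), (19, 36, 42, 24, 17), (20, 7, 16, 2, 17), (20, 7, 16, 17, 2), (20, 13, 25, 2, 26), (20, 13, 25, 26, 2), (20, 36, 43, 17, 26), (20, 36, 43, 26, 17), (29, 12, 31, 6, 24), (29, 12, 31, 24, 6), (29, 13, 32, 6, 26), (29, 13, 32, 26, 6), (29, 36, 47, 24, 26), (29, 36, 47, 26, 24), (36, 19, 42, 17, 24), (36, 19, 42, 24, 17), (36, 20, 43, 17, 26), (36, 20, 43, 26, 17), (36, 29, 47, 24, 26), (36, 29, 47, 26, 24)]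
  | 11 => [(3, 8, 1, 0, 4), (3, 8, 1, 4, 0), (3, 9, 2, 0, 5), (3, 9, 2, 5, 0), (3, 14, 6, 4, 5), (3, 14, 6, 5, 4), (8, 3, 1, 0, 4), (8, 3, 1, 4, 0), (8, 18, 15, 0, 21), (8, 18, 15, 21, 0), (8, 27, 22, 4, 21), (8, 27, 22, 21, 4), (9, 3, 2, 0, 5), (9, 3, 2, 5, 0), (9, 18, 16, 0, 23), (9, 18, 16, 23, 0), (9, 28, 25, 5, 23), (9, 28, 25, 23, 5), (14, 3, 6, 4, 5), (14, 3, 6, 5, 4), (14, 27, 31, 4, 30), (14, 27, 31, 30, 4), (14, 28, 32, 5, 30), (14, 28, 32, 30, 5), (18, 8, 15, 0, 21), (18, 8, 15, 21, 0), (18, 9, 16, 0, 23), (18, 9, 16, 23, 0), (18, 37, 41, 21, 23), (18, 37, 41, 23, 21), (27, 8, 22, 4, 21), (27, 8, 22, 21, 4), (27, 14, 31, 4, 30), (27, 14, 31, 30, 4), (27, 37, 45, 21, 30), (27, 37, 45, 30, 21), (28, 9, 25, 5, 23), (28, 9, 25, 23, 5), (28, 14, 32, 5, 30), (28, 14, 32, 30, 5), (28, 37, 46, 23, 30), (28, 37, 46, 30, 23), (37, 18, 41, 21, 23), (37, 18, 41,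 23, 21), (37, 27, 45, 21, 30), (37, 27, 45, 30, 21), (37, 28, 46, 23, 30), (37, 28, 46, 30, 23)]
  | 12 => [(3, 8, 0, 1, 4), (3, 8, 0, 4, 1), (3, 10, 2, 1, 6), (3, 10, 2, 6, 1), (3, 14, 5, 4, 6), (3, 14, 5, 6, 4), (8, 3, 0, 1, 4), (8, 3, 0, 4, 1), (8, 19, 15, 1, 22), (8, 19, 15, 22, 1), (8, 27, 21, 4, 22), (8, 27, 21, 22, 4), (10, 3, 2, 1, 6), (10, 3, 2, 6, 1), (10, 19, 17, 1, 24), (10, 19, 17, 24, 1), (10, 29, 26, 6, 24), (10, 29, 26, 24, 6), (14, 3, 5, 4, 6), (14, 3, 5, 6, 4), (14, 27, 30, 4, 31), (14, 27, 30, 31, 4), (14, 29, 32, 6, 31), (14, 29, 32, 31, 6), (19, 8, 15, 1, 22), (19, 8, 15, 22, 1), (19, 10, 17, 1, 24), (19, 10, 17, 24, 1), (19, 38, 42, 22, 24), (19, 38, 42, 24, 22), (27, 8, 21, 4, 22), (27, 8, 21, 22, 4), (27, 14, 30, 4, 31), (27, 14, 30, 31, 4), (27, 38, 45, 22, 31), (27, 38, 45, 31, 22), (29, 10, 26, 6, 24), (29, 10, 26, 24, 6), (29, 14, 32,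 6, 31), (29, 14, 32, 31, 6), (29, 38, 47, 24, 31), (29, 38, 47, 31, 24), (38, 19, 42, 22, 24), (38, 19, 42, 24, 22), (38, 27, 45, 22, 31), (38, 27, 45, 31, 22), (38, 29, 47, 24, 31), (38, 29, 47, 31, 24)]
  | 13 => [(3, 9, 0, 2, 5), (3, 9, 0, 5, 2), (3, 10, 1, 2, 6), (3, 10, 1, 6, 2), (3, 14, 4, 5, 6), (3, 14, 4, 6, 5), (9, 3, 0, 2, 5), (9, 3, 0, 5, 2), (9, 20, 16, 2, 25), (9, 20, 16, 25, 2), (9, 28, 23, 5, 25), (9, 28, 23, 25, 5), (10, 3, 1, 2, 6), (10, 3, 1, 6, 2), (10, 20, 17, 2, 26), (10, 20, 17, 26, 2), (10, 29, 24, 6, 26), (10, 29, 24, 26, 6), (14, 3, 4, 5, 6), (14, 3, 4, 6, 5), (14, 28, 30, 5, 32), (14, 28, 30, 32, 5), (14, 29, 31, 6, 32), (14, 29, 31, 32, 6), (20, 9, 16, 2, 25), (20, 9, 16, 25, 2), (20, 10, 17, 2, 26), (20, 10, 17, 26, 2), (20, 39, 43, 25, 26), (20, 39, 43, 26, 25), (28, 9, 23, 5, 25), (28, 9, 23, 25, 5), (28, 14, 30, 5, 32), (28, 14, 30,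 32, 5), (28, 39, 46, 25, 32), (28, 39, 46, 32, 25), (29, 10, 24, 6, 26), (29, 10, 24, 26, 6), (29, 14, 31, 6, 32), (29, 14, 31, 32, 6), (29, 39, 47, 26, 32), (29, 39, 47, 32, 26), (39, 20, 43, 25, 26), (39, 20, 43, 26, 25), (39, 28, 46, 25, 32), (39, 28, 46, 32, 25), (39, 29, 47, 26, 32), (39, 29, 47, 32, 26)]
  | 14 => [(3, 11, 0, 4, 5), (3, 11, 0, 5, 4), (3, 12, 1, 4, 6), (3, 12, 1, 6, 4), (3, 13, 2, 5, 6), (3, 13, 2, 6, 5), (11, 3, 0, 4, 5), (11, 3, 0, 5, 4), (11, 27, 21, 4, 30), (11, 27, 21, 30, 4), (11, 28, 23, 5, 30), (11, 28, 23, 30, 5), (12, 3, 1, 4, 6), (12, 3, 1, 6, 4), (12, 27, 22, 4, 31), (12, 27, 22, 31, 4), (12, 29, 24, 6, 31), (12, 29, 24, 31, 6), (13, 3, 2, 5, 6), (13, 3, 2, 6, 5), (13, 28, 25, 5, 32), (13, 28, 25, 32, 5), (13, 29, 26, 6, 32), (13, 29, 26, 32, 6), (27, 11, 21, 4, 30), (27, 11, 21, 30, 4), (27, 12, 22, 4, 31), (27, 12, 22, 31, 4),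 (27, 40, 45, 30, 31), (27, 40, 45, 31, 30), (28, 11, 23, 5, 30), (28, 11, 23, 30, 5), (28, 13, 25, 5, 32), (28, 13, 25, 32, 5), (28, 40, 46, 30, 32), (28, 40, 46, 32, 30), (29, 12, 24, 6, 31), (29, 12, 24, 31, 6), (29, 13, 26, 6, 32), (29, 13, 26, 32, 6), (29, 40, 47, 31, 32), (29, 40, 47, 32, 31), (40, 27, 45, 30, 31), (40, 27, 45, 31, 30), (40, 28, 46, 30, 32), (40, 28, 46, 32, 30), (40, 29, 47, 31, 32), (40, 29, 47, 32, 31)]
  | 18 => [(7, 8, 1, 0, 15), (7, 8, 1, 15, 0), (7, 9, 2, 0, 16), (7, 9, 2, 16, 0), (7, 33, 17, 15, 16), (7, 33, 17, 16, 15), (8, 7, 1, 0, 15), (8, 7, 1, 15, 0), (8, 11, 4, 0, 21), (8, 11, 4, 21, 0), (8, 34, 22, 15, 21), (8, 34, 22, 21, 15), (9, 7, 2, 0, 16), (9, 7, 2, 16, 0), (9, 11, 5, 0, 23), (9, 11, 5, 23, 0), (9, 35, 25, 16, 23), (9, 35, 25, 23, 16), (11, 8, 4, 0, 21), (11, 8, 4, 21, 0), (11, 9, 5, 0, 23), (11, 9, 5, 23, 0), (11, 37,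 30, 21, 23), (11, 37, 30, 23, 21), (33, 7, 17, 15, 16), (33, 7, 17, 16, 15), (33, 34, 42, 15, 41), (33, 34, 42, 41, 15), (33, 35, 43, 16, 41), (33, 35, 43, 41, 16), (34, 8, 22, 15, 21), (34, 8, 22, 21, 15), (34, 33, 42, 15, 41), (34, 33, 42, 41, 15), (34, 37, 45, 21, 41), (34, 37, 45, 41, 21), (35, 9, 25, 16, 23), (35, 9, 25, 23, 16), (35, 33, 43, 16, 41), (35, 33, 43, 41, 16), (35, 37, 46, 23, 41), (35, 37, 46, 41, 23), (37, 11, 30, 21, 23), (37, 11, 30, 23, 21), (37, 34, 45, 21, 41), (37, 34, 45, 41, 21), (37, 35, 46, 23, 41), (37, 35, 46, 41, 23)]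
  | 19 => [(7, 8, 0, 1, 15), (7, 8, 0, 15, 1), (7, 10, 2, 1, 17), (7, 10, 2, 17, 1), (7, 33, 16, 15, 17), (7, 33, 16, 17, 15), (8, 7, 0, 1, 15), (8, 7, 0, 15, 1), (8, 12, 4, 1, 22), (8, 12, 4, 22, 1), (8, 34, 21, 15, 22), (8, 34, 21, 22, 15), (10, 7, 2, 1, 17), (10, 7, 2, 17, 1), (10, 12, 6, 1, 24), (10, 12, 6, 24, 1), (10, 36, 26, 17, 24), (10, 36, 26, 24, 17), (12, 8, 4, 1, 22), (12, 8, 4, 22, 1), (12, 10, 6, 1, 24), (12, 10, 6, 24, 1), (12, 38, 31, 22, 24), (12, 38, 31, 24, 22), (33, 7, 16, 15, 17), (33, 7, 16, 17, 15), (33, 34, 41, 15, 42), (33, 34, 41, 42, 15), (33, 36, 43, 17, 42), (33, 36, 43, 42, 17), (34, 8, 21, 15, 22), (34, 8, 21, 22, 15), (34, 33, 41, 15, 42), (34, 33, 41, 42, 15), (34, 38, 45, 22, 42), (34, 38, 45, 42, 22), (36, 10, 26, 17, 24), (36, 10, 26, 24, 17), (36, 33, 43, 17, 42), (36, 33, 43, 42, 17), (36, 38, 47, 24, 42), (36, 38, 47, 42,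 24), (38, 12, 31, 22, 24), (38, 12, 31, 24, 22), (38, 34, 45, 22, 42), (38, 34, 45, 42, 22), (38, 36, 47, 24, 42), (38, 36, 47, 42, 24)]
  | 20 => [(7, 9, 0, 2, 16), (7, 9, 0, 16, 2), (7, 10, 1, 2, 17), (7, 10, 1, 17, 2), (7, 33, 15, 16, 17), (7, 33, 15, 17, 16), (9, 7, 0, 2, 16), (9, 7, 0, 16, 2), (9, 13, 5, 2, 25), (9, 13, 5, 25, 2), (9, 35, 23, 16, 25), (9, 35, 23, 25, 16), (10, 7, 1, 2, 17), (10, 7, 1, 17, 2), (10, 13, 6, 2, 26), (10, 13, 6, 26, 2), (10, 36, 24, 17, 26), (10, 36, 24, 26, 17), (13, 9, 5, 2, 25), (13, 9, 5, 25, 2), (13, 10, 6, 2, 26), (13, 10, 6, 26, 2), (13, 39, 32, 25, 26), (13, 39, 32, 26, 25), (33, 7, 15, 16, 17), (33, 7, 15, 17, 16), (33, 35, 41, 16, 43), (33, 35, 41, 43, 16), (33, 36, 42, 17, 43), (33, 36, 42, 43, 17), (35, 9, 23, 16, 25), (35, 9, 23, 25, 16), (35, 33, 41, 16, 43), (35, 33, 41, 43, 16), (35, 39, 46, 25, 43), (35, 39, 46,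 43, 25), (36, 10, 24, 17, 26), (36, 10, 24, 26, 17), (36, 33, 42, 17, 43), (36, 33, 42, 43, 17), (36, 39, 47, 26, 43), (36, 39, 47, 43, 26), (39, 13, 32, 25, 26), (39, 13, 32, 26, 25), (39, 35, 46, 25, 43), (39, 35, 46, 43, 25), (39, 36, 47, 26, 43), (39, 36, 47, 43, 26)]
  | 27 => [(8, 11, 0, 4, 21), (8, 11, 0, 21, 4), (8, 12, 1, 4, 22), (8, 12, 1, 22, 4), (8, 34, 15, 21, 22), (8, 34, 15, 22, 21), (11, 8, 0, 4, 21), (11, 8, 0, 21, 4), (11, 14, 5, 4, 30), (11, 14, 5, 30, 4), (11, 37, 23, 21, 30), (11, 37, 23, 30, 21), (12, 8, 1, 4, 22), (12, 8, 1, 22, 4), (12, 14, 6, 4, 31), (12, 14, 6, 31, 4), (12, 38, 24, 22, 31), (12, 38, 24, 31, 22), (14, 11, 5, 4, 30), (14, 11, 5, 30, 4), (14, 12, 6, 4, 31), (14, 12, 6, 31, 4), (14, 40, 32, 30, 31), (14, 40, 32, 31, 30), (34, 8, 15, 21, 22), (34, 8, 15, 22, 21), (34, 37, 41, 21, 45), (34, 37, 41, 45, 21), (34, 38, 42, 22,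 45), (34, 38, 42, 45, 22), (37, 11, 23, 21, 30), (37, 11, 23, 30, 21), (37, 34, 41, 21, 45), (37, 34, 41, 45, 21), (37, 40, 46, 30, 45), (37, 40, 46, 45, 30), (38, 12, 24, 22, 31), (38, 12, 24, 31, 22), (38, 34, 42, 22, 45), (38, 34, 42, 45, 22), (38, 40, 47, 31, 45), (38, 40, 47, 45, 31), (40, 14, 32, 30, 31), (40, 14, 32, 31, 30), (40, 37, 46, 30, 45), (40, 37, 46, 45, 30), (40, 38, 47, 31, 45), (40, 38, 47, 45, 31)]
  | 28 => [(9, 11, 0, 5, 23), (9, 11, 0, 23, 5), (9, 13, 2, 5, 25), (9, 13, 2, 25, 5), (9, 35, 16, 23, 25), (9, 35, 16, 25, 23), (11, 9, 0, 5, 23), (11, 9, 0, 23, 5), (11, 14, 4, 5, 30), (11, 14, 4, 30, 5), (11, 37, 21, 23, 30), (11, 37, 21, 30, 23), (13, 9, 2, 5, 25), (13, 9, 2, 25, 5), (13, 14, 6, 5, 32), (13, 14, 6, 32, 5), (13, 39, 26, 25, 32), (13, 39, 26, 32, 25), (14, 11, 4, 5, 30), (14, 11, 4, 30, 5), (14, 13, 6, 5, 32), (14, 13, 6, 32, 5),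 (14, 40, 31, 30, 32), (14, 40, 31, 32, 30), (35, 9, 16, 23, 25), (35, 9, 16, 25, 23), (35, 37, 41, 23, 46), (35, 37, 41, 46, 23), (35, 39, 43, 25, 46), (35, 39, 43, 46, 25), (37, 11, 21, 23, 30), (37, 11, 21, 30, 23), (37, 35, 41, 23, 46), (37, 35, 41, 46, 23), (37, 40, 45, 30, 46), (37, 40, 45, 46, 30), (39, 13, 26, 25, 32), (39, 13, 26, 32, 25), (39, 35, 43, 25, 46), (39, 35, 43, 46, 25), (39, 40, 47, 32, 46), (39, 40, 47, 46, 32), (40, 14, 31, 30, 32), (40, 14, 31, 32, 30), (40, 37, 45, 30, 46), (40, 37, 45, 46, 30), (40, 39, 47, 32, 46), (40, 39, 47, 46, 32)]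
  | 29 => [(10, 12, 1, 6, 24), (10, 12, 1, 24, 6), (10, 13, 2, 6, 26), (10, 13, 2, 26, 6), (10, 36, 17, 24, 26), (10, 36, 17, 26, 24), (12, 10, 1, 6, 24), (12, 10, 1, 24, 6), (12, 14, 4, 6, 31), (12, 14, 4, 31, 6), (12, 38, 22, 24, 31), (12, 38, 22, 31, 24), (13, 10, 2, 6, 26), (13, 10, 2, 26, 6), (13, 14, 5, 6, 32), (13, 14, 5, 32, 6), (13, 39, 25, 26, 32), (13, 39, 25, 32, 26), (14, 12, 4, 6, 31), (14, 12, 4, 31, 6), (14, 13, 5, 6, 32), (14, 13, 5, 32, 6), (14, 40, 30, 31, 32), (14, 40, 30, 32, 31), (36, 10, 17, 24, 26), (36, 10, 17, 26, 24), (36, 38, 42, 24, 47), (36, 38, 42, 47, 24), (36, 39, 43, 26, 47), (36, 39, 43, 47, 26), (38, 12, 22, 24, 31), (38, 12, 22, 31, 24), (38, 36, 42, 24, 47), (38, 36, 42, 47, 24), (38, 40, 45, 31, 47), (38, 40, 45, 47, 31), (39, 13, 25, 26, 32), (39, 13, 25, 32, 26), (39, 36, 43, 26, 47), (39, 36, 43, 47, 26), (39, 40, 46, 32,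 47), (39, 40, 46, 47, 32), (40, 14, 30, 31, 32), (40, 14, 30, 32, 31), (40, 38, 45, 31, 47), (40, 38, 45, 47, 31), (40, 39, 46, 32, 47), (40, 39, 46, 47, 32)]
  | 33 => [(7, 18, 0, 15, 16), (7, 18, 0, 16, 15), (7, 19, 1, 15, 17), (7, 19, 1, 17, 15), (7, 20, 2, 16, 17), (7, 20, 2, 17, 16), (18, 7, 0, 15, 16), (18, 7, 0, 16, 15), (18, 34, 21, 15, 41), (18, 34, 21, 41, 15), (18, 35, 23, 16, 41), (18, 35, 23, 41, 16), (19, 7, 1, 15, 17), (19, 7, 1, 17, 15), (19, 34, 22, 15, 42), (19, 34, 22, 42, 15), (19, 36, 24, 17, 42), (19, 36, 24, 42, 17), (20, 7, 2, 16, 17), (20, 7, 2, 17, 16), (20, 35, 25, 16, 43), (20, 35, 25, 43, 16), (20, 36, 26, 17, 43), (20, 36, 26, 43, 17), (34, 18, 21, 15, 41), (34, 18, 21, 41, 15), (34, 19, 22, 15, 42), (34, 19, 22, 42, 15), (34, 44, 45, 41, 42), (34, 44, 45, 42, 41), (35, 18, 23, 16, 41), (35, 18, 23, 41, 16), (35, 20, 25, 16, 43), (35,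 20, 25, 43, 16), (35, 44, 46, 41, 43), (35, 44, 46, 43, 41), (36, 19, 24, 17, 42), (36, 19, 24, 42, 17), (36, 20, 26, 17, 43), (36, 20, 26, 43, 17), (36, 44, 47, 42, 43), (36, 44, 47, 43, 42), (44, 34, 45, 41, 42), (44, 34, 45, 42, 41), (44, 35, 46, 41, 43), (44, 35, 46, 43, 41), (44, 36, 47, 42, 43), (44, 36, 47, 43, 42)]
  | 34 => [(8, 18, 0, 15, 21), (8, 18, 0, 21, 15), (8, 19, 1, 15, 22), (8, 19, 1, 22, 15), (8, 27, 4, 21, 22), (8, 27, 4, 22, 21), (18, 8, 0, 15, 21), (18, 8, 0, 21, 15), (18, 33, 16, 15, 41), (18, 33, 16, 41, 15), (18, 37, 23, 21, 41), (18, 37, 23, 41, 21), (19, 8, 1, 15, 22), (19, 8, 1, 22, 15), (19, 33, 17, 15, 42), (19, 33, 17, 42, 15), (19, 38, 24, 22, 42), (19, 38, 24, 42, 22), (27, 8, 4, 21, 22), (27, 8, 4, 22, 21), (27, 37, 30, 21, 45), (27, 37, 30, 45, 21), (27, 38, 31, 22, 45), (27, 38, 31, 45, 22), (33, 18, 16, 15, 41), (33, 18, 16,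 41, 15), (33, 19, 17, 15, 42), (33, 19, 17, 42, 15), (33, 44, 43, 41, 42), (33, 44, 43, 42, 41), (37, 18, 23, 21, 41), (37, 18, 23, 41, 21), (37, 27, 30, 21, 45), (37, 27, 30, 45, 21), (37, 44, 46, 41, 45), (37, 44, 46, 45, 41), (38, 19, 24, 22, 42), (38, 19, 24, 42, 22), (38, 27, 31, 22, 45), (38, 27, 31, 45, 22), (38, 44, 47, 42, 45), (38, 44, 47, 45, 42), (44, 33, 43, 41, 42), (44, 33, 43, 42, 41), (44, 37, 46, 41, 45), (44, 37, 46, 45, 41), (44, 38, 47, 42, 45), (44, 38, 47, 45, 42)]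
  | 35 => [(9, 18, 0, 16, 23), (9, 18, 0, 23, 16), (9, 20, 2, 16, 25), (9, 20, 2, 25, 16), (9, 28, 5, 23, 25), (9, 28, 5, 25, 23), (18, 9, 0, 16, 23), (18, 9, 0, 23, 16), (18, 33, 15, 16, 41), (18, 33, 15, 41, 16), (18, 37, 21, 23, 41), (18, 37, 21, 41, 23), (20, 9, 2, 16, 25), (20, 9, 2, 25, 16), (20, 33, 17, 16, 43), (20, 33, 17, 43, 16), (20, 39, 26, 25, 43), (20, 39, 26, 43, 25), (28, 9, 5, 23, 25), (28, 9, 5, 25, 23), (28, 37, 30, 23, 46), (28, 37, 30, 46, 23), (28, 39, 32, 25, 46), (28, 39, 32, 46, 25), (33, 18, 15, 16, 41), (33, 18, 15, 41, 16), (33, 20, 17, 16, 43), (33, 20, 17, 43, 16), (33, 44, 42, 41, 43), (33, 44, 42, 43, 41), (37, 18, 21, 23, 41), (37, 18, 21, 41, 23), (37, 28, 30, 23, 46), (37, 28, 30, 46, 23), (37, 44, 45, 41, 46), (37, 44, 45, 46, 41), (39, 20, 26, 25, 43), (39, 20, 26, 43, 25), (39, 28, 32, 25, 46), (39, 28, 32, 46, 25), (39, 44,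 47, 43, 46), (39, 44, 47, 46, 43), (44, 33, 42, 41, 43), (44, 33, 42, 43, 41), (44, 37, 45, 41, 46), (44, 37, 45, 46, 41), (44, 39, 47, 43, 46), (44, 39, 47, 46, 43)]
  | 36 => [(10, 19, 1, 17, 24), (10, 19, 1, 24, 17), (10, 20, 2, 17, 26), (10, 20, 2, 26, 17), (10, 29, 6, 24, 26), (10, 29, 6, 26, 24), (19, 10, 1, 17, 24), (19, 10, 1, 24, 17), (19, 33, 15, 17, 42), (19, 33, 15, 42, 17), (19, 38, 22, 24, 42), (19, 38, 22, 42, 24), (20, 10, 2, 17, 26), (20, 10, 2, 26, 17), (20, 33, 16, 17, 43), (20, 33, 16, 43, 17), (20, 39, 25, 26, 43), (20, 39, 25, 43, 26), (29, 10, 6, 24, 26), (29, 10, 6, 26, 24), (29, 38, 31, 24, 47), (29, 38, 31, 47, 24), (29, 39, 32, 26, 47), (29, 39, 32, 47, 26), (33, 19, 15, 17, 42), (33, 19, 15, 42, 17), (33, 20, 16, 17, 43), (33, 20, 16, 43, 17), (33, 44, 41, 42, 43), (33, 44, 41, 43, 42), (38, 19, 22, 24, 42), (38, 19, 22, 42, 24), (38,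 29, 31, 24, 47), (38, 29, 31, 47, 24), (38, 44, 45, 42, 47), (38, 44, 45, 47, 42), (39, 20, 25, 26, 43), (39, 20, 25, 43, 26), (39, 29, 32, 26, 47), (39, 29, 32, 47, 26), (39, 44, 46, 43, 47), (39, 44, 46, 47, 43), (44, 33, 41, 42, 43), (44, 33, 41, 43, 42), (44, 38, 45, 42, 47), (44, 38, 45, 47, 42), (44, 39, 46, 43, 47), (44, 39, 46, 47, 43)]
  | 37 => [(11, 18, 0, 21, 23), (11, 18, 0, 23, 21), (11, 27, 4, 21, 30), (11, 27, 4, 30, 21), (11, 28, 5, 23, 30), (11, 28, 5, 30, 23), (18, 11, 0, 21, 23), (18, 11, 0, 23, 21), (18, 34, 15, 21, 41), (18, 34, 15, 41, 21), (18, 35, 16, 23, 41), (18, 35, 16, 41, 23), (27, 11, 4, 21, 30), (27, 11, 4, 30, 21), (27, 34, 22, 21, 45), (27, 34, 22, 45, 21), (27, 40, 31, 30, 45), (27, 40, 31, 45, 30), (28, 11, 5, 23, 30), (28, 11, 5, 30, 23), (28, 35, 25, 23, 46), (28, 35, 25, 46, 23), (28, 40, 32, 30, 46), (28, 40, 32, 46, 30),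 (34, 18, 15, 21, 41), (34, 18, 15, 41, 21), (34, 27, 22, 21, 45), (34, 27, 22, 45, 21), (34, 44, 42, 41, 45), (34, 44, 42, 45, 41), (35, 18, 16, 23, 41), (35, 18, 16, 41, 23), (35, 28, 25, 23, 46), (35, 28, 25, 46, 23), (35, 44, 43, 41, 46), (35, 44, 43, 46, 41), (40, 27, 31, 30, 45), (40, 27, 31, 45, 30), (40, 28, 32, 30, 46), (40, 28, 32, 46, 30), (40, 44, 47, 45, 46), (40, 44, 47, 46, 45), (44, 34, 42, 41, 45), (44, 34, 42, 45, 41), (44, 35, 43, 41, 46), (44, 35, 43, 46, 41), (44, 40, 47, 45, 46), (44, 40, 47, 46, 45)]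
  | 38 => [(12, 19, 1, 22, 24), (12, 19, 1, 24, 22), (12, 27, 4, 22, 31), (12, 27, 4, 31, 22), (12, 29, 6, 24, 31), (12, 29, 6, 31, 24), (19, 12, 1, 22, 24), (19, 12, 1, 24, 22), (19, 34, 15, 22, 42), (19, 34, 15, 42, 22), (19, 36, 17, 24, 42), (19, 36, 17, 42, 24), (27, 12, 4, 22, 31), (27, 12, 4, 31, 22), (27, 34, 21, 22, 45), (27, 34, 21, 45, 22), (27, 40, 30, 31, 45), (27, 40, 30, 45, 31), (29, 12, 6, 24, 31), (29, 12, 6, 31, 24), (29, 36, 26, 24, 47), (29, 36, 26, 47, 24), (29, 40, 32, 31, 47), (29, 40, 32, 47, 31), (34, 19, 15, 22, 42), (34, 19, 15, 42, 22), (34, 27, 21, 22, 45), (34, 27, 21, 45, 22), (34, 44, 41, 42, 45), (34, 44, 41, 45, 42), (36, 19, 17, 24, 42), (36, 19, 17, 42, 24), (36, 29, 26, 24, 47), (36, 29, 26, 47, 24), (36, 44, 43, 42, 47), (36, 44, 43, 47, 42), (40, 27, 30, 31, 45), (40, 27, 30, 45, 31), (40, 29, 32, 31, 47), (40, 29, 32, 47,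 31), (40, 44, 46, 45, 47), (40, 44, 46, 47, 45), (44, 34, 41, 42, 45), (44, 34, 41, 45, 42), (44, 36, 43, 42, 47), (44, 36, 43, 47, 42), (44, 40, 46, 45, 47), (44, 40, 46, 47, 45)]
  | 39 => [(13, 20, 2, 25, 26), (13, 20, 2, 26, 25), (13, 28, 5, 25, 32), (13, 28, 5, 32, 25), (13, 29, 6, 26, 32), (13, 29, 6, 32, 26), (20, 13, 2, 25, 26), (20, 13, 2, 26, 25), (20, 35, 16, 25, 43), (20, 35, 16, 43, 25), (20, 36, 17, 26, 43), (20, 36, 17, 43, 26), (28, 13, 5, 25, 32), (28, 13, 5, 32, 25), (28, 35, 23, 25, 46), (28, 35, 23, 46, 25), (28, 40, 30, 32, 46), (28, 40, 30, 46, 32), (29, 13, 6, 26, 32), (29, 13, 6, 32, 26), (29, 36, 24, 26, 47), (29, 36, 24, 47, 26), (29, 40, 31, 32, 47), (29, 40, 31, 47, 32), (35, 20, 16, 25, 43), (35, 20, 16, 43, 25), (35, 28, 23, 25, 46), (35, 28, 23, 46, 25), (35, 44, 41, 43, 46), (35, 44, 41, 46, 43), (36, 20, 17, 26, 43), (36, 20, 17,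 43, 26), (36, 29, 24, 26, 47), (36, 29, 24, 47, 26), (36, 44, 42, 43, 47), (36, 44, 42, 47, 43), (40, 28, 30, 32, 46), (40, 28, 30, 46, 32), (40, 29, 31, 32, 47), (40, 29, 31, 47, 32), (40, 44, 45, 46, 47), (40, 44, 45, 47, 46), (44, 35, 41, 43, 46), (44, 35, 41, 46, 43), (44, 36, 42, 43, 47), (44, 36, 42, 47, 43), (44, 40, 45, 46, 47), (44, 40, 45, 47, 46)]
  | 40 => [(14, 27, 4, 30, 31), (14, 27, 4, 31, 30), (14, 28, 5, 30, 32), (14, 28, 5, 32, 30), (14, 29, 6, 31, 32), (14, 29, 6, 32, 31), (27, 14, 4, 30, 31), (27, 14, 4, 31, 30), (27, 37, 21, 30, 45), (27, 37, 21, 45, 30), (27, 38, 22, 31, 45), (27, 38, 22, 45, 31), (28, 14, 5, 30, 32), (28, 14, 5, 32, 30), (28, 37, 23, 30, 46), (28, 37, 23, 46, 30), (28, 39, 25, 32, 46), (28, 39, 25, 46, 32), (29, 14, 6, 31, 32), (29, 14, 6, 32, 31), (29, 38, 24, 31, 47), (29, 38, 24, 47, 31), (29, 39, 26, 32, 47), (29, 39,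 26, 47, 32), (37, 27, 21, 30, 45), (37, 27, 21, 45, 30), (37, 28, 23, 30, 46), (37, 28, 23, 46, 30), (37, 44, 41, 45, 46), (37, 44, 41, 46, 45), (38, 27, 22, 31, 45), (38, 27, 22, 45, 31), (38, 29, 24, 31, 47), (38, 29, 24, 47, 31), (38, 44, 42, 45, 47), (38, 44, 42, 47, 45), (39, 28, 25, 32, 46), (39, 28, 25, 46, 32), (39, 29, 26, 32, 47), (39, 29, 26, 47, 32), (39, 44, 43, 46, 47), (39, 44, 43, 47, 46), (44, 37, 41, 45, 46), (44, 37, 41, 46, 45), (44, 38, 42, 45, 47), (44, 38, 42, 47, 45), (44, 39, 43, 46, 47), (44, 39, 43, 47, 46)]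
  | 44 => [(33, 34, 15, 41, 42), (33, 34, 15, 42, 41), (33, 35, 16, 41, 43), (33, 35, 16, 43, 41), (33, 36, 17, 42, 43), (33, 36, 17, 43, 42), (34, 33, 15, 41, 42), (34, 33, 15, 42, 41), (34, 37, 21, 41, 45), (34, 37, 21, 45, 41), (34, 38, 22, 42, 45), (34, 38, 22, 45, 42), (35, 33, 16, 41, 43), (35, 33, 16, 43, 41), (35, 37, 23, 41, 46), (35, 37, 23, 46, 41), (35, 39, 25, 43, 46), (35, 39, 25, 46, 43), (36, 33, 17, 42, 43), (36, 33, 17, 43, 42), (36, 38, 24, 42, 47), (36, 38, 24, 47, 42), (36, 39, 26, 43, 47), (36, 39, 26, 47, 43), (37, 34, 21, 41, 45), (37, 34, 21, 45, 41), (37, 35, 23, 41, 46), (37, 35, 23, 46, 41), (37, 40, 30, 45, 46), (37, 40, 30, 46, 45), (38, 34, 22, 42, 45), (38, 34, 22, 45, 42), (38, 36, 24, 42, 47), (38, 36, 24, 47, 42), (38, 40, 31, 45, 47), (38, 40, 31, 47, 45), (39, 35, 25, 43, 46), (39, 35, 25, 46, 43), (39, 36, 26, 43, 47), (39,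 36, 26, 47, 43), (39, 40, 32, 46, 47), (39, 40, 32, 47, 46), (40, 37, 30, 45, 46), (40, 37, 30, 46, 45), (40, 38, 31, 45, 47), (40, 38, 31, 47, 45), (40, 39, 32, 46, 47), (40, 39, 32, 47, 46)]
  | _ => []

/-- reflect a 5-tuple -/
def f4cRefl5 (i : ℕ) (t : ℕ × ℕ × ℕ × ℕ × ℕ) : ℕ × ℕ × ℕ × ℕ × ℕ :=
  (chevF4.reflectRoot i t.1, chevF4.reflectRoot i t.2.1, chevF4.reflectRoot i t.2.2.1,
    chevF4.reflectRoot i t.2.2.2.1, chevF4.reflectRoot i t.2.2.2.2)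

def f4cRefl2 (i : ℕ) (t : ℕ × ℕ) : ℕ × ℕ :=
  (chevF4.reflectRoot i t.1, chevF4.reflectRoot i t.2)

/-- closure check of the part of the table with first entry `x` -/
def f4cT6Chk (x : ℕ) : Bool :=
  (f4cT6 x).all fun t => (List.range 4).all fun i =>
    (f4cT6 (chevF4.reflectRoot i x)).contains (f4cRefl5 i t)

/-- the tuples with first entry `x` and fourth entry in `f4cR` -/
def f4cT6Good (x : ℕ) : Bool :=
  (f4cT6 x).all fun t => !(f4cR.contains x) || !(f4cR.contains t.2.2.1) ||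
    (decide (x = 39) && (decide (t = (40, 44, 45, 46, 47)) || decide (t = (44, 40, 45, 46, 47)) ||
      decide (t = (40, 44, 45, 47, 46)) || decide (t = (44, 40, 45, 47, 46))))

theorem f4c_T1_closed_b : (f4cT1.all fun t => (List.range 4).all fun i =>
    f4cT1.contains (f4cRefl2 i t)) = true := by decide +kernel

theorem f4c_T1_good_b : (f4cT1.all fun t => !(f4cR1.contains t.1) ||
    !(f4cR1.contains t.2) || decide (t = (44, 47))) = true := by decide +kernel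

theorem f4c_T1_base : f4cT1.contains (44, 47) = true := by decide +kernel

theorem f4c_T6_base : (f4cT6 39).contains (40, 44, 45, 46, 47) = true := by decide +kernel

theorem f4c_T6_chk_3 : f4cT6Chk 3 = true := by decide +kernel
theorem f4c_T6_chk_7 : f4cT6Chk 7 = true := by decide +kernel
theorem f4c_T6_chk_8 : f4cT6Chk 8 = true := by decide +kernel
theorem f4c_T6_chk_9 : f4cT6Chk 9 = true := by decide +kernel
theorem f4c_T6_chk_10 : f4cT6Chk 10 = true := by decide +kernel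
theorem f4c_T6_chk_11 : f4cT6Chk 11 = true := by decide +kernel
theorem f4c_T6_chk_12 : f4cT6Chk 12 = true := by decide +kernel
theorem f4c_T6_chk_13 : f4cT6Chk 13 = true := by decide +kernel
theorem f4c_T6_chk_14 : f4cT6Chk 14 = true := by decide +kernel
theorem f4c_T6_chk_18 : f4cT6Chk 18 = true := by decide +kernel
theorem f4c_T6_chk_19 : f4cT6Chk 19 = true := by decide +kernel
theorem f4c_T6_chk_20 : f4cT6Chk 20 = true := by decide +kernel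
theorem f4c_T6_chk_27 : f4cT6Chk 27 = true := by decide +kernel
theorem f4c_T6_chk_28 : f4cT6Chk 28 = true := by decide +kernel
theorem f4c_T6_chk_29 : f4cT6Chk 29 = true := by decide +kernel
theorem f4c_T6_chk_33 : f4cT6Chk 33 = true := by decide +kernel
theorem f4c_T6_chk_34 : f4cT6Chk 34 = true := by decide +kernel
theorem f4c_T6_chk_35 : f4cT6Chk 35 = true := by decide +kernel
theorem f4c_T6_chk_36 : f4cT6Chk 36 = true := by decide +kernel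
theorem f4c_T6_chk_37 : f4cT6Chk 37 = true := by decide +kernel
theorem f4c_T6_chk_38 : f4cT6Chk 38 = true := by decide +kernel
theorem f4c_T6_chk_39 : f4cT6Chk 39 = true := by decide +kernel
theorem f4c_T6_chk_40 : f4cT6Chk 40 = true := by decide +kernel
theorem f4c_T6_chk_44 : f4cT6Chk 44 = true := by decide +kernel

theorem f4c_T6_good_3 : f4cT6Good 3 = true := by decide +kernel
theorem f4c_T6_good_7 : f4cT6Good 7 = true := by decide +kernel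
theorem f4c_T6_good_8 : f4cT6Good 8 = true := by decide +kernel
theorem f4c_T6_good_9 : f4cT6Good 9 = true := by decide +kernel
theorem f4c_T6_good_10 : f4cT6Good 10 = true := by decide +kernel
theorem f4c_T6_good_11 : f4cT6Good 11 = true := by decide +kernel
theorem f4c_T6_good_12 : f4cT6Good 12 = true := by decide +kernel
theorem f4c_T6_good_13 : f4cT6Good 13 = true := by decide +kernel
theorem f4c_T6_good_14 : f4cT6Good 14 = true := by decide +kernel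
theorem f4c_T6_good_18 : f4cT6Good 18 = true := by decide +kernel
theorem f4c_T6_good_19 : f4cT6Good 19 = true := by decide +kernel
theorem f4c_T6_good_20 : f4cT6Good 20 = true := by decide +kernel
theorem f4c_T6_good_27 : f4cT6Good 27 = true := by decide +kernel
theorem f4c_T6_good_28 : f4cT6Good 28 = true := by decide +kernel
theorem f4c_T6_good_29 : f4cT6Good 29 = true := by decide +kernel
theorem f4c_T6_good_33 : f4cT6Good 33 = true := by decide +kernel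
theorem f4c_T6_good_34 : f4cT6Good 34 = true := by decide +kernel
theorem f4c_T6_good_35 : f4cT6Good 35 = true := by decide +kernel
theorem f4c_T6_good_36 : f4cT6Good 36 = true := by decide +kernel
theorem f4c_T6_good_37 : f4cT6Good 37 = true := by decide +kernel
theorem f4c_T6_good_38 : f4cT6Good 38 = true := by decide +kernel
theorem f4c_T6_good_39 : f4cT6Good 39 = true := by decide +kernel
theorem f4c_T6_good_40 : f4cT6Good 40 = true := by decide +kernel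
theorem f4c_T6_good_44 : f4cT6Good 44 = true := by decide +kernel

theorem f4c_T6_nil (x : ℕ) (hx : x ∉ [3, 7, 8, 9, 10, 11, 12, 13, 14, 18, 19, 20, 27, 28, 29, 33, 34, 35, 36, 37, 38, 39, 40, 44]) : f4cT6 x = [] := by
  unfold f4cT6
  split <;> simp_all

theorem f4c_T6_chk (x : ℕ) : f4cT6Chk x = true := by
  by_cases hx : x ∈ [3, 7, 8, 9, 10, 11, 12, 13, 14, 18, 19, 20, 27, 28, 29, 33, 34, 35, 36, 37, 38, 39, 40, 44]
  · simp only [List.mem_cons, List.not_mem_nil, or_false] at hx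
    rcases hx with rfl | rfl | rfl | rfl | rfl | rfl | rfl | rfl | rfl | rfl | rfl | rfl | rfl | rfl | rfl | rfl | rfl | rfl | rfl | rfl | rfl | rfl | rfl | rfl
    · exact f4c_T6_chk_3
    · exact f4c_T6_chk_7
    · exact f4c_T6_chk_8
    · exact f4c_T6_chk_9
    · exact f4c_T6_chk_10
    · exact f4c_T6_chk_11
    · exact f4c_T6_chk_12
    · exact f4c_T6_chk_13
    · exact f4c_T6_chk_14
    · exact f4c_T6_chk_18
    · exact f4c_T6_chk_19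
    · exact f4c_T6_chk_20
    · exact f4c_T6_chk_27
    · exact f4c_T6_chk_28
    · exact f4c_T6_chk_29
    · exact f4c_T6_chk_33
    · exact f4c_T6_chk_34
    · exact f4c_T6_chk_35
    · exact f4c_T6_chk_36
    · exact f4c_T6_chk_37
    · exact f4c_T6_chk_38
    · exact f4c_T6_chk_39
    · exact f4c_T6_chk_40
    · exact f4c_T6_chk_44
  · unfold f4cT6Chk
    rw [f4c_T6_nil x hx]
    rfl

theorem f4c_T6_good (x : ℕ) : f4cT6Good x = true := by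
  by_cases hx : x ∈ [3, 7, 8, 9, 10, 11, 12, 13, 14, 18, 19, 20, 27, 28, 29, 33, 34, 35, 36, 37, 38, 39, 40, 44]
  · simp only [List.mem_cons, List.not_mem_nil, or_false] at hx
    rcases hx with rfl | rfl | rfl | rfl | rfl | rfl | rfl | rfl | rfl | rfl | rfl | rfl | rfl | rfl | rfl | rfl | rfl | rfl | rfl | rfl | rfl | rfl | rfl | rfl
    · exact f4c_T6_good_3
    · exact f4c_T6_good_7
    · exact f4c_T6_good_8
    · exact f4c_T6_good_9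
    · exact f4c_T6_good_10
    · exact f4c_T6_good_11
    · exact f4c_T6_good_12
    · exact f4c_T6_good_13
    · exact f4c_T6_good_14
    · exact f4c_T6_good_18
    · exact f4c_T6_good_19
    · exact f4c_T6_good_20
    · exact f4c_T6_good_27
    · exact f4c_T6_good_28
    · exact f4c_T6_good_29
    · exact f4c_T6_good_33
    · exact f4c_T6_good_34
    · exact f4c_T6_good_35
    · exact f4c_T6_good_36
    · exact f4c_T6_good_37
    · exact f4c_T6_good_38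
    · exact f4c_T6_good_39
    · exact f4c_T6_good_40
    · exact f4c_T6_good_44
  · unfold f4cT6Good
    rw [f4c_T6_nil x hx]
    rfl

end Cfsg.Agent.Lib.helper14
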