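import Mathlib
import Cfsg.Prelude.Def_ChevStructure
import Cfsg.Agent.Lib.helper14.F4Cd

/-!
# Project F4C (S2179): the Weyl group orbits of `(39, 40, 44, 45, 46, 47)` and `(44, 47)`
-/

set_option autoImplicit false

namespace Cfsg.Agent.Lib.helper14

open Cfsg.Lie Cfsg.Lie.ChevalleyDatum Cfsg.Agent.Lib.helper8

theorem f4c_orbit6 (w : List ℕ) (hw : ∀ i ∈ w, i < chevF4.rank) :
    (f4cT6 (h8sW chevF4 w 39)).contains (h8sW chevF4 w 40, h8sW chevF4 w 44, h8sW chevF4 w 45,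
      h8sW chevF4 w 46, h8sW chevF4 w 47) = true := by
  induction w with
  | nil => exact f4c_T6_base
  | cons i w ih =>
    have hi : i < 4 := by
      have := hw i List.mem_cons_self
      rwa [f4c_rank] at this
    have h1 := ih (fun j hj => hw j (List.mem_cons_of_mem _ hj))
    have h2 := f4c_T6_chk (h8sW chevF4 w 39)
    unfold f4cT6Chk at h2
    rw [List.all_eq_true] at h2
    have h3 := h2 _ (List.contains_iff_mem.mp h1)
    rw [List.all_eq_true] at h3
    exact h3 i (List.mem_range.mpr hi)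

theorem f4c_orbit1 (w : List ℕ) (hw : ∀ i ∈ w, i < chevF4.rank) :
    f4cT1.contains (h8sW chevF4 w 44, h8sW chevF4 w 47) = true := by
  induction w with
  | nil => exact f4c_T1_base
  | cons i w ih =>
    have hi : i < 4 := by
      have := hw i List.mem_cons_self
      rwa [f4c_rank] at this
    have h1 := ih (fun j hj => hw j (List.mem_cons_of_mem _ hj))
    have h2 := f4c_T1_closed_b
    rw [List.all_eq_true] at h2
    have h3 := h2 _ (List.contains_iff_mem.mp h1)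
    rw [List.all_eq_true] at h3
    exact h3 i (List.mem_range.mpr hi)

/-- a Weyl group element mapping `39` and `45` into `f4cR` permutes `f4cR` -/
theorem f4c_stab2 (w : List ℕ) (hw : ∀ i ∈ w, i < chevF4.rank)
    (h39 : h8sW chevF4 w 39 ∈ f4cR) (h45 : h8sW chevF4 w 45 ∈ f4cR) :
    h8sW chevF4 w 39 = 39 ∧ h8sW chevF4 w 45 = 45 ∧
      ((h8sW chevF4 w 40 = 40 ∧ h8sW chevF4 w 44 = 44) ∨
        (h8sW chevF4 w 40 = 44 ∧ h8sW chevF4 w 44 = 40)) ∧
      ((h8sW chevF4 w 46 = 46 ∧ h8sW chevF4 w 47 = 47) ∨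
        (h8sW chevF4 w 46 = 47 ∧ h8sW chevF4 w 47 = 46)) := by
  have h1 := f4c_orbit6 w hw
  have h2 := f4c_T6_good (h8sW chevF4 w 39)
  unfold f4cT6Good at h2
  rw [List.all_eq_true] at h2
  have h3 := h2 _ (List.contains_iff_mem.mp h1)
  simp only [Bool.or_eq_true, Bool.not_eq_true', Bool.and_eq_true, decide_eq_true_eq,
    Prod.mk.injEq] at h3
  rcases h3 with (h3 | h3) | ⟨h3, h4⟩
  · rw [List.contains_eq_mem, decide_eq_false_iff_not] at h3
    exact absurd h39 h3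
  · rw [List.contains_eq_mem, decide_eq_false_iff_not] at h3
    exact absurd h45 h3
  · rcases h4 with ((⟨a, b, c, d, e⟩ | ⟨a, b, c, d, e⟩) | ⟨a, b, c, d, e⟩) | ⟨a, b, c, d, e⟩
    · exact ⟨h3, c, Or.inl ⟨a, b⟩, Or.inl ⟨d, e⟩⟩
    · exact ⟨h3, c, Or.inr ⟨a, b⟩, Or.inl ⟨d, e⟩⟩
    · exact ⟨h3, c, Or.inl ⟨a, b⟩, Or.inr ⟨d, e⟩⟩
    · exact ⟨h3, c, Or.inr ⟨a, b⟩, Or.inr ⟨d, e⟩⟩

/-- a Weyl group element mapping `44` and `47` into `{44, 47}` fixes both -/
theorem f4c_stab1 (w : List ℕ) (hw : ∀ i ∈ w, i < chevF4.rank)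
    (h44 : h8sW chevF4 w 44 ∈ f4cR1) (h47 : h8sW chevF4 w 47 ∈ f4cR1) :
    h8sW chevF4 w 44 = 44 ∧ h8sW chevF4 w 47 = 47 := by
  have h1 := f4c_orbit1 w hw
  have h2 := f4c_T1_good_b
  rw [List.all_eq_true] at h2
  have h3 := h2 _ (List.contains_iff_mem.mp h1)
  simp only [Bool.or_eq_true, Bool.not_eq_true', decide_eq_true_eq, Prod.mk.injEq] at h3
  rcases h3 with (h3 | h3) | h3
  · rw [List.contains_eq_mem, decide_eq_false_iff_not] at h3
    exact absurd h44 h3
  · rw [List.contains_eq_mem, decide_eq_false_iff_not] at h3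
    exact absurd h47 h3
  · exact h3

end Cfsg.Agent.Lib.helper14
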