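import Mathlib
import Cfsg.Prelude.Def_ChevStructure
import Cfsg.Agent.Lib.helper14.F4Cb
import Cfsg.Agent.Lib.helper8.ChevTabSC
import Cfsg.Agent.Lib.helper8.ChevOver
import Cfsg.Agent.S1048

/-!
# Project F4C (S2179), generic part 3

* `f4c_B_conj_lead` : a `B`-conjugate of `x_{r₀}(1)` is a word over a commuting `B`-stable list
  `r₀ :: L'` with non-zero leading coefficient.
* `f4c_norm_of_act` : an element permuting the root subgroups of `L` normalises `f4cQ L`.
* `f4c_x_mem_Q_zero` : a root element `x_s(a)` with `s ∉ L` in `f4cQ L` is trivial.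
* `f4c_par_decomp` : an element of `G` normalising a subgroup `Q` normalised by `B` lies in the
  parabolic subgroup `P_J` (`J` = the simple reflections normalising `Q`), hence is `u h l'`.
* `f4c_H_act`, `f4c_H_mem` : the torus.
-/

set_option autoImplicit false

namespace Cfsg.Agent.Lib.helper14

open Cfsg.Lie Cfsg.Lie.ChevalleyDatum Cfsg.Agent.Lib.helper8

universe u

variable {F : Type u} [Field F]

/-- a `B`-conjugate of `x_{r₀}(1)` -/
theorem f4c_B_conj_lead (D : ChevalleyDatum) (hB : H8Base.{u} D) (hC : H8CommAll.{u} D)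
    (hO : H8Ord D) (hO2 : H8Ord2 D) (hM : CfMax D) (r₀ : ℕ) (L' : List ℕ) (hr₀ : D.IsPosRoot r₀)
    (hL' : ∀ s ∈ L', D.IsPosRoot s ∧ r₀ < s) (hnd : (r₀ :: L').Nodup) (m : ℕ)
    (hm : ((m : ℤ) : F) = 0) (hcomm : f4cCommChk D (r₀ :: L') m = true)
    (hstab : f4cStabChk D (r₀ :: L') m = true) (b : GL D.Idx F) (hb : b ∈ D.borelSubgroup F) :
    ∃ c : ℕ → F, c r₀ ≠ 0 ∧ b * h8xU D hB r₀ 1 * b⁻¹ = f4cLW D hB (r₀ :: L') c := by
  have hQ := f4c_B_conj_Q D hB hC (r₀ :: L') m hm hstab b hb _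
    (f4cQ_mem D hB (r₀ :: L') r₀ List.mem_cons_self (1 : F))
  obtain ⟨c, hc⟩ := f4c_Q_word D hB hC (r₀ :: L') hnd m hm hcomm _ hQ
  refine ⟨c, ?_, hc⟩
  obtain ⟨g, hg, h, hh, rfl⟩ := cf_B_decomp D hB b hb
  obtain ⟨χ, hχ, hact⟩ := h8perm_H_id D hB h hh r₀ hr₀.1
  obtain ⟨v, hv, e⟩ := cf_conj_U D hB hC hO hM g hg r₀ hr₀ (χ * 1)
  have e0 : g * h * h8xU D hB r₀ 1 * (g * h)⁻¹ = g * (h * h8xU D hB r₀ 1 * h⁻¹) * g⁻¹ := by group
  rw [e0, hact 1, e, f4cLW_cons] at hc
  have htail : f4cLW D hB L' c ∈ Subgroup.closure (h8VkSet D F (r₀ + 1)) := by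
    unfold f4cLW
    apply cfword_mem_Vk
    intro q hq
    rw [List.mem_map] at hq
    obtain ⟨s, hs, rfl⟩ := hq
    exact ⟨(hL' s hs).1, (hL' s hs).2⟩
  have hmem : h8xU D hB r₀ (c r₀ - χ * 1) ∈ Subgroup.closure (h8VkSet D F (r₀ + 1)) := by
    have e1 : h8xU D hB r₀ (c r₀ - χ * 1) = v * (f4cLW D hB L' c)⁻¹ := by
      rw [eq_mul_inv_iff_mul_eq, sub_eq_add_neg, add_comm, ← h8xU_add D hB r₀ hr₀.1, ← h8xU_inv,
        mul_assoc, ← hc, ← mul_assoc, inv_mul_cancel, one_mul]
    rw [e1]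
    exact Subgroup.mul_mem _ hv (Subgroup.inv_mem _ htail)
  have h0 := h8x_not_mem_Vk D hB hO2 r₀ hr₀ _ hmem
  rw [sub_eq_zero.mp h0, mul_one]
  exact hχ

/-- an element permuting the root subgroups `X_s`, `s ∈ L`, normalises their product -/
theorem f4c_norm_of_act (D : ChevalleyDatum) (hB : H8Base.{u} D) (L : List ℕ) (ν : GL D.Idx F)
    (acts : ∀ s ∈ L, ∃ s' ∈ L, H8Act D hB ν s s')
    (acts' : ∀ s ∈ L, ∃ s' ∈ L, H8Act D hB ν s' s) :
    ν ∈ Subgroup.normalizer ((f4cQ D hB F L : Subgroup (GL D.Idx F)) : Set (GL D.Idx F)) := by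
  unfold f4cQ
  apply h8_mem_normalizer_closure
  · rintro x ⟨s, hs, a, rfl⟩
    obtain ⟨s', hs', c, _, hc⟩ := acts s hs
    rw [hc]
    exact f4cQ_mem D hB L s' hs' _
  · rintro x ⟨s, hs, a, rfl⟩
    obtain ⟨s', hs', hact⟩ := acts' s hs
    obtain ⟨c, _, hc⟩ := h8act_inv D hB ν s' s hact
    have := hc a
    rw [inv_inv] at this
    rw [this]
    exact f4cQ_mem D hB L s' hs' _

/-- a positive root element `x_s(a)` with `s ∉ L` lying in `f4cQ L` is trivial -/
theorem f4c_x_mem_Q_zero (D : ChevalleyDatum) (hB : H8Base.{u} D) (hC : H8CommAll.{u} D)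
    (hO2 : H8Ord2 D) (L : List ℕ) (hnd : L.Nodup) (m : ℕ) (hm : ((m : ℤ) : F) = 0)
    (hcomm : f4cCommChk D L m = true)
    (hfil : (h8Lk D 0).filter (fun r => decide (r ∈ L)) = L) (s : ℕ) (hs : D.IsPosRoot s)
    (hsL : s ∉ L) (hfils : (h8Lk D 0).filter (fun r => decide (r ∈ [s])) = [s]) (a : F)
    (h : h8xU D hB s a ∈ f4cQ D hB F L) : a = 0 := by
  obtain ⟨c, hc⟩ := f4c_Q_word D hB hC L hnd m hm hcomm _ h
  have h1 : h8xU D hB s a = f4cLW D hB [s] (fun _ => a) := by
    rw [f4cLW_cons, f4cLW_nil, mul_one]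
  rw [h1, f4cLW_eq_W D hB [s] hfils, f4cLW_eq_W D hB L hfil] at hc
  have h2 := f4c_W_unique0 D hB hO2 _ _ hc s hs
  simp only [List.mem_singleton, if_true] at h2
  rw [if_neg hsL] at h2
  exact h2

/-- parabolic decomposition of the normaliser of a `B`-stable subgroup -/
theorem f4c_par_decomp (D : ChevalleyDatum)
    (hD : D ∈ [chevG2, chevB2, chevD4, chevF4, chevE6, chevE7, chevE8]) (hB : H8Base.{u} D)
    (J : Set ℕ) (Q : Subgroup (GL D.Idx F))
    (hBQ : D.borelSubgroup F ≤ Subgroup.normalizer (Q : Set (GL D.Idx F)))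
    (hJ : ∀ i < D.rank, h8nU D hB (D.simple i) (1 : F) ∈
      Subgroup.normalizer (Q : Set (GL D.Idx F)) → i ∈ J)
    (g : GL D.Idx F) (hgG : g ∈ D.group F)
    (hgQ : g ∈ Subgroup.normalizer (Q : Set (GL D.Idx F))) :
    ∃ u ∈ D.unipotentRadical F J, ∃ h ∈ D.diagonalSubgroup F, ∃ l' ∈ Subgroup.closure
      {g : GL D.Idx F | ∃ (r : ℕ) (t : F), D.InRootSub J r ∧
        (g : Matrix D.Idx D.Idx F) = D.x F r t}, g = u * (h * l') := by
  have hA := h8reflAll D hD
  have hC := h8commAll.{u} D hD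
  have hBN := h8bn_all D hD
  have hW := h8bn2_all D hD
  obtain ⟨hO, hO2⟩ := h8ord_all D hD
  have hover := h8overgroup D hB hA hC hBN hW hO2 _ hBQ ⟨hgQ, hgG⟩
  have hgPar : g ∈ D.parabolicSubgroup F J := by
    have hle : D.borelSubgroup F ⊔ Subgroup.closure {g : GL D.Idx F | ∃ i < D.rank,
        g = h8nU D hB (D.simple i) (1 : F) ∧ g ∈ Subgroup.normalizer (Q : Set (GL D.Idx F))} ≤
        D.parabolicSubgroup F J := by
      unfold ChevalleyDatum.parabolicSubgroup
      apply sup_le_sup_left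
      apply Subgroup.closure_mono
      rintro x ⟨i, hi, rfl, hxP⟩
      exact ⟨i, hJ i hi hxP, hi, h8nU_val D hB _ _⟩
    exact hle hover
  obtain ⟨hnorm, hsup, -⟩ := Cfsg.Agent.S1048.result (F := F) D hD J
  have hLN : D.leviSubgroup F J ≤ Subgroup.normalizer
      (D.unipotentRadical F J : Set (GL D.Idx F)) := by
    refine le_trans ?_ hnorm
    rw [← hsup]
    exact le_sup_right
  have hprod := Subgroup.coe_mul_of_right_le_normalizer_left (D.unipotentRadical F J)
    (D.leviSubgroup F J) hLN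
  rw [← hsup] at hgPar
  have hgm : g ∈ ((D.unipotentRadical F J ⊔ D.leviSubgroup F J :
      Subgroup (GL D.Idx F)) : Set (GL D.Idx F)) := hgPar
  rw [hprod] at hgm
  obtain ⟨u, hu, l, hl, eul⟩ := hgm
  set S : Set (GL D.Idx F) := {g : GL D.Idx F | ∃ (r : ℕ) (t : F),
    D.InRootSub J r ∧ (g : Matrix D.Idx D.Idx F) = D.x F r t} with hS
  have hHN : D.diagonalSubgroup F ≤
      Subgroup.normalizer ((Subgroup.closure S : Subgroup (GL D.Idx F)) :
        Set (GL D.Idx F)) := by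
    intro h hh
    have hact := h8perm_H_id D hB h hh
    have hact' := h8perm_H_id D hB h⁻¹ (Subgroup.inv_mem _ hh)
    apply h8_mem_normalizer_closure
    · rintro x ⟨s, v, hs, hx⟩
      have hx' : x = h8xU D hB s v := Units.ext (by rw [hx, h8xU_val])
      obtain ⟨c, _, hc⟩ := hact s hs.1
      rw [hx', hc]
      exact Subgroup.subset_closure ⟨s, _, hs, h8xU_val D hB _ _⟩
    · rintro x ⟨s, v, hs, hx⟩
      have hx' : x = h8xU D hB s v := Units.ext (by rw [hx, h8xU_val])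
      obtain ⟨c, _, hc⟩ := hact' s hs.1
      have := hc v
      rw [inv_inv] at this
      rw [hx', this]
      exact Subgroup.subset_closure ⟨s, _, hs, h8xU_val D hB _ _⟩
  have hprod2 := Subgroup.coe_mul_of_left_le_normalizer_right (D.diagonalSubgroup F)
    (Subgroup.closure S) hHN
  have hlm : l ∈ ((D.diagonalSubgroup F ⊔ Subgroup.closure S :
      Subgroup (GL D.Idx F)) : Set (GL D.Idx F)) := hl
  rw [hprod2] at hlm
  obtain ⟨h, hh, l', hl', ehl⟩ := hlm
  have e1 : h * l' = l := ehl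
  have e2 : u * l = g := eul
  exact ⟨u, hu, h, hh, l', hl', by rw [e1, e2]⟩

/-- the action of a torus element on the root subgroups, and its expression as a word -/
theorem f4c_H_act (D : ChevalleyDatum) (hB : H8Base.{u} D) (hsc : h8scChk D = true)
    (h : GL D.Idx F) (hh : h ∈ D.diagonalSubgroup F) :
    ∃ γ : ℕ → F, (∀ i, γ i ≠ 0) ∧
      (∀ r < D.nroots, ∀ v : F, h * h8xU D hB r v * h⁻¹ =
        h8xU D hB r ((∏ i ∈ Finset.range D.rank, γ i ^ (D.cartan i r)) * v)) ∧
      h = h8wordU D hB ((List.range D.rank).flatMap fun i => D.hWord (D.simple i) (γ i)) := by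
  obtain ⟨γ, hγ, hval⟩ := h8_H_eq_Phi D hB h hh
  refine ⟨γ, hγ, ?_, ?_⟩
  · intro r hr v
    rw [mul_inv_eq_iff_eq_mul]
    apply Units.ext
    rw [Units.val_mul, Units.val_mul, h8xU_val, h8xU_val, hval]
    exact h8Phi_conj_x D hB hsc γ hγ r hr D.rank le_rfl v
  · apply Units.ext
    rw [hval, h8wordU_val, h8wordMat_flatMap_range D hB hsc γ (fun i _ => hγ i) D.rank le_rfl]

/-- a torus word lies in a subgroup `K` containing `X_{±p_i}` for all `i` with `γ i ≠ 1` -/
theorem f4c_H_mem (D : ChevalleyDatum) (hB : H8Base.{u} D) (γ : ℕ → F)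
    (K : Subgroup (GL D.Idx F))
    (hK : ∀ i < D.rank, γ i = 1 ∨ ∀ v : F, h8xU D hB (D.simple i) v ∈ K ∧
      h8xU D hB (D.neg (D.simple i)) v ∈ K) :
    h8wordU D hB ((List.range D.rank).flatMap fun i => D.hWord (D.simple i) (γ i)) ∈ K := by
  have hall : ∀ (Ls : List ℕ), (∀ i ∈ Ls, i < D.rank) →
      h8wordU D hB (Ls.flatMap fun i => D.hWord (D.simple i) (γ i)) ∈ K := by
    intro Ls
    induction Ls with
    | nil => intro _; exact Subgroup.one_mem _
    | cons i Ls ih =>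
      intro hLs
      rw [List.flatMap_cons, h8wordU_append]
      refine Subgroup.mul_mem _ ?_ (ih (fun j hj => hLs j (List.mem_cons_of_mem _ hj)))
      have hi : i < D.rank := hLs i List.mem_cons_self
      rcases hK i hi with h1 | h1
      · have : h8wordU D hB (D.hWord (D.simple i) (γ i)) = h8hU D hB (D.simple i) (γ i) := rfl
        rw [this, h1, h8hU_one]
        exact Subgroup.one_mem _
      · apply h8wordU_mem_of
        intro p hp
        have hp' : p.1 = D.simple i ∨ p.1 = D.neg (D.simple i) := by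
          unfold ChevalleyDatum.hWord ChevalleyDatum.nWord at hp
          simp only [List.cons_append, List.nil_append, List.mem_cons, List.not_mem_nil,
            or_false] at hp
          rcases hp with rfl | rfl | rfl | rfl | rfl | rfl <;> simp
        rcases hp' with h | h
        · rw [h]; exact (h1 _).1
        · rw [h]; exact (h1 _).2
  exact hall _ (fun i hi => List.mem_range.mp hi)

end Cfsg.Agent.Lib.helper14
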