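import Mathlib
import Cfsg.Prelude.Def_ChevStructure
import Cfsg.Agent.Lib.helper14.F4Cf
import Cfsg.Agent.Lib.helper8.ChevTits3
import Cfsg.Agent.Lib.helper8.ChevTits2

/-!
# Project F4C (S2179), generic part 4: the crux

If every `B`-conjugate of `v` is a word over the commuting `B`-stable list `L` whose coefficients at
the roots of `L₀` do not vanish, `L` is cut out by witness Weyl words, and every Weyl group element
mapping `L₀` into `L` permutes `L`, then the centraliser of `v` in `G` normalises `f4cQ L`.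
-/

set_option autoImplicit false

namespace Cfsg.Agent.Lib.helper14

open Cfsg.Lie Cfsg.Lie.ChevalleyDatum Cfsg.Agent.Lib.helper8

universe u

variable {F : Type u} [Field F]

theorem f4cLW_append (D : ChevalleyDatum) (hB : H8Base.{u} D) (L1 L2 : List ℕ) (c : ℕ → F) :
    f4cLW D hB (L1 ++ L2) c = f4cLW D hB L1 c * f4cLW D hB L2 c := by
  unfold f4cLW
  rw [List.map_append, h8wordU_append]

theorem f4c_crux (D : ChevalleyDatum) (hB : H8Base.{u} D) (hA : H8ReflAll D)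
    (hC : H8CommAll.{u} D) (hBN : H8BN D) (hW : H8BN2 D) (hO : H8Ord D) (hO2 : H8Ord2 D)
    (L L₀ : List ℕ) (m : ℕ) (hm : ((m : ℤ) : F) = 0) (hstab : f4cStabChk D L m = true)
    (hfil : (h8Lk D 0).filter (fun r => decide (r ∈ L)) = L)
    (ws : List (List ℕ)) (hws : ∀ v ∈ ws, ∀ i ∈ v, i < D.rank)
    (hLpos : ∀ v ∈ ws, ∀ r ∈ L, D.IsPosRoot (h8sW D v r))
    (hLcl : ∀ s < D.nroots, (∀ v ∈ ws, D.IsPosRoot (h8sW D v s)) → s ∈ L)
    (v : GL D.Idx F)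
    (hBv : ∀ b ∈ D.borelSubgroup F, ∃ c : ℕ → F, (∀ r ∈ L₀, c r ≠ 0) ∧
      b * v * b⁻¹ = f4cLW D hB L c)
    (hL₀ : ∀ r ∈ L₀, r ∈ L ∧ D.IsPosRoot r)
    (hWeyl : ∀ w : List ℕ, (∀ i ∈ w, i < D.rank) → (∀ r ∈ L₀, h8sW D w r ∈ L) →
      (∀ s ∈ L, h8sW D w s ∈ L) ∧ (∀ s ∈ L, ∃ s' ∈ L, h8sW D w s' = s))
    (g : GL D.Idx F) (hgG : g ∈ D.group F) (hcen : g * v * g⁻¹ = v) :
    g ∈ Subgroup.normalizer ((f4cQ D hB F L : Subgroup (GL D.Idx F)) : Set (GL D.Idx F)) := by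
  obtain ⟨b, hb, n, hn, b', hb', e⟩ := h8bruhat D hB hA hC hBN hW g hgG
  obtain ⟨h0, hh0, w, hw, rfl⟩ := h8N_word D hB hA hBN n hn
  have hBN' := f4c_B_le_normQ (F := F) D hB hC L m hm hstab
  suffices hν : (h8nWU D hB w : GL D.Idx F) ∈
      Subgroup.normalizer ((f4cQ D hB F L : Subgroup (GL D.Idx F)) : Set (GL D.Idx F)) by
    rw [e]
    exact Subgroup.mul_mem _ (Subgroup.mul_mem _ (hBN' hb)
      (Subgroup.mul_mem _ (hBN' (h8H_le_B D hh0)) hν)) (hBN' hb')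
  obtain ⟨c, hc, hy⟩ := hBv b' hb'
  have hb0 : (b * h0)⁻¹ ∈ D.borelSubgroup F :=
    Subgroup.inv_mem _ (Subgroup.mul_mem _ hb (h8H_le_B D hh0))
  obtain ⟨c', _, hy'⟩ := hBv (b * h0)⁻¹ hb0
  have hνeq : (h8nWU D hB w : GL D.Idx F) = (b * h0)⁻¹ * g * b'⁻¹ := by
    rw [e]; group
  have hkey : (h8nWU D hB w : GL D.Idx F) * (b' * v * b'⁻¹) *
      (h8nWU D hB w : GL D.Idx F)⁻¹ = (b * h0)⁻¹ * v * ((b * h0)⁻¹)⁻¹ := by
    have e2 : (h8nWU D hB w : GL D.Idx F) * (b' * v * b'⁻¹) *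
        (h8nWU D hB w : GL D.Idx F)⁻¹ =
        (b * h0)⁻¹ * (g * v * g⁻¹) * ((b * h0)⁻¹)⁻¹ := by
      rw [hνeq]; group
    rw [e2, hcen]
  rw [hy, hy', f4cLW_eq_W D hB L hfil, f4cLW_eq_W D hB L hfil] at hkey
  have hsupp : ∀ r ∈ L₀, h8sW D w r ∈ L := by
    intro r hr
    apply f4c_support D hB hA hC hBN hO hO2 L ws hws hLpos hLcl w hw _ _ ?_ hkey r (hL₀ r hr).2
    · rw [if_pos (hL₀ r hr).1]
      exact hc r hr
    · intro s _ hs
      by_contra hsL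
      rw [if_neg hsL] at hs
      exact hs rfl
  obtain ⟨h1, h2⟩ := hWeyl w hw hsupp
  have hlt : ∀ s ∈ L, s < D.nroots := f4c_stab_lt D L m hstab
  apply f4c_norm_of_act D hB L
  · intro s hs
    exact ⟨_, h1 s hs, h8nWU_act D hB hA w hw s (hlt s hs)⟩
  · intro s hs
    obtain ⟨s', hs', e1⟩ := h2 s hs
    refine ⟨s', hs', ?_⟩
    have := h8nWU_act (F := F) D hB hA w hw s' (hlt s' hs')
    rwa [e1] at this

end Cfsg.Agent.Lib.helper14
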