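import Mathlib
import Cfsg.Prelude.Def_ChevStructure
import Cfsg.Agent.Lib.helper14.F4Cg
import Cfsg.Agent.Lib.helper14.F4Ce
import Cfsg.Agent.Lib.helper14.ChevFiltAll

/-!
# Project F4C (S2179): type `F₄`, the element `x_39(1) x_45(1)` -- the centraliser normalises
`X_39 X_40 X_44 X_45 X_46 X_47`, and lies in the parabolic subgroup `P_{1,4}`
-/

set_option autoImplicit false

namespace Cfsg.Agent.Lib.helper14

open Cfsg.Lie Cfsg.Lie.ChevalleyDatum Cfsg.Agent.Lib.helper8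

universe u

variable {F : Type u} [Field F]

theorem f4c_pos (r : ℕ) (h1 : 24 ≤ r) (h2 : r < 48) : chevF4.IsPosRoot r :=
  (f4c_pos_iff r h2).mpr h1

theorem f4c_pos_ge (r : ℕ) (h : chevF4.IsPosRoot r) : 24 ≤ r ∧ r < 48 := by
  have h1 : r < 48 := by
    have := h.1
    rwa [f4c_nroots] at this
  exact ⟨(f4c_pos_iff r h1).mp h, h1⟩

theorem f4c_mem_list : chevF4 ∈ [chevG2, chevB2, chevD4, chevF4, chevE6, chevE7, chevE8] := by simp

theorem f4c_R_split : f4cR = f4cRs ++ f4cRl := rfl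

theorem f4c_refl_facts : chevF4.reflectRoot 1 45 = 43 ∧ chevF4.reflectRoot 2 39 = 38 ∧
    chevF4.reflectRoot 0 44 = 40 ∧ chevF4.reflectRoot 3 47 = 46 := by decide +kernel

variable (hB : H8Base.{u} chevF4)

local notation "𝔵" => h8xU chevF4 hB

/-- a `B`-conjugate of `x_39(1) x_45(1)` -/
theorem f4c_B_conj2 (hC : H8CommAll.{u} chevF4) (hO : H8Ord chevF4) (hO2 : H8Ord2 chevF4)
    (hm : (((2 : ℕ) : ℤ) : F) = 0) (b : GL chevF4.Idx F) (hb : b ∈ chevF4.borelSubgroup F) :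
    ∃ c : ℕ → F, (∀ r ∈ [39, 45], c r ≠ 0) ∧
      b * (𝔵 39 1 * 𝔵 45 1) * b⁻¹ = f4cLW chevF4 hB f4cR c := by
  have hM := cfMax_all chevF4 f4c_mem_list
  obtain ⟨c1, hc1, e1⟩ := f4c_B_conj_lead chevF4 hB hC hO hO2 hM 39 [40, 44]
    (f4c_pos 39 (by omega) (by omega))
    (by
      intro s hs
      simp only [List.mem_cons, List.not_mem_nil, or_false] at hs
      rcases hs with rfl | rfl
      · exact ⟨f4c_pos 40 (by omega) (by omega), by omega⟩
      · exact ⟨f4c_pos 44 (by omega) (by omega), by omega⟩)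
    (by decide) 2 hm f4c_comm_Rs f4c_stab_Rs b hb
  obtain ⟨c2, hc2, e2⟩ := f4c_B_conj_lead chevF4 hB hC hO hO2 hM 45 [46, 47]
    (f4c_pos 45 (by omega) (by omega))
    (by
      intro s hs
      simp only [List.mem_cons, List.not_mem_nil, or_false] at hs
      rcases hs with rfl | rfl
      · exact ⟨f4c_pos 46 (by omega) (by omega), by omega⟩
      · exact ⟨f4c_pos 47 (by omega) (by omega), by omega⟩)
    (by decide) 2 hm f4c_comm_Rl f4c_stab_Rl b hb
  refine ⟨fun r => if r ∈ f4cRs then c1 r else c2 r, ?_, ?_⟩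
  · intro r hr
    simp only [List.mem_cons, List.not_mem_nil, or_false] at hr
    rcases hr with rfl | rfl
    · show (if 39 ∈ f4cRs then c1 39 else c2 39) ≠ 0
      rw [if_pos (by decide)]; exact hc1
    · show (if 45 ∈ f4cRs then c1 45 else c2 45) ≠ 0
      rw [if_neg (by decide)]; exact hc2
  · have e0 : b * (𝔵 39 1 * 𝔵 45 1) * b⁻¹ = (b * 𝔵 39 1 * b⁻¹) * (b * 𝔵 45 1 * b⁻¹) := by group
    rw [e0, e1, e2, f4c_R_split, f4cLW_append]
    rfl

/-- the crux for `x_39(1) x_45(1)` -/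
theorem f4c_crux2 (hA : H8ReflAll chevF4) (hC : H8CommAll.{u} chevF4) (hBN : H8BN chevF4)
    (hW : H8BN2 chevF4) (hO : H8Ord chevF4) (hO2 : H8Ord2 chevF4)
    (hm : (((2 : ℕ) : ℤ) : F) = 0) (g : GL chevF4.Idx F) (hgG : g ∈ chevF4.group F)
    (hcen : g * (𝔵 39 1 * 𝔵 45 1) * g⁻¹ = 𝔵 39 1 * 𝔵 45 1) :
    g ∈ Subgroup.normalizer ((f4cQ chevF4 hB F f4cR : Subgroup (GL chevF4.Idx F)) :
      Set (GL chevF4.Idx F)) := by
  apply f4c_crux chevF4 hB hA hC hBN hW hO hO2 f4cR [39, 45] 2 hm f4c_stab_R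
    (f4c_fil f4cR (by simp)) f4cWs2 f4c_ws2_rank f4c_ws2_pos f4c_ws2_cl (𝔵 39 1 * 𝔵 45 1)
    (fun b hb => f4c_B_conj2 hB hC hO hO2 hm b hb) ?_ ?_ g hgG hcen
  · intro r hr
    simp only [List.mem_cons, List.not_mem_nil, or_false] at hr
    rcases hr with rfl | rfl
    · exact ⟨by decide, f4c_pos 39 (by omega) (by omega)⟩
    · exact ⟨by decide, f4c_pos 45 (by omega) (by omega)⟩
  · intro w hw h0
    obtain ⟨h39, h45, h4044, h4647⟩ := f4c_stab2 w hw (h0 39 (by simp)) (h0 45 (by simp))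
    constructor
    · intro s hs
      simp only [f4cR, List.mem_cons, List.not_mem_nil, or_false] at hs
      rcases hs with rfl | rfl | rfl | rfl | rfl | rfl
      · rw [h39]; decide
      · rcases h4044 with ⟨h, _⟩ | ⟨h, _⟩ <;> rw [h] <;> decide
      · rcases h4044 with ⟨_, h⟩ | ⟨_, h⟩ <;> rw [h] <;> decide
      · rw [h45]; decide
      · rcases h4647 with ⟨h, _⟩ | ⟨h, _⟩ <;> rw [h] <;> decide
      · rcases h4647 with ⟨_, h⟩ | ⟨_, h⟩ <;> rw [h] <;> decide
    · intro s hs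
      simp only [f4cR, List.mem_cons, List.not_mem_nil, or_false] at hs
      rcases hs with rfl | rfl | rfl | rfl | rfl | rfl
      · exact ⟨39, by decide, h39⟩
      · rcases h4044 with ⟨h, _⟩ | ⟨_, h⟩
        · exact ⟨40, by decide, h⟩
        · exact ⟨44, by decide, h⟩
      · rcases h4044 with ⟨_, h⟩ | ⟨h, _⟩
        · exact ⟨44, by decide, h⟩
        · exact ⟨40, by decide, h⟩
      · exact ⟨45, by decide, h45⟩
      · rcases h4647 with ⟨h, _⟩ | ⟨_, h⟩
        · exact ⟨46, by decide, h⟩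
        · exact ⟨47, by decide, h⟩
      · rcases h4647 with ⟨_, h⟩ | ⟨h, _⟩
        · exact ⟨47, by decide, h⟩
        · exact ⟨46, by decide, h⟩

/-- the simple reflections normalising `f4cQ f4cR` are `n₁` and `n₄` -/
theorem f4c_J2 (hA : H8ReflAll chevF4) (hC : H8CommAll.{u} chevF4) (hO2 : H8Ord2 chevF4)
    (hm : (((2 : ℕ) : ℤ) : F) = 0) (i : ℕ) (hi : i < chevF4.rank)
    (h : h8nU chevF4 hB (chevF4.simple i) (1 : F) ∈ Subgroup.normalizer
      ((f4cQ chevF4 hB F f4cR : Subgroup (GL chevF4.Idx F)) : Set (GL chevF4.Idx F))) :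
    i ∈ ({0, 3} : Set ℕ) := by
  have hi4 : i < 4 := by rwa [f4c_rank] at hi
  by_contra hne
  have h12 : i = 1 ∨ i = 2 := by
    simp only [Set.mem_insert_iff, Set.mem_singleton_iff, not_or] at hne
    omega
  have hlt : ∀ s, s < 48 → s < chevF4.nroots := fun s hs => by rw [f4c_nroots]; exact hs
  rcases h12 with rfl | rfl
  · obtain ⟨η, hη, hact⟩ := h8act_nU (F := F) chevF4 hB hA 1 hi 45 (hlt 45 (by omega))
    rw [f4c_refl_facts.1] at hact
    have hmem := (Subgroup.mem_normalizer_iff.mp h (𝔵 45 1)).mp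
      (f4cQ_mem chevF4 hB f4cR 45 (by decide) 1)
    rw [hact 1] at hmem
    have := f4c_x_mem_Q_zero chevF4 hB hC hO2 f4cR (by decide) 2 hm f4c_comm_R
      (f4c_fil f4cR (by simp)) 43 (f4c_pos 43 (by omega) (by omega)) (by decide)
      (f4c_fil [43] (by simp)) _ hmem
    rw [mul_one] at this
    exact hη this
  · obtain ⟨η, hη, hact⟩ := h8act_nU (F := F) chevF4 hB hA 2 hi 39 (hlt 39 (by omega))
    rw [f4c_refl_facts.2.1] at hact
    have hmem := (Subgroup.mem_normalizer_iff.mp h (𝔵 39 1)).mp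
      (f4cQ_mem chevF4 hB f4cR 39 (by decide) 1)
    rw [hact 1] at hmem
    have := f4c_x_mem_Q_zero chevF4 hB hC hO2 f4cR (by decide) 2 hm f4c_comm_R
      (f4c_fil f4cR (by simp)) 38 (f4c_pos 38 (by omega) (by omega)) (by decide)
      (f4c_fil [38] (by simp)) _ hmem
    rw [mul_one] at this
    exact hη this

end Cfsg.Agent.Lib.helper14
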