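import Mathlib

/-!
# The action of `SL_n(F)`, `n ≥ 3`, on non-zero vectors: suborbits of a point stabiliser
-/

set_option autoImplicit false

namespace Cfsg.Agent.Lib.helper14.SLnVec

open Matrix Module

section LinAlg

variable {F : Type*} [Field F] {n : ℕ}

local notation "V" => (Fin n → F)
local notation "SLn" => Matrix.SpecialLinearGroup (Fin n) F

/-- the special linear matrix of a transvection -/
noncomputable def transvSL (f : Dual F V) (u : V) (h : f u = 0) : SLn :=
  ⟨LinearMap.toMatrix' (LinearMap.transvection f u), by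
    rw [LinearMap.det_toMatrix', LinearMap.transvection.det, h, add_zero]⟩

theorem transvSL_mulVec (f : Dual F V) (u : V) (h : f u = 0) (x : V) :
    (transvSL f u h : Matrix (Fin n) (Fin n) F).mulVec x = x + f x • u := by
  show (LinearMap.toMatrix' (LinearMap.transvection f u)).mulVec x = _
  rw [LinearMap.toMatrix'_mulVec, LinearMap.transvection.apply]

/-- one transvection step -/
theorem exists_sl_of_notMem (v w w' : V) (h : w ∉ Submodule.span F ({v, w' - w} : Set V)) :
    ∃ g : SLn, (g : Matrix (Fin n) (Fin n) F).mulVec v = v ∧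
      (g : Matrix (Fin n) (Fin n) F).mulVec w = w' := by
  obtain ⟨f, hfw, hf⟩ := Submodule.exists_dual_map_eq_bot_of_notMem h inferInstance
  have hzero : ∀ x ∈ Submodule.span F ({v, w' - w} : Set V), f x = 0 := by
    intro x hx
    have : f x ∈ (Submodule.span F ({v, w' - w} : Set V)).map f := Submodule.mem_map_of_mem hx
    rw [hf] at this
    exact (Submodule.mem_bot F).mp this
  have hfv : f v = 0 := hzero v (Submodule.subset_span (by simp))
  have hfu : f (w' - w) = 0 := hzero _ (Submodule.subset_span (by simp))
  have h0 : ((f w)⁻¹ • f) (w' - w) = 0 := by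
    rw [LinearMap.smul_apply, hfu, smul_zero]
  refine ⟨transvSL ((f w)⁻¹ • f) (w' - w) h0, ?_, ?_⟩
  · rw [transvSL_mulVec, LinearMap.smul_apply, hfv, smul_zero, zero_smul, add_zero]
  · rw [transvSL_mulVec, LinearMap.smul_apply, smul_eq_mul, inv_mul_cancel₀ hfw, one_smul]
    abel

theorem exists_notMem_span_pair (hn : 3 ≤ n) (a b : V) :
    ∃ x : V, x ∉ Submodule.span F ({a, b} : Set V) := by
  classical
  by_contra hcon
  push Not at hcon
  have htop : Submodule.span F ({a, b} : Set V) = ⊤ := eq_top_iff.mpr (fun x _ => hcon x)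
  have h1 : Module.finrank F (Submodule.span F ((({a, b} : Finset V)) : Set V)) ≤
      ({a, b} : Finset V).card := finrank_span_finset_le_card _
  have h2 : ((({a, b} : Finset V) : Set V)) = ({a, b} : Set V) := by simp
  rw [h2, htop, finrank_top, Module.finrank_fintype_fun_eq_card, Fintype.card_fin] at h1
  have h3 : ({a, b} : Finset V).card ≤ 2 := Finset.card_le_two
  omega

/-- the stabiliser of `v` in `SL_n`, `n ≥ 3`, is transitive on the vectors outside `F v` -/
theorem exists_sl_fix (hn : 3 ≤ n) (v w w' : V) (hw : w ∉ Submodule.span F ({v} : Set V))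
    (hw' : w' ∉ Submodule.span F ({v} : Set V)) :
    ∃ g : SLn, (g : Matrix (Fin n) (Fin n) F).mulVec v = v ∧
      (g : Matrix (Fin n) (Fin n) F).mulVec w = w' := by
  by_cases h : w ∈ Submodule.span F ({v, w' - w} : Set V)
  · obtain ⟨x, hx⟩ := exists_notMem_span_pair hn v (w' - w)
    have hw'mem : w' ∈ Submodule.span F ({v, w' - w} : Set V) := by
      have h3 := Submodule.add_mem _
        (Submodule.subset_span (show w' - w ∈ ({v, w' - w} : Set V) by simp)) h
      rwa [sub_add_cancel] at h3
    have hvmem : v ∈ Submodule.span F ({v, w' - w} : Set V) := Submodule.subset_span (by simp)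
    have h1 : w ∉ Submodule.span F ({v, x - w} : Set V) := by
      intro hmem
      obtain ⟨a, b, hab⟩ := Submodule.mem_span_pair.mp hmem
      by_cases hb : b = 0
      · apply hw
        rw [Submodule.mem_span_singleton]
        refine ⟨a, ?_⟩
        rw [← hab, hb, zero_smul, add_zero]
      · apply hx
        have : x = b⁻¹ • ((1 + b) • w - a • v) := by
          have h3 : b • x = (1 + b) • w - a • v := by
            have e : b • x = (a • v + b • (x - w)) + b • w - a • v := by module
            rw [e, hab]
            module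
          rw [← h3, smul_smul, inv_mul_cancel₀ hb, one_smul]
        rw [this]
        exact Submodule.smul_mem _ _ (Submodule.sub_mem _ (Submodule.smul_mem _ _ h)
          (Submodule.smul_mem _ _ hvmem))
    have h2 : x ∉ Submodule.span F ({v, w' - x} : Set V) := by
      intro hmem
      obtain ⟨a, b, hab⟩ := Submodule.mem_span_pair.mp hmem
      by_cases hb : 1 + b = 0
      · apply hw'
        rw [Submodule.mem_span_singleton]
        refine ⟨a, ?_⟩
        have hb' : b = -1 := by linear_combination hb
        rw [hb'] at hab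
        have : a • v - w' = 0 := by
          have e : a • v - w' = (a • v + (-1 : F) • (w' - x)) - x := by module
          rw [e, hab, sub_self]
        exact sub_eq_zero.mp this
      · apply hx
        have : x = (1 + b)⁻¹ • (a • v + b • w') := by
          have h3 : (1 + b) • x = a • v + b • w' := by
            have e : a • v + b • w' = (a • v + b • (w' - x)) + b • x := by module
            rw [e, hab]
            module
          rw [← h3, smul_smul, inv_mul_cancel₀ hb, one_smul]
        rw [this]
        exact Submodule.smul_mem _ _ (Submodule.add_mem _ (Submodule.smul_mem _ _ hvmem)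
          (Submodule.smul_mem _ _ hw'mem))
    obtain ⟨g1, hg1v, hg1w⟩ := exists_sl_of_notMem v w x h1
    obtain ⟨g2, hg2v, hg2w⟩ := exists_sl_of_notMem v x w' h2
    refine ⟨g2 * g1, ?_, ?_⟩
    · rw [Matrix.SpecialLinearGroup.coe_mul, ← Matrix.mulVec_mulVec, hg1v, hg2v]
    · rw [Matrix.SpecialLinearGroup.coe_mul, ← Matrix.mulVec_mulVec, hg1w, hg2w]
  · exact exists_sl_of_notMem v w w' h

/-- `SL_n`, `n ≥ 3`, is transitive on non-zero vectors -/
theorem exists_sl_map (hn : 3 ≤ n) (v v' : V) (hv : v ≠ 0) (hv' : v' ≠ 0) :
    ∃ g : SLn, (g : Matrix (Fin n) (Fin n) F).mulVec v = v' := by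
  obtain ⟨x, hx⟩ := exists_notMem_span_pair hn v v'
  have h1 : ∀ y : V, y ≠ 0 → y ∈ Submodule.span F ({v, v'} : Set V) →
      y ∉ Submodule.span F ({x} : Set V) := by
    intro y hy hymem hyx
    obtain ⟨c, hc⟩ := Submodule.mem_span_singleton.mp hyx
    have hc0 : c ≠ 0 := by
      intro h
      rw [h, zero_smul] at hc
      exact hy hc.symm
    apply hx
    have : x = c⁻¹ • y := by rw [← hc, smul_smul, inv_mul_cancel₀ hc0, one_smul]
    rw [this]
    exact Submodule.smul_mem _ _ hymem
  obtain ⟨g, -, hg⟩ := exists_sl_fix hn x v v'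
    (h1 v hv (Submodule.subset_span (by simp))) (h1 v' hv' (Submodule.subset_span (by simp)))
  exact ⟨g, hg⟩

end LinAlg

end Cfsg.Agent.Lib.helper14.SLnVec
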