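import Mathlib

set_option autoImplicit false

/-! Kernel-dimension sequences of an endomorphism (Jordan type bookkeeping). -/

namespace Cfsg.Agent.Lib.helper14.JTa

section basic
variable {F : Type*} [Field F] {V : Type*} [AddCommGroup V] [Module F V]

/-- `dk M k = dim ker M^k`. -/
noncomputable def dk (M : Module.End F V) (k : ℕ) : ℕ :=
  Module.finrank F (LinearMap.ker (M ^ k))

/-- `ek M k = dim (range M^k ∩ ker M) = dk (k+1) - dk k`. -/
noncomputable def ek (M : Module.End F V) (k : ℕ) : ℕ :=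
  Module.finrank F (LinearMap.range (M ^ k) ⊓ LinearMap.ker M : Submodule F V)

theorem dk_zero (M : Module.End F V) : dk M 0 = 0 := by
  unfold dk
  rw [pow_zero, Module.End.one_eq_id, LinearMap.ker_id, finrank_bot]

variable [FiniteDimensional F V]

theorem dk_succ (M : Module.End F V) (k : ℕ) : dk M (k + 1) = dk M k + ek M k := by
  unfold dk ek
  set f : Module.End F V := M ^ k with hf
  have hpow : M ^ (k + 1) = M ∘ₗ f := by
    rw [pow_succ', Module.End.mul_eq_comp]
  rw [hpow]
  set K : Submodule F V := LinearMap.ker (M ∘ₗ f) with hK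
  have hle : LinearMap.ker f ≤ K := by
    intro v hv
    rw [hK, LinearMap.mem_ker, LinearMap.comp_apply, LinearMap.mem_ker.mp hv, map_zero]
  let h : K →ₗ[F] V := f ∘ₗ K.subtype
  have hrange : LinearMap.range h = LinearMap.range f ⊓ LinearMap.ker M := by
    ext v
    constructor
    · rintro ⟨u, rfl⟩
      refine ⟨⟨u.1, rfl⟩, ?_⟩
      have h2 : (u : V) ∈ LinearMap.ker (M ∘ₗ f) := u.2
      rw [LinearMap.mem_ker, LinearMap.comp_apply] at h2
      exact h2
    · rintro ⟨⟨u, rfl⟩, hu⟩
      refine ⟨⟨u, ?_⟩, rfl⟩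
      rw [hK, LinearMap.mem_ker, LinearMap.comp_apply]
      exact hu
  have hker : LinearMap.ker h = Submodule.comap K.subtype (LinearMap.ker f) := by
    rw [LinearMap.ker_comp]
  have e1 := LinearMap.finrank_range_add_finrank_ker h
  rw [hrange, hker, (Submodule.comapSubtypeEquivOfLe hle).finrank_eq] at e1
  omega

theorem ek_succ_le (M : Module.End F V) (k : ℕ) : ek M (k + 1) ≤ ek M k := by
  unfold ek
  apply Submodule.finrank_mono
  apply inf_le_inf_right
  rw [pow_succ, Module.End.mul_eq_comp]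
  exact LinearMap.range_comp_le_range _ _

theorem dk_eq_sum (M : Module.End F V) (k : ℕ) : dk M k = ∑ i ∈ Finset.range k, ek M i := by
  induction k with
  | zero => simp [dk_zero]
  | succ k ih => rw [dk_succ, Finset.sum_range_succ, ih]

theorem dk_of_pow_eq_zero (M : Module.End F V) (K : ℕ) (hK : M ^ K = 0) :
    dk M K = Module.finrank F V := by
  unfold dk
  rw [hK, LinearMap.ker_zero, finrank_top]

theorem ek_of_pow_eq_zero (M : Module.End F V) (K : ℕ) (hK : M ^ K = 0) :
    ek M K = 0 := by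
  unfold ek
  rw [hK, LinearMap.range_zero, bot_inf_eq, finrank_bot]

theorem pow_eq_zero_of_dk (M : Module.End F V) (K : ℕ) (hK : dk M K = Module.finrank F V) :
    M ^ K = 0 := by
  unfold dk at hK
  have := Submodule.eq_top_of_finrank_eq hK
  exact LinearMap.ker_eq_top.mp this

/-- Restricted kernel dims. -/
theorem dk_restrict (M : Module.End F V) (A : Submodule F V) (hA : ∀ v ∈ A, M v ∈ A) (k : ℕ) :
    dk (M.restrict hA) k = Module.finrank F (LinearMap.ker (M ^ k) ⊓ A : Submodule F V) := by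
  unfold dk
  have h1 : LinearMap.ker ((M.restrict hA) ^ k) = Submodule.comap A.subtype (LinearMap.ker (M ^ k)) := by
    ext a
    rw [LinearMap.mem_ker, Submodule.mem_comap, LinearMap.mem_ker, Module.End.pow_restrict k hA,
      Subtype.ext_iff, LinearMap.restrict_coe_apply]
    rfl
  rw [h1, ← Submodule.finrank_map_subtype_eq, Submodule.map_comap_subtype, inf_comm]

theorem dk_add (M : Module.End F V) (A B : Submodule F V) (hAB : IsCompl A B)
    (hA : ∀ v ∈ A, M v ∈ A) (hB : ∀ v ∈ B, M v ∈ B) (k : ℕ) :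
    dk M k = dk (M.restrict hA) k + dk (M.restrict hB) k := by
  rw [dk_restrict, dk_restrict]
  unfold dk
  set K : Submodule F V := LinearMap.ker (M ^ k) with hK
  have hAk : ∀ v ∈ A, (M ^ k) v ∈ A := Module.End.pow_apply_mem_of_forall_mem k hA
  have hBk : ∀ v ∈ B, (M ^ k) v ∈ B := Module.End.pow_apply_mem_of_forall_mem k hB
  have hsup : (K ⊓ A) ⊔ (K ⊓ B) = K := by
    apply le_antisymm
    · exact sup_le inf_le_left inf_le_left
    · intro v hv
      have hvt : v ∈ A ⊔ B := by rw [hAB.sup_eq_top]; trivial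
      obtain ⟨a, ha, b, hb, rfl⟩ := Submodule.mem_sup.mp hvt
      rw [hK, LinearMap.mem_ker, map_add] at hv
      have h1 : (M ^ k) a ∈ A ⊓ B := by
        refine ⟨hAk a ha, ?_⟩
        have : (M ^ k) a = -((M ^ k) b) := eq_neg_of_add_eq_zero_left hv
        rw [this]
        exact B.neg_mem (hBk b hb)
      rw [hAB.inf_eq_bot, Submodule.mem_bot] at h1
      have h2 : (M ^ k) b = 0 := by rw [h1, zero_add] at hv; exact hv
      exact Submodule.add_mem_sup ⟨h1, ha⟩ ⟨h2, hb⟩
  have hinf : (K ⊓ A) ⊓ (K ⊓ B) = ⊥ := by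
    rw [eq_bot_iff]
    calc (K ⊓ A) ⊓ (K ⊓ B) ≤ A ⊓ B := inf_le_inf inf_le_right inf_le_right
      _ = ⊥ := hAB.inf_eq_bot
  have e := Submodule.finrank_sup_add_finrank_inf_eq (K ⊓ A) (K ⊓ B)
  rw [hsup, hinf, finrank_bot] at e
  omega

end basic

section conj
variable {F : Type*} [Field F] {V W : Type*} [AddCommGroup V] [Module F V]
  [AddCommGroup W] [Module F W]

theorem dk_conj (e : V ≃ₗ[F] W) (M : Module.End F V) (k : ℕ) :
    dk (e.conjAlgEquiv F M) k = dk M k := by
  unfold dk
  rw [← map_pow]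
  have h : LinearMap.ker (e.conjAlgEquiv F (M ^ k)) = Submodule.map e.toLinearMap (LinearMap.ker (M ^ k)) := by
    ext w
    rw [LinearMap.mem_ker, LinearEquiv.conjAlgEquiv_apply]
    constructor
    · intro hw
      refine ⟨e.symm w, ?_, by simp⟩
      rw [SetLike.mem_coe, LinearMap.mem_ker]
      have : e ((M ^ k) (e.symm w)) = 0 := hw
      exact (LinearEquiv.map_eq_zero_iff e).mp this
    · rintro ⟨v, hv, rfl⟩
      rw [SetLike.mem_coe, LinearMap.mem_ker] at hv
      simp [hv]
  rw [h]
  exact LinearEquiv.finrank_map_eq e _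

end conj

end Cfsg.Agent.Lib.helper14.JTa
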