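import Mathlib
import Cfsg.Agent.Lib.Lead.OrthGen

set_option autoImplicit false

/-! In characteristic two over a finite field: two elements of the orthogonal group `O(Q)`
that are conjugate under the symplectic group of the polar form are conjugate in `O(Q)`.
The key point is an Arf-invariant type statement proved with a quadratic Gauss sum. -/

namespace Cfsg.Agent.Lib.helper14.OrthSp

open Cfsg.Agent.Lib.Lead.OG

section AS

variable {F : Type*} [Field F] [CharP F 2]

/-- the Artin–Schreier map `x ↦ x² + x` -/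
def asHom : F →+ F where
  toFun x := x ^ 2 + x
  map_zero' := by simp
  map_add' x y := by
    rw [CharTwo.add_sq]
    ring

theorem asHom_apply (x : F) : asHom x = x ^ 2 + x := rfl

/-- the image of the Artin–Schreier map -/
def asRange : AddSubgroup F := (asHom (F := F)).range

theorem mem_asRange (y : F) : y ∈ asRange ↔ ∃ x : F, x ^ 2 + x = y := by
  unfold asRange
  rw [AddMonoidHom.mem_range]
  rfl

theorem sq_add_mem (y : F) : y ^ 2 + y ∈ (asRange : AddSubgroup F) := (mem_asRange _).mpr ⟨y, rfl⟩

variable [Fintype F]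

theorem asRange_index : (asRange : AddSubgroup F).index = 2 := by
  classical
  have hker : Nat.card (asHom (F := F)).ker = 2 := by
    have : ((asHom (F := F)).ker : Set F) = {0, 1} := by
      ext x
      simp only [SetLike.mem_coe, AddMonoidHom.mem_ker, asHom_apply, Set.mem_insert_iff,
        Set.mem_singleton_iff]
      constructor
      · intro h
        have h' : x * (x + 1) = 0 := by linear_combination h
        rcases mul_eq_zero.mp h' with h0 | h1
        · exact Or.inl h0
        · right
          have := CharTwo.add_self_eq_zero (1 : F)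
          linear_combination h1 - this
      · rintro (rfl | rfl)
        · simp
        · have := CharTwo.add_self_eq_zero (1 : F)
          linear_combination this
    have h2 : Nat.card (asHom (F := F)).ker = Nat.card ({0, 1} : Set F) := by
      apply Nat.card_congr
      exact Equiv.setCongr this
    rw [h2, Nat.card_eq_fintype_card, ← Set.toFinset_card]
    simp
  have h1 := AddSubgroup.card_mul_index (asHom (F := F)).ker
  rw [AddSubgroup.index_ker, hker] at h1
  have h2 := AddSubgroup.card_mul_index (asRange : AddSubgroup F)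
  have h3 : Nat.card (asRange : AddSubgroup F) = Nat.card (asHom (F := F)).range := rfl
  have hpos : 0 < Nat.card (asRange : AddSubgroup F) := Nat.card_pos
  rw [← h3] at h1
  have : Nat.card (asRange : AddSubgroup F) * (asRange : AddSubgroup F).index =
      Nat.card (asRange : AddSubgroup F) * 2 := by rw [h2, ← h1, mul_comm]
  exact Nat.eq_of_mul_eq_mul_left hpos this

/-- the quadratic character of `F / ℘(F)` -/
noncomputable def psi (x : F) : ℤ := by
  classical
  exact if x ∈ (asRange : AddSubgroup F) then 1 else -1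

theorem psi_add (x y : F) : psi (x + y) = psi x * psi y := by
  classical
  unfold psi
  have h := AddSubgroup.add_mem_iff_of_index_two (asRange_index (F := F)) (a := x) (b := y)
  by_cases hx : x ∈ (asRange : AddSubgroup F) <;> by_cases hy : y ∈ (asRange : AddSubgroup F)
  · rw [if_pos hx, if_pos hy, if_pos (h.mpr ⟨fun _ => hy, fun _ => hx⟩)]; rfl
  · rw [if_pos hx, if_neg hy, if_neg (fun hh => hy ((h.mp hh).mp hx))]; rfl
  · rw [if_neg hx, if_pos hy, if_neg (fun hh => hx ((h.mp hh).mpr hy))]; rfl
  · rw [if_neg hx, if_neg hy, if_pos (h.mpr ⟨fun hh => absurd hh hx, fun hh => absurd hh hy⟩)]; rfl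

theorem psi_zero : psi (0 : F) = 1 := by
  classical
  unfold psi
  rw [if_pos (zero_mem _)]

theorem psi_sq (y : F) : psi (y ^ 2) = psi y := by
  have h : y ^ 2 = y + (y ^ 2 + y) := by
    have := CharTwo.add_self_eq_zero y
    linear_combination -this
  have h1 : psi (y ^ 2 + y) = 1 := by
    classical
    unfold psi
    rw [if_pos (sq_add_mem y)]
  rw [h, psi_add, h1, mul_one]

theorem psi_eq_one_iff (x : F) : psi x = 1 ↔ x ∈ (asRange : AddSubgroup F) := by
  classical
  unfold psi
  by_cases hx : x ∈ (asRange : AddSubgroup F)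
  · rw [if_pos hx]; exact ⟨fun _ => hx, fun _ => rfl⟩
  · rw [if_neg hx]
    constructor
    · intro h; omega
    · intro h; exact absurd h hx

theorem exists_psi_neg : ∃ y : F, psi y = -1 := by
  classical
  have hne : (asRange : AddSubgroup F) ≠ ⊤ := by
    intro h
    have := asRange_index (F := F)
    rw [h, AddSubgroup.index_top] at this
    omega
  obtain ⟨y, hy⟩ : ∃ y : F, y ∉ (asRange : AddSubgroup F) := by
    by_contra hcon
    apply hne
    rw [eq_top_iff]
    intro y _
    by_contra hy
    exact hcon ⟨y, hy⟩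
  refine ⟨y, ?_⟩
  unfold psi
  rw [if_neg hy]

end AS

section Gauss

variable {F : Type*} [Field F] [CharP F 2] [Fintype F] {κ : Type*} [Fintype κ] [DecidableEq κ]
  {Q : (κ → F) → F} {B : LinearMap.BilinForm F (κ → F)}

theorem sum_psi_linear (hQ : IsQP Q B) (u : κ → F) (hu : u ≠ 0) :
    ∑ x : κ → F, psi (B x u) = 0 := by
  obtain ⟨y, hy⟩ := hQ.nondeg u hu
  have hy' : B y u ≠ 0 := by rw [hQ.symm, one_mul]; exact hy
  obtain ⟨y₀, hy₀⟩ := exists_psi_neg (F := F)
  set x₀ : κ → F := (y₀ / B y u) • y with hx₀
  have hx₀u : B x₀ u = y₀ := by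
    rw [hx₀, map_smul, LinearMap.smul_apply, smul_eq_mul, div_mul_cancel₀ _ hy']
  have h1 : ∑ x : κ → F, psi (B x u) = ∑ x : κ → F, psi (B (x + x₀) u) :=
    (Equiv.sum_comp (Equiv.addRight x₀) (fun x => psi (B x u))).symm
  have h2 : ∑ x : κ → F, psi (B (x + x₀) u) = -∑ x : κ → F, psi (B x u) := by
    rw [← Finset.sum_neg_distrib]
    apply Finset.sum_congr rfl
    intro x _
    rw [map_add, LinearMap.add_apply, psi_add, hx₀u, hy₀]
    ring
  rw [h2] at h1
  omega

/-- the quadratic Gauss sum -/
noncomputable def gauss (Q : (κ → F) → F) : ℤ := ∑ x : κ → F, psi (Q x)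

theorem gauss_sq (hQ : IsQP Q B) : gauss Q * gauss Q = Fintype.card (κ → F) := by
  unfold gauss
  rw [Finset.sum_mul_sum]
  have h1 : ∀ x : κ → F, ∑ y : κ → F, psi (Q x) * psi (Q y) =
      ∑ y : κ → F, psi (Q y) * psi (B y x) := by
    intro x
    rw [← Equiv.sum_comp (Equiv.addRight x) (fun y => psi (Q x) * psi (Q y))]
    apply Finset.sum_congr rfl
    intro y _
    show psi (Q x) * psi (Q (y + x)) = psi (Q y) * psi (B y x)
    rw [hQ.add, psi_add, psi_add]
    have : psi (Q x) * psi (Q x) = 1 := by
      rw [← psi_add, CharTwo.add_self_eq_zero, psi_zero]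
    linear_combination (psi (Q y) * psi (B y x)) * this
  rw [Finset.sum_congr rfl (fun x _ => h1 x), Finset.sum_comm]
  simp only [← Finset.mul_sum]
  rw [Finset.sum_eq_single 0]
  · rw [hQ.zero, psi_zero, one_mul]
    have : ∀ x : κ → F, psi (B 0 x) = 1 := fun x => by
      rw [map_zero, LinearMap.zero_apply, psi_zero]
    rw [Finset.sum_congr rfl (fun x _ => this x)]
    simp
  · intro y _ hy
    have : ∑ x : κ → F, psi (B y x) = ∑ x : κ → F, psi (B x y) := by
      apply Finset.sum_congr rfl
      intro x _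
      rw [hQ.symm x y, one_mul]
    rw [this, sum_psi_linear hQ y hy, mul_zero]
  · intro h
    exact absurd (Finset.mem_univ _) h

theorem gauss_ne_zero (hQ : IsQP Q B) : gauss Q ≠ 0 := by
  intro h
  have := gauss_sq hQ
  rw [h, mul_zero] at this
  have hpos : 0 < Fintype.card (κ → F) := Fintype.card_pos
  omega

theorem gauss_shift (hQ : IsQP Q B) (z : κ → F) :
    ∑ x : κ → F, psi (Q x + (B z x) ^ 2) = psi (Q z) * gauss Q := by
  unfold gauss
  rw [Finset.mul_sum, ← Equiv.sum_comp (Equiv.addRight z) (fun x => psi (Q z) * psi (Q x))]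
  apply Finset.sum_congr rfl
  intro x _
  show psi (Q x + (B z x) ^ 2) = psi (Q z) * psi (Q (x + z))
  rw [hQ.add, psi_add, psi_sq, psi_add, psi_add, hQ.symm x z, one_mul]
  have : psi (Q z) * psi (Q z) = 1 := by
    rw [← psi_add, CharTwo.add_self_eq_zero, psi_zero]
  linear_combination (-psi (Q x) * psi (B x z)) * this

end Gauss

section Main

variable {F : Type*} [Field F] [CharP F 2] [Fintype F] {κ : Type*} [Fintype κ] [DecidableEq κ]
  {Q : (κ → F) → F} {B : LinearMap.BilinForm F (κ → F)}

theorem isQP_nondeg (hQ : IsQP Q B) : B.Nondegenerate := by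
  constructor
  · intro x hx
    by_contra h
    obtain ⟨y, hy⟩ := hQ.nondeg x h
    exact hy (hx y)
  · intro y hy
    by_contra h
    obtain ⟨x, hx⟩ := hQ.nondeg y h
    apply hx
    rw [← one_mul (B y x), ← hQ.symm]
    exact hy x

omit [CharP F 2] [Fintype F] in
theorem B_of_Q (hQ : IsQP Q B) (t : (κ → F) →ₗ[F] (κ → F)) (ht : ∀ v, Q (t v) = Q v)
    (u v : κ → F) : B (t u) (t v) = B u v := by
  rw [hQ.polar_eq_sub, hQ.polar_eq_sub, ← map_add, ht, ht, ht]

omit [CharP F 2] [Fintype F] in
theorem inj_of_B (hQ : IsQP Q B) (g : (κ → F) →ₗ[F] (κ → F))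
    (hg : ∀ u v, B (g u) (g v) = B u v) : Function.Injective g := by
  rw [injective_iff_map_eq_zero]
  intro u hu
  by_contra h
  obtain ⟨y, hy⟩ := hQ.nondeg u h
  apply hy
  rw [← hg, hu, map_zero, LinearMap.zero_apply]

theorem sq_inj (a b : F) (h : a ^ 2 = b ^ 2) : a = b := by
  have h1 : (a + b) ^ 2 = 0 := by
    rw [CharTwo.add_sq, h, CharTwo.add_self_eq_zero]
  have h2 : a + b = 0 := by
    exact pow_eq_zero_iff (two_ne_zero) |>.mp h1
  have := CharTwo.add_self_eq_zero b
  linear_combination h2 - this

theorem vec_add_self (v : κ → F) : v + v = 0 := by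
  funext i
  exact CharTwo.add_self_eq_zero (v i)

/-- two elements of `O(Q)` conjugate under `Sp(B)` are conjugate under `O(Q)` -/
theorem conj_in_O (hQ : IsQP Q B) (g t s : (κ → F) →ₗ[F] (κ → F))
    (hg : ∀ u v, B (g u) (g v) = B u v) (ht : ∀ v, Q (t v) = Q v) (hs : ∀ v, Q (s v) = Q v)
    (hgts : ∀ v, g (t v) = s (g v)) :
    ∃ h : (κ → F) ≃ₗ[F] (κ → F), (∀ v, Q (h v) = Q v) ∧ ∀ v, h (t v) = s (h v) := by
  classical
  have hnd := isQP_nondeg hQ
  have hginj := inj_of_B hQ g hg
  have hgbij : Function.Bijective g := Finite.injective_iff_bijective.mp hginj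
  have htB := B_of_Q hQ t ht
  have htinj := inj_of_B hQ t htB
  have htsurj : Function.Surjective t := Finite.injective_iff_surjective.mp htinj
  have h2F : ∀ a : F, a + a = 0 := CharTwo.add_self_eq_zero
  -- the difference of the two quadratic forms
  set D : (κ → F) → F := fun x => Q (g x) + Q x with hD
  have hDadd : ∀ x y, D (x + y) = D x + D y := by
    intro x y
    simp only [hD, map_add, hQ.add, hg]
    linear_combination h2F (B x y)
  have hDsmul : ∀ (c : F) x, D (c • x) = c * c * D x := by
    intro c x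
    simp only [hD, map_smul, hQ.smul]
    ring
  -- its square root, a linear functional
  haveI : Fact (Nat.Prime 2) := ⟨Nat.prime_two⟩
  set sq := frobeniusEquiv F 2 with hsq
  have hsqrt : ∀ y : F, (sq.symm y) ^ 2 = y := fun y => frobeniusEquiv_symm_pow_p F 2 y
  set lam : (κ → F) →ₗ[F] F :=
    { toFun := fun x => sq.symm (D x)
      map_add' := fun x y => by rw [hDadd, map_add]
      map_smul' := fun c x => by
        rw [hDsmul, map_mul, ← pow_two, frobeniusEquiv_symm_pow F 2 c]
        rfl } with hlam
  have hlam2 : ∀ x, (lam x) ^ 2 = D x := fun x => hsqrt (D x)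
  set z : κ → F := (B.toDual hnd).symm lam with hz
  have hzB : ∀ x, B z x = lam x := fun x => LinearMap.BilinForm.apply_toDual_symm_apply lam x
  have hQg : ∀ x, Q (g x) = Q x + (B z x) ^ 2 := by
    intro x
    rw [hzB, hlam2]
    simp only [hD]
    linear_combination -(h2F (Q x))
  -- Arf invariant
  have hQz : Q z ∈ (asRange : AddSubgroup F) := by
    rw [← psi_eq_one_iff]
    have h1 : ∑ x : κ → F, psi (Q (g x)) = gauss Q :=
      Equiv.sum_comp (Equiv.ofBijective g hgbij) (fun x => psi (Q x))
    have h2 : ∑ x : κ → F, psi (Q (g x)) = psi (Q z) * gauss Q := by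
      rw [← gauss_shift hQ z]
      exact Finset.sum_congr rfl (fun x _ => by rw [hQg])
    rw [h1] at h2
    have h3 : (psi (Q z) - 1) * gauss Q = 0 := by linear_combination -h2
    rcases mul_eq_zero.mp h3 with h | h
    · linarith
    · exact absurd h (gauss_ne_zero hQ)
  obtain ⟨b, hb⟩ := (mem_asRange _).mp hQz
  obtain ⟨a, ha⟩ : ∃ a : F, a * a * Q z + a + 1 = 0 := by
    by_cases h0 : Q z = 0
    · exact ⟨1, by rw [h0]; linear_combination h2F 1⟩
    · refine ⟨b / Q z, ?_⟩
      field_simp
      linear_combination hb + h2F (Q z)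
  -- `t z = z`
  have hDt : ∀ x, D (t x) = D x := by
    intro x
    simp only [hD]
    rw [hgts, hs, ht]
  have hBzt : ∀ x, B z (t x) = B z x := by
    intro x
    apply sq_inj
    rw [hzB, hzB, hlam2, hlam2, hDt]
  have htz : t z = z := by
    have h1 : z + t z = 0 := by
      apply hnd.1
      intro y
      obtain ⟨x, rfl⟩ := htsurj y
      rw [map_add, LinearMap.add_apply, htB, hBzt]
      exact h2F _
    have h2 := vec_add_self (t z)
    have : z = t z := by
      have := congrArg (fun w => w + t z) h1
      simp only [add_assoc, h2, add_zero, zero_add] at this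
      exact this
    exact this.symm
  have hBzz : B z z = 0 := by rw [hQ.self]; exact h2F _
  -- the transvection
  set τ : (κ → F) →ₗ[F] (κ → F) := LinearMap.id + (a • (B z)).smulRight z with hτ
  have hτa : ∀ x, τ x = x + (a * B z x) • z := by
    intro x
    rw [hτ, LinearMap.add_apply, LinearMap.id_apply, LinearMap.smulRight_apply,
      LinearMap.smul_apply, smul_eq_mul]
  have hBzτ : ∀ x, B z (τ x) = B z x := by
    intro x
    rw [hτa, map_add, map_smul, hBzz, smul_zero, add_zero]
  have hτinv : Function.Involutive τ := by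
    intro x
    rw [hτa (τ x), hBzτ, hτa, add_assoc, ← add_smul, h2F, zero_smul, add_zero]
  have hQτ : ∀ x, Q (g (τ x)) = Q x := by
    intro x
    have hsym : B x z = B z x := by rw [hQ.symm x z, one_mul]
    rw [hQg, hBzτ, hτa, hQ.add, hQ.smul, map_smul, smul_eq_mul, hsym]
    linear_combination (B z x) ^ 2 * ha
  have hτt : ∀ x, τ (t x) = t (τ x) := by
    intro x
    rw [hτa, hτa, hBzt, map_add, map_smul, htz]
  set gE : (κ → F) ≃ₗ[F] (κ → F) := LinearEquiv.ofBijective g hgbij with hgE
  set τE : (κ → F) ≃ₗ[F] (κ → F) := LinearEquiv.ofInvolutive τ hτinv with hτE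
  refine ⟨τE.trans gE, ?_, ?_⟩
  · intro v
    show Q (g (τ v)) = Q v
    exact hQτ v
  · intro v
    show g (τ (t v)) = s (g (τ v))
    rw [hτt, hgts]

end Main

end Cfsg.Agent.Lib.helper14.OrthSp
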