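import Mathlib
import Cfsg.Agent.Lib.helper14.OrthSp
import Cfsg.Agent.Lib.Lead.OrthPlus
import Cfsg.Agent.Lib.Lead.OrthMinus

set_option autoImplicit false

/-! Matrix form of `conj_in_O`: conjugacy in the isometry group of a quadratic form in
characteristic two is detected by the symplectic group of the polar form. -/

namespace Cfsg.Agent.Lib.helper14.OrthSp

open Cfsg.Agent.Lib.Lead Cfsg.Agent.Lib.Lead.OG Matrix

section

variable {F : Type*} [Field F] {ι : Type} [Fintype ι] [DecidableEq ι]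

theorem exists_gl_of_linearEquiv (d : (ι → F) ≃ₗ[F] (ι → F)) :
    ∃ D : Matrix.GeneralLinearGroup ι F, ∀ x, (D : Matrix ι ι F) *ᵥ x = d x := by
  let M : Matrix ι ι F := LinearMap.toMatrix' (d : (ι → F) →ₗ[F] (ι → F))
  let M' : Matrix ι ι F := LinearMap.toMatrix' (d.symm : (ι → F) →ₗ[F] (ι → F))
  have hMv : ∀ v, M *ᵥ v = d v := fun v => by
    show (LinearMap.toMatrix' _) *ᵥ v = _
    rw [LinearMap.toMatrix'_mulVec]; rfl
  have h1 : M * M' = 1 := by
    show LinearMap.toMatrix' _ * LinearMap.toMatrix' _ = 1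
    rw [← LinearMap.toMatrix'_comp, LinearEquiv.comp_coe, LinearEquiv.symm_trans_self,
      LinearEquiv.refl_toLinearMap, LinearMap.toMatrix'_id]
  have h2 : M' * M = 1 := by
    show LinearMap.toMatrix' _ * LinearMap.toMatrix' _ = 1
    rw [← LinearMap.toMatrix'_comp, LinearEquiv.comp_coe, LinearEquiv.self_trans_symm,
      LinearEquiv.refl_toLinearMap, LinearMap.toMatrix'_id]
  exact ⟨⟨M, M', h1, h2⟩, hMv⟩

theorem mat_eq_of_mulVec' (M M' : Matrix ι ι F) (h : ∀ v, M *ᵥ v = M' *ᵥ v) : M = M' := by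
  apply Matrix.toLin'.injective
  apply LinearMap.ext
  intro v
  rw [Matrix.toLin'_apply, Matrix.toLin'_apply]
  exact h v

variable [Fintype F] [CharP F 2] {Q : (ι → F) → F} {B : LinearMap.BilinForm F (ι → F)}

theorem conj_iff (hQ : IsQP Q B) (t s : ↥(Cfsg.isometryGroup F Q)) :
    IsConj t s ↔ ∃ g ∈ Cfsg.preserving (Units.coeHom (Matrix ι ι F))
      (fun u v => Q (u + v) - Q u - Q v),
      g * (t : Matrix.GeneralLinearGroup ι F) * g⁻¹ = (s : Matrix.GeneralLinearGroup ι F) := by
  have hmemO : ∀ c : ↥(Cfsg.isometryGroup F Q), ∀ v : ι → F,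
      Q (((c : Matrix.GeneralLinearGroup ι F) : Matrix ι ι F) *ᵥ v) = Q v :=
    fun c v => c.2 v v
  constructor
  · intro h
    obtain ⟨c, hc⟩ := isConj_iff.mp h
    refine ⟨(c : Matrix.GeneralLinearGroup ι F), ?_, ?_⟩
    · intro u v
      show Q (((c : Matrix.GeneralLinearGroup ι F) : Matrix ι ι F) *ᵥ u +
          ((c : Matrix.GeneralLinearGroup ι F) : Matrix ι ι F) *ᵥ v) -
        Q (((c : Matrix.GeneralLinearGroup ι F) : Matrix ι ι F) *ᵥ u) -
        Q (((c : Matrix.GeneralLinearGroup ι F) : Matrix ι ι F) *ᵥ v) = Q (u + v) - Q u - Q v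
      rw [← Matrix.mulVec_add]
      have e1 := hmemO c (u + v)
      have e2 := hmemO c u
      have e3 := hmemO c v
      rw [e1, e2, e3]
    · exact congrArg Subtype.val hc
  · rintro ⟨g, hg, hgts⟩
    have hgts' : g * (t : Matrix.GeneralLinearGroup ι F) =
        (s : Matrix.GeneralLinearGroup ι F) * g := mul_inv_eq_iff_eq_mul.mp hgts
    have hgts'' : (g : Matrix ι ι F) * ((t : Matrix.GeneralLinearGroup ι F) : Matrix ι ι F) =
        ((s : Matrix.GeneralLinearGroup ι F) : Matrix ι ι F) * (g : Matrix ι ι F) := by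
      have := congrArg (fun x : Matrix.GeneralLinearGroup ι F => (x : Matrix ι ι F)) hgts'
      simpa using this
    have hgB : ∀ u v, B ((g : Matrix ι ι F) *ᵥ u) ((g : Matrix ι ι F) *ᵥ v) = B u v := by
      intro u v
      rw [hQ.polar_eq_sub, hQ.polar_eq_sub]
      exact hg u v
    obtain ⟨h, hhQ, hhts⟩ := conj_in_O hQ (Matrix.mulVecLin (g : Matrix ι ι F))
      (Matrix.mulVecLin ((t : Matrix.GeneralLinearGroup ι F) : Matrix ι ι F))
      (Matrix.mulVecLin ((s : Matrix.GeneralLinearGroup ι F) : Matrix ι ι F))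
      (fun u v => by rw [Matrix.mulVecLin_apply, Matrix.mulVecLin_apply]; exact hgB u v)
      (fun v => by rw [Matrix.mulVecLin_apply]; exact hmemO t v)
      (fun v => by rw [Matrix.mulVecLin_apply]; exact hmemO s v)
      (fun v => by
        rw [Matrix.mulVecLin_apply, Matrix.mulVecLin_apply, Matrix.mulVecLin_apply,
          Matrix.mulVecLin_apply, Matrix.mulVec_mulVec, Matrix.mulVec_mulVec, hgts''])
    obtain ⟨D, hD⟩ := exists_gl_of_linearEquiv h
    have hDmem : D ∈ Cfsg.isometryGroup F Q := by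
      intro u v
      show Q ((D : Matrix ι ι F) *ᵥ u) = Q u
      rw [hD, hhQ]
    rw [isConj_iff]
    refine ⟨⟨D, hDmem⟩, ?_⟩
    rw [mul_inv_eq_iff_eq_mul]
    apply Subtype.ext
    apply Units.ext
    show (D : Matrix ι ι F) * ((t : Matrix.GeneralLinearGroup ι F) : Matrix ι ι F) =
      ((s : Matrix.GeneralLinearGroup ι F) : Matrix ι ι F) * (D : Matrix ι ι F)
    apply mat_eq_of_mulVec'
    intro v
    rw [← Matrix.mulVec_mulVec, ← Matrix.mulVec_mulVec, hD, hD]
    have := hhts v
    rw [Matrix.mulVecLin_apply, Matrix.mulVecLin_apply] at this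
    exact this

end

section Forms

variable {F : Type*} [Field F]

theorem isQP_plus (m : ℕ) : IsQP (Cfsg.quadFormPlus m F) (polarP F m) where
  add := quadP_add
  smul := quadP_smul
  symm := polarP_symm
  nondeg := polarP_nondeg

end Forms

end Cfsg.Agent.Lib.helper14.OrthSp
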