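import Mathlib
import Cfsg.Agent.S0752

set_option autoImplicit false

/-! Classification of nondegenerate symmetric bilinear forms over a perfect field of
characteristic two: orthonormal basis if not alternating, symplectic basis if alternating. -/

namespace Cfsg.Agent.Lib.helper14.SympInv

open Module LinearMap

universe u

variable {F : Type*} [Field F] [CharP F 2]

theorem nondeg_of_symm_sepLeft {U : Type*} [AddCommGroup U] [Module F U]
    (β : LinearMap.BilinForm F U) (hs : β.IsSymm)
    (h : ∀ x : U, (∀ y, β x y = 0) → x = 0) : β.Nondegenerate := by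
  refine ⟨h, ?_⟩
  intro y hy
  apply h
  intro x
  rw [hs.eq]
  exact hy x

theorem exists_good_vector {U : Type u} [AddCommGroup U] [Module F U] [FiniteDimensional F U]
    (hsq : ∀ x : F, IsSquare x) (β : LinearMap.BilinForm F U) (hs : β.IsSymm)
    (hnd : β.Nondegenerate) (n : ℕ) (hdim : finrank F U = n + 1) (hne : ∃ v, β v v ≠ 0) :
    ∃ v, β v v = 1 ∧ (n = 0 ∨ ∃ w ∈ β.orthogonal (Submodule.span F {v}), β w w ≠ 0) := by
  obtain ⟨v₀, hv₀⟩ := hne
  obtain ⟨s, hs'⟩ := hsq (β v₀ v₀)⁻¹
  have h1 : β (s • v₀) (s • v₀) = 1 := by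
    simp only [map_smul, LinearMap.smul_apply, smul_eq_mul]
    rw [← mul_assoc, ← hs', inv_mul_cancel₀ hv₀]
  set v₁ := s • v₀ with hv₁
  by_cases hn : n = 0
  · exact ⟨v₁, h1, Or.inl hn⟩
  by_cases hw : ∃ w ∈ β.orthogonal (Submodule.span F {v₁}), β w w ≠ 0
  · exact ⟨v₁, h1, Or.inr hw⟩
  have hiso : ∀ w ∈ β.orthogonal (Submodule.span F {v₁}), β w w = 0 := by
    intro w hw'
    by_contra h
    exact hw ⟨w, hw', h⟩
  have hx : β v₁ v₁ ≠ 0 := by rw [h1]; exact one_ne_zero
  have hcompl := LinearMap.BilinForm.isCompl_span_singleton_orthogonal hx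
  have hfr := Submodule.finrank_add_eq_of_isCompl hcompl
  have hv₁0 : v₁ ≠ 0 := by
    intro h
    rw [h, map_zero] at h1
    exact zero_ne_one h1
  rw [finrank_span_singleton hv₁0, hdim] at hfr
  have hWdim : finrank F (β.orthogonal (Submodule.span F {v₁})) = n := by omega
  have hWnd := LinearMap.BilinForm.restrict_nondegenerate_orthogonal_spanSingleton β hnd
    hs.isRefl hx
  -- a nonzero vector of W
  have hpos : 0 < finrank F (β.orthogonal (Submodule.span F {v₁})) := by omega
  haveI : Nontrivial (β.orthogonal (Submodule.span F {v₁})) := Module.finrank_pos_iff.mp hpos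
  obtain ⟨e, he0⟩ := exists_ne (0 : β.orthogonal (Submodule.span F {v₁}))
  obtain ⟨f₀, hf₀⟩ : ∃ f₀ : β.orthogonal (Submodule.span F {v₁}),
      (β.restrict (β.orthogonal (Submodule.span F {v₁}))) e f₀ ≠ 0 := by
    by_contra h
    apply he0
    apply hWnd.1
    intro y
    by_contra h'
    exact h ⟨y, h'⟩
  have hef₀ : β (e : U) (f₀ : U) ≠ 0 := hf₀
  set f : U := (β (e : U) (f₀ : U))⁻¹ • (f₀ : U) with hf
  have hfW : f ∈ β.orthogonal (Submodule.span F {v₁}) := Submodule.smul_mem _ _ f₀.2
  have hef : β (e : U) f = 1 := by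
    rw [hf, map_smul, smul_eq_mul, inv_mul_cancel₀ hef₀]
  have hv₁e : β v₁ (e : U) = 0 := e.2 v₁ (Submodule.mem_span_singleton_self v₁)
  have hv₁f : β v₁ f = 0 := hfW v₁ (Submodule.mem_span_singleton_self v₁)
  have hev₁ : β (e : U) v₁ = 0 := by rw [hs.eq]; exact hv₁e
  have hfv₁ : β f v₁ = 0 := by rw [hs.eq]; exact hv₁f
  have hee : β (e : U) (e : U) = 0 := hiso _ e.2
  have hff : β f f = 0 := hiso _ hfW
  have h2 : (1 : F) + 1 = 0 := CharTwo.add_self_eq_zero 1
  refine ⟨v₁ + e, ?_, Or.inr ⟨v₁ + f, ?_, ?_⟩⟩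
  · simp only [map_add, LinearMap.add_apply]
    rw [h1, hv₁e, hev₁, hee]
    ring
  · rw [LinearMap.BilinForm.mem_orthogonal_iff]
    intro x hx'
    obtain ⟨c, rfl⟩ := Submodule.mem_span_singleton.mp hx'
    simp only [map_add, map_smul, LinearMap.add_apply, LinearMap.smul_apply, smul_eq_mul]
    rw [h1, hv₁f, hev₁, hef]
    linear_combination c * h2
  · simp only [map_add, LinearMap.add_apply]
    rw [h1, hv₁f, hfv₁, hff]
    simp

theorem exists_orthonormal_basis (hsq : ∀ x : F, IsSquare x) :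
    ∀ (n : ℕ) (U : Type u) [AddCommGroup U] [Module F U] [FiniteDimensional F U]
      (β : LinearMap.BilinForm F U), finrank F U = n → β.IsSymm → β.Nondegenerate →
      (n = 0 ∨ ∃ v, β v v ≠ 0) →
      ∃ b : Basis (Fin n) F U, ∀ i j, β (b i) (b j) = if i = j then 1 else 0 := by
  intro n
  induction n with
  | zero =>
    intro U _ _ _ β hdim _ _ _
    exact ⟨_root_.basisOfFinrankZero hdim, fun i => i.elim0⟩
  | succ n ih =>
    intro U _ _ _ β hdim hs hnd hne
    have hne' : ∃ v, β v v ≠ 0 := by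
      rcases hne with h | h
      · omega
      · exact h
    obtain ⟨v, hv1, hgood⟩ := exists_good_vector hsq β hs hnd n hdim hne'
    have hx : β v v ≠ 0 := by rw [hv1]; exact one_ne_zero
    have hcompl := LinearMap.BilinForm.isCompl_span_singleton_orthogonal hx
    have hfr := Submodule.finrank_add_eq_of_isCompl hcompl
    have hv0 : v ≠ 0 := by
      intro h
      rw [h, map_zero] at hv1
      exact zero_ne_one hv1
    rw [finrank_span_singleton hv0, hdim] at hfr
    have hWdim : finrank F (β.orthogonal (Submodule.span F {v})) = n := by omega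
    have hWnd := LinearMap.BilinForm.restrict_nondegenerate_orthogonal_spanSingleton β hnd
      hs.isRefl hx
    have hWs : (β.restrict (β.orthogonal (Submodule.span F {v}))).IsSymm := by
      constructor
      intro x y
      exact hs.eq x y
    have hWne : n = 0 ∨ ∃ w : β.orthogonal (Submodule.span F {v}),
        (β.restrict (β.orthogonal (Submodule.span F {v}))) w w ≠ 0 := by
      rcases hgood with h | ⟨w, hw, hww⟩
      · exact Or.inl h
      · exact Or.inr ⟨⟨w, hw⟩, hww⟩
    obtain ⟨bW, hbW⟩ := ih (β.orthogonal (Submodule.span F {v}))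
      (β.restrict (β.orthogonal (Submodule.span F {v}))) hWdim hWs hWnd hWne
    have hvW : ∀ x ∈ β.orthogonal (Submodule.span F {v}), β v x = 0 := fun x hx' =>
      hx' v (Submodule.mem_span_singleton_self v)
    have h2 : (1 : F) + 1 = 0 := CharTwo.add_self_eq_zero 1
    have hli : ∀ (c : F), ∀ x ∈ β.orthogonal (Submodule.span F {v}), c • v + x = 0 → c = 0 := by
      intro c x hxW h
      have := congrArg (β v) h
      simp only [map_add, map_smul, smul_eq_mul, map_zero] at this
      rw [hv1, hvW x hxW, mul_one, add_zero] at this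
      exact this
    have hsp : ∀ z : U, ∃ c : F, z + c • v ∈ β.orthogonal (Submodule.span F {v}) := by
      intro z
      refine ⟨β v z, ?_⟩
      rw [LinearMap.BilinForm.mem_orthogonal_iff]
      intro x hx'
      obtain ⟨c, rfl⟩ := Submodule.mem_span_singleton.mp hx'
      simp only [map_add, map_smul, LinearMap.smul_apply, smul_eq_mul]
      rw [hv1]
      linear_combination c * (β v z) * h2
    refine ⟨Basis.mkFinCons v bW hli hsp, ?_⟩
    intro i j
    rw [Basis.coe_mkFinCons]
    refine Fin.cases ?_ (fun i' => ?_) i <;> refine Fin.cases ?_ (fun j' => ?_) j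
    · simp [hv1]
    · simp only [Fin.cons_zero, Fin.cons_succ, Function.comp_apply]
      rw [hvW _ (bW j').2, if_neg (Fin.succ_ne_zero j').symm]
    · simp only [Fin.cons_zero, Fin.cons_succ, Function.comp_apply]
      rw [hs.eq, hvW _ (bW i').2, if_neg (Fin.succ_ne_zero i')]
    · simp only [Fin.cons_succ, Function.comp_apply]
      have := hbW i' j'
      have h' : β (bW i' : U) (bW j' : U) = if i' = j' then 1 else 0 := this
      rw [h']
      simp only [Fin.succ_inj]

omit [CharP F 2] in
theorem alt_std_basis {U : Type u} [AddCommGroup U] [Module F U] [FiniteDimensional F U]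
    (β : LinearMap.BilinForm F U) (hA : β.IsAlt) (hnd : β.Nondegenerate) :
    ∃ (m : ℕ) (b : Basis ((Fin m ⊕ Fin m) ⊕ Fin 0) F U), finrank F U = 2 * m ∧
      (∀ i j : Fin m, β (b (Sum.inl (Sum.inl i))) (b (Sum.inl (Sum.inr j))) =
        if i = j then 1 else 0) ∧
      (∀ i j : Fin m, β (b (Sum.inl (Sum.inl i))) (b (Sum.inl (Sum.inl j))) = 0) ∧
      (∀ i j : Fin m, β (b (Sum.inl (Sum.inr i))) (b (Sum.inl (Sum.inr j))) = 0) := by
  obtain ⟨m, k, b, h1, h2, h3, h4⟩ := Cfsg.Agent.S0752.result β hA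
  have hk : k = 0 := by
    by_contra hk
    have hk' : 0 < k := Nat.pos_of_ne_zero hk
    have := hnd.1 (b (Sum.inr ⟨0, hk'⟩)) (h4 ⟨0, hk'⟩)
    exact b.ne_zero _ this
  subst hk
  refine ⟨m, b, ?_, h1, h2, h3⟩
  rw [Module.finrank_eq_card_basis b]
  simp only [Fintype.card_sum, Fintype.card_fin]
  ring

theorem exists_bases_same_gram (hsq : ∀ x : F, IsSquare x)
    {U U' : Type u} [AddCommGroup U] [Module F U] [FiniteDimensional F U]
    [AddCommGroup U'] [Module F U'] [FiniteDimensional F U']
    (β : LinearMap.BilinForm F U) (β' : LinearMap.BilinForm F U')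
    (hs : β.IsSymm) (hs' : β'.IsSymm) (hnd : β.Nondegenerate) (hnd' : β'.Nondegenerate)
    (hdim : finrank F U = finrank F U')
    (htype : (∀ v, β v v = 0) ↔ (∀ v, β' v v = 0)) :
    ∃ (ι : Type) (_ : Fintype ι) (b : Basis ι F U) (b' : Basis ι F U'),
      ∀ i j, β (b i) (b j) = β' (b' i) (b' j) := by
  by_cases hA : ∀ v, β v v = 0
  · have hA' : ∀ v, β' v v = 0 := htype.mp hA
    obtain ⟨m, b, hd, h1, h2, h3⟩ := alt_std_basis β hA hnd
    obtain ⟨m', b', hd', h1', h2', h3'⟩ := alt_std_basis β' hA' hnd'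
    have hm : m = m' := by omega
    subst hm
    have hsk : ∀ x y, β x y = β y x := fun x y => hs.eq x y
    have hsk' : ∀ x y, β' x y = β' y x := fun x y => hs'.eq x y
    refine ⟨(Fin m ⊕ Fin m) ⊕ Fin 0, inferInstance, b, b', ?_⟩
    rintro ((i | i) | i) ((j | j) | j)
    · rw [h2, h2']
    · rw [h1, h1']
    · exact j.elim0
    · rw [hsk, hsk', h1, h1']
    · rw [h3, h3']
    · exact j.elim0
    · exact i.elim0
    · exact i.elim0
    · exact i.elim0
  · have hA' : ¬ ∀ v, β' v v = 0 := fun h => hA (htype.mpr h)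
    have hne : ∃ v, β v v ≠ 0 := by
      by_contra h
      apply hA
      intro v
      by_contra h'
      exact h ⟨v, h'⟩
    have hne' : ∃ v, β' v v ≠ 0 := by
      by_contra h
      apply hA'
      intro v
      by_contra h'
      exact h ⟨v, h'⟩
    obtain ⟨b, hb⟩ := exists_orthonormal_basis hsq (finrank F U) U β rfl hs hnd (Or.inr hne)
    obtain ⟨b', hb'⟩ := exists_orthonormal_basis hsq (finrank F U) U' β' hdim.symm hs' hnd'
      (Or.inr hne')
    refine ⟨Fin (finrank F U), inferInstance, b, b', ?_⟩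
    intro i j
    rw [hb, hb']

end Cfsg.Agent.Lib.helper14.SympInv
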