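import Mathlib
import Cfsg.Agent.Lib.helper14.SympInv
import Cfsg.Agent.Lib.helper6.Witt

set_option autoImplicit false

/-! Conjugacy of involutions in a symplectic group in characteristic two (abstract form):
`a = 1 + N`, `N² = 0`, `N` self-adjoint for the alternating form `ω`. -/

namespace Cfsg.Agent.Lib.helper14.SympInv

open Module LinearMap Cfsg.Agent.Lib.helper6.Witt

universe u

variable {F : Type*} [Field F] [CharP F 2] {V : Type u} [AddCommGroup V] [Module F V]

/-- `N = a - 1` for an involution `a` of the symplectic group. -/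
structure IsInvPart (ω : LinearMap.BilinForm F V) (N : V →ₗ[F] V) : Prop where
  sq : ∀ v, N (N v) = 0
  sa : ∀ u v, ω (N u) v = ω u (N v)

variable {ω : LinearMap.BilinForm F V}

theorem alt_symm (hA : ω.IsAlt) (x y : V) : ω x y = ω y x := by
  rw [← hA.neg_eq x y, CharTwo.neg_eq]

theorem betaN_symm (hA : ω.IsAlt) {N : V →ₗ[F] V} (hN : IsInvPart ω N) (x y : V) :
    ω x (N y) = ω y (N x) := by
  rw [← hN.sa, alt_symm hA]

theorem adjust (hA : ω.IsAlt) {N : V →ₗ[F] V} (hN : IsInvPart ω N) {ι : Type*} [Fintype ι]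
    [LinearOrder ι] (v d : ι → V) (hd1 : ∀ i, ω (v i) (N (d i)) = 1)
    (hd0 : ∀ i j, i ≠ j → ω (v i) (N (d j)) = 0) :
    ∃ u : ι → V, (∀ i j, ω (u i) (u j) = 0) ∧ (∀ j, N (u j) = N (v j)) ∧
      (∀ i j, ω (u i) (N (u j)) = ω (v i) (N (v j))) := by
  classical
  set M : ι → ι → F := fun k j => if k < j then ω (v k) (v j) else 0 with hM
  set c : ι → V := fun j => ∑ k, M k j • d k with hc
  have hvc : ∀ i j, ω (v i) (N (c j)) = M i j := by
    intro i j
    simp only [hc, map_sum, map_smul, smul_eq_mul]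
    rw [Finset.sum_eq_single i]
    · rw [hd1, mul_one]
    · intro k _ hki
      rw [hd0 i k (Ne.symm hki), mul_zero]
    · intro h
      exact absurd (Finset.mem_univ i) h
  have hNN : ∀ x y, ω (N x) (N y) = 0 := by
    intro x y
    rw [hN.sa, hN.sq, map_zero]
  refine ⟨fun j => v j + N (c j), ?_, ?_, ?_⟩
  · intro i j
    simp only [map_add, LinearMap.add_apply]
    rw [hvc, hNN, alt_symm hA (N (c i)) (v j), hvc, add_zero]
    simp only [hM]
    rcases lt_trichotomy i j with h | h | h
    · rw [if_pos h, if_neg (not_lt.mpr h.le)]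
      linear_combination CharTwo.add_self_eq_zero (ω (v i) (v j))
    · subst h
      rw [if_neg (lt_irrefl _), hA (v i)]
      ring
    · rw [if_neg (not_lt.mpr h.le), if_pos h, alt_symm hA (v j) (v i)]
      linear_combination CharTwo.add_self_eq_zero (ω (v i) (v j))
  · intro j
    simp only [map_add]
    rw [hN.sq, add_zero]
  · intro i j
    simp only [map_add, LinearMap.add_apply]
    rw [hN.sq]
    simp only [map_zero, add_zero]
    rw [hNN, add_zero]

theorem gram_nd {N : V →ₗ[F] V} (hN : IsInvPart ω N) {ι : Type*} [Fintype ι]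
    (G : ι → ι → F) (hG : ∀ a : ι → F, (∀ j, ∑ i, a i * G i j = 0) → a = 0)
    (u : ι → V) (h1 : ∀ i j, ω (u i) (u j) = 0) (h2 : ∀ i j, ω (u i) (N (u j)) = G i j)
    (c : ι ⊕ ι → F)
    (hc : ∀ l, ω (∑ k, c k • Sum.elim u (fun i => N (u i)) k)
      (Sum.elim u (fun i => N (u i)) l) = 0) : c = 0 := by
  have hNN : ∀ x y, ω (N x) (N y) = 0 := by
    intro x y
    rw [hN.sa, hN.sq, map_zero]
  have e1 : (fun i => c (Sum.inl i)) = 0 := by
    apply hG
    intro j
    have := hc (Sum.inr j)
    simp only [map_sum, LinearMap.sum_apply, map_smul, LinearMap.smul_apply, smul_eq_mul,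
      map_add, LinearMap.add_apply,
      Fintype.sum_sum_type, Sum.elim_inl, Sum.elim_inr, h2, hNN, mul_zero, Finset.sum_const_zero,
      add_zero] at this
    exact this
  have e2 : (fun i => c (Sum.inr i)) = 0 := by
    apply hG
    intro j
    have := hc (Sum.inl j)
    simp only [map_sum, LinearMap.sum_apply, map_smul, LinearMap.smul_apply, smul_eq_mul,
      map_add, LinearMap.add_apply,
      Fintype.sum_sum_type, Sum.elim_inl, Sum.elim_inr, h1, hN.sa, h2, mul_zero,
      Finset.sum_const_zero, zero_add] at this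
    exact this
  funext k
  rcases k with i | i
  · exact congrFun e1 i
  · exact congrFun e2 i

theorem epsHerm_of_alt (hA : ω.IsAlt) (hnd : ω.Nondegenerate) :
    EpsHerm (RingHom.id F) 1 ω where
  inv := fun _ => rfl
  eps_sq := one_mul 1
  eps_fix := rfl
  symm := fun x y => by rw [RingHom.id_apply, one_mul]; exact alt_symm hA x y
  trace := fun x => ⟨0, by rw [hA x]; simp⟩
  sepR := hnd.2

theorem glue [FiniteDimensional F V] (hA : ω.IsAlt) (hnd : ω.Nondegenerate) {N N' : V →ₗ[F] V}
    (hN : IsInvPart ω N) (hN' : IsInvPart ω N') {ι : Type*} [Fintype ι] (G : ι → ι → F)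
    (hG : ∀ a : ι → F, (∀ j, ∑ i, a i * G i j = 0) → a = 0)
    (u u' : ι → V) (h1 : ∀ i j, ω (u i) (u j) = 0) (h2 : ∀ i j, ω (u i) (N (u j)) = G i j)
    (h1' : ∀ i j, ω (u' i) (u' j) = 0) (h2' : ∀ i j, ω (u' i) (N' (u' j)) = G i j)
    (hsp : ∀ v, N v ∈ Submodule.span F (Set.range (fun i => N (u i))))
    (hsp' : ∀ v, N' v ∈ Submodule.span F (Set.range (fun i => N' (u' i)))) :
    ∃ g : V ≃ₗ[F] V, (∀ x y, ω (g x) (g y) = ω x y) ∧ ∀ v, g (N v) = N' (g v) := by
  classical
  set w : ι ⊕ ι → V := Sum.elim u (fun i => N (u i)) with hw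
  set w' : ι ⊕ ι → V := Sum.elim u' (fun i => N' (u' i)) with hw'
  have hΓ : ∀ k l, ω (w k) (w l) = ω (w' k) (w' l) := by
    rintro (i | i) (j | j)
    · show ω (u i) (u j) = ω (u' i) (u' j)
      rw [h1, h1']
    · show ω (u i) (N (u j)) = ω (u' i) (N' (u' j))
      rw [h2, h2']
    · show ω (N (u i)) (u j) = ω (N' (u' i)) (u' j)
      rw [hN.sa, hN'.sa, h2, h2']
    · show ω (N (u i)) (N (u j)) = ω (N' (u' i)) (N' (u' j))
      rw [hN.sa, hN.sq, hN'.sa, hN'.sq, map_zero, map_zero]
  have hli : LinearIndependent F w := by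
    rw [Fintype.linearIndependent_iff]
    intro c hc
    have := gram_nd hN G hG u h1 h2 c (fun l => by
      show ω (∑ k, c k • w k) (w l) = 0
      rw [hc, map_zero, LinearMap.zero_apply])
    intro k
    exact congrFun this k
  have hli' : LinearIndependent F w' := by
    rw [Fintype.linearIndependent_iff]
    intro c hc
    have := gram_nd hN' G hG u' h1' h2' c (fun l => by
      show ω (∑ k, c k • w' k) (w' l) = 0
      rw [hc, map_zero, LinearMap.zero_apply])
    intro k
    exact congrFun this k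
  set X := Submodule.span F (Set.range w) with hX
  set Y := Submodule.span F (Set.range w') with hY
  set bX : Basis (ι ⊕ ι) F X := Basis.span hli with hbX
  set bY : Basis (ι ⊕ ι) F Y := Basis.span hli' with hbY
  have hbXv : ∀ k, (bX k : V) = w k := fun k => congrArg Subtype.val (Basis.span_apply hli k)
  have hbYv : ∀ k, (bY k : V) = w' k := fun k => congrArg Subtype.val (Basis.span_apply hli' k)
  set φ : X ≃ₗ[F] Y := bX.equiv bY (Equiv.refl _) with hφdef
  have hφb : ∀ k, φ (bX k) = bY k := fun k => by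
    rw [hφdef, Basis.equiv_apply, Equiv.refl_apply]
  have hφ : ∀ x x' : X, ω (φ x : V) (φ x' : V) = ω (x : V) (x' : V) := by
    have hB : (ω.restrict Y).comp (φ : X →ₗ[F] Y) (φ : X →ₗ[F] Y) = ω.restrict X := by
      apply LinearMap.BilinForm.ext_basis bX
      intro k l
      rw [LinearMap.BilinForm.comp_apply]
      show ω ((φ (bX k) : Y) : V) ((φ (bX l) : Y) : V) = ω (bX k : V) (bX l : V)
      rw [hφb, hφb, hbXv, hbXv, hbYv, hbYv, hΓ]
    intro x x'
    have := congrArg (fun B : LinearMap.BilinForm F X => B x x') hB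
    exact this
  obtain ⟨g, hgiso, hgX⟩ := witt_sesq (epsHerm_of_alt hA hnd) X Y φ hφ
  have hgw : ∀ k, g (w k) = w' k := by
    intro k
    have := hgX (bX k)
    rw [hφb, hbXv, hbYv] at this
    exact this
  have hgu : ∀ i, g (u i) = u' i := fun i => hgw (Sum.inl i)
  have hgNu : ∀ i, g (N (u i)) = N' (u' i) := fun i => hgw (Sum.inr i)
  refine ⟨g, hgiso, ?_⟩
  -- `E = g N - N' g` vanishes on the `w k`
  have hEw : ∀ k, g (N (w k)) = N' (g (w k)) := by
    rintro (i | i)
    · show g (N (u i)) = N' (g (u i))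
      rw [hgNu, hgu]
    · show g (N (N (u i))) = N' (g (N (u i)))
      rw [hN.sq, map_zero, hgNu, hN'.sq]
  intro v
  -- `E v` lies in `Y`
  have hmemY : g (N v) - N' (g v) ∈ Y := by
    apply Submodule.sub_mem
    · have h := hsp v
      have hle : Submodule.span F (Set.range (fun i => N (u i))) ≤ Y.comap (g : V →ₗ[F] V) := by
        rw [Submodule.span_le]
        rintro _ ⟨i, rfl⟩
        show g (N (u i)) ∈ Y
        rw [hgNu]
        exact Submodule.subset_span ⟨Sum.inr i, rfl⟩
      exact hle h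
    · have h := hsp' (g v)
      have hle : Submodule.span F (Set.range (fun i => N' (u' i))) ≤ Y := by
        rw [Submodule.span_le]
        rintro _ ⟨i, rfl⟩
        exact Submodule.subset_span ⟨Sum.inr i, rfl⟩
      exact hle h
  obtain ⟨c, hc⟩ := (Submodule.mem_span_range_iff_exists_fun F).mp hmemY
  have hc0 : c = 0 := by
    apply gram_nd hN' G hG u' h1' h2' c
    intro l
    show ω (∑ k, c k • w' k) (w' l) = 0
    rw [hc, ← hgw l, map_sub, LinearMap.sub_apply, hgiso, hN'.sa, ← hEw, hgiso, hN.sa, sub_self]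
  rw [hc0] at hc
  simp only [Pi.zero_apply, zero_smul, Finset.sum_const_zero] at hc
  exact sub_eq_zero.mp hc.symm

theorem complement_data [FiniteDimensional F V] (hA : ω.IsAlt) (hnd : ω.Nondegenerate)
    {N : V →ₗ[F] V} (hN : IsInvPart ω N) :
    ∃ U₀ : Submodule F V,
      ((ω.compRight N).restrict U₀).IsSymm ∧ ((ω.compRight N).restrict U₀).Nondegenerate ∧
      finrank F U₀ = finrank F (LinearMap.range N) ∧
      ((∀ v, ω v (N v) = 0) ↔ (∀ x : U₀, ((ω.compRight N).restrict U₀) x x = 0)) ∧
      (∀ v, ∃ x : U₀, N v = N (x : V)) := by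
  obtain ⟨U₀, hU₀⟩ := Submodule.exists_isCompl (LinearMap.ker N)
  have hdec : ∀ v : V, ∃ k ∈ LinearMap.ker N, ∃ x ∈ U₀, k + x = v := by
    intro v
    have : v ∈ LinearMap.ker N ⊔ U₀ := by rw [hU₀.sup_eq_top]; exact Submodule.mem_top
    exact Submodule.mem_sup.mp this
  have h5 : ∀ v, ∃ x : U₀, N v = N (x : V) := by
    intro v
    obtain ⟨k, hk, x, hx, rfl⟩ := hdec v
    refine ⟨⟨x, hx⟩, ?_⟩
    rw [map_add, LinearMap.mem_ker.mp hk, zero_add]
  have hsymm : ((ω.compRight N).restrict U₀).IsSymm := by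
    constructor
    intro x y
    show ω (x : V) (N (y : V)) = ω (y : V) (N (x : V))
    exact betaN_symm hA hN _ _
  refine ⟨U₀, hsymm, ?_, ?_, ?_, h5⟩
  · apply nondeg_of_symm_sepLeft _ hsymm
    intro x hx
    have hNx : N (x : V) = 0 := by
      apply hnd.1
      intro v
      obtain ⟨y, hy⟩ := h5 v
      rw [hN.sa, hy]
      exact hx y
    have hmem : (x : V) ∈ LinearMap.ker N ⊓ U₀ := ⟨LinearMap.mem_ker.mpr hNx, x.2⟩
    rw [hU₀.inf_eq_bot, Submodule.mem_bot] at hmem
    exact Subtype.ext hmem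
  · have e1 := LinearMap.finrank_range_add_finrank_ker N
    have e2 := Submodule.finrank_add_eq_of_isCompl hU₀
    omega
  · constructor
    · intro h x
      exact h (x : V)
    · intro h v
      obtain ⟨k, hk, x, hx, rfl⟩ := hdec v
      have hk0 : N k = 0 := LinearMap.mem_ker.mp hk
      have hx0 : ω x (N x) = 0 := h ⟨x, hx⟩
      simp only [map_add, LinearMap.add_apply]
      rw [hk0, map_zero, map_zero, ← hN.sa, hk0, hx0]
      simp

theorem exists_isometry_conj [FiniteDimensional F V] (hsq : ∀ x : F, IsSquare x)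
    (hA : ω.IsAlt) (hnd : ω.Nondegenerate) {N N' : V →ₗ[F] V}
    (hN : IsInvPart ω N) (hN' : IsInvPart ω N')
    (hrank : finrank F (LinearMap.range N) = finrank F (LinearMap.range N'))
    (htype : (∀ v, ω v (N v) = 0) ↔ (∀ v, ω v (N' v) = 0)) :
    ∃ g : V ≃ₗ[F] V, (∀ x y, ω (g x) (g y) = ω x y) ∧ ∀ v, g (N v) = N' (g v) := by
  classical
  obtain ⟨U₀, hs, hn, hd, ht, hc⟩ := complement_data hA hnd hN
  obtain ⟨U₀', hs', hn', hd', ht', hc'⟩ := complement_data hA hnd hN'
  obtain ⟨ι, _, b, b', hbb⟩ := exists_bases_same_gram hsq _ _ hs hs' hn hn'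
    (by rw [hd, hd', hrank]) (by rw [← ht, ← ht']; exact htype)
  letI : LinearOrder ι := LinearOrder.lift' (Fintype.equivFin ι) (Fintype.equivFin ι).injective
  have hbb' : ∀ i j, ω (b i : V) (N (b j : V)) = ω (b' i : V) (N' (b' j : V)) := hbb
  -- the general step for one side
  have side : ∀ (M : V →ₗ[F] V) (hM : IsInvPart ω M) (W : Submodule F V)
      (hsW : ((ω.compRight M).restrict W).IsSymm)
      (hnW : ((ω.compRight M).restrict W).Nondegenerate) (bW : Basis ι F W)
      (hcW : ∀ v, ∃ x : W, M v = M (x : V)),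
      (∀ a : ι → F, (∀ j, ∑ i, a i * ω (bW i : V) (M (bW j : V)) = 0) → a = 0) ∧
      ∃ u : ι → V, (∀ i j, ω (u i) (u j) = 0) ∧
        (∀ i j, ω (u i) (M (u j)) = ω (bW i : V) (M (bW j : V))) ∧
        (∀ v, M v ∈ Submodule.span F (Set.range (fun i => M (u i)))) := by
    intro M hM W hsW hnW bW hcW
    constructor
    · intro a ha
      set x : W := ∑ i, a i • bW i with hx
      have hx0 : x = 0 := by
        apply hnW.1
        have hlin : ((ω.compRight M).restrict W) x = 0 := by
          apply bW.ext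
          intro j
          rw [hx, map_sum, LinearMap.sum_apply, LinearMap.zero_apply]
          simp only [map_smul, LinearMap.smul_apply, smul_eq_mul]
          exact ha j
        intro y
        rw [hlin, LinearMap.zero_apply]
      funext i
      exact Fintype.linearIndependent_iff.mp bW.linearIndependent a hx0 i
    · set dW := LinearMap.BilinForm.dualBasis _ hnW bW with hdW
      have hd1 : ∀ i, ω (bW i : V) (M (dW i : V)) = 1 := by
        intro i
        have := LinearMap.BilinForm.apply_dualBasis_right hnW hsW bW i i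
        rw [if_pos rfl] at this
        exact this
      have hd0 : ∀ i j, i ≠ j → ω (bW i : V) (M (dW j : V)) = 0 := by
        intro i j hij
        have := LinearMap.BilinForm.apply_dualBasis_right hnW hsW bW i j
        rw [if_neg hij] at this
        exact this
      obtain ⟨u, hu1, hu2, hu3⟩ := adjust hA hM (fun i => (bW i : V)) (fun i => (dW i : V))
        hd1 hd0
      refine ⟨u, hu1, hu3, ?_⟩
      intro v
      obtain ⟨x, hx⟩ := hcW v
      rw [hx, ← bW.sum_repr x]
      simp only [Submodule.coe_sum, Submodule.coe_smul, map_sum, map_smul]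
      apply Submodule.sum_mem
      intro i _
      apply Submodule.smul_mem
      apply Submodule.subset_span
      exact ⟨i, hu2 i⟩
  obtain ⟨hG, u, hu1, hu3, husp⟩ := side N hN U₀ hs hn b hc
  obtain ⟨_, u', hu1', hu3', husp'⟩ := side N' hN' U₀' hs' hn' b' hc'
  exact glue hA hnd hN hN' (fun i j => ω (b i : V) (N (b j : V))) hG u u' hu1 hu3 hu1'
    (fun i j => by rw [hu3', hbb']) husp husp'

end Cfsg.Agent.Lib.helper14.SympInv
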