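import Mathlib
import Cfsg.Agent.Lib.helper14.OrthSp2
import Cfsg.Agent.Lib.helper14.SympInv2
import Cfsg.Agent.S2167

set_option autoImplicit false

/-! Involutions of the isometry group of a quadratic form with nondegenerate polar form over a
finite field of characteristic two: conjugacy is decided by the rank of `t - 1` and the
alternating type; a counting skeleton for the number of classes. -/

namespace Cfsg.Agent.Lib.helper14.OrthInv

open Cfsg.Agent.Lib.Lead.OG Cfsg.Agent.Lib.helper14.OrthSp Cfsg.Agent.Lib.helper14.SympInv Matrix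
  Module

section Basic

variable {F : Type*} [Field F] {ι : Type} [Fintype ι] [DecidableEq ι] {Q : (ι → F) → F}
  {B : LinearMap.BilinForm F (ι → F)}

/-- the matrix of an isometry -/
abbrev mat (t : ↥(Cfsg.isometryGroup F Q)) : Matrix ι ι F :=
  ((t : Matrix.GeneralLinearGroup ι F) : Matrix ι ι F)

theorem mat_Q (t : ↥(Cfsg.isometryGroup F Q)) (v : ι → F) : Q (mat t *ᵥ v) = Q v := t.2 v v

theorem mat_B (hQ : IsQP Q B) (t : ↥(Cfsg.isometryGroup F Q)) (u v : ι → F) :
    B (mat t *ᵥ u) (mat t *ᵥ v) = B u v := by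
  rw [hQ.polar_eq_sub, hQ.polar_eq_sub, ← Matrix.mulVec_add, mat_Q t, mat_Q t, mat_Q t]

theorem mat_mul (t s : ↥(Cfsg.isometryGroup F Q)) : mat (t * s) = mat t * mat s := rfl

theorem mat_one : mat (1 : ↥(Cfsg.isometryGroup F Q)) = 1 := rfl

theorem mat_mul_inv (t : ↥(Cfsg.isometryGroup F Q)) : mat t * mat t⁻¹ = 1 := by
  rw [← mat_mul, mul_inv_cancel, mat_one]

theorem mat_inv_mul (t : ↥(Cfsg.isometryGroup F Q)) : mat t⁻¹ * mat t = 1 := by
  rw [← mat_mul, inv_mul_cancel, mat_one]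

theorem mat_injective {t s : ↥(Cfsg.isometryGroup F Q)} (h : mat t = mat s) : t = s := by
  apply Subtype.ext
  apply Units.ext
  exact h

/-- the rank invariant -/
noncomputable def rk (t : ↥(Cfsg.isometryGroup F Q)) : ℕ := (mat t - 1).rank

/-- the type invariant -/
def isAltT (B : LinearMap.BilinForm F (ι → F)) (t : ↥(Cfsg.isometryGroup F Q)) : Prop :=
  ∀ v : ι → F, B v (mat t *ᵥ v) = 0

theorem conj_mat {a b c : ↥(Cfsg.isometryGroup F Q)} (hc : c * a * c⁻¹ = b) :
    mat c * mat a = mat b * mat c := by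
  have h := mul_inv_eq_iff_eq_mul.mp hc
  rw [← mat_mul, ← mat_mul, h]

theorem rk_conj {a b : ↥(Cfsg.isometryGroup F Q)} (h : IsConj a b) : rk a = rk b := by
  obtain ⟨c, hc⟩ := isConj_iff.mp h
  have hcm := conj_mat hc
  have hdet : IsUnit (mat c).det := by
    have := congrArg Matrix.det (mat_mul_inv c)
    rw [Matrix.det_mul, Matrix.det_one] at this
    exact IsUnit.of_mul_eq_one _ this
  have hcm1 : mat c * (mat a - 1) = (mat b - 1) * mat c := by
    rw [mul_sub, sub_mul, mul_one, one_mul, hcm]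
  have h1 := Matrix.rank_mul_eq_right_of_isUnit_det (mat c) (mat a - 1) hdet
  have h2 := Matrix.rank_mul_eq_left_of_isUnit_det (mat c) (mat b - 1) hdet
  unfold rk
  rw [← h1, hcm1, h2]

theorem isAltT_conj_aux (hQ : IsQP Q B) {a b : ↥(Cfsg.isometryGroup F Q)} (h : IsConj a b)
    (ha : isAltT B a) : isAltT B b := by
  obtain ⟨c, hc⟩ := isConj_iff.mp h
  have hcm := conj_mat hc
  intro v
  obtain ⟨w, hw⟩ : ∃ w : ι → F, mat c *ᵥ w = v :=
    ⟨mat c⁻¹ *ᵥ v, by rw [Matrix.mulVec_mulVec, mat_mul_inv, Matrix.one_mulVec]⟩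
  rw [← hw, Matrix.mulVec_mulVec, ← hcm, ← Matrix.mulVec_mulVec, mat_B hQ]
  exact ha w

theorem isAltT_conj (hQ : IsQP Q B) {a b : ↥(Cfsg.isometryGroup F Q)} (h : IsConj a b) :
    isAltT B a ↔ isAltT B b :=
  ⟨isAltT_conj_aux hQ h, isAltT_conj_aux hQ h.symm⟩

theorem rk_pos (g : ↥(Cfsg.isometryGroup F Q)) (hg1 : g ≠ 1) : 1 ≤ rk g := by
  by_contra h
  apply hg1
  have h0 : (mat g - 1).rank = 0 := by unfold rk at h; omega
  have h1 : LinearMap.range (Matrix.mulVecLin (mat g - 1)) = ⊥ := by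
    unfold Matrix.rank at h0
    exact Submodule.finrank_eq_zero.mp h0
  rw [LinearMap.range_eq_bot] at h1
  have h2 : mat g - 1 = 0 := by
    apply Matrix.toLin'.injective
    rw [map_zero]
    exact h1
  apply mat_injective
  rw [mat_one]
  exact sub_eq_zero.mp h2

theorem ne_one_of_order (g : ↥(Cfsg.isometryGroup F Q)) (hg : orderOf g = 2) : g ≠ 1 := by
  rintro rfl
  rw [orderOf_one] at hg
  omega

theorem mat_sq (g : ↥(Cfsg.isometryGroup F Q)) (hg : orderOf g = 2) : mat g * mat g = 1 := by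
  have h1 : g ^ 2 = 1 := by rw [← hg]; exact pow_orderOf_eq_one g
  rw [pow_two] at h1
  rw [← mat_mul, h1, mat_one]

theorem order_of_sq (g : ↥(Cfsg.isometryGroup F Q)) (hg2 : mat g * mat g = 1) (hr : 1 ≤ rk g) :
    orderOf g = 2 := by
  haveI : Fact (Nat.Prime 2) := ⟨Nat.prime_two⟩
  apply orderOf_eq_prime
  · rw [pow_two]
    apply mat_injective
    rw [mat_mul, hg2, mat_one]
  · rintro rfl
    unfold rk at hr
    have : mat (1 : ↥(Cfsg.isometryGroup F Q)) - 1 = 0 := by rw [mat_one, sub_self]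
    rw [this, Matrix.rank_zero] at hr
    omega

/-- an isometry from a matrix squaring to one -/
def ofSq (M : Matrix ι ι F) (h2 : M * M = 1) (hM : ∀ v, Q (M *ᵥ v) = Q v) :
    ↥(Cfsg.isometryGroup F Q) :=
  ⟨⟨M, M, h2, h2⟩, fun u _ => hM u⟩

theorem mat_ofSq (M : Matrix ι ι F) (h2 : M * M = 1) (hM : ∀ v, Q (M *ᵥ v) = Q v) :
    mat (ofSq M h2 hM) = M := rfl

end Basic

section CharTwo

variable {F : Type*} [Field F] [CharP F 2] {ι : Type} [Fintype ι] [DecidableEq ι]
  {Q : (ι → F) → F} {B : LinearMap.BilinForm F (ι → F)}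

theorem N_sq (A : Matrix ι ι F) (hA2 : A * A = 1) : (A - 1) * (A - 1) = 0 := by
  have h2 : ∀ X : Matrix ι ι F, X + X = 0 := fun X => by
    rw [← two_smul F X, CharTwo.two_eq_zero, zero_smul]
  rw [sub_mul, mul_sub, mul_sub, hA2, mul_one, one_mul, one_mul]
  calc (1 - A) - (A - 1) = (1 - A) + (1 - A) := by abel
    _ = 0 := h2 _

theorem two_rk_le (g : ↥(Cfsg.isometryGroup F Q)) (hg2 : mat g * mat g = 1) :
    2 * rk g ≤ Fintype.card ι := by
  have h := Matrix.rank_add_rank_le_card_of_mul_eq_zero (N_sq (mat g) hg2)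
  unfold rk
  omega

theorem isAlt_B (hQ : IsQP Q B) : B.IsAlt := fun v => by
  rw [hQ.self]
  exact CharTwo.add_self_eq_zero _

theorem isInvPart (hQ : IsQP Q B) (t : ↥(Cfsg.isometryGroup F Q)) (h2 : mat t * mat t = 1) :
    IsInvPart B (Matrix.mulVecLin (mat t - 1)) := by
  constructor
  · intro v
    rw [Matrix.mulVecLin_apply, Matrix.mulVecLin_apply, Matrix.mulVec_mulVec, N_sq _ h2,
      Matrix.zero_mulVec]
  · intro u v
    rw [Matrix.mulVecLin_apply, Matrix.mulVecLin_apply, Matrix.sub_mulVec,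
      Matrix.sub_mulVec, Matrix.one_mulVec, Matrix.one_mulVec, map_sub, map_sub,
      LinearMap.sub_apply]
    congr 1
    rw [← mat_B hQ t (mat t *ᵥ u) v, Matrix.mulVec_mulVec, h2, Matrix.one_mulVec]

theorem type_link (hQ : IsQP Q B) (t : ↥(Cfsg.isometryGroup F Q)) (v : ι → F) :
    B v (Matrix.mulVecLin (mat t - 1) v) = B v (mat t *ᵥ v) := by
  rw [Matrix.mulVecLin_apply, Matrix.sub_mulVec, Matrix.one_mulVec, map_sub, isAlt_B hQ v,
    sub_zero]

theorem isAltT_iff (hQ : IsQP Q B) (t : ↥(Cfsg.isometryGroup F Q)) :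
    isAltT B t ↔ ∀ v : ι → F, Q ((mat t - 1) *ᵥ v) = 0 := by
  have key : ∀ v : ι → F, Q ((mat t - 1) *ᵥ v) = B v (mat t *ᵥ v) := by
    intro v
    have h1 : (mat t - 1) *ᵥ v = mat t *ᵥ v + v := by
      rw [Matrix.sub_mulVec, Matrix.one_mulVec]
      ext i
      rw [Pi.sub_apply, Pi.add_apply, sub_eq_add_neg, CharTwo.neg_eq]
    rw [h1, hQ.add, mat_Q t, CharTwo.add_self_eq_zero, zero_add, hQ.symm, one_mul]
  constructor
  · intro h v
    rw [key]; exact h v
  · intro h v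
    rw [← key]; exact h v

theorem rk_even [Fintype F] (hQ : IsQP Q B) (t : ↥(Cfsg.isometryGroup F Q))
    (halt : isAltT B t) : Even (rk t) := by
  set G : Matrix ι ι F := LinearMap.BilinForm.toMatrix' B with hG
  have hGB : Matrix.toBilin' G = B := Matrix.toBilin'_toMatrix' B
  have hdet : IsUnit G.det := by
    have hnd : G.Nondegenerate := by
      rw [hG]
      exact (LinearMap.BilinForm.nondegenerate_toMatrix'_iff).mpr (isQP_nondeg hQ)
    exact isUnit_iff_ne_zero.mpr (Matrix.nondegenerate_iff_det_ne_zero.mp hnd)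
  have hr : (G * (mat t - 1)).rank = (mat t - 1).rank :=
    Matrix.rank_mul_eq_right_of_isUnit_det _ _ hdet
  unfold rk
  rw [← hr]
  apply Cfsg.Agent.S2167.even_rank_of_alt
  intro x
  rw [Matrix.toBilin'_apply', ← Matrix.mulVec_mulVec, ← Matrix.toBilin'_apply', hGB,
    Matrix.sub_mulVec, Matrix.one_mulVec, map_sub, halt x, isAlt_B hQ x, sub_zero]

variable [Fintype F]

/-- conjugacy from the invariants -/
theorem conj_of_invariants (hQ : IsQP Q B) (t s : ↥(Cfsg.isometryGroup F Q))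
    (ht2 : mat t * mat t = 1) (hs2 : mat s * mat s = 1) (hrank : rk t = rk s)
    (htype : isAltT B t ↔ isAltT B s) : IsConj t s := by
  have hsq : ∀ x : F, IsSquare x := fun x =>
    FiniteField.isSquare_of_char_two (ringChar.eq F 2) x
  obtain ⟨g, hgiso, hgN⟩ := exists_isometry_conj (ω := B) hsq (isAlt_B hQ) (isQP_nondeg hQ)
    (isInvPart hQ t ht2) (isInvPart hQ s hs2) hrank
    (by simp only [type_link hQ]; exact htype)
  have hgts : ∀ v, (g : (ι → F) →ₗ[F] (ι → F)) (Matrix.mulVecLin (mat t) v) =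
      Matrix.mulVecLin (mat s) ((g : (ι → F) →ₗ[F] (ι → F)) v) := by
    intro v
    have h := hgN v
    rw [Matrix.mulVecLin_apply, Matrix.mulVecLin_apply, Matrix.sub_mulVec, Matrix.sub_mulVec,
      Matrix.one_mulVec, Matrix.one_mulVec, map_sub] at h
    rw [Matrix.mulVecLin_apply, Matrix.mulVecLin_apply]
    exact sub_left_injective h
  obtain ⟨h, hhQ, hhts⟩ := conj_in_O hQ (g : (ι → F) →ₗ[F] (ι → F))
    (Matrix.mulVecLin (mat t)) (Matrix.mulVecLin (mat s)) (fun u v => hgiso u v)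
    (fun v => by rw [Matrix.mulVecLin_apply]; exact mat_Q t v)
    (fun v => by rw [Matrix.mulVecLin_apply]; exact mat_Q s v) hgts
  obtain ⟨D, hD⟩ := exists_gl_of_linearEquiv h
  have hDmem : D ∈ Cfsg.isometryGroup F Q := by
    intro u v
    show Q ((D : Matrix ι ι F) *ᵥ u) = Q u
    rw [hD, hhQ]
  rw [isConj_iff]
  refine ⟨⟨D, hDmem⟩, ?_⟩
  rw [mul_inv_eq_iff_eq_mul]
  apply mat_injective
  rw [mat_mul, mat_mul]
  show (D : Matrix ι ι F) * mat t = mat s * (D : Matrix ι ι F)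
  apply mat_eq_of_mulVec'
  intro v
  rw [← Matrix.mulVec_mulVec, ← Matrix.mulVec_mulVec, hD, hD]
  have := hhts v
  rw [Matrix.mulVecLin_apply, Matrix.mulVecLin_apply] at this
  exact this

/-- counting skeleton: the involution classes are in bijection with the index set `T` of
realised invariants -/
theorem card_classes (hQ : IsQP Q B) (T : Finset (ℕ × Bool))
    (hmem : ∀ t : ↥(Cfsg.isometryGroup F Q), orderOf t = 2 →
      ∃ b : Bool, (rk t, b) ∈ T ∧ (isAltT B t ↔ b = true))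
    (hex : ∀ p ∈ T, ∃ t : ↥(Cfsg.isometryGroup F Q), mat t * mat t = 1 ∧ 1 ≤ rk t ∧
      rk t = p.1 ∧ (isAltT B t ↔ p.2 = true)) :
    Nat.card {C : ConjClasses ↥(Cfsg.isometryGroup F Q) //
      ∃ g : ↥(Cfsg.isometryGroup F Q), ConjClasses.mk g = C ∧ orderOf g = 2} = T.card := by
  classical
  let rep : {C : ConjClasses ↥(Cfsg.isometryGroup F Q) //
      ∃ g : ↥(Cfsg.isometryGroup F Q), ConjClasses.mk g = C ∧ orderOf g = 2} →
      ↥(Cfsg.isometryGroup F Q) := fun C => C.2.choose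
  have hrep1 : ∀ C, ConjClasses.mk (rep C) = C.1 := fun C => C.2.choose_spec.1
  have hrep2 : ∀ C, orderOf (rep C) = 2 := fun C => C.2.choose_spec.2
  let bb : {C : ConjClasses ↥(Cfsg.isometryGroup F Q) //
      ∃ g : ↥(Cfsg.isometryGroup F Q), ConjClasses.mk g = C ∧ orderOf g = 2} → Bool :=
    fun C => (hmem (rep C) (hrep2 C)).choose
  have hbb1 : ∀ C, (rk (rep C), bb C) ∈ T := fun C => (hmem (rep C) (hrep2 C)).choose_spec.1
  have hbb2 : ∀ C, isAltT B (rep C) ↔ bb C = true :=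
    fun C => (hmem (rep C) (hrep2 C)).choose_spec.2
  let ψ : {C : ConjClasses ↥(Cfsg.isometryGroup F Q) //
      ∃ g : ↥(Cfsg.isometryGroup F Q), ConjClasses.mk g = C ∧ orderOf g = 2} →
      {p : ℕ × Bool // p ∈ T} := fun C => ⟨(rk (rep C), bb C), hbb1 C⟩
  have hinj : Function.Injective ψ := by
    intro C C' h
    have h' : (rk (rep C), bb C) = (rk (rep C'), bb C') := congrArg Subtype.val h
    rw [Prod.mk.injEq] at h'
    obtain ⟨h1, h2⟩ := h'
    have h3 : isAltT B (rep C) ↔ isAltT B (rep C') := by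
      rw [hbb2, hbb2, h2]
    have hc := conj_of_invariants hQ (rep C) (rep C') (mat_sq _ (hrep2 C)) (mat_sq _ (hrep2 C'))
      h1 h3
    apply Subtype.ext
    rw [← hrep1 C, ← hrep1 C']
    exact ConjClasses.mk_eq_mk_iff_isConj.mpr hc
  have hsurj : Function.Surjective ψ := by
    rintro ⟨⟨r, b⟩, hp⟩
    obtain ⟨g, hg2, hg1, hgr, hga⟩ := hex (r, b) hp
    have hord : orderOf g = 2 := order_of_sq g hg2 hg1
    refine ⟨⟨ConjClasses.mk g, g, rfl, hord⟩, ?_⟩
    have hconj : IsConj (rep ⟨ConjClasses.mk g, g, rfl, hord⟩) g :=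
      ConjClasses.mk_eq_mk_iff_isConj.mp (hrep1 ⟨ConjClasses.mk g, g, rfl, hord⟩)
    apply Subtype.ext
    show (rk (rep ⟨ConjClasses.mk g, g, rfl, hord⟩), bb ⟨ConjClasses.mk g, g, rfl, hord⟩) = (r, b)
    rw [rk_conj hconj, hgr, Prod.mk.injEq]
    refine ⟨rfl, ?_⟩
    have h4 := hbb2 ⟨ConjClasses.mk g, g, rfl, hord⟩
    rw [isAltT_conj hQ hconj, hga] at h4
    exact Bool.eq_iff_iff.mpr h4.symm
  rw [Nat.card_congr (Equiv.ofBijective ψ ⟨hinj, hsurj⟩), Nat.card_eq_fintype_card,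
    Fintype.card_coe]

end CharTwo

end Cfsg.Agent.Lib.helper14.OrthInv
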