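import Mathlib
import Cfsg.Agent.Lib.helper14.OrthInv
import Cfsg.Agent.S2593

set_option autoImplicit false

/-! Explicit involutions of the hyperbolic quadratic form `Σ x_i y_i`: the unipotent elements
`tS S` (with `S` alternating) and coordinate swaps `wD d`; rank lemmas for block matrices. -/

namespace Cfsg.Agent.Lib.helper14.OrthInv

open Matrix Cfsg.Agent.S2593

section Ranks

variable {F : Type*} [Field F] {a b : Type*} [Fintype a] [Fintype b] [DecidableEq a] [DecidableEq b]

theorem rank_pos_of_ne_zero (M : Matrix a a F) (hM : M ≠ 0) : 1 ≤ M.rank := by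
  by_contra h
  apply hM
  have h0 : M.rank = 0 := by omega
  have h1 : LinearMap.range (Matrix.mulVecLin M) = ⊥ := by
    unfold Matrix.rank at h0
    exact Submodule.finrank_eq_zero.mp h0
  rw [LinearMap.range_eq_bot] at h1
  apply Matrix.toLin'.injective
  rw [map_zero]
  exact h1

/-- rank of `[[D, D], [D, D]]` -/
theorem rank_quad (D : Matrix a a F) :
    (Matrix.fromBlocks D D D D : Matrix (a ⊕ a) (a ⊕ a) F).rank = D.rank := by
  apply le_antisymm
  · have h : (Matrix.fromBlocks D D D D : Matrix (a ⊕ a) (a ⊕ a) F) =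
        Matrix.fromRows (1 : Matrix a a F) (1 : Matrix a a F) * D *
          Matrix.fromCols (1 : Matrix a a F) (1 : Matrix a a F) := by
      rw [Matrix.fromRows_mul, Matrix.fromRows_mul_fromCols]
      simp
    rw [h]
    exact (Matrix.rank_mul_le_left _ _).trans (Matrix.rank_mul_le_right _ _)
  · have h : D = Matrix.fromCols (1 : Matrix a a F) (0 : Matrix a a F) *
        (Matrix.fromBlocks D D D D : Matrix (a ⊕ a) (a ⊕ a) F) *
        Matrix.fromRows (1 : Matrix a a F) (0 : Matrix a a F) := by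
      rw [Matrix.fromCols_mul_fromBlocks, Matrix.fromCols_mul_fromRows]
      simp
    conv_lhs => rw [h]
    exact (Matrix.rank_mul_le_left _ _).trans (Matrix.rank_mul_le_right _ _)

/-- the product of two submodules as a product of types -/
def prodSubEquiv {M N : Type*} [AddCommGroup M] [Module F M] [AddCommGroup N] [Module F N]
    (p : Submodule F M) (q : Submodule F N) : ↥(p.prod q) ≃ₗ[F] ↥p × ↥q where
  toFun x := (⟨x.1.1, x.2.1⟩, ⟨x.1.2, x.2.2⟩)
  invFun y := ⟨(y.1.1, y.2.1), ⟨y.1.2, y.2.2⟩⟩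
  map_add' _ _ := rfl
  map_smul' _ _ := rfl
  left_inv _ := rfl
  right_inv _ := rfl

/-- rank of a block diagonal matrix -/
theorem rank_blockDiag (A : Matrix a a F) (D : Matrix b b F) :
    (Matrix.fromBlocks A 0 0 D : Matrix (a ⊕ b) (a ⊕ b) F).rank = A.rank + D.rank := by
  unfold Matrix.rank
  let e : (a ⊕ b → F) ≃ₗ[F] (a → F) × (b → F) := LinearEquiv.sumArrowLequivProdArrow a b F F
  have hr : LinearMap.range (Matrix.mulVecLin (Matrix.fromBlocks A 0 0 D :
      Matrix (a ⊕ b) (a ⊕ b) F)) =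
      ((LinearMap.range (Matrix.mulVecLin A)).prod (LinearMap.range (Matrix.mulVecLin D))).map
        (e.symm : (a → F) × (b → F) →ₗ[F] (a ⊕ b → F)) := by
    ext w
    simp only [LinearMap.mem_range, Submodule.mem_map, Submodule.mem_prod]
    constructor
    · rintro ⟨v, rfl⟩
      refine ⟨(A *ᵥ (v ∘ Sum.inl), D *ᵥ (v ∘ Sum.inr)), ⟨⟨v ∘ Sum.inl, rfl⟩, ⟨v ∘ Sum.inr, rfl⟩⟩, ?_⟩
      rw [Matrix.mulVecLin_apply, Matrix.fromBlocks_mulVec]
      simp only [Matrix.zero_mulVec, add_zero, zero_add]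
      rfl
    · rintro ⟨⟨w1, w2⟩, ⟨⟨v1, hv1⟩, ⟨v2, hv2⟩⟩, rfl⟩
      refine ⟨Sum.elim v1 v2, ?_⟩
      rw [Matrix.mulVecLin_apply, Matrix.fromBlocks_mulVec]
      simp only [Sum.elim_comp_inl, Sum.elim_comp_inr, Matrix.zero_mulVec, add_zero, zero_add]
      rw [Matrix.mulVecLin_apply] at hv1 hv2
      simp only at hv1 hv2
      rw [hv1, hv2]
      rfl
  rw [hr, LinearEquiv.finrank_map_eq, LinearEquiv.finrank_eq (prodSubEquiv _ _),
    Module.finrank_prod]

end Ranks

section Plus

variable {F : Type*} [Field F] {m : ℕ}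

local notation "VV" => (Fin m ⊕ Fin m → F)
local notation "MM" => Matrix (Fin m ⊕ Fin m) (Fin m ⊕ Fin m) F
local notation "M1" => Matrix (Fin m) (Fin m) F

theorem quadP_tS (S : M1) (v : VV) :
    Cfsg.quadFormPlus m F (tS S *ᵥ v) =
      Cfsg.quadFormPlus m F v + (v ∘ Sum.inr) ⬝ᵥ (S *ᵥ (v ∘ Sum.inr)) := by
  unfold Cfsg.quadFormPlus tS
  rw [Matrix.fromBlocks_mulVec]
  simp only [Sum.elim_inl, Sum.elim_inr, Matrix.one_mulVec, Matrix.zero_mulVec, zero_add,
    Pi.add_apply, Function.comp_apply, add_mul, Finset.sum_add_distrib, dotProduct]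
  congr 1
  exact Finset.sum_congr rfl (fun i _ => mul_comm _ _)

theorem quadP_tS_sub_one (S : M1) (v : VV) :
    Cfsg.quadFormPlus m F ((tS S - 1) *ᵥ v) = 0 := by
  rw [tS_sub_one]
  unfold Cfsg.quadFormPlus
  simp only [Matrix.fromBlocks_mulVec, Sum.elim_inl, Sum.elim_inr, Matrix.zero_mulVec, zero_add,
    add_zero, Pi.zero_apply, mul_zero, Finset.sum_const_zero]

/-- the coordinate swap along a `0/1`-vector `d` -/
def wD (d : Fin m → F) : MM :=
  Matrix.fromBlocks (Matrix.diagonal (1 - d)) (Matrix.diagonal d) (Matrix.diagonal d)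
    (Matrix.diagonal (1 - d))

theorem wD_mulVec (d : Fin m → F) (v : VV) :
    wD d *ᵥ v = Sum.elim (fun i => (1 - d i) * v (Sum.inl i) + d i * v (Sum.inr i))
      (fun i => d i * v (Sum.inl i) + (1 - d i) * v (Sum.inr i)) := by
  unfold wD
  rw [Matrix.fromBlocks_mulVec]
  congr 1 <;>
  · ext i
    simp only [Pi.add_apply, Matrix.mulVec_diagonal, Function.comp_apply, Pi.sub_apply,
      Pi.one_apply]

theorem wD_sq (d : Fin m → F) (hd : ∀ i, d i * d i = d i) : wD d * wD d = 1 := by
  rw [Matrix.ext_iff_mulVec]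
  intro v
  rw [← Matrix.mulVec_mulVec, wD_mulVec, wD_mulVec, Matrix.one_mulVec]
  ext i
  rcases i with i | i
  · simp only [Sum.elim_inl, Sum.elim_inr]
    linear_combination (2 * v (Sum.inl i) - 2 * v (Sum.inr i)) * hd i
  · simp only [Sum.elim_inl, Sum.elim_inr]
    linear_combination (2 * v (Sum.inr i) - 2 * v (Sum.inl i)) * hd i

theorem quadP_wD (d : Fin m → F) (hd : ∀ i, d i * d i = d i) (v : VV) :
    Cfsg.quadFormPlus m F (wD d *ᵥ v) = Cfsg.quadFormPlus m F v := by
  rw [wD_mulVec]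
  unfold Cfsg.quadFormPlus
  apply Finset.sum_congr rfl
  intro i _
  simp only [Sum.elim_inl, Sum.elim_inr]
  linear_combination (-(v (Sum.inl i) - v (Sum.inr i)) ^ 2) * hd i

variable [CharP F 2]

theorem wD_sub_one (d : Fin m → F) :
    wD d - 1 = Matrix.fromBlocks (Matrix.diagonal d) (Matrix.diagonal d) (Matrix.diagonal d)
      (Matrix.diagonal d) := by
  unfold wD
  ext i j
  rcases i with i | i <;> rcases j with j | j
  · simp only [Matrix.sub_apply, Matrix.fromBlocks_apply₁₁, Matrix.diagonal_apply,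
      Matrix.one_apply, Sum.inl.injEq, Pi.sub_apply, Pi.one_apply]
    split_ifs with h
    · rw [sub_sub_cancel_left, CharTwo.neg_eq]
    · simp
  · simp [Matrix.one_apply]
  · simp [Matrix.one_apply]
  · simp only [Matrix.sub_apply, Matrix.fromBlocks_apply₂₂, Matrix.diagonal_apply,
      Matrix.one_apply, Sum.inr.injEq, Pi.sub_apply, Pi.one_apply]
    split_ifs with h
    · rw [sub_sub_cancel_left, CharTwo.neg_eq]
    · simp

theorem rank_wD (d : Fin m → F) : (wD d - 1).rank = (Matrix.diagonal d).rank := by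
  rw [wD_sub_one, rank_quad]

/-- the indicator vector of the first `r` coordinates -/
def ind (m r : ℕ) (F : Type*) [Field F] : Fin m → F := fun i => if (i : ℕ) < r then 1 else 0

theorem ind_sq (r : ℕ) (i : Fin m) : ind m r F i * ind m r F i = ind m r F i := by
  unfold ind
  split_ifs <;> simp

theorem rank_ind (r : ℕ) (hr : r ≤ m) : (Matrix.diagonal (ind m r F)).rank = r := by
  classical
  rw [Matrix.rank_diagonal]
  trans Fintype.card {i : Fin m // (i : ℕ) < r}
  · apply Fintype.card_congr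
    apply Equiv.subtypeEquivRight
    intro i
    unfold ind
    split_ifs with h <;> simp [h]
  · exact Fintype.card_fin_lt_of_le hr

end Plus

end Cfsg.Agent.Lib.helper14.OrthInv
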