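import Mathlib
import Cfsg.Agent.Lib.helper14.OrthInv2
import Cfsg.Agent.Lib.Helper16.Char2K

set_option autoImplicit false

/-! Involutions of `Ω(Q)` in characteristic two: the Dickson character is `(-1)^rank(g-1)`,
conjugation by a reflection along a fixed nonsingular vector, and an abstract counting skeleton
for classes of involutions by a complete invariant. -/

namespace Cfsg.Agent.Lib.helper14.OmegaInv

open Cfsg.Agent.Lib.Helper16 Cfsg.Agent.Lib.helper6 Cfsg.Agent.Lib.helper14.OrthInv Matrix Module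

section Abstract

/-- counting classes of involutions by a complete invariant -/
theorem card_inv_classes {H : Type*} [Group H] {α : Type*} (inv : H → α) (T : Finset α)
    (hinv : ∀ t s : H, IsConj t s → inv t = inv s)
    (hconj : ∀ t s : H, orderOf t = 2 → orderOf s = 2 → inv t = inv s → IsConj t s)
    (hmem : ∀ t : H, orderOf t = 2 → inv t ∈ T)
    (hex : ∀ p ∈ T, ∃ t : H, orderOf t = 2 ∧ inv t = p) :
    Nat.card {C : ConjClasses H // ∃ g : H, ConjClasses.mk g = C ∧ orderOf g = 2} = T.card := by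
  classical
  let rep : {C : ConjClasses H // ∃ g : H, ConjClasses.mk g = C ∧ orderOf g = 2} → H :=
    fun C => C.2.choose
  have hrep1 : ∀ C, ConjClasses.mk (rep C) = C.1 := fun C => C.2.choose_spec.1
  have hrep2 : ∀ C, orderOf (rep C) = 2 := fun C => C.2.choose_spec.2
  let ψ : {C : ConjClasses H // ∃ g : H, ConjClasses.mk g = C ∧ orderOf g = 2} →
      {p : α // p ∈ T} := fun C => ⟨inv (rep C), hmem _ (hrep2 C)⟩
  have hinj : Function.Injective ψ := by
    intro C C' h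
    have h' : inv (rep C) = inv (rep C') := congrArg Subtype.val h
    have hc := hconj (rep C) (rep C') (hrep2 C) (hrep2 C') h'
    apply Subtype.ext
    rw [← hrep1 C, ← hrep1 C']
    exact ConjClasses.mk_eq_mk_iff_isConj.mpr hc
  have hsurj : Function.Surjective ψ := by
    rintro ⟨p, hp⟩
    obtain ⟨g, hord, hgp⟩ := hex p hp
    refine ⟨⟨ConjClasses.mk g, g, rfl, hord⟩, ?_⟩
    have hconj' : IsConj (rep ⟨ConjClasses.mk g, g, rfl, hord⟩) g :=
      ConjClasses.mk_eq_mk_iff_isConj.mp (hrep1 ⟨ConjClasses.mk g, g, rfl, hord⟩)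
    apply Subtype.ext
    show inv (rep ⟨ConjClasses.mk g, g, rfl, hord⟩) = p
    rw [hinv _ _ hconj', hgp]
  rw [Nat.card_congr (Equiv.ofBijective ψ ⟨hinj, hsurj⟩), Nat.card_eq_fintype_card,
    Fintype.card_coe]

end Abstract

section Dickson

variable {ι : Type} [Fintype ι] [DecidableEq ι] {F : Type*} [Field F] [CharP F 2]

/-- the diagonal embedding -/
def dg (ι : Type) (F : Type*) [Field F] : (ι → F) →ₗ[F] (ι ⊕ ι → F) :=
  LinearMap.funLeft F F (Sum.elim id id : ι ⊕ ι → ι)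

theorem dg_apply (v : ι → F) : dg ι F v = Sum.elim v v := by
  ext i
  rcases i with i | i <;> rfl

theorem dg_injective : Function.Injective (dg ι F) := by
  intro v w h
  rw [dg_apply, dg_apply] at h
  have := congrArg (fun f => f ∘ Sum.inl) h
  exact this

theorem diag_inter (M : Matrix ι ι F) :
    C2.diagSub ι F ⊓ (C2.diagSub ι F).map
      (Matrix.mulVecLin (Matrix.fromBlocks M 0 0 (1 : Matrix ι ι F))) =
      (LinearMap.ker (Matrix.mulVecLin (M - 1))).map (dg ι F) := by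
  ext w
  simp only [Submodule.mem_inf, Submodule.mem_map, LinearMap.mem_ker, C2.mem_diagSub]
  constructor
  · rintro ⟨hw, u, hu, rfl⟩
    rw [Matrix.mulVecLin_apply, Matrix.fromBlocks_mulVec] at hw ⊢
    simp only [Matrix.zero_mulVec, add_zero, zero_add, Matrix.one_mulVec, Sum.elim_comp_inl,
      Sum.elim_comp_inr] at hw ⊢
    refine ⟨u ∘ Sum.inr, ?_, ?_⟩
    · rw [Matrix.mulVecLin_apply, Matrix.sub_mulVec, Matrix.one_mulVec, ← hu, hw, hu, sub_self]
    · rw [dg_apply, hw]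
  · rintro ⟨v, hv, rfl⟩
    rw [Matrix.mulVecLin_apply, Matrix.sub_mulVec, Matrix.one_mulVec, sub_eq_zero] at hv
    rw [dg_apply]
    refine ⟨rfl, Sum.elim v v, rfl, ?_⟩
    rw [Matrix.mulVecLin_apply, Matrix.fromBlocks_mulVec]
    simp only [Matrix.zero_mulVec, add_zero, zero_add, Matrix.one_mulVec, Sum.elim_comp_inl,
      Sum.elim_comp_inr, hv]

theorem dickson_eq_one_iff_even (Q : QuadraticForm F (ι → F))
    (hQ : (QuadraticMap.polarBilin Q).Nondegenerate) (g : ↥(Cfsg.isometryGroup F ⇑Q)) :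
    C2.dickson Q hQ g = 1 ↔ Even (rk g) := by
  show famChar (sumQF Q Q) (Fintype.card ι) (C2.diagSub ι F) (embL Q Q g) = 1 ↔ _
  rw [famChar_eq_one_iff, embL_coe, diag_inter,
    ← (Submodule.equivMapOfInjective (dg ι F) dg_injective _).finrank_eq]
  have h2 : rk g + finrank F (LinearMap.ker (Matrix.mulVecLin (mat g - 1))) = Fintype.card ι := by
    have := LinearMap.finrank_range_add_finrank_ker (Matrix.mulVecLin (mat g - 1))
    rw [Module.finrank_pi] at this
    exact this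
  have key : ∀ a r n : ℕ, r + a = n → (Even (n + a) ↔ Even r) := by
    intro a r n h
    rw [Nat.even_iff, Nat.even_iff]
    omega
  exact key _ _ _ h2

end Dickson

section Omega

variable {ι : Type} [Fintype ι] [DecidableEq ι] {F : Type*} [Field F] [Fintype F] [CharP F 2]
  (Q : QuadraticForm F (ι → F)) (hQ : (QuadraticMap.polarBilin Q).Nondegenerate)

/-- the hypothesis that `Ω` is the kernel of the Dickson character -/
def KerHyp : Prop :=
  ∀ g : ↥(Cfsg.isometryGroup F ⇑Q), C2.dickson Q hQ g = 1 ↔ g ∈ Cfsg.Omega F ⇑Q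

theorem kerHyp_of_small (h : Fintype.card F ≠ 2 ∨ Fintype.card ι ≠ 4) : KerHyp Q hQ :=
  fun g => C2.dickson_eq_one_iff Q hQ h g

variable {Q hQ}

theorem mem_omega_iff_even (hk : KerHyp Q hQ) (g : ↥(Cfsg.isometryGroup F ⇑Q)) :
    g ∈ Cfsg.Omega F ⇑Q ↔ Even (rk g) := by
  rw [← hk g, dickson_eq_one_iff_even]

theorem mul_mem_omega_of_not (hk : KerHyp Q hQ) (g h : ↥(Cfsg.isometryGroup F ⇑Q))
    (hg : g ∉ Cfsg.Omega F ⇑Q) (hh : h ∉ Cfsg.Omega F ⇑Q) : g * h ∈ Cfsg.Omega F ⇑Q := by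
  rw [← hk] at hg hh ⊢
  rcases Int.units_eq_one_or (C2.dickson Q hQ g) with h1 | h1
  · exact absurd h1 hg
  · rcases Int.units_eq_one_or (C2.dickson Q hQ h) with h2 | h2
    · exact absurd h2 hh
    · rw [map_mul, h1, h2]
      decide

theorem refl_not_mem (hk : KerHyp Q hQ) (v : ι → F) (hv : Q v ≠ 0) :
    CDG.refl Q v hv ∉ Cfsg.Omega F ⇑Q := by
  rw [← hk, C2.dickson_refl]
  decide

theorem refl_comm (t : ↥(Cfsg.isometryGroup F ⇑Q)) (v : ι → F) (hv : Q v ≠ 0)
    (htv : mat t *ᵥ v = v) : CDG.refl Q v hv * t = t * CDG.refl Q v hv := by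
  apply CDG.iso_ext
  show Cfsg.reflectionMatrix ⇑Q v * mat t = mat t * Cfsg.reflectionMatrix ⇑Q v
  apply Matrix.toLin'.injective
  apply LinearMap.ext
  intro x
  rw [Matrix.toLin'_apply, Matrix.toLin'_apply, ← Matrix.mulVec_mulVec, ← Matrix.mulVec_mulVec,
    reflectionMatrix_mulVec, reflectionMatrix_mulVec, Matrix.mulVec_sub, Matrix.mulVec_smul, htv]
  have := CDG.polar_iso Q t v x
  rw [htv] at this
  rw [this]

/-- conjugacy in `O` implies conjugacy by an element of `Ω` when a nonsingular vector is fixed -/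
theorem exists_omega_conj (hk : KerHyp Q hQ) (t s : ↥(Cfsg.isometryGroup F ⇑Q))
    (hconj : IsConj t s) (v : ι → F) (hv : Q v ≠ 0) (htv : mat t *ᵥ v = v) :
    ∃ g ∈ Cfsg.Omega F ⇑Q, g * t * g⁻¹ = s := by
  obtain ⟨g, hg⟩ := isConj_iff.mp hconj
  by_cases h1 : g ∈ Cfsg.Omega F ⇑Q
  · exact ⟨g, h1, hg⟩
  · refine ⟨g * CDG.refl Q v hv, mul_mem_omega_of_not hk _ _ h1 (refl_not_mem hk v hv), ?_⟩
    have hc := refl_comm t v hv htv
    have : CDG.refl Q v hv * t * (CDG.refl Q v hv)⁻¹ = t := by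
      rw [mul_inv_eq_iff_eq_mul]
      exact hc
    calc g * CDG.refl Q v hv * t * (g * CDG.refl Q v hv)⁻¹
        = g * (CDG.refl Q v hv * t * (CDG.refl Q v hv)⁻¹) * g⁻¹ := by group
      _ = s := by rw [this, hg]

/-- conjugacy in the subgroup `Ω` from a conjugating element of `Ω` -/
theorem isConj_sub {G : Type*} [Group G] (H : Subgroup G) (t s : ↥H) (g : G) (hg : g ∈ H)
    (h : g * (t : G) * g⁻¹ = (s : G)) : IsConj t s := by
  rw [isConj_iff]
  refine ⟨⟨g, hg⟩, ?_⟩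
  apply Subtype.ext
  simpa using h

theorem isConj_coe {G : Type*} [Group G] (H : Subgroup G) (t s : ↥H) (h : IsConj t s) :
    IsConj (t : G) (s : G) := by
  obtain ⟨c, hc⟩ := isConj_iff.mp h
  rw [isConj_iff]
  refine ⟨(c : G), ?_⟩
  have := congrArg Subtype.val hc
  simpa using this

variable {B : LinearMap.BilinForm F (ι → F)}

/-- the number of classes of involutions of `Ω` when every involution fixes a nonsingular
vector -/
theorem card_omega_classes (hQP : Cfsg.Agent.Lib.Lead.OG.IsQP (⇑Q) B) (hk : KerHyp Q hQ)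
    (T : Finset (ℕ × Bool))
    (hfix : ∀ t : ↥(Cfsg.isometryGroup F ⇑Q), orderOf t = 2 → t ∈ Cfsg.Omega F ⇑Q →
      ∃ v : ι → F, Q v ≠ 0 ∧ mat t *ᵥ v = v)
    (hmem : ∀ t : ↥(Cfsg.isometryGroup F ⇑Q), orderOf t = 2 → t ∈ Cfsg.Omega F ⇑Q →
      ∃ b : Bool, (rk t, b) ∈ T ∧ (isAltT B t ↔ b = true))
    (hex : ∀ p ∈ T, ∃ t : ↥(Cfsg.isometryGroup F ⇑Q), mat t * mat t = 1 ∧ 1 ≤ rk t ∧
      Even (rk t) ∧ rk t = p.1 ∧ (isAltT B t ↔ p.2 = true)) :
    Nat.card {C : ConjClasses ↥(Cfsg.Omega F ⇑Q) //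
      ∃ g : ↥(Cfsg.Omega F ⇑Q), ConjClasses.mk g = C ∧ orderOf g = 2} = T.card := by
  classical
  apply card_inv_classes
    (fun t : ↥(Cfsg.Omega F ⇑Q) => (rk (t : ↥(Cfsg.isometryGroup F ⇑Q)),
      decide (isAltT B (t : ↥(Cfsg.isometryGroup F ⇑Q))))) T
  · intro t s h
    have h' := isConj_coe _ t s h
    rw [Prod.mk.injEq]
    refine ⟨rk_conj h', ?_⟩
    rw [decide_eq_decide]
    exact isAltT_conj hQP h'
  · intro t s ht hs h
    rw [Prod.mk.injEq, decide_eq_decide] at h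
    have ht' : orderOf (t : ↥(Cfsg.isometryGroup F ⇑Q)) = 2 := by
      rw [Subgroup.orderOf_coe]; exact ht
    have hs' : orderOf (s : ↥(Cfsg.isometryGroup F ⇑Q)) = 2 := by
      rw [Subgroup.orderOf_coe]; exact hs
    have hc := conj_of_invariants hQP (t : ↥(Cfsg.isometryGroup F ⇑Q)) s (mat_sq _ ht')
      (mat_sq _ hs') h.1 h.2
    obtain ⟨v, hv, htv⟩ := hfix _ ht' t.2
    obtain ⟨g, hg, hgts⟩ := exists_omega_conj hk _ _ hc v hv htv
    exact isConj_sub _ t s g hg hgts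
  · intro t ht
    have ht' : orderOf (t : ↥(Cfsg.isometryGroup F ⇑Q)) = 2 := by
      rw [Subgroup.orderOf_coe]; exact ht
    obtain ⟨b, hb1, hb2⟩ := hmem _ ht' t.2
    have : decide (isAltT B (t : ↥(Cfsg.isometryGroup F ⇑Q))) = b := by
      rw [Bool.eq_iff_iff, decide_eq_true_iff]
      exact hb2
    show (rk (t : ↥(Cfsg.isometryGroup F ⇑Q)),
      decide (isAltT B (t : ↥(Cfsg.isometryGroup F ⇑Q)))) ∈ T
    rw [this]
    exact hb1
  · rintro ⟨r, b⟩ hp
    obtain ⟨t, ht2, ht1, hte, htr, hta⟩ := hex _ hp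
    have hmemΩ : t ∈ Cfsg.Omega F ⇑Q := (mem_omega_iff_even hk t).mpr hte
    refine ⟨⟨t, hmemΩ⟩, ?_, ?_⟩
    · rw [← Subgroup.orderOf_coe]
      exact order_of_sq t ht2 ht1
    · show (rk t, decide (isAltT B t)) = (r, b)
      rw [Prod.mk.injEq]
      refine ⟨htr, ?_⟩
      rw [Bool.eq_iff_iff, decide_eq_true_iff]
      exact hta

end Omega

end Cfsg.Agent.Lib.helper14.OmegaInv
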