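import Mathlib

set_option autoImplicit false

namespace Cfsg.Agent.Lib.helper14

open Module

section
variable {F : Type*} [Field F]

theorem involution_isSemisimple (h2 : (2 : F) ≠ 0) {V : Type*} [AddCommGroup V] [Module F V]
    (g : Module.End F V) (hg : g * g = 1) : g.IsSemisimple := by
  have hsep : (Polynomial.X ^ 2 - Polynomial.C (1 : F)).Separable :=
    Polynomial.separable_X_pow_sub_C (1 : F) (by exact_mod_cast h2) one_ne_zero
  apply Module.End.isSemisimple_of_squarefree_aeval_eq_zero hsep.squarefree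
  rw [map_sub, map_pow, Polynomial.aeval_X, Polynomial.aeval_C, pow_two, hg, map_one, sub_self]

theorem involution_iSup_eigenspace (h2 : (2 : F) ≠ 0) {V : Type*} [AddCommGroup V] [Module F V]
    (g : Module.End F V) (hg : g * g = 1) : ⨆ μ : F, g.eigenspace μ = ⊤ := by
  rw [eq_top_iff]
  intro v _
  have hgg : ∀ w : V, g (g w) = w := fun w => by
    have := LinearMap.congr_fun hg w
    simpa using this
  have h1 : (2 : F)⁻¹ • (v + g v) ∈ g.eigenspace 1 := by
    rw [Module.End.mem_eigenspace_iff, map_smul, map_add, hgg, one_smul, add_comm]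
  have h2' : (2 : F)⁻¹ • (v - g v) ∈ g.eigenspace (-1) := by
    rw [Module.End.mem_eigenspace_iff, map_smul, map_sub, hgg, neg_smul, one_smul, ← smul_neg, neg_sub]
  have hv : v = (2 : F)⁻¹ • (v + g v) + (2 : F)⁻¹ • (v - g v) := by
    rw [← smul_add]
    have : v + g v + (v - g v) = (2 : F) • v := by rw [two_smul]; abel
    rw [this, smul_smul, inv_mul_cancel₀ h2, one_smul]
  rw [hv]
  exact Submodule.add_mem _ (Submodule.mem_iSup_of_mem 1 h1) (Submodule.mem_iSup_of_mem (-1) h2')

end

section
variable {F : Type*} [Field F] [Fintype F] {ι : Type*} [Fintype ι] [DecidableEq ι]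

/-- a finite commuting set of involutory matrices in characteristic not two has a common eigenbasis -/
theorem exists_common_eigenbasis (h2 : (2 : F) ≠ 0) (A : Set (Matrix ι ι F))
    (hcomm : ∀ a ∈ A, ∀ b ∈ A, a * b = b * a) (hinv : ∀ a ∈ A, a * a = 1) :
    ∃ (b : Basis ι F (ι → F)) (χ : ι → A → F),
      ∀ (a : A) (i : ι), (a : Matrix ι ι F).mulVec (b i) = χ i a • b i := by
  classical
  let f : A → Module.End F (ι → F) := fun a => Matrix.toLin' a.1
  have hfmul : ∀ a b : A, f a * f b = Matrix.toLin' (a.1 * b.1) := fun a b => by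
    rw [Matrix.toLin'_mul]; rfl
  have hfcomm : ∀ a b : A, Commute (f a) (f b) := fun a b => by
    show f a * f b = f b * f a
    rw [hfmul, hfmul, hcomm a.1 a.2 b.1 b.2]
  have hfinv : ∀ a : A, f a * f a = 1 := fun a => by
    rw [hfmul, hinv a.1 a.2, Matrix.toLin'_one]; rfl
  have hss : ∀ a : A, (f a).IsSemisimple := fun a => involution_isSemisimple h2 (f a) (hfinv a)
  have heq : ∀ (a : A) (μ : F), (f a).maxGenEigenspace μ = (f a).eigenspace μ := fun a μ =>
    (hss a).isFinitelySemisimple.maxGenEigenspace_eq_eigenspace μ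
  have htri : ∀ a : A, ⨆ μ, (f a).maxGenEigenspace μ = ⊤ := fun a => by
    simp only [heq]
    exact involution_iSup_eigenspace h2 (f a) (hfinv a)
  have hsup := Module.End.iSup_iInf_maxGenEigenspace_eq_top_of_iSup_maxGenEigenspace_eq_top_of_commute f
    (fun a b _ => hfcomm a b) htri
  have hind := Module.End.independent_iInf_maxGenEigenspace_of_forall_mapsTo f
    (fun a b φ => Module.End.mapsTo_maxGenEigenspace_of_comm (hfcomm b a) φ)
  let W : (A → F) → Submodule F (ι → F) := fun χ => ⨅ a, (f a).maxGenEigenspace (χ a)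
  have hint : DirectSum.IsInternal W := DirectSum.isInternal_submodule_of_iSupIndep_of_iSup_eq_top hind hsup
  let bχ : ∀ χ : A → F, Basis (Fin (finrank F (W χ))) F (W χ) := fun χ => Module.finBasis F (W χ)
  let B := hint.collectedBasis bχ
  have hcard : Fintype.card (Σ χ : A → F, Fin (finrank F (W χ))) = Fintype.card ι := by
    have := Module.finrank_eq_card_basis B
    rw [← this, Module.finrank_fintype_fun_eq_card]
  let e : (Σ χ : A → F, Fin (finrank F (W χ))) ≃ ι := Fintype.equivOfCardEq hcard
  refine ⟨B.reindex e, fun i a => (e.symm i).1 a, ?_⟩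
  intro a i
  rw [Basis.reindex_apply]
  have hmem : B (e.symm i) ∈ W (e.symm i).1 := hint.collectedBasis_mem bχ (e.symm i)
  have hmem' : B (e.symm i) ∈ (f a).maxGenEigenspace ((e.symm i).1 a) :=
    (Submodule.mem_iInf _).mp hmem a
  rw [heq, Module.End.mem_eigenspace_iff] at hmem'
  exact hmem'

/-- matrix form: simultaneous diagonalisation -/
theorem exists_simultaneous_diag (h2 : (2 : F) ≠ 0) (A : Set (Matrix ι ι F))
    (hcomm : ∀ a ∈ A, ∀ b ∈ A, a * b = b * a) (hinv : ∀ a ∈ A, a * a = 1) :
    ∃ (P : Matrix ι ι F) (χ : ι → A → F), IsUnit P.det ∧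
      (∀ (a : A) (i : ι), χ i a = 1 ∨ χ i a = -1) ∧
      ∀ a : A, (a : Matrix ι ι F) * P = P * Matrix.diagonal (fun i => χ i a) := by
  classical
  obtain ⟨b, χ, hb⟩ := exists_common_eigenbasis h2 A hcomm hinv
  let P : Matrix ι ι F := (Pi.basisFun F ι).toMatrix b
  have hP : ∀ i j, P i j = b j i := fun i j => by
    show (Pi.basisFun F ι).repr (b j) i = b j i
    simp
  refine ⟨P, χ, ?_, ?_, ?_⟩
  · haveI := (Pi.basisFun F ι).invertibleToMatrix b
    exact (Matrix.isUnit_iff_isUnit_det P).mp (isUnit_of_invertible P)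
  · intro a i
    have h1 := hb a i
    have h3 : (a : Matrix ι ι F).mulVec ((a : Matrix ι ι F).mulVec (b i)) = b i := by
      rw [Matrix.mulVec_mulVec, hinv a.1 a.2, Matrix.one_mulVec]
    rw [h1, Matrix.mulVec_smul, h1, smul_smul] at h3
    have hne : b i ≠ 0 := b.ne_zero i
    have h4 : (χ i a * χ i a - 1) • b i = 0 := by
      rw [sub_smul, h3, one_smul, sub_self]
    rcases smul_eq_zero.mp h4 with h5 | h5
    · have : (χ i a - 1) * (χ i a + 1) = 0 := by linear_combination h5
      rcases mul_eq_zero.mp this with h6 | h6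
      · left; exact sub_eq_zero.mp h6
      · right; exact eq_neg_of_add_eq_zero_left h6
    · exact absurd h5 hne
  · intro a
    ext i j
    rw [Matrix.mul_apply, Matrix.mul_diagonal]
    have := congrFun (hb a j) i
    simp only [Matrix.mulVec, dotProduct, Pi.smul_apply, smul_eq_mul] at this
    simp only [hP]
    rw [this, mul_comm]

end

end Cfsg.Agent.Lib.helper14
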