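import Mathlib
import Cfsg.Agent.Lib.helper14.JTa

set_option autoImplicit false

/-! Combinatorics: from kernel-dimension sequences to sub-multisets. -/

namespace Cfsg.Agent.Lib.helper14.JTc

open Cfsg.Agent.Lib.helper14.JTa

theorem sum_min_succ (μ : Multiset ℕ) (k : ℕ) :
    (μ.map (fun b => min b (k + 1))).sum =
      (μ.map (fun b => min b k)).sum + (μ.filter (fun b => k < b)).card := by
  induction μ using Multiset.induction_on with
  | empty => simp
  | cons b μ ih =>
    rw [Multiset.map_cons, Multiset.sum_cons, Multiset.map_cons, Multiset.sum_cons, ih,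
      Multiset.filter_cons]
    by_cases h : k < b
    · rw [if_pos h, Multiset.card_add, Multiset.card_singleton]
      have h1 : min b (k + 1) = k + 1 := by omega
      have h2 : min b k = k := by omega
      omega
    · rw [if_neg h, Multiset.card_add, Multiset.card_zero]
      have h1 : min b (k + 1) = b := by omega
      have h2 : min b k = b := by omega
      omega

theorem count_add_card (μ : Multiset ℕ) (i : ℕ) :
    μ.count (i + 1) + (μ.filter (fun b => i + 1 < b)).card = (μ.filter (fun b => i < b)).card := by
  induction μ using Multiset.induction_on with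
  | empty => simp
  | cons b μ ih =>
    rw [Multiset.count_cons, Multiset.filter_cons, Multiset.filter_cons, Multiset.card_add,
      Multiset.card_add, ← ih]
    by_cases h1 : i + 1 < b
    · have h2 : i < b := by omega
      have h3 : ¬ (i + 1 = b) := by omega
      rw [if_pos h1, if_pos h2, if_neg h3]
      omega
    · by_cases h3 : i + 1 = b
      · have h2 : i < b := by omega
        rw [if_neg h1, if_pos h2, if_pos h3]
        simp
        omega
      · have h2 : ¬ i < b := by omega
        rw [if_neg h1, if_neg h2, if_neg h3]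
        simp

theorem abel (e : ℕ → ℕ) (he : ∀ k, e (k + 1) ≤ e k) (K : ℕ) :
    (∑ k ∈ Finset.range K, (e k - e (k + 1)) * (k + 1)) + K * e K = ∑ k ∈ Finset.range K, e k := by
  induction K with
  | zero => simp
  | succ K ih =>
    rw [Finset.sum_range_succ, Finset.sum_range_succ, ← ih]
    obtain ⟨d, hd⟩ := Nat.exists_eq_add_of_le (he K)
    rw [hd]
    have : e (K + 1) + d - e (K + 1) = d := by omega
    rw [this]
    ring

theorem comb (μ : Multiset ℕ) (eA eB : ℕ → ℕ) (hA : ∀ k, eA (k + 1) ≤ eA k)
    (hB : ∀ k, eB (k + 1) ≤ eB k)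
    (h : ∀ k, (μ.filter (fun b => k < b)).card = eA k + eB k) (K : ℕ) (hK : eA K = 0) :
    ∃ ν : Multiset ℕ, ν ≤ μ ∧ ν.sum = ∑ k ∈ Finset.range K, eA k := by
  refine ⟨∑ k ∈ Finset.range K, Multiset.replicate (eA k - eA (k + 1)) (k + 1), ?_, ?_⟩
  · rw [Multiset.le_iff_count]
    intro j
    rw [Multiset.count_sum']
    rcases j with _ | i
    · have : ∀ k ∈ Finset.range K, Multiset.count 0 (Multiset.replicate (eA k - eA (k + 1)) (k + 1)) = 0 := by
        intro k _
        rw [Multiset.count_replicate, if_neg (by omega)]
      rw [Finset.sum_eq_zero this]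
      exact Nat.zero_le _
    · have hc : ∀ k, Multiset.count (i + 1) (Multiset.replicate (eA k - eA (k + 1)) (k + 1)) =
          if i = k then eA k - eA (k + 1) else 0 := by
        intro k
        rw [Multiset.count_replicate]
        by_cases hik : i = k
        · rw [if_pos hik, if_pos (by omega)]
        · rw [if_neg hik, if_neg (by omega)]
      simp only [hc]
      rw [Finset.sum_ite_eq]
      have h1 := count_add_card μ i
      have h2 := h i
      have h3 := h (i + 1)
      have h4 := hA i
      have h5 := hB i
      split_ifs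
      · omega
      · exact Nat.zero_le _
  · have h1 : (∑ k ∈ Finset.range K, Multiset.replicate (eA k - eA (k + 1)) (k + 1)).sum =
        ∑ k ∈ Finset.range K, (eA k - eA (k + 1)) * (k + 1) := by
      have h0 := map_sum (Multiset.sumAddMonoidHom (M := ℕ))
        (fun k => Multiset.replicate (eA k - eA (k + 1)) (k + 1)) (Finset.range K)
      rw [Multiset.coe_sumAddMonoidHom] at h0
      rw [h0]
      apply Finset.sum_congr rfl
      intro k _
      rw [Multiset.sum_replicate, smul_eq_mul]
    rw [h1, ← abel eA hA K, hK, Nat.mul_zero, Nat.add_zero]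

/-- The main extraction: an invariant direct summand of an endomorphism of type `μ`
has a type which is a sub-multiset of `μ`. -/
theorem exists_sub_type {F : Type*} [Field F] {V : Type*} [AddCommGroup V] [Module F V]
    [FiniteDimensional F V] (M : Module.End F V) (μ : Multiset ℕ)
    (hμ : ∀ k, dk M k = (μ.map (fun b => min b k)).sum)
    (A B : Submodule F V) (hAB : IsCompl A B) (hA : ∀ v ∈ A, M v ∈ A) (hB : ∀ v ∈ B, M v ∈ B)
    (K : ℕ) (hK : M ^ K = 0) :
    ∃ ν : Multiset ℕ, ν ≤ μ ∧ ν.sum = Module.finrank F A := by
  have hAK : (M.restrict hA) ^ K = 0 := by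
    rw [Module.End.pow_restrict K hA]
    apply LinearMap.ext
    intro a
    apply Subtype.ext
    rw [LinearMap.restrict_coe_apply, hK]
    rfl
  have hcard : ∀ k, (μ.filter (fun b => k < b)).card = ek (M.restrict hA) k + ek (M.restrict hB) k := by
    intro k
    have h1 := hμ (k + 1)
    have h2 := hμ k
    rw [sum_min_succ, ← h2, dk_add M A B hAB hA hB (k + 1), dk_add M A B hAB hA hB k, dk_succ,
      dk_succ] at h1
    omega
  obtain ⟨ν, hν1, hν2⟩ := comb μ (ek (M.restrict hA)) (ek (M.restrict hB))
    (ek_succ_le _) (ek_succ_le _) hcard K (ek_of_pow_eq_zero _ K hAK)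
  refine ⟨ν, hν1, ?_⟩
  rw [hν2, ← dk_eq_sum, dk_of_pow_eq_zero _ K hAK]

end Cfsg.Agent.Lib.helper14.JTc
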