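import Mathlib
import Cfsg.Agent.Lib.helper14.JTa

set_option autoImplicit false

/-! A nilpotent endomorphism of `Fin n → F` with prescribed Jordan type. -/

namespace Cfsg.Agent.Lib.helper14.JTb

open Cfsg.Agent.Lib.helper14.JTa

section shift
variable (F : Type*) [Field F]

/-- The shift on `Fin b → F`. -/
def shift (b : ℕ) : Module.End F (Fin b → F) where
  toFun v := fun i => if h : i.val + 1 < b then v ⟨i.val + 1, h⟩ else 0
  map_add' u v := by
    funext i
    by_cases h : i.val + 1 < b
    · simp [h]
    · simp [h]
  map_smul' c v := by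
    funext i
    by_cases h : i.val + 1 < b
    · simp [h]
    · simp [h]

theorem shift_apply (b : ℕ) (v : Fin b → F) (i : Fin b) :
    shift F b v i = if h : i.val + 1 < b then v ⟨i.val + 1, h⟩ else 0 := rfl

theorem shift_pow_apply (b : ℕ) (k : ℕ) (v : Fin b → F) (i : Fin b) :
    ((shift F b) ^ k) v i = if h : i.val + k < b then v ⟨i.val + k, h⟩ else 0 := by
  induction k generalizing v with
  | zero =>
    have h : i.val + 0 < b := i.2
    rw [pow_zero, dif_pos h]
    rfl
  | succ k ih =>
    rw [pow_succ, Module.End.mul_apply, ih]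
    by_cases h : i.val + (k + 1) < b
    · have h' : i.val + k < b := by omega
      rw [dif_pos h, dif_pos h', shift_apply]
      have h'' : (⟨i.val + k, h'⟩ : Fin b).val + 1 < b := by simp; omega
      rw [dif_pos h'']
      rfl
    · rw [dif_neg h]
      by_cases h' : i.val + k < b
      · rw [dif_pos h', shift_apply]
        have h'' : ¬ ((⟨i.val + k, h'⟩ : Fin b).val + 1 < b) := by simp; omega
        rw [dif_neg h'']
      · rw [dif_neg h']

theorem dk_shift (b k : ℕ) : dk (shift F b) k = min b k := by
  unfold dk
  let g : Fin (b - k) → Fin b := fun j => ⟨j.val + k, by have := j.2; omega⟩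
  have hg : Function.Injective g := by
    intro j j' h
    have := congrArg Fin.val h
    simp only [g] at this
    exact Fin.ext (by omega)
  have hker : LinearMap.ker ((shift F b) ^ k) = LinearMap.ker (LinearMap.funLeft F F g) := by
    ext v
    rw [LinearMap.mem_ker, LinearMap.mem_ker]
    constructor
    · intro h
      funext j
      have h1 := congrFun h ⟨j.val, by have := j.2; omega⟩
      rw [shift_pow_apply] at h1
      have h2 : j.val + k < b := by have := j.2; omega
      rw [dif_pos h2] at h1
      exact h1
    · intro h
      funext i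
      rw [shift_pow_apply]
      by_cases h2 : i.val + k < b
      · rw [dif_pos h2]
        have h1 := congrFun h ⟨i.val, by omega⟩
        exact h1
      · rw [dif_neg h2]
        rfl
  rw [hker]
  have hsurj : LinearMap.range (LinearMap.funLeft F F g) = ⊤ :=
    LinearMap.range_eq_top.mpr (LinearMap.funLeft_surjective_of_injective F F g hg)
  have e := LinearMap.finrank_range_add_finrank_ker (LinearMap.funLeft F F g)
  rw [hsurj, finrank_top, Module.finrank_fin_fun, Module.finrank_fin_fun] at e
  omega

end shift

section prod
variable {F : Type*} [Field F] {V W : Type*} [AddCommGroup V] [Module F V]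
  [AddCommGroup W] [Module F W] [FiniteDimensional F V] [FiniteDimensional F W]

theorem prodMap_pow' (f : Module.End F V) (g : Module.End F W) (k : ℕ) :
    (LinearMap.prodMap f g : Module.End F (V × W)) ^ k = LinearMap.prodMap (f ^ k) (g ^ k) := by
  induction k with
  | zero =>
    rw [pow_zero, pow_zero, pow_zero]
    exact LinearMap.prodMap_one.symm
  | succ k ih =>
    rw [pow_succ, pow_succ, pow_succ, ih, LinearMap.prodMap_mul]

/-- The product of two submodules, as a product type. -/
def prodLE (p : Submodule F V) (q : Submodule F W) : (p.prod q) ≃ₗ[F] p × q where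
  toFun x := (⟨x.1.1, x.2.1⟩, ⟨x.1.2, x.2.2⟩)
  invFun y := ⟨(y.1.1, y.2.1), ⟨y.1.2, y.2.2⟩⟩
  map_add' := by intros; rfl
  map_smul' := by intros; rfl
  left_inv := by intro; rfl
  right_inv := by intro; rfl

theorem dk_prodMap (f : Module.End F V) (g : Module.End F W) (k : ℕ) :
    dk (LinearMap.prodMap f g : Module.End F (V × W)) k = dk f k + dk g k := by
  unfold dk
  rw [prodMap_pow', LinearMap.ker_prodMap]
  rw [(prodLE (LinearMap.ker (f ^ k)) (LinearMap.ker (g ^ k))).finrank_eq, Module.finrank_prod]

end prod

section model
variable (F : Type*) [Field F]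

theorem exists_model (μ : Multiset ℕ) : ∀ n, μ.sum = n →
    ∃ N : Module.End F (Fin n → F), ∀ k, dk N k = (μ.map (fun b => min b k)).sum := by
  induction μ using Multiset.induction_on with
  | empty =>
    intro n hn
    rw [Multiset.sum_zero] at hn
    subst hn
    refine ⟨0, fun k => ?_⟩
    rw [Multiset.map_zero, Multiset.sum_zero]
    unfold dk
    have h := Submodule.finrank_le (LinearMap.ker ((0 : Module.End F (Fin 0 → F)) ^ k))
    rw [Module.finrank_fin_fun] at h
    omega
  | cons b μ ih =>
    intro n hn
    rw [Multiset.sum_cons] at hn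
    subst hn
    obtain ⟨N', hN'⟩ := ih μ.sum rfl
    have hfr : Module.finrank F ((Fin b → F) × (Fin μ.sum → F)) =
        Module.finrank F (Fin (b + μ.sum) → F) := by
      rw [Module.finrank_prod, Module.finrank_fin_fun, Module.finrank_fin_fun,
        Module.finrank_fin_fun]
    let e : ((Fin b → F) × (Fin μ.sum → F)) ≃ₗ[F] (Fin (b + μ.sum) → F) :=
      LinearEquiv.ofFinrankEq _ _ hfr
    refine ⟨e.conjAlgEquiv F (LinearMap.prodMap (shift F b) N'), fun k => ?_⟩
    rw [dk_conj, dk_prodMap, dk_shift, hN', Multiset.map_cons, Multiset.sum_cons]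

end model

end Cfsg.Agent.Lib.helper14.JTb
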