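import Mathlib
import Cfsg.Prelude.Def_GeometricClasses
import Cfsg.Agent.Lib.helper14.SpSLa
import Cfsg.Agent.Lib.helper14.SL2Card
import Cfsg.Agent.S0765
import Cfsg.Agent.S0245

set_option autoImplicit false

/-!
# The index of the symplectic-type subgroup of `SL_n(q)`
-/

namespace Cfsg.Agent.Lib.helper14.SpSLb

open Cfsg.Agent.Lib.helper6 Cfsg.Agent.Lib.helper6.SB Module Finset Matrix

variable {F : Type*} [Field F]

theorem det_sympTransvection (m : ℕ) (w : Fin m ⊕ Fin m → F) (c : F) :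
    (Cfsg.sympTransvection m w c).det = 1 := by
  unfold Cfsg.sympTransvection
  have h1 : c • Matrix.vecMulVec w (Matrix.J (Fin m) F *ᵥ w) =
      Matrix.replicateCol Unit (c • w) * Matrix.replicateRow Unit (Matrix.J (Fin m) F *ᵥ w) := by
    rw [← Matrix.vecMulVec_eq]
    ext i j
    simp [Matrix.vecMulVec_apply, mul_assoc]
  rw [h1, Matrix.det_one_add_replicateCol_mul_replicateRow, dotProduct_smul, dotProduct_comm]
  have : w ⬝ᵥ (Matrix.J (Fin m) F *ᵥ w) = 0 := sympForm_self m w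
  rw [this, smul_zero, add_zero]

theorem det_symp (m : ℕ) (g : Matrix.symplecticGroup (Fin m) F) :
    (g : Matrix (Fin m ⊕ Fin m) (Fin m ⊕ Fin m) F).det = 1 := by
  let δ : Matrix.symplecticGroup (Fin m) F →* F :=
    (Matrix.detMonoidHom).comp (Matrix.symplecticGroup (Fin m) F).subtype
  have hle : Subgroup.closure {A : Matrix.symplecticGroup (Fin m) F | ∃ (w : Fin m ⊕ Fin m → F)
      (c : F), (A : Matrix (Fin m ⊕ Fin m) (Fin m ⊕ Fin m) F) = Cfsg.sympTransvection m w c} ≤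
      δ.ker := by
    rw [Subgroup.closure_le]
    rintro A ⟨w, c, hA⟩
    rw [SetLike.mem_coe, MonoidHom.mem_ker]
    show (A : Matrix (Fin m ⊕ Fin m) (Fin m ⊕ Fin m) F).det = 1
    rw [hA, det_sympTransvection]
  have hg : g ∈ δ.ker := by
    apply hle
    rw [Cfsg.Agent.S0765.result m]
    exact Subgroup.mem_top g
  exact MonoidHom.mem_ker.mp hg

/-- the symplectic-type subgroup of `SL_n` -/
abbrev HH {n : ℕ} (f : (Fin n → F) → (Fin n → F) → F) :
    Subgroup (Matrix.SpecialLinearGroup (Fin n) F) :=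
  (Cfsg.Geo.similarityGroup f).comap
    (Matrix.SpecialLinearGroup.toGL : Matrix.SpecialLinearGroup (Fin n) F →* GL (Fin n) F)

theorem mem_HH {n : ℕ} (f : (Fin n → F) → (Fin n → F) → F)
    (x : Matrix.SpecialLinearGroup (Fin n) F) :
    x ∈ HH f ↔ ∃ c : Fˣ, ∀ u v, f ((x : Matrix (Fin n) (Fin n) F) *ᵥ u)
      ((x : Matrix (Fin n) (Fin n) F) *ᵥ v) = (c : F) * f u v := by
  rw [Subgroup.mem_comap]
  show (∃ c : Fˣ, ∀ u v, f ((Matrix.SpecialLinearGroup.toGL x : Matrix (Fin n) (Fin n) F) *ᵥ u)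
      ((Matrix.SpecialLinearGroup.toGL x : Matrix (Fin n) (Fin n) F) *ᵥ v) = (c : F) * f u v) ↔ _
  rw [Matrix.SpecialLinearGroup.coe_GL_coe_matrix]

section emb
variable {n k : ℕ} (φ : (Fin k ⊕ Fin k → F) ≃ₗ[F] (Fin n → F))

/-- the matrix of `φ` -/
noncomputable def Pm : Matrix (Fin n) (Fin k ⊕ Fin k) F :=
  LinearMap.toMatrix' (φ : (Fin k ⊕ Fin k → F) →ₗ[F] (Fin n → F))

/-- the matrix of `φ⁻¹` -/
noncomputable def Qm : Matrix (Fin k ⊕ Fin k) (Fin n) F :=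
  LinearMap.toMatrix' (φ.symm : (Fin n → F) →ₗ[F] (Fin k ⊕ Fin k → F))

theorem Pm_Qm : Pm φ * Qm φ = 1 := by
  unfold Pm Qm
  rw [← LinearMap.toMatrix'_comp, ← LinearMap.toMatrix'_id]
  congr 1
  ext1 x
  simp

theorem Qm_Pm : Qm φ * Pm φ = 1 := by
  unfold Pm Qm
  rw [← LinearMap.toMatrix'_comp, ← LinearMap.toMatrix'_id]
  congr 1
  ext1 x
  simp

theorem Pm_mulVec (x : Fin k ⊕ Fin k → F) : Pm φ *ᵥ x = φ x :=
  LinearMap.toMatrix'_mulVec _ x

theorem Qm_mulVec (x : Fin n → F) : Qm φ *ᵥ x = φ.symm x :=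
  LinearMap.toMatrix'_mulVec _ x

/-- the embedding of the standard symplectic group -/
noncomputable def psi : Matrix.symplecticGroup (Fin k) F →* Matrix.SpecialLinearGroup (Fin n) F where
  toFun g := ⟨Pm φ * (g : Matrix (Fin k ⊕ Fin k) (Fin k ⊕ Fin k) F) * Qm φ, by
    rw [Matrix.det_conj_of_mul_eq_one (Pm_Qm φ) (Qm_Pm φ), det_symp]⟩
  map_one' := by
    apply Subtype.ext
    show Pm φ * ((1 : Matrix.symplecticGroup (Fin k) F) :
      Matrix (Fin k ⊕ Fin k) (Fin k ⊕ Fin k) F) * Qm φ = 1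
    rw [Submonoid.coe_one, Matrix.mul_one, Pm_Qm]
  map_mul' g h := by
    apply Subtype.ext
    show Pm φ * ((g * h : Matrix.symplecticGroup (Fin k) F) :
      Matrix (Fin k ⊕ Fin k) (Fin k ⊕ Fin k) F) * Qm φ =
      (Pm φ * (g : Matrix (Fin k ⊕ Fin k) (Fin k ⊕ Fin k) F) * Qm φ) *
        (Pm φ * (h : Matrix (Fin k ⊕ Fin k) (Fin k ⊕ Fin k) F) * Qm φ)
    rw [Submonoid.coe_mul]
    symm
    calc (Pm φ * (g : Matrix (Fin k ⊕ Fin k) (Fin k ⊕ Fin k) F) * Qm φ) *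
          (Pm φ * (h : Matrix (Fin k ⊕ Fin k) (Fin k ⊕ Fin k) F) * Qm φ)
        = Pm φ * (g : Matrix (Fin k ⊕ Fin k) (Fin k ⊕ Fin k) F) * (Qm φ * Pm φ) *
          (h : Matrix (Fin k ⊕ Fin k) (Fin k ⊕ Fin k) F) * Qm φ := by
          simp only [Matrix.mul_assoc]
      _ = Pm φ * ((g : Matrix (Fin k ⊕ Fin k) (Fin k ⊕ Fin k) F) *
          (h : Matrix (Fin k ⊕ Fin k) (Fin k ⊕ Fin k) F)) * Qm φ := by
          rw [Qm_Pm, Matrix.mul_one, Matrix.mul_assoc (Pm φ)]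

theorem psi_val (g : Matrix.symplecticGroup (Fin k) F) :
    ((psi φ g : Matrix.SpecialLinearGroup (Fin n) F) : Matrix (Fin n) (Fin n) F) =
      Pm φ * (g : Matrix (Fin k ⊕ Fin k) (Fin k ⊕ Fin k) F) * Qm φ := rfl

theorem psi_injective : Function.Injective (psi φ) := by
  intro g h hgh
  have h1 := congrArg Subtype.val hgh
  have h1' : Pm φ * (g : Matrix (Fin k ⊕ Fin k) (Fin k ⊕ Fin k) F) * Qm φ =
      Pm φ * (h : Matrix (Fin k ⊕ Fin k) (Fin k ⊕ Fin k) F) * Qm φ := h1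
  apply Subtype.ext
  have h2 : Qm φ * (Pm φ * (g : Matrix (Fin k ⊕ Fin k) (Fin k ⊕ Fin k) F) * Qm φ) * Pm φ =
      Qm φ * (Pm φ * (h : Matrix (Fin k ⊕ Fin k) (Fin k ⊕ Fin k) F) * Qm φ) * Pm φ := by
    rw [h1']
  have e : ∀ A : Matrix (Fin k ⊕ Fin k) (Fin k ⊕ Fin k) F,
      Qm φ * (Pm φ * A * Qm φ) * Pm φ = A := by
    intro A
    calc Qm φ * (Pm φ * A * Qm φ) * Pm φ = (Qm φ * Pm φ) * A * (Qm φ * Pm φ) := by
          simp only [Matrix.mul_assoc]
      _ = A := by rw [Qm_Pm, Matrix.one_mul, Matrix.mul_one]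
  rw [e, e] at h2
  exact h2

theorem psi_mem (f : (Fin n → F) → (Fin n → F) → F)
    (hφ : ∀ x y, f (φ x) (φ y) = Cfsg.sympForm k F x y) (g : Matrix.symplecticGroup (Fin k) F) :
    psi φ g ∈ HH f := by
  rw [mem_HH]
  refine ⟨1, fun u v => ?_⟩
  rw [psi_val, Units.val_one, one_mul, ← Matrix.mulVec_mulVec, ← Matrix.mulVec_mulVec,
    ← Matrix.mulVec_mulVec, ← Matrix.mulVec_mulVec, Pm_mulVec, Pm_mulVec, hφ,
    (mem_symplecticGroup_iff_sympForm k _).mp g.2, Qm_mulVec, Qm_mulVec, ← hφ,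
    LinearEquiv.apply_symm_apply, LinearEquiv.apply_symm_apply]

theorem card_dvd_HH [Fintype F] (f : (Fin n → F) → (Fin n → F) → F)
    (hφ : ∀ x y, f (φ x) (φ y) = Cfsg.sympForm k F x y) :
    Nat.card (Matrix.symplecticGroup (Fin k) F) ∣ Nat.card (HH f) := by
  have h2 : Nat.card (Matrix.symplecticGroup (Fin k) F) = Nat.card (psi φ).range :=
    Nat.card_congr (MonoidHom.ofInjective (psi_injective φ)).toEquiv
  rw [h2]
  apply Subgroup.card_dvd_of_le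
  rintro _ ⟨g, rfl⟩
  exact psi_mem φ f hφ g

end emb

/-! ### arithmetic -/

theorem prod_GL (q m : ℕ) : ∏ i : Fin m, (q ^ m - q ^ (i : ℕ)) =
    q ^ (∑ i ∈ range m, i) * ∏ i ∈ range m, (q ^ (i + 1) - 1) := by
  have h1 : ∏ i : Fin m, (q ^ m - q ^ (i : ℕ)) = ∏ i ∈ range m, (q ^ m - q ^ i) :=
    (Finset.prod_range (fun i => q ^ m - q ^ i)).symm
  have h2 : ∏ i ∈ range m, (q ^ m - q ^ i) = ∏ i ∈ range m, (q ^ i * (q ^ (m - i) - 1)) := by
    apply Finset.prod_congr rfl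
    intro i hi
    rw [Finset.mem_range] at hi
    rw [Nat.mul_sub, mul_one, ← pow_add]
    congr 2
    omega
  have h3 : ∏ i ∈ range m, (q ^ (m - i) - 1) = ∏ i ∈ range m, (q ^ (i + 1) - 1) := by
    rw [← Finset.prod_range_reflect (fun i => q ^ (i + 1) - 1) m]
    apply Finset.prod_congr rfl
    intro i hi
    rw [Finset.mem_range] at hi
    congr 2
    omega
  rw [h1, h2, Finset.prod_mul_distrib, Finset.prod_pow_eq_pow_sum, h3]

theorem prod_split (q k : ℕ) : ∏ i ∈ range (2 * k), (q ^ (i + 1) - 1) =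
    (∏ j ∈ range k, (q ^ (2 * j + 1) - 1)) * ∏ j ∈ range k, (q ^ (2 * (j + 1)) - 1) := by
  induction k with
  | zero => simp
  | succ k ih =>
    have : 2 * (k + 1) = 2 * k + 1 + 1 := by ring
    rw [this, Finset.prod_range_succ, Finset.prod_range_succ, ih, Finset.prod_range_succ,
      Finset.prod_range_succ]
    have e : 2 * k + 1 + 1 = 2 * (k + 1) := by ring
    rw [e]
    ring

theorem sum_range_two_mul (k : ℕ) : ∑ i ∈ range (2 * (k + 1)), i = (k + 1) ^ 2 + (k + 1) * k := by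
  have h := Finset.sum_range_id_mul_two (2 * (k + 1))
  have e : 2 * (k + 1) - 1 = 2 * k + 1 := by omega
  rw [e] at h
  have : ((k + 1) ^ 2 + (k + 1) * k) * 2 = 2 * (k + 1) * (2 * k + 1) := by ring
  exact Nat.eq_of_mul_eq_mul_right (by norm_num : 0 < 2) (h.trans this.symm)

theorem card_SL_eq [Fintype F] {q : ℕ} (hq : Fintype.card F = q) (k : ℕ) :
    Nat.card (Matrix.SpecialLinearGroup (Fin (2 * (k + 1))) F) =
      Nat.card (Matrix.symplecticGroup (Fin (k + 1)) F) *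
        (q ^ ((k + 1) * k) * ∏ j ∈ range k, (q ^ (2 * j + 3) - 1)) := by
  have hq2 : 2 ≤ q := hq ▸ Fintype.one_lt_card
  have h1 := Cfsg.Agent.Lib.helper14.card_GL_eq_card_SL_mul (F := F) (2 * (k + 1)) (by omega)
  rw [Matrix.card_GL_field, hq, Nat.card_units, Nat.card_eq_fintype_card (α := F), hq, prod_GL, prod_split,
    sum_range_two_mul, Finset.prod_range_succ' (fun j => q ^ (2 * j + 1) - 1)] at h1
  rw [Cfsg.Agent.S0245.result hq (k + 1)]
  have hpos : 0 < q - 1 := by omega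
  apply Nat.eq_of_mul_eq_mul_right hpos
  rw [← h1, pow_add]
  simp only [Nat.mul_zero, Nat.zero_add, pow_one]
  have e : ∀ j, 2 * (j + 1) + 1 = 2 * j + 3 := fun j => by ring
  simp only [e]
  ring

/-- primes dividing the index -/
theorem index_cases [Fintype F] {p : ℕ} [hp : Fact p.Prime] [CharP F p] {q : ℕ}
    (hq : Fintype.card F = q) {n : ℕ} (hn : 4 ≤ n)
    (f : (Fin n → F) → (Fin n → F) → F) (hf : Cfsg.Geo.IsSymplecticForm f)
    (r : ℕ) [hr : Fact r.Prime] (hΩ : r ∣ (HH f).index) :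
    r = p ∨ ∃ i, 1 ≤ i ∧ 2 * i + 1 ≤ n - 1 ∧ r ∣ q ^ (2 * i + 1) - 1 := by
  obtain ⟨k, φ, hnk, hφ⟩ := SpSLa.exists_std f hf
  obtain ⟨k', rfl⟩ : ∃ k', k = k' + 1 := ⟨k - 1, by omega⟩
  subst hnk
  have h1 := Subgroup.index_mul_card (HH f)
  have h2 := card_dvd_HH φ f hφ
  rw [card_SL_eq hq k'] at h1
  have h3 : (HH f).index * Nat.card (Matrix.symplecticGroup (Fin (k' + 1)) F) ∣
      Nat.card (Matrix.symplecticGroup (Fin (k' + 1)) F) *
        (q ^ ((k' + 1) * k') * ∏ j ∈ range k', (q ^ (2 * j + 3) - 1)) := by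
    rw [← h1]
    exact Nat.mul_dvd_mul_left _ h2
  have hSp : 0 < Nat.card (Matrix.symplecticGroup (Fin (k' + 1)) F) := Nat.card_pos
  rw [mul_comm] at h3
  have h4 := Nat.dvd_of_mul_dvd_mul_left hSp h3
  have h5 := dvd_trans hΩ h4
  rcases (Nat.Prime.dvd_mul hr.out).mp h5 with h6 | h6
  · left
    have h7 := hr.out.dvd_of_dvd_pow h6
    obtain ⟨m, _, hm⟩ := FiniteField.card F p
    rw [hq] at hm
    rw [hm] at h7
    exact (Nat.prime_dvd_prime_iff_eq hr.out hp.out).mp (hr.out.dvd_of_dvd_pow h7)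
  · right
    obtain ⟨j, hj, hdiv⟩ := (Prime.dvd_finset_prod_iff (Nat.Prime.prime hr.out) _).mp h6
    rw [Finset.mem_range] at hj
    refine ⟨j + 1, by omega, by omega, ?_⟩
    have : 2 * (j + 1) + 1 = 2 * j + 3 := by ring
    rw [this]
    exact hdiv

end Cfsg.Agent.Lib.helper14.SpSLb
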