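import Mathlib
import Cfsg.Prelude.Def_GeometricClasses

set_option autoImplicit false

/-!
# The subfield subgroup `GL_n(F₀)·F^×` (with trivial change of basis) and conjugation into it
-/

namespace Cfsg.Agent.Lib.helper14.SubA

open Matrix Module

variable {F : Type*} [Field F] {n : ℕ}

/-- the subfield subgroup of `SL_n` -/
abbrev HS (n : ℕ) (F₀ : Subfield F) : Subgroup (Matrix.SpecialLinearGroup (Fin n) F) :=
  (Cfsg.Geo.subfieldSubgroup F₀ (1 : GL (Fin n) F)).comap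
    (Matrix.SpecialLinearGroup.toGL : Matrix.SpecialLinearGroup (Fin n) F →* GL (Fin n) F)

theorem mem_sub_one_iff (F₀ : Subfield F) (g : GL (Fin n) F) :
    g ∈ Cfsg.Geo.subfieldSubgroup F₀ (1 : GL (Fin n) F) ↔
      ∃ c : F, c ≠ 0 ∧ ∀ i j, c⁻¹ * (g : Matrix (Fin n) (Fin n) F) i j ∈ F₀ := by
  classical
  constructor
  · intro hg
    unfold Cfsg.Geo.subfieldSubgroup at hg
    rw [Subgroup.mem_map] at hg
    obtain ⟨x, hx, rfl⟩ := hg
    have hn := Cfsg.Geo.scalars_normal (ι := Fin n) (F := F)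
    rw [Subgroup.mem_sup_of_normal_right] at hx
    obtain ⟨A, ⟨A₀, rfl⟩, s, hs, rfl⟩ := hx
    rw [Cfsg.Geo.mem_scalars_iff] at hs
    obtain ⟨c, hc⟩ := hs
    refine ⟨(c : F), c.ne_zero, fun i j => ?_⟩
    have e1 : (((MulAut.conj (1 : GL (Fin n) F)).toMonoidHom
        (Matrix.GeneralLinearGroup.map F₀.subtype A₀ * s) : GL (Fin n) F) :
        Matrix (Fin n) (Fin n) F) =
        ((Matrix.GeneralLinearGroup.map F₀.subtype A₀ : GL (Fin n) F) :
          Matrix (Fin n) (Fin n) F) * (s : Matrix (Fin n) (Fin n) F) := by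
      show ((1 * (Matrix.GeneralLinearGroup.map F₀.subtype A₀ * s) * 1⁻¹ :
        GL (Fin n) F) : Matrix (Fin n) (Fin n) F) = _
      rw [one_mul, inv_one, mul_one, Units.val_mul]
    rw [e1, hc, Matrix.mul_smul, Matrix.mul_one, Matrix.smul_apply, smul_eq_mul, ← mul_assoc,
      inv_mul_cancel₀ c.ne_zero, one_mul, Matrix.GeneralLinearGroup.map_apply]
    exact (A₀ i j).2
  · rintro ⟨c, hc, h⟩
    set B : Matrix (Fin n) (Fin n) F := c⁻¹ • (g : Matrix (Fin n) (Fin n) F) with hB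
    have hBmem : ∀ i j, B i j ∈ F₀ := fun i j => h i j
    let B₀ : Matrix (Fin n) (Fin n) F₀ := fun i j => ⟨B i j, hBmem i j⟩
    have hB₀ : B₀.map F₀.subtype = B := by
      ext i j
      rfl
    have hdetB : B.det ≠ 0 := by
      rw [hB, Matrix.det_smul]
      have h2 : (g : Matrix (Fin n) (Fin n) F).det ≠ 0 := (Matrix.GeneralLinearGroup.det g).ne_zero
      exact mul_ne_zero (pow_ne_zero _ (inv_ne_zero hc)) h2
    have hdetB₀ : B₀.det ≠ 0 := by
      intro h0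
      apply hdetB
      rw [← hB₀, ← RingHom.mapMatrix_apply, ← RingHom.map_det, h0, map_zero]
    let A₀ : GL (Fin n) F₀ := Matrix.GeneralLinearGroup.mkOfDetNeZero B₀ hdetB₀
    let s : GL (Fin n) F :=
      Units.map (Matrix.scalar (Fin n) : F →+* Matrix (Fin n) (Fin n) F).toMonoidHom (Units.mk0 c hc)
    have hs : s ∈ Cfsg.Geo.scalars (Fin n) F := ⟨_, rfl⟩
    have hsv : (s : Matrix (Fin n) (Fin n) F) = c • (1 : Matrix (Fin n) (Fin n) F) := by
      show Matrix.scalar (Fin n) c = _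
      simp [Matrix.smul_one_eq_diagonal]
    unfold Cfsg.Geo.subfieldSubgroup
    rw [Subgroup.mem_map]
    refine ⟨Matrix.GeneralLinearGroup.map F₀.subtype A₀ * s,
      Subgroup.mul_mem_sup ⟨A₀, rfl⟩ hs, ?_⟩
    apply Units.ext
    show ((1 * (Matrix.GeneralLinearGroup.map F₀.subtype A₀ * s) * 1⁻¹ :
        GL (Fin n) F) : Matrix (Fin n) (Fin n) F) = _
    rw [one_mul, inv_one, mul_one, Units.val_mul, hsv]
    have hA : ((Matrix.GeneralLinearGroup.map F₀.subtype A₀ : GL (Fin n) F) :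
        Matrix (Fin n) (Fin n) F) = B := by
      rw [← hB₀]
      rfl
    rw [hA, hB, Matrix.mul_smul, Matrix.mul_one, smul_smul, mul_inv_cancel₀ hc, one_smul]

theorem mem_HS (F₀ : Subfield F) (x : Matrix.SpecialLinearGroup (Fin n) F) :
    x ∈ HS n F₀ ↔ ∃ c : F, c ≠ 0 ∧ ∀ i j, c⁻¹ * (x : Matrix (Fin n) (Fin n) F) i j ∈ F₀ := by
  rw [Subgroup.mem_comap, mem_sub_one_iff]
  rfl

/-- if `x P = P M` with `P ∈ SL_n` and `M` rational up to a scalar, then `P⁻¹ x P ∈ HS` -/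
theorem conj_mem_HS (F₀ : Subfield F) (x P : Matrix.SpecialLinearGroup (Fin n) F)
    (M : Matrix (Fin n) (Fin n) F)
    (h : (x : Matrix (Fin n) (Fin n) F) * (P : Matrix (Fin n) (Fin n) F) =
      (P : Matrix (Fin n) (Fin n) F) * M)
    (c : F) (hc : c ≠ 0) (hM : ∀ i j, c⁻¹ * M i j ∈ F₀) : P⁻¹ * x * P ∈ HS n F₀ := by
  rw [mem_HS]
  refine ⟨c, hc, ?_⟩
  have e : ((P⁻¹ * x * P : Matrix.SpecialLinearGroup (Fin n) F) : Matrix (Fin n) (Fin n) F) = M := by
    rw [Matrix.SpecialLinearGroup.coe_mul, Matrix.SpecialLinearGroup.coe_mul, Matrix.mul_assoc, h,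
      ← Matrix.mul_assoc, ← Matrix.SpecialLinearGroup.coe_mul, inv_mul_cancel,
      Matrix.SpecialLinearGroup.coe_one, Matrix.one_mul]
  rw [e]
  exact hM

/-- conjugating into the subfield subgroup: normal form `x = g M g'` with `M` rational up to a
scalar and centralizer elements of every determinant -/
theorem finish_sub (F₀ : Subfield F) {ι : Type*} [Fintype ι] [DecidableEq ι]
    (x : Matrix.SpecialLinearGroup (Fin n) F)
    (g : Matrix (Fin n) ι F) (g' : Matrix ι (Fin n) F) (hgg' : g * g' = 1) (hg'g : g' * g = 1)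
    (M : Matrix ι ι F) (hx : (x : Matrix (Fin n) (Fin n) F) = g * M * g')
    (c : F) (hc : c ≠ 0) (hM : ∀ i j, c⁻¹ * M i j ∈ F₀)
    (hC : ∀ d : F, d ≠ 0 → ∃ s : Matrix ι ι F, s * M = M * s ∧ s.det = d) :
    ∃ P : Matrix.SpecialLinearGroup (Fin n) F, P⁻¹ * x * P ∈ HS n F₀ := by
  have hcard : Fintype.card ι = Fintype.card (Fin n) := by
    have e := (Matrix.toLin'OfInv hg'g hgg').finrank_eq
    rw [Module.finrank_fintype_fun_eq_card, Module.finrank_fintype_fun_eq_card] at e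
    exact e
  let e : ι ≃ Fin n := Fintype.equivOfCardEq hcard
  set g₁ : Matrix (Fin n) (Fin n) F := g.submatrix id e.symm with hg₁
  set g₁' : Matrix (Fin n) (Fin n) F := g'.submatrix e.symm id with hg₁'
  set M₁ : Matrix (Fin n) (Fin n) F := M.submatrix e.symm e.symm with hM₁
  have h1 : g₁ * g₁' = 1 := by
    rw [hg₁, hg₁', Matrix.submatrix_mul_equiv, hgg', Matrix.submatrix_id_id]
  have h2 : g₁' * g₁ = 1 := by
    have := Matrix.submatrix_mul_equiv g' g e.symm (Equiv.refl (Fin n)) e.symm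
    rw [hg₁, hg₁']
    rw [show (id : Fin n → Fin n) = ⇑(Equiv.refl (Fin n)) from rfl, this, hg'g,
      Matrix.submatrix_one_equiv]
  have hx1 : (x : Matrix (Fin n) (Fin n) F) = g₁ * M₁ * g₁' := by
    rw [hx, hg₁, hM₁, hg₁', Matrix.submatrix_mul_equiv, Matrix.submatrix_mul_equiv]
    rfl
  have hδ : g₁.det * g₁'.det = 1 := by rw [← Matrix.det_mul, h1, Matrix.det_one]
  have hδ0 : g₁.det ≠ 0 := left_ne_zero_of_mul_eq_one hδ
  obtain ⟨s, hs1, hs2⟩ := hC (g₁.det)⁻¹ (inv_ne_zero hδ0)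
  set s₁ : Matrix (Fin n) (Fin n) F := s.submatrix e.symm e.symm with hs₁
  have hs₁M : s₁ * M₁ = M₁ * s₁ := by
    rw [hs₁, hM₁, Matrix.submatrix_mul_equiv, Matrix.submatrix_mul_equiv, hs1]
  have hs₁det : s₁.det = (g₁.det)⁻¹ := by
    rw [hs₁, Matrix.det_submatrix_equiv_self, hs2]
  obtain ⟨P, hP⟩ : ∃ P : Matrix.SpecialLinearGroup (Fin n) F,
      (P : Matrix (Fin n) (Fin n) F) = g₁ * s₁ :=
    ⟨⟨g₁ * s₁, by rw [Matrix.det_mul, hs₁det, mul_inv_cancel₀ hδ0]⟩, rfl⟩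
  refine ⟨P, conj_mem_HS F₀ x P M₁ ?_ c hc (fun i j => hM _ _)⟩
  rw [hP, hx1]
  calc g₁ * M₁ * g₁' * (g₁ * s₁) = g₁ * M₁ * (g₁' * g₁) * s₁ := by
        simp only [Matrix.mul_assoc]
    _ = g₁ * (M₁ * s₁) := by rw [h2, Matrix.mul_one, Matrix.mul_assoc]
    _ = g₁ * s₁ * M₁ := by rw [← hs₁M, Matrix.mul_assoc]

/-- the matrix of `x` in any basis, as a conjugate -/
theorem of_basis_gen {ι : Type*} [Fintype ι] [DecidableEq ι] (x : Matrix (Fin n) (Fin n) F)
    (B : Basis ι F (Fin n → F)) :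
    ∃ (g : Matrix (Fin n) ι F) (g' : Matrix ι (Fin n) F), g * g' = 1 ∧ g' * g = 1 ∧
      x = g * (LinearMap.toMatrix B B (Matrix.toLin' x)) * g' := by
  set e : Basis (Fin n) F (Fin n → F) := Pi.basisFun F (Fin n) with he
  refine ⟨e.toMatrix B, B.toMatrix e, Basis.toMatrix_mul_toMatrix_flip e B,
    Basis.toMatrix_mul_toMatrix_flip B e, ?_⟩
  rw [basis_toMatrix_mul_linearMap_toMatrix_mul_basis_toMatrix, he,
    LinearMap.toMatrix_eq_toMatrix', LinearMap.toMatrix'_toLin']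

end Cfsg.Agent.Lib.helper14.SubA
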