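import Mathlib
import Cfsg.Prelude.Def_GeometricClasses
import Cfsg.Agent.Lib.helper14.SubA
import Cfsg.Agent.Lib.helper14.SpSLb

set_option autoImplicit false

/-!
# The index of the subfield subgroup of `SL_n(q)`, `q = q₀^k` odd with `k` odd, is odd
-/

namespace Cfsg.Agent.Lib.helper14.SubB

open Matrix Module Finset

theorem geom_nat (a k : ℕ) (ha : 1 ≤ a) : a ^ k - 1 = (a - 1) * ∑ j ∈ Finset.range k, a ^ j := by
  have h1 : 1 ≤ a ^ k := Nat.one_le_pow _ _ ha
  zify [ha, h1]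
  have h := geom_sum_mul (a : ℤ) k
  rw [← h]
  ring

theorem geom_odd (a k : ℕ) (ha : Odd a) (hk : Odd k) : Odd (∑ j ∈ Finset.range k, a ^ j) := by
  rw [Nat.odd_iff, Finset.sum_nat_mod]
  have : ∀ j, a ^ j % 2 = 1 := fun j => Nat.odd_iff.mp ha.pow
  simp only [this, Finset.sum_const, Finset.card_range, smul_eq_mul, mul_one]
  exact Nat.odd_iff.mp hk

theorem card_SL_formula {K : Type*} [Field K] [Fintype K] (q : ℕ) (hq : Fintype.card K = q)
    (n : ℕ) (hn : 1 ≤ n) :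
    Nat.card (Matrix.SpecialLinearGroup (Fin n) K) * (q - 1) =
      q ^ (∑ i ∈ Finset.range n, i) * ∏ i ∈ Finset.range n, (q ^ (i + 1) - 1) := by
  have h1 := Cfsg.Agent.Lib.helper14.card_GL_eq_card_SL_mul (F := K) n hn
  rw [Matrix.card_GL_field, hq, Nat.card_units, Nat.card_eq_fintype_card (α := K), hq,
    SpSLb.prod_GL] at h1
  exact h1.symm

variable {F : Type*} [Field F] {n : ℕ}

theorem card_SL_dvd [Finite F] (F₀ : Subfield F) :
    Nat.card (Matrix.SpecialLinearGroup (Fin n) F₀) ∣ Nat.card (SubA.HS n F₀) := by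
  let φ : Matrix.SpecialLinearGroup (Fin n) F₀ →* Matrix.SpecialLinearGroup (Fin n) F :=
    Matrix.SpecialLinearGroup.map F₀.subtype
  have hinj : Function.Injective φ := by
    intro A B hAB
    apply Subtype.ext
    ext i j
    have h1 := congrArg (fun X : Matrix.SpecialLinearGroup (Fin n) F =>
      (X : Matrix (Fin n) (Fin n) F) i j) hAB
    simp only [φ, Matrix.SpecialLinearGroup.map_apply_coe, RingHom.mapMatrix_apply,
      Matrix.map_apply] at h1
    exact h1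
  have h2 : Nat.card (Matrix.SpecialLinearGroup (Fin n) F₀) = Nat.card φ.range :=
    Nat.card_congr (MonoidHom.ofInjective hinj).toEquiv
  rw [h2]
  apply Subgroup.card_dvd_of_le
  rintro _ ⟨A, rfl⟩
  rw [SubA.mem_HS]
  refine ⟨1, one_ne_zero, fun i j => ?_⟩
  simp only [φ, Matrix.SpecialLinearGroup.map_apply_coe, RingHom.mapMatrix_apply,
    Matrix.map_apply, inv_one, one_mul]
  exact (A.1 i j).2

theorem index_odd [Fintype F] (F₀ : Subfield F) (q q₀ k : ℕ) (hq : Fintype.card F = q)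
    (hF₀ : Nat.card F₀ = q₀) (hqk : q = q₀ ^ k) (hk : Odd k) (hodd : Odd q) (hn : 1 ≤ n) :
    ¬ 2 ∣ (SubA.HS n F₀).index := by
  classical
  haveI : Fintype F₀ := Fintype.ofFinite F₀
  have hq₀c : Fintype.card F₀ = q₀ := by rw [← hF₀, Nat.card_eq_fintype_card]
  have hq₀2 : 2 ≤ q₀ := by
    rw [← hq₀c]
    exact Fintype.one_lt_card
  have hq₀odd : Odd q₀ := by
    rw [hqk] at hodd
    by_contra h
    rw [Nat.not_odd_iff_even] at h
    have hk0 : k ≠ 0 := by
      rintro rfl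
      simp at hk
    exact (Nat.not_odd_iff_even.mpr (h.pow_of_ne_zero hk0)) hodd
  intro h2
  set I := (SubA.HS n F₀).index with hI
  set S := Nat.card (Matrix.SpecialLinearGroup (Fin n) F) with hS
  set S₀ := Nat.card (Matrix.SpecialLinearGroup (Fin n) F₀) with hS₀
  have hIh : I * Nat.card (SubA.HS n F₀) = S := Subgroup.index_mul_card _
  obtain ⟨t, ht⟩ := card_SL_dvd (n := n) F₀
  have hS₀pos : 0 < S₀ := Nat.card_pos
  have f1 := card_SL_formula q hq n hn
  have f2 := card_SL_formula q₀ hq₀c n hn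
  set C := ∑ i ∈ Finset.range n, i with hC
  -- factorizations
  have g1 : ∀ i, q ^ (i + 1) - 1 = (q₀ ^ (i + 1) - 1) * ∑ j ∈ Finset.range k, (q₀ ^ (i + 1)) ^ j := by
    intro i
    rw [hqk, ← pow_mul, mul_comm k, pow_mul]
    exact geom_nat _ _ (Nat.one_le_pow _ _ (by omega))
  have g0 : q - 1 = (q₀ - 1) * ∑ j ∈ Finset.range k, q₀ ^ j := by
    rw [hqk]
    exact geom_nat _ _ (by omega)
  set G := ∏ i ∈ Finset.range n, ∑ j ∈ Finset.range k, (q₀ ^ (i + 1)) ^ j with hG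
  set G₀ := ∑ j ∈ Finset.range k, q₀ ^ j with hG₀
  have hprod : ∏ i ∈ Finset.range n, (q ^ (i + 1) - 1) =
      (∏ i ∈ Finset.range n, (q₀ ^ (i + 1) - 1)) * G := by
    rw [hG, ← Finset.prod_mul_distrib]
    exact Finset.prod_congr rfl (fun i _ => g1 i)
  rw [hprod, g0] at f1
  rw [← hS] at f1
  rw [← hS₀] at f2
  -- combine
  have key : I * t * G₀ * q₀ ^ C = q ^ C * G := by
    have hpos : 0 < S₀ * (q₀ - 1) := Nat.mul_pos hS₀pos (by omega)
    apply Nat.eq_of_mul_eq_mul_left hpos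
    have e1 : S = I * (S₀ * t) := by rw [← hIh, ht]
    calc S₀ * (q₀ - 1) * (I * t * G₀ * q₀ ^ C)
        = (I * (S₀ * t)) * ((q₀ - 1) * G₀) * q₀ ^ C := by ring
      _ = S * ((q₀ - 1) * G₀) * q₀ ^ C := by rw [← e1]
      _ = q ^ C * ((∏ i ∈ Finset.range n, (q₀ ^ (i + 1) - 1)) * G) * q₀ ^ C := by rw [f1]
      _ = (q₀ ^ C * ∏ i ∈ Finset.range n, (q₀ ^ (i + 1) - 1)) * (q ^ C * G) := by ring
      _ = S₀ * (q₀ - 1) * (q ^ C * G) := by rw [← f2]
  have hodd2 : ¬ 2 ∣ q ^ C * G := by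
    intro hd
    rcases (Nat.Prime.dvd_mul Nat.prime_two).mp hd with h | h
    · have := Nat.Prime.dvd_of_dvd_pow Nat.prime_two h
      exact (Nat.not_even_iff_odd.mpr hodd) (even_iff_two_dvd.mpr this)
    · rw [hG, Prime.dvd_finset_prod_iff Nat.prime_two.prime] at h
      obtain ⟨i, _, hi⟩ := h
      have := geom_odd (q₀ ^ (i + 1)) k hq₀odd.pow hk
      exact (Nat.not_even_iff_odd.mpr this) (even_iff_two_dvd.mpr hi)
  apply hodd2
  rw [← key]
  exact Dvd.dvd.mul_right (Dvd.dvd.mul_right (Dvd.dvd.mul_right h2 _) _) _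

end Cfsg.Agent.Lib.helper14.SubB
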