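import Mathlib
import Cfsg.Prelude.Def_GeometricClasses

set_option autoImplicit false

/-!
# Normalizers of quadratic field subalgebras of `M_n(F)`: structure and a conjugation lemma
-/

namespace Cfsg.Agent.Lib.helper14.FldA

open Matrix Module

variable {F : Type*} [Field F] {n : ℕ}

/-- the normalizer of `K` in `SL_n` -/
abbrev NK (K : Subalgebra F (Matrix (Fin n) (Fin n) F)) :
    Subgroup (Matrix.SpecialLinearGroup (Fin n) F) :=
  (Cfsg.Geo.subalgebraNormalizer K).comap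
    (Matrix.SpecialLinearGroup.toGL : Matrix.SpecialLinearGroup (Fin n) F →* GL (Fin n) F)

theorem mem_NK (K : Subalgebra F (Matrix (Fin n) (Fin n) F))
    (Y : Matrix.SpecialLinearGroup (Fin n) F) :
    Y ∈ NK K ↔ ∀ m : Matrix (Fin n) (Fin n) F, m ∈ K ↔
      (Y : Matrix (Fin n) (Fin n) F) * m *
        ((Y⁻¹ : Matrix.SpecialLinearGroup (Fin n) F) : Matrix (Fin n) (Fin n) F) ∈ K := by
  rw [Subgroup.mem_comap]
  show (∀ m : Matrix (Fin n) (Fin n) F, m ∈ K ↔
    ((Matrix.SpecialLinearGroup.toGL Y : GL (Fin n) F) : Matrix (Fin n) (Fin n) F) * m *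
      (((Matrix.SpecialLinearGroup.toGL Y)⁻¹ : GL (Fin n) F) : Matrix (Fin n) (Fin n) F) ∈ K) ↔ _
  rw [← map_inv]
  rfl

/-- structure of a quadratic field subalgebra -/
theorem exists_gen (hn : 1 ≤ n) (K : Subalgebra F (Matrix (Fin n) (Fin n) F))
    (hK : Cfsg.Geo.IsFieldSubalgebra 2 K) :
    ∃ (κ : Matrix (Fin n) (Fin n) F) (T D : F), κ ∈ K ∧
      (∀ m : Matrix (Fin n) (Fin n) F, m ∈ K ↔
        ∃ a b : F, m = a • (1 : Matrix (Fin n) (Fin n) F) + b • κ) ∧
      κ * κ = T • κ - D • (1 : Matrix (Fin n) (Fin n) F) ∧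
      (∀ t : F, t * t - T * t + D ≠ 0) ∧
      (∀ a : F, κ ≠ a • (1 : Matrix (Fin n) (Fin n) F)) := by
  classical
  have hne : Nonempty (Fin n) := ⟨⟨0, by omega⟩⟩
  have h1ne : (1 : Matrix (Fin n) (Fin n) F) ≠ 0 := one_ne_zero
  have hfr : finrank F K.toSubmodule = 2 := hK.finrank_eq
  -- a non-scalar element
  obtain ⟨κ, hκK, hκns⟩ : ∃ κ ∈ K, ∀ a : F, κ ≠ a • (1 : Matrix (Fin n) (Fin n) F) := by
    by_contra hcon
    push Not at hcon
    have hle : K.toSubmodule ≤ Submodule.span F {(1 : Matrix (Fin n) (Fin n) F)} := by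
      intro m hm
      obtain ⟨a, ha⟩ := hcon m hm
      rw [Submodule.mem_span_singleton]
      exact ⟨a, ha.symm⟩
    have h1 := Submodule.finrank_mono hle
    have h2 : finrank F (Submodule.span F {(1 : Matrix (Fin n) (Fin n) F)}) ≤ 1 := by
      have := finrank_span_le_card (R := F) ({(1 : Matrix (Fin n) (Fin n) F)} : Set _)
      simpa using this
    omega
  have hli : LinearIndependent F ![(1 : Matrix (Fin n) (Fin n) F), κ] := by
    rw [LinearIndependent.pair_iff]
    intro a b hab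
    have hb : b = 0 := by
      by_contra hb
      apply hκns (-(b⁻¹ * a))
      have : b • κ = -(a • (1 : Matrix (Fin n) (Fin n) F)) := eq_neg_of_add_eq_zero_right hab
      calc κ = b⁻¹ • (b • κ) := by rw [smul_smul, inv_mul_cancel₀ hb, one_smul]
        _ = -(b⁻¹ * a) • (1 : Matrix (Fin n) (Fin n) F) := by
            rw [this, smul_neg, smul_smul, neg_smul]
    refine ⟨?_, hb⟩
    rw [hb, zero_smul, add_zero] at hab
    by_contra ha
    apply h1ne
    rw [← one_smul F (1 : Matrix (Fin n) (Fin n) F), ← inv_mul_cancel₀ ha, mul_smul, hab, smul_zero]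
  have hspanle : Submodule.span F (Set.range ![(1 : Matrix (Fin n) (Fin n) F), κ]) ≤
      K.toSubmodule := by
    rw [Submodule.span_le]
    rintro _ ⟨i, rfl⟩
    fin_cases i
    · exact K.one_mem
    · exact hκK
  have hspanfr : finrank F (Submodule.span F (Set.range ![(1 : Matrix (Fin n) (Fin n) F), κ])) = 2 := by
    rw [finrank_span_eq_card hli]
    simp
  have hspaneq : Submodule.span F (Set.range ![(1 : Matrix (Fin n) (Fin n) F), κ]) =
      K.toSubmodule :=
    Submodule.eq_of_le_of_finrank_eq hspanle (by rw [hspanfr, hfr])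
  have hmem : ∀ m : Matrix (Fin n) (Fin n) F, m ∈ K ↔
      ∃ a b : F, m = a • (1 : Matrix (Fin n) (Fin n) F) + b • κ := by
    intro m
    have : m ∈ K ↔ m ∈ K.toSubmodule := Iff.rfl
    rw [this, ← hspaneq]
    have e : Set.range ![(1 : Matrix (Fin n) (Fin n) F), κ] = {1, κ} := by
      ext y
      simp only [Set.mem_range, Set.mem_insert_iff, Set.mem_singleton_iff]
      constructor
      · rintro ⟨i, rfl⟩
        fin_cases i
        · left; rfl
        · right; rfl
      · rintro (rfl | rfl)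
        · exact ⟨0, rfl⟩
        · exact ⟨1, rfl⟩
    rw [e, Submodule.mem_span_pair]
    constructor
    · rintro ⟨a, b, h⟩
      exact ⟨a, b, h.symm⟩
    · rintro ⟨a, b, h⟩
      exact ⟨a, b, h.symm⟩
  obtain ⟨a₀, b₀, hκκ⟩ := (hmem (κ * κ)).mp (K.mul_mem hκK hκK)
  refine ⟨κ, b₀, -a₀, hκK, hmem, ?_, ?_, hκns⟩
  · rw [hκκ, neg_smul, sub_neg_eq_add, add_comm]
  · intro t ht
    -- (κ - t)(κ - (b₀ - t)) = 0
    set A : Matrix (Fin n) (Fin n) F := κ - t • (1 : Matrix (Fin n) (Fin n) F) with hA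
    set B : Matrix (Fin n) (Fin n) F := κ - (b₀ - t) • (1 : Matrix (Fin n) (Fin n) F) with hB
    have hAK : A ∈ K := K.sub_mem hκK (K.smul_mem K.one_mem t)
    have hBK : B ∈ K := K.sub_mem hκK (K.smul_mem K.one_mem _)
    have hA0 : A ≠ 0 := fun h => hκns t (sub_eq_zero.mp h)
    have hB0 : B ≠ 0 := fun h => hκns (b₀ - t) (sub_eq_zero.mp h)
    have hAB : A * B = 0 := by
      rw [hA, hB, Matrix.sub_mul, Matrix.mul_sub, Matrix.mul_sub, hκκ]
      simp only [Matrix.smul_mul, Matrix.mul_smul, Matrix.one_mul, Matrix.mul_one, smul_smul]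
      have e : a₀ • (1 : Matrix (Fin n) (Fin n) F) + b₀ • κ - (b₀ - t) • κ -
          (t • κ - ((b₀ - t) * t) • (1 : Matrix (Fin n) (Fin n) F)) =
          (a₀ + (b₀ - t) * t) • (1 : Matrix (Fin n) (Fin n) F) := by
        rw [sub_smul, add_smul]
        abel
      rw [e]
      have : a₀ + (b₀ - t) * t = 0 := by linear_combination -ht
      rw [this, zero_smul]
    obtain ⟨y, hyK, hy⟩ := hK.inv A hAK hA0
    apply hB0
    calc B = (y * A) * B := by rw [← hK.comm A hAK y hyK, hy, Matrix.one_mul]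
      _ = y * (A * B) := Matrix.mul_assoc _ _ _
      _ = 0 := by rw [hAB, Matrix.mul_zero]

/-- an element of `SL_n` acting on the generator by the identity or by the conjugation of `K`
normalizes `K` -/
theorem mem_NK_of_rel (K : Subalgebra F (Matrix (Fin n) (Fin n) F))
    (κ κt : Matrix (Fin n) (Fin n) F)
    (hspan : ∀ m : Matrix (Fin n) (Fin n) F, m ∈ K ↔
      ∃ a b : F, m = a • (1 : Matrix (Fin n) (Fin n) F) + b • κ)
    (T : F) (hκt : κt = κ ∨ κt = T • (1 : Matrix (Fin n) (Fin n) F) - κ)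
    (Y : Matrix.SpecialLinearGroup (Fin n) F)
    (hY : (Y : Matrix (Fin n) (Fin n) F) * κ = κt * (Y : Matrix (Fin n) (Fin n) F)) :
    Y ∈ NK K := by
  set Yi : Matrix (Fin n) (Fin n) F :=
    ((Y⁻¹ : Matrix.SpecialLinearGroup (Fin n) F) : Matrix (Fin n) (Fin n) F) with hYi
  have hYYi : (Y : Matrix (Fin n) (Fin n) F) * Yi = 1 := by
    rw [hYi, ← Matrix.SpecialLinearGroup.coe_mul, mul_inv_cancel, Matrix.SpecialLinearGroup.coe_one]
  have hYiY : Yi * (Y : Matrix (Fin n) (Fin n) F) = 1 := by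
    rw [hYi, ← Matrix.SpecialLinearGroup.coe_mul, inv_mul_cancel, Matrix.SpecialLinearGroup.coe_one]
  have hκtK : κt ∈ K := by
    rw [hspan]
    rcases hκt with h | h
    · exact ⟨0, 1, by rw [h, zero_smul, zero_add, one_smul]⟩
    · exact ⟨T, -1, by rw [h, neg_smul, one_smul, sub_eq_add_neg]⟩
  have hY' : (Y : Matrix (Fin n) (Fin n) F) * κt = κ * (Y : Matrix (Fin n) (Fin n) F) := by
    rcases hκt with h | h
    · rw [h] at hY ⊢
      exact hY
    · rw [h, Matrix.mul_sub, hY, h, Matrix.sub_mul, Matrix.mul_smul,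
        Matrix.smul_mul, Matrix.mul_one, Matrix.one_mul]
      abel
  rw [mem_NK]
  intro m
  constructor
  · intro hm
    obtain ⟨a, b, rfl⟩ := (hspan m).mp hm
    have : (Y : Matrix (Fin n) (Fin n) F) * (a • (1 : Matrix (Fin n) (Fin n) F) + b • κ) * Yi =
        a • (1 : Matrix (Fin n) (Fin n) F) + b • κt := by
      rw [Matrix.mul_add, Matrix.mul_smul, Matrix.mul_smul, Matrix.mul_one, hY, Matrix.add_mul,
        Matrix.smul_mul, Matrix.smul_mul, Matrix.mul_assoc, hYYi, Matrix.mul_one]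
    rw [this]
    exact K.add_mem (K.smul_mem K.one_mem a) (K.smul_mem hκtK b)
  · intro hm
    obtain ⟨a, b, hab⟩ := (hspan _).mp hm
    have : m = a • (1 : Matrix (Fin n) (Fin n) F) + b • κt := by
      calc m = Yi * ((Y : Matrix (Fin n) (Fin n) F) * m * Yi) * (Y : Matrix (Fin n) (Fin n) F) := by
            rw [Matrix.mul_assoc, Matrix.mul_assoc, hYiY, Matrix.mul_one, ← Matrix.mul_assoc, hYiY,
              Matrix.one_mul]
        _ = Yi * ((a • (1 : Matrix (Fin n) (Fin n) F) + b • κ) * (Y : Matrix (Fin n) (Fin n) F)) := by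
            rw [hab, Matrix.mul_assoc]
        _ = Yi * ((Y : Matrix (Fin n) (Fin n) F) * (a • (1 : Matrix (Fin n) (Fin n) F) + b • κt)) := by
            congr 1
            rw [Matrix.add_mul, Matrix.mul_add, Matrix.smul_mul, Matrix.smul_mul, Matrix.mul_smul,
              Matrix.mul_smul, hY', Matrix.one_mul, Matrix.mul_one]
        _ = a • (1 : Matrix (Fin n) (Fin n) F) + b • κt := by
            rw [← Matrix.mul_assoc, hYiY, Matrix.one_mul]
    rw [this]
    exact K.add_mem (K.smul_mem K.one_mem a) (K.smul_mem hκtK b)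

/-- conjugation lemma: `x` twists a conjugate `κ'` of `κ` -/
theorem conj_twist (x : Matrix.SpecialLinearGroup (Fin n) F)
    (κ κt κ' κt' Q Q' : Matrix (Fin n) (Fin n) F) (hQQ' : Q * Q' = 1) (hQ'Q : Q' * Q = 1)
    (h1 : κ' = Q * κ * Q') (h2 : κt' = Q * κt * Q')
    (hx : (x : Matrix (Fin n) (Fin n) F) * κ' = κt' * (x : Matrix (Fin n) (Fin n) F))
    (hs : ∀ d : F, d ≠ 0 → ∃ s : Matrix (Fin n) (Fin n) F,
      s * κ = κ * s ∧ s * κt = κt * s ∧ s.det = d) :
    ∃ P : Matrix.SpecialLinearGroup (Fin n) F,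
      ((P⁻¹ * x * P : Matrix.SpecialLinearGroup (Fin n) F) : Matrix (Fin n) (Fin n) F) * κ =
        κt * ((P⁻¹ * x * P : Matrix.SpecialLinearGroup (Fin n) F) : Matrix (Fin n) (Fin n) F) := by
  have hδ : Q.det * Q'.det = 1 := by rw [← Matrix.det_mul, hQQ', Matrix.det_one]
  have hδ0 : Q.det ≠ 0 := left_ne_zero_of_mul_eq_one hδ
  obtain ⟨s, hs1, hs2, hs3⟩ := hs (Q.det)⁻¹ (inv_ne_zero hδ0)
  obtain ⟨P, hP⟩ : ∃ P : Matrix.SpecialLinearGroup (Fin n) F,
      (P : Matrix (Fin n) (Fin n) F) = Q * s :=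
    ⟨⟨Q * s, by rw [Matrix.det_mul, hs3, mul_inv_cancel₀ hδ0]⟩, rfl⟩
  refine ⟨P, ?_⟩
  set Pi : Matrix (Fin n) (Fin n) F :=
    ((P⁻¹ : Matrix.SpecialLinearGroup (Fin n) F) : Matrix (Fin n) (Fin n) F) with hPi
  have hPPi : (P : Matrix (Fin n) (Fin n) F) * Pi = 1 := by
    rw [hPi, ← Matrix.SpecialLinearGroup.coe_mul, mul_inv_cancel, Matrix.SpecialLinearGroup.coe_one]
  have hPiP : Pi * (P : Matrix (Fin n) (Fin n) F) = 1 := by
    rw [hPi, ← Matrix.SpecialLinearGroup.coe_mul, inv_mul_cancel, Matrix.SpecialLinearGroup.coe_one]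
  have hY : ((P⁻¹ * x * P : Matrix.SpecialLinearGroup (Fin n) F) : Matrix (Fin n) (Fin n) F) =
      Pi * (x : Matrix (Fin n) (Fin n) F) * (P : Matrix (Fin n) (Fin n) F) := by
    rw [Matrix.SpecialLinearGroup.coe_mul, Matrix.SpecialLinearGroup.coe_mul]
  rw [hY]
  have e1 : κ' * Q = Q * κ := by
    rw [h1, Matrix.mul_assoc, hQ'Q, Matrix.mul_one]
  have e2 : κt' * Q = Q * κt := by
    rw [h2, Matrix.mul_assoc, hQ'Q, Matrix.mul_one]
  have e3 : (x : Matrix (Fin n) (Fin n) F) * (P : Matrix (Fin n) (Fin n) F) * κ =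
      (P : Matrix (Fin n) (Fin n) F) * κt * (Pi * (x : Matrix (Fin n) (Fin n) F) *
        (P : Matrix (Fin n) (Fin n) F)) := by
    calc (x : Matrix (Fin n) (Fin n) F) * (P : Matrix (Fin n) (Fin n) F) * κ
        = (x : Matrix (Fin n) (Fin n) F) * (Q * (s * κ)) := by
          rw [hP]; simp only [Matrix.mul_assoc]
      _ = (x : Matrix (Fin n) (Fin n) F) * ((Q * κ) * s) := by
          rw [hs1]; simp only [Matrix.mul_assoc]
      _ = ((x : Matrix (Fin n) (Fin n) F) * κ') * (Q * s) := by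
          rw [← e1]; simp only [Matrix.mul_assoc]
      _ = κt' * (x : Matrix (Fin n) (Fin n) F) * (Q * s) := by rw [hx]
      _ = κt' * ((P : Matrix (Fin n) (Fin n) F) * Pi) * (x : Matrix (Fin n) (Fin n) F) * (Q * s) := by
          rw [hPPi, Matrix.mul_one]
      _ = (κt' * Q) * s * (Pi * (x : Matrix (Fin n) (Fin n) F) * (P : Matrix (Fin n) (Fin n) F)) := by
          rw [hP]; simp only [Matrix.mul_assoc]
      _ = Q * (κt * s) * (Pi * (x : Matrix (Fin n) (Fin n) F) * (P : Matrix (Fin n) (Fin n) F)) := by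
          rw [e2]; simp only [Matrix.mul_assoc]
      _ = (P : Matrix (Fin n) (Fin n) F) * κt * (Pi * (x : Matrix (Fin n) (Fin n) F) *
            (P : Matrix (Fin n) (Fin n) F)) := by
          rw [← hs2, hP]; simp only [Matrix.mul_assoc]
  calc Pi * (x : Matrix (Fin n) (Fin n) F) * (P : Matrix (Fin n) (Fin n) F) * κ
      = Pi * ((x : Matrix (Fin n) (Fin n) F) * (P : Matrix (Fin n) (Fin n) F) * κ) := by
        simp only [Matrix.mul_assoc]
    _ = (Pi * (P : Matrix (Fin n) (Fin n) F)) * κt * (Pi * (x : Matrix (Fin n) (Fin n) F) *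
          (P : Matrix (Fin n) (Fin n) F)) := by
        rw [e3]; simp only [Matrix.mul_assoc]
    _ = κt * (Pi * (x : Matrix (Fin n) (Fin n) F) * (P : Matrix (Fin n) (Fin n) F)) := by
        rw [hPiP, Matrix.one_mul]

end Cfsg.Agent.Lib.helper14.FldA
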