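import Mathlib
import Cfsg.Prelude.Def_Characters
import Cfsg.Agent.Lib.helper7.PM2.Defs

/-!
# Project PM2 (S4705), piece TI1: every `p`-singular element is conjugate to some `x^m c`
-/

set_option autoImplicit false
set_option linter.unusedVariables false
set_option linter.unusedSectionVars false

namespace Cfsg.Agent.Lib.helper7.PM2

open scoped ComplexConjugate

universe u

/-- conjugation preserves the order -/
theorem pm2ti1_orderOf_conj {G : Type u} [Group G] (h y : G) : orderOf (h⁻¹ * y * h) = orderOf y := by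
  have := MulEquiv.orderOf_eq (MulAut.conj h⁻¹) y
  rw [MulAut.conj_apply, inv_inv] at this
  exact this

/-- in a finite group whose order is not divisible by `p²`, two elements of order `p` generate conjugate subgroups -/
theorem pm2ti1_conj_pow {G : Type u} [Group G] [Finite G] (p : ℕ) (hp : p.Prime)
    (hsyl : ¬ p ^ 2 ∣ Nat.card G) (x y : G) (hx : orderOf x = p) (hy : orderOf y = p) :
    ∃ h : G, h⁻¹ * y * h ∈ Subgroup.zpowers x ∧ x ∈ Subgroup.zpowers (h⁻¹ * y * h) := by
  haveI : Fact p.Prime := ⟨hp⟩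
  have hcard0 : Nat.card G ≠ 0 := Nat.card_pos.ne'
  have hfac : (Nat.card G).factorization p = 1 := by
    have h1 : 1 ≤ (Nat.card G).factorization p := by
      rw [← hp.pow_dvd_iff_le_factorization hcard0, pow_one, ← hx]
      exact orderOf_dvd_natCard x
    have h2 : ¬ 2 ≤ (Nat.card G).factorization p := by
      rw [← hp.pow_dvd_iff_le_factorization hcard0]
      exact hsyl
    omega
  have hsylcard : ∀ P : Sylow p G, Nat.card P = p := by
    intro P
    rw [Sylow.card_eq_multiplicity, hfac, pow_one]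
  have hpg : ∀ z : G, orderOf z = p → ∃ P : Sylow p G, Subgroup.zpowers z = (P : Subgroup G) := by
    intro z hz
    have hz' : IsPGroup p (Subgroup.zpowers z) := by
      apply IsPGroup.of_card (n := 1)
      rw [Nat.card_zpowers, hz, pow_one]
    obtain ⟨P, hP⟩ := hz'.exists_le_sylow
    refine ⟨P, Subgroup.eq_of_le_of_card_ge hP ?_⟩
    rw [hsylcard P, Nat.card_zpowers, hz]
  obtain ⟨P, hP⟩ := hpg x hx
  obtain ⟨Q, hQ⟩ := hpg y hy
  obtain ⟨h, hh⟩ := MulAction.exists_smul_eq G P Q
  have hyQ : y ∈ (Q : Subgroup G) := by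
    rw [← hQ]
    exact Subgroup.mem_zpowers y
  rw [← hh, Sylow.coe_subgroup_smul, Subgroup.mem_pointwise_smul_iff_inv_smul_mem, ← hP] at hyQ
  have e : (MulAut.conj h)⁻¹ • y = h⁻¹ * y * h := by
    rw [← map_inv, MulAut.smul_def, MulAut.conj_apply, inv_inv]
  rw [e] at hyQ
  refine ⟨h, hyQ, ?_⟩
  have hord : orderOf (h⁻¹ * y * h) = p := by
    rw [pm2ti1_orderOf_conj, hy]
  have hle : Subgroup.zpowers (h⁻¹ * y * h) ≤ Subgroup.zpowers x := by
    rw [Subgroup.zpowers_le]
    exact hyQ
  have heq : Subgroup.zpowers (h⁻¹ * y * h) = Subgroup.zpowers x := by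
    apply Subgroup.eq_of_le_of_card_ge hle
    rw [Nat.card_zpowers, Nat.card_zpowers, hx, hord]
  rw [heq]
  exact Subgroup.mem_zpowers x

section setting

variable {G : Type u} [Group G] [Fintype G] {p : ℕ} {ζ : G → ℂ} {x : G} {ω : ℂ}

/-- `x` is not central -/
theorem pm2ti1_x_not_central (S : Setting p ζ x ω) : x ∉ Subgroup.center G := by
  intro hx
  obtain ⟨τ, hτ⟩ := S.inv
  have h1 : τ * x * τ⁻¹ = x := by
    rw [Subgroup.mem_center_iff] at hx
    rw [hx τ, mul_inv_cancel_right]
  rw [h1] at hτ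
  have h2 : x ^ 2 = 1 := by
    rw [pow_two]
    nth_rewrite 2 [hτ]
    exact mul_inv_cancel x
  have h3 := orderOf_dvd_of_pow_eq_one h2
  rw [S.ordx] at h3
  have := Nat.le_of_dvd (by norm_num) h3
  have := S.hp5
  omega

/-- there is no central element of order `p` -/
theorem pm2ti1_no_central (S : Setting p ζ x ω) (z : G) (hz : z ∈ Subgroup.center G)
    (hzo : orderOf z = p) : False := by
  obtain ⟨h, h1, h2⟩ := pm2ti1_conj_pow p S.hp S.sylow x z S.ordx hzo
  have e : h⁻¹ * z * h = z := by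
    rw [Subgroup.mem_center_iff] at hz
    rw [mul_assoc, ← hz h, inv_mul_cancel_left]
  rw [e] at h2
  apply pm2ti1_x_not_central S
  have hle : Subgroup.zpowers z ≤ Subgroup.center G := by
    rw [Subgroup.zpowers_le]
    exact hz
  exact hle h2

/-- TI1 : every `p`-singular element is conjugate to some `x^m c` -/
theorem sing_conj (S : Setting p ζ x ω) (g : G) (hg : p ∣ orderOf g) :
    ∃ h : G, ∃ m ∈ Finset.Ico 1 p, ∃ c ∈ Subgroup.center G, g = h * (x ^ m * c) * h⁻¹ := by
  have hp := S.hp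
  obtain ⟨d, hd⟩ := hg
  have hgpos : 0 < orderOf g := orderOf_pos g
  have hd0 : d ≠ 0 := by
    rintro rfl
    rw [mul_zero] at hd
    omega
  set y := g ^ d with hy
  have hyo : orderOf y = p := by
    rw [hy, orderOf_pow' g hd0, hd, Nat.gcd_mul_left_left, Nat.mul_div_cancel _ (Nat.pos_of_ne_zero hd0)]
  obtain ⟨h, h1, h2⟩ := pm2ti1_conj_pow p hp S.sylow x y S.ordx hyo
  set g' := h⁻¹ * g * h with hg'
  have hy' : h⁻¹ * y * h = g' ^ d := by
    rw [hg', hy]
    have : h⁻¹ * g * h = h⁻¹ * g * h⁻¹⁻¹ := by rw [inv_inv]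
    rw [this, conj_pow, inv_inv]
  have hcomm : Commute g' (h⁻¹ * y * h) := by
    rw [hy']
    exact (Commute.refl g').pow_right d
  have hcx : Commute g' x := by
    obtain ⟨k, hk⟩ := Subgroup.mem_zpowers_iff.mp h2
    rw [← hk]
    exact hcomm.zpow_right k
  obtain ⟨m, c, hc, e⟩ := S.cent g' hcx.eq
  have hmod : x ^ m = x ^ (m % p) := by
    rw [← S.ordx, pow_mod_orderOf]
  have hne : m % p ≠ 0 := by
    intro h0
    rw [hmod, h0, pow_zero, one_mul] at e
    -- `g' = c` is central, so `h⁻¹ y h` is a central element of order `p`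
    apply pm2ti1_no_central S (h⁻¹ * y * h)
    · rw [hy', e]
      exact Subgroup.pow_mem _ hc d
    · rw [pm2ti1_orderOf_conj, hyo]
  refine ⟨h, m % p, ?_, c, hc, ?_⟩
  · rw [Finset.mem_Ico]
    exact ⟨Nat.pos_of_ne_zero hne, Nat.mod_lt _ hp.pos⟩
  · rw [← hmod, ← e, hg']
    group

end setting

end Cfsg.Agent.Lib.helper7.PM2
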