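import Mathlib
import Cfsg.Agent.Lib.helper7.REE.Defs

set_option autoImplicit false

/-!
# REE row GENG (`cyclic_count`), helper14: elements of a given order in a cyclic subgroup.
-/

namespace Cfsg.Agent.Lib.helper7.REE

universe u
variable {G : Type u} [Group G] [Finite G]

theorem cyclic_count (A : Subgroup G) (hA : IsCyclic A) (d : ℕ) (hd : d ∣ Nat.card A) :
    Nat.card ({a : G | a ∈ A ∧ orderOf a = d} : Set G) = Nat.totient d ∧
      ∃ a ∈ A, orderOf a = d := by
  classical
  have : Fintype A := Fintype.ofFinite A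
  have hd' : d ∣ Fintype.card A := by rwa [← Nat.card_eq_fintype_card]
  have h1 : (Finset.univ.filter (fun a : A => orderOf a = d)).card = Nat.totient d :=
    IsCyclic.card_orderOf_eq_totient hd'
  have hcard : Nat.card ({a : G | a ∈ A ∧ orderOf a = d} : Set G) = Nat.totient d := by
    rw [← h1]
    have e : ({a : G | a ∈ A ∧ orderOf a = d} : Set G) ≃ {a : A // orderOf a = d} :=
      { toFun := fun x => ⟨⟨x.1, x.2.1⟩, by rw [← Subgroup.orderOf_coe]; exact x.2.2⟩
        invFun := fun y => ⟨y.1.1, ⟨y.1.2, by rw [Subgroup.orderOf_coe]; exact y.2⟩⟩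
        left_inv := fun x => rfl
        right_inv := fun y => rfl }
    rw [Nat.card_congr e, Nat.card_eq_fintype_card, Fintype.card_subtype]
  refine ⟨hcard, ?_⟩
  have hdpos : 0 < d := Nat.pos_of_dvd_of_pos hd Nat.card_pos
  have hpos : 0 < (Finset.univ.filter (fun a : A => orderOf a = d)).card := by
    rw [h1]; exact Nat.totient_pos.mpr hdpos
  obtain ⟨a, ha⟩ := Finset.card_pos.mp hpos
  rw [Finset.mem_filter] at ha
  exact ⟨a.1, a.2, by rw [Subgroup.orderOf_coe]; exact ha.2⟩

end Cfsg.Agent.Lib.helper7.REE
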