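import Mathlib
import Cfsg.Prelude.Def_Classical
import Cfsg.Agent.Lib.Helper1.S8U.Defs

set_option autoImplicit false

/-!
Project S8U (helper1), row ORODD: an isometry of odd order has even `rank (g - 1)`
(its Dickson character is trivial).
-/

namespace Cfsg.Agent.Lib.Helper1.S8U

open Matrix Module Polynomial Cfsg.Agent.Lib.Helper16 Cfsg.Agent.Lib.Helper13.OTS Cfsg.Agent.Lib.Helper19.SO8
  Cfsg.Agent.Lib.helper14.OrthInv

theorem or_odd {F : Type*} [Field F] [Fintype F] [CharP F 2] (d : ℕ) (s : ℤ) (n : ℕ) (hn : Odd n)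
    (h : OReal F d s n) : OR F d s n 0 False := by
  obtain ⟨ι, i1, i2, Qs, hs, g, hord⟩ := h
  refine ⟨ι, i1, i2, Qs, hs, g, hord, ?_, fun hf => hf.elim⟩
  have h1 : (C2.dickson Qs hs.nd g) ^ n = 1 := by
    rw [← map_pow, ← hord, pow_orderOf_eq_one, map_one]
  have h2 : (C2.dickson Qs hs.nd g) ^ 2 = 1 := Int.units_sq _
  have h3 : C2.dickson Qs hs.nd g = 1 := by
    obtain ⟨k, rfl⟩ := hn
    rw [pow_succ, pow_mul, h2, one_pow, one_mul] at h1
    exact h1
  have h4 := (Cfsg.Agent.Lib.helper14.OmegaInv.dickson_eq_one_iff_even Qs hs.nd g).1 h3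
  exact Nat.even_iff.1 h4

end Cfsg.Agent.Lib.Helper1.S8U
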