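import Mathlib
import Cfsg.Prelude.Def_Classical
import Cfsg.Agent.Lib.Helper1.S8U.Defs

set_option autoImplicit false

/-!
Project S8U (helper1), row ORONE: the identity is `OR d s 1 0 True`.
-/

namespace Cfsg.Agent.Lib.Helper1.S8U

open Matrix Module Polynomial Cfsg.Agent.Lib.Helper16 Cfsg.Agent.Lib.Helper13.OTS Cfsg.Agent.Lib.Helper19.SO8
  Cfsg.Agent.Lib.helper14.OrthInv

theorem or_one {F : Type*} [Field F] [Fintype F] {ι : Type} [Fintype ι] [DecidableEq ι]
    (Qs : QuadraticForm F (ι → F)) (d : ℕ) (s : ℤ) (hs : QStd Qs d s) (hd : 1 ≤ d) :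
    OR F d s 1 0 True := by
  refine ⟨ι, inferInstance, inferInstance, Qs, hs, 1, orderOf_one, ?_, ?_⟩
  · unfold rk mat
    simp
  · intro _
    have hne : Nonempty ι := by
      rw [← Fintype.card_pos_iff, hs.card]
      omega
    unfold geoM
    rw [Finset.sum_range_one, pow_zero]
    intro h
    obtain ⟨i⟩ := hne
    have := congrFun (congrFun h i) i
    simp at this

end Cfsg.Agent.Lib.Helper1.S8U
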