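import Mathlib
import Cfsg.Prelude.Def_ChevStructure
import Cfsg.Agent.Lib.helper14.INV.Defs
import Cfsg.Agent.Lib.helper8.ChevInvG2i

/-!
# Project INV, pieces M1b, M2b (backup by helper14): the lengths of `s_i w` and `s_i w s_i`
-/

set_option autoImplicit false

namespace Cfsg.Agent.Lib.helper14.INV

open Cfsg.Lie Cfsg.Lie.ChevalleyDatum Cfsg.Agent.Lib.helper8 Cfsg.Agent.Lib.helper14

/-- left multiplication by a fundamental reflection whose root is made positive by `π⁻¹` raises the
length by one -/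
theorem lenb_left (D : ChevalleyDatum) (hB : H8Base.{0} D) (hA : H8ReflAll D) (hBN : H8BN D)
    (hW : H8BN2 D) (hO2 : H8Ord2 D) (π : Equiv.Perm (Fin D.nroots)) (hπ : π ∈ h8W D hA)
    (i : Fin D.rank) (hpos : D.IsPosRoot (π⁻¹ (h8simF D hBN i)).val) :
    h8Ninv D (h8sPerm D hA i.val * π) = h8Ninv D π + 1 := by
  classical
  unfold h8Ninv
  set a := h8simF D hBN i with ha
  set b := π⁻¹ a with hb
  have hπb : π b = a := by rw [hb]; simp
  have hsa : h8sPerm D hA i.val a = h8negF D hW a := h8sPerm_simF D hA hBN hW i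
  have hapos : D.IsPosRoot a.val := h8simple_pos D hBN i.val i.2
  have hsp : ∀ r : Fin D.nroots, D.IsPosRoot r.val → r ≠ a →
      D.IsPosRoot (h8sPerm D hA i.val r).val := by
    intro r hr hne
    have := h8spChk_spec D i.val (hBN.sp i.val i.2) r.val hr (fun h => hne (Fin.ext h))
    rw [← h8sPerm_val D hA i.val i.2 r] at this
    exact this.1
  have hs_inv : ∀ r, h8sPerm D hA i.val (h8sPerm D hA i.val r) = r :=
    h8invol_apply _ (h8sPerm_inv D hA i.val)
  have hπinvW : π⁻¹ ∈ h8W D hA := Subgroup.inv_mem _ hπ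
  have e : (Finset.univ.filter fun r : Fin D.nroots =>
        D.IsPosRoot r.val ∧ ¬ D.IsPosRoot ((h8sPerm D hA i.val * π) r).val) =
      insert b (Finset.univ.filter fun r : Fin D.nroots =>
        D.IsPosRoot r.val ∧ ¬ D.IsPosRoot (π r).val) := by
    ext r
    rw [Finset.mem_filter, Finset.mem_insert, Finset.mem_filter, Equiv.Perm.mul_apply]
    simp only [Finset.mem_univ, true_and]
    constructor
    · rintro ⟨hr, hn⟩
      by_cases hp : D.IsPosRoot (π r).val
      · left
        have : π r = a := by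
          by_contra hne
          exact hn (hsp _ hp hne)
        rw [hb, ← this]
        simp
      · exact Or.inr ⟨hr, hp⟩
    · rintro (rfl | ⟨hr, hn⟩)
      · refine ⟨hpos, ?_⟩
        rw [hπb, hsa, h8negF_pos D hB hBN hW hO2]
        exact fun h => h hapos
      · refine ⟨hr, fun hp => ?_⟩
        by_cases hne : h8sPerm D hA i.val (π r) = a
        · have h1 : π r = h8negF D hW a := by
            rw [← hsa, ← hne, hs_inv]
          have h2 : r = h8negF D hW b := by
            have h3 : π⁻¹ (π r) = π⁻¹ (h8negF D hW a) := by rw [h1]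
            rw [h8W_negc D hA hW π⁻¹ hπinvW a] at h3
            have h4 : π⁻¹ (π r) = r := by simp
            rw [h4] at h3
            exact h3
          rw [h2, h8negF_pos D hB hBN hW hO2] at hr
          exact hr hpos
        · have := hsp _ hp hne
          rw [hs_inv] at this
          exact hn this
  rw [e, Finset.card_insert_of_notMem]
  rw [Finset.mem_filter]
  rintro ⟨_, _, h2⟩
  rw [hπb] at h2
  exact h2 hapos

/-- right multiplication by a fundamental reflection whose root is made positive raises the length by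
one -/
theorem lenb_right (D : ChevalleyDatum) (hB : H8Base.{0} D) (hA : H8ReflAll D) (hBN : H8BN D)
    (hW : H8BN2 D) (hO2 : H8Ord2 D) (π : Equiv.Perm (Fin D.nroots)) (hπ : π ∈ h8W D hA)
    (i : Fin D.rank) (hpos : D.IsPosRoot (π (h8simF D hBN i)).val) :
    h8Ninv D (π * h8sPerm D hA i.val) = h8Ninv D π + 1 := by
  have hsW : h8sPerm D hA i.val ∈ h8W D hA := Subgroup.subset_closure ⟨i.val, i.2, rfl⟩
  have hneg : ¬ D.IsPosRoot ((π * h8sPerm D hA i.val) (h8simF D hBN i)).val := by
    rw [Equiv.Perm.mul_apply, h8sPerm_simF D hA hBN hW i, h8W_negc D hA hW π hπ,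
      h8negF_pos D hB hBN hW hO2]
    exact fun h => h hpos
  have := h8Ninv_mul_simple D hB hA hBN hW hO2 (π * h8sPerm D hA i.val)
    (Subgroup.mul_mem _ hπ hsW) i hneg
  rw [mul_assoc, h8sPerm_sq, mul_one] at this
  exact this.symm

theorem lenb_wPerm_cons (D : ChevalleyDatum) (hA : H8ReflAll D) (i : ℕ) (w : List ℕ) :
    h8wPerm D hA (i :: w) = h8sPerm D hA i * h8wPerm D hA w := by
  unfold h8wPerm
  rw [List.map_cons, List.prod_cons]

theorem lenb_wPerm_append (D : ChevalleyDatum) (hA : H8ReflAll D) (w1 w2 : List ℕ) :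
    h8wPerm D hA (w1 ++ w2) = h8wPerm D hA w1 * h8wPerm D hA w2 := by
  unfold h8wPerm
  rw [List.map_append, List.prod_append]

theorem lenb_wPerm_mem (D : ChevalleyDatum) (hA : H8ReflAll D) (w : List ℕ) (hw : ValidW D w) :
    h8wPerm D hA w ∈ h8W D hA := (h8W_mem_iff D hA _).mpr ⟨w, hw, rfl⟩

/-- M1b (backup) -/
theorem len_cons_simple_b (D : ChevalleyDatum) (hB : H8Base.{0} D) (hA : H8ReflAll D)
    (hBN : H8BN D) (hW : H8BN2 D) (hO2 : H8Ord2 D)
    (w : List ℕ) (hw : ValidW D w) (i : ℕ) (hi : i < D.rank)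
    (hinv : ∀ r < D.nroots, h8sW D w (h8sW D w r) = r)
    (hfix : h8sW D w (D.simple i) = D.simple i) :
    len D hA (i :: w) = len D hA w + 1 := by
  unfold len
  rw [lenb_wPerm_cons]
  have hfixF : h8wPerm D hA w (h8simF D hBN ⟨i, hi⟩) = h8simF D hBN ⟨i, hi⟩ := by
    apply Fin.ext
    rw [h8wPerm_val D hA w hw]
    exact hfix
  have hinvF : (h8wPerm D hA w)⁻¹ (h8simF D hBN ⟨i, hi⟩) = h8simF D hBN ⟨i, hi⟩ := by
    rw [Equiv.Perm.inv_eq_iff_eq]
    exact hfixF.symm
  apply lenb_left D hB hA hBN hW hO2 _ (lenb_wPerm_mem D hA w hw) ⟨i, hi⟩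
  rw [hinvF]
  exact h8simple_pos D hBN i hi

/-- M2b (backup) -/
theorem len_conj_simple_b (D : ChevalleyDatum) (hB : H8Base.{0} D) (hA : H8ReflAll D)
    (hBN : H8BN D) (hW : H8BN2 D) (hO2 : H8Ord2 D)
    (w : List ℕ) (hw : ValidW D w) (i : ℕ) (hi : i < D.rank)
    (hinv : ∀ r < D.nroots, h8sW D w (h8sW D w r) = r)
    (hpos : D.IsPosRoot (h8sW D w (D.simple i))) (hne : h8sW D w (D.simple i) ≠ D.simple i) :
    len D hA (i :: (w ++ [i])) = len D hA w + 2 := by
  unfold len
  rw [lenb_wPerm_cons, lenb_wPerm_append, h8wPerm_single]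
  set π := h8wPerm D hA w with hπ
  set a := h8simF D hBN ⟨i, hi⟩ with ha
  have hπW := lenb_wPerm_mem D hA w hw
  have hsW : h8sPerm D hA i ∈ h8W D hA := Subgroup.subset_closure ⟨i, hi, rfl⟩
  have hπa : (π a).val = h8sW D w (D.simple i) := h8wPerm_val D hA w hw a
  have hππ : ∀ r, π (π r) = r := by
    intro r
    apply Fin.ext
    rw [hπ, h8wPerm_val D hA w hw, h8wPerm_val D hA w hw]
    exact hinv r.val r.2
  have hπinv : π⁻¹ = π := by
    apply Equiv.ext
    intro r
    rw [Equiv.Perm.inv_eq_iff_eq, hππ]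
  have h1 : h8Ninv D (π * h8sPerm D hA i) = h8Ninv D π + 1 := by
    apply lenb_right D hB hA hBN hW hO2 π hπW ⟨i, hi⟩
    rw [hπa]
    exact hpos
  have h2 : h8Ninv D (h8sPerm D hA i * (π * h8sPerm D hA i)) =
      h8Ninv D (π * h8sPerm D hA i) + 1 := by
    apply lenb_left D hB hA hBN hW hO2 _ (Subgroup.mul_mem _ hπW hsW) ⟨i, hi⟩
    rw [mul_inv_rev, h8sPerm_inv, hπinv, Equiv.Perm.mul_apply]
    have hne' : π a ≠ a := by
      intro h
      apply hne
      rw [← hπa, h]
      rfl
    have := h8spChk_spec D i (hBN.sp i hi) (π a).val (by rw [hπa]; exact hpos)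
      (fun h => hne' (Fin.ext h))
    rw [← h8sPerm_val D hA i hi (π a)] at this
    exact this.1
  rw [h2, h1]

end Cfsg.Agent.Lib.helper14.INV
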