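import Mathlib
import Cfsg.Agent.Lib.helper3.WLen
import Cfsg.Agent.Lib.helper3.CoxExch

/-!
Minimal coset representatives in a group with the exchange property (helper3's `ExchSys`),
left-handed version: cosets `W_J u`, `W_J = closure J`, `J ⊆ T`.
-/

set_option autoImplicit false

namespace Cfsg.Agent.Lib.helper14

open Cfsg.Agent.Lib.helper3

section CoxCoset

variable {W : Type*} [Group W] {T : Set W} {Ps : W → Set W}

/-- `u` has minimal length in its coset `closure J * u` -/
def IsMinCoset (T : Set W) (J : Set W) (u : W) : Prop :=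
  ∀ v ∈ Subgroup.closure J, wlen T u ≤ wlen T (v * u)

/-- every generator of `J` lengthens `u` on the left -/
def IsLeftAsc (Ps : W → Set W) (J : Set W) (u : W) : Prop := ∀ t ∈ J, u ∈ Ps t

theorem cc_step (E : ExchSys T Ps) {t : W} (ht : t ∈ T) (w : W) :
    wlen T (t * w) = wlen T w + 1 ∨ wlen T (t * w) + 1 = wlen T w := by
  by_cases h : w ∈ Ps t
  · left
    exact (mem_Ps_iff Ps E.hT2 E.hgen E.hA E.hB E.hC ht w).1 h
  · right
    exact (not_mem_Ps_iff Ps E.hT2 E.hgen E.hA E.hB E.hC ht w).1 h

theorem cc_word_le (L : List W) (hL : ∀ x ∈ L, x ∈ T) : wlen T L.prod ≤ L.length :=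
  wlen_le hL rfl

/-- a reduced `J`-word for an element of `closure J` -/
theorem cc_exists_red (E : ExchSys T Ps) {J : Set W} (hJ : J ⊆ T) {v : W}
    (hv : v ∈ Subgroup.closure J) :
    ∃ L : List W, (∀ x ∈ L, x ∈ J) ∧ L.prod = v ∧ L.length = wlen T v := by
  obtain ⟨L, hL, rfl⟩ := exists_word_of_closure E.hT2 hJ hv
  obtain ⟨L', hL', h1, h2⟩ := exists_reduced_in Ps E.hT2 E.hgen E.hA E.hB E.hC hJ L hL
  exact ⟨L', hL', h1, by rw [h2]⟩

theorem cc_tail_red (E : ExchSys T Ps) {t : W} (ht : t ∈ T) {L : List W} (hL : ∀ x ∈ L, x ∈ T)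
    (h : (t :: L).length = wlen T (t :: L).prod) : L.length = wlen T L.prod := by
  rw [List.length_cons, List.prod_cons] at h
  have h1 := wlen_mul_le E.hT2 E.hgen ht L.prod
  have h2 := cc_word_le L hL
  omega

theorem cc_list_prod_mem {J : Set W} (L : List W) (hL : ∀ x ∈ L, x ∈ J) :
    L.prod ∈ Subgroup.closure J :=
  Subgroup.list_prod_mem _ (fun x hx => Subgroup.subset_closure (hL x hx))

/-- length additivity for a minimal coset representative, word version -/
theorem cc_add_word (E : ExchSys T Ps) {J : Set W} (hJ : J ⊆ T) {u : W} (hu : IsMinCoset T J u) :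
    ∀ L : List W, (∀ x ∈ L, x ∈ J) → L.length = wlen T L.prod →
      wlen T (L.prod * u) = L.length + wlen T u := by
  intro L
  induction L with
  | nil =>
    intro _ _
    simp
  | cons t L ih =>
    intro hL hred
    have htJ : t ∈ J := hL t List.mem_cons_self
    have ht : t ∈ T := hJ htJ
    have hL' : ∀ x ∈ L, x ∈ J := fun x hx => hL x (List.mem_cons_of_mem _ hx)
    have hLT : ∀ x ∈ L, x ∈ T := fun x hx => hJ (hL' x hx)
    have hred' := cc_tail_red E ht hLT hred
    have ih' := ih hL' hred'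
    rw [List.prod_cons, List.length_cons, mul_assoc]
    rcases cc_step E ht (L.prod * u) with h | h
    · rw [h, ih']; ring
    · exfalso
      have hnot : L.prod * u ∉ Ps t :=
        (not_mem_Ps_iff Ps E.hT2 E.hgen E.hA E.hB E.hC ht _).2 h
      obtain ⟨U, hU, hUp, hUl⟩ := exists_reduced E.hT2 E.hgen u
      have hLU : ∀ x ∈ L ++ U, x ∈ T := by
        intro x hx
        rcases List.mem_append.1 hx with h1 | h1
        · exact hLT x h1
        · exact hU x h1
      have hprod : (L ++ U).prod = L.prod * u := by rw [List.prod_append, hUp]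
      rw [← hprod] at hnot
      obtain ⟨i, hi, e⟩ := exchange Ps E.hT2 E.hA E.hC ht (L ++ U) hLU hnot
      rw [hprod] at e
      by_cases hiL : i < L.length
      · rw [List.eraseIdx_append_of_lt_length hiL, List.prod_append, hUp] at e
        have e2 : t * L.prod = (L.eraseIdx i).prod := by
          have := congrArg (· * u⁻¹) e
          simpa [mul_assoc] using this
        have h3 : wlen T (t * L.prod) ≤ (L.eraseIdx i).length := by
          rw [e2]
          exact cc_word_le _ (eraseIdx_mem L i _ hLT)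
        rw [List.length_eraseIdx_of_lt hiL] at h3
        rw [List.length_cons, List.prod_cons] at hred
        omega
      · have hiL' : L.length ≤ i := Nat.le_of_not_lt hiL
        rw [List.eraseIdx_append_of_length_le hiL', List.prod_append] at e
        rw [List.length_append] at hi
        have hiU : i - L.length < U.length := by omega
        set u' := (U.eraseIdx (i - L.length)).prod with hu'
        have h3 : wlen T u' ≤ (U.eraseIdx (i - L.length)).length :=
          cc_word_le _ (eraseIdx_mem U _ _ hU)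
        rw [List.length_eraseIdx_of_lt hiU] at h3
        have e2 : u' = (L.prod⁻¹ * t * L.prod) * u := by
          have := congrArg (L.prod⁻¹ * ·) e
          simp only [← mul_assoc, inv_mul_cancel, one_mul] at this
          rw [← this]
        have hmem : L.prod⁻¹ * t * L.prod ∈ Subgroup.closure J := by
          have hp := cc_list_prod_mem L hL'
          exact Subgroup.mul_mem _ (Subgroup.mul_mem _ (Subgroup.inv_mem _ hp)
            (Subgroup.subset_closure htJ)) hp
        have h4 := hu _ hmem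
        rw [← e2] at h4
        omega

theorem cc_add (E : ExchSys T Ps) {J : Set W} (hJ : J ⊆ T) {u : W} (hu : IsMinCoset T J u)
    {v : W} (hv : v ∈ Subgroup.closure J) : wlen T (v * u) = wlen T v + wlen T u := by
  obtain ⟨L, hL, rfl, hlen⟩ := cc_exists_red E hJ hv
  rw [cc_add_word E hJ hu L hL hlen, hlen]

/-- every coset contains a minimal representative -/
theorem cc_exists_min (J : Set W) (w : W) :
    ∃ v ∈ Subgroup.closure J, ∃ u, IsMinCoset T J u ∧ w = v * u := by
  classical
  have hne : ∃ k, ∃ v ∈ Subgroup.closure J, wlen T (v * w) = k :=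
    ⟨wlen T (1 * w), 1, Subgroup.one_mem _, rfl⟩
  obtain ⟨v₀, hv₀, hk⟩ := Nat.find_spec hne
  refine ⟨v₀⁻¹, Subgroup.inv_mem _ hv₀, v₀ * w, ?_, by group⟩
  intro v hv
  rw [hk]
  apply Nat.find_min' hne
  exact ⟨v * v₀, Subgroup.mul_mem _ hv hv₀, by rw [mul_assoc]⟩

theorem cc_asc_of_min (E : ExchSys T Ps) {J : Set W} (hJ : J ⊆ T) {u : W}
    (hu : IsMinCoset T J u) : IsLeftAsc Ps J u := by
  intro t ht
  by_contra h
  have h1 := (not_mem_Ps_iff Ps E.hT2 E.hgen E.hA E.hB E.hC (hJ ht) u).1 h
  have h2 := hu t (Subgroup.subset_closure ht)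
  omega

theorem cc_min_of_asc (E : ExchSys T Ps) {J : Set W} (hJ : J ⊆ T) {u : W}
    (hu : IsLeftAsc Ps J u) : IsMinCoset T J u := by
  obtain ⟨v, hv, u₀, hu₀, e⟩ := cc_exists_min (T := T) J u
  obtain ⟨L, hL, hLp, hlen⟩ := cc_exists_red E hJ hv
  cases L with
  | nil =>
    simp only [List.prod_nil] at hLp
    rw [e, ← hLp, one_mul]
    exact hu₀
  | cons t L =>
    exfalso
    have htJ : t ∈ J := hL t List.mem_cons_self
    have ht : t ∈ T := hJ htJ
    have hL' : ∀ x ∈ L, x ∈ J := fun x hx => hL x (List.mem_cons_of_mem _ hx)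
    have hLT : ∀ x ∈ L, x ∈ T := fun x hx => hJ (hL' x hx)
    have hred : (t :: L).length = wlen T (t :: L).prod := by rw [hLp, hlen]
    have hred' := cc_tail_red E ht hLT hred
    have h1 := cc_add_word E hJ hu₀ (t :: L) hL hred
    have h2 := cc_add_word E hJ hu₀ L hL' hred'
    have h3 := (mem_Ps_iff Ps E.hT2 E.hgen E.hA E.hB E.hC ht u).1 (hu t htJ)
    have e1 : t * u = L.prod * u₀ := by
      rw [e, ← hLp, List.prod_cons, ← mul_assoc, ← mul_assoc, E.hT2 t ht, one_mul]
    have e2 : u = (t :: L).prod * u₀ := by rw [hLp, e]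
    rw [e1, h2] at h3
    rw [e2, h1, List.length_cons] at h3
    omega

theorem cc_min_iff_asc (E : ExchSys T Ps) {J : Set W} (hJ : J ⊆ T) (u : W) :
    IsMinCoset T J u ↔ IsLeftAsc Ps J u :=
  ⟨cc_asc_of_min E hJ, cc_min_of_asc E hJ⟩

/-- uniqueness of the minimal representative -/
theorem cc_unique (E : ExchSys T Ps) {J : Set W} (hJ : J ⊆ T) {u u' v : W}
    (hu : IsMinCoset T J u) (hu' : IsMinCoset T J u') (hv : v ∈ Subgroup.closure J)
    (e : u' = v * u) : v = 1 := by
  have h1 := cc_add E hJ hu hv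
  have h2 := cc_add E hJ hu' (Subgroup.inv_mem _ hv)
  rw [e, ← mul_assoc, inv_mul_cancel, one_mul] at h2
  apply eq_one_of_wlen_eq_zero E.hT2 E.hgen
  omega

/-- decomposition `w = v * u` with `u` left-ascending for `J` -/
theorem cc_exists_asc (E : ExchSys T Ps) {J : Set W} (hJ : J ⊆ T) (w : W) :
    ∃ v ∈ Subgroup.closure J, ∃ u, IsLeftAsc Ps J u ∧ w = v * u := by
  obtain ⟨v, hv, u, hu, e⟩ := cc_exists_min (T := T) J w
  exact ⟨v, hv, u, cc_asc_of_min E hJ hu, e⟩

/-- along a reduced `J`-word in front of a left-ascending element every step ascends -/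
theorem cc_step_mem (E : ExchSys T Ps) {J : Set W} (hJ : J ⊆ T) {u : W}
    (hu : IsLeftAsc Ps J u) {t : W} {L : List W} (hL : ∀ x ∈ t :: L, x ∈ J)
    (hred : (t :: L).length = wlen T (t :: L).prod) : L.prod * u ∈ Ps t := by
  have hmin := cc_min_of_asc E hJ hu
  have htJ : t ∈ J := hL t List.mem_cons_self
  have ht : t ∈ T := hJ htJ
  have hL' : ∀ x ∈ L, x ∈ J := fun x hx => hL x (List.mem_cons_of_mem _ hx)
  have hLT : ∀ x ∈ L, x ∈ T := fun x hx => hJ (hL' x hx)
  have hred' := cc_tail_red E ht hLT hred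
  have h1 := cc_add_word E hJ hmin (t :: L) hL hred
  have h2 := cc_add_word E hJ hmin L hL' hred'
  rw [mem_Ps_iff Ps E.hT2 E.hgen E.hA E.hB E.hC ht]
  rw [List.prod_cons, mul_assoc] at h1
  rw [h1, h2, List.length_cons]
  ring

end CoxCoset

end Cfsg.Agent.Lib.helper14
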