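import Mathlib
import Cfsg.Prelude.Def_LieExceptional
import Cfsg.Agent.Lib.helper3.BNLen
import Cfsg.Agent.Lib.helper14.CoxCoset

/-!
Distinguished coset representatives in a group with a (B,N)-pair: the cosets `x B` lying in the
cells `B n B` with `n⁻¹` left-ascending for `J` form a transversal for `G / P_J`.
-/

set_option autoImplicit false

namespace Cfsg.Agent.Lib.helper14

open Cfsg.Agent.Lib.helper3 DoubleCoset

variable {G : Type*} [Group G] {P : Cfsg.BNPair G}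

theorem bn_exchSys : ExchSys (TW P) (PsW P) := ⟨TW_sq, TW_closure, PsW_A, PsW_B, PsW_C⟩

/-- every generator in `J` ascends `m` on the left -/
def LAsc (P : Cfsg.BNPair G) (J : Set G) (m : G) : Prop := ∀ s ∈ J, Pp P s m

theorem image_subset_TW {J : Set G} (hJ : J ⊆ P.S) : projG P '' J ⊆ TW P := by
  rintro t ⟨s, hs, rfl⟩
  exact ⟨s, hJ hs, rfl⟩

theorem lasc_iff {J : Set G} (hJ : J ⊆ P.S) {m : G} (hm : m ∈ P.N) :
    LAsc P J m ↔ IsLeftAsc (PsW P) (projG P '' J) (projG P m) := by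
  constructor
  · rintro h t ⟨s, hs, rfl⟩
    exact (mem_PsW_iff (hJ hs) hm).2 (h s hs)
  · intro h s hs
    exact (mem_PsW_iff (hJ hs) hm).1 (h _ ⟨s, hs, rfl⟩)

theorem bn_star_word {J : Set G} (hJ : J ⊆ P.S) {m : G} (hm : m ∈ P.N) (hasc : LAsc P J m) :
    ∀ L : List G, (∀ s ∈ L, s ∈ J) →
      (L.map (projG P)).length = wlen (TW P) (L.map (projG P)).prod →
      ∀ b ∈ P.B, L.prod * b * m ∈ dc P (L.prod * m) := by
  intro L
  induction L with
  | nil =>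
    intro _ _ b hb
    simp only [List.prod_nil, one_mul]
    exact dc_mul_left hb (dc_self m)
  | cons s L ih =>
    intro hL hred b hb
    have hsJ : s ∈ J := hL s List.mem_cons_self
    have hs : s ∈ P.S := hJ hsJ
    have hL' : ∀ x ∈ L, x ∈ J := fun x hx => hL x (List.mem_cons_of_mem _ hx)
    have hLS : ∀ x ∈ L, x ∈ P.S := fun x hx => hJ (hL' x hx)
    have hLw : ∀ x ∈ L.map (projG P), x ∈ projG P '' J := by
      intro x hx
      obtain ⟨y, hy, rfl⟩ := List.mem_map.1 hx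
      exact ⟨y, hL' y hy, rfl⟩
    have hLT : ∀ x ∈ L.map (projG P), x ∈ TW P := fun x hx => image_subset_TW hJ (hLw x hx)
    have hsT : projG P s ∈ TW P := ⟨s, hs, rfl⟩
    rw [List.map_cons] at hred
    have hred' := cc_tail_red bn_exchSys hsT hLT hred
    have hLN : L.prod ∈ P.N := list_prod_mem_N hLS
    have hLmN : L.prod * m ∈ P.N := P.N.mul_mem hLN hm
    obtain ⟨b₁, h₁, b₂, h₂, e⟩ := mem_dc.1 (ih hL' hred' b hb)
    have hcons : ∀ x ∈ projG P s :: L.map (projG P), x ∈ projG P '' J := by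
      intro x hx
      rcases List.mem_cons.1 hx with h | h
      · rw [h]; exact ⟨s, hsJ, rfl⟩
      · exact hLw x h
    have hmem := cc_step_mem bn_exchSys (image_subset_TW hJ) ((lasc_iff hJ hm).1 hasc) hcons hred
    rw [← projG_list_prod hLS, ← projG_mul hLN hm, mem_PsW_iff hs hLmN] at hmem
    have e2 : (s :: L).prod * b * m = (s * b₁ * (L.prod * m)) * b₂ := by
      rw [List.prod_cons]
      have : s * L.prod * b * m = s * (L.prod * b * m) := by group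
      rw [this, e]; group
    have e3 : (s :: L).prod * m = s * (L.prod * m) := by rw [List.prod_cons, mul_assoc]
    rw [e2, e3]
    exact dc_mul_right h₂ (hmem b₁ h₁)

theorem bn_star {J : Set G} (hJ : J ⊆ P.S) {m : G} (hm : m ∈ P.N) (hasc : LAsc P J m)
    {v : G} (hv : v ∈ Subgroup.closure J) : ∀ b ∈ P.B, v * b * m ∈ dc P (v * m) := by
  intro b hb
  have hvN : v ∈ P.N := closure_S_le_N hJ hv
  have pv := projG_mem_closure_image hJ hv
  obtain ⟨Lw, hLw, hLp, hLl⟩ := cc_exists_red bn_exchSys (image_subset_TW hJ) pv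
  obtain ⟨L, hL, rfl⟩ := exists_lift Lw hLw
  have hLS : ∀ x ∈ L, x ∈ P.S := fun x hx => hJ (hL x hx)
  have hLN : L.prod ∈ P.N := list_prod_mem_N hLS
  have hproj : projG P L.prod = projG P v := by rw [projG_list_prod hLS, hLp]
  have hh : L.prod⁻¹ * v ∈ P.B := (projG_eq_iff hLN hvN).1 hproj
  have hhN : L.prod⁻¹ * v ∈ P.N := P.N.mul_mem (P.N.inv_mem hLN) hvN
  have hred : (L.map (projG P)).length = wlen (TW P) (L.map (projG P)).prod := by
    rw [hLl, hLp]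
  have h1 := bn_star_word hJ hm hasc L hL hred (L.prod⁻¹ * v * b) (P.B.mul_mem hh hb)
  have e1 : v * b * m = L.prod * (L.prod⁻¹ * v * b) * m := by group
  have e2 : v * m = L.prod * m * (m⁻¹ * (L.prod⁻¹ * v) * m) := by group
  rw [e1, e2, dc_mul_B (conj_mem_B' hm hh hhN)]
  exact h1

/-- `x` lies in a cell `B n B` with `n⁻¹` left-ascending for `J` -/
def JRed (P : Cfsg.BNPair G) (J : Set G) (x : G) : Prop :=
  ∃ m ∈ P.N, LAsc P J m ∧ x⁻¹ ∈ dc P m

theorem jred_mul_right {J : Set G} {x b : G} (hb : b ∈ P.B) (h : JRed P J x) : JRed P J (x * b) := by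
  obtain ⟨m, hm, ha, hx⟩ := h
  refine ⟨m, hm, ha, ?_⟩
  rw [mul_inv_rev]
  exact dc_mul_left (P.B.inv_mem hb) hx

theorem jred_mul_left {J : Set G} {x b : G} (hb : b ∈ P.B) (h : JRed P J x) : JRed P J (b * x) := by
  obtain ⟨m, hm, ha, hx⟩ := h
  refine ⟨m, hm, ha, ?_⟩
  rw [mul_inv_rev]
  exact dc_mul_right (P.B.inv_mem hb) hx

theorem jred_mono {J K : Set G} (hJK : J ⊆ K) {x : G} (h : JRed P K x) : JRed P J x := by
  obtain ⟨m, hm, ha, hx⟩ := h
  exact ⟨m, hm, fun s hs => ha s (hJK hs), hx⟩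

theorem jred_iff_forall {J : Set G} (x : G) :
    JRed P J x ↔ ∀ s ∈ J, JRed P {s} x := by
  constructor
  · intro h s hs
    exact jred_mono (Set.singleton_subset_iff.2 hs) h
  · intro h
    obtain ⟨m, hm, hx⟩ := bruhat (P := P) x⁻¹
    refine ⟨m, hm, ?_, hx⟩
    intro s hs
    obtain ⟨m', hm', ha', hx'⟩ := h s hs
    have hdc : dc P m' = dc P m := by rw [← dc_eq_of_mem hx', dc_eq_of_mem hx]
    exact Pp_congr hm' hm (projG_eq_of_dc_eq hm' hm hdc) (ha' s rfl)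

theorem bn_inj {J : Set G} (hJ : J ⊆ P.S) {x₁ x₂ : G} (h₁ : JRed P J x₁) (h₂ : JRed P J x₂)
    (h : x₁⁻¹ * x₂ ∈ P.parabolic J) : x₁⁻¹ * x₂ ∈ P.B := by
  obtain ⟨m₁, hm₁, ha₁, hx₁⟩ := h₁
  obtain ⟨m₂, hm₂, ha₂, hx₂⟩ := h₂
  have hg : x₂⁻¹ * x₁ ∈ P.parabolic J := by
    have := Subgroup.inv_mem _ h
    rwa [mul_inv_rev, inv_inv] at this
  obtain ⟨v, hv, hgv⟩ := (mem_parabolic_iff hJ _).1 hg
  have hvN : v ∈ P.N := closure_S_le_N hJ hv
  obtain ⟨b₁, hb₁, b₂, hb₂, e₁⟩ := mem_dc.1 hx₁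
  obtain ⟨c₁, hc₁, c₂, hc₂, e₂⟩ := mem_dc.1 hgv
  have hstar := bn_star hJ hm₁ ha₁ hv (c₂ * b₁) (P.B.mul_mem hc₂ hb₁)
  have e3 : x₂⁻¹ = c₁ * (v * (c₂ * b₁) * m₁) * b₂ := by
    have : x₂⁻¹ = (x₂⁻¹ * x₁) * x₁⁻¹ := by group
    rw [this, e₂, e₁]; group
  have hx₂' : x₂⁻¹ ∈ dc P (v * m₁) := by
    rw [e3]
    exact dc_mul_right hb₂ (dc_mul_left hc₁ hstar)
  have hdc : dc P m₂ = dc P (v * m₁) := by rw [← dc_eq_of_mem hx₂, dc_eq_of_mem hx₂']
  have hproj := projG_eq_of_dc_eq hm₂ (P.N.mul_mem hvN hm₁) hdc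
  rw [projG_mul hvN hm₁] at hproj
  have hmin₁ := cc_min_of_asc bn_exchSys (image_subset_TW hJ) ((lasc_iff hJ hm₁).1 ha₁)
  have hmin₂ := cc_min_of_asc bn_exchSys (image_subset_TW hJ) ((lasc_iff hJ hm₂).1 ha₂)
  have hv1 := cc_unique bn_exchSys (image_subset_TW hJ) hmin₁ hmin₂
    (projG_mem_closure_image hJ hv) hproj
  have hvB : v ∈ P.B := (projG_eq_one_iff hvN).1 hv1
  rw [dc_of_mem_B hvB] at hgv
  have := P.B.inv_mem hgv
  rwa [mul_inv_rev, inv_inv] at this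

theorem bn_surj {J : Set G} (hJ : J ⊆ P.S) (x : G) :
    ∃ y, JRed P J y ∧ y⁻¹ * x ∈ P.parabolic J := by
  obtain ⟨n, hn, hx⟩ := bruhat (P := P) x⁻¹
  obtain ⟨vb, hvb, ub, hub, e⟩ := cc_exists_asc bn_exchSys (image_subset_TW hJ) (projG P n)
  obtain ⟨m, hm, rfl⟩ := projG_surj ub
  obtain ⟨Lw, hLw, rfl⟩ := exists_word_of_closure TW_sq (image_subset_TW hJ) hvb
  obtain ⟨L, hL, rfl⟩ := exists_lift Lw hLw
  have hLS : ∀ s ∈ L, s ∈ P.S := fun s hs => hJ (hL s hs)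
  have hLN : L.prod ∈ P.N := list_prod_mem_N hLS
  have hLc : L.prod ∈ Subgroup.closure J := cc_list_prod_mem L hL
  rw [← projG_list_prod hLS, ← projG_mul hLN hm] at e
  have hdc := dc_eq_of_projG_eq hn (P.N.mul_mem hLN hm) e
  rw [hdc] at hx
  obtain ⟨b₁, hb₁, b₂, hb₂, e₁⟩ := mem_dc.1 hx
  refine ⟨b₂⁻¹ * m⁻¹, ⟨m, hm, (lasc_iff hJ hm).2 hub, ?_⟩, ?_⟩
  · rw [mul_inv_rev, inv_inv, inv_inv]
    exact dc_mul_right hb₂ (dc_self m)
  · have hB : P.B ≤ P.parabolic J := le_sup_left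
    have hc : Subgroup.closure J ≤ P.parabolic J := le_sup_right
    have e2 : (b₂⁻¹ * m⁻¹)⁻¹ * x = (L.prod)⁻¹ * b₁⁻¹ := by
      have : x = (x⁻¹)⁻¹ := by group
      rw [this, e₁]; group
    rw [e2]
    exact Subgroup.mul_mem _ (Subgroup.inv_mem _ (hc hLc)) (Subgroup.inv_mem _ (hB hb₁))

end Cfsg.Agent.Lib.helper14
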