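import Mathlib
import Cfsg.Agent.Lib.helper14.BNCells

/-!
The alternating sum of the permutation characters on the standard parabolic subgroups of a finite
group with a (B,N)-pair, restricted to `B`: only the cells without ascents survive.
-/

set_option autoImplicit false

namespace Cfsg.Agent.Lib.helper14

open Cfsg.Agent.Lib.helper3 DoubleCoset

variable {G : Type*} [Group G] {P : Cfsg.BNPair G}

/-- coset version of `JRed` -/
def CRed (P : Cfsg.BNPair G) (J : Set G) (c : G ⧸ P.B) : Prop := JRed P J c.out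

theorem cred_mk {J : Set G} (x : G) : CRed P J (x : G ⧸ P.B) ↔ JRed P J x := by
  unfold CRed
  obtain ⟨h, e⟩ := QuotientGroup.mk_out_eq_mul P.B x
  rw [e]
  constructor
  · intro hx
    have := jred_mul_right (P.B.inv_mem h.2) hx
    rwa [mul_inv_cancel_right] at this
  · exact jred_mul_right h.2

theorem cred_iff_forall {J : Set G} (c : G ⧸ P.B) :
    CRed P J c ↔ ∀ s ∈ J, CRed P {s} c := jred_iff_forall _

theorem bn_fix_card [Finite G] {J : Set G} (hJ : J ⊆ P.S) {b : G} (hb : b ∈ P.B) :
    Nat.card (MulAction.fixedBy (G ⧸ P.parabolic J) b) =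
      Nat.card {c : G ⧸ P.B // b • c = c ∧ CRed P J c} := by
  have hBK : P.B ≤ P.parabolic J := le_sup_left
  have hπ : ∀ c : G ⧸ P.B, Subgroup.quotientMapOfLE hBK (b • c) =
      b • Subgroup.quotientMapOfLE hBK c := by
    intro c
    induction c using QuotientGroup.induction_on with
    | H x => rfl
  let f : {c : G ⧸ P.B // b • c = c ∧ CRed P J c} →
      MulAction.fixedBy (G ⧸ P.parabolic J) b := fun c =>
    ⟨Subgroup.quotientMapOfLE hBK c.1, by
      rw [MulAction.mem_fixedBy, ← hπ, c.2.1]⟩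
  have hinj : Function.Injective f := by
    rintro ⟨c₁, h₁⟩ ⟨c₂, h₂⟩ e
    have e' : Subgroup.quotientMapOfLE hBK c₁ = Subgroup.quotientMapOfLE hBK c₂ :=
      congrArg Subtype.val e
    apply Subtype.ext
    show c₁ = c₂
    induction c₁ using QuotientGroup.induction_on with
    | H x₁ =>
      induction c₂ using QuotientGroup.induction_on with
      | H x₂ =>
        rw [Subgroup.quotientMapOfLE_apply_mk, Subgroup.quotientMapOfLE_apply_mk,
          QuotientGroup.eq] at e'
        rw [QuotientGroup.eq]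
        exact bn_inj hJ ((cred_mk x₁).1 h₁.2) ((cred_mk x₂).1 h₂.2) e'
  have hsurj : Function.Surjective f := by
    rintro ⟨d, hd⟩
    induction d using QuotientGroup.induction_on with
    | H x =>
      rw [MulAction.mem_fixedBy] at hd
      obtain ⟨y, hy, hyx⟩ := bn_surj hJ x
      have hyx' : ((y : G) : G ⧸ P.parabolic J) = (x : G ⧸ P.parabolic J) :=
        QuotientGroup.eq.2 hyx
      have hfix : b • ((y : G) : G ⧸ P.B) = ((y : G) : G ⧸ P.B) := by
        have h1 : ((b * y : G) : G ⧸ P.parabolic J) = ((y : G) : G ⧸ P.parabolic J) := by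
          have : ((b * y : G) : G ⧸ P.parabolic J) = b • ((y : G) : G ⧸ P.parabolic J) := rfl
          rw [this, hyx', hd]
        have h2 := bn_inj hJ (jred_mul_left hb hy) hy (QuotientGroup.eq.1 h1)
        have : b • ((y : G) : G ⧸ P.B) = ((b * y : G) : G ⧸ P.B) := rfl
        rw [this]
        exact QuotientGroup.eq.2 h2
      refine ⟨⟨(y : G ⧸ P.B), hfix, (cred_mk y).2 hy⟩, ?_⟩
      apply Subtype.ext
      show Subgroup.quotientMapOfLE hBK ((y : G) : G ⧸ P.B) = _
      rw [Subgroup.quotientMapOfLE_apply_mk]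
      exact hyx'
  exact (Nat.card_congr (Equiv.ofBijective f ⟨hinj, hsurj⟩)).symm

theorem bn_alt_sum_int [Finite G] (σ : ℕ → G) (r : ℕ) (hσ : ∀ i < r, σ i ∈ P.S) {b : G}
    (hb : b ∈ P.B) :
    ∑ J ∈ (Finset.range r).powerset, (-1 : ℤ) ^ J.card *
        (Nat.card (MulAction.fixedBy (G ⧸ P.parabolic (σ '' (J : Set ℕ))) b) : ℤ) =
      (Nat.card {c : G ⧸ P.B // b • c = c ∧ ∀ i < r, ¬ CRed P {σ i} c} : ℤ) := by
  classical
  haveI : Fintype (G ⧸ P.B) := Fintype.ofFinite _
  set Fixb : Finset (G ⧸ P.B) := Finset.univ.filter (fun c => b • c = c) with hFixb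
  set asc : G ⧸ P.B → Finset ℕ := fun c => (Finset.range r).filter (fun i => CRed P {σ i} c)
    with hasc
  have hstep1 : ∀ J ∈ (Finset.range r).powerset,
      (Nat.card (MulAction.fixedBy (G ⧸ P.parabolic (σ '' (J : Set ℕ))) b) : ℤ) =
        ∑ c ∈ Fixb, (if J ⊆ asc c then (1 : ℤ) else 0) := by
    intro J hJ
    rw [Finset.mem_powerset] at hJ
    have hJS : σ '' (J : Set ℕ) ⊆ P.S := by
      rintro s ⟨i, hi, rfl⟩
      exact hσ i (Finset.mem_range.1 (hJ hi))
    rw [bn_fix_card hJS hb, Nat.card_eq_fintype_card, Fintype.card_subtype,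
      Finset.sum_boole, ← Finset.filter_filter]
    congr 2
    apply Finset.filter_congr
    intro c _
    rw [cred_iff_forall]
    constructor
    · intro h i hi
      rw [hasc, Finset.mem_filter]
      exact ⟨hJ hi, h (σ i) ⟨i, hi, rfl⟩⟩
    · rintro h s ⟨i, hi, rfl⟩
      have := h hi
      rw [hasc, Finset.mem_filter] at this
      exact this.2
  rw [Finset.sum_congr rfl (fun J hJ => by rw [hstep1 J hJ])]
  simp_rw [Finset.mul_sum]
  rw [Finset.sum_comm]
  have hstep2 : ∀ c ∈ Fixb, ∑ J ∈ (Finset.range r).powerset,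
      (-1 : ℤ) ^ J.card * (if J ⊆ asc c then (1 : ℤ) else 0) =
        if asc c = ∅ then 1 else 0 := by
    intro c _
    rw [← Finset.sum_powerset_neg_one_pow_card]
    have hsub : (asc c).powerset = (Finset.range r).powerset.filter (fun J => J ⊆ asc c) := by
      ext J
      rw [Finset.mem_powerset, Finset.mem_filter, Finset.mem_powerset]
      constructor
      · intro h
        exact ⟨fun i hi => (Finset.mem_filter.1 (h hi)).1, h⟩
      · exact fun h => h.2
    rw [hsub, Finset.sum_filter]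
    apply Finset.sum_congr rfl
    intro J _
    split_ifs <;> simp
  rw [Finset.sum_congr rfl hstep2, Finset.sum_boole, Nat.card_eq_fintype_card,
    Fintype.card_subtype, hFixb, Finset.filter_filter]
  congr 2
  apply Finset.filter_congr
  intro c _
  constructor
  · rintro ⟨h1, h2⟩
    refine ⟨h1, fun i hi hc => ?_⟩
    have : i ∈ asc c := by
      rw [hasc, Finset.mem_filter]
      exact ⟨Finset.mem_range.2 hi, hc⟩
    rw [h2] at this
    exact absurd this (Finset.notMem_empty i)
  · rintro ⟨h1, h2⟩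
    refine ⟨h1, ?_⟩
    rw [Finset.eq_empty_iff_forall_notMem]
    intro i hi
    rw [hasc, Finset.mem_filter] at hi
    exact h2 i (Finset.mem_range.1 hi.1) hi.2

theorem bn_alt_sum [Finite G] (σ : ℕ → G) (r : ℕ) (hσ : ∀ i < r, σ i ∈ P.S) {b : G}
    (hb : b ∈ P.B) :
    ∑ J ∈ (Finset.range r).powerset, (-1 : ℂ) ^ J.card *
        (Nat.card (MulAction.fixedBy (G ⧸ P.parabolic (σ '' (J : Set ℕ))) b) : ℂ) =
      (Nat.card {c : G ⧸ P.B // b • c = c ∧ ∀ i < r, ¬ CRed P {σ i} c} : ℂ) := by
  have h := congrArg (Int.cast : ℤ → ℂ) (bn_alt_sum_int σ r hσ hb)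
  push_cast at h
  exact h

end Cfsg.Agent.Lib.helper14
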