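import Mathlib
import Cfsg.Agent.Lib.helper14.BNSum

/-!
The "top cell" of a (B,N)-pair and the alternating sum of parabolic permutation characters
restricted to `B` (abstract part of the Steinberg character computation).
-/

set_option autoImplicit false

namespace Cfsg.Agent.Lib.helper14

open Cfsg.Agent.Lib.helper3 DoubleCoset

section StCell

variable {G : Type*} [Group G] {P : Cfsg.BNPair G}

/-- if every distinguished generator ascends `m` on the left then `m` is trivial in `W` -/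
theorem projG_eq_one_of_lasc {m : G} (hm : m ∈ P.N) (h : LAsc P P.S m) : projG P m = 1 := by
  have h1 := (lasc_iff (P := P) (le_refl _) hm).1 h
  have h2 := cc_min_of_asc bn_exchSys (image_subset_TW (P := P) (le_refl _)) h1
  have hcl : Subgroup.closure (projG P '' P.S) = ⊤ := TW_closure
  have h3 := h2 (projG P m)⁻¹ (by rw [hcl]; trivial)
  rw [inv_mul_cancel, wlen_one] at h3
  exact eq_one_of_wlen_eq_zero TW_sq TW_closure (Nat.le_zero.1 h3)

/-- characterisation of the top cell `B n₀ B` -/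
theorem top_cell_iff {n₀ : G} (hn₀ : n₀ ∈ P.N)
    (h1 : ∀ s ∈ P.S, ¬ Pp P s n₀⁻¹)
    (h2 : ∀ m ∈ P.N, (∀ s ∈ P.S, ¬ Pp P s m) → LAsc P P.S (m * n₀)) (x : G) :
    (∀ s ∈ P.S, ¬ JRed P {s} x) ↔ x ∈ dc P n₀ := by
  have hn₀' : n₀⁻¹ ∈ P.N := P.N.inv_mem hn₀
  constructor
  · intro h
    obtain ⟨m, hm, hx⟩ := bruhat (P := P) x⁻¹
    have hall : ∀ s ∈ P.S, ¬ Pp P s m := by
      intro s hs hp
      apply h s hs
      refine ⟨m, hm, ?_, hx⟩
      intro s' hs'
      rw [Set.mem_singleton_iff] at hs'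
      rw [hs']
      exact hp
    have h3 := projG_eq_one_of_lasc (P.N.mul_mem hm hn₀) (h2 m hm hall)
    rw [projG_mul hm hn₀] at h3
    have h4 : projG P m = projG P n₀⁻¹ := by
      rw [projG_inv hn₀]
      exact eq_inv_of_mul_eq_one_left h3
    have h5 := dc_eq_of_projG_eq hm hn₀' h4
    rw [h5] at hx
    have := dc_inv hx
    rwa [inv_inv, inv_inv] at this
  · intro hx s hs hred
    obtain ⟨m, hm, ha, hxm⟩ := hred
    have hx' := dc_inv hx
    have e : dc P m = dc P n₀⁻¹ := by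
      rw [← dc_eq_of_mem hxm, dc_eq_of_mem hx']
    have e' := projG_eq_of_dc_eq hm hn₀' e
    exact h1 s hs (Pp_congr hm hn₀' e' (ha s rfl))

/-- fixed points of `b ∈ B` on the cosets in the cell `B n₀ B` correspond to fixed points on
`B ⧸ H`, when `n₀` normalises `H` into `B` and `B ∩ n₀ B n₀⁻¹ ≤ H` -/
theorem cell_fix_card {B H : Subgroup G} {n₀ : G}
    (c1 : ∀ h ∈ H, h ∈ B → n₀⁻¹ * h * n₀ ∈ B)
    (c2 : ∀ β ∈ B, n₀⁻¹ * β * n₀ ∈ B → β ∈ H) (b : ↥B) :
    Nat.card {c : G ⧸ B // (b : G) • c = c ∧ ∃ β ∈ B, c = ((β * n₀ : G) : G ⧸ B)} =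
      Nat.card (MulAction.fixedBy (↥B ⧸ H.subgroupOf B) b) := by
  have hwd : ∀ β₁ β₂ : ↥B, QuotientGroup.leftRel (H.subgroupOf B) β₁ β₂ →
      QuotientGroup.leftRel B ((β₁ : G) * n₀) ((β₂ : G) * n₀) := by
    intro β₁ β₂ h
    rw [QuotientGroup.leftRel_apply] at h ⊢
    rw [Subgroup.mem_subgroupOf] at h
    have e : ((β₁ : G) * n₀)⁻¹ * ((β₂ : G) * n₀) = n₀⁻¹ * ((β₁ : G)⁻¹ * (β₂ : G)) * n₀ := by group
    rw [e]
    have h' : (β₁ : G)⁻¹ * (β₂ : G) ∈ H := by simpa using h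
    exact c1 _ h' (B.mul_mem (B.inv_mem β₁.2) β₂.2)
  let f : ↥B ⧸ H.subgroupOf B → G ⧸ B := Quotient.map' (fun β : ↥B => (β : G) * n₀) hwd
  have hf : ∀ β : ↥B, f (β : ↥B ⧸ H.subgroupOf B) = (((β : G) * n₀ : G) : G ⧸ B) := fun β => rfl
  have hequiv : ∀ x : ↥B ⧸ H.subgroupOf B, f (b • x) = (b : G) • f x := by
    intro x
    induction x using QuotientGroup.induction_on with
    | H β =>
      have e1 : b • (β : ↥B ⧸ H.subgroupOf B) = ((b * β : ↥B) : ↥B ⧸ H.subgroupOf B) := rfl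
      rw [e1, hf, hf]
      have e2 : (b : G) • ((((β : G) * n₀ : G)) : G ⧸ B) = (((b : G) * ((β : G) * n₀) : G) : G ⧸ B) := rfl
      rw [e2, Subgroup.coe_mul, mul_assoc]
  have hinj : Function.Injective f := by
    intro x y hxy
    induction x using QuotientGroup.induction_on with
    | H β₁ =>
      induction y using QuotientGroup.induction_on with
      | H β₂ =>
        rw [hf, hf, QuotientGroup.eq] at hxy
        rw [QuotientGroup.eq, Subgroup.mem_subgroupOf]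
        have e : ((β₁ : G) * n₀)⁻¹ * ((β₂ : G) * n₀) = n₀⁻¹ * ((β₁ : G)⁻¹ * (β₂ : G)) * n₀ := by
          group
        rw [e] at hxy
        have := c2 _ (B.mul_mem (B.inv_mem β₁.2) β₂.2) hxy
        simpa using this
  symm
  refine Nat.card_congr (Equiv.ofBijective
    (fun x : MulAction.fixedBy (↥B ⧸ H.subgroupOf B) b =>
      (⟨f x.1, ?_, ?_⟩ : {c : G ⧸ B // (b : G) • c = c ∧ ∃ β ∈ B, c = ((β * n₀ : G) : G ⧸ B)}))
    ⟨?_, ?_⟩)
  · have hx := x.2
    rw [MulAction.mem_fixedBy] at hx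
    rw [← hequiv, hx]
  · obtain ⟨x, hx⟩ := x
    induction x using QuotientGroup.induction_on with
    | H β => exact ⟨(β : G), β.2, hf β⟩
  · intro x y hxy
    have := congrArg Subtype.val hxy
    exact Subtype.ext (hinj this)
  · rintro ⟨c, hc, β, hβ, rfl⟩
    refine ⟨⟨((⟨β, hβ⟩ : ↥B) : ↥B ⧸ H.subgroupOf B), ?_⟩, ?_⟩
    · rw [MulAction.mem_fixedBy]
      apply hinj
      rw [hequiv, hf]
      exact hc
    · apply Subtype.ext
      exact hf ⟨β, hβ⟩

end StCell

end Cfsg.Agent.Lib.helper14
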