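import Mathlib
import Cfsg.Agent.Lib.helper14.StCell

/-!
Value on `B` of the alternating sum of parabolic permutation characters of a finite group with
a (B,N)-pair possessing a "longest" element `n₀`: it is the permutation character of `B` on `B ⧸ H`.
-/

set_option autoImplicit false

namespace Cfsg.Agent.Lib.helper14

open Cfsg.Agent.Lib.helper3 DoubleCoset

section StVal

variable {G : Type*} [Group G]

theorem cell_mem_iff {P : Cfsg.BNPair G} (n₀ : G) (c : G ⧸ P.B) :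
    c.out ∈ dc P n₀ ↔ ∃ β ∈ P.B, c = ((β * n₀ : G) : G ⧸ P.B) := by
  constructor
  · intro h
    obtain ⟨b₁, h₁, b₂, h₂, e⟩ := mem_dc.1 h
    refine ⟨b₁, h₁, ?_⟩
    have e1 : c = ((c.out : G) : G ⧸ P.B) := (QuotientGroup.out_eq' c).symm
    rw [e1, e, QuotientGroup.eq]
    have : (b₁ * n₀ * b₂)⁻¹ * (b₁ * n₀) = b₂⁻¹ := by group
    rw [this]
    exact P.B.inv_mem h₂
  · rintro ⟨β, hβ, rfl⟩
    obtain ⟨h, e⟩ := QuotientGroup.mk_out_eq_mul P.B (β * n₀)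
    rw [e]
    exact mem_dc.2 ⟨β, hβ, h, h.2, rfl⟩

theorem st_value [Finite G] (P : Cfsg.BNPair G) (B' : Subgroup G) (hB' : P.B = B')
    (Q : Finset ℕ → Subgroup G) (σ : ℕ → G) (r : ℕ)
    (hσ : ∀ i < r, σ i ∈ P.S) (hσ' : ∀ s ∈ P.S, ∃ i < r, σ i = s)
    (hQ : ∀ J ∈ (Finset.range r).powerset, Q J = P.parabolic (σ '' (J : Set ℕ)))
    {n₀ : G} (hn₀ : n₀ ∈ P.N)
    (h1 : ∀ s ∈ P.S, ¬ Pp P s n₀⁻¹)
    (h2 : ∀ m ∈ P.N, (∀ s ∈ P.S, ¬ Pp P s m) → LAsc P P.S (m * n₀))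
    (H : Subgroup G)
    (c1 : ∀ h ∈ H, h ∈ B' → n₀⁻¹ * h * n₀ ∈ B')
    (c2 : ∀ β ∈ B', n₀⁻¹ * β * n₀ ∈ B' → β ∈ H) (b : ↥B') :
    ∑ J ∈ (Finset.range r).powerset, (-1 : ℂ) ^ J.card *
        (Nat.card (MulAction.fixedBy (G ⧸ Q J) (b : G)) : ℂ) =
      (Nat.card (MulAction.fixedBy (↥B' ⧸ H.subgroupOf B') b) : ℂ) := by
  subst hB'
  have hsum : ∑ J ∈ (Finset.range r).powerset, (-1 : ℂ) ^ J.card *
        (Nat.card (MulAction.fixedBy (G ⧸ Q J) (b : G)) : ℂ) =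
      ∑ J ∈ (Finset.range r).powerset, (-1 : ℂ) ^ J.card *
        (Nat.card (MulAction.fixedBy (G ⧸ P.parabolic (σ '' (J : Set ℕ))) (b : G)) : ℂ) := by
    apply Finset.sum_congr rfl
    intro J hJ
    rw [hQ J hJ]
  rw [hsum, bn_alt_sum σ r hσ b.2, ← cell_fix_card c1 c2 b]
  congr 1
  apply Nat.card_congr
  apply Equiv.subtypeEquivRight
  intro c
  apply and_congr_right
  intro _
  rw [← cell_mem_iff, ← top_cell_iff hn₀ h1 h2]
  constructor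
  · intro h s hs
    obtain ⟨i, hi, rfl⟩ := hσ' s hs
    exact h i hi
  · intro h i hi
    exact h (σ i) (hσ i hi)

end StVal

end Cfsg.Agent.Lib.helper14
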