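import Mathlib
import Cfsg.Agent.Lib.helper14.BGL.SPDefs
import Cfsg.Agent.Lib.helper14.BGL.SPDefs2
import Cfsg.Agent.Lib.helper14.BGL.SPTabG2
import Cfsg.Agent.Lib.helper14.BGL.SPTabB2
import Cfsg.Agent.Lib.helper14.BGL.SPTabD4
import Cfsg.Agent.Lib.helper14.BGL.SPTabF4
import Cfsg.Agent.Lib.helper14.BGL.SPTabE6
import Cfsg.Agent.Lib.helper14.BGL.SPTabE7
import Cfsg.Agent.Lib.helper14.BGL.SPTabE8
import Cfsg.Agent.Lib.Helper10.BGL.Defs
import Cfsg.Agent.Lib.Helper10.BGL.Bridge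
import Cfsg.Agent.Lib.helper8.ChevBaseAll
import Cfsg.Agent.Lib.helper8.ChevBNAll
import Cfsg.Agent.Lib.helper8.ChevReflAll

/-!
# Project BGL, block SP (helper14): the assembly `span_main` as a CORE on the statements of rows M4 (`span_generic`) and M5 (`span_exc`).
-/

set_option autoImplicit false

namespace Cfsg.Agent.Lib.helper14.BGLSP

open Cfsg.Lie Cfsg.Lie.ChevalleyDatum Cfsg.Agent.Lib.helper8 Cfsg.Agent.Lib.Helper10.BGL Matrix

universe u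

variable {K : Type u} [Field K]

/-- the table bundle for the seven types -/
theorem spTab_G2 : SPTab chevG2 spLam_G2 :=
  ⟨⟨spDep_G2, spPar_G2, spOrbChk_G2⟩, spBaseChk_G2, h8reflAll _ (by simp), h8bn_all _ (by simp)⟩

theorem spTab_B2 : SPTab chevB2 spLam_B2 :=
  ⟨⟨spDep_B2, spPar_B2, spOrbChk_B2⟩, spBaseChk_B2, h8reflAll _ (by simp), h8bn_all _ (by simp)⟩

theorem spTab_D4 : SPTab chevD4 spLam_D4 :=
  ⟨⟨spDep_D4, spPar_D4, spOrbChk_D4⟩, spBaseChk_D4, h8reflAll _ (by simp), h8bn_all _ (by simp)⟩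

theorem spTab_F4 : SPTab chevF4 spLam_F4 :=
  ⟨⟨spDep_F4, spPar_F4, spOrbChk_F4⟩, spBaseChk_F4, h8reflAll _ (by simp), h8bn_all _ (by simp)⟩

theorem spTab_E6 : SPTab chevE6 spLam_E6 :=
  ⟨⟨spDep_E6, spPar_E6, spOrbChk_E6⟩, spBaseChk_E6, h8reflAll _ (by simp), h8bn_all _ (by simp)⟩

theorem spTab_E7 : SPTab chevE7 spLam_E7 :=
  ⟨⟨spDep_E7, spPar_E7, spOrbChk_E7⟩, spBaseChk_E7, h8reflAll _ (by simp), h8bn_all _ (by simp)⟩

theorem spTab_E8 : SPTab chevE8 spLam_E8 :=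
  ⟨⟨spDep_E8, spPar_E8, spOrbChk_E8⟩, spBaseChk_E8, h8reflAll _ (by simp), h8bn_all _ (by simp)⟩

/-- a small integer prime to `p` is not zero in characteristic `p` -/
theorem bglspfin_ne (p : ℕ) [Fact p.Prime] [CharP K p] (d : ℤ) (hd : ¬ (p : ℤ) ∣ d) : ((d : ℤ) : K) ≠ 0 := by
  intro h
  exact hd ((CharP.intCast_eq_zero_iff K p d).mp h)

theorem bglspfin_two (p : ℕ) [hpp : Fact p.Prime] (hp : p ≠ 2) : ¬ (p : ℤ) ∣ 2 := by
  intro h
  have h1 : p ∣ 2 := by exact_mod_cast h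
  have h2 := (Nat.prime_dvd_prime_iff_eq hpp.out Nat.prime_two).mp h1
  exact hp h2

theorem bglspfin_four (p : ℕ) [hpp : Fact p.Prime] (hp : p ≠ 2) : ¬ (p : ℤ) ∣ 4 := by
  intro h
  have h1 : p ∣ 2 ^ 2 := by
    have : (p : ℤ) ∣ ((2 ^ 2 : ℕ) : ℤ) := by simpa using h
    exact_mod_cast this
  have h2 := hpp.out.dvd_of_dvd_pow h1
  have h3 := (Nat.prime_dvd_prime_iff_eq hpp.out Nat.prime_two).mp h2
  exact hp h3

theorem bglspfin_three (p : ℕ) [hpp : Fact p.Prime] (hp : p ≠ 3) : ¬ (p : ℤ) ∣ 3 := by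
  intro h
  have h1 : p ∣ 3 := by exact_mod_cast h
  have h2 := (Nat.prime_dvd_prime_iff_eq hpp.out Nat.prime_three).mp h1
  exact hp h2

theorem bglspfin_one (p : ℕ) [hpp : Fact p.Prime] : ¬ (p : ℤ) ∣ 1 := by
  intro h
  have h1 : p ∣ 1 := by exact_mod_cast h
  exact hpp.out.one_lt.ne' (Nat.dvd_one.mp h1)

/-- `span_main` from the statements of M4 and M5 -/
theorem span_main_core [Finite K] (p : ℕ) [Fact p.Prime] [CharP K p] (hp : p ≠ 2)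
    (hgen : ∀ (D : ChevalleyDatum) (_ : H8Base.{u} D) (lam : List ℕ) (_ : SPTab D lam) (xs : List ℕ) (X : List (List ℤ)) (d : ℤ)
      (_ : spXChk D lam xs X d = true) (_ : ((d : ℤ) : K) ≠ 0) (ys : List ℕ) (Y : List (List ℤ))
      (_ : spYChk D lam ys Y = true) (a : ℕ) (h : GL D.Idx K)
      (_ : ∀ m ∈ Lq D K (p ^ a), ∀ m' ∈ Lq D K (p ^ a),
        Rt (p ^ a) (topEntry D ((m * h * m' : GL D.Idx K) : Matrix D.Idx D.Idx K))),
      RatM D (p ^ a) (h : Matrix D.Idx D.Idx K))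
    (hexc : ∀ (D : ChevalleyDatum) (_ : D ∈ [chevG2, chevB2, chevD4, chevF4, chevE6, chevE7, chevE8]) (lam : List ℕ)
      (_ : SPTab D lam) (_ : spExcChk D lam p = true) (ys : List ℕ) (Y : List (List ℤ))
      (_ : spYChk D lam ys Y = true) (a : ℕ) (h : GL D.Idx K) (_ : h ∈ D.group K)
      (_ : ∀ m ∈ Lq D K (p ^ a), ∀ m' ∈ Lq D K (p ^ a),
        Rt (p ^ a) (topEntry D ((m * h * m' : GL D.Idx K) : Matrix D.Idx D.Idx K))),
      RatM D (p ^ a) (h : Matrix D.Idx D.Idx K))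
    (D : ChevalleyDatum)
    (hD : D ∈ [chevG2, chevB2, chevD4, chevF4, chevE6, chevE7, chevE8]) (a : ℕ) (ha : 1 ≤ a)
    (h : GL D.Idx K) (hh : h ∈ D.group K)
    (hs : ∀ m ∈ Lq D K (p ^ a), ∀ m' ∈ Lq D K (p ^ a),
      Rt (p ^ a) (topEntry D ((m * h * m' : GL D.Idx K) : Matrix D.Idx D.Idx K))) :
    RatM D (p ^ a) (h : Matrix D.Idx D.Idx K) := by
  have hB := h8base_all.{u} D hD
  have hD' := hD
  simp only [List.mem_cons, List.mem_nil_iff, or_false] at hD'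
  rcases hD' with rfl | rfl | rfl | rfl | rfl | rfl | rfl
  · by_cases h3 : p = 3
    · subst h3
      exact hexc _ hD _ spTab_G2 spExcChk_G2 _ _ spYChk_G2 a h hh hs
    · exact hgen _ hB _ spTab_G2 _ _ _ spXChk_G2 (bglspfin_ne p 3 (bglspfin_three p h3)) _ _ spYChk_G2 a h hs
  · exact hgen _ hB _ spTab_B2 _ _ _ spXChk_B2 (bglspfin_ne p 4 (bglspfin_four p hp)) _ _ spYChk_B2 a h hs
  · exact hgen _ hB _ spTab_D4 _ _ _ spXChk_D4 (bglspfin_ne p 4 (bglspfin_four p hp)) _ _ spYChk_D4 a h hs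
  · exact hgen _ hB _ spTab_F4 _ _ _ spXChk_F4 (bglspfin_ne p 4 (bglspfin_four p hp)) _ _ spYChk_F4 a h hs
  · by_cases h3 : p = 3
    · subst h3
      exact hexc _ hD _ spTab_E6 spExcChk_E6 _ _ spYChk_E6 a h hh hs
    · exact hgen _ hB _ spTab_E6 _ _ _ spXChk_E6 (bglspfin_ne p 3 (bglspfin_three p h3)) _ _ spYChk_E6 a h hs
  · exact hgen _ hB _ spTab_E7 _ _ _ spXChk_E7 (bglspfin_ne p 2 (bglspfin_two p hp)) _ _ spYChk_E7 a h hs
  · exact hgen _ hB _ spTab_E8 _ _ _ spXChk_E8 (bglspfin_ne p 1 (bglspfin_one p)) _ _ spYChk_E8 a h hs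

end Cfsg.Agent.Lib.helper14.BGLSP
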