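import Mathlib
import Cfsg.Agent.Lib.helper14.BGLSPFINcore
import Cfsg.Agent.Lib.Helper5.BGLSPM4
import Cfsg.Agent.Lib.Helper12.BGLSPM5core
import Cfsg.Agent.Lib.Helper26.BGLSPM1
import Cfsg.Agent.Lib.Helper22.BGLSPM2
import Cfsg.Agent.Lib.helper8.BGLSPM3
import Cfsg.Agent.Lib.Helper12.BGLSPR2
import Cfsg.Agent.Lib.helper4.BGLSPE3

/-!
# BGL block SP, row SPFIN: `span_main` (Skel0 verbatim)

`span_generic` is helper5's landed M4; the exceptional assembly `span_exc` (M5) is instantiated here from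
helper12's landed core `bglspm5_core` (under the private name `bglspfin_exc`).
-/

set_option autoImplicit false

namespace Cfsg.Agent.Lib.helper14.BGLSP

open Cfsg.Lie Cfsg.Lie.ChevalleyDatum Cfsg.Agent.Lib.helper8 Cfsg.Agent.Lib.Helper10.BGL

universe u

variable {K : Type u} [Field K] [Finite K] (p : ℕ) [Fact p.Prime] [CharP K p]

/-- the exceptional assembly (statement of `span_exc`, SPSkel M5) from helper12's core -/
theorem bglspfin_exc (D : ChevalleyDatum) (hp : p ≠ 2)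
    (hD : D ∈ [chevG2, chevB2, chevD4, chevF4, chevE6, chevE7, chevE8]) {lam : List ℕ}
    (hT : SPTab D lam) (hE : spExcChk D lam p = true) {ys : List ℕ} {Y : List (List ℤ)}
    (hY : spYChk D lam ys Y = true) (a : ℕ) (h : GL D.Idx K) (hh : h ∈ D.group K)
    (hs : ∀ m ∈ Lq D K (p ^ a), ∀ m' ∈ Lq D K (p ^ a),
      Rt (p ^ a) (topEntry D ((m * h * m' : GL D.Idx K) : Matrix D.Idx D.Idx K))) :
    RatM D (p ^ a) (h : Matrix D.Idx D.Idx K) :=
  bglspm5_core D p hp hD hT a h hh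
    (fun hn => top_diff_zero D p a hn h hs)
    (fun h2 hq2 Δ hΔ => col_all_zero D (h8base_all.{u} D hD) hT hY h2 (p ^ a) hq2 Δ hΔ)
    (fun hq2 => stabP_Lq D (h8base_all.{u} D hD) (p ^ a) hq2)
    (fun hP h0 => row_NT hT hP h0)
    (fun {_} hg {_} hw => NT_stab_group D hT hE (h8base_all.{u} D hD) hg hw)
    (fun h3 {_} hc hcN => exc_eq_one D hD hT hE h3 hc hcN)

end Cfsg.Agent.Lib.helper14.BGLSP

namespace Cfsg.Agent.Lib.Helper10.BGL

open Cfsg.Lie Cfsg.Lie.ChevalleyDatum Cfsg.Agent.Lib.helper14.BGLSP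

universe u

variable {K : Type u} [Field K] [Finite K]

/-- SP (block SPAN).  Columns `m' e_ρ` span `k^Idx`; rows `e_{-ρ}^* m` span the annihilator of
`N` (`N = 0` generically, the centre for `(E6, 3)`, the short root ideal for `(G2, 3)`);
`c = h⁻¹ σ(h)` acts trivially on `K^Idx / N`, the kernel is a proper normal subgroup, `G(K)` is
simple (`h8simple_main`), so `c = 1`. -/
theorem span_main (p : ℕ) [Fact p.Prime] [CharP K p] (hp : p ≠ 2) (D : ChevalleyDatum)
    (hD : D ∈ [chevG2, chevB2, chevD4, chevF4, chevE6, chevE7, chevE8]) (a : ℕ) (ha : 1 ≤ a)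
    (h : GL D.Idx K) (hh : h ∈ D.group K)
    (hs : ∀ m ∈ Lq D K (p ^ a), ∀ m' ∈ Lq D K (p ^ a),
      Rt (p ^ a) (topEntry D ((m * h * m' : GL D.Idx K) : Matrix D.Idx D.Idx K))) :
    RatM D (p ^ a) (h : Matrix D.Idx D.Idx K) :=
  span_main_core p hp
    (fun D hB lam hT xs X d hX hd ys Y hY a h hs => span_generic D p hp hB hT hX hd hY a h hs)
    (fun D hD lam hT hE ys Y hY a h hh hs => bglspfin_exc p D hp hD hT hE hY a h hh hs)
    D hD a ha h hh hs

end Cfsg.Agent.Lib.Helper10.BGL
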