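import Mathlib
import Cfsg.Agent.Lib.helper14.BGL.UKDefs

/-!
# BGL block UK, row UKT1: `ukLTChk_spec`
-/

set_option autoImplicit false

namespace Cfsg.Agent.Lib.helper14.BGLUK

open Cfsg.Lie Cfsg.Lie.ChevalleyDatum Cfsg.Agent.Lib.helper8

/-- a list whose filter by `P` has length one splits around the unique element satisfying `P` -/
theorem ukt1_split {α : Type*} (P : α → Bool) : ∀ (l : List α), (l.filter P).length = 1 →
    ∃ L1 x L2, l = L1 ++ x :: L2 ∧ P x = true ∧ ∀ y ∈ L1 ++ L2, P y = false := by
  intro l
  induction l with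
  | nil => intro h; simp at h
  | cons a l ih =>
    intro h
    by_cases ha : P a = true
    · rw [List.filter_cons_of_pos ha, List.length_cons] at h
      have h0 : (l.filter P).length = 0 := by omega
      have h1 : l.filter P = [] := List.eq_nil_of_length_eq_zero h0
      refine ⟨[], a, l, rfl, ha, ?_⟩
      intro y hy
      rw [List.nil_append] at hy
      rw [List.filter_eq_nil_iff] at h1
      have := h1 y hy
      simpa using this
    · rw [List.filter_cons_of_neg ha] at h
      obtain ⟨L1, x, L2, e, hx, hr⟩ := ih h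
      refine ⟨a :: L1, x, L2, by rw [e]; rfl, hx, ?_⟩
      intro y hy
      rw [List.cons_append, List.mem_cons] at hy
      rcases hy with rfl | hy
      · simpa using ha
      · exact hr y hy

theorem ukLTChk_spec (D : ChevalleyDatum) (m γ m' : ℕ) (h : ukLTChk D m γ m' = true) :
    UkLT D m γ m' := by
  unfold ukLTChk at h
  simp only [Bool.and_eq_true, decide_eq_true_eq] at h
  obtain ⟨⟨⟨⟨⟨⟨⟨h1, h2⟩, h3⟩, h4⟩, h5⟩, h6⟩, h7⟩, h8⟩ := h
  refine ⟨h1, h2, h3, h4, h5, ?_, ?_⟩
  · obtain ⟨L1, x, L2, e, hx, hr⟩ := ukt1_split (fun c : ℕ × ℤ × ℕ × ℕ => decide (c.1 = m')) _ h6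
    rw [List.all_eq_true] at h7
    have hx' : x.1 = m' := by simpa using hx
    have hxm : x ∈ D.commTerms m γ := by rw [e]; simp
    have h7x := h7 x hxm
    rw [if_pos hx'] at h7x
    simp only [Bool.and_eq_true, decide_eq_true_eq] at h7x
    obtain ⟨x1, x2, x3, x4⟩ := x
    simp only at hx' h7x
    refine ⟨L1, L2, x2, x4, ?_, h7x.2, ?_⟩
    · rw [e, ← hx', ← h7x.1]
    · intro c hc
      have hcm : c ∈ D.commTerms m γ := by
        rw [e]
        rw [List.mem_append] at hc ⊢
        rcases hc with hc | hc
        · exact Or.inl hc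
        · exact Or.inr (List.mem_cons_of_mem _ hc)
      have hne : ¬ c.1 = m' := by
        have := hr c hc
        simpa using this
      have := h7 c hcm
      rw [if_neg hne] at this
      simpa using this
  · intro r hmr hr hrγ
    rw [List.all_eq_true] at h8
    have hmem : r ∈ List.range' (m + 1) (D.nroots - (m + 1)) := by
      rw [List.mem_range'_1]
      have := hr.1
      omega
    have := h8 r hmem
    simp only [Bool.or_eq_true, Bool.not_eq_true', decide_eq_false_iff_not, decide_eq_true_eq,
      Bool.and_eq_true, List.all_eq_true] at this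
    rcases this with (h9 | h9) | h9
    · exact absurd hr h9
    · exact absurd h9 hrγ
    · exact ⟨h9.1, fun c hc => h9.2 c hc⟩

end Cfsg.Agent.Lib.helper14.BGLUK
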