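import Mathlib
import Cfsg.Agent.Lib.helper14.BGL.UKDefs
import Cfsg.Agent.Lib.helper14.ChevNormVk
import Cfsg.Agent.Lib.helper8.ChevCommAll
import Cfsg.Agent.Lib.helper8.ChevBN2

/-!
# BGL block UK, rows UKL1 UKL2 UKL3: the commutator `κ_γ` and the filtration
-/

set_option autoImplicit false

namespace Cfsg.Agent.Lib.helper14.BGLUK

open Cfsg.Lie Cfsg.Lie.ChevalleyDatum Cfsg.Agent.Lib.helper8 Cfsg.Agent.Lib.helper14

universe u

variable {K : Type u} [Field K]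

section L

variable (D : ChevalleyDatum) (hB : H8Base.{u} D)

theorem ukKap_mul (γ : ℕ) (x v : GL D.Idx K) :
    ukKap D hB γ (x * v) = ukKap D hB γ v * (v⁻¹ * ukKap D hB γ x * v) := by
  unfold ukKap
  group

theorem ukKap_inv (γ : ℕ) (v : GL D.Idx K) :
    ukKap D hB γ v⁻¹ = v * (ukKap D hB γ v)⁻¹ * v⁻¹ := by
  unfold ukKap
  group

theorem ukKap_x (hC : H8CommAll.{u} D) (γ r : ℕ) (hr : r < D.nroots) (hγ : γ < D.nroots)
    (h1 : γ ≠ r) (h2 : γ ≠ D.negIdx.getD r 0) (c : K) :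
    ukKap D hB γ (h8xU D hB r c) = h8wordU D hB (D.commWord K r γ c 1) := by
  have key : h8xU D hB γ (1 : K) * h8xU D hB r c =
      h8xU D hB r c * h8xU D hB γ 1 * h8wordU D hB (D.commWord K r γ c 1) := by
    apply Units.ext
    rw [Units.val_mul, Units.val_mul, Units.val_mul, h8wordU_val, h8xU_val, h8xU_val]
    exact hC.all r hr γ hγ h1 h2 K c 1
  unfold ukKap
  rw [mul_assoc, key]
  group

theorem ukKap_self (γ : ℕ) (hγ : γ < D.nroots) (c : K) :
    ukKap D hB γ (h8xU D hB γ c) = 1 := by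
  unfold ukKap
  have h1 : h8xU D hB γ (1 : K) * h8xU D hB γ c = h8xU D hB γ c * h8xU D hB γ 1 := by
    rw [h8xU_add D hB γ hγ, h8xU_add D hB γ hγ, add_comm]
  rw [mul_assoc, h1]
  group

variable (hC : H8CommAll.{u} D) (hO : H8Ord D) (hM : CfMax D)

include hC hO hM in
theorem uk_word_lead (m' : ℕ) (hm' : D.IsPosRoot m') (L1 L2 : List (ℕ × K)) (τ : K)
    (h1 : ∀ q ∈ L1 ++ L2, D.IsPosRoot q.1 ∧ m' < q.1) :
    ∃ v ∈ ukV D K (m' + 1), h8wordU D hB (L1 ++ (m', τ) :: L2) = h8xU D hB m' τ * v := by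
  have hL1 : h8wordU D hB L1 ∈ ukV D K (m' + 1) := by
    apply cfword_mem_Vk
    intro q hq
    have := h1 q (List.mem_append_left _ hq)
    exact ⟨this.1, by omega⟩
  have hL2 : h8wordU D hB L2 ∈ ukV D K (m' + 1) := by
    apply cfword_mem_Vk
    intro q hq
    have := h1 q (List.mem_append_right _ hq)
    exact ⟨this.1, by omega⟩
  have hx : h8xU D hB m' τ ∈ D.posUnipotent K :=
    Subgroup.subset_closure ⟨m', τ, hm', h8xU_val D hB m' τ⟩
  have hn := cf_norm_U D hB hC hO hM (h8xU D hB m' τ)⁻¹ (Subgroup.inv_mem _ hx) (m' + 1) _ hL1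
  rw [inv_inv] at hn
  refine ⟨(h8xU D hB m' τ)⁻¹ * h8wordU D hB L1 * h8xU D hB m' τ * h8wordU D hB L2,
    Subgroup.mul_mem _ hn hL2, ?_⟩
  rw [h8wordU_append, h8wordU_cons]
  group

include hC hO hM in
theorem uk_kap_V_mem (m γ m' : ℕ) (hγ : γ < D.nroots)
    (hrest : ∀ r, m < r → D.IsPosRoot r → r ≠ γ →
      γ ≠ D.negIdx.getD r 0 ∧ ∀ c ∈ D.commTerms r γ, D.IsPosRoot c.1 ∧ m' < c.1)
    (v : GL D.Idx K) (hv : v ∈ ukV D K (m + 1)) :
    ukKap D hB γ v ∈ ukV D K (m' + 1) := by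
  have hVU : ukV D K (m + 1) ≤ D.posUnipotent K := by
    rw [← h8Vk_zero]
    exact cfVk_anti D 0 (m + 1) (Nat.zero_le _)
  -- strengthen: `v ∈ U` and `κ(v) ∈ V_{m'+1}`
  suffices h : v ∈ D.posUnipotent K ∧ ukKap D hB γ v ∈ ukV D K (m' + 1) from h.2
  unfold ukV at hv
  induction hv using Subgroup.closure_induction with
  | mem x hx =>
    refine ⟨hVU (Subgroup.subset_closure hx), ?_⟩
    obtain ⟨r, c, hr, hmr, hxv⟩ := hx
    have hx' : x = h8xU D hB r c := Units.ext hxv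
    rw [hx']
    by_cases hrγ : r = γ
    · rw [hrγ, ukKap_self D hB γ hγ]
      exact Subgroup.one_mem _
    · obtain ⟨h2, hterms⟩ := hrest r (by omega) hr hrγ
      rw [ukKap_x D hB hC γ r hr.1 hγ (fun h => hrγ h.symm) h2]
      apply cfword_mem_Vk
      intro q hq
      unfold ChevalleyDatum.commWord at hq
      rw [List.mem_map] at hq
      obtain ⟨cc, hcc, rfl⟩ := hq
      have := hterms cc hcc
      exact ⟨this.1, by simp only; omega⟩
  | one =>
    refine ⟨Subgroup.one_mem _, ?_⟩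
    have : ukKap D hB γ (1 : GL D.Idx K) = 1 := by unfold ukKap; group
    rw [this]
    exact Subgroup.one_mem _
  | mul x y _ _ hx hy =>
    refine ⟨Subgroup.mul_mem _ hx.1 hy.1, ?_⟩
    rw [ukKap_mul]
    apply Subgroup.mul_mem _ hy.2
    have := cf_norm_U D hB hC hO hM y⁻¹ (Subgroup.inv_mem _ hy.1) (m' + 1) _ hx.2
    rwa [inv_inv] at this
  | inv x _ hx =>
    refine ⟨Subgroup.inv_mem _ hx.1, ?_⟩
    rw [ukKap_inv]
    exact cf_norm_U D hB hC hO hM x hx.1 (m' + 1) _ (Subgroup.inv_mem _ hx.2)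

end L

end Cfsg.Agent.Lib.helper14.BGLUK
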