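import Mathlib
import Cfsg.Agent.Lib.helper14.BGLUKL1

/-!
# BGL block UK, rows UKL4 UKL5: the leading term of `κ_γ` on `x_m(t) V_{m+1}` (characteristic 2)
-/

set_option autoImplicit false

namespace Cfsg.Agent.Lib.helper14.BGLUK

open Cfsg.Lie Cfsg.Lie.ChevalleyDatum Cfsg.Agent.Lib.helper8 Cfsg.Agent.Lib.helper14

universe u

variable {K : Type u} [Field K]

/-- an odd integer casts to `1` in characteristic 2 -/
theorem ukl4_odd_cast [CharP K 2] (c : ℤ) (hc : c % 2 = 1) : (c : K) = 1 := by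
  have h2 : (2 : K) = 0 := by
    have := CharP.cast_eq_zero K 2
    exact_mod_cast this
  have e : c = 2 * (c / 2) + 1 := by omega
  rw [e]
  push_cast
  rw [h2, zero_mul, zero_add]

theorem ukl4_neg [CharP K 2] (t : K) : -t = t := by
  have h2 : (2 : K) = 0 := by
    have := CharP.cast_eq_zero K 2
    exact_mod_cast this
  have : t + t = 0 := by rw [← two_mul, h2, zero_mul]
  exact neg_eq_of_add_eq_zero_left this

section L

variable (D : ChevalleyDatum) (hB : H8Base.{u} D)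
variable (hC : H8CommAll.{u} D) (hO : H8Ord D) (hM : CfMax D)

include hC hO hM in
theorem uk_kap_x_lead [CharP K 2] (m γ m' : ℕ) (h : UkLT D m γ m') (t : K) :
    ∃ w ∈ ukV D K (m' + 1), ukKap D hB γ (h8xU D hB m t) = h8xU D hB m' t * w := by
  obtain ⟨L1, L2, c0, j0, e, hc0, hothers⟩ := h.lead
  rw [ukKap_x D hB hC γ m h.hm.1 h.hγ h.hne h.hneg]
  let f : ℕ × ℤ × ℕ × ℕ → ℕ × K := fun c => (c.1, (c.2.1 : K) * (-t) ^ c.2.2.1 * (1 : K) ^ c.2.2.2)
  have hw : D.commWord K m γ t 1 = L1.map f ++ (m', t) :: L2.map f := by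
    unfold ChevalleyDatum.commWord
    rw [e, List.map_append, List.map_cons]
    congr 2
    simp only
    rw [ukl4_odd_cast c0 hc0, ukl4_neg, pow_one, one_pow, one_mul, mul_one]
  rw [hw]
  apply uk_word_lead D hB hC hO hM m' h.hm'
  intro q hq
  rw [← List.map_append, List.mem_map] at hq
  obtain ⟨c, hc, rfl⟩ := hq
  exact hothers c hc

include hC hO hM in
theorem uk_kap_lead [CharP K 2] (m γ m' : ℕ) (h : UkLT D m γ m') (t : K)
    (v : GL D.Idx K) (hv : v ∈ ukV D K (m + 1)) :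
    ∃ v' ∈ ukV D K (m' + 1), ukKap D hB γ (h8xU D hB m t * v) = h8xU D hB m' t * v' := by
  have hVU : ukV D K (m + 1) ≤ D.posUnipotent K := by
    rw [← h8Vk_zero]
    exact cfVk_anti D 0 (m + 1) (Nat.zero_le _)
  have hvU : v ∈ D.posUnipotent K := hVU hv
  obtain ⟨w, hw, ew⟩ := uk_kap_x_lead D hB hC hO hM m γ m' h t
  have hκv := uk_kap_V_mem D hB hC hO hM m γ m' h.hγ h.rest v hv
  obtain ⟨v1, hv1, e1⟩ := cf_conj_U D hB hC hO hM v⁻¹ (Subgroup.inv_mem _ hvU) m' h.hm' t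
  rw [inv_inv] at e1
  have hw' : v⁻¹ * w * v ∈ ukV D K (m' + 1) := by
    have := cf_norm_U D hB hC hO hM v⁻¹ (Subgroup.inv_mem _ hvU) (m' + 1) w hw
    rwa [inv_inv] at this
  have hx : h8xU D hB m' t ∈ D.posUnipotent K :=
    Subgroup.subset_closure ⟨m', t, h.hm', h8xU_val D hB m' t⟩
  have hκv' : (h8xU D hB m' t)⁻¹ * ukKap D hB γ v * h8xU D hB m' t ∈ ukV D K (m' + 1) := by
    have := cf_norm_U D hB hC hO hM (h8xU D hB m' t)⁻¹ (Subgroup.inv_mem _ hx) (m' + 1) _ hκv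
    rwa [inv_inv] at this
  refine ⟨(h8xU D hB m' t)⁻¹ * ukKap D hB γ v * h8xU D hB m' t * v1 * (v⁻¹ * w * v),
    Subgroup.mul_mem _ (Subgroup.mul_mem _ hκv' hv1) hw', ?_⟩
  rw [ukKap_mul, ew]
  have e2 : v⁻¹ * (h8xU D hB m' t * w) * v = (v⁻¹ * h8xU D hB m' t * v) * (v⁻¹ * w * v) := by group
  rw [e2, e1]
  group

end L

end Cfsg.Agent.Lib.helper14.BGLUK
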