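import Mathlib
import Cfsg.Agent.Lib.helper14.BGLUKT1
import Cfsg.Agent.Lib.helper14.BGL.UKTabG2
import Cfsg.Agent.Lib.helper14.BGL.UKTabB2
import Cfsg.Agent.Lib.helper14.BGL.UKTabD4
import Cfsg.Agent.Lib.helper14.BGL.UKTabF4
import Cfsg.Agent.Lib.helper14.BGL.UKTabE6
import Cfsg.Agent.Lib.helper14.BGL.UKTabE7
import Cfsg.Agent.Lib.helper14.BGL.UKTabE8
import Cfsg.Agent.Lib.Helper25.BGL.PCDefs

/-!
# BGL block UK, row UKT2: `ukLT_all`, `ukLT_up` from the generated tables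
-/

set_option autoImplicit false

namespace Cfsg.Agent.Lib.helper14.BGLUK

open Cfsg.Lie Cfsg.Lie.ChevalleyDatum Cfsg.Agent.Lib.helper8 Cfsg.Agent.Lib.Helper10.BGL

theorem ukt2_of_tab (D : ChevalleyDatum) (tab : List (ℕ × ℕ × ℕ)) (exc : List ℕ)
    (h1 : ukTabChk D tab = true) (h2 : ukTabCov D tab = true) (h3 : ukTabUp tab exc = true)
    (m : ℕ) (hm : D.IsPosRoot m) :
    ∃ γ m', UkLT D m γ m' ∧ (m ∉ exc → m < m') := by
  unfold ukTabCov at h2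
  rw [List.all_eq_true] at h2
  have h4 := h2 m (List.mem_range.mpr hm.1)
  simp only [Bool.or_eq_true, Bool.not_eq_true', decide_eq_false_iff_not, List.any_eq_true,
    beq_iff_eq] at h4
  rcases h4 with h4 | ⟨e, he, hem⟩
  · exact absurd hm h4
  · unfold ukTabChk at h1
    rw [List.all_eq_true] at h1
    have h5 := ukLTChk_spec D _ _ _ (h1 e he)
    unfold ukTabUp at h3
    rw [List.all_eq_true] at h3
    have h6 := h3 e he
    simp only [Bool.or_eq_true, decide_eq_true_eq, List.contains_eq_mem] at h6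
    rw [hem] at h5 h6
    refine ⟨e.2.1, e.2.2, h5, ?_⟩
    intro hne
    rcases h6 with h6 | h6
    · exact h6
    · exact absurd h6 hne

theorem ukLT_all (D : ChevalleyDatum) (hD : Seven D) (m : ℕ) (hm : D.IsPosRoot m) :
    ∃ γ m', UkLT D m γ m' := by
  simp only [Seven, List.mem_cons, List.not_mem_nil, or_false] at hD
  rcases hD with rfl | rfl | rfl | rfl | rfl | rfl | rfl
  · obtain ⟨γ, m', h, -⟩ := ukt2_of_tab _ _ _ ukTabChk_G2 ukTabCov_G2 ukTabUp_G2 m hm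
    exact ⟨γ, m', h⟩
  · obtain ⟨γ, m', h, -⟩ := ukt2_of_tab _ _ _ ukTabChk_B2 ukTabCov_B2 ukTabUp_B2 m hm
    exact ⟨γ, m', h⟩
  · obtain ⟨γ, m', h, -⟩ := ukt2_of_tab _ _ _ ukTabChk_D4 ukTabCov_D4 ukTabUp_D4 m hm
    exact ⟨γ, m', h⟩
  · obtain ⟨γ, m', h, -⟩ := ukt2_of_tab _ _ _ ukTabChk_F4 ukTabCov_F4 ukTabUp_F4 m hm
    exact ⟨γ, m', h⟩
  · obtain ⟨γ, m', h, -⟩ := ukt2_of_tab _ _ _ ukTabChk_E6 ukTabCov_E6 ukTabUp_E6 m hm
    exact ⟨γ, m', h⟩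
  · obtain ⟨γ, m', h, -⟩ := ukt2_of_tab _ _ _ ukTabChk_E7 ukTabCov_E7 ukTabUp_E7 m hm
    exact ⟨γ, m', h⟩
  · obtain ⟨γ, m', h, -⟩ := ukt2_of_tab _ _ _ ukTabChk_E8 ukTabCov_E8 ukTabUp_E8 m hm
    exact ⟨γ, m', h⟩

theorem ukLT_up (D : ChevalleyDatum) (hD : Seven D) (m : ℕ) (hm : D.IsPosRoot m)
    (h1 : m + 1 ≠ D.nroots) (h2 : ¬ (D.nroots = 8 ∧ m = 6)) (h3 : ¬ (D.nroots = 48 ∧ m = 44)) :
    ∃ γ m', UkLT D m γ m' ∧ m < m' := by
  simp only [Seven, List.mem_cons, List.not_mem_nil, or_false] at hD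
  rcases hD with rfl | rfl | rfl | rfl | rfl | rfl | rfl
  · obtain ⟨γ, m', h, hup⟩ := ukt2_of_tab _ _ _ ukTabChk_G2 ukTabCov_G2 ukTabUp_G2 m hm
    refine ⟨γ, m', h, hup ?_⟩
    have hn : chevG2.nroots = 12 := rfl
    rw [hn] at h1
    simp only [ukExc_G2, List.mem_cons, List.not_mem_nil, or_false]
    omega
  · obtain ⟨γ, m', h, hup⟩ := ukt2_of_tab _ _ _ ukTabChk_B2 ukTabCov_B2 ukTabUp_B2 m hm
    refine ⟨γ, m', h, hup ?_⟩
    have hn : chevB2.nroots = 8 := rfl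
    rw [hn] at h1 h2
    simp only [ukExc_B2, List.mem_cons, List.not_mem_nil, or_false]
    omega
  · obtain ⟨γ, m', h, hup⟩ := ukt2_of_tab _ _ _ ukTabChk_D4 ukTabCov_D4 ukTabUp_D4 m hm
    refine ⟨γ, m', h, hup ?_⟩
    have hn : chevD4.nroots = 24 := rfl
    rw [hn] at h1
    simp only [ukExc_D4, List.mem_cons, List.not_mem_nil, or_false]
    omega
  · obtain ⟨γ, m', h, hup⟩ := ukt2_of_tab _ _ _ ukTabChk_F4 ukTabCov_F4 ukTabUp_F4 m hm
    refine ⟨γ, m', h, hup ?_⟩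
    have hn : chevF4.nroots = 48 := rfl
    rw [hn] at h1 h3
    simp only [ukExc_F4, List.mem_cons, List.not_mem_nil, or_false]
    omega
  · obtain ⟨γ, m', h, hup⟩ := ukt2_of_tab _ _ _ ukTabChk_E6 ukTabCov_E6 ukTabUp_E6 m hm
    refine ⟨γ, m', h, hup ?_⟩
    have hn : chevE6.nroots = 72 := rfl
    rw [hn] at h1
    simp only [ukExc_E6, List.mem_cons, List.not_mem_nil, or_false]
    omega
  · obtain ⟨γ, m', h, hup⟩ := ukt2_of_tab _ _ _ ukTabChk_E7 ukTabCov_E7 ukTabUp_E7 m hm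
    refine ⟨γ, m', h, hup ?_⟩
    have hn : chevE7.nroots = 126 := rfl
    rw [hn] at h1
    simp only [ukExc_E7, List.mem_cons, List.not_mem_nil, or_false]
    omega
  · obtain ⟨γ, m', h, hup⟩ := ukt2_of_tab _ _ _ ukTabChk_E8 ukTabCov_E8 ukTabUp_E8 m hm
    refine ⟨γ, m', h, hup ?_⟩
    have hn : chevE8.nroots = 240 := rfl
    rw [hn] at h1
    simp only [ukExc_E8, List.mem_cons, List.not_mem_nil, or_false]
    omega

end Cfsg.Agent.Lib.helper14.BGLUK
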