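import Mathlib
import Cfsg.Agent.Lib.helper14.BGLUKL4
import Cfsg.Agent.Lib.helper14.BGLUKT2
import Cfsg.Agent.Lib.helper23.BGLUKB2
import Cfsg.Agent.Lib.helper14.ChevFiltAll
import Cfsg.Agent.Lib.helper8.ChevOrdAll

/-!
# BGL block UK, row UKC1 (backup by helper14): core of `uk_ind` on the statements of `uk_spec_B2`, `uk_spec_F4`
-/

set_option autoImplicit false

namespace Cfsg.Agent.Lib.helper14.BGLUK

open Cfsg.Lie Cfsg.Lie.ChevalleyDatum Cfsg.Agent.Lib.helper8 Cfsg.Agent.Lib.helper14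
  Cfsg.Agent.Lib.Helper10.BGL

universe u

variable {K : Type u} [Field K]

theorem bglukc1_V_skip (D : ChevalleyDatum) (m : ℕ) (hm : ¬ D.IsPosRoot m) :
    ukV D K m ≤ ukV D K (m + 1) := by
  unfold ukV
  apply Subgroup.closure_mono
  rintro g ⟨r, t, hr, hmr, hg⟩
  refine ⟨r, t, hr, ?_, hg⟩
  rcases Nat.eq_or_lt_of_le hmr with e | e
  · subst e; exact absurd hr hm
  · exact e

variable [Finite K] [CharP K 2]

/-- the induction step shared by all cases: if the leading coefficient is rational we are done -/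
theorem bglukc1_step (D : ChevalleyDatum) (hB : H8Base.{u} D) (a : ℕ) (H : Subgroup (GL D.Idx K))
    (hL : Lq D K (2 ^ a) ≤ H) (m : ℕ)
    (hIH : ∀ g ∈ H, g ∈ ukV D K (m + 1) → g ∈ ratS (K := K) 2 D a)
    (t : K) (v : GL D.Idx K) (hv : v ∈ ukV D K (m + 1)) (hg : h8xU D hB m t * v ∈ H)
    (ht : t ^ 2 ^ a = t) : h8xU D hB m t * v ∈ ratS (K := K) 2 D a := by
  obtain ⟨hx1, hx2⟩ := uk_x_mem 2 D hB a m t ht
  have hvH : v ∈ H := by
    have : v = (h8xU D hB m t)⁻¹ * (h8xU D hB m t * v) := by group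
    rw [this]
    exact H.mul_mem (H.inv_mem (hL hx1)) hg
  exact Subgroup.mul_mem _ hx2 (hIH v hvH hv)

/-- `uk_ind` from the statements of `uk_spec_B2` and `uk_spec_F4` -/
theorem bglukc1_core (D : ChevalleyDatum) (hD : Seven D) (a : ℕ) (H : Subgroup (GL D.Idx K))
    (hL : Lq D K (2 ^ a) ≤ H) (hR : RootRat D (2 ^ a) H)
    (hsB2 : D.nroots = 8 → ∀ (t1 : K) (v : GL D.Idx K), v ∈ ukV D K 7 →
      h8xU D (h8base_all.{u} D hD) 6 t1 * v ∈ H → t1 ^ 2 ^ a = t1)
    (hsF4 : D.nroots = 48 → (∀ g ∈ H, g ∈ ukV D K 45 → g ∈ ratS (K := K) 2 D a) →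
      ∀ (t1 : K) (v : GL D.Idx K), v ∈ ukV D K 45 →
      h8xU D (h8base_all.{u} D hD) 44 t1 * v ∈ H → t1 ^ 2 ^ a = t1) :
    ∀ n m : ℕ, m + n = D.nroots → ∀ g ∈ H, g ∈ ukV D K m → g ∈ ratS (K := K) 2 D a := by
  have hB := h8base_all.{u} D hD
  have hC := h8commAll.{u} D hD
  obtain ⟨hO, hO2⟩ := h8ord_all D hD
  have hM := cfMax_all D hD
  intro n
  induction n with
  | zero =>
    intro m hm g _ hgV
    unfold ukV at hgV
    rw [cf_Vk_top D m (by omega), Subgroup.mem_bot] at hgV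
    rw [hgV]
    exact Subgroup.one_mem _
  | succ n ih =>
    intro m hm g hg hgV
    have hIH : ∀ g ∈ H, g ∈ ukV D K (m + 1) → g ∈ ratS (K := K) 2 D a :=
      ih (m + 1) (by omega)
    by_cases hpos : D.IsPosRoot m
    · obtain ⟨t, v, hv, rfl⟩ := h8Vk_step D hB hC hO m hpos g hgV
      have hv' : v ∈ ukV D K (m + 1) := hv
      apply bglukc1_step D hB a H hL m hIH t v hv' hg
      -- the leading coefficient is rational
      by_cases h1 : m + 1 = D.nroots
      · -- the highest root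
        have hv1 : v = 1 := by
          rw [cf_Vk_top D (m + 1) (by omega), Subgroup.mem_bot] at hv
          exact hv
        rw [hv1, mul_one] at hg
        exact hR m hpos.1 t _ (h8xU_val D hB m t) hg
      · by_cases h2 : D.nroots = 8 ∧ m = 6
        · obtain ⟨h2a, rfl⟩ := h2
          exact hsB2 h2a t v hv' hg
        · by_cases h3 : D.nroots = 48 ∧ m = 44
          · obtain ⟨h3a, rfl⟩ := h3
            exact hsF4 h3a hIH t v hv' hg
          · obtain ⟨γ, m', hLT, hmm'⟩ := ukLT_up D hD m hpos h1 h2 h3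
            obtain ⟨v', hv'', e⟩ := uk_kap_lead D hB hC hO hM m γ m' hLT t v hv'
            -- `κ_γ(g) ∈ H`
            have hy : h8xU D hB γ (1 : K) ∈ H := hL (uk_x_mem 2 D hB a γ 1 (one_pow _)).1
            have hκ : ukKap D hB γ (h8xU D hB m t * v) ∈ H := by
              unfold ukKap
              exact H.mul_mem (H.mul_mem (H.mul_mem (H.inv_mem hy) (H.inv_mem hg)) hy) hg
            rw [e] at hκ
            -- it lies in `V_{m'} ≤ V_{m+1}`
            have hmem : h8xU D hB m' t * v' ∈ ukV D K (m + 1) := by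
              have h4 : h8xU D hB m' t ∈ ukV D K (m + 1) :=
                cfx_mem_Vk D hB (m + 1) m' hLT.hm' (by omega) t
              have h5 : v' ∈ ukV D K (m + 1) := cfVk_anti D (m + 1) (m' + 1) (by omega) hv''
              exact Subgroup.mul_mem _ h4 h5
            have hrat := hIH _ hκ hmem
            exact uk_rat_lead 2 D hB hO2 a m' hLT.hm' t v' hv'' hrat
    · exact hIH g hg (bglukc1_V_skip D m hpos hgV)

end Cfsg.Agent.Lib.helper14.BGLUK
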