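import Mathlib
import Cfsg.Agent.Lib.helper14.BGL.UKDefs
import Cfsg.Agent.Lib.helper14.ChevCentUJ
import Cfsg.Agent.Lib.Helper25.BGL.PCDefs

/-!
# BGL block UK, row UKFIN: `uk_main` and `bk_main` from the statements of `uk_ind`, `bk_torus`, `bk_ind`
-/

set_option autoImplicit false

namespace Cfsg.Agent.Lib.helper14.BGLUK

open Cfsg.Lie Cfsg.Lie.ChevalleyDatum Cfsg.Agent.Lib.helper8 Cfsg.Agent.Lib.helper14
  Cfsg.Agent.Lib.Helper10.BGL

universe u

variable {K : Type u} [Field K] [Finite K] [CharP K 2]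

/-- `uk_main` from the statement of `uk_ind` -/
theorem ukfin_uk_core (D : ChevalleyDatum) (a : ℕ) (H : Subgroup (GL D.Idx K))
    (hind : ∀ n m : ℕ, m + n = D.nroots → ∀ g ∈ H, g ∈ ukV D K m → g ∈ ratS (K := K) 2 D a) :
    ∀ g ∈ H, g ∈ D.posUnipotent K → RatM D (2 ^ a) ((g : GL D.Idx K) : Matrix D.Idx D.Idx K) := by
  intro g hg hgU
  rw [← mem_ratS]
  refine hind D.nroots 0 (by omega) g hg ?_
  unfold ukV
  rw [h8Vk_zero]
  exact hgU

/-- `bk_main` from the statements of `bk_torus`, `bk_ind` -/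
theorem ukfin_bk_core (D : ChevalleyDatum) (hD : Seven D) (a : ℕ) (H : Subgroup (GL D.Idx K))
    (htor : ∀ u h : GL D.Idx K, u ∈ D.posUnipotent K → h ∈ D.diagonalSubgroup K → u * h ∈ H →
      h ∈ ratS (K := K) 2 D a)
    (hind : ∀ h : GL D.Idx K, h ∈ D.diagonalSubgroup K → h ∈ ratS (K := K) 2 D a →
      ∀ n m : ℕ, m + n = D.nroots → ∀ u ∈ ukV D K m, u * h ∈ H → u ∈ ratS (K := K) 2 D a) :
    ∀ g ∈ H, g ∈ D.borelSubgroup K → RatM D (2 ^ a) ((g : GL D.Idx K) : Matrix D.Idx D.Idx K) := by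
  intro g hg hgB
  rw [← mem_ratS]
  obtain ⟨u, hu, h, hh, rfl⟩ := cf_B_decomp D (h8base_all.{u} D hD) g hgB
  have hrat := htor u h hu hh hg
  have hu' : u ∈ ukV D K 0 := by
    unfold ukV
    rw [h8Vk_zero]
    exact hu
  have hurat := hind h hh hrat D.nroots 0 (by omega) u hu' hg
  exact Subgroup.mul_mem _ hurat hrat

end Cfsg.Agent.Lib.helper14.BGLUK
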