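import Mathlib
import Cfsg.Agent.Lib.helper14.BGLUKFINcore
import Cfsg.Agent.Lib.helper14.BGLUKC1core
import Cfsg.Agent.Lib.Helper10.BGLUKS5
import Cfsg.Agent.Lib.Helper10.BGLUKS6core
import Cfsg.Agent.Lib.helper4.BGLUKC3core
import Cfsg.Agent.Lib.Helper26.BGLUKC4core

/-!
# BGL block UK, row UKFIN: `uk_main` and `bk_main` (Skel0 verbatim)

Assembled from the landed rows / cores: helper14 block L + tables + `bglukc1_core`, helper23 UKB1 UKB2,
helper10 UKS5 + `bgluks6_core` (on `ukz_split`), helper4 UKC2 + `bglukc3_core`, helper26 `bglukc4_core`.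
The instances of the rows `uk_ind`, `bk_torus`, `bk_ind` used here carry the private names `bglukfin_*`.
-/

set_option autoImplicit false

namespace Cfsg.Agent.Lib.helper14.BGLUK

open Cfsg.Lie Cfsg.Lie.ChevalleyDatum Cfsg.Agent.Lib.helper8 Cfsg.Agent.Lib.helper14
  Cfsg.Agent.Lib.Helper10.BGL

universe u

variable {K : Type u} [Field K] [Finite K] [CharP K 2]

/-- statement of `uk_spec_F4` (UKS6) from helper10's core -/
theorem bglukfin_spec_F4 (hB : H8Base.{u} chevF4) (a : ℕ) (H : Subgroup (GL chevF4.Idx K))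
    (hL : Lq chevF4 K (2 ^ a) ≤ H) (hR : RootRat chevF4 (2 ^ a) H)
    (hIH : ∀ g ∈ H, g ∈ ukV chevF4 K 45 → g ∈ ratS (K := K) 2 chevF4 a)
    (t1 : K) (v : GL chevF4.Idx K) (hv : v ∈ ukV chevF4 K 45)
    (hg : h8xU chevF4 hB 44 t1 * v ∈ H) : t1 ^ 2 ^ a = t1 := by
  have hD : Seven chevF4 := by simp [Seven]
  have hC := h8commAll.{u} chevF4 hD
  obtain ⟨hO, hO2⟩ := h8ord_all chevF4 hD
  have hM := cfMax_all chevF4 hD
  exact bgluks6_core hB a H hL hR
    (fun m γ m' h t v hv => uk_kap_lead chevF4 hB hC hO hM m γ m' h t v hv)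
    (fun m hm t v hv hr => uk_rat_lead 2 chevF4 hB hO2 a m hm t v hv hr)
    hIH t1 v hv hg

/-- statement of `uk_ind` (UKC1) -/
theorem bglukfin_ind (D : ChevalleyDatum) (hD : Seven D) (a : ℕ) (H : Subgroup (GL D.Idx K))
    (hL : Lq D K (2 ^ a) ≤ H) (hR : RootRat D (2 ^ a) H) :
    ∀ n m : ℕ, m + n = D.nroots → ∀ g ∈ H, g ∈ ukV D K m → g ∈ ratS (K := K) 2 D a := by
  have hD' := hD
  simp only [Seven, List.mem_cons, List.not_mem_nil, or_false] at hD'
  rcases hD' with rfl | rfl | rfl | rfl | rfl | rfl | rfl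
  · exact bglukc1_core _ hD a H hL hR (fun h => absurd h (by decide)) (fun h => absurd h (by decide))
  · exact bglukc1_core _ hD a H hL hR
      (fun _ t1 v hv hg => uk_spec_B2 _ a H hL hR t1 v hv hg) (fun h => absurd h (by decide))
  · exact bglukc1_core _ hD a H hL hR (fun h => absurd h (by decide)) (fun h => absurd h (by decide))
  · exact bglukc1_core _ hD a H hL hR (fun h => absurd h (by decide))
      (fun _ hIH t1 v hv hg => bglukfin_spec_F4 _ a H hL hR hIH t1 v hv hg)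
  · exact bglukc1_core _ hD a H hL hR (fun h => absurd h (by decide)) (fun h => absurd h (by decide))
  · exact bglukc1_core _ hD a H hL hR (fun h => absurd h (by decide)) (fun h => absurd h (by decide))
  · exact bglukc1_core _ hD a H hL hR (fun h => absurd h (by decide)) (fun h => absurd h (by decide))

/-- statement of `bk_torus` (UKC3) from helper4's core -/
theorem bglukfin_torus (D : ChevalleyDatum) (hD : Seven D) (a : ℕ) (H : Subgroup (GL D.Idx K))
    (hL : Lq D K (2 ^ a) ≤ H)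
    (hU : ∀ g ∈ H, g ∈ D.posUnipotent K → g ∈ ratS (K := K) 2 D a)
    (u h : GL D.Idx K) (hu : u ∈ D.posUnipotent K) (hh : h ∈ D.diagonalSubgroup K)
    (hg : u * h ∈ H) : h ∈ ratS (K := K) 2 D a :=
  bglukc3_core D hD a H hL
    (fun m hm t v hv hr =>
      uk_rat_lead 2 D (h8base_all.{u} D hD) (h8ord_all D hD).2 a m hm t v hv hr)
    hU u h hu hh hg

/-- statement of `bk_ind` (UKC4) from helper26's core -/
theorem bglukfin_bk_ind (D : ChevalleyDatum) (hD : Seven D) (a : ℕ) (H : Subgroup (GL D.Idx K))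
    (hL : Lq D K (2 ^ a) ≤ H)
    (hU : ∀ g ∈ H, g ∈ D.posUnipotent K → g ∈ ratS (K := K) 2 D a)
    (h : GL D.Idx K) (hh : h ∈ D.diagonalSubgroup K) (hrat : h ∈ ratS (K := K) 2 D a) :
    ∀ n m : ℕ, m + n = D.nroots → ∀ u ∈ ukV D K m, u * h ∈ H → u ∈ ratS (K := K) 2 D a := by
  have hB := h8base_all.{u} D hD
  have hC := h8commAll.{u} D hD
  obtain ⟨hO, hO2⟩ := h8ord_all D hD
  have hM := cfMax_all D hD
  exact bglukc4_core D hD hB
    (fun m γ m' h t v hv => uk_kap_lead D hB hC hO hM m γ m' h t v hv)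
    (fun a m hm t v hv hr => uk_rat_lead 2 D hB hO2 a m hm t v hv hr)
    (fun m hm => ukLT_all D hD m hm)
    a H hL hU h hh hrat

end Cfsg.Agent.Lib.helper14.BGLUK

namespace Cfsg.Agent.Lib.Helper10.BGL

open Cfsg.Lie Cfsg.Lie.ChevalleyDatum Cfsg.Agent.Lib.helper14.BGLUK

universe u

variable {K : Type u} [Field K] [Finite K]

/-- UK (C1): `H ∩ U(K) = U(k)`. -/
theorem uk_main [CharP K 2] (D : ChevalleyDatum)
    (hD : D ∈ [chevG2, chevB2, chevD4, chevF4, chevE6, chevE7, chevE8]) (a : ℕ) (ha : 1 ≤ a)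
    (H : Subgroup (GL D.Idx K)) (hH : H ≤ D.group K) (hL : Lq D K (2 ^ a) ≤ H)
    (hR : RootRat D (2 ^ a) H) :
    ∀ g ∈ H, g ∈ D.posUnipotent K → RatM D (2 ^ a) ((g : GL D.Idx K) : Matrix D.Idx D.Idx K) :=
  ukfin_uk_core D a H (bglukfin_ind D hD a H hL hR)

/-- UK (C2): `H ∩ B(K)` is rational. -/
theorem bk_main [CharP K 2] (D : ChevalleyDatum)
    (hD : D ∈ [chevG2, chevB2, chevD4, chevF4, chevE6, chevE7, chevE8]) (a : ℕ) (ha : 1 ≤ a)
    (H : Subgroup (GL D.Idx K)) (hH : H ≤ D.group K) (hL : Lq D K (2 ^ a) ≤ H)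
    (hR : RootRat D (2 ^ a) H) :
    ∀ g ∈ H, g ∈ D.borelSubgroup K → RatM D (2 ^ a) ((g : GL D.Idx K) : Matrix D.Idx D.Idx K) := by
  have hU : ∀ g ∈ H, g ∈ D.posUnipotent K → g ∈ ratS (K := K) 2 D a := fun g hg hgU =>
    (mem_ratS 2 D a g).mpr (uk_main D hD a ha H hH hL hR g hg hgU)
  exact ukfin_bk_core D hD a H (fun u h hu hh hg => bglukfin_torus D hD a H hL hU u h hu hh hg)
    (fun h hh hrat => bglukfin_bk_ind D hD a H hL hU h hh hrat)

end Cfsg.Agent.Lib.Helper10.BGL
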