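import Mathlib
import Cfsg.Prelude.Def_ChevStructure
import Cfsg.Prelude.Def_LieChev
import Cfsg.Prelude.Def_ChevB2
import Cfsg.Prelude.Def_ChevD4
import Cfsg.Agent.Lib.helper7.SfA
import Cfsg.Agent.Lib.helper7.SfT
import Cfsg.Agent.Lib.helper8.ChevBaseAll
import Cfsg.Agent.Lib.helper8.ChevBNAll
import Cfsg.Agent.Lib.helper8.ChevBN3
import Cfsg.Agent.Lib.helper8.ChevPerf

/-! BGL (S2190), first conjunct: the subgroup of `F_q`-rational matrices is proper. (helper14) -/

set_option autoImplicit false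

namespace Cfsg.Agent.Lib.helper14.BGL

open Cfsg.Lie Cfsg.Lie.ChevalleyDatum Cfsg.Agent.Lib.helper8 Cfsg.Agent.Lib.helper7.Sf

universe u

/-- a finite field with more than `n` elements has an element that is not a root of `X ^ n - X` -/
theorem bglmne_exists_not_fixed {K : Type u} [Field K] [Fintype K] (n : ℕ) (hn : 2 ≤ n)
    (hK : n < Fintype.card K) : ∃ t : K, t ^ n ≠ t := by
  classical
  by_contra hcon
  push_neg at hcon
  have hpoly : ((Polynomial.X : Polynomial K) ^ n - Polynomial.X) ≠ 0 :=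
    FiniteField.X_pow_card_sub_X_ne_zero K (by omega)
  have hroots : ∀ t : K, t ∈ ((Polynomial.X : Polynomial K) ^ n - Polynomial.X).roots := by
    intro t
    rw [Polynomial.mem_roots hpoly]
    simp [hcon t]
  have hcard : Fintype.card K ≤ ((Polynomial.X : Polynomial K) ^ n - Polynomial.X).roots.toFinset.card := by
    rw [← Finset.card_univ]
    apply Finset.card_le_card
    intro t _
    exact Multiset.mem_toFinset.mpr (hroots t)
  have h2 : ((Polynomial.X : Polynomial K) ^ n - Polynomial.X).roots.toFinset.card ≤ n := by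
    calc _ ≤ Multiset.card ((Polynomial.X : Polynomial K) ^ n - Polynomial.X).roots :=
          Multiset.toFinset_card_le _
      _ ≤ ((Polynomial.X : Polynomial K) ^ n - Polynomial.X).natDegree := Polynomial.card_roots' _
      _ = n := FiniteField.X_pow_card_sub_X_natDegree_eq K (by omega)
  omega

/-- first conjunct of S2190 -/
theorem bgl_M_ne {K : Type u} [Field K] [Fintype K] (p : ℕ) [Fact p.Prime]
    (D : Cfsg.Lie.ChevalleyDatum)
    (hD : D ∈ [Cfsg.Lie.chevG2, Cfsg.Lie.chevB2, Cfsg.Lie.chevD4, Cfsg.Lie.chevF4,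
      Cfsg.Lie.chevE6, Cfsg.Lie.chevE7, Cfsg.Lie.chevE8]) (a r : ℕ) (ha : 1 ≤ a) (hr : r.Prime)
    (hK : Fintype.card K = (p ^ a) ^ r) (M : Subgroup (GL D.Idx K))
    (hM : ∀ g : GL D.Idx K, g ∈ M ↔ g ∈ D.group K ∧ ∀ i j : D.Idx,
      ((g : Matrix D.Idx D.Idx K) i j) ^ (p ^ a) = (g : Matrix D.Idx D.Idx K) i j) :
    M ≠ D.group K := by
  classical
  have hB := h8base_all.{u} D hD
  have hBN := h8bn_all D hD
  have hpi := piChk_all D hD
  have hp2 : 2 ≤ p := (Fact.out : p.Prime).two_le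
  have hq2 : 2 ≤ p ^ a := by
    calc 2 ≤ p := hp2
      _ = p ^ 1 := (pow_one p).symm
      _ ≤ p ^ a := Nat.pow_le_pow_right (by omega) ha
  have hr2 : 2 ≤ r := hr.two_le
  have hlt : p ^ a < Fintype.card K := by
    rw [hK]
    calc p ^ a = (p ^ a) ^ 1 := (pow_one _).symm
      _ < (p ^ a) ^ r := Nat.pow_lt_pow_right (by omega) (by omega)
  obtain ⟨t, ht⟩ := bglmne_exists_not_fixed (K := K) (p ^ a) hq2 hlt
  have hrank : 0 < D.rank := by
    simp only [List.mem_cons, List.mem_nil_iff, or_false] at hD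
    rcases hD with rfl | rfl | rfl | rfl | rfl | rfl | rfl <;> decide
  obtain ⟨b1, b2, b3, b4, b5⟩ := piChk_spec D hpi 0 hrank
  have hmlt : D.neg (D.simple 0) < D.nroots := by omega
  intro hMG
  have hg : h8xU D hB (D.simple 0) t ∈ M := by
    rw [hMG]
    exact h8xU_mem_group D hB _ t
  have h1 := ((hM _).mp hg).2 (Sum.inl ⟨0, hrank⟩) (Sum.inr ⟨D.neg (D.simple 0), hmlt⟩)
  rw [coef_xU_simple D hB hpi (fun i hi => h8simple_pos D hBN i hi) ⟨0, hrank⟩
    ⟨D.neg (D.simple 0), hmlt⟩ rfl t] at h1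
  exact ht h1

end Cfsg.Agent.Lib.helper14.BGL
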