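import Cfsg.Agent.Lib.helper14.MRa

set_option autoImplicit false

/-!
# A second criterion for all automorphisms to be inner

A finite group `G` whose order is divisible by `23` exactly once, with a self-centralising element
`c` of order `23`, a self-centralising element `u` of order `11` with `u c u⁻¹ = c²`, an element
`t` inverting `u`, generated by `c` and `t`, such that no automorphism fixes `u`, maps `c` to `c`
or `c⁻¹` and `t` to `t uⁱ` except the identity: every automorphism is inner.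
-/

namespace Cfsg.Agent.Lib.helper14.MR

open Subgroup Cfsg.Agent.Lib.helper4

/-- after an inner automorphism, an automorphism maps `c` to `c` or `c⁻¹` and fixes `u` -/
theorem adjust23 {G : Type*} [Group G] [Finite G] (c u : G)
    (hfac : (Nat.card G).factorization 23 = 1) (hc : orderOf c = 23)
    (hu : u * c * u⁻¹ = c ^ 2) (hCc : ∀ x : G, x * c = c * x → x ∈ zpowers c) (α : MulAut G) :
    ∃ g : G, ((MulAut.conj g * α) c = c ∨ (MulAut.conj g * α) c = c⁻¹) ∧
      (MulAut.conj g * α) u = u := by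
  classical
  have : Fact (Nat.Prime 23) := ⟨by norm_num⟩
  have hc23 : c ^ 23 = 1 := by rw [← hc, pow_orderOf_eq_one]
  have hc22 : c ^ 22 = c⁻¹ := by
    apply eq_inv_of_mul_eq_one_left
    rw [← pow_succ, hc23]
  have hcmod : ∀ n : ℕ, c ^ n = c ^ (n % 23) := by
    intro n
    rw [← hc, pow_mod_orderOf]
  have hαc : orderOf (α c) = 23 := by rw [MulEquiv.orderOf_eq, hc]
  obtain ⟨g, hg⟩ := conj_into_subgroup 23 (zpowers c) 1 hfac
    (by rw [Nat.card_zpowers, hc]; norm_num) (α c) hαc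
  rw [mem_zpowers_iff_mem_range_orderOf, Finset.mem_image] at hg
  obtain ⟨k, hk, hck⟩ := hg
  rw [Finset.mem_range, hc] at hk
  have hk0 : k ≠ 0 := by
    intro h
    rw [h, pow_zero] at hck
    have : α c = 1 := by
      calc α c = g * (g⁻¹ * α c * g) * g⁻¹ := by group
        _ = 1 := by rw [← hck]; group
    rw [this, orderOf_one] at hαc
    norm_num at hαc
  obtain ⟨j, hj⟩ := mod23_cases ⟨k, hk⟩ (by
    intro h
    apply hk0
    exact congrArg Fin.val h)
  set g1 : G := u ^ j.1 * g⁻¹ with hg1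
  set β : MulAut G := MulAut.conj g1 * α with hβ
  have hβc : β c = c ∨ β c = c⁻¹ := by
    have e : β c = u ^ j.1 * (g⁻¹ * α c * g) * (u ^ j.1)⁻¹ := by
      rw [hβ, MulAut.mul_apply, MulAut.conj_apply, hg1]
      group
    rw [e, ← hck, conj_pow_two u c hu j.1 k, hcmod]
    rcases hj with h | h
    · left; rw [h, pow_one]
    · right; rw [h, hc22]
  have hβu : β u * c * (β u)⁻¹ = c ^ 2 := by
    have h1 : β u * β c * (β u)⁻¹ = (β c) ^ 2 := by
      rw [← map_inv, ← map_mul, ← map_mul, hu, map_pow]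
    rcases hβc with h | h
    · rw [h] at h1; exact h1
    · rw [h] at h1
      have h2 : (β u * c⁻¹ * (β u)⁻¹)⁻¹ = ((c⁻¹) ^ 2)⁻¹ := by rw [h1]
      rw [inv_pow, inv_inv] at h2
      rw [← h2]
      group
  have hcomm : (u⁻¹ * β u) * c = c * (u⁻¹ * β u) := by
    have h1 : β u * c = c ^ 2 * β u := by
      rw [← hβu]; group
    have h2 : u * c = c ^ 2 * u := by
      rw [← hu]; group
    have h3 : u⁻¹ * c ^ 2 = c * u⁻¹ := by
      have : u⁻¹ * (c ^ 2 * u) * u⁻¹ = u⁻¹ * (u * c) * u⁻¹ := by rw [h2]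
      calc u⁻¹ * c ^ 2 = u⁻¹ * (c ^ 2 * u) * u⁻¹ := by group
        _ = u⁻¹ * (u * c) * u⁻¹ := this
        _ = c * u⁻¹ := by group
    calc (u⁻¹ * β u) * c = u⁻¹ * (β u * c) := by group
      _ = u⁻¹ * (c ^ 2 * β u) := by rw [h1]
      _ = (u⁻¹ * c ^ 2) * β u := by group
      _ = (c * u⁻¹) * β u := by rw [h3]
      _ = c * (u⁻¹ * β u) := by group
  have hmem := hCc _ hcomm
  rw [mem_zpowers_iff_mem_range_orderOf, Finset.mem_image] at hmem
  obtain ⟨i, -, hi⟩ := hmem
  have hβu' : β u = u * c ^ i := by rw [hi]; group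
  have hcu : c ^ (2 * i) * u = u * c ^ i := by
    have := conj_pow_two u c hu 1 i
    rw [pow_one, pow_one] at this
    rw [← this]; group
  refine ⟨c ^ (2 * i) * g1, ?_⟩
  have hγ : MulAut.conj (c ^ (2 * i) * g1) * α = MulAut.conj (c ^ (2 * i)) * β := by
    rw [map_mul, mul_assoc]
  rw [hγ]
  constructor
  · rw [MulAut.mul_apply, MulAut.conj_apply]
    rcases hβc with h | h
    · left
      rw [h]
      calc c ^ (2 * i) * c * (c ^ (2 * i))⁻¹ = c ^ (2 * i) * (c ^ (2 * i))⁻¹ * c := by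
            rw [mul_assoc, mul_assoc]
            congr 1
            rw [← zpow_natCast, ← zpow_neg]
            exact (Commute.zpow_right (Commute.refl c) _).eq
        _ = c := by rw [mul_inv_cancel, one_mul]
    · right
      rw [h]
      calc c ^ (2 * i) * c⁻¹ * (c ^ (2 * i))⁻¹ = c ^ (2 * i) * (c ^ (2 * i))⁻¹ * c⁻¹ := by
            rw [mul_assoc, mul_assoc]
            congr 1
            rw [← zpow_natCast, ← zpow_neg, ← zpow_neg_one]
            exact (Commute.zpow_zpow (Commute.refl c) _ _).eq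
        _ = c⁻¹ := by rw [mul_inv_cancel, one_mul]
  · rw [MulAut.mul_apply, MulAut.conj_apply, hβu']
    calc c ^ (2 * i) * (u * c ^ i) * (c ^ (2 * i))⁻¹
        = (c ^ (2 * i) * u) * c ^ i * (c ^ (2 * i))⁻¹ := by group
      _ = (u * c ^ i) * c ^ i * (c ^ (2 * i))⁻¹ := by rw [hcu]
      _ = u * (c ^ i * c ^ i * (c ^ (2 * i))⁻¹) := by group
      _ = u := by rw [← pow_add, ← two_mul, mul_inv_cancel, mul_one]

/-- the second criterion -/
theorem out_trivial2 {G : Type*} [Group G] [Finite G] (c u t : G)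
    (hfac : (Nat.card G).factorization 23 = 1) (hc : orderOf c = 23)
    (hu : u * c * u⁻¹ = c ^ 2) (hgen : closure {c, t} = ⊤)
    (hCc : ∀ x : G, x * c = c * x → x ∈ zpowers c)
    (hu11 : orderOf u = 11) (hCu : ∀ x : G, x * u = u * x → x ∈ zpowers u)
    (htu : t * u * t⁻¹ = u⁻¹)
    (hex : ∀ γ : MulAut G, (γ c = c ∨ γ c = c⁻¹) → γ u = u → ∀ i : ℕ, i < 11 →
      γ t = t * u ^ i → γ c = c ∧ i = 0) :
    Nat.card (Cfsg.Out G) = 1 := by
  classical
  have key : ∀ α : MulAut G, α ∈ Cfsg.Inn G := by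
    intro α
    obtain ⟨g, hγc, hγu⟩ := adjust23 c u hfac hc hu hCc α
    set γ : MulAut G := MulAut.conj g * α with hγ
    -- the image of `t` inverts `u`
    have h1 : γ t * u * (γ t)⁻¹ = u⁻¹ := by
      have : γ (t * u * t⁻¹) = γ u⁻¹ := by rw [htu]
      rw [map_mul, map_mul, map_inv, map_inv, hγu] at this
      exact this
    have hcomm : (t⁻¹ * γ t) * u = u * (t⁻¹ * γ t) := by
      have h2 : γ t * u = u⁻¹ * γ t := by rw [← h1]; group
      have h3 : t * u = u⁻¹ * t := by rw [← htu]; group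
      have h4 : t⁻¹ * u⁻¹ = u * t⁻¹ := by
        calc t⁻¹ * u⁻¹ = t⁻¹ * (u⁻¹ * t) * t⁻¹ := by group
          _ = t⁻¹ * (t * u) * t⁻¹ := by rw [h3]
          _ = u * t⁻¹ := by group
      calc (t⁻¹ * γ t) * u = t⁻¹ * (γ t * u) := by group
        _ = t⁻¹ * (u⁻¹ * γ t) := by rw [h2]
        _ = (t⁻¹ * u⁻¹) * γ t := by group
        _ = (u * t⁻¹) * γ t := by rw [h4]
        _ = u * (t⁻¹ * γ t) := by group
    have hmem := hCu _ hcomm
    rw [mem_zpowers_iff_mem_range_orderOf, Finset.mem_image] at hmem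
    obtain ⟨i, hi, hi2⟩ := hmem
    rw [Finset.mem_range, hu11] at hi
    have hγt : γ t = t * u ^ i := by rw [hi2]; group
    obtain ⟨e1, e2⟩ := hex γ hγc hγu i hi hγt
    have hγ1 : γ = 1 := by
      apply aut_eq_of_gen c t hgen
      · rw [e1, MulAut.one_apply]
      · rw [hγt, e2, pow_zero, mul_one, MulAut.one_apply]
    have hα : α = (MulAut.conj g)⁻¹ := by
      apply eq_inv_of_mul_eq_one_right
      rw [← hγ, hγ1]
    rw [hα]
    exact Subgroup.inv_mem _ ⟨_, rfl⟩
  rw [Nat.card_eq_one_iff_unique]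
  refine ⟨⟨?_⟩, ⟨1⟩⟩
  intro a b
  obtain ⟨α, rfl⟩ := QuotientGroup.mk_surjective a
  obtain ⟨β, rfl⟩ := QuotientGroup.mk_surjective b
  rw [QuotientGroup.eq]
  exact key _

end Cfsg.Agent.Lib.helper14.MR
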