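import Mathlib
import Cfsg.Prelude.Def_ClassicalGeometry
import Cfsg.Agent.Lib.helper6.SympBasis

set_option autoImplicit false

/-!
# Embedding `Sp_{2j}` into `Sp_{2(j+k)}` and invariant polar pairs
-/

namespace Cfsg.Agent.Lib.helper14.PolC

open Cfsg.Agent.Lib.helper6 Cfsg.Agent.Lib.helper6.SB

variable {F : Type*} [Field F] (j k : ℕ)

/-- the embedding of index sets -/
def sg : Fin j ⊕ Fin j → Fin (j + k) ⊕ Fin (j + k) := Sum.map (Fin.castAdd k) (Fin.castAdd k)

theorem sg_inj : Function.Injective (sg j k) :=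
  Sum.map_injective.mpr ⟨Fin.castAdd_injective j k, Fin.castAdd_injective j k⟩

/-- extension by zero -/
noncomputable def io : (Fin j ⊕ Fin j → F) →ₗ[F] (Fin (j + k) ⊕ Fin (j + k) → F) :=
  Function.ExtendByZero.linearMap F (sg j k)

/-- restriction -/
def pr : (Fin (j + k) ⊕ Fin (j + k) → F) →ₗ[F] (Fin j ⊕ Fin j → F) :=
  LinearMap.funLeft F F (sg j k)

theorem io_apply (y : Fin j ⊕ Fin j → F) (t : Fin (j + k) ⊕ Fin (j + k)) :
    io j k y t = Function.extend (sg j k) y 0 t := rfl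

theorem pr_apply (v : Fin (j + k) ⊕ Fin (j + k) → F) (s : Fin j ⊕ Fin j) :
    pr j k v s = v (sg j k s) := rfl

theorem io_sg (y : Fin j ⊕ Fin j → F) (s : Fin j ⊕ Fin j) : io j k y (sg j k s) = y s := by
  rw [io_apply]
  exact (sg_inj j k).extend_apply y 0 s

theorem pr_io (y : Fin j ⊕ Fin j → F) : pr j k (io j k y) = y := by
  ext s
  rw [pr_apply, io_sg]

theorem io_inl_castAdd (y : Fin j ⊕ Fin j → F) (i : Fin j) :
    io j k y (Sum.inl (Fin.castAdd k i)) = y (Sum.inl i) := io_sg j k y (Sum.inl i)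

theorem io_inr_castAdd (y : Fin j ⊕ Fin j → F) (i : Fin j) :
    io j k y (Sum.inr (Fin.castAdd k i)) = y (Sum.inr i) := io_sg j k y (Sum.inr i)

theorem io_inl_natAdd (y : Fin j ⊕ Fin j → F) (i : Fin k) :
    io j k y (Sum.inl (Fin.natAdd j i)) = 0 := by
  rw [io_apply, Function.extend_apply']
  · rfl
  · rintro ⟨s, hs⟩
    rcases s with a | a
    · have h := Sum.inl.inj hs
      have h1 := congrArg Fin.val h
      simp at h1
      omega
    · exact absurd (show (Sum.inr (Fin.castAdd k a) : Fin (j + k) ⊕ Fin (j + k)) =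
        Sum.inl (Fin.natAdd j i) from hs) Sum.inr_ne_inl

theorem io_inr_natAdd (y : Fin j ⊕ Fin j → F) (i : Fin k) :
    io j k y (Sum.inr (Fin.natAdd j i)) = 0 := by
  rw [io_apply, Function.extend_apply']
  · rfl
  · rintro ⟨s, hs⟩
    rcases s with a | a
    · exact absurd (show (Sum.inl (Fin.castAdd k a) : Fin (j + k) ⊕ Fin (j + k)) =
        Sum.inr (Fin.natAdd j i) from hs) Sum.inl_ne_inr
    · have h := Sum.inr.inj hs
      have h1 := congrArg Fin.val h
      simp at h1
      omega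

theorem symp_io_left (y : Fin j ⊕ Fin j → F) (v : Fin (j + k) ⊕ Fin (j + k) → F) :
    Cfsg.sympForm (j + k) F (io j k y) v = Cfsg.sympForm j F y (pr j k v) := by
  rw [sympForm_eq_sum, sympForm_eq_sum, Fin.sum_univ_add]
  have h2 : ∑ i : Fin k, (io j k y (Sum.inr (Fin.natAdd j i)) * v (Sum.inl (Fin.natAdd j i)) -
      io j k y (Sum.inl (Fin.natAdd j i)) * v (Sum.inr (Fin.natAdd j i))) = 0 := by
    apply Finset.sum_eq_zero
    intro i _
    rw [io_inl_natAdd, io_inr_natAdd]
    ring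
  rw [h2, add_zero]
  apply Finset.sum_congr rfl
  intro i _
  rw [io_inl_castAdd, io_inr_castAdd]
  rfl

theorem symp_io_right (y : Fin j ⊕ Fin j → F) (v : Fin (j + k) ⊕ Fin (j + k) → F) :
    Cfsg.sympForm (j + k) F v (io j k y) = Cfsg.sympForm j F (pr j k v) y := by
  rw [sympForm_swap, symp_io_left, ← sympForm_swap]

/-- the embedding of endomorphisms -/
noncomputable def emb (a : Module.End F (Fin j ⊕ Fin j → F)) :
    Module.End F (Fin (j + k) ⊕ Fin (j + k) → F) :=
  1 + io j k ∘ₗ (a - 1) ∘ₗ pr j k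

theorem emb_apply (a : Module.End F (Fin j ⊕ Fin j → F)) (v : Fin (j + k) ⊕ Fin (j + k) → F) :
    emb j k a v = v + io j k (a (pr j k v) - pr j k v) := rfl

theorem pr_emb (a : Module.End F (Fin j ⊕ Fin j → F)) (v : Fin (j + k) ⊕ Fin (j + k) → F) :
    pr j k (emb j k a v) = a (pr j k v) := by
  rw [emb_apply, map_add, pr_io]
  abel

theorem emb_io (a : Module.End F (Fin j ⊕ Fin j → F)) (y : Fin j ⊕ Fin j → F) :
    emb j k a (io j k y) = io j k (a y) := by
  rw [emb_apply, pr_io, map_sub]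
  abel

theorem emb_one : emb j k (1 : Module.End F (Fin j ⊕ Fin j → F)) = 1 := by
  apply LinearMap.ext
  intro v
  rw [emb_apply, Module.End.one_apply, Module.End.one_apply, sub_self, map_zero, add_zero]

theorem emb_mul (a b : Module.End F (Fin j ⊕ Fin j → F)) :
    emb j k (a * b) = emb j k a * emb j k b := by
  apply LinearMap.ext
  intro v
  rw [Module.End.mul_apply, emb_apply j k a, pr_emb, emb_apply j k b, emb_apply,
    Module.End.mul_apply, map_sub, map_sub, map_sub]
  abel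

theorem emb_pow (a : Module.End F (Fin j ⊕ Fin j → F)) (n : ℕ) :
    emb j k (a ^ n) = emb j k a ^ n := by
  induction n with
  | zero => rw [pow_zero, pow_zero, emb_one]
  | succ n ih => rw [pow_succ, pow_succ, emb_mul, ih]

theorem symp_emb (a : Module.End F (Fin j ⊕ Fin j → F))
    (ha : ∀ y y', Cfsg.sympForm j F (a y) (a y') = Cfsg.sympForm j F y y')
    (u v : Fin (j + k) ⊕ Fin (j + k) → F) :
    Cfsg.sympForm (j + k) F (emb j k a u) (emb j k a v) = Cfsg.sympForm (j + k) F u v := by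
  rw [emb_apply, emb_apply]
  simp only [sympForm_add_left, sympForm_add_right, symp_io_left, symp_io_right, pr_io,
    sympForm_sub_left, sympForm_sub_right, ha]
  rw [sympForm_swap j (pr j k u) (pr j k v)]
  ring

/-- the main argument: no invariant complementary pair of totally isotropic subspaces -/
theorem no_fixed_pair (hj : 1 ≤ j) (a : Module.End F (Fin j ⊕ Fin j → F))
    (hfix : ∀ y, a y = y → y = 0)
    (hirr : ∀ U' : Submodule F (Fin j ⊕ Fin j → F), (∀ u ∈ U', a u ∈ U') → U' = ⊥ ∨ U' = ⊤)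
    (U W : Submodule F (Fin (j + k) ⊕ Fin (j + k) → F)) (hc : IsCompl U W)
    (hU : ∀ u ∈ U, ∀ v ∈ U, Cfsg.sympForm (j + k) F u v = 0)
    (hW : ∀ u ∈ W, ∀ v ∈ W, Cfsg.sympForm (j + k) F u v = 0)
    (hXU : ∀ u ∈ U, emb j k a u ∈ U) (hXW : ∀ w ∈ W, emb j k a w ∈ W) : False := by
  classical
  let y₁ : Fin j ⊕ Fin j → F := Pi.single (Sum.inl ⟨0, hj⟩) 1
  let y₂ : Fin j ⊕ Fin j → F := Pi.single (Sum.inr ⟨0, hj⟩) 1
  have hy12 : Cfsg.sympForm j F y₁ y₂ ≠ 0 := by
    rw [sympForm_eq_sum]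
    rw [Finset.sum_eq_single (⟨0, hj⟩ : Fin j)]
    · simp [y₁, y₂]
    · intro b _ hb
      simp [y₁, y₂, hb]
    · intro h
      exact absurd (Finset.mem_univ _) h
  have hy1 : y₁ ≠ 0 := by
    intro h
    apply hy12
    rw [h, sympForm_zero_left]
  -- general facts for an invariant t.i. subspace
  have key : ∀ U : Submodule F (Fin (j + k) ⊕ Fin (j + k) → F),
      (∀ u ∈ U, ∀ v ∈ U, Cfsg.sympForm (j + k) F u v = 0) → (∀ u ∈ U, emb j k a u ∈ U) →
      ∀ u ∈ U, pr j k u = 0 := by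
    intro U hU hXU
    have hinv : ∀ y ∈ U.comap (io j k), a y ∈ U.comap (io j k) := by
      intro y hy
      rw [Submodule.mem_comap] at hy ⊢
      rw [← emb_io]
      exact hXU _ hy
    rcases hirr _ hinv with hbot | htop
    · intro u hu
      apply hfix
      have h1 : emb j k a u - u ∈ U := U.sub_mem (hXU u hu) hu
      rw [emb_apply, add_sub_cancel_left] at h1
      have h2 : a (pr j k u) - pr j k u ∈ U.comap (io j k) := h1
      rw [hbot, Submodule.mem_bot] at h2
      exact sub_eq_zero.mp h2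
    · exfalso
      apply hy12
      have h1 : y₁ ∈ U.comap (io j k) := htop ▸ Submodule.mem_top
      have h2 : y₂ ∈ U.comap (io j k) := htop ▸ Submodule.mem_top
      have := hU _ h1 _ h2
      rw [symp_io_left, pr_io] at this
      exact this
  have hU0 := key U hU hXU
  have hW0 := key W hW hXW
  apply hy1
  have hmem : io j k y₁ ∈ U ⊔ W := by
    rw [hc.sup_eq_top]
    exact Submodule.mem_top
  obtain ⟨u, hu, w, hw, huw⟩ := Submodule.mem_sup.mp hmem
  rw [← pr_io j k y₁, ← huw, map_add, hU0 u hu, hW0 w hw, add_zero]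

end Cfsg.Agent.Lib.helper14.PolC
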