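import Mathlib
import Cfsg.Agent.Lib.helper3.A7Trans

set_option autoImplicit false

/-!
# An element of prime order `r` acting on `F^n` with `r ∤ q^m - 1` for `0 < m < n` is irreducible
-/

namespace Cfsg.Agent.Lib.helper14.PolA

open Module

variable {F : Type*} [Field F] [Finite F] {V : Type*} [AddCommGroup V] [Module F V]
  [Module.Finite F V]

/-- the fixed space of an endomorphism -/
def fixSp (x : V →ₗ[F] V) : Submodule F V := LinearMap.ker (x - 1)

omit [Finite F] [Module.Finite F V] in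
theorem mem_fixSp (x : V →ₗ[F] V) (v : V) : v ∈ fixSp x ↔ x v = v := by
  unfold fixSp
  rw [LinearMap.mem_ker, LinearMap.sub_apply, Module.End.one_apply, sub_eq_zero]

theorem card_inv_modEq (x : V →ₗ[F] V) (r : ℕ) [hr : Fact r.Prime] (hxr : x ^ r = 1)
    (U : Submodule F V) (hU : ∀ u ∈ U, x u ∈ U) :
    Nat.card F ^ finrank F U ≡ Nat.card F ^ finrank F ↥(U ⊓ fixSp x) [MOD r] := by
  have hfin : Finite V := Module.finite_of_finite F
  let g : (Module.End F V)ˣ := Units.ofPowEqOne x r hxr hr.out.ne_zero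
  have hg : g ^ r = 1 := Units.pow_ofPowEqOne hxr hr.out.ne_zero
  have hgv : ∀ v : V, g • v = x v := fun v => rfl
  have h := Cfsg.Agent.Lib.helper3.card_modEq_fixed_of_prime_order g r hg (U : Set V)
    (fun v hv => by rw [hgv]; exact hU v hv)
  have e1 : Nat.card (U : Set V) = Nat.card F ^ finrank F U := by
    rw [← Module.natCard_eq_pow_finrank (K := F) (V := U)]
    rfl
  have e2 : Nat.card {v : V // v ∈ (U : Set V) ∧ g • v = v} =
      Nat.card F ^ finrank F ↥(U ⊓ fixSp x) := by
    rw [← Module.natCard_eq_pow_finrank (K := F) (V := ↥(U ⊓ fixSp x))]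
    apply Nat.card_congr
    apply Equiv.subtypeEquivRight
    intro v
    rw [Submodule.mem_inf, mem_fixSp, hgv]
    rfl
  rw [e1, e2] at h
  exact h

theorem pow_arith (q r n a b : ℕ) [hr : Fact r.Prime] (hrq : ¬ r ∣ q) (hab : a ≤ b)
    (h : q ^ b ≡ q ^ a [MOD r]) (hnum : ∀ m, 0 < m → m < n → ¬ r ∣ q ^ m - 1) :
    b - a = 0 ∨ n ≤ b - a := by
  have hcop : Nat.gcd r (q ^ a) = 1 := by
    apply Nat.Coprime.pow_right
    exact (Nat.Prime.coprime_iff_not_dvd hr.out).mpr hrq
  have e : q ^ b = q ^ a * q ^ (b - a) := by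
    rw [← pow_add]
    congr 1
    omega
  rw [e] at h
  have h1 : q ^ a * q ^ (b - a) ≡ q ^ a * 1 [MOD r] := by rw [mul_one]; exact h
  have h2 := Nat.ModEq.cancel_left_of_coprime hcop h1
  have hq0 : 0 < q := by
    rcases Nat.eq_zero_or_pos q with h0 | h0
    · exact absurd (h0 ▸ dvd_zero r) hrq
    · exact h0
  have h3 : r ∣ q ^ (b - a) - 1 :=
    (Nat.modEq_iff_dvd' (Nat.one_le_pow _ _ hq0)).mp h2.symm
  by_contra hcon
  push Not at hcon
  exact hnum (b - a) (Nat.pos_of_ne_zero hcon.1) hcon.2 h3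

theorem irr_of_order (x : V →ₗ[F] V) (r : ℕ) [hr : Fact r.Prime] (hxr : x ^ r = 1) (hx1 : x ≠ 1)
    (q n : ℕ) (hq : Nat.card F = q) (hrq : ¬ r ∣ q) (hn : finrank F V = n)
    (hnum : ∀ m, 0 < m → m < n → ¬ r ∣ q ^ m - 1) :
    (∀ v, x v = v → v = 0) ∧
      ∀ U : Submodule F V, (∀ u ∈ U, x u ∈ U) → U = ⊥ ∨ U = ⊤ := by
  have hC : fixSp x = ⊥ := by
    have h := card_inv_modEq x r hxr ⊤ (fun u _ => Submodule.mem_top)
    rw [top_inf_eq, finrank_top, hn, hq] at h
    have hle : finrank F ↥(fixSp x) ≤ n := by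
      rw [← hn]
      exact Submodule.finrank_le _
    rcases pow_arith q r n _ _ hrq hle h hnum with h0 | h0
    · exfalso
      apply hx1
      have htop : fixSp x = ⊤ := by
        apply Submodule.eq_top_of_finrank_eq
        rw [hn]
        omega
      ext v
      rw [Module.End.one_apply]
      exact (mem_fixSp x v).mp (htop ▸ Submodule.mem_top)
    · apply Submodule.finrank_eq_zero.mp
      omega
  refine ⟨fun v hv => ?_, fun U hU => ?_⟩
  · have : v ∈ fixSp x := (mem_fixSp x v).mpr hv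
    rw [hC] at this
    exact (Submodule.mem_bot F).mp this
  · have h := card_inv_modEq x r hxr U hU
    rw [hC, inf_bot_eq, finrank_bot, hq] at h
    have hle : finrank F U ≤ n := by
      rw [← hn]
      exact Submodule.finrank_le _
    rcases pow_arith q r n 0 _ hrq (Nat.zero_le _) h hnum with h0 | h0
    · left
      apply Submodule.finrank_eq_zero.mp
      omega
    · right
      apply Submodule.eq_top_of_finrank_eq
      rw [hn]
      omega

end Cfsg.Agent.Lib.helper14.PolA
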