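import Mathlib
import Cfsg.Agent.Lib.Helper10.C3Q.Defs

set_option autoImplicit false

/-!
# Project C3Q (designer helper10), row SUNIV (helper14): a non-degenerate subspace of dimension `≥ 2`
over a finite field of odd order represents every `c ≠ 0`.
-/

namespace Cfsg.Agent.Lib.Helper10.C3Q

open Matrix Module Polynomial

universe u

/-- a finite field with `2 ≠ 0` has odd order -/
theorem c3qsuniv_odd {F : Type*} [Field F] [Fintype F] (h2 : (2 : F) ≠ 0) : Fintype.card F % 2 = 1 := by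
  by_contra hcon
  have h0 : Fintype.card F % 2 = 0 := by omega
  have h1 : ringChar F = 2 := FiniteField.even_card_iff_char_two.mpr h0
  haveI : CharP F 2 := by
    rw [← h1]
    exact ringChar.charP F
  apply h2
  have := CharP.cast_eq_zero F 2
  exact_mod_cast this

/-- `a x² + b y² = c` is solvable over a finite field of odd order (`a, b ≠ 0`) -/
theorem c3qsuniv_sum {F : Type*} [Field F] [Fintype F] (h2 : (2 : F) ≠ 0) (a b c : F) (ha : a ≠ 0)
    (hb : b ≠ 0) : ∃ x y : F, a * x ^ 2 + b * y ^ 2 = c := by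
  have hF := c3qsuniv_odd h2
  have hf : (C a * X ^ 2 : F[X]).degree = 2 := by
    rw [Polynomial.degree_C_mul_X_pow 2 ha]
    rfl
  have hg : (C b * X ^ 2 - C c : F[X]).degree = 2 := by
    rw [Polynomial.degree_sub_eq_left_of_degree_lt]
    · rw [Polynomial.degree_C_mul_X_pow 2 hb]
      rfl
    · rw [Polynomial.degree_C_mul_X_pow 2 hb]
      exact lt_of_le_of_lt Polynomial.degree_C_le (by norm_num)
  obtain ⟨s, t, h⟩ := FiniteField.exists_root_sum_quadratic hf hg hF
  refine ⟨s, t, ?_⟩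
  simp only [eval_mul, eval_C, eval_pow, eval_X, eval_sub] at h
  linear_combination h

variable {F : Type u} [Field F] {ι : Type} [Fintype ι] [DecidableEq ι]

/-- SUNIV -/
theorem s_univ [Fintype F] (h2 : (2 : F) ≠ 0) (Q : QuadraticForm F (ι → F)) (W : Submodule F (ι → F))
    (hW : ∀ u ∈ W, (∀ v ∈ W, QuadraticMap.polar (⇑Q) u v = 0) → u = 0) (hdim : 2 ≤ Module.finrank F W)
    (c : F) (hc : c ≠ 0) : ∃ w ∈ W, Q w = c := by
  haveI : Invertible (2 : F) := invertibleOfNonzero h2
  set Bw : LinearMap.BilinForm F W := LinearMap.BilinForm.restrict (QuadraticMap.polarBilin Q) W with hBw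
  have hBw_apply : ∀ u v : W, Bw u v = QuadraticMap.polar (⇑Q) (u : ι → F) (v : ι → F) := fun u v => rfl
  have hsymm : ∀ u v : W, Bw u v = Bw v u := by
    intro u v
    rw [hBw_apply, hBw_apply]
    exact QuadraticMap.polar_comm _ _ _
  have hnd : Bw.Nondegenerate := by
    have hl : ∀ u : W, (∀ v : W, Bw u v = 0) → u = 0 := by
      intro u hu
      apply Subtype.ext
      exact hW u.1 u.2 (fun v hv => hu ⟨v, hv⟩)
    refine ⟨hl, ?_⟩
    intro u hu
    exact hl u (fun v => by rw [hsymm]; exact hu v)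
  obtain ⟨v, hv⟩ := LinearMap.BilinForm.exists_orthogonal_basis (B := Bw) ⟨hsymm⟩
  have hne : ∀ i, Bw (v i) (v i) ≠ 0 := fun i =>
    LinearMap.BilinForm.iIsOrtho.not_isOrtho_basis_self_of_nondegenerate hv hnd i
  set i0 : Fin (finrank F W) := ⟨0, by omega⟩ with hi0
  set i1 : Fin (finrank F W) := ⟨1, by omega⟩ with hi1
  have h01 : i0 ≠ i1 := by
    intro h
    have := congrArg Fin.val h
    simp [hi0, hi1] at this
  have hort : Bw (v i0) (v i1) = 0 := hv h01
  have hQ0 : Q (v i0 : ι → F) ≠ 0 := by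
    intro h0
    apply hne i0
    rw [hBw_apply, QuadraticMap.polar_self, h0, smul_zero]
  have hQ1 : Q (v i1 : ι → F) ≠ 0 := by
    intro h0
    apply hne i1
    rw [hBw_apply, QuadraticMap.polar_self, h0, smul_zero]
  obtain ⟨x, y, hxy⟩ := c3qsuniv_sum h2 (Q (v i0 : ι → F)) (Q (v i1 : ι → F)) c hQ0 hQ1
  refine ⟨x • (v i0 : ι → F) + y • (v i1 : ι → F),
    W.add_mem (W.smul_mem _ (v i0).2) (W.smul_mem _ (v i1).2), ?_⟩
  have hp : QuadraticMap.polar (⇑Q) (x • (v i0 : ι → F)) (y • (v i1 : ι → F)) = 0 := by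
    rw [QuadraticMap.polar_smul_left, QuadraticMap.polar_smul_right]
    rw [hBw_apply] at hort
    rw [hort, smul_zero, smul_zero]
  have hadd : Q (x • (v i0 : ι → F) + y • (v i1 : ι → F)) =
      Q (x • (v i0 : ι → F)) + Q (y • (v i1 : ι → F)) +
        QuadraticMap.polar (⇑Q) (x • (v i0 : ι → F)) (y • (v i1 : ι → F)) := by
    unfold QuadraticMap.polar
    ring
  rw [hadd, hp, QuadraticMap.map_smul, QuadraticMap.map_smul, smul_eq_mul, smul_eq_mul]
  linear_combination hxy
end Cfsg.Agent.Lib.Helper10.C3Q
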