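import Mathlib
import Cfsg.Agent.Lib.Helper10.C3Q.Defs

set_option autoImplicit false

/-!
# Project C3Q (designer helper10), row NEXT (helper14): extension of an isometry of a non-degenerate
invariant subspace by the identity on the orthogonal complement.
-/

namespace Cfsg.Agent.Lib.Helper10.C3Q

open Matrix Module Cfsg.Agent.Lib.Helper13.OTS

universe u

variable {F : Type u} [Field F]

/-- NEXT -/
theorem n_ext {V : Type*} [AddCommGroup V] [Module F V] [FiniteDimensional F V] {r : ℕ}
    (Q : QuadraticForm F V) (y : Module.End F V) (hy : QCtx r Q y) (M : Submodule F V)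
    (hM : ∀ v ∈ M, y v ∈ M) (hMnd : ∀ u ∈ M, (∀ v ∈ M, QuadraticMap.polar (⇑Q) u v = 0) → u = 0) :
    ∃ x : Module.End F V, QCtx r Q x ∧ (∀ v ∈ M, x v = y v) ∧
      ∀ v, (∀ m ∈ M, QuadraticMap.polar (⇑Q) v m = 0) → x v = v := by
  set B : LinearMap.BilinForm F V := QuadraticMap.polarBilin Q with hB
  have hBapp : ∀ u v, B u v = QuadraticMap.polar (⇑Q) u v := fun u v => rfl
  have hsymm : ∀ u v, B u v = B v u := fun u v => QuadraticMap.polar_comm _ _ _
  have hrefl : B.IsRefl := fun u v h => by rw [hsymm]; exact h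
  have hndM : (LinearMap.BilinForm.restrict B M).Nondegenerate := by
    have hl : ∀ u : M, (∀ v : M, LinearMap.BilinForm.restrict B M u v = 0) → u = 0 := by
      intro u hu
      apply Subtype.ext
      exact hMnd u.1 u.2 (fun v hv => hu ⟨v, hv⟩)
    refine ⟨hl, ?_⟩
    intro u hu
    refine hl u (fun v => ?_)
    have := hu v
    change B (v : V) (u : V) = 0 at this
    change B (u : V) (v : V) = 0
    rw [hsymm]; exact this
  have hc : IsCompl M (B.orthogonal M) :=
    LinearMap.BilinForm.isCompl_orthogonal_of_restrict_nondegenerate hrefl hndM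
  have hmemO : ∀ v, v ∈ B.orthogonal M ↔ ∀ m ∈ M, QuadraticMap.polar (⇑Q) v m = 0 := by
    intro v
    rw [LinearMap.BilinForm.mem_orthogonal_iff]
    constructor
    · intro h m hm
      have := h m hm
      change B m v = 0 at this
      rw [← hBapp, hsymm]; exact this
    · intro h m hm
      change B m v = 0
      rw [hsymm]; exact h m hm
  set x : Module.End F V := LinearMap.ofIsCompl hc (y ∘ₗ M.subtype) (B.orthogonal M).subtype with hx
  have hxM : ∀ m ∈ M, x m = y m := by
    intro m hm
    have := LinearMap.ofIsCompl_left_apply hc (φ := y ∘ₗ M.subtype) (ψ := (B.orthogonal M).subtype) ⟨m, hm⟩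
    exact this
  have hxO : ∀ m' ∈ B.orthogonal M, x m' = m' := by
    intro m' hm'
    have := LinearMap.ofIsCompl_right_apply hc (φ := y ∘ₗ M.subtype) (ψ := (B.orthogonal M).subtype) ⟨m', hm'⟩
    exact this
  have hdec : ∀ v : V, ∃ m ∈ M, ∃ m' ∈ B.orthogonal M, v = m + m' := by
    intro v
    have hv : v ∈ M ⊔ B.orthogonal M := by rw [hc.sup_eq_top]; exact Submodule.mem_top
    obtain ⟨m, hm, m', hm', rfl⟩ := Submodule.mem_sup.mp hv
    exact ⟨m, hm, m', hm', rfl⟩
  have hQadd : ∀ m ∈ M, ∀ m' ∈ B.orthogonal M, Q (m + m') = Q m + Q m' := by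
    intro m hm m' hm'
    have h0 : QuadraticMap.polar (⇑Q) m m' = 0 := by
      rw [QuadraticMap.polar_comm]; exact (hmemO m').mp hm' m hm
    unfold QuadraticMap.polar at h0
    linear_combination h0
  have hpow : ∀ k : ℕ, ∀ m ∈ M, ∀ m' ∈ B.orthogonal M, (x ^ k) (m + m') = (y ^ k) m + m' := by
    intro k
    induction k with
    | zero =>
      intro m _ m' _
      simp
    | succ k ih =>
      intro m hm m' hm'
      rw [pow_succ, pow_succ, Module.End.mul_apply, Module.End.mul_apply, map_add, hxM m hm, hxO m' hm']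
      exact ih (y m) (hM m hm) m' hm'
  refine ⟨x, ⟨hy.nd, ?_, ?_⟩, hxM, fun v hv => hxO v ((hmemO v).mpr hv)⟩
  · intro v
    obtain ⟨m, hm, m', hm', rfl⟩ := hdec v
    rw [map_add, hxM m hm, hxO m' hm', hQadd (y m) (hM m hm) m' hm', hQadd m hm m' hm', hy.pres]
  · apply LinearMap.ext
    intro v
    obtain ⟨m, hm, m', hm', rfl⟩ := hdec v
    rw [hpow r m hm m' hm', hy.pow]
    simp

end Cfsg.Agent.Lib.Helper10.C3Q
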