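import Mathlib
import Cfsg.Agent.Lib.Helper10.C3Q.Defs
import Cfsg.Agent.Lib.Helper21.OTSWITT
import Cfsg.Agent.Lib.Helper16.OTSTYTOP

set_option autoImplicit false

/-!
# Project C3Q (designer helper10), row NPVEC (helper14): a singular `z ≠ 0` and a non-singular `w ⊥ z`
in a standard quadratic space of dimension `2d ≥ 4`.
-/

namespace Cfsg.Agent.Lib.Helper10.C3Q

open Matrix Module Cfsg.Agent.Lib.Helper13.OTS Cfsg.Agent.Lib.Helper13.S5955

universe u

variable {F : Type u} [Field F] {ι : Type} [Fintype ι] [DecidableEq ι]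

/-- NPVEC -/
theorem n_p_vec [Fintype F] (Qs : QuadraticForm F (ι → F)) (d : ℕ) (τ : ℤ) (hs : QStd Qs d τ) (hd : 2 ≤ d) :
    ∃ z w : ι → F, z ≠ 0 ∧ Qs z = 0 ∧ QuadraticMap.polar (⇑Qs) z w = 0 ∧ Qs w ≠ 0 := by
  obtain ⟨hty, hfr, hnd⟩ := q_ty_top Qs d τ hs
  have hSND : SND (qB Qs) (⊤ : Submodule F (ι → F)) := fun u _ hu => hnd u (fun v => hu v Submodule.mem_top)
  have hftop : finrank F (⊤ : Submodule F (ι → F)) = 2 * d := by rw [finrank_top, hfr]
  have hev : Even (finrank F (⊤ : Submodule F (ι → F))) := by rw [hftop]; exact even_two_mul d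
  have hτle : (1 - τ : ℤ) ≤ 2 ∧ (0 : ℤ) ≤ 1 - τ := by
    rcases hs.eps with h | h <;> rw [h] <;> norm_num
  have hj : (2 * (1 : ℕ) : ℤ) + (1 - τ) ≤ finrank F (⊤ : Submodule F (ι → F)) := by
    rw [hftop]
    push_cast
    have : (2 : ℤ) ≤ d := by exact_mod_cast hd
    linarith [hτle.1]
  obtain ⟨T, -, hTs, hT1⟩ := q_witt Qs ⊤ hSND hev τ hty hs.eps 1 hj
  have hTne : T ≠ ⊥ := by
    intro h
    rw [h, finrank_bot] at hT1
    exact zero_ne_one hT1
  obtain ⟨z, hzT, hz0⟩ := Submodule.exists_mem_ne_zero_of_ne_bot hTne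
  have hQz : Qs z = 0 := hTs z hzT
  by_contra hcon
  push_neg at hcon
  have hall : ∀ w : ι → F, QuadraticMap.polar (⇑Qs) z w = 0 → Qs w = 0 := fun w hw => hcon z w hz0 hQz hw
  set f : (ι → F) →ₗ[F] F := qB Qs z with hf
  have hfapp : ∀ w, f w = QuadraticMap.polar (⇑Qs) z w := fun w => rfl
  have hKts : QTS Qs (LinearMap.ker f) := by
    intro w hw
    exact hall w (by rw [← hfapp]; exact LinearMap.mem_ker.mp hw)
  have hrk := LinearMap.finrank_range_add_finrank_ker f
  have hr1 : finrank F (LinearMap.range f) ≤ 1 := by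
    have := Submodule.finrank_le (LinearMap.range f)
    rw [finrank_self] at this
    exact this
  have hle := q_witt_le Qs ⊤ hSND hev τ hty hs.eps (LinearMap.ker f) le_top hKts
  rw [hftop] at hle
  rw [hfr] at hrk
  have h1 : (2 * d : ℤ) ≤ finrank F (LinearMap.ker f) + 1 := by
    have : 2 * d ≤ finrank F (LinearMap.ker f) + 1 := by omega
    exact_mod_cast this
  have h2' : (2 : ℤ) ≤ d := by exact_mod_cast hd
  push_cast at hle
  linarith [hτle.2]

end Cfsg.Agent.Lib.Helper10.C3Q
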