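import Mathlib
import Cfsg.Agent.Lib.Helper18.BLK.Defs
import Cfsg.Agent.Lib.Helper20.RkTwoB
import Cfsg.Agent.Lib.Helper20.HupK

/-!
# BLK piece CAB, core : `Base.blkcab_core` = `Base.exists_gen_of_small_D` with piece S5 (`Base.DZ_mem`)
as a hypothesis `hS5` (so that this file does not depend on the Part 1 assembly).
-/

set_option autoImplicit false

namespace Cfsg.Agent.Lib.Helper18.BLK

universe u

/-- `E ≤ C_G(E)` in Setting S. -/
theorem Base.blkcab_E_le_C {G : Type*} [Group G] {p : ℕ} {E : Subgroup G} {z₀ : G}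
    (B : Base p E z₀) : E ≤ Subgroup.centralizer (E : Set G) := by
  intro e he
  rw [Subgroup.mem_centralizer_iff]
  intro a ha
  exact B.cE a ha e he

/-- `z₀ ≠ 1` in Setting S. -/
theorem Base.blkcab_z₀_ne_one {G : Type*} [Group G] {p : ℕ} [hp : Fact p.Prime] {E : Subgroup G}
    {z₀ : G} (B : Base p E z₀) : z₀ ≠ 1 := by
  intro h
  have := B.z₀o
  rw [h, orderOf_one] at this
  exact hp.out.one_lt.ne this

/-- **CAB** (core). if `D = D_Z` then `C/E` is cyclic; `hS5` is the conclusion of piece S5. -/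
theorem Base.blkcab_core {G : Type u} [Group G] [Finite G] {p : ℕ} [Fact p.Prime]
    {E : Subgroup G} {z₀ : G} (B : Base p E z₀) (u₁ : G)
    (hu : u₁ ∈ Subgroup.centralizer (E : Set G)) (hup : u₁ ^ p = z₀)
    (hS5 : ∀ c ∈ Subgroup.centralizer (E : Set G), c ^ p ∈ Subgroup.zpowers z₀ →
      ∃ j : ℕ, ∃ e ∈ E, c = u₁ ^ j * e)
    (hD : ∀ c ∈ Subgroup.centralizer (E : Set G), c ^ p ∈ E → c ^ p ∈ Subgroup.zpowers z₀) :
    ∃ c ∈ Subgroup.centralizer (E : Set G),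
      ∀ d ∈ Subgroup.centralizer (E : Set G), ∃ i : ℕ, ∃ e ∈ E, d = c ^ i * e := by
  have hEC : E ≤ Subgroup.centralizer (E : Set G) := B.blkcab_E_le_C
  haveI hnE : E.Normal := B.nE
  haveI hN : (E.subgroupOf (Subgroup.centralizer (E : Set G))).Normal :=
    Subgroup.Normal.subgroupOf hnE _
  -- the quotient C / E
  have hmk : ∀ d : ↥(Subgroup.centralizer (E : Set G)),
      (QuotientGroup.mk d : ↥(Subgroup.centralizer (E : Set G)) ⧸
        E.subgroupOf (Subgroup.centralizer (E : Set G))) = 1 ↔ (d : G) ∈ E := by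
    intro d
    rw [QuotientGroup.eq_one_iff, Subgroup.mem_subgroupOf]
  set q₁ : ↥(Subgroup.centralizer (E : Set G)) ⧸
      E.subgroupOf (Subgroup.centralizer (E : Set G)) := QuotientGroup.mk ⟨u₁, hu⟩ with hq₁
  have hq₁p : q₁ ^ p = 1 := by
    rw [hq₁, ← QuotientGroup.mk_pow, hmk]
    show u₁ ^ p ∈ E
    rw [hup]; exact B.z₀E
  have hq₁ne : q₁ ≠ 1 := by
    rw [hq₁, Ne, hmk]
    intro h
    have h1 : u₁ ^ p = 1 := B.eE u₁ h
    rw [hup] at h1
    exact B.blkcab_z₀_ne_one h1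
  have hLcard : Nat.card (Subgroup.zpowers q₁) = p := by
    rw [Nat.card_zpowers]; exact orderOf_eq_prime hq₁p hq₁ne
  have hQp : IsPGroup p (↥(Subgroup.centralizer (E : Set G)) ⧸
      E.subgroupOf (Subgroup.centralizer (E : Set G))) :=
    (B.pG.to_subgroup _).to_quotient _
  have hcycT : IsCyclic (⊤ : Subgroup (↥(Subgroup.centralizer (E : Set G)) ⧸
      E.subgroupOf (Subgroup.centralizer (E : Set G)))) := by
    refine Cfsg.Agent.Lib.Helper20.RkTwo.isCyclic_of_pow_mem B.hp2 ⊤ (Subgroup.zpowers q₁)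
      (hQp.to_subgroup _) hLcard ?_
    intro x _ hx
    obtain ⟨d, rfl⟩ := QuotientGroup.mk_surjective x
    rw [← QuotientGroup.mk_pow, hmk] at hx
    have hdE : (d : G) ^ p ∈ E := by simpa using hx
    have hdZ := hD d d.2 hdE
    obtain ⟨j, e, he, hde⟩ := hS5 d d.2 hdZ
    have hd : d = ⟨u₁, hu⟩ ^ j * ⟨e, hEC he⟩ := by
      apply Subtype.ext
      simpa using hde
    rw [hd, QuotientGroup.mk_mul, QuotientGroup.mk_pow, (hmk ⟨e, hEC he⟩).mpr he, mul_one]
    exact Subgroup.pow_mem _ (Subgroup.mem_zpowers _) j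
  have hcyc : IsCyclic (↥(Subgroup.centralizer (E : Set G)) ⧸
      E.subgroupOf (Subgroup.centralizer (E : Set G))) :=
    (Subgroup.topEquiv.isCyclic).mp hcycT
  obtain ⟨g, hg⟩ := hcyc.exists_generator
  obtain ⟨c, rfl⟩ := QuotientGroup.mk_surjective g
  refine ⟨c, c.2, ?_⟩
  intro d hd
  obtain ⟨s, hs⟩ := Subgroup.mem_zpowers_iff.mp (hg (QuotientGroup.mk ⟨d, hd⟩))
  obtain ⟨i, hi⟩ := Cfsg.Agent.Lib.Helper20.Hup.zpow_eq_pow_nat
    (QuotientGroup.mk c : ↥(Subgroup.centralizer (E : Set G)) ⧸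
      E.subgroupOf (Subgroup.centralizer (E : Set G))) s
  rw [hi, ← QuotientGroup.mk_pow] at hs
  have h1 : (c ^ i)⁻¹ * ⟨d, hd⟩ ∈ E.subgroupOf (Subgroup.centralizer (E : Set G)) :=
    QuotientGroup.eq.mp hs
  rw [Subgroup.mem_subgroupOf] at h1
  refine ⟨i, _, h1, ?_⟩
  simp
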