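import Mathlib
import Cfsg.Agent.Lib.Helper18.BLK.Defs
import Cfsg.Agent.Lib.helper14.BLKCABcore
import Cfsg.Agent.Lib.Helper20.BLKS0

/-!
# BLK piece B5c, core : `Base.blkb5c_core` = `Base.C_eq_DZ` with the conclusions of the pieces S5, S6, S7
(`Base.DZ_mem`, `Base.rc_u1_mem_E`, `Base.rc_DZ`) as hypotheses `hS5 hS6 hS7`
(so that this file does not depend on the Part 1 assembly).  S0a, S0e are the real pieces.
-/

set_option autoImplicit false

namespace Cfsg.Agent.Lib.Helper18.BLK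

universe u

/-- from CAB: `C` is abelian. -/
theorem Base.blkb5c_C_comm {G : Type u} [Group G] [Finite G] {p : ℕ} [Fact p.Prime]
    {E : Subgroup G} {z₀ : G} (B : Base p E z₀) (u₁ : G)
    (hu : u₁ ∈ Subgroup.centralizer (E : Set G)) (hup : u₁ ^ p = z₀)
    (hS5 : ∀ c ∈ Subgroup.centralizer (E : Set G), c ^ p ∈ Subgroup.zpowers z₀ →
      ∃ j : ℕ, ∃ e ∈ E, c = u₁ ^ j * e)
    (hD : ∀ c ∈ Subgroup.centralizer (E : Set G), c ^ p ∈ E → c ^ p ∈ Subgroup.zpowers z₀) :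
    ∀ a ∈ Subgroup.centralizer (E : Set G), ∀ b ∈ Subgroup.centralizer (E : Set G),
      a * b = b * a := by
  obtain ⟨c, hc, hgen⟩ := B.blkcab_core u₁ hu hup hS5 hD
  intro a ha b hb
  obtain ⟨i, e, he, rfl⟩ := hgen a ha
  obtain ⟨j, f, hf, rfl⟩ := hgen b hb
  have hce : ∀ x ∈ E, ∀ k : ℕ, x * c ^ k = c ^ k * x := by
    intro x hx k
    have := (Subgroup.mem_centralizer_iff.mp (Subgroup.pow_mem _ hc k)) x hx
    exact this
  have hef : e * f = f * e := B.cE e he f hf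
  calc c ^ i * e * (c ^ j * f) = c ^ i * (e * c ^ j) * f := by group
    _ = c ^ i * (c ^ j * e) * f := by rw [hce e he j]
    _ = c ^ (i + j) * (e * f) := by rw [pow_add]; group
    _ = c ^ (j + i) * (f * e) := by rw [hef, add_comm]
    _ = c ^ j * (c ^ i * f) * e := by rw [pow_add]; group
    _ = c ^ j * (f * c ^ i) * e := by rw [hce f hf i]
    _ = c ^ j * f * (c ^ i * e) := by group

/-- **B5c** (core). in case (β), `D = D_Z` forces `C = D_Z`. -/
theorem Base.blkb5c_core {G : Type u} [Group G] [Finite G] {p : ℕ} [Fact p.Prime]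
    {E : Subgroup G} {z₀ : G} (B : Base p E z₀) (u₁ : G)
    (hu : u₁ ∈ Subgroup.centralizer (E : Set G)) (hup : u₁ ^ p = z₀)
    (hS5 : ∀ c ∈ Subgroup.centralizer (E : Set G), c ^ p ∈ Subgroup.zpowers z₀ →
      ∃ j : ℕ, ∃ e ∈ E, c = u₁ ^ j * e)
    (hS6 : ∀ g : G, rc u₁ g ∈ E)
    (hS7 : ∀ (j : ℕ) (e : G), e ∈ E → ∀ g : G, rc (u₁ ^ j * e) g = rc u₁ g ^ j * rc e g)
    (g : G)
    (hg : g ∉ Subgroup.centralizer (E : Set G)) (hgu : rc u₁ g ∉ Subgroup.zpowers z₀)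
    (hD : ∀ c ∈ Subgroup.centralizer (E : Set G), c ^ p ∈ E → c ^ p ∈ Subgroup.zpowers z₀) :
    ∀ c ∈ Subgroup.centralizer (E : Set G), c ^ p ∈ Subgroup.zpowers z₀ := by
  have hab := B.blkb5c_C_comm u₁ hu hup hS5 hD
  have hEC : E ≤ Subgroup.centralizer (E : Set G) := B.blkcab_E_le_C
  haveI hnE : E.Normal := B.nE
  have hnC : (Subgroup.centralizer (E : Set G)).Normal := Subgroup.normal_centralizer
  have hZE : Subgroup.zpowers z₀ ≤ E := by
    rw [Subgroup.zpowers_le]; exact B.z₀E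
  intro d hd
  by_contra hdZ
  have hdE : d ^ p ∉ E := fun h => hdZ (hD d hd h)
  -- minimal k with d^(p^k) ∈ E
  have hex : ∃ k : ℕ, d ^ p ^ k ∈ E := by
    obtain ⟨k, hk⟩ := B.pG d
    exact ⟨k, by rw [hk]; exact E.one_mem⟩
  classical
  set k := Nat.find hex with hk
  have hkE : d ^ p ^ k ∈ E := Nat.find_spec hex
  have hk0 : k ≠ 0 := by
    intro h0
    rw [h0, pow_zero, pow_one] at hkE
    apply hdZ
    rw [B.eE d hkE]; exact Subgroup.one_mem _
  have hk1 : k ≠ 1 := by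
    intro h1
    rw [h1, pow_one] at hkE
    exact hdE hkE
  obtain ⟨m, hm⟩ : ∃ m, k = m + 2 := ⟨k - 2, by omega⟩
  set u₂ := d ^ p ^ m with hu₂
  set u := u₂ ^ p with hu'
  have hu₂C : u₂ ∈ Subgroup.centralizer (E : Set G) := Subgroup.pow_mem _ hd _
  have huC : u ∈ Subgroup.centralizer (E : Set G) := Subgroup.pow_mem _ hu₂C _
  have hu_eq : u = d ^ p ^ (m + 1) := by
    rw [hu', hu₂, ← pow_mul, ← pow_succ]
  have huE : u ∉ E := by
    rw [hu_eq]
    exact Nat.find_min hex (by omega)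
  have hupE : u ^ p ∈ E := by
    have : u ^ p = d ^ p ^ k := by
      rw [hu_eq, ← pow_mul, ← pow_succ, hm]
    rw [this]; exact hkE
  have hupZ : u ^ p ∈ Subgroup.zpowers z₀ := hD u huC hupE
  obtain ⟨j, e, he, hue⟩ := hS5 u huC hupZ
  have hpj : ¬ p ∣ j := by
    rintro ⟨t, rfl⟩
    apply huE
    rw [hue, pow_mul, hup]
    exact E.mul_mem (E.pow_mem B.z₀E _) he
  -- rc u g ∈ E \ Z
  have hr1 : rc u₁ g ∈ E := hS6 g
  have hr2 : rc e g ∈ Subgroup.zpowers z₀ := B.rc_mem_Z e he g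
  have hrc : rc u g = rc u₁ g ^ j * rc e g := by
    rw [hue]; exact hS7 j e he g
  have hrcE : rc u g ∈ E := by
    rw [hrc]; exact E.mul_mem (E.pow_mem hr1 _) (hZE hr2)
  have hrcZ : rc u g ∉ Subgroup.zpowers z₀ := by
    intro h
    rw [hrc] at h
    exact hpj (B.dvd_of_pow_mul_mem (rc u₁ g) hr1 hgu (rc e g) hr2 j h)
  -- v := rc u₂ g
  have hconjC : g⁻¹ * u₂ * g ∈ Subgroup.centralizer (E : Set G) := by
    have := hnC.conj_mem u₂ hu₂C g⁻¹
    simpa using this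
  have hvC : rc u₂ g ∈ Subgroup.centralizer (E : Set G) := by
    have : rc u₂ g = u₂⁻¹ * (g⁻¹ * u₂ * g) := by unfold rc; group
    rw [this]
    exact Subgroup.mul_mem _ (Subgroup.inv_mem _ hu₂C) hconjC
  have hvp : rc u₂ g ^ p = rc u g := by
    have h1 : rc u₂ g = u₂⁻¹ * (g⁻¹ * u₂ * g) := by unfold rc; group
    have hcomm : Commute u₂⁻¹ (g⁻¹ * u₂ * g) :=
      hab _ (Subgroup.inv_mem _ hu₂C) _ hconjC
    have h2 : (g⁻¹ * u₂ * g) ^ p = g⁻¹ * u₂ ^ p * g := by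
      have := map_pow (MulAut.conj g⁻¹) u₂ p
      simpa [MulAut.conj_apply] using this.symm
    rw [h1, hcomm.mul_pow, h2, inv_pow]
    show u⁻¹ * (g⁻¹ * u * g) = rc u g
    unfold rc; group
  have := hD _ hvC (by rw [hvp]; exact hrcE)
  rw [hvp] at this
  exact hrcZ this
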