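import Mathlib

/-!
Combinatorics of the index set `Fin n` of the unitary group `GU_n` of the form
`Σ u_i σ(v_{n-1-i})`: the order reversal `rv`, the simple pairs, and characterisations of the
identity and of the order reversal among permutations commuting with `rv`.
-/

set_option autoImplicit false

namespace Cfsg.Agent.Lib.helper14.UBN

variable {n : ℕ}

/-- the rank of an index -/
def rk (x : Fin n) : ℕ := x.val

/-- the order reversal -/
def rv (x : Fin n) : Fin n := Fin.rev x

theorem rk_lt (x : Fin n) : rk x < n := x.2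

theorem rk_add_rv (x : Fin n) : rk x + rk (rv x) = n - 1 := by
  unfold rk rv
  rw [Fin.val_rev]
  have := x.2
  omega

theorem rv_rv (x : Fin n) : rv (rv x) = x := Fin.rev_rev x

theorem rk_injective : Function.Injective (rk : Fin n → ℕ) := fun _ _ h => Fin.ext h

theorem rk_rv_lt_iff (x y : Fin n) : rk (rv x) < rk (rv y) ↔ rk y < rk x := by
  have h1 := rk_add_rv x
  have h2 := rk_add_rv y
  have h3 := rk_lt x
  have h4 := rk_lt y
  omega

theorem rv_inj {x y : Fin n} (h : rv x = rv y) : x = y := by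
  have := congrArg rv h
  rwa [rv_rv, rv_rv] at this

theorem rv_eq_iff {x y : Fin n} : rv x = y ↔ x = rv y := by
  constructor
  · intro h; rw [← h, rv_rv]
  · intro h; rw [h, rv_rv]

theorem exists_rk (r : ℕ) (hr : r < n) : ∃ x : Fin n, rk x = r := ⟨⟨r, hr⟩, rfl⟩

/-- first member of the `k`-th simple pair -/
def pa (k : Fin (n / 2)) : Fin n := ⟨k.val, by have := k.2; omega⟩

/-- second member of the `k`-th simple pair -/
def pc (k : Fin (n / 2)) : Fin n :=
  if h : k.val + 1 < n / 2 then ⟨k.val + 1, by omega⟩ else rv (pa k)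

theorem rk_pa (k : Fin (n / 2)) : rk (pa k) = k.val := rfl

theorem pc_of_lt (k : Fin (n / 2)) (h : k.val + 1 < n / 2) : rk (pc k) = k.val + 1 := by
  unfold pc
  rw [dif_pos h]
  rfl

theorem pc_of_not_lt (k : Fin (n / 2)) (h : ¬ k.val + 1 < n / 2) : pc k = rv (pa k) := by
  unfold pc
  rw [dif_neg h]

theorem pc_cases (k : Fin (n / 2)) :
    (k.val + 1 < n / 2 ∧ rk (pc k) = k.val + 1) ∨
      (k.val + 1 = n / 2 ∧ pc k = rv (pa k) ∧ rk (pc k) = n - 1 - k.val) := by
  have hk := k.2
  by_cases h : k.val + 1 < n / 2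
  · exact Or.inl ⟨h, pc_of_lt k h⟩
  · right
    refine ⟨by omega, pc_of_not_lt k h, ?_⟩
    rw [pc_of_not_lt k h]
    have := rk_add_rv (pa k)
    rw [rk_pa] at this
    omega

theorem rk_pa_lt_pc (k : Fin (n / 2)) : rk (pa k) < rk (pc k) := by
  have hk := k.2
  rw [rk_pa]
  rcases pc_cases k with ⟨_, h⟩ | ⟨_, _, h⟩ <;> omega

theorem pa_ne_pc (k : Fin (n / 2)) : pa k ≠ pc k := by
  intro h
  have := rk_pa_lt_pc k
  rw [h] at this
  exact lt_irrefl _ this

theorem rv_pa_ne (k : Fin (n / 2)) : rv (pa k) ≠ pa k := by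
  intro h
  have h1 := rk_add_rv (pa k)
  rw [h, rk_pa] at h1
  have hk := k.2
  omega

theorem rv_pc_ne (k : Fin (n / 2)) : rv (pc k) ≠ pc k := by
  intro h
  have h1 := rk_add_rv (pc k)
  rw [h] at h1
  have hk := k.2
  rcases pc_cases k with ⟨_, h2⟩ | ⟨_, _, h2⟩ <;> omega

theorem rk_pc_le (k : Fin (n / 2)) : rk (pc k) ≤ n - 1 - k.val := by
  have hk := k.2
  rcases pc_cases k with ⟨_, h2⟩ | ⟨_, _, h2⟩ <;> omega

theorem eq_pa_of_rk {k : Fin (n / 2)} {x : Fin n} (h : rk x = k.val) : x = pa k :=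
  rk_injective (by rw [h, rk_pa])

theorem eq_of_rk_eq {x y : Fin n} (h : rk x = rk y) : x = y := rk_injective h

/-- `RvC π`: the permutation `π` commutes with `rv`. -/
def RvC (π : Equiv.Perm (Fin n)) : Prop := ∀ x, π (rv x) = rv (π x)

theorem RvC_one : RvC (1 : Equiv.Perm (Fin n)) := fun _ => rfl

theorem RvC_mul {π ρ : Equiv.Perm (Fin n)} (h1 : RvC π) (h2 : RvC ρ) : RvC (π * ρ) := by
  intro x
  rw [Equiv.Perm.mul_apply, Equiv.Perm.mul_apply, h2, h1]

theorem RvC_inv {π : Equiv.Perm (Fin n)} (h : RvC π) : RvC π⁻¹ := by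
  intro x
  apply π.injective
  rw [h]
  simp only [Equiv.Perm.inv_def, Equiv.apply_symm_apply]

theorem RvC_symm {π : Equiv.Perm (Fin n)} (h : RvC π) (x : Fin n) :
    π.symm (rv x) = rv (π.symm x) := RvC_inv h x

/-- an index fixed by `rv` is mapped to an index of the same rank -/
theorem rk_of_rv_fixed {π : Equiv.Perm (Fin n)} (hπ : RvC π) {x : Fin n} (hx : rv x = x) :
    rk (π x) = rk x := by
  have h1 := rk_add_rv (π x)
  rw [← hπ, hx] at h1
  have h2 := rk_add_rv x
  rw [hx] at h2
  omega

/-- if `rk ∘ π` increases along every step of rank, then `π = 1` -/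
theorem perm_eq_one_of_step (π : Equiv.Perm (Fin n))
    (H : ∀ x y : Fin n, rk y = rk x + 1 → rk (π x) < rk (π y)) : π = 1 := by
  have hlow : ∀ r : ℕ, ∀ x : Fin n, rk x = r → r ≤ rk (π x) := by
    intro r
    induction r with
    | zero => intro x _; exact Nat.zero_le _
    | succ r ih =>
      intro x hx
      have hx2 := rk_lt x
      obtain ⟨y, hy⟩ := exists_rk (n := n) r (by omega)
      have h1 := ih y hy
      have h2 := H y x (by rw [hx, hy])
      omega
  have hup : ∀ r : ℕ, ∀ x : Fin n, rk x + r = n - 1 → rk (π x) + r ≤ n - 1 := by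
    intro r
    induction r with
    | zero =>
      intro x _
      have := rk_lt (π x)
      omega
    | succ r ih =>
      intro x hx
      obtain ⟨y, hy⟩ := exists_rk (n := n) (rk x + 1) (by omega)
      have h1 := ih y (by omega)
      have h2 := H x y hy
      omega
  ext x
  rw [Equiv.Perm.one_apply]
  apply congrArg Fin.val
  apply rk_injective
  have h1 := hlow (rk x) x rfl
  have hx := rk_lt x
  have h2 := hup (n - 1 - rk x) x (by omega)
  omega

/-- a permutation commuting with `rv` that is increasing on every simple pair is the identity -/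
theorem perm_eq_one_of_simple (π : Equiv.Perm (Fin n)) (hπ : RvC π)
    (H : ∀ k : Fin (n / 2), rk (π (pa k)) < rk (π (pc k))) : π = 1 := by
  apply perm_eq_one_of_step
  intro x y hxy
  have hy := rk_lt y
  by_cases hA : rk x + 1 < n / 2
  · -- the simple pair `(rk x, rk x + 1)`
    have hk : rk x < n / 2 := by omega
    have e1 : x = pa ⟨rk x, hk⟩ := eq_pa_of_rk rfl
    have e2 : y = pc ⟨rk x, hk⟩ := by
      apply rk_injective
      rw [pc_of_lt _ hA, hxy]
    rw [e1, e2]
    exact H _
  by_cases hB : rk x + 1 = n / 2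
  · -- the last node, first half
    have hk : rk x < n / 2 := by omega
    have e1 : x = pa ⟨rk x, hk⟩ := eq_pa_of_rk rfl
    have hlast : ¬ (⟨rk x, hk⟩ : Fin (n / 2)).val + 1 < n / 2 := hA
    have e2 : pc ⟨rk x, hk⟩ = rv x := by
      rw [pc_of_not_lt _ hlast, ← e1]
    have h1 := H ⟨rk x, hk⟩
    rw [← e1, e2, hπ] at h1
    have h2 := rk_add_rv (π x)
    have h3 := rk_add_rv x
    by_cases hy2 : rv y = y
    · -- `y` is the middle index
      rw [rk_of_rv_fixed hπ hy2]
      have h4 := rk_add_rv y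
      rw [hy2] at h4
      omega
    · -- `n` is even and `y = rv x`
      have hyx : y = rv x := by
        apply rk_injective
        have h4 := rk_add_rv y
        have h5 : rk (rv y) ≠ rk y := fun e => hy2 (rk_injective e)
        omega
      rw [hyx, hπ]
      exact h1
  by_cases hC : rv x = x
  · -- `x` is the middle index, `y = rv (pa k)` for the last node
    have h3 := rk_add_rv x
    rw [hC] at h3
    have hk : rk (rv y) < n / 2 := by
      have h4 := rk_add_rv y
      omega
    have e1 : rv y = pa ⟨rk (rv y), hk⟩ := eq_pa_of_rk rfl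
    have hlast : ¬ (⟨rk (rv y), hk⟩ : Fin (n / 2)).val + 1 < n / 2 := by
      have h4 := rk_add_rv y
      show ¬ rk (rv y) + 1 < n / 2
      omega
    have e2 : pc ⟨rk (rv y), hk⟩ = y := by
      rw [pc_of_not_lt _ hlast, ← e1, rv_rv]
    have h1 := H ⟨rk (rv y), hk⟩
    rw [← e1, e2, hπ] at h1
    have h2 := rk_add_rv (π y)
    rw [rk_of_rv_fixed hπ hC]
    omega
  · -- second half: mirror image of a simple pair
    have h3 := rk_add_rv x
    have h4 := rk_add_rv y
    have hx' : rk (rv x) ≠ rk x := fun e => hC (rk_injective e)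
    have hk : rk (rv y) < n / 2 := by omega
    have hk1 : rk (rv y) + 1 < n / 2 := by omega
    have e1 : rv y = pa ⟨rk (rv y), hk⟩ := eq_pa_of_rk rfl
    have e2 : rv x = pc ⟨rk (rv y), hk⟩ := by
      apply rk_injective
      rw [pc_of_lt _ hk1]
      show rk (rv x) = rk (rv y) + 1
      omega
    have h1 := H ⟨rk (rv y), hk⟩
    rw [← e1, ← e2, hπ, hπ, rk_rv_lt_iff] at h1
    exact h1

/-- `rv` as a permutation -/
def rvPerm (n : ℕ) : Equiv.Perm (Fin n) := Fin.revPerm

theorem rvPerm_apply (x : Fin n) : rvPerm n x = rv x := rfl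

theorem rvPerm_symm_apply (x : Fin n) : (rvPerm n).symm x = rv x := rfl

theorem RvC_rvPerm : RvC (rvPerm n) := fun _ => rfl

theorem rvPerm_mul_self : rvPerm n * rvPerm n = 1 := by
  ext x
  rw [Equiv.Perm.mul_apply, rvPerm_apply, rvPerm_apply, rv_rv, Equiv.Perm.one_apply]

theorem rvPerm_symm : (rvPerm n).symm = rvPerm n := Equiv.ext (fun _ => rfl)

/-- a permutation commuting with `rv` that is decreasing on every simple pair is `rv` -/
theorem perm_eq_rv_of_simple (π : Equiv.Perm (Fin n)) (hπ : RvC π)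
    (H : ∀ k : Fin (n / 2), rk (π (pc k)) < rk (π (pa k))) : π = rvPerm n := by
  have h1 : rvPerm n * π = 1 := by
    apply perm_eq_one_of_simple _ (RvC_mul RvC_rvPerm hπ)
    intro k
    rw [Equiv.Perm.mul_apply, Equiv.Perm.mul_apply, rvPerm_apply, rvPerm_apply, rk_rv_lt_iff]
    exact H k
  calc π = (rvPerm n * rvPerm n) * π := by rw [rvPerm_mul_self, one_mul]
    _ = rvPerm n * (rvPerm n * π) := mul_assoc _ _ _
    _ = rvPerm n := by rw [h1, mul_one]

end Cfsg.Agent.Lib.helper14.UBN
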