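import Mathlib
import Cfsg.Prelude.Def_Classical
import Cfsg.Agent.Lib.helper14.UBNa

/-!
The unitary group `GJ n S` of the form `hJ S u v = Σ u_i σ(v_{n-1-i})` inside `GL_n(F)`:
entries, the inverse formula, the upper triangular subgroup `BU`, the monomial subgroup `NU`,
permutation matrices and diagonal matrices.
-/

set_option autoImplicit false

namespace Cfsg.Agent.Lib.helper14.UBN

open Matrix

universe u
variable {F : Type u} [Field F] {n : ℕ}

/-- an involutive ring endomorphism of `F` -/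
structure SInv (F : Type u) [Field F] where
  /-- the endomorphism -/
  σ : F →+* F
  /-- it is an involution -/
  invol : ∀ x, σ (σ x) = x

/-- the form `Σ u_i σ(v_{n-1-i})` -/
def hJ (S : SInv F) (u v : Fin n → F) : F := ∑ i, u i * S.σ (v (rv i))

/-- basis vectors -/
def bV (x : Fin n) : Fin n → F := Pi.single x 1

theorem bV_apply (x y : Fin n) : (bV x : Fin n → F) y = if y = x then 1 else 0 := by
  unfold bV
  rw [Pi.single_apply]

theorem mulVec_bV (M : Matrix (Fin n) (Fin n) F) (y x : Fin n) : (M *ᵥ bV y) x = M x y := by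
  unfold bV
  rw [Matrix.mulVec_single_one]
  rfl

variable {S : SInv F}

theorem hJ_add_left (u u' v : Fin n → F) : hJ S (u + u') v = hJ S u v + hJ S u' v := by
  unfold hJ
  rw [← Finset.sum_add_distrib]
  apply Finset.sum_congr rfl
  intro i _
  rw [Pi.add_apply, add_mul]

theorem hJ_add_right (u v v' : Fin n → F) : hJ S u (v + v') = hJ S u v + hJ S u v' := by
  unfold hJ
  rw [← Finset.sum_add_distrib]
  apply Finset.sum_congr rfl
  intro i _
  rw [Pi.add_apply, map_add, mul_add]

theorem hJ_smul_left (c : F) (u v : Fin n → F) : hJ S (c • u) v = c * hJ S u v := by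
  unfold hJ
  rw [Finset.mul_sum]
  apply Finset.sum_congr rfl
  intro i _
  rw [Pi.smul_apply, smul_eq_mul, mul_assoc]

theorem hJ_smul_right (c : F) (u v : Fin n → F) : hJ S u (c • v) = S.σ c * hJ S u v := by
  unfold hJ
  rw [Finset.mul_sum]
  apply Finset.sum_congr rfl
  intro i _
  rw [Pi.smul_apply, smul_eq_mul, map_mul]
  ring

theorem hJ_neg_left (u v : Fin n → F) : hJ S (-u) v = - hJ S u v := by
  have := hJ_smul_left (S := S) (-1) u v
  rwa [neg_one_smul, neg_one_mul] at this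

theorem hJ_neg_right (u v : Fin n → F) : hJ S u (-v) = - hJ S u v := by
  have := hJ_smul_right (S := S) (-1) u v
  rwa [neg_one_smul, map_neg, map_one, neg_one_mul] at this

theorem hJ_sub_left (u u' v : Fin n → F) : hJ S (u - u') v = hJ S u v - hJ S u' v := by
  rw [sub_eq_add_neg, hJ_add_left, hJ_neg_left, ← sub_eq_add_neg]

theorem hJ_sub_right (u v v' : Fin n → F) : hJ S u (v - v') = hJ S u v - hJ S u v' := by
  rw [sub_eq_add_neg, hJ_add_right, hJ_neg_right, ← sub_eq_add_neg]

theorem hJ_zero_left (v : Fin n → F) : hJ S (0 : Fin n → F) v = 0 := by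
  unfold hJ
  apply Finset.sum_eq_zero
  intro i _
  rw [Pi.zero_apply, zero_mul]

theorem hJ_zero_right (u : Fin n → F) : hJ S u (0 : Fin n → F) = 0 := by
  unfold hJ
  apply Finset.sum_eq_zero
  intro i _
  rw [Pi.zero_apply, map_zero, mul_zero]

theorem hJ_symm (u v : Fin n → F) : S.σ (hJ S u v) = hJ S v u := by
  unfold hJ
  rw [map_sum, ← Equiv.sum_comp (rvPerm n)]
  apply Finset.sum_congr rfl
  intro i _
  rw [rvPerm_apply, map_mul, S.invol, rv_rv, mul_comm]

theorem hJ_bV_right (u : Fin n → F) (y : Fin n) : hJ S u (bV y) = u (rv y) := by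
  unfold hJ
  rw [Finset.sum_eq_single (rv y)]
  · rw [rv_rv, bV_apply, if_pos rfl, map_one, mul_one]
  · intro i _ hi
    have : rv i ≠ y := fun e => hi (rv_eq_iff.1 e)
    rw [bV_apply, if_neg this, map_zero, mul_zero]
  · intro h
    exact absurd (Finset.mem_univ _) h

theorem hJ_bV_left (x : Fin n) (v : Fin n → F) : hJ S (bV x) v = S.σ (v (rv x)) := by
  rw [← hJ_symm, hJ_bV_right]

theorem hJ_bV_bV (x y : Fin n) : hJ S (bV x : Fin n → F) (bV y) = if x = rv y then 1 else 0 := by
  rw [hJ_bV_right, bV_apply]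
  by_cases h : x = rv y
  · rw [if_pos h, if_pos h.symm]
  · rw [if_neg h, if_neg (fun e => h e.symm)]

/-- the form vanishes when the supports are not matched by `rv` -/
theorem hJ_eq_zero_of_supp (u v : Fin n → F) (h : ∀ i, u i = 0 ∨ v (rv i) = 0) :
    hJ S u v = 0 := by
  unfold hJ
  apply Finset.sum_eq_zero
  intro i _
  rcases h i with h | h
  · rw [h, zero_mul]
  · rw [h, map_zero, mul_zero]

/-- the unitary group of the form `hJ S` -/
def GJ (n : ℕ) (S : SInv F) : Subgroup (GL (Fin n) F) :=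
  Cfsg.preserving (Units.coeHom (Matrix (Fin n) (Fin n) F)) (hJ S)

/-- the matrix of an element -/
def mt (g : ↥(GJ n S)) : Matrix (Fin n) (Fin n) F :=
  ((g : GL (Fin n) F) : Matrix (Fin n) (Fin n) F)

theorem mt_mul (g h : ↥(GJ n S)) : mt (g * h) = mt g * mt h := rfl

theorem mt_one : mt (1 : ↥(GJ n S)) = 1 := rfl

theorem mt_form (g : ↥(GJ n S)) (u v : Fin n → F) :
    hJ S (mt g *ᵥ u) (mt g *ᵥ v) = hJ S u v := g.2 u v

theorem mt_ext {g h : ↥(GJ n S)} (e : mt g = mt h) : g = h := Subtype.ext (Units.ext e)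

theorem mt_inv_mul (g : ↥(GJ n S)) : mt g⁻¹ * mt g = 1 := by
  rw [← mt_mul, inv_mul_cancel, mt_one]

theorem mt_mul_inv (g : ↥(GJ n S)) : mt g * mt g⁻¹ = 1 := by
  rw [← mt_mul, mul_inv_cancel, mt_one]

theorem mt_mul_mulVec (g h : ↥(GJ n S)) (v : Fin n → F) :
    mt (g * h) *ᵥ v = mt g *ᵥ (mt h *ᵥ v) := by
  rw [mt_mul, Matrix.mulVec_mulVec]

theorem mt_inv_mulVec (g : ↥(GJ n S)) (v : Fin n → F) : mt g⁻¹ *ᵥ (mt g *ᵥ v) = v := by
  rw [Matrix.mulVec_mulVec, mt_inv_mul, Matrix.one_mulVec]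

theorem mt_mulVec_inv (g : ↥(GJ n S)) (v : Fin n → F) : mt g *ᵥ (mt g⁻¹ *ᵥ v) = v := by
  rw [Matrix.mulVec_mulVec, mt_mul_inv, Matrix.one_mulVec]

theorem mt_one_mulVec (v : Fin n → F) : mt (1 : ↥(GJ n S)) *ᵥ v = v := by
  rw [mt_one, Matrix.one_mulVec]

/-- an element is determined by its action on basis vectors -/
theorem mt_ext_bV {g h : ↥(GJ n S)} (e : ∀ y, mt g *ᵥ bV y = mt h *ᵥ bV y) : g = h := by
  apply mt_ext
  ext x y
  rw [← mulVec_bV (mt g) y x, ← mulVec_bV (mt h) y x, e]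

/-- entries of the inverse of a unitary matrix -/
theorem inv_apply (g : ↥(GJ n S)) (x y : Fin n) :
    mt g⁻¹ x y = S.σ (mt g (rv y) (rv x)) := by
  have h := mt_form g (bV (rv x)) (mt g⁻¹ *ᵥ bV y)
  rw [mt_mulVec_inv, hJ_bV_right, mulVec_bV, hJ_bV_left, mulVec_bV, rv_rv] at h
  rw [h, S.invol]

theorem inv_mul_apply (g : ↥(GJ n S)) (x y : Fin n) :
    (mt g⁻¹ * mt g) x y = if x = y then 1 else 0 := by
  rw [mt_inv_mul, Matrix.one_apply]

theorem mul_inv_apply (g : ↥(GJ n S)) (x y : Fin n) :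
    (mt g * mt g⁻¹) x y = if x = y then 1 else 0 := by
  rw [mt_mul_inv, Matrix.one_apply]

/-- the constructor: a matrix preserving the form is an element of the group -/
def mkG (M : Matrix (Fin n) (Fin n) F)
    (h : ∀ u v, hJ S (M *ᵥ u) (M *ᵥ v) = hJ S u v) : ↥(GJ n S) :=
  ⟨⟨M, Matrix.of (fun x y => S.σ (M (rv y) (rv x))),
    by
      rw [mul_eq_one_comm]
      ext x y
      rw [Matrix.mul_apply, Matrix.one_apply]
      have h1 := h (bV y) (bV (rv x))
      rw [hJ_bV_bV, rv_rv] at h1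
      unfold hJ at h1
      simp only [mulVec_bV] at h1
      rw [show (if x = y then (1 : F) else 0) = if y = x then 1 else 0 from by
        by_cases e : x = y
        · rw [if_pos e, if_pos e.symm]
        · rw [if_neg e, if_neg (fun e' => e e'.symm)], ← h1]
      apply Finset.sum_congr rfl
      intro i _
      rw [Matrix.of_apply, mul_comm],
    by
      ext x y
      rw [Matrix.mul_apply, Matrix.one_apply]
      have h1 := h (bV y) (bV (rv x))
      rw [hJ_bV_bV, rv_rv] at h1
      unfold hJ at h1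
      simp only [mulVec_bV] at h1
      rw [show (if x = y then (1 : F) else 0) = if y = x then 1 else 0 from by
        by_cases e : x = y
        · rw [if_pos e, if_pos e.symm]
        · rw [if_neg e, if_neg (fun e' => e e'.symm)], ← h1]
      apply Finset.sum_congr rfl
      intro i _
      rw [Matrix.of_apply, mul_comm]⟩, h⟩

theorem mt_mkG (M : Matrix (Fin n) (Fin n) F)
    (h : ∀ u v, hJ S (M *ᵥ u) (M *ᵥ v) = hJ S u v) : mt (mkG M h) = M := rfl

/-- inverses preserve block triangularity for a grading symmetric under `rv` -/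
theorem blockTri_inv {bf : Fin n → ℕ}
    (hsym : ∀ x y : Fin n, bf y < bf x → bf (rv x) < bf (rv y))
    (g : ↥(GJ n S)) (hg : (mt g).BlockTriangular bf) : (mt g⁻¹).BlockTriangular bf := by
  intro x y hxy
  rw [inv_apply, hg (hsym x y hxy), map_zero]

theorem rk_sym (x y : Fin n) (h : rk y < rk x) : rk (rv x) < rk (rv y) :=
  (rk_rv_lt_iff x y).2 h

/-- the upper triangular subgroup -/
def BU (n : ℕ) (S : SInv F) : Subgroup ↥(GJ n S) where
  carrier := {g | (mt g).BlockTriangular rk}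
  mul_mem' := fun {a b} ha hb => by
    show (mt (a * b)).BlockTriangular rk
    rw [mt_mul]
    exact Matrix.BlockTriangular.mul ha hb
  one_mem' := by
    show (mt (1 : ↥(GJ n S))).BlockTriangular rk
    rw [mt_one]
    exact Matrix.blockTriangular_one
  inv_mem' := fun {g} hg => blockTri_inv rk_sym g hg

theorem mem_BU_iff (g : ↥(GJ n S)) : g ∈ BU n S ↔ (mt g).BlockTriangular rk := Iff.rfl

/-- diagonal entries are multiplicative on upper triangular matrices -/
theorem up_mul_diag {M N : Matrix (Fin n) (Fin n) F}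
    (hM : M.BlockTriangular rk) (hN : N.BlockTriangular rk) (x : Fin n) :
    (M * N) x x = M x x * N x x := by
  rw [Matrix.mul_apply]
  apply Finset.sum_eq_single x
  · intro z _ hz
    rcases lt_or_gt_of_ne (fun h => hz (rk_injective h)) with h | h
    · rw [hM h, zero_mul]
    · rw [hN h, mul_zero]
  · intro h
    exact absurd (Finset.mem_univ x) h

theorem up_diag_mul_inv (g : ↥(GJ n S)) (hg : g ∈ BU n S) (x : Fin n) :
    mt g x x * mt g⁻¹ x x = 1 := by
  have h := mul_inv_apply g x x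
  rw [if_pos rfl, up_mul_diag hg ((BU n S).inv_mem hg)] at h
  exact h

theorem up_diag_ne_zero (g : ↥(GJ n S)) (hg : g ∈ BU n S) (x : Fin n) : mt g x x ≠ 0 := by
  intro h
  have := up_diag_mul_inv g hg x
  rw [h, zero_mul] at this
  exact zero_ne_one this

theorem up_diag_rv (g : ↥(GJ n S)) (hg : g ∈ BU n S) (x : Fin n) :
    mt g x x * S.σ (mt g (rv x) (rv x)) = 1 := by
  have h := up_diag_mul_inv g hg x
  rw [inv_apply] at h
  exact h

/-- monomial matrices with underlying permutation `π` -/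
def IsMono (M : Matrix (Fin n) (Fin n) F) (π : Equiv.Perm (Fin n)) : Prop :=
  ∀ x y, M x y ≠ 0 → x = π y

theorem isMono_one : IsMono (1 : Matrix (Fin n) (Fin n) F) 1 := by
  intro x y h
  rw [Equiv.Perm.one_apply]
  by_contra hxy
  exact h (Matrix.one_apply_ne hxy)

theorem mono_mul_apply {A M : Matrix (Fin n) (Fin n) F} {ρ : Equiv.Perm (Fin n)}
    (hA : IsMono A ρ) (x y : Fin n) : (A * M) x y = A x (ρ.symm x) * M (ρ.symm x) y := by
  rw [Matrix.mul_apply]
  apply Finset.sum_eq_single (ρ.symm x)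
  · intro z _ hz
    have : A x z = 0 := by
      by_contra h
      have := hA x z h
      apply hz
      rw [this, Equiv.symm_apply_apply]
    rw [this, zero_mul]
  · intro h
    exact absurd (Finset.mem_univ _) h

theorem mul_mono_apply {M C : Matrix (Fin n) (Fin n) F} {π : Equiv.Perm (Fin n)}
    (hC : IsMono C π) (x y : Fin n) : (M * C) x y = M x (π y) * C (π y) y := by
  rw [Matrix.mul_apply]
  apply Finset.sum_eq_single (π y)
  · intro z _ hz
    have : C z y = 0 := by
      by_contra h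
      exact hz (hC z y h)
    rw [this, mul_zero]
  · intro h
    exact absurd (Finset.mem_univ _) h

theorem mono_mulVec_apply {A : Matrix (Fin n) (Fin n) F} {ρ : Equiv.Perm (Fin n)}
    (hA : IsMono A ρ) (v : Fin n → F) (x : Fin n) :
    (A *ᵥ v) x = A x (ρ.symm x) * v (ρ.symm x) := by
  show ∑ y, A x y * v y = _
  apply Finset.sum_eq_single (ρ.symm x)
  · intro z _ hz
    have : A x z = 0 := by
      by_contra h
      have := hA x z h
      apply hz
      rw [this, Equiv.symm_apply_apply]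
    rw [this, zero_mul]
  · intro h
    exact absurd (Finset.mem_univ _) h

theorem isMono_mul {M N : Matrix (Fin n) (Fin n) F} {π ρ : Equiv.Perm (Fin n)}
    (hM : IsMono M π) (hN : IsMono N ρ) : IsMono (M * N) (π * ρ) := by
  intro x y h
  rw [mul_mono_apply hN] at h
  have h1 : M x (ρ y) ≠ 0 := fun h0 => h (by rw [h0, zero_mul])
  rw [Equiv.Perm.mul_apply]
  exact hM x (ρ y) h1

theorem isMono_inv (g : ↥(GJ n S)) {π : Equiv.Perm (Fin n)} (hπ : RvC π)
    (hg : IsMono (mt g) π) : IsMono (mt g⁻¹) π⁻¹ := by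
  intro x y h
  rw [inv_apply] at h
  have h1 : mt g (rv y) (rv x) ≠ 0 := fun h0 => h (by rw [h0, map_zero])
  have h2 := hg _ _ h1
  rw [hπ] at h2
  have h3 : y = π x := rv_inj h2
  rw [h3, Equiv.Perm.inv_def, Equiv.symm_apply_apply]

/-- the monomial subgroup -/
def NU (n : ℕ) (S : SInv F) : Subgroup ↥(GJ n S) where
  carrier := {g | ∃ π : Equiv.Perm (Fin n), RvC π ∧ IsMono (mt g) π}
  mul_mem' := by
    rintro a b ⟨π, hπ, ha⟩ ⟨ρ, hρ, hb⟩
    exact ⟨π * ρ, RvC_mul hπ hρ, isMono_mul ha hb⟩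
  one_mem' := ⟨1, RvC_one, isMono_one⟩
  inv_mem' := by
    rintro g ⟨π, hπ, hg⟩
    exact ⟨π⁻¹, RvC_inv hπ, isMono_inv g hπ hg⟩

theorem mem_NU_iff (g : ↥(GJ n S)) :
    g ∈ NU n S ↔ ∃ π : Equiv.Perm (Fin n), RvC π ∧ IsMono (mt g) π := Iff.rfl

/-- the pivot entries of a monomial unitary matrix are nonzero -/
theorem mono_pivot_ne_zero (g : ↥(GJ n S)) {π : Equiv.Perm (Fin n)} (hg : IsMono (mt g) π)
    (y : Fin n) : mt g (π y) y ≠ 0 := by
  intro h
  have h1 := inv_mul_apply g y y
  rw [if_pos rfl, mul_mono_apply hg, h, mul_zero] at h1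
  exact zero_ne_one h1

theorem mono_pivot_mul_inv (g : ↥(GJ n S)) {π : Equiv.Perm (Fin n)} (hg : IsMono (mt g) π)
    (y : Fin n) : mt g⁻¹ y (π y) * mt g (π y) y = 1 := by
  have h1 := inv_mul_apply g y y
  rw [if_pos rfl, mul_mono_apply hg] at h1
  exact h1

theorem isMono_one_of_up (g : ↥(GJ n S)) (hg : g ∈ BU n S) {π : Equiv.Perm (Fin n)}
    (hπ : IsMono (mt g) π) : π = 1 := by
  ext x
  rw [Equiv.Perm.one_apply]
  exact congrArg Fin.val (hπ x x (up_diag_ne_zero g hg x)).symm

theorem up_of_isMono_one (g : ↥(GJ n S)) (hg : IsMono (mt g) 1) : g ∈ BU n S := by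
  intro x y hxy
  by_contra h
  have := hg x y h
  rw [Equiv.Perm.one_apply] at this
  rw [this] at hxy
  exact lt_irrefl _ hxy

theorem mem_TU_iff (g : ↥(GJ n S)) : g ∈ BU n S ⊓ NU n S ↔ IsMono (mt g) 1 := by
  constructor
  · rintro ⟨hB, π, _, hπ⟩
    have := isMono_one_of_up g hB hπ
    rwa [this] at hπ
  · intro h
    exact ⟨up_of_isMono_one g h, 1, RvC_one, h⟩

/-- conjugation entry formula for monomial matrices -/
theorem mono_conj_apply (m : ↥(GJ n S)) {π : Equiv.Perm (Fin n)} (hπ : RvC π)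
    (hm : IsMono (mt m) π) (M : Matrix (Fin n) (Fin n) F) (x y : Fin n) :
    (mt m⁻¹ * M * mt m) x y = mt m⁻¹ x (π x) * M (π x) (π y) * mt m (π y) y := by
  rw [mul_mono_apply hm, mono_mul_apply (isMono_inv m hπ hm)]
  have e : (π⁻¹ : Equiv.Perm (Fin n)).symm x = π x := by
    rw [Equiv.Perm.inv_def, Equiv.symm_symm]
  rw [e]

/-- permutation matrices -/
def permM (π : Equiv.Perm (Fin n)) : Matrix (Fin n) (Fin n) F :=
  Matrix.of (fun x y => if x = π y then (1 : F) else 0)

theorem permM_apply (π : Equiv.Perm (Fin n)) (x y : Fin n) :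
    (permM π : Matrix (Fin n) (Fin n) F) x y = if x = π y then 1 else 0 := rfl

theorem permM_mulVec (π : Equiv.Perm (Fin n)) (u : Fin n → F) (x : Fin n) :
    ((permM π : Matrix (Fin n) (Fin n) F) *ᵥ u) x = u (π.symm x) := by
  show ∑ y, (permM π : Matrix (Fin n) (Fin n) F) x y * u y = _
  rw [Finset.sum_eq_single (π.symm x)]
  · rw [permM_apply, Equiv.apply_symm_apply, if_pos rfl, one_mul]
  · intro y _ hy
    have : x ≠ π y := by
      intro e
      apply hy
      rw [e, Equiv.symm_apply_apply]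
    rw [permM_apply, if_neg this, zero_mul]
  · intro h
    exact absurd (Finset.mem_univ _) h

/-- the monomial unitary matrix attached to a permutation commuting with `rv` -/
def monoU (π : Equiv.Perm (Fin n)) (hπ : RvC π) : ↥(GJ n S) :=
  mkG (permM π) (by
    intro u v
    unfold hJ
    rw [← Equiv.sum_comp π.symm (fun j => u j * S.σ (v (rv j)))]
    apply Finset.sum_congr rfl
    intro i _
    rw [permM_mulVec, permM_mulVec, RvC_symm hπ])

theorem monoU_apply (π : Equiv.Perm (Fin n)) (hπ : RvC π) (x y : Fin n) :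
    mt (monoU (S := S) π hπ) x y = if x = π y then 1 else 0 := rfl

theorem monoU_mulVec (π : Equiv.Perm (Fin n)) (hπ : RvC π) (u : Fin n → F) (x : Fin n) :
    (mt (monoU (S := S) π hπ) *ᵥ u) x = u (π.symm x) := permM_mulVec π u x

theorem monoU_mulVec_bV (π : Equiv.Perm (Fin n)) (hπ : RvC π) (y : Fin n) :
    mt (monoU (S := S) π hπ) *ᵥ bV y = bV (π y) := by
  ext x
  rw [mulVec_bV, monoU_apply, bV_apply]

theorem isMono_monoU (π : Equiv.Perm (Fin n)) (hπ : RvC π) :
    IsMono (mt (monoU (S := S) π hπ)) π := by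
  intro x y h
  rw [monoU_apply] at h
  by_contra hxy
  rw [if_neg hxy] at h
  exact h rfl

theorem monoU_mem_NU (π : Equiv.Perm (Fin n)) (hπ : RvC π) :
    monoU (S := S) π hπ ∈ NU n S := ⟨π, hπ, isMono_monoU π hπ⟩

/-- diagonal unitary matrices -/
def diagU (d : Fin n → F) (hd : ∀ i, d i * S.σ (d (rv i)) = 1) : ↥(GJ n S) :=
  mkG (Matrix.diagonal d) (by
    intro u v
    unfold hJ
    apply Finset.sum_congr rfl
    intro i _
    rw [Matrix.mulVec_diagonal, Matrix.mulVec_diagonal, map_mul]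
    have := hd i
    linear_combination (u i * S.σ (v (rv i))) * this)

theorem diagU_apply (d : Fin n → F) (hd : ∀ i, d i * S.σ (d (rv i)) = 1) (x y : Fin n) :
    mt (diagU (S := S) d hd) x y = if x = y then d x else 0 := by
  show Matrix.diagonal d x y = _
  rw [Matrix.diagonal_apply]

theorem diagU_mulVec (d : Fin n → F) (hd : ∀ i, d i * S.σ (d (rv i)) = 1) (u : Fin n → F)
    (x : Fin n) : (mt (diagU (S := S) d hd) *ᵥ u) x = d x * u x :=
  Matrix.mulVec_diagonal d u x

theorem isMono_diagU (d : Fin n → F) (hd : ∀ i, d i * S.σ (d (rv i)) = 1) :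
    IsMono (mt (diagU (S := S) d hd)) 1 := by
  intro x y h
  rw [diagU_apply] at h
  by_contra hxy
  rw [Equiv.Perm.one_apply] at hxy
  rw [if_neg hxy] at h
  exact h rfl

theorem diagU_mem_TU (d : Fin n → F) (hd : ∀ i, d i * S.σ (d (rv i)) = 1) :
    diagU (S := S) d hd ∈ BU n S ⊓ NU n S := (mem_TU_iff _).2 (isMono_diagU d hd)

end Cfsg.Agent.Lib.helper14.UBN
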