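import Mathlib
import Cfsg.Agent.Lib.helper14.UBNb

/-!
The permutations `tauP a c`, the coarse grading `rks k`, Lemma (K) and the simple reflections of
the unitary group.
-/

set_option autoImplicit false

namespace Cfsg.Agent.Lib.helper14.UBN

open Matrix

universe u
variable {F : Type u} [Field F] {n : ℕ} {S : SInv F}

/-- the involution exchanging `a ↔ c` and `rv a ↔ rv c` -/
def tauF (a c : Fin n) (x : Fin n) : Fin n :=
  if x = a then c else if x = c then a else if x = rv a then rv c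
    else if x = rv c then rv a else x

theorem tauF_left (a c : Fin n) : tauF a c a = c := if_pos rfl

theorem tauF_right {a c : Fin n} (hac : a ≠ c) : tauF a c c = a := by
  unfold tauF
  rw [if_neg hac.symm, if_pos rfl]

theorem tauF_rv_left {a c : Fin n} (ha : rv a ≠ a) (h : c ≠ rv a) :
    tauF a c (rv a) = rv c := by
  unfold tauF
  rw [if_neg ha, if_neg h.symm, if_pos rfl]

theorem tauF_rv_right {a c : Fin n} (hac : a ≠ c) (hc : rv c ≠ c) (h : c ≠ rv a) :
    tauF a c (rv c) = rv a := by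
  unfold tauF
  have h1 : rv c ≠ a := fun e => h (by rw [← e, rv_rv])
  have h2 : rv c ≠ rv a := fun e => hac (rv_inj e).symm
  rw [if_neg h1, if_neg hc, if_neg h2, if_pos rfl]

theorem tauF_of_ne {a c x : Fin n} (h1 : x ≠ a) (h2 : x ≠ c) (h3 : x ≠ rv a)
    (h4 : x ≠ rv c) : tauF a c x = x := by
  unfold tauF
  rw [if_neg h1, if_neg h2, if_neg h3, if_neg h4]

theorem tauF_invol {a c : Fin n} (hac : a ≠ c) (ha : rv a ≠ a) (hc : rv c ≠ c) :
    Function.Involutive (tauF a c) := by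
  intro x
  by_cases h1 : x = a
  · rw [h1, tauF_left, tauF_right hac]
  by_cases h2 : x = c
  · rw [h2, tauF_right hac, tauF_left]
  by_cases h3 : x = rv a
  · have hc' : c ≠ rv a := fun e => h2 (by rw [h3, e])
    rw [h3, tauF_rv_left ha hc', tauF_rv_right hac hc hc']
  by_cases h4 : x = rv c
  · have hc' : c ≠ rv a := fun e => h1 (by rw [h4, e, rv_rv])
    rw [h4, tauF_rv_right hac hc hc', tauF_rv_left ha hc']
  rw [tauF_of_ne h1 h2 h3 h4, tauF_of_ne h1 h2 h3 h4]

/-- `tauF` as a permutation -/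
def tauP (a c : Fin n) (hac : a ≠ c) (ha : rv a ≠ a) (hc : rv c ≠ c) : Equiv.Perm (Fin n) :=
  (tauF_invol hac ha hc).toPerm

theorem tauP_apply {a c : Fin n} (hac : a ≠ c) (ha : rv a ≠ a) (hc : rv c ≠ c) (x : Fin n) :
    tauP a c hac ha hc x = tauF a c x := rfl

theorem tauP_symm_apply {a c : Fin n} (hac : a ≠ c) (ha : rv a ≠ a) (hc : rv c ≠ c) (x : Fin n) :
    (tauP a c hac ha hc).symm x = tauF a c x := rfl

theorem tauP_mul_self {a c : Fin n} (hac : a ≠ c) (ha : rv a ≠ a) (hc : rv c ≠ c) :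
    tauP a c hac ha hc * tauP a c hac ha hc = 1 := by
  ext x
  rw [Equiv.Perm.mul_apply, tauP_apply, tauP_apply, tauF_invol hac ha hc, Equiv.Perm.one_apply]

theorem RvC_tauP {a c : Fin n} (hac : a ≠ c) (ha : rv a ≠ a) (hc : rv c ≠ c) :
    RvC (tauP a c hac ha hc) := by
  intro x
  rw [tauP_apply, tauP_apply]
  by_cases h1 : x = a
  · rw [h1, tauF_left]
    by_cases hc' : c = rv a
    · rw [← hc', tauF_right hac, hc', rv_rv]
    · rw [tauF_rv_left ha hc']
  by_cases h2 : x = c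
  · rw [h2, tauF_right hac]
    by_cases hc' : c = rv a
    · have hc'' : rv c = a := by rw [hc', rv_rv]
      rw [hc'', tauF_left, hc']
    · rw [tauF_rv_right hac hc hc']
  by_cases h3 : x = rv a
  · have hc' : c ≠ rv a := fun e => h2 (by rw [h3, e])
    rw [h3, rv_rv, tauF_left, tauF_rv_left ha hc', rv_rv]
  by_cases h4 : x = rv c
  · have hc' : c ≠ rv a := fun e => h1 (by rw [h4, e, rv_rv])
    rw [h4, rv_rv, tauF_right hac, tauF_rv_right hac hc hc', rv_rv]
  have g1 : rv x ≠ a := fun e => h3 (rv_eq_iff.1 e)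
  have g2 : rv x ≠ c := fun e => h4 (rv_eq_iff.1 e)
  have g3 : rv x ≠ rv a := fun e => h1 (rv_inj e)
  have g4 : rv x ≠ rv c := fun e => h2 (rv_inj e)
  rw [tauF_of_ne h1 h2 h3 h4, tauF_of_ne g1 g2 g3 g4]

/-- the grading merging the ranks of the block of the `k`-th simple pair (and of its mirror) -/
def rks (k : Fin (n / 2)) (x : Fin n) : ℕ :=
  if k.val ≤ rk x ∧ rk x ≤ rk (pc k) then k.val
  else if n - 1 - rk (pc k) ≤ rk x ∧ rk x ≤ n - 1 - k.val then n - 1 - rk (pc k)
  else rk x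

theorem rks_sym (k : Fin (n / 2)) (x y : Fin n) (h : rks k y < rks k x) :
    rks k (rv x) < rks k (rv y) := by
  have h1 := rk_add_rv x
  have h2 := rk_add_rv y
  have h3 := rk_lt x
  have h4 := rk_lt y
  have hk := k.2
  unfold rks at *
  rcases pc_cases k with ⟨h5, h6⟩ | ⟨h5, _, h6⟩ <;> split_ifs at * <;> omega

theorem rks_mono (k : Fin (n / 2)) {x y : Fin n} (h : rks k y < rks k x) : rk y < rk x := by
  have hk := k.2
  have h3 := rk_lt x
  have h4 := rk_lt y
  unfold rks at h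
  rcases pc_cases k with ⟨h5, h6⟩ | ⟨h5, _, h6⟩ <;> split_ifs at h <;> omega

theorem rks_pa (k : Fin (n / 2)) : rks k (pa k) = k.val := by
  have h := rk_pa_lt_pc k
  unfold rks
  rw [rk_pa] at *
  rw [if_pos ⟨le_refl _, h.le⟩]

theorem rks_pc (k : Fin (n / 2)) : rks k (pc k) = k.val := by
  have h := rk_pa_lt_pc k
  rw [rk_pa] at h
  unfold rks
  rw [if_pos ⟨h.le, le_refl _⟩]

theorem rks_eq_iff (k : Fin (n / 2)) (z : Fin n) :
    rks k z = k.val ↔ k.val ≤ rk z ∧ rk z ≤ rk (pc k) := by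
  have hk := k.2
  have h3 := rk_lt z
  unfold rks
  rcases pc_cases k with ⟨h5, h6⟩ | ⟨h5, _, h6⟩ <;> split_ifs <;> omega

/-- below rank `k` the grading is smaller than `k` -/
theorem rks_lt_of_rk_lt (k : Fin (n / 2)) {z : Fin n} (h : rk z < k.val) : rks k z < k.val := by
  have hk := k.2
  have h3 := rk_lt z
  unfold rks
  rcases pc_cases k with ⟨h5, h6⟩ | ⟨h5, _, h6⟩ <;> split_ifs <;> omega

theorem rk_lt_of_rks_lt (k : Fin (n / 2)) {z : Fin n} (h : rks k z < k.val) : rk z < k.val := by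
  have hk := k.2
  have h3 := rk_lt z
  unfold rks at h
  rcases pc_cases k with ⟨h5, h6⟩ | ⟨h5, _, h6⟩ <;> split_ifs at h <;> omega

theorem rks_gt_of_rk_gt (k : Fin (n / 2)) {z : Fin n} (h : rk (pc k) < rk z) :
    k.val < rks k z := by
  have hk := k.2
  have h3 := rk_lt z
  unfold rks
  rcases pc_cases k with ⟨h5, h6⟩ | ⟨h5, _, h6⟩ <;> split_ifs <;> omega

theorem rk_gt_of_rks_gt (k : Fin (n / 2)) {z : Fin n} (h : k.val < rks k z) :
    rk (pc k) < rk z := by
  have hk := k.2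
  have h3 := rk_lt z
  unfold rks at h
  rcases pc_cases k with ⟨h5, h6⟩ | ⟨h5, _, h6⟩ <;> split_ifs at h <;> omega

/-- two indices out of order for `rk` but not for `rks k`: either the lower one is `pa k`, or the
upper one is `rv (pa k)` -/
theorem pair_of_not_rks_lt (k : Fin (n / 2)) {x y : Fin n} (h : rk y < rk x)
    (h' : ¬ rks k y < rks k x) :
    (y = pa k ∧ rks k x = k.val) ∨
      (x = rv (pa k) ∧ rks k (rv y) = k.val ∧ rv y ≠ pa k) := by
  have hk := k.2
  have hx := rk_lt x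
  have h1 := rk_add_rv y
  have h2 := rk_add_rv (pa k)
  rw [rk_pa] at h2
  have hnum : (rk y = k.val ∧ k.val ≤ rk x ∧ rk x ≤ rk (pc k)) ∨
      (rk x = n - 1 - k.val ∧ k.val < rk (rv y) ∧ rk (rv y) ≤ rk (pc k)) := by
    unfold rks at h'
    rcases pc_cases k with ⟨h5, h6⟩ | ⟨h5, _, h6⟩ <;> split_ifs at h' <;> omega
  rcases hnum with ⟨e1, e2, e3⟩ | ⟨e1, e2, e3⟩
  · left
    exact ⟨eq_pa_of_rk e1, (rks_eq_iff k x).2 ⟨e2, e3⟩⟩
  · right
    refine ⟨?_, (rks_eq_iff k _).2 ⟨e2.le, e3⟩, ?_⟩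
    · apply rk_injective
      omega
    · intro e
      rw [e, rk_pa] at e2
      exact lt_irrefl _ e2

theorem rks_tauF (k : Fin (n / 2)) (x : Fin n) :
    rks k (tauF (pa k) (pc k) x) = rks k x := by
  have hk := k.2
  have hac := pa_ne_pc k
  have ha := rv_pa_ne k
  have hc := rv_pc_ne k
  by_cases h1 : x = pa k
  · rw [h1, tauF_left, rks_pa, rks_pc]
  by_cases h2 : x = pc k
  · rw [h2, tauF_right hac, rks_pa, rks_pc]
  by_cases h3 : x = rv (pa k)
  · have hc' : pc k ≠ rv (pa k) := fun e => h2 (by rw [h3, e])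
    rw [h3, tauF_rv_left ha hc']
    have e1 := rk_add_rv (pa k)
    have e2 := rk_add_rv (pc k)
    rw [rk_pa] at e1
    have h6 : ¬ (k.val + 1 = n / 2 ∧ pc k = rv (pa k) ∧ rk (pc k) = n - 1 - k.val) :=
      fun hh => hc' hh.2.1
    unfold rks
    rcases pc_cases k with ⟨h5, h6⟩ | h7
    · split_ifs <;> omega
    · exact absurd h7 h6
  by_cases h4 : x = rv (pc k)
  · have hc' : pc k ≠ rv (pa k) := fun e => h1 (by rw [h4, e, rv_rv])
    rw [h4, tauF_rv_right hac hc hc']
    have e1 := rk_add_rv (pa k)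
    have e2 := rk_add_rv (pc k)
    rw [rk_pa] at e1
    have h6 : ¬ (k.val + 1 = n / 2 ∧ pc k = rv (pa k) ∧ rk (pc k) = n - 1 - k.val) :=
      fun hh => hc' hh.2.1
    unfold rks
    rcases pc_cases k with ⟨h5, h6⟩ | h7
    · split_ifs <;> omega
    · exact absurd h7 h6
  rw [tauF_of_ne h1 h2 h3 h4]

theorem pk_of_up (k : Fin (n / 2)) {M : Matrix (Fin n) (Fin n) F}
    (hM : M.BlockTriangular rk) : M.BlockTriangular (rks k) :=
  fun _ _ h => hM (rks_mono k h)

/-- collapse of a product entry in column `pa k` -/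
theorem pk_mul_apply_pa (k : Fin (n / 2)) {A M : Matrix (Fin n) (Fin n) F}
    (hA : A.BlockTriangular (rks k)) (hM : M.BlockTriangular (rks k))
    (hcol : ∀ z, rks k z = k.val → z ≠ pa k → M z (pa k) = 0) (x : Fin n)
    (hx : rks k x = k.val) :
    (A * M) x (pa k) = A x (pa k) * M (pa k) (pa k) := by
  rw [Matrix.mul_apply]
  apply Finset.sum_eq_single (pa k)
  · intro z _ hz
    rcases lt_trichotomy (rks k z) k.val with h | h | h
    · have : rks k z < rks k x := by rw [hx]; exact h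
      rw [hA this, zero_mul]
    · rw [hcol z h hz, mul_zero]
    · have : rks k (pa k) < rks k z := by rw [rks_pa]; exact h
      rw [hM this, mul_zero]
  · intro h
    exact absurd (Finset.mem_univ _) h

/-- Lemma (K): a unitary matrix that is block triangular for `rks k` and whose column `pa k` is
reduced inside the block is upper triangular -/
theorem lemmaK (k : Fin (n / 2)) (g : ↥(GJ n S)) (hg : (mt g).BlockTriangular (rks k))
    (hcol : ∀ z, rks k z = k.val → z ≠ pa k → mt g z (pa k) = 0) : g ∈ BU n S := by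
  have hinv := blockTri_inv (rks_sym k) g hg
  have h1 := inv_mul_apply g (pa k) (pa k)
  rw [if_pos rfl, pk_mul_apply_pa k hinv hg hcol _ (rks_pa k)] at h1
  have haa : mt g (pa k) (pa k) ≠ 0 := by
    intro h
    rw [h, mul_zero] at h1
    exact zero_ne_one h1
  have hinvcol : ∀ z, rks k z = k.val → z ≠ pa k → mt g⁻¹ z (pa k) = 0 := by
    intro z hz hza
    have h2 := inv_mul_apply g z (pa k)
    rw [if_neg hza, pk_mul_apply_pa k hinv hg hcol _ hz] at h2
    rcases mul_eq_zero.mp h2 with h | h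
    · exact h
    · exact absurd h haa
  intro x y hxy
  by_cases h : rks k y < rks k x
  · exact hg h
  · rcases pair_of_not_rks_lt k hxy h with ⟨rfl, hx⟩ | ⟨rfl, hy, hy'⟩
    · apply hcol x hx
      intro e
      rw [e] at hxy
      exact lt_irrefl _ hxy
    · have h3 := hinvcol (rv y) hy hy'
      rw [inv_apply, rv_rv] at h3
      have h4 := congrArg S.σ h3
      rw [S.invol, map_zero] at h4
      exact h4

/-- the permutation of the `k`-th simple reflection -/
def tauS (k : Fin (n / 2)) : Equiv.Perm (Fin n) :=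
  tauP (pa k) (pc k) (pa_ne_pc k) (rv_pa_ne k) (rv_pc_ne k)

theorem RvC_tauS (k : Fin (n / 2)) : RvC (tauS k) := RvC_tauP _ _ _

theorem tauS_apply (k : Fin (n / 2)) (x : Fin n) : tauS k x = tauF (pa k) (pc k) x := rfl

theorem tauS_pa (k : Fin (n / 2)) : tauS k (pa k) = pc k := tauF_left _ _

theorem tauS_pc (k : Fin (n / 2)) : tauS k (pc k) = pa k := tauF_right (pa_ne_pc k)

theorem tauS_symm (k : Fin (n / 2)) : (tauS k).symm = tauS k := rfl

theorem tauS_inv (k : Fin (n / 2)) : (tauS k)⁻¹ = tauS k := rfl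

theorem tauS_mul_self (k : Fin (n / 2)) : tauS k * tauS k = 1 := tauP_mul_self _ _ _

theorem tauS_tauS (k : Fin (n / 2)) (x : Fin n) : tauS k (tauS k x) = x :=
  tauF_invol (pa_ne_pc k) (rv_pa_ne k) (rv_pc_ne k) x

theorem rks_tauS (k : Fin (n / 2)) (x : Fin n) : rks k (tauS k x) = rks k x := rks_tauF k x

/-- outside the block and its mirror, `tauS k` is the identity -/
theorem tauS_of_rks_ne (k : Fin (n / 2)) {x : Fin n} (h1 : rks k x ≠ k.val)
    (h2 : rks k (rv x) ≠ k.val) : tauS k x = x := by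
  apply tauF_of_ne
  · intro e
    exact h1 (e ▸ rks_pa k)
  · intro e
    exact h1 (e ▸ rks_pc k)
  · intro e
    apply h2
    rw [e, rv_rv]
    exact rks_pa k
  · intro e
    apply h2
    rw [e, rv_rv]
    exact rks_pc k

/-- the `k`-th simple reflection -/
def sRef (k : Fin (n / 2)) : ↥(GJ n S) := monoU (tauS k) (RvC_tauS k)

theorem isMono_sRef (k : Fin (n / 2)) : IsMono (mt (sRef (S := S) k)) (tauS k) :=
  isMono_monoU _ _

theorem isMono_sRef_inv (k : Fin (n / 2)) : IsMono (mt (sRef (S := S) k)⁻¹) (tauS k) := by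
  have := isMono_inv (sRef (S := S) k) (RvC_tauS k) (isMono_sRef k)
  rwa [tauS_inv] at this

theorem sRef_mem_NU (k : Fin (n / 2)) : sRef (S := S) k ∈ NU n S := monoU_mem_NU _ _

theorem sRef_mul_self (k : Fin (n / 2)) : sRef (S := S) k * sRef k = 1 := by
  apply mt_ext_bV
  intro y
  rw [mt_mul_mulVec, mt_one_mulVec]
  show mt (monoU (tauS k) (RvC_tauS k)) *ᵥ (mt (monoU (tauS k) (RvC_tauS k)) *ᵥ bV y) = bV y
  rw [monoU_mulVec_bV, monoU_mulVec_bV, tauS_tauS]

theorem sRef_inv (k : Fin (n / 2)) : (sRef (S := S) k)⁻¹ = sRef k :=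
  inv_eq_of_mul_eq_one_right (sRef_mul_self k)

theorem sRef_mulVec_bV (k : Fin (n / 2)) (y : Fin n) :
    mt (sRef (S := S) k) *ᵥ bV y = bV (tauS k y) := monoU_mulVec_bV _ _ y

theorem sRef_mulVec (k : Fin (n / 2)) (u : Fin n → F) (x : Fin n) :
    (mt (sRef (S := S) k) *ᵥ u) x = u (tauS k x) := monoU_mulVec _ _ u x

theorem pk_of_mono (k : Fin (n / 2)) {M : Matrix (Fin n) (Fin n) F}
    (hM : IsMono M (tauS k)) : M.BlockTriangular (rks k) := by
  intro x y h
  by_contra hne
  have := hM x y hne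
  rw [this, rks_tauS] at h
  exact lt_irrefl _ h

theorem pk_sRef (k : Fin (n / 2)) : (mt (sRef (S := S) k)).BlockTriangular (rks k) :=
  pk_of_mono k (isMono_sRef k)

end Cfsg.Agent.Lib.helper14.UBN
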