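import Mathlib
import Cfsg.Agent.Lib.helper14.UBNc

/-!
Eichler (Siegel) transformations of the unitary group, and the unipotent elements `uPre k w` of
the `k`-th rank one Levi block with prescribed column.
-/

set_option autoImplicit false

namespace Cfsg.Agent.Lib.helper14.UBN

open Matrix

universe u
variable {F : Type u} [Field F] {n : ℕ} {S : SInv F}

/-- the matrix of the Eichler transformation
`u ↦ u + u_{rv p} z - (h(u,z) + β u_{rv p}) e_p` -/
def eichM (S : SInv F) (p : Fin n) (z : Fin n → F) (β : F) : Matrix (Fin n) (Fin n) F :=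
  Matrix.of (fun x y => (if x = y then (1 : F) else 0) + z x * (if y = rv p then 1 else 0) -
    (if x = p then 1 else 0) * (S.σ (z (rv y)) + β * (if y = rv p then 1 else 0)))

theorem eichM_apply (p : Fin n) (z : Fin n → F) (β : F) (x y : Fin n) :
    eichM S p z β x y = (if x = y then (1 : F) else 0) + z x * (if y = rv p then 1 else 0) -
      (if x = p then 1 else 0) * (S.σ (z (rv y)) + β * (if y = rv p then 1 else 0)) := rfl

theorem eichM_mulVec (p : Fin n) (z : Fin n → F) (β : F) (u : Fin n → F) :
    eichM S p z β *ᵥ u = u + u (rv p) • z - (hJ S u z + β * u (rv p)) • bV p := by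
  ext x
  show ∑ y, eichM S p z β x y * u y = _
  simp only [eichM_apply, sub_mul, add_mul, Finset.sum_sub_distrib, Finset.sum_add_distrib,
    Pi.add_apply, Pi.sub_apply, Pi.smul_apply, smul_eq_mul]
  have e1 : ∑ y, (if x = y then (1 : F) else 0) * u y = u x := by
    rw [Finset.sum_eq_single x]
    · rw [if_pos rfl, one_mul]
    · intro y _ hy
      rw [if_neg (fun e => hy e.symm), zero_mul]
    · intro h
      exact absurd (Finset.mem_univ _) h
  have e2 : ∑ y, z x * (if y = rv p then (1 : F) else 0) * u y = u (rv p) * z x := by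
    rw [Finset.sum_eq_single (rv p)]
    · rw [if_pos rfl, mul_one, mul_comm]
    · intro y _ hy
      rw [if_neg hy, mul_zero, zero_mul]
    · intro h
      exact absurd (Finset.mem_univ _) h
  have e3 : ∑ y, (if x = p then (1 : F) else 0) *
      (S.σ (z (rv y)) + β * (if y = rv p then 1 else 0)) * u y =
      (hJ S u z + β * u (rv p)) * bV p x := by
    rw [bV_apply]
    by_cases hx : x = p
    · simp only [if_pos hx, one_mul, mul_one, add_mul, Finset.sum_add_distrib]
      congr 1
      · unfold hJ
        apply Finset.sum_congr rfl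
        intro y _
        rw [mul_comm]
      · rw [Finset.sum_eq_single (rv p)]
        · rw [if_pos rfl, mul_one]
        · intro y _ hy
          rw [if_neg hy, mul_zero, zero_mul]
        · intro h
          exact absurd (Finset.mem_univ _) h
    · simp only [if_neg hx, zero_mul, mul_zero, Finset.sum_const_zero]
  rw [e1, e2, e3]
  ring

/-- Eichler transformations preserve the form -/
theorem eichM_form (p : Fin n) (z : Fin n → F) (β : F) (hp : rv p ≠ p) (hz : z (rv p) = 0)
    (hβ : β + S.σ β = hJ S z z) (u v : Fin n → F) :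
    hJ S (eichM S p z β *ᵥ u) (eichM S p z β *ᵥ v) = hJ S u v := by
  rw [eichM_mulVec, eichM_mulVec]
  have hA : hJ S z (bV p) = 0 := by rw [hJ_bV_right, hz]
  have hB : hJ S (bV p) z = 0 := by rw [hJ_bV_left, hz, map_zero]
  have hC : hJ S (bV p : Fin n → F) (bV p) = 0 := by rw [hJ_bV_bV, if_neg (Ne.symm hp)]
  have hD : hJ S z v = S.σ (hJ S v z) := (hJ_symm v z).symm
  have hE : hJ S (bV p) v = S.σ (v (rv p)) := hJ_bV_left p v
  have hG : hJ S u (bV p) = u (rv p) := hJ_bV_right u p
  simp only [hJ_add_left, hJ_sub_left, hJ_smul_left, hJ_add_right, hJ_sub_right, hJ_smul_right,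
    hA, hB, hC, hD, hE, hG, map_add, map_mul]
  linear_combination (-(u (rv p) * S.σ (v (rv p)))) * hβ

/-- the Eichler transformation as a group element -/
def eichG (p : Fin n) (z : Fin n → F) (β : F) (hp : rv p ≠ p) (hz : z (rv p) = 0)
    (hβ : β + S.σ β = hJ S z z) : ↥(GJ n S) :=
  mkG (eichM S p z β) (eichM_form p z β hp hz hβ)

theorem eichG_apply (p : Fin n) (z : Fin n → F) (β : F) (hp : rv p ≠ p) (hz : z (rv p) = 0)
    (hβ : β + S.σ β = hJ S z z) (x y : Fin n) :
    mt (eichG p z β hp hz hβ) x y =
      (if x = y then (1 : F) else 0) + z x * (if y = rv p then 1 else 0) -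
        (if x = p then 1 else 0) * (S.σ (z (rv y)) + β * (if y = rv p then 1 else 0)) := rfl

theorem eichG_mulVec (p : Fin n) (z : Fin n → F) (β : F) (hp : rv p ≠ p) (hz : z (rv p) = 0)
    (hβ : β + S.σ β = hJ S z z) (u : Fin n → F) :
    mt (eichG p z β hp hz hβ) *ᵥ u = u + u (rv p) • z - (hJ S u z + β * u (rv p)) • bV p :=
  eichM_mulVec p z β u

/-- vectors fixed by an Eichler transformation -/
theorem eichG_fix (p : Fin n) (z : Fin n → F) (β : F) (hp : rv p ≠ p) (hz : z (rv p) = 0)
    (hβ : β + S.σ β = hJ S z z) (u : Fin n → F) (h1 : u (rv p) = 0) (h2 : hJ S u z = 0) :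
    mt (eichG p z β hp hz hβ) *ᵥ u = u := by
  rw [eichG_mulVec, h1, h2]
  simp

/-- the column `rv p` of an Eichler transformation -/
theorem eichG_col (p : Fin n) (z : Fin n → F) (β : F) (hp : rv p ≠ p) (hz : z (rv p) = 0)
    (hβ : β + S.σ β = hJ S z z) :
    mt (eichG p z β hp hz hβ) *ᵥ bV (rv p) = bV (rv p) + z - (S.σ (z p) + β) • bV p := by
  rw [eichG_mulVec, bV_apply, if_pos rfl, one_smul, hJ_bV_left, rv_rv, mul_one]

/-- the column `y` of an Eichler transformation for `y ≠ rv p` -/
theorem eichG_col_ne (p : Fin n) (z : Fin n → F) (β : F) (hp : rv p ≠ p) (hz : z (rv p) = 0)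
    (hβ : β + S.σ β = hJ S z z) (y : Fin n) (hy : y ≠ rv p) :
    mt (eichG p z β hp hz hβ) *ᵥ bV y = bV y - S.σ (z (rv y)) • bV p := by
  have : rv p ≠ y := fun e => hy e.symm
  rw [eichG_mulVec, bV_apply, if_neg this, zero_smul, add_zero, mul_zero, add_zero, hJ_bV_left]

/-- the diagonal entries of an Eichler transformation -/
theorem eichG_diag (p : Fin n) (z : Fin n → F) (β : F) (hp : rv p ≠ p) (hz : z (rv p) = 0)
    (hβ : β + S.σ β = hJ S z z) (x : Fin n) : mt (eichG p z β hp hz hβ) x x = 1 := by
  rw [eichG_apply, if_pos rfl]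
  by_cases hx : x = rv p
  · have hxp : x ≠ p := fun e => hp (by rw [← hx, e])
    rw [hx, hz, zero_mul, add_zero, if_neg (hx ▸ hxp), zero_mul, sub_zero]
  · rw [if_neg hx, mul_zero, add_zero, mul_zero, add_zero]
    by_cases hxp : x = p
    · rw [hxp, hz, map_zero, mul_zero, sub_zero]
    · rw [if_neg hxp, zero_mul, sub_zero]

/-- matrices supported on the diagonal and on the upper triangular part of the `k`-th Levi block
and of its mirror image -/
def IsUk (k : Fin (n / 2)) (M : Matrix (Fin n) (Fin n) F) : Prop :=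
  ∀ x y, M x y ≠ 0 → x = y ∨ (rk x < rk y ∧
    ((rks k x = k.val ∧ rks k y = k.val) ∨ (rks k (rv x) = k.val ∧ rks k (rv y) = k.val)))

theorem up_of_isUk (k : Fin (n / 2)) (g : ↥(GJ n S)) (h : IsUk k (mt g)) : g ∈ BU n S := by
  intro x y hxy
  by_contra hne
  rcases h x y hne with e | ⟨e, _⟩
  · rw [e] at hxy
    exact lt_irrefl _ hxy
  · exact absurd hxy (not_lt.2 e.le)

/-- order preservation inside the block for a permutation keeping the simple root positive -/
theorem pos_of_block (k : Fin (n / 2)) {π : Equiv.Perm (Fin n)} (hπ : RvC π)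
    (hpos : rk (π.symm (pa k)) < rk (π.symm (pc k))) {x y : Fin n} (hx : rks k x = k.val)
    (hy : rks k y = k.val) (hxy : rk x < rk y) : rk (π.symm x) < rk (π.symm y) := by
  have hk := k.2
  rw [rks_eq_iff] at hx hy
  rcases pc_cases k with ⟨h5, h6⟩ | ⟨h5, h6, h7⟩
  · have e1 : x = pa k := eq_pa_of_rk (by omega)
    have e2 : y = pc k := rk_injective (by omega)
    rw [e1, e2]
    exact hpos
  · rw [h6, RvC_symm hπ] at hpos
    have h8 := rk_add_rv (π.symm (pa k))
    have hxa : rk x = k.val ∨ rv x = x := by
      by_cases e : rk x = k.val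
      · exact Or.inl e
      · right
        apply rk_injective
        have := rk_add_rv x
        omega
    have hyc : rk y = n - 1 - k.val ∨ rv y = y := by
      by_cases e : rk y = n - 1 - k.val
      · exact Or.inl e
      · right
        apply rk_injective
        have := rk_add_rv y
        omega
    have hsx : rv x = x → rk (π.symm x) = rk x := fun e => rk_of_rv_fixed (RvC_inv hπ) e
    have hsy : rv y = y → rk (π.symm y) = rk y := fun e => rk_of_rv_fixed (RvC_inv hπ) e
    rcases hxa with e1 | e1 <;> rcases hyc with e2 | e2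
    · have e1' : x = pa k := eq_pa_of_rk e1
      have e2' : y = rv (pa k) := by
        apply rk_injective
        have := rk_add_rv (pa k)
        rw [rk_pa] at this
        omega
      rw [e1', e2', RvC_symm hπ]
      exact hpos
    · have e1' : x = pa k := eq_pa_of_rk e1
      rw [hsy e2, e1']
      have := rk_add_rv y
      rw [e2] at this
      omega
    · have e2' : y = rv (pa k) := by
        apply rk_injective
        have := rk_add_rv (pa k)
        rw [rk_pa] at this
        omega
      rw [hsx e1, e2', RvC_symm hπ]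
      have := rk_add_rv x
      rw [e1] at this
      omega
    · exfalso
      have h1 := rk_add_rv x
      have h2 := rk_add_rv y
      rw [e1] at h1
      rw [e2] at h2
      omega

/-- conjugating a block unipotent element by a monomial matrix for which the simple root stays
positive -/
theorem conj_isUk_mem (k : Fin (n / 2)) (g m : ↥(GJ n S)) (hg : IsUk k (mt g))
    {π : Equiv.Perm (Fin n)} (hπ : RvC π) (hm : IsMono (mt m) π)
    (hpos : rk (π.symm (pa k)) < rk (π.symm (pc k))) : m⁻¹ * g * m ∈ BU n S := by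
  intro x y hxy
  rw [mt_mul, mt_mul, mono_conj_apply m hπ hm]
  have h0 : mt g (π x) (π y) = 0 := by
    by_contra h
    rcases hg _ _ h with h1 | ⟨h1, h2 | h2⟩
    · rw [π.injective h1] at hxy
      exact lt_irrefl _ hxy
    · have := pos_of_block k hπ hpos h2.1 h2.2 h1
      rw [Equiv.symm_apply_apply, Equiv.symm_apply_apply] at this
      omega
    · have h3 : rk (rv (π y)) < rk (rv (π x)) := (rk_rv_lt_iff _ _).2 h1
      have := pos_of_block k hπ hpos h2.2 h2.1 h3
      rw [RvC_symm hπ, RvC_symm hπ, Equiv.symm_apply_apply, Equiv.symm_apply_apply,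
        rk_rv_lt_iff] at this
      omega
  rw [h0, mul_zero, zero_mul]

/-- the block part of a vector -/
def blk (k : Fin (n / 2)) (v : Fin n → F) : Fin n → F :=
  fun z => if rks k z = k.val then v z else 0

theorem rks_rv_of_eq (k : Fin (n / 2)) {i : Fin n} (h : rks k i = k.val) :
    k.val ≤ rks k (rv i) := by
  have hk := k.2
  have h1 := rk_add_rv i
  have h3 := rk_lt i
  rw [rks_eq_iff] at h
  unfold rks
  rcases pc_cases k with ⟨h5, h6⟩ | ⟨h5, _, h6⟩ <;> split_ifs <;> omega

theorem rks_rv_of_lt (k : Fin (n / 2)) {i : Fin n} (h : rks k i < k.val) :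
    k.val < rks k (rv i) := by
  have hk := k.2
  have h0 := rk_lt_of_rks_lt k h
  have h1 := rk_add_rv i
  have h3 := rk_lt i
  apply rks_gt_of_rk_gt
  have := rk_pc_le k
  omega

/-- the block part of an isotropic vector supported on and above the block is isotropic -/
theorem blk_iso (k : Fin (n / 2)) (v : Fin n → F) (hv : hJ S v v = 0)
    (hsupp : ∀ z, k.val < rks k z → v z = 0) : hJ S (blk k v) (blk k v) = 0 := by
  rw [← hv]
  unfold hJ
  apply Finset.sum_congr rfl
  intro i _
  unfold blk
  by_cases h1 : rks k i = k.val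
  · rw [if_pos h1]
    by_cases h2 : rks k (rv i) = k.val
    · rw [if_pos h2]
    · rw [if_neg h2]
      have h3 := rks_rv_of_eq k h1
      rw [hsupp (rv i) (lt_of_le_of_ne h3 (fun e => h2 e.symm))]
  · rw [if_neg h1, zero_mul]
    rcases lt_or_gt_of_ne h1 with h | h
    · rw [hsupp (rv i) (rks_rv_of_lt k h), map_zero, mul_zero]
    · rw [hsupp i h, zero_mul]

theorem blk_apply_of_eq (k : Fin (n / 2)) (v : Fin n → F) {z : Fin n} (h : rks k z = k.val) :
    blk k v z = v z := if_pos h

theorem blk_apply_of_ne (k : Fin (n / 2)) (v : Fin n → F) {z : Fin n} (h : rks k z ≠ k.val) :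
    blk k v z = 0 := if_neg h

end Cfsg.Agent.Lib.helper14.UBN
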