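import Mathlib
import Cfsg.Agent.Lib.helper14.UBNd

/-!
Unipotent elements of the `k`-th rank one Levi block with prescribed column, and the double coset
computations `(B s B)(B n B) ⊆ B s n B ∪ B n B` for the unitary group.
-/

set_option autoImplicit false

namespace Cfsg.Agent.Lib.helper14.UBN

open Matrix

universe u
variable {F : Type u} [Field F] {n : ℕ} {S : SInv F}

/-- the hypotheses on a prescribed column of the block -/
structure IsCol (S : SInv F) (k : Fin (n / 2)) (w : Fin n → F) : Prop where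
  one : w (pc k) = 1
  supp : ∀ z, rks k z ≠ k.val → w z = 0
  iso : hJ S w w = 0

theorem sigma_eq_zero {x : F} (h : S.σ x = 0) : x = 0 := by
  have := congrArg S.σ h
  rwa [S.invol, map_zero] at this

theorem uPreA_aux (k : Fin (n / 2)) (h : pc k = rv (pa k)) (w : Fin n → F) (hw : IsCol S k w) :
    -(w (pa k)) + S.σ (-(w (pa k))) =
      hJ S (w - bV (pc k) - w (pa k) • bV (pa k)) (w - bV (pc k) - w (pa k) • bV (pa k)) := by
  have hac := pa_ne_pc k
  have hrc : rv (pc k) = pa k := by rw [h, rv_rv]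
  obtain ⟨wa, hwa⟩ : ∃ wa : F, wa = w (pa k) := ⟨_, rfl⟩
  obtain ⟨z, hz⟩ : ∃ z : Fin n → F, z = w - bV (pc k) - wa • bV (pa k) := ⟨_, rfl⟩
  rw [← hwa, ← hz]
  have hza : z (pa k) = 0 := by
    rw [hz, Pi.sub_apply, Pi.sub_apply, Pi.smul_apply, bV_apply, bV_apply, if_neg hac, if_pos rfl,
      smul_eq_mul, mul_one, sub_zero, hwa, sub_self]
  have hzc : z (pc k) = 0 := by
    rw [hz, Pi.sub_apply, Pi.sub_apply, Pi.smul_apply, bV_apply, bV_apply, if_pos rfl,
      if_neg hac.symm, smul_eq_mul, mul_zero, sub_zero, hw.one, sub_self]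
  have hw' : w = bV (pc k) + z + wa • bV (pa k) := by
    rw [hz]
    abel
  have hiso := hw.iso
  rw [hw'] at hiso
  have f1 : hJ S (bV (pc k) : Fin n → F) (bV (pc k)) = 0 := by
    rw [hJ_bV_bV, if_neg (rv_pc_ne k).symm]
  have f2 : hJ S (bV (pc k)) z = 0 := by rw [hJ_bV_left, hrc, hza, map_zero]
  have f3 : hJ S (bV (pc k) : Fin n → F) (bV (pa k)) = 1 := by rw [hJ_bV_bV, if_pos h]
  have f4 : hJ S z (bV (pc k)) = 0 := by rw [hJ_bV_right, hrc, hza]
  have f5 : hJ S z (bV (pa k)) = 0 := by rw [hJ_bV_right, ← h, hzc]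
  have f6 : hJ S (bV (pa k) : Fin n → F) (bV (pc k)) = 1 := by rw [hJ_bV_bV, if_pos hrc.symm]
  have f7 : hJ S (bV (pa k)) z = 0 := by rw [hJ_bV_left, ← h, hzc, map_zero]
  have f8 : hJ S (bV (pa k) : Fin n → F) (bV (pa k)) = 0 := by
    rw [hJ_bV_bV, if_neg (rv_pa_ne k).symm]
  simp only [hJ_add_left, hJ_add_right, hJ_smul_left, hJ_smul_right, f1, f2, f3, f4, f5, f6, f7,
    f8] at hiso
  rw [map_neg]
  linear_combination -hiso

/-- in the block of the last node, the block is stable under `rv` -/
theorem rks_rv_eq_of_last (k : Fin (n / 2)) (h : pc k = rv (pa k)) {x : Fin n}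
    (hx : rks k x = k.val) : rks k (rv x) = k.val := by
  rw [rks_eq_iff] at hx ⊢
  have h1 := rk_add_rv x
  have h2 := rk_add_rv (pa k)
  rw [← h, rk_pa] at h2
  have hk := k.2
  omega

/-- existence of a block unipotent element with prescribed column -/
theorem exists_uPre (k : Fin (n / 2)) (w : Fin n → F) (hw : IsCol S k w) :
    ∃ E : ↥(GJ n S), IsUk k (mt E) ∧ mt E *ᵥ bV (pc k) = w ∧
      (∀ r : Fin n → F, (∀ x, k.val ≤ rks k x → r x = 0) → mt E *ᵥ r = r) ∧
      ∀ x, mt E x x = 1 := by
  have hac := pa_ne_pc k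
  have hk := k.2
  by_cases h : pc k = rv (pa k)
  · -- the last node
    have hrc : rv (pc k) = pa k := by rw [h, rv_rv]
    obtain ⟨z, hz⟩ : ∃ z : Fin n → F, z = w - bV (pc k) - w (pa k) • bV (pa k) := ⟨_, rfl⟩
    have hza : z (pa k) = 0 := by
      rw [hz, Pi.sub_apply, Pi.sub_apply, Pi.smul_apply, bV_apply, bV_apply, if_neg hac,
        if_pos rfl, smul_eq_mul, mul_one, sub_zero, sub_self]
    have hzc : z (pc k) = 0 := by
      rw [hz, Pi.sub_apply, Pi.sub_apply, Pi.smul_apply, bV_apply, bV_apply, if_pos rfl,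
        if_neg hac.symm, smul_eq_mul, mul_zero, sub_zero, hw.one, sub_self]
    have hzs : ∀ x, rks k x ≠ k.val → z x = 0 := by
      intro x hx
      have h1 : x ≠ pc k := fun e => hx (e ▸ rks_pc k)
      have h2 : x ≠ pa k := fun e => hx (e ▸ rks_pa k)
      rw [hz, Pi.sub_apply, Pi.sub_apply, Pi.smul_apply, bV_apply, bV_apply, if_neg h1, if_neg h2,
        hw.supp x hx, smul_eq_mul, mul_zero, sub_zero, sub_zero]
    have hzp : z (rv (pa k)) = 0 := by rw [← h, hzc]
    have hβ : -(w (pa k)) + S.σ (-(w (pa k))) = hJ S z z := by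
      rw [hz]
      exact uPreA_aux k h w hw
    refine ⟨eichG (pa k) z (-(w (pa k))) (rv_pa_ne k) hzp hβ, ?_, ?_, ?_,
      fun x => eichG_diag _ _ _ _ _ _ x⟩
    · -- support
      intro x y hne
      by_cases hxy : x = y
      · exact Or.inl hxy
      right
      rw [eichG_apply, if_neg hxy, zero_add] at hne
      by_cases hx : x = pa k
      · -- row `a`
        have hy : rks k y = k.val := by
          by_contra hy
          apply hne
          have hy1 : y ≠ rv (pa k) := by
            intro e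
            apply hy
            rw [e, ← h]
            exact rks_pc k
          have hy2 : rks k (rv y) ≠ k.val := by
            intro e
            apply hy
            have := rks_rv_eq_of_last k h e
            rwa [rv_rv] at this
          rw [if_neg hy1, mul_zero, zero_sub, mul_zero, add_zero, hzs _ hy2, map_zero, mul_zero,
            neg_zero]
        refine ⟨?_, Or.inl ⟨hx ▸ rks_pa k, hy⟩⟩
        rw [hx, rk_pa]
        have h1 := (rks_eq_iff k y).1 hy
        have h2 : rk y ≠ k.val := by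
          intro e
          apply hxy
          rw [hx]
          exact (eq_pa_of_rk e).symm
        omega
      · -- column `c`
        rw [if_neg hx, zero_mul, sub_zero] at hne
        have hy : y = rv (pa k) := by
          by_contra hy
          apply hne
          rw [if_neg hy, mul_zero]
        have hzx : z x ≠ 0 := by
          intro e
          apply hne
          rw [e, zero_mul]
        have hxb : rks k x = k.val := by
          by_contra e
          exact hzx (hzs x e)
        rw [hy, ← h]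
        refine ⟨?_, Or.inl ⟨hxb, rks_pc k⟩⟩
        have h1 := (rks_eq_iff k x).1 hxb
        have h2 : rk x ≠ rk (pc k) := by
          intro e
          apply hzx
          rw [rk_injective e, hzc]
        omega
    · -- column
      have e1 : mt (eichG (pa k) z (-(w (pa k))) (rv_pa_ne k) hzp hβ) *ᵥ bV (pc k) =
          mt (eichG (pa k) z (-(w (pa k))) (rv_pa_ne k) hzp hβ) *ᵥ bV (rv (pa k)) := by
        rw [h]
      rw [e1, eichG_col, hza, map_zero, zero_add, ← h, hz]
      simp only [neg_smul]
      abel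
    · -- fixed vectors
      intro r hr
      apply eichG_fix
      · apply hr
        rw [← h, rks_pc]
      · apply hJ_eq_zero_of_supp
        intro i
        by_cases hi : k.val ≤ rks k i
        · exact Or.inl (hr i hi)
        · right
          have h1 := rks_rv_of_lt k (not_le.1 hi)
          exact hzs _ (fun e => by omega)
  · -- the other nodes
    have hrc : rv (pc k) ≠ pa k := fun e => h (by rw [← e, rv_rv])
    obtain ⟨z, hz⟩ : ∃ z : Fin n → F, z = (-(S.σ (w (pa k)))) • bV (rv (pc k)) := ⟨_, rfl⟩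
    have hzx : ∀ x, x ≠ rv (pc k) → z x = 0 := by
      intro x hx
      rw [hz, Pi.smul_apply, bV_apply, if_neg hx, smul_zero]
    have hzp : z (rv (pa k)) = 0 := hzx _ (fun e => hac (rv_inj e))
    have hβ : (0 : F) + S.σ 0 = hJ S z z := by
      rw [hz, hJ_smul_left, hJ_smul_right, hJ_bV_bV, rv_rv, if_neg (rv_pc_ne k), mul_zero,
        mul_zero, map_zero, add_zero]
    have hblock : ∀ x, rks k x = k.val → x = pa k ∨ x = pc k := by
      intro x hx
      rw [rks_eq_iff] at hx
      rcases pc_cases k with ⟨_, h6⟩ | ⟨_, h6, _⟩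
      · by_cases e : rk x = k.val
        · exact Or.inl (eq_pa_of_rk e)
        · right
          apply rk_injective
          omega
      · exact absurd h6 h
    refine ⟨eichG (pa k) z 0 (rv_pa_ne k) hzp hβ, ?_, ?_, ?_,
      fun x => eichG_diag _ _ _ _ _ _ x⟩
    · -- support
      intro x y hne
      by_cases hxy : x = y
      · exact Or.inl hxy
      right
      rw [eichG_apply, if_neg hxy, zero_add, zero_mul, add_zero] at hne
      by_cases hx : x = pa k
      · -- row `a`: `y = c`
        have hy : y = pc k := by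
          by_contra hy
          apply hne
          have hy1 : rv y ≠ rv (pc k) := fun e => hy (rv_inj e)
          rw [hzx _ hy1, map_zero, mul_zero, sub_zero]
          by_cases e : x = rv (pc k)
          · rw [hx] at e
            exact absurd e.symm hrc
          · rw [hzx _ e, zero_mul]
        rw [hx, hy]
        exact ⟨rk_pa_lt_pc k, Or.inl ⟨rks_pa k, rks_pc k⟩⟩
      · -- column `rv a`, row `rv c`
        rw [if_neg hx, zero_mul, sub_zero] at hne
        have hy : y = rv (pa k) := by
          by_contra hy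
          apply hne
          rw [if_neg hy, mul_zero]
        have hx' : x = rv (pc k) := by
          by_contra e
          apply hne
          rw [hzx _ e, zero_mul]
        rw [hx', hy]
        refine ⟨(rk_rv_lt_iff _ _).2 (rk_pa_lt_pc k), Or.inr ?_⟩
        rw [rv_rv, rv_rv]
        exact ⟨rks_pc k, rks_pa k⟩
    · -- column
      rw [eichG_col_ne _ _ _ _ _ _ _ h, hz, Pi.smul_apply, bV_apply, if_pos rfl, smul_eq_mul,
        mul_one, map_neg, S.invol]
      ext x
      rw [Pi.sub_apply, Pi.smul_apply, bV_apply, bV_apply, smul_eq_mul]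
      by_cases hx1 : x = pc k
      · rw [if_pos hx1, if_neg (fun e : x = pa k => hac (e.symm.trans hx1)), mul_zero, sub_zero,
          hx1, hw.one]
      · rw [if_neg hx1, zero_sub]
        by_cases hx2 : x = pa k
        · rw [if_pos hx2, mul_one, neg_neg, hx2]
        · rw [if_neg hx2, mul_zero, neg_zero]
          symm
          apply hw.supp
          intro e
          rcases hblock x e with e' | e'
          · exact hx2 e'
          · exact hx1 e'
    · -- fixed vectors
      intro r hr
      apply eichG_fix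
      · apply hr
        have := rks_rv_of_eq k (rks_pa k)
        exact this
      · apply hJ_eq_zero_of_supp
        intro i
        by_cases hi : k.val ≤ rks k i
        · exact Or.inl (hr i hi)
        · right
          apply hzx
          intro e
          have := rv_inj e
          rw [this, rks_pc] at hi
          exact hi (le_refl _)

/-- conjugation by a simple reflection permutes the entries -/
theorem sRef_conj_apply (k : Fin (n / 2)) (M : Matrix (Fin n) (Fin n) F) (x y : Fin n) :
    (mt (sRef (S := S) k) * M * mt (sRef (S := S) k)) x y = M (tauS k x) (tauS k y) := by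
  rw [mul_mono_apply (isMono_sRef k), mono_mul_apply (isMono_sRef k), tauS_symm]
  have h1 : mt (sRef (S := S) k) x (tauS k x) = 1 := by
    show mt (monoU (tauS k) (RvC_tauS k)) x (tauS k x) = 1
    rw [monoU_apply, tauS_tauS, if_pos rfl]
  have h2 : mt (sRef (S := S) k) (tauS k y) y = 1 := by
    show mt (monoU (tauS k) (RvC_tauS k)) (tauS k y) y = 1
    rw [monoU_apply, if_pos rfl]
  rw [h1, h2, one_mul, mul_one]

/-- an upper triangular matrix whose column `c` is reduced in the block is conjugated into the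
upper triangular group by the simple reflection -/
theorem sRef_conj_mem (k : Fin (n / 2)) (b : ↥(GJ n S)) (hb : b ∈ BU n S)
    (hcol : ∀ z, rks k z = k.val → z ≠ pc k → mt b z (pc k) = 0) :
    sRef k * b * (sRef k)⁻¹ ∈ BU n S := by
  apply lemmaK k
  · rw [mt_mul, mt_mul, sRef_inv]
    exact ((pk_sRef k).mul (pk_of_up k hb)).mul (pk_sRef k)
  · intro z hz hza
    rw [mt_mul, mt_mul, sRef_inv, sRef_conj_apply, tauS_pa]
    apply hcol
    · rw [rks_tauS, hz]
    · intro e
      apply hza
      have := congrArg (tauS k) e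
      rwa [tauS_tauS, tauS_pc] at this

/-- case (P1): when the root stays positive, `s b n ∈ B s n B` -/
theorem bn_P1 (k : Fin (n / 2)) (m : ↥(GJ n S)) {π : Equiv.Perm (Fin n)} (hπ : RvC π)
    (hm : IsMono (mt m) π) (hpos : rk (π.symm (pa k)) < rk (π.symm (pc k)))
    (b : ↥(GJ n S)) (hb : b ∈ BU n S) :
    ∃ b1 ∈ BU n S, ∃ b2 ∈ BU n S, sRef k * b * m = b1 * (sRef k * m) * b2 := by
  have hbi : b⁻¹ ∈ BU n S := (BU n S).inv_mem hb
  have hvc : mt b⁻¹ (pc k) (pc k) ≠ 0 := up_diag_ne_zero _ hbi _
  obtain ⟨v, hv⟩ : ∃ v : Fin n → F, v = mt b⁻¹ *ᵥ bV (pc k) := ⟨_, rfl⟩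
  have hvz : ∀ z, v z = mt b⁻¹ z (pc k) := fun z => by rw [hv, mulVec_bV]
  have hvv : hJ S v v = 0 := by
    rw [hv, mt_form, hJ_bV_bV, if_neg (rv_pc_ne k).symm]
  have hvs : ∀ z, k.val < rks k z → v z = 0 := by
    intro z hz
    rw [hvz]
    apply pk_of_up k hbi
    rw [rks_pc]
    exact hz
  set w : Fin n → F := (mt b⁻¹ (pc k) (pc k))⁻¹ • blk k v with hw
  have hcolw : IsCol S k w := by
    refine ⟨?_, ?_, ?_⟩
    · rw [hw, Pi.smul_apply, blk_apply_of_eq k v (rks_pc k), hvz, smul_eq_mul,
        inv_mul_cancel₀ hvc]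
    · intro z hz
      rw [hw, Pi.smul_apply, blk_apply_of_ne k v hz, smul_zero]
    · rw [hw, hJ_smul_left, hJ_smul_right, blk_iso k v hvv hvs, mul_zero, mul_zero]
  obtain ⟨E, hE1, hE2, hE3⟩ := exists_uPre k w hcolw
  have hEB : E ∈ BU n S := up_of_isUk k E hE1
  have hb' : b * E ∈ BU n S := (BU n S).mul_mem hb hEB
  have hcol : ∀ z, rks k z = k.val → z ≠ pc k → mt (b * E) z (pc k) = 0 := by
    intro z hz hzc
    rw [← mulVec_bV (mt (b * E)) (pc k) z, mt_mul_mulVec, hE2]
    show ∑ y, mt b z y * w y = 0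
    have h1 : ∀ y, mt b z y * w y = (mt b⁻¹ (pc k) (pc k))⁻¹ * (mt b z y * mt b⁻¹ y (pc k)) := by
      intro y
      rw [hw, Pi.smul_apply, smul_eq_mul]
      by_cases hy : rks k y = k.val
      · rw [blk_apply_of_eq k v hy, hvz]
        ring
      · rw [blk_apply_of_ne k v hy, mul_zero, mul_zero]
        rcases lt_or_gt_of_ne hy with h | h
        · have : mt b z y = 0 := by
            apply pk_of_up k hb
            rw [hz]
            exact h
          rw [this, zero_mul, mul_zero]
        · have : mt b⁻¹ y (pc k) = 0 := by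
            apply pk_of_up k hbi
            rw [rks_pc]
            exact h
          rw [this, mul_zero, mul_zero]
    simp_rw [h1]
    rw [← Finset.mul_sum, ← Matrix.mul_apply, mul_inv_apply, if_neg hzc, mul_zero]
  refine ⟨sRef k * (b * E) * (sRef k)⁻¹, sRef_conj_mem k _ hb' hcol, m⁻¹ * E⁻¹ * m, ?_, ?_⟩
  · have h1 := conj_isUk_mem k E m hE1 hπ hm hpos
    have h2 := (BU n S).inv_mem h1
    have e : (m⁻¹ * E * m)⁻¹ = m⁻¹ * E⁻¹ * m := by group
    rwa [e] at h2
  · group

/-- if the `(a,c)` entry of an upper triangular unitary matrix vanishes then its column `c` is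
reduced in the block -/
theorem col_reduced (k : Fin (n / 2)) (b : ↥(GJ n S)) (hb : b ∈ BU n S)
    (hac : mt b (pa k) (pc k) = 0) :
    ∀ z, rks k z = k.val → z ≠ pc k → mt b z (pc k) = 0 := by
  intro z hz hzc
  by_cases hza : z = pa k
  · rw [hza]
    exact hac
  have hk := k.2
  have hz' := (rks_eq_iff k z).1 hz
  have h1 : rk z ≠ k.val := fun e => hza (eq_pa_of_rk e)
  have h2 : rk z ≠ rk (pc k) := fun e => hzc (rk_injective e)
  rcases pc_cases k with ⟨_, h6⟩ | ⟨h5, h6, h7⟩
  · omega
  have hrz : rv z = z := by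
    apply rk_injective
    have := rk_add_rv z
    omega
  have hblock : ∀ i, rks k i = k.val → i ≠ z → i = pa k ∨ i = pc k := by
    intro i hi hiz
    rw [rks_eq_iff] at hi
    have h3 : rk i ≠ rk z := fun e => hiz (rk_injective e)
    by_cases e : rk i = k.val
    · exact Or.inl (eq_pa_of_rk e)
    · right
      apply rk_injective
      omega
  obtain ⟨v, hv⟩ : ∃ v : Fin n → F, v = mt b *ᵥ bV (pc k) := ⟨_, rfl⟩
  have hvz : ∀ y, v y = mt b y (pc k) := fun y => by rw [hv, mulVec_bV]
  have hvv : hJ S v v = 0 := by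
    rw [hv, mt_form, hJ_bV_bV, if_neg (rv_pc_ne k).symm]
  have hvs : ∀ y, k.val < rks k y → v y = 0 := by
    intro y hy
    rw [hvz]
    apply pk_of_up k hb
    rw [rks_pc]
    exact hy
  have hiso := blk_iso k v hvv hvs
  unfold hJ at hiso
  rw [Finset.sum_eq_single z] at hiso
  · rw [hrz, blk_apply_of_eq k v hz, hvz] at hiso
    rcases mul_eq_zero.mp hiso with e | e
    · exact e
    · exact sigma_eq_zero e
  · intro i _ hiz
    by_cases hi : rks k i = k.val
    · rcases hblock i hi hiz with e | e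
      · rw [e, blk_apply_of_eq k v (rks_pa k), hvz, hac, zero_mul]
      · have : rv i = pa k := by rw [e, h6, rv_rv]
        rw [this, blk_apply_of_eq k v (rks_pa k), hvz, hac, map_zero, mul_zero]
    · rw [blk_apply_of_ne k v hi, zero_mul]
  · intro h
    exact absurd (Finset.mem_univ _) h

/-- case (B): when the root becomes negative, `s b n ∈ B s n B ∪ B n B` -/
theorem bn_caseB (k : Fin (n / 2)) (m : ↥(GJ n S)) {π : Equiv.Perm (Fin n)} (hπ : RvC π)
    (hm : IsMono (mt m) π) (hneg : rk (π.symm (pc k)) < rk (π.symm (pa k)))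
    (b : ↥(GJ n S)) (hb : b ∈ BU n S) (hac : mt b (pa k) (pc k) ≠ 0) :
    ∃ b1 ∈ BU n S, ∃ b2 ∈ BU n S, sRef k * b * m = b1 * m * b2 := by
  set s : ↥(GJ n S) := sRef k with hs
  set g0 : ↥(GJ n S) := s * b * s⁻¹ with hg0
  have hss : s * s = 1 := sRef_mul_self k
  have hsi : s⁻¹ = s := sRef_inv k
  have hg0e : ∀ x y, mt g0 x y = mt b (tauS k x) (tauS k y) := by
    intro x y
    rw [hg0, mt_mul, mt_mul, hsi, hs, sRef_conj_apply]
  have hg0pk : (mt g0).BlockTriangular (rks k) := by
    rw [hg0, mt_mul, mt_mul, hsi]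
    exact ((pk_sRef k).mul (pk_of_up k hb)).mul (pk_sRef k)
  have hca : mt g0 (pc k) (pa k) ≠ 0 := by
    rw [hg0e, tauS_pc, tauS_pa]
    exact hac
  obtain ⟨v, hv⟩ : ∃ v : Fin n → F, v = mt g0 *ᵥ bV (pa k) := ⟨_, rfl⟩
  have hvz : ∀ z, v z = mt g0 z (pa k) := fun z => by rw [hv, mulVec_bV]
  have hvv : hJ S v v = 0 := by
    rw [hv, mt_form, hJ_bV_bV, if_neg (rv_pa_ne k).symm]
  have hvs : ∀ z, k.val < rks k z → v z = 0 := by
    intro z hz
    rw [hvz]
    apply hg0pk
    rw [rks_pa]
    exact hz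
  set w : Fin n → F := (mt g0 (pc k) (pa k))⁻¹ • blk k v with hw
  have hcolw : IsCol S k w := by
    refine ⟨?_, ?_, ?_⟩
    · rw [hw, Pi.smul_apply, blk_apply_of_eq k v (rks_pc k), hvz, smul_eq_mul,
        inv_mul_cancel₀ hca]
    · intro z hz
      rw [hw, Pi.smul_apply, blk_apply_of_ne k v hz, smul_zero]
    · rw [hw, hJ_smul_left, hJ_smul_right, blk_iso k v hvv hvs, mul_zero, mul_zero]
  obtain ⟨E, hE1, hE2, hE3⟩ := exists_uPre k w hcolw
  have hEB : E ∈ BU n S := up_of_isUk k E hE1
  -- the part of `v` above the block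
  set r : Fin n → F := fun z => if rks k z = k.val then 0 else v z with hr
  have hr0 : ∀ x, k.val ≤ rks k x → r x = 0 := by
    intro x hx
    rw [hr]
    show (if rks k x = k.val then 0 else v x) = 0
    by_cases e : rks k x = k.val
    · rw [if_pos e]
    · rw [if_neg e]
      exact hvs x (lt_of_le_of_ne hx (fun e' => e e'.symm))
  have hvdec : v = mt g0 (pc k) (pa k) • w + r := by
    ext z
    rw [Pi.add_apply, Pi.smul_apply, hw, Pi.smul_apply, smul_eq_mul, smul_eq_mul, ← mul_assoc,
      mul_inv_cancel₀ hca, one_mul, hr]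
    show v z = blk k v z + (if rks k z = k.val then 0 else v z)
    by_cases e : rks k z = k.val
    · rw [blk_apply_of_eq k v e, if_pos e, add_zero]
    · rw [blk_apply_of_ne k v e, if_neg e, zero_add]
  have hEiw : mt E⁻¹ *ᵥ w = bV (pc k) := by
    rw [← hE2, mt_inv_mulVec]
  have hEir : mt E⁻¹ *ᵥ r = r := by
    have := hE3.1 r hr0
    conv_lhs => rw [← this]
    rw [mt_inv_mulVec]
  have hsr : mt s *ᵥ r = r := by
    ext x
    rw [hs, sRef_mulVec]
    by_cases hx : k.val ≤ rks k x
    · rw [hr0 x hx, hr0 _ (by rw [rks_tauS]; exact hx)]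
    · have h1 := rks_rv_of_lt k (not_le.1 hx)
      rw [tauS_of_rks_ne k (fun e => hx e.ge) (fun e => by omega)]
  set g : ↥(GJ n S) := E⁻¹ * g0 with hg
  have hgcol : mt (s⁻¹ * g) *ᵥ bV (pa k) = mt g0 (pc k) (pa k) • bV (pa k) + r := by
    rw [mt_mul_mulVec, hg, mt_mul_mulVec, ← hv, hvdec, Matrix.mulVec_add, Matrix.mulVec_smul,
      hEiw, hEir, hsi, Matrix.mulVec_add, Matrix.mulVec_smul, hsr, hs, sRef_mulVec_bV, tauS_pc]
  have hw' : s⁻¹ * g ∈ BU n S := by
    apply lemmaK k
    · rw [mt_mul, hg, mt_mul, hsi]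
      exact (pk_sRef k).mul ((pk_of_up k ((BU n S).inv_mem hEB)).mul hg0pk)
    · intro z hz hza
      rw [← mulVec_bV (mt (s⁻¹ * g)) (pa k) z, hgcol, Pi.add_apply, Pi.smul_apply, bV_apply,
        if_neg hza, smul_zero, zero_add]
      exact hr0 z hz.ge
  -- apply (P1) to `s * m`
  have hmono : IsMono (mt (s * m)) (tauS k * π) := by
    rw [mt_mul]
    exact isMono_mul (isMono_sRef k) hm
  have hpos' : rk ((tauS k * π).symm (pa k)) < rk ((tauS k * π).symm (pc k)) := by
    have e1 : (tauS k * π).symm (pa k) = π.symm (pc k) := by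
      show π.symm ((tauS k).symm (pa k)) = _
      rw [tauS_symm, tauS_pa]
    have e2 : (tauS k * π).symm (pc k) = π.symm (pa k) := by
      show π.symm ((tauS k).symm (pc k)) = _
      rw [tauS_symm, tauS_pc]
    rw [e1, e2]
    exact hneg
  obtain ⟨b1, hb1, b2, hb2, e⟩ := bn_P1 k (s * m) (RvC_mul (RvC_tauS k) hπ) hmono hpos'
    (s⁻¹ * g) hw'
  rw [← hs] at e
  have hssm : s * (s * m) = m := by rw [← mul_assoc, hss, one_mul]
  rw [hssm] at e
  refine ⟨E * b1, (BU n S).mul_mem hEB hb1, b2, hb2, ?_⟩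
  have e' : s * b * m = E * (s * (s⁻¹ * g) * (s * m)) := by
    rw [hg, hg0]
    group
  rw [e', e]
  group

end Cfsg.Agent.Lib.helper14.UBN
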