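import Mathlib
import Cfsg.Agent.Lib.helper14.UBNe

/-!
Generation of the monomial group of the unitary group by the simple reflections modulo the torus.
-/

set_option autoImplicit false

namespace Cfsg.Agent.Lib.helper14.UBN

open Matrix

universe u
variable {F : Type u} [Field F] {n : ℕ} {S : SInv F}

/-- potential function on permutations -/
def gphi (π : Equiv.Perm (Fin n)) : ℤ :=
  ∑ y : Fin n, (rk y : ℤ) * (rk (π.symm y) : ℤ)

/-- upper bound of the potential -/
def gbound (n : ℕ) : ℤ := ∑ y : Fin n, (rk y : ℤ) * (n : ℤ)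

theorem gphi_le (π : Equiv.Perm (Fin n)) : gphi π ≤ gbound n := by
  unfold gphi gbound
  apply Finset.sum_le_sum
  intro y _
  apply mul_le_mul_of_nonneg_left _ (Int.natCast_nonneg _)
  have := rk_lt (π.symm y)
  omega

/-- the difference `rk (τ y) - rk y` as a combination of indicator functions -/
theorem rk_tauS_sub (k : Fin (n / 2)) (y : Fin n) :
    (rk (tauS k y) : ℤ) - rk y =
      ((rk (pc k) : ℤ) - rk (pa k)) *
        ((if y = pa k then 1 else 0) - (if y = pc k then 1 else 0) +
          (if pc k = rv (pa k) then 0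
            else (if y = rv (pc k) then 1 else 0) - (if y = rv (pa k) then 1 else 0))) := by
  have hac := pa_ne_pc k
  have ha := rv_pa_ne k
  have hc := rv_pc_ne k
  have hk := k.2
  have e1 := rk_add_rv (pa k)
  have e2 := rk_add_rv (pc k)
  have e3 := rk_pa_lt_pc k
  have e4 := rk_lt (pc k)
  rw [tauS_apply]
  by_cases h1 : y = pa k
  · rw [h1, tauF_left, if_pos rfl, if_neg hac]
    by_cases hc' : pc k = rv (pa k)
    · rw [if_pos hc']; ring
    · have g1 : pa k ≠ rv (pc k) := fun e => hc' (by rw [e, rv_rv])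
      rw [if_neg hc', if_neg g1, if_neg ha.symm]; ring
  by_cases h2 : y = pc k
  · rw [h2, tauF_right hac, if_neg hac.symm, if_pos rfl]
    by_cases hc' : pc k = rv (pa k)
    · rw [if_pos hc']; ring
    · rw [if_neg hc', if_neg hc.symm, if_neg hc']; ring
  by_cases h3 : y = rv (pa k)
  · have hc' : pc k ≠ rv (pa k) := fun e => h2 (by rw [h3, e])
    have g1 : rv (pa k) ≠ rv (pc k) := fun e => hac (rv_inj e)
    rw [h3, tauF_rv_left ha hc', if_neg ha, if_neg hc'.symm, if_neg hc', if_neg g1, if_pos rfl]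
    have : (rk (rv (pc k)) : ℤ) - rk (rv (pa k)) = -((rk (pc k) : ℤ) - rk (pa k)) := by omega
    linarith
  by_cases h4 : y = rv (pc k)
  · have hc' : pc k ≠ rv (pa k) := fun e => h1 (by rw [h4, e, rv_rv])
    have g1 : rv (pc k) ≠ rv (pa k) := fun e => hac (rv_inj e).symm
    have g2 : rv (pc k) ≠ pa k := fun e => hc' (by rw [← e, rv_rv])
    rw [h4, tauF_rv_right hac hc hc', if_neg g2, if_neg hc, if_neg hc', if_pos rfl, if_neg g1]
    have : (rk (rv (pa k)) : ℤ) - rk (rv (pc k)) = (rk (pc k) : ℤ) - rk (pa k) := by omega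
    linarith
  rw [tauF_of_ne h1 h2 h3 h4, if_neg h1, if_neg h2, if_neg h4, if_neg h3]
  split_ifs <;> ring

theorem gphi_tauS_mul (k : Fin (n / 2)) (π : Equiv.Perm (Fin n)) :
    gphi (tauS k * π) = ∑ y : Fin n, (rk (tauS k y) : ℤ) * (rk (π.symm y) : ℤ) := by
  unfold gphi
  rw [← Equiv.sum_comp (tauS k) (fun y => (rk (tauS k y) : ℤ) * (rk (π.symm y) : ℤ))]
  apply Finset.sum_congr rfl
  intro y _
  have e1 : tauS k (tauS k y) = y := tauS_tauS k y
  have e2 : (tauS k * π).symm y = π.symm (tauS k y) := rfl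
  rw [e1, e2]

theorem gphi_lt (k : Fin (n / 2)) (π : Equiv.Perm (Fin n)) (hπ : RvC π)
    (hneg : rk (π.symm (pc k)) < rk (π.symm (pa k))) : gphi π < gphi (tauS k * π) := by
  have hdiff : gphi (tauS k * π) - gphi π =
      ∑ y : Fin n, ((rk (tauS k y) : ℤ) - rk y) * (rk (π.symm y) : ℤ) := by
    rw [gphi_tauS_mul]
    unfold gphi
    rw [← Finset.sum_sub_distrib]
    apply Finset.sum_congr rfl
    intro y _
    ring
  have hsum : ∑ y : Fin n, ((rk (tauS k y) : ℤ) - rk y) * (rk (π.symm y) : ℤ) =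
      ((rk (pc k) : ℤ) - rk (pa k)) * ((rk (π.symm (pa k)) : ℤ) - rk (π.symm (pc k)) +
        (if pc k = rv (pa k) then 0
          else (rk (π.symm (rv (pc k))) : ℤ) - rk (π.symm (rv (pa k))))) := by
    simp_rw [rk_tauS_sub, mul_assoc]
    rw [← Finset.mul_sum]
    congr 1
    by_cases hc : pc k = rv (pa k)
    · simp only [if_pos hc, add_zero, sub_mul, ite_mul, one_mul, zero_mul,
        Finset.sum_sub_distrib, Finset.sum_ite_eq', Finset.mem_univ, if_true]
    · simp only [if_neg hc, add_mul, sub_mul, ite_mul, one_mul, zero_mul,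
        Finset.sum_add_distrib, Finset.sum_sub_distrib, Finset.sum_ite_eq', Finset.mem_univ, if_true]
  have h1 := rk_add_rv (π.symm (pa k))
  have h2 := rk_add_rv (π.symm (pc k))
  have h3 : π.symm (rv (pa k)) = rv (π.symm (pa k)) := RvC_symm hπ _
  have h4 : π.symm (rv (pc k)) = rv (π.symm (pc k)) := RvC_symm hπ _
  have h5 := rk_pa_lt_pc k
  have hpos : 0 < gphi (tauS k * π) - gphi π := by
    rw [hdiff, hsum, h3, h4]
    apply mul_pos
    · omega
    · split_ifs
      · omega
      · omega
  omega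

/-- the set of simple reflections -/
def SSet (n : ℕ) (S : SInv F) : Set ↥(GJ n S) :=
  Set.range (fun k : Fin (n / 2) => sRef (S := S) k)

theorem sRef_mem_SSet (k : Fin (n / 2)) : sRef (S := S) k ∈ SSet n S := ⟨k, rfl⟩

theorem SSet_subset_NU : SSet n S ⊆ (NU n S : Set ↥(GJ n S)) := by
  rintro _ ⟨k, rfl⟩
  exact sRef_mem_NU k

theorem mono_mem_closure_aux : ∀ d : ℕ, ∀ (m : ↥(GJ n S)) (π : Equiv.Perm (Fin n)), RvC π →
    IsMono (mt m) π → (gbound n - gphi π).toNat < d →
    m ∈ Subgroup.closure (SSet n S) ⊔ (BU n S ⊓ NU n S) := by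
  intro d
  induction d with
  | zero => intro m π _ _ h; exact absurd h (Nat.not_lt_zero _)
  | succ d ih =>
    intro m π hπ hm hd
    by_cases hall : ∀ k : Fin (n / 2), rk (π.symm (pa k)) < rk (π.symm (pc k))
    · have h1 : π.symm = 1 := perm_eq_one_of_simple π.symm (RvC_inv hπ) hall
      have h2 : π = 1 := by
        have := congrArg Equiv.symm h1
        rwa [Equiv.symm_symm] at this
      rw [h2] at hm
      exact Subgroup.mem_sup_right ((mem_TU_iff m).2 hm)
    · push_neg at hall
      obtain ⟨k, hk⟩ := hall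
      have hne : rk (π.symm (pc k)) ≠ rk (π.symm (pa k)) := by
        intro e
        exact pa_ne_pc k (π.symm.injective (rk_injective e)).symm
      have hneg : rk (π.symm (pc k)) < rk (π.symm (pa k)) := lt_of_le_of_ne hk hne
      have hlt := gphi_lt k π hπ hneg
      have hle := gphi_le (tauS k * π)
      have hmono : IsMono (mt (sRef (S := S) k * m)) (tauS k * π) := by
        rw [mt_mul]
        exact isMono_mul (isMono_sRef k) hm
      have hmeas : (gbound n - gphi (tauS k * π)).toNat < d := by omega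
      have h3 := ih (sRef k * m) (tauS k * π) (RvC_mul (RvC_tauS k) hπ) hmono hmeas
      have h4 : sRef (S := S) k ∈ Subgroup.closure (SSet n S) ⊔ (BU n S ⊓ NU n S) :=
        Subgroup.mem_sup_left (Subgroup.subset_closure (sRef_mem_SSet k))
      have e : m = (sRef (S := S) k)⁻¹ * (sRef k * m) := by group
      rw [e]
      exact Subgroup.mul_mem _ (Subgroup.inv_mem _ h4) h3

theorem closure_SSet_sup : Subgroup.closure (SSet n S) ⊔ (BU n S ⊓ NU n S) = NU n S := by
  apply le_antisymm
  · apply sup_le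
    · rw [Subgroup.closure_le]
      exact SSet_subset_NU
    · exact inf_le_right
  · rintro m ⟨π, hπ, hm⟩
    exact mono_mem_closure_aux _ m π hπ hm (Nat.lt_succ_self _)

end Cfsg.Agent.Lib.helper14.UBN
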