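import Mathlib
import Cfsg.Prelude.Def_GeometricClasses
import Cfsg.Prelude.Def_LieClassical
import Cfsg.Agent.Lib.Lead.SPU.Defs
import Cfsg.Agent.Lib.Helper19.SPD.Defs

/-!
# Project SGU (S5976, 3u; designer helper14): elements of prime order of `Sp_{2d}(q)`, `q` odd, and `H = N(K)` of type `GU_d(q).2`.
Definitions shared by all rows (no proofs).  `JS j c0` is lead's structure (`Cfsg.Agent.Lib.Lead.SPU.JS`); `Inv / Isom / Fx / Mv / FF / ND / cc`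
are helper19's (`Cfsg.Agent.Lib.Helper19.SPD`).
-/

set_option autoImplicit false

namespace Cfsg.Agent.Lib.helper14.SGU

variable {F : Type*} [Field F] {d : ℕ}

/-- the standard `j` : `(u¹, u²) ↦ (c0 u², u¹)`, `j0 * j0 = c0`. -/
def j0 (d : ℕ) (c0 : F) : Matrix (Fin d ⊕ Fin d) (Fin d ⊕ Fin d) F :=
  Matrix.fromBlocks 0 (c0 • (1 : Matrix (Fin d) (Fin d) F)) 1 0

/-- `g` normalises `F[j]` : it commutes or anticommutes with `j`. -/
def InN (j : Matrix (Fin d ⊕ Fin d) (Fin d ⊕ Fin d) F)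
    (g : Matrix.GeneralLinearGroup (Fin d ⊕ Fin d) F) : Prop :=
  (g : Matrix (Fin d ⊕ Fin d) (Fin d ⊕ Fin d) F) * j = j * (g : Matrix (Fin d ⊕ Fin d) (Fin d ⊕ Fin d) F) ∨
    (g : Matrix (Fin d ⊕ Fin d) (Fin d ⊕ Fin d) F) * j = -(j * (g : Matrix (Fin d ⊕ Fin d) (Fin d ⊕ Fin d) F))

/-- the quadratic extension `F[ω]`, `ω² = c0` (a field when `c0` is a non-square: instance under `Fact (∀ r, r ^ 2 ≠ c0 + 0 * r)`). -/
abbrev QK (c0 : F) : Type _ := QuadraticAlgebra F c0 0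

/-- restriction of scalars `M_d(F[ω]) → M_{2d}(F)`, `P + R ω ↦ [[P, c0 R], [R, P]]`. -/
def Phi (d : ℕ) (c0 : F) (M : Matrix (Fin d) (Fin d) (QK c0)) : Matrix (Fin d ⊕ Fin d) (Fin d ⊕ Fin d) F :=
  Matrix.fromBlocks (M.map QuadraticAlgebra.re) (c0 • M.map QuadraticAlgebra.im)
    (M.map QuadraticAlgebra.im) (M.map QuadraticAlgebra.re)

/-- `ι : K^d → F^{2d}`, `u¹ + u² ω ↦ (u¹, u²)`. -/
def iota (d : ℕ) (c0 : F) (u : Fin d → QK c0) : Fin d ⊕ Fin d → F :=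
  Sum.elim (fun k => (u k).re) (fun k => (u k).im)

/-- the order of `GU_d(q)` as in `Cfsg.Agent.S0277.result`. -/
def guOrd (q d : ℕ) : ℕ :=
  q ^ (d * (d - 1) / 2) * ∏ i ∈ Finset.range d, (if Even i then q ^ (i + 1) + 1 else q ^ (i + 1) - 1)

/-- the order of `Sp_{2d}(q)` as in `Cfsg.Agent.S0245.result`. -/
def spOrd (q d : ℕ) : ℕ :=
  q ^ (d ^ 2) * ∏ i ∈ Finset.range d, (q ^ (2 * (i + 1)) - 1)

end Cfsg.Agent.Lib.helper14.SGU
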