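import Mathlib

/-!
# Index arithmetic for the stabiliser of a polar pair in `SU_n(q)`
-/

set_option autoImplicit false

namespace Cfsg.Agent.Lib.helper14.UPolC

open Finset

/-- abstract divisibility: `K ≤ G`, `L ≤ H ⊓ G`, `[L : L ⊓ K] ∣ e` ⟹ `[K : H ⊓ K] · |L| ∣ |G| · e`. -/
theorem relIndex_mul_card_dvd {Γ : Type*} [Group Γ] [Finite Γ] (G K H L : Subgroup Γ) (hKG : K ≤ G)
    (hLH : L ≤ H) (e : ℕ) (he : K.relIndex L ∣ e) :
    H.relIndex K * Nat.card L ∣ Nat.card G * e := by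
  have h1 : Nat.card (H ⊓ K : Subgroup Γ) * H.relIndex K = Nat.card K := by
    have := Subgroup.relIndex_mul_relIndex (⊥ : Subgroup Γ) (H ⊓ K) K bot_le inf_le_right
    rwa [Subgroup.relIndex_bot_left, Subgroup.relIndex_bot_left, Subgroup.inf_relIndex_right] at this
  have h2 : Nat.card (K ⊓ L : Subgroup Γ) * K.relIndex L = Nat.card L := by
    have := Subgroup.relIndex_mul_relIndex (⊥ : Subgroup Γ) (K ⊓ L) L bot_le inf_le_right
    rwa [Subgroup.relIndex_bot_left, Subgroup.relIndex_bot_left, Subgroup.inf_relIndex_right] at this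
  have h3 : Nat.card (K ⊓ L : Subgroup Γ) ∣ Nat.card (H ⊓ K : Subgroup Γ) :=
    Subgroup.card_dvd_of_le (le_inf (inf_le_right.trans hLH) inf_le_left)
  have h4 : Nat.card K ∣ Nat.card G := Subgroup.card_dvd_of_le hKG
  rw [← h2]
  calc H.relIndex K * (Nat.card (K ⊓ L : Subgroup Γ) * K.relIndex L)
      = (Nat.card (K ⊓ L : Subgroup Γ) * H.relIndex K) * K.relIndex L := by ring
    _ ∣ (Nat.card (H ⊓ K : Subgroup Γ) * H.relIndex K) * e :=
        Nat.mul_dvd_mul (Nat.mul_dvd_mul_right h3 _) he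
    _ = Nat.card K * e := by rw [h1]
    _ ∣ Nat.card G * e := Nat.mul_dvd_mul_right h4 _

theorem prod_GU_split (q m : ℕ) :
    ∏ i ∈ range (2 * m), (if Even i then q ^ (i + 1) + 1 else q ^ (i + 1) - 1) =
      (∏ k ∈ range m, (q ^ (2 * k + 1) + 1)) * ∏ k ∈ range m, (q ^ (2 * k + 2) - 1) := by
  induction m with
  | zero => simp
  | succ m ih =>
    have e : 2 * (m + 1) = 2 * m + 1 + 1 := by ring
    rw [e, Finset.prod_range_succ, Finset.prod_range_succ, ih, Finset.prod_range_succ,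
      Finset.prod_range_succ]
    have h1 : Even (2 * m) := ⟨m, by ring⟩
    have h2 : ¬ Even (2 * m + 1) := by
      rw [Nat.not_even_iff_odd]
      exact ⟨m, rfl⟩
    rw [if_pos h1, if_neg h2]
    ring

theorem prod_GLsq (q m : ℕ) : ∏ i : Fin m, ((q ^ 2) ^ m - (q ^ 2) ^ (i : ℕ)) =
    (q ^ 2) ^ (∑ i ∈ range m, i) * ∏ k ∈ range m, (q ^ (2 * k + 2) - 1) := by
  have h1 : ∏ i : Fin m, ((q ^ 2) ^ m - (q ^ 2) ^ (i : ℕ)) = ∏ i ∈ range m, ((q ^ 2) ^ m - (q ^ 2) ^ i) :=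
    (Finset.prod_range (fun i => (q ^ 2) ^ m - (q ^ 2) ^ i)).symm
  have h2 : ∏ i ∈ range m, ((q ^ 2) ^ m - (q ^ 2) ^ i) =
      ∏ i ∈ range m, ((q ^ 2) ^ i * ((q ^ 2) ^ (m - i) - 1)) := by
    apply Finset.prod_congr rfl
    intro i hi
    rw [Finset.mem_range] at hi
    rw [Nat.mul_sub, mul_one, ← pow_add]
    congr 2
    omega
  have h3 : ∏ i ∈ range m, ((q ^ 2) ^ (m - i) - 1) = ∏ i ∈ range m, (q ^ (2 * i + 2) - 1) := by
    rw [← Finset.prod_range_reflect (fun i => q ^ (2 * i + 2) - 1) m]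
    apply Finset.prod_congr rfl
    intro i hi
    rw [Finset.mem_range] at hi
    rw [← pow_mul]
    congr 2
    omega
  rw [h1, h2, Finset.prod_mul_distrib, Finset.prod_pow_eq_pow_sum, h3]

/-- the arithmetic conclusion -/
theorem arith (q m r X a : ℕ) (hr : r.Prime) (hq : 2 ≤ q) (hrq : ¬ r ∣ q) (hrX : r ∣ X)
    (h : X * ∏ i : Fin m, ((q ^ 2) ^ m - (q ^ 2) ^ (i : ℕ)) ∣
      (q ^ a * ∏ i ∈ range (2 * m), (if Even i then q ^ (i + 1) + 1 else q ^ (i + 1) - 1)) * (q + 1)) :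
    r ∣ q + 1 ∨ ∃ k, k < m ∧ r ∣ q ^ (2 * k + 1) + 1 := by
  rw [prod_GU_split, prod_GLsq] at h
  set A := ∏ k ∈ range m, (q ^ (2 * k + 2) - 1) with hA
  set B := ∏ k ∈ range m, (q ^ (2 * k + 1) + 1) with hB
  have hApos : 0 < A := by
    apply Finset.prod_pos
    intro k _
    have : 2 ≤ q ^ (2 * k + 2) := by
      calc 2 ≤ q := hq
        _ = q ^ 1 := (pow_one q).symm
        _ ≤ q ^ (2 * k + 2) := Nat.pow_le_pow_right (by omega) (by omega)
    omega
  have h' : (X * (q ^ 2) ^ (∑ i ∈ range m, i)) * A ∣ (q ^ a * B * (q + 1)) * A := by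
    have e1 : X * ((q ^ 2) ^ (∑ i ∈ range m, i) * A) = (X * (q ^ 2) ^ (∑ i ∈ range m, i)) * A := by ring
    have e2 : q ^ a * (B * A) * (q + 1) = (q ^ a * B * (q + 1)) * A := by ring
    rw [← e1, ← e2]
    exact h
  have h'' := Nat.dvd_of_mul_dvd_mul_right hApos h'
  have h3 : r ∣ q ^ a * B * (q + 1) := dvd_trans (dvd_trans hrX (dvd_mul_right _ _)) h''
  rcases (Nat.Prime.dvd_mul hr).mp h3 with h4 | h4
  · rcases (Nat.Prime.dvd_mul hr).mp h4 with h5 | h5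
    · exact absurd (hr.dvd_of_dvd_pow h5) hrq
    · right
      obtain ⟨k, hk, hdk⟩ := (Prime.dvd_finset_prod_iff hr.prime _).mp h5
      exact ⟨k, Finset.mem_range.mp hk, hdk⟩
  · left
    exact h4

end Cfsg.Agent.Lib.helper14.UPolC
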