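import Mathlib
import Cfsg.Agent.Lib.helper14.SGUDefs
import Cfsg.Agent.Lib.helper6.Symp
import Cfsg.Agent.S5646

set_option autoImplicit false
set_option linter.unusedVariables false
set_option linter.unusedSectionVars false

namespace Cfsg.Agent.Lib.helper14.SGU

open Polynomial Module Cfsg.Agent.Lib.Lead.SPU Cfsg.Agent.Lib.Helper19.SPD

variable {F : Type*} [Field F] {d : ℕ}

/-- entries of `Gᵀ J G` are the values of the form on the columns. -/
theorem sgunfasm_entry (G : Matrix (Fin d ⊕ Fin d) (Fin d ⊕ Fin d) F) (a b : Fin d ⊕ Fin d) :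
    (G.transpose * Matrix.J (Fin d) F * G) a b =
      Cfsg.sympForm d F (fun c => G c a) (fun c => G c b) := by
  unfold Cfsg.sympForm
  simp only [Matrix.mul_apply, Matrix.transpose_apply, dotProduct, Matrix.mulVec, Finset.sum_mul,
    Finset.mul_sum]
  rw [Finset.sum_comm]
  refine Finset.sum_congr rfl (fun e _ => Finset.sum_congr rfl (fun c _ => ?_))
  ring

theorem sgunfasm_J_entry (a b : Fin d ⊕ Fin d) :
    Matrix.J (Fin d) F a b =
      Sum.elim (fun k => Sum.elim (fun _ => (0 : F)) (fun l => if k = l then -1 else 0) b)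
        (fun k => Sum.elim (fun l => if k = l then (1 : F) else 0) (fun _ => 0) b) a := by
  unfold Matrix.J
  rcases a with k | k <;> rcases b with l | l <;> simp [Matrix.one_apply]
  split_ifs <;> simp

theorem sgunfasm14_nf_of_frame {j : Matrix (Fin d ⊕ Fin d) (Fin d ⊕ Fin d) F} {c0 : F} (hJ : JS j c0)
    (v : Fin d → (Fin d ⊕ Fin d → F)) (hQ : ∀ k, Cfsg.sympForm d F (v k) (j.mulVec (v k)) = -1)
    (horth : ∀ k l, k ≠ l → Cfsg.sympForm d F (v k) (v l) = 0 ∧ Cfsg.sympForm d F (v k) (j.mulVec (v l)) = 0) :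
    ∃ g : Matrix.GeneralLinearGroup (Fin d ⊕ Fin d) F, g ∈ Cfsg.spGL d F ∧
      j * (g : Matrix (Fin d ⊕ Fin d) (Fin d ⊕ Fin d) F) = (g : Matrix (Fin d ⊕ Fin d) (Fin d ⊕ Fin d) F) * j0 d c0 := by
  classical
  set G : Matrix (Fin d ⊕ Fin d) (Fin d ⊕ Fin d) F :=
    Matrix.of (fun a b => Sum.elim (fun k => v k a) (fun k => (j.mulVec (v k)) a) b) with hG
  have hcolL : ∀ k, (fun c => G c (Sum.inl k)) = v k := by
    intro k; funext c; simp [hG]
  have hcolR : ∀ k, (fun c => G c (Sum.inr k)) = j.mulVec (v k) := by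
    intro k; funext c; simp [hG]
  have hjj : ∀ x : Fin d ⊕ Fin d → F, j.mulVec (j.mulVec x) = c0 • x := by
    intro x
    rw [Matrix.mulVec_mulVec, hJ.sq, Matrix.smul_mulVec, Matrix.one_mulVec]
  -- the four pairings
  have h11 : ∀ k l, Cfsg.sympForm d F (v k) (v l) = 0 := by
    intro k l
    by_cases h : k = l
    · subst h; exact Cfsg.Agent.Lib.helper6.sympForm_self d _
    · exact (horth k l h).1
  have h12 : ∀ k l, Cfsg.sympForm d F (v k) (j.mulVec (v l)) = if k = l then -1 else 0 := by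
    intro k l
    by_cases h : k = l
    · subst h; rw [if_pos rfl]; exact hQ k
    · rw [if_neg h]; exact (horth k l h).2
  have h21 : ∀ k l, Cfsg.sympForm d F (j.mulVec (v k)) (v l) = if k = l then 1 else 0 := by
    intro k l
    rw [Cfsg.Agent.Lib.helper6.sympForm_swap, h12 l k]
    by_cases h : k = l
    · subst h; simp
    · rw [if_neg h, if_neg (fun h' => h h'.symm), neg_zero]
  have h22 : ∀ k l, Cfsg.sympForm d F (j.mulVec (v k)) (j.mulVec (v l)) = 0 := by
    intro k l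
    rw [hJ.adj, hjj, Cfsg.Agent.Lib.helper6.sympForm_smul_right, h11, mul_zero, neg_zero]
  have hsymp : G ∈ Matrix.symplecticGroup (Fin d) F := by
    rw [SymplecticGroup.mem_iff']
    ext a b
    rw [sgunfasm_entry, sgunfasm_J_entry]
    rcases a with k | k <;> rcases b with l | l
    · rw [hcolL, hcolL, h11]; rfl
    · rw [hcolL, hcolR, h12]; rfl
    · rw [hcolR, hcolL, h21]; rfl
    · rw [hcolR, hcolR, h22]; rfl
  set x : ↥(Matrix.symplecticGroup (Fin d) F) := ⟨G, hsymp⟩ with hx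
  have h1 : G * ((x⁻¹ : ↥(Matrix.symplecticGroup (Fin d) F)) : Matrix (Fin d ⊕ Fin d) (Fin d ⊕ Fin d) F) = 1 := by
    have h : ((x * x⁻¹ : ↥(Matrix.symplecticGroup (Fin d) F)) : Matrix (Fin d ⊕ Fin d) (Fin d ⊕ Fin d) F) = 1 := by
      rw [mul_inv_cancel]; rfl
    exact h
  have h2 : ((x⁻¹ : ↥(Matrix.symplecticGroup (Fin d) F)) : Matrix (Fin d ⊕ Fin d) (Fin d ⊕ Fin d) F) * G = 1 := by
    have h : ((x⁻¹ * x : ↥(Matrix.symplecticGroup (Fin d) F)) : Matrix (Fin d ⊕ Fin d) (Fin d ⊕ Fin d) F) = 1 := by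
      rw [inv_mul_cancel]; rfl
    exact h
  refine ⟨⟨G, _, h1, h2⟩, ?_, ?_⟩
  · rw [Cfsg.Agent.S5646.mem_spGL_iff]
    exact (Cfsg.Agent.Lib.helper6.mem_symplecticGroup_iff_sympForm d _).1 hsymp
  · show j * G = G * j0 d c0
    ext a b
    have hL : (j * G) a b = (j.mulVec (fun c => G c b)) a := by
      simp [Matrix.mul_apply, Matrix.mulVec, dotProduct]
    rw [hL]
    rcases b with l | l
    · rw [hcolL]
      simp [Matrix.mul_apply, j0, Fintype.sum_sum_type, Matrix.fromBlocks_apply₁₁, Matrix.fromBlocks_apply₂₁,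
        Matrix.one_apply, hG]
    · rw [hcolR, hjj]
      simp [Matrix.mul_apply, j0, Fintype.sum_sum_type, Matrix.fromBlocks_apply₁₂, Matrix.fromBlocks_apply₂₂,
        Matrix.one_apply, hG]
      exact mul_comm _ _

end Cfsg.Agent.Lib.helper14.SGU
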