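import Mathlib
import Cfsg.Prelude.Def_ChevStructure
import Cfsg.Agent.Lib.helper14.INV.Defs
import Cfsg.Agent.Lib.helper23.INVINVOL

/-!
# Project INV, piece SUPP (backup by helper14): the support of the unipotent part of an involution
`h n_w u`
-/

set_option autoImplicit false

namespace Cfsg.Agent.Lib.helper14.INV

open Cfsg.Lie Cfsg.Lie.ChevalleyDatum Cfsg.Agent.Lib.helper8 Cfsg.Agent.Lib.helper14

universe u

variable {F : Type u} [Field F]

/-- the positivity lemma with `B` in place of `U` -/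
theorem suppb_pos_split (D : ChevalleyDatum) (hB : H8Base.{u} D) (hC : H8CommAll.{u} D)
    (hBN : H8BN D) (hO : H8Ord D) (n : GL D.Idx F) (σ : ℕ → ℕ)
    (hlt : ∀ r < D.nroots, σ r < D.nroots)
    (hact : ∀ r < D.nroots, H8Act D hB n r (σ r)) (g : GL D.Idx F)
    (hg : g ∈ D.posUnipotent F) (hconj : n * g * n⁻¹ ∈ D.borelSubgroup F) :
    ∃ t : ℕ → F, g = h8wordU D hB (h8ordP D (fun r => decide (D.IsPosRoot (σ r))) 0 t) := by
  obtain ⟨t, ht⟩ := h8split_main D hB hC hO (fun r => decide (D.IsPosRoot (σ r))) g hg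
  refine ⟨t, ?_⟩
  set p := h8wordU D hB (h8ordP D (fun r => decide (D.IsPosRoot (σ r))) 0 t) with hp
  set q := h8wordU D hB (h8ordQ D (fun r => decide (D.IsPosRoot (σ r))) 0 t) with hq
  have hP := h8ordP_mem D hB (fun r => decide (D.IsPosRoot (σ r))) 0 t
  have hQ := h8ordQ_mem D hB (fun r => decide (D.IsPosRoot (σ r))) 0 t
  have hpU : n * p * n⁻¹ ∈ D.posUnipotent F := h8splitP_conj D hB n σ hact p hP
  have hqV : n * q * n⁻¹ ∈ D.negUnipotent F :=
    h8Um_conj_mem_V D hB n q (h8splitQ_le D hB n σ hlt hact hQ)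
  have hqB : n * q * n⁻¹ ∈ D.borelSubgroup F := by
    have : n * q * n⁻¹ = (n * p * n⁻¹)⁻¹ * (n * g * n⁻¹) := by rw [ht]; group
    rw [this]
    exact Subgroup.mul_mem _ (Subgroup.inv_mem _ (h8U_le_B D hpU)) hconj
  have hbot : n * q * n⁻¹ ∈ D.borelSubgroup F ⊓ D.negUnipotent F :=
    Subgroup.mem_inf.mpr ⟨hqB, hqV⟩
  rw [h8_B_inf_V D hB hBN.negOK, Subgroup.mem_bot] at hbot
  have hq1 : q = 1 := by
    have : q = n⁻¹ * (n * q * n⁻¹) * n := by group
    rw [this, hbot]; group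
  rw [ht, hq1, mul_one]

/-- group-theoretic identity: if `(m u)^2 = 1` then `m u m⁻¹ = u⁻¹ (m m)⁻¹` -/
theorem suppb_conj_eq {G : Type*} [Group G] (m u : G) (hsq : (m * u) * (m * u) = 1) :
    m * u * m⁻¹ = u⁻¹ * (m * m)⁻¹ := by
  have h1 : m * u * m = u⁻¹ := by
    have : (m * u * m) * u = 1 := by rw [← hsq]; group
    exact eq_inv_of_mul_eq_one_left this
  calc m * u * m⁻¹ = (m * u * m) * (m⁻¹ * m⁻¹) := by group
    _ = u⁻¹ * (m * m)⁻¹ := by rw [h1, mul_inv_rev]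

/-- SUPP (backup) -/
theorem invol_supp_b (D : ChevalleyDatum) (hB : H8Base.{u} D) (hA : H8ReflAll D)
    (hC : H8CommAll.{u} D) (hBN : H8BN D) (hW : H8BN2 D) (hO : H8Ord D) (hO2 : H8Ord2 D)
    (w : List ℕ) (hw : ValidW D w) (h0 u : GL D.Idx F) (hh : h0 ∈ D.diagonalSubgroup F)
    (hu : u ∈ D.posUnipotent F)
    (hsq : (h0 * (h8nWU D hB w : GL D.Idx F) * u) * (h0 * (h8nWU D hB w : GL D.Idx F) * u) = 1) :
    ∃ c : ℕ → F, u = f4cW D hB 0 c ∧
      ∀ r, D.IsPosRoot r → c r ≠ 0 → D.IsPosRoot (h8sW D w r) := by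
  set n : GL D.Idx F := h0 * (h8nWU D hB w : GL D.Idx F) with hn
  have hnN : n ∈ D.monomialSubgroup F :=
    Subgroup.mul_mem _ (h8H_le_N D hh) (h8nWU_mem_N D hB hA w hw)
  have hH := h23inv_sq_mem_H D hB hA hC hBN n u hnN hu hsq
  have hconj : n * u * n⁻¹ ∈ D.borelSubgroup F := by
    rw [suppb_conj_eq n u hsq]
    exact Subgroup.mul_mem _ (h8U_le_B D (Subgroup.inv_mem _ hu))
      (h8H_le_B D (Subgroup.inv_mem _ hH))
  obtain ⟨t, ht⟩ := suppb_pos_split D hB hC hBN hO n (h8sW D w)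
    (fun r hr => h8sW_lt D hA w hw r hr)
    (fun r hr => h23inv_act_hn D hB hA w hw h0 hh r hr) u hu hconj
  rw [f4c_ordP_fill D hB _ t D.nroots 0 (by omega)] at ht
  refine ⟨_, ht, ?_⟩
  intro r _ hcr
  by_contra hneg
  apply hcr
  show (if decide (D.IsPosRoot (h8sW D w r)) = true then t r else 0) = 0
  rw [if_neg (by simpa using hneg)]

end Cfsg.Agent.Lib.helper14.INV
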