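import Mathlib

set_option autoImplicit false

/-! Upper triangular 3×3 matrices preserving the antidiagonal Hermitian form. -/

namespace Cfsg.Agent.Lib.helper14.SU3J

open Matrix

section J
variable {K : Type*} [Field K]

local notation "M3" => Matrix (Fin 3) (Fin 3) K

theorem mv3 (M : M3) (x : Fin 3 → K) (i : Fin 3) :
    (M *ᵥ x) i = M i 0 * x 0 + M i 1 * x 1 + M i 2 * x 2 := by
  simp [Matrix.mulVec, dotProduct, Fin.sum_univ_three]

/-- the antidiagonal Hermitian form -/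
def hJ (σ : K →+* K) (x y : Fin 3 → K) : K := x 0 * σ (y 2) + x 1 * σ (y 1) + x 2 * σ (y 0)

def PresJ (σ : K →+* K) (M : M3) : Prop := ∀ x y, hJ σ (M *ᵥ x) (M *ᵥ y) = hJ σ x y

def IsUp (M : M3) : Prop := M 1 0 = 0 ∧ M 2 0 = 0 ∧ M 2 1 = 0

def IsUT (M : M3) : Prop := IsUp M ∧ M 0 0 = 1 ∧ M 1 1 = 1 ∧ M 2 2 = 1

theorem isUp_mul {M N : M3} (hM : IsUp M) (hN : IsUp N) :
    IsUp (M * N) ∧ ∀ i, (M * N) i i = M i i * N i i := by
  obtain ⟨m1, m2, m3⟩ := hM
  obtain ⟨n1, n2, n3⟩ := hN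
  refine ⟨⟨?_, ?_, ?_⟩, ?_⟩
  · simp [Matrix.mul_apply, Fin.sum_univ_three, m1, m2, m3, n1, n2, n3]
  · simp [Matrix.mul_apply, Fin.sum_univ_three, m1, m2, m3, n1, n2, n3]
  · simp [Matrix.mul_apply, Fin.sum_univ_three, m1, m2, m3, n1, n2, n3]
  · intro i
    fin_cases i <;> simp [Matrix.mul_apply, Fin.sum_univ_three, m1, m2, m3, n1, n2, n3]

theorem isUp_one : IsUp (1 : M3) := by
  refine ⟨?_, ?_, ?_⟩ <;> simp

theorem isUp_pow {M : M3} (hM : IsUp M) (k : ℕ) :
    IsUp (M ^ k) ∧ ∀ i, (M ^ k) i i = (M i i) ^ k := by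
  induction k with
  | zero =>
    refine ⟨by rw [pow_zero]; exact isUp_one, fun i => ?_⟩
    simp
  | succ k ih =>
    rw [pow_succ]
    obtain ⟨h1, h2⟩ := isUp_mul ih.1 hM
    refine ⟨h1, fun i => ?_⟩
    rw [h2, ih.2, pow_succ]

theorem isUT_mul {M N : M3} (hM : IsUT M) (hN : IsUT N) : IsUT (M * N) := by
  obtain ⟨h1, h2⟩ := isUp_mul hM.1 hN.1
  refine ⟨h1, ?_, ?_, ?_⟩
  · rw [h2, hM.2.1, hN.2.1, one_mul]
  · rw [h2, hM.2.2.1, hN.2.2.1, one_mul]
  · rw [h2, hM.2.2.2, hN.2.2.2, one_mul]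

theorem nil_cube (A : M3) (hA : IsUT A) : (A - 1) * (A - 1) * (A - 1) = 0 := by
  obtain ⟨⟨a1, a2, a3⟩, a4, a5, a6⟩ := hA
  ext i j
  fin_cases i <;> fin_cases j <;>
    simp [Matrix.mul_apply, Fin.sum_univ_three, a1, a2, a3, a4, a5, a6]

theorem pow_p_eq_one {p : ℕ} [Fact p.Prime] [CharP K p] (hp : p ≠ 2) (A : M3) (hA : IsUT A) :
    A ^ p = 1 := by
  have h3 : 3 ≤ p := by
    have := (Fact.out : p.Prime).two_le
    omega
  have hN' : ∀ m : ℕ, 3 ≤ m → (A - 1) ^ m = 0 := by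
    intro m hm
    obtain ⟨k, hk⟩ := Nat.exists_eq_add_of_le hm
    rw [hk, pow_add, pow_succ, pow_two, nil_cube A hA, zero_mul]
  have hN : (A - 1) ^ p = 0 := hN' p h3
  have h1 : A = (A - 1) + 1 := by abel
  haveI : CharP M3 p := Matrix.charP p
  have h2 := add_pow_char_of_commute (p := p) (Commute.one_right (A - 1))
  rw [hN, one_pow, zero_add, ← h1] at h2
  exact h2

/-- an upper triangular `p`-element in characteristic `p` is unitriangular -/
theorem isUT_of_pow {p : ℕ} [Fact p.Prime] [CharP K p] {M : M3} (hM : IsUp M) (k : ℕ)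
    (hk : M ^ p ^ k = 1) : IsUT M := by
  have h := (isUp_pow hM (p ^ k)).2
  have key : ∀ i, M i i = 1 := by
    intro i
    have h1 : (M i i) ^ p ^ k = 1 := by
      rw [← h i, hk]; simp
    have h2 : (M i i - 1) ^ p ^ k = 0 := by
      rw [sub_pow_char_pow, h1, one_pow, sub_self]
    exact sub_eq_zero.mp (pow_eq_zero_iff (pow_ne_zero _ (Fact.out : p.Prime).ne_zero) |>.mp h2)
  exact ⟨hM, key 0, key 1, key 2⟩

variable (σ : K →+* K)

theorem hJ_e01 (M : M3) (h1 : M 1 0 = 0) (h2 : M 2 0 = 0) (hM : PresJ σ M) :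
    M 0 0 * σ (M 2 2) = 1 := by
  have := hM ![1, 0, 0] ![0, 0, 1]
  simp only [hJ, mv3] at this
  simpa [h1, h2] using this

/-- a form-preserving matrix fixing the line of the first basis vector is upper triangular -/
theorem isUp_of_presJ (M : M3) (h1 : M 1 0 = 0) (h2 : M 2 0 = 0) (hM : PresJ σ M) : IsUp M := by
  refine ⟨h1, h2, ?_⟩
  have h00 := hJ_e01 σ M h1 h2 hM
  have hne : σ (M 0 0) ≠ 0 := by
    intro h0
    have : M 0 0 = 0 := by
      by_contra hne
      exact (map_ne_zero σ).mpr hne h0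
    rw [this, zero_mul] at h00
    exact zero_ne_one h00
  have := hM ![0, 1, 0] ![1, 0, 0]
  simp only [hJ, mv3] at this
  have h3 : M 2 1 * σ (M 0 0) = 0 := by simpa [h1, h2] using this
  rcases mul_eq_zero.mp h3 with h | h
  · exact h
  · exact absurd h hne

/-- a unitriangular form-preserving matrix fixing an isotropic vector off the first axis is `1` -/
theorem eq_one_of_fix (M : M3) (hUT : IsUT M) (hM : PresJ σ M) (x : Fin 3 → K)
    (hx : M *ᵥ x = x) (hxx : hJ σ x x = 0) (hx0 : ¬ (x 1 = 0 ∧ x 2 = 0)) : M = 1 := by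
  obtain ⟨⟨m10, m20, m21⟩, m00, m11, m22⟩ := hUT
  have hx2 : x 2 ≠ 0 := by
    intro h2
    apply hx0
    refine ⟨?_, h2⟩
    simp only [hJ, h2, map_zero, mul_zero, zero_mul, add_zero, zero_add] at hxx
    rcases mul_eq_zero.mp hxx with h | h
    · exact h
    · by_contra hne
      exact (map_ne_zero σ).mpr hne h
  have r1 := congrFun hx 1
  have r0 := congrFun hx 0
  rw [mv3] at r1 r0
  rw [m10, m11] at r1
  rw [m00] at r0
  have m12 : M 1 2 = 0 := by
    have : M 1 2 * x 2 = 0 := by linear_combination r1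
    rcases mul_eq_zero.mp this with h | h
    · exact h
    · exact absurd h hx2
  have h23 := hM ![0, 1, 0] ![0, 0, 1]
  simp only [hJ, mv3] at h23
  have m01 : M 0 1 = 0 := by
    have : M 0 1 * σ (M 2 2) + M 1 1 * σ (M 1 2) + M 2 1 * σ (M 0 2) = 0 := by
      simpa using h23
    rw [m22, m11, m12, m21] at this
    simpa using this
  have m02 : M 0 2 = 0 := by
    have : M 0 2 * x 2 = 0 := by
      rw [m01] at r0
      linear_combination r0
    rcases mul_eq_zero.mp this with h | h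
    · exact h
    · exact absurd h hx2
  ext i j
  fin_cases i <;> fin_cases j <;> simp [m10, m20, m21, m00, m11, m22, m01, m02, m12]

end J

end Cfsg.Agent.Lib.helper14.SU3J
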