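import Mathlib
import Cfsg.Agent.Lib.helper14.G2T.Basic
import Cfsg.Agent.Lib.helper14.G2T.Long
import Cfsg.Agent.Lib.Lead.SLn

/-!
# Project G2T (S2371), rows A7, A8, A9: `Phi` maps `SL₃` into the Chevalley group; the `W`-block;
injectivity.
-/

set_option autoImplicit false

namespace Cfsg.Agent.Lib.helper14.G2T

open Cfsg.Lie Cfsg.Lie.ChevalleyDatum Matrix

universe u

variable {E : Type u} [Field E]

theorem g2ta8_wI_cases (x : chevG2.Idx) : (∃ i : Fin 3, x = wI i) ∨ (∀ i : Fin 3, x ≠ wI i) := by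
  by_cases h : ∃ i : Fin 3, x = wI i
  · exact Or.inl h
  · exact Or.inr (fun i hi => h ⟨i, hi⟩)

set_option maxHeartbeats 4000000 in
/-- A8. The `W`-block of `Phi A` is `A`, and `W` is a direct summand. -/
theorem Phi_W (A : Matrix (Fin 3) (Fin 3) E) :
    (∀ i j : Fin 3, Phi A (wI i) (wI j) = A i j) ∧
    (∀ (x : chevG2.Idx) (j : Fin 3), (∀ i : Fin 3, x ≠ wI i) → Phi A x (wI j) = 0) ∧
    (∀ (x : chevG2.Idx) (j : Fin 3), (∀ i : Fin 3, x ≠ wI i) → Phi A (wI j) x = 0) := by
  refine ⟨?_, ?_, ?_⟩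
  · intro i j
    fin_cases i <;> fin_cases j <;>
      simp [Phi, ofMod, actMod, toMod, wI, eI, hI, Matrix.mulVec, dotProduct, Fin.sum_univ_three,
        Fin.ext_iff]
  · intro x j
    revert x
    apply idx_cases
    all_goals
      intro hx
      first
        | exact absurd rfl (hx 0)
        | exact absurd rfl (hx 1)
        | exact absurd rfl (hx 2)
        | (fin_cases j <;>
            simp [Phi, ofMod, actMod, toMod, wI, eI, hI, Matrix.mulVec, dotProduct,
              Fin.sum_univ_three, Fin.ext_iff, Matrix.mul_apply])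
  · intro x j
    revert x
    apply idx_cases
    all_goals
      intro hx
      first
        | exact absurd rfl (hx 0)
        | exact absurd rfl (hx 1)
        | exact absurd rfl (hx 2)
        | (fin_cases j <;>
            simp [Phi, ofMod, actMod, toMod, wI, eI, hI, Matrix.mulVec, dotProduct,
              Fin.sum_univ_three, Fin.ext_iff, Matrix.mul_apply])

/-- A9. `PhiGL` is injective (the `W`-block). -/
theorem PhiGL_injective : Function.Injective (PhiGL (E := E)) := by
  intro A B h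
  have h1 : Phi (A : Matrix (Fin 3) (Fin 3) E) = Phi (B : Matrix (Fin 3) (Fin 3) E) := by
    rw [← PhiGL_val, ← PhiGL_val, h]
  apply Subtype.ext
  ext i j
  rw [← (Phi_W (A : Matrix (Fin 3) (Fin 3) E)).1 i j, ← (Phi_W (B : Matrix (Fin 3) (Fin 3) E)).1 i j,
    h1]

theorem g2ta7_x_mem (r : ℕ) (hr : r < 12) (t : E) (g : GL chevG2.Idx E)
    (hg : (g : Matrix chevG2.Idx chevG2.Idx E) = chevG2.x E r t) : g ∈ chevG2.group E := by
  have hr' : r < chevG2.nroots := hr
  apply Subgroup.subset_closure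
  refine ⟨⟨r, hr'⟩, t, ?_⟩
  rw [hg]
  unfold ChevalleyDatum.x
  rw [dif_pos hr']

/-- A7. `Phi` maps `SL₃(E)` into the Chevalley group. -/
theorem PhiGL_mem (A : Matrix.SpecialLinearGroup (Fin 3) E) : PhiGL A ∈ chevG2.group E := by
  refine Cfsg.Agent.Lib.Lead.SL_transvection_induction
    (fun A => PhiGL A ∈ chevG2.group E) ?_ ?_ A
  · intro i j hij c
    have hv : ((PhiGL (Matrix.SpecialLinearGroup.transvection hij c) : GL chevG2.Idx E) :
        Matrix chevG2.Idx chevG2.Idx E) = Phi (1 + Matrix.single i j c) := by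
      rw [PhiGL_val]
      rfl
    fin_cases i <;> fin_cases j
    · exact absurd rfl hij
    · exact g2ta7_x_mem 6 (by decide) c _ (hv.trans (Phi_x6 c))
    · exact g2ta7_x_mem 11 (by decide) c _ (hv.trans (Phi_x11 c))
    · exact g2ta7_x_mem 5 (by decide) c _ (hv.trans (Phi_x5 c))
    · exact absurd rfl hij
    · exact g2ta7_x_mem 10 (by decide) c _ (hv.trans (Phi_x10 c))
    · exact g2ta7_x_mem 0 (by decide) c _ (hv.trans (Phi_x0 c))
    · exact g2ta7_x_mem 1 (by decide) c _ (hv.trans (Phi_x1 c))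
    · exact absurd rfl hij
  · intro A B hA hB
    show PhiGL (A * B) ∈ chevG2.group E
    rw [map_mul]
    exact Subgroup.mul_mem _ hA hB

end Cfsg.Agent.Lib.helper14.G2T
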