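import Mathlib
import Cfsg.Agent.Lib.helper14.G2T.Basic
import Cfsg.Agent.S1033

/-!
# Project G2T (S2371), rows B4, B8 (and an own copy of B1): the diagonal elements `hh c₀ c₁`, the character `chi`, and
`Phi` of a diagonal matrix.
-/

set_option autoImplicit false

namespace Cfsg.Agent.Lib.helper14.G2T

open Cfsg.Lie Cfsg.Lie.ChevalleyDatum Matrix

universe u

variable {E : Type u} [Field E]

/-- own copy of B1: `h_a(c₀) h_b(c₁)` is diagonal with the character `chi`. -/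
theorem g2tb8_hh_diag (c0 c1 : E) (hc0 : c0 ≠ 0) (hc1 : c1 ≠ 0) :
    hh c0 c1 = Matrix.diagonal (Sum.elim (fun _ => (1 : E)) (fun s : Fin chevG2.nroots => chi c0 c1 s.val)) := by
  have hD : chevG2 ∈ [chevG2, chevB2, chevD4, chevF4, chevE6, chevE7, chevE8] := by simp
  have h0 := Cfsg.Agent.S1033.result (F := E) chevG2 hD 0 (by decide) c0 hc0
  have h1 := Cfsg.Agent.S1033.result (F := E) chevG2 hD 1 (by decide) c1 hc1
  have e0 : chevG2.simple 0 = 7 := by decide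
  have e1 : chevG2.simple 1 = 6 := by decide
  rw [e0] at h0
  rw [e1] at h1
  unfold hh
  rw [h0, h1, Matrix.diagonal_mul_diagonal]
  congr 1
  funext x
  rcases x with i | s
  · simp
  · simp [chi]

theorem g2tb4_cartan : chevG2.cartan 0 8 = -1 ∧ chevG2.cartan 1 8 = 1 ∧ chevG2.cartan 0 7 = 2 ∧
    chevG2.cartan 1 7 = -1 ∧ chevG2.cartan 0 2 = -1 ∧ chevG2.cartan 1 2 = 0 := by decide

/-- B4. `chi` is multiplicative in `(c₀, c₁)`; the three values on `W` multiply to one and determine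
`(c₀, c₁)`. -/
theorem g2tb8_chi_basic (c0 c1 : E) (hc0 : c0 ≠ 0) (hc1 : c1 ≠ 0) :
    (∀ (i : ℕ) (r : ℕ), chi (c0 ^ i) (c1 ^ i) r = chi c0 c1 r ^ i) ∧
    chi c0 c1 8 * chi c0 c1 7 * chi c0 c1 2 = 1 ∧
    c0 = (chi c0 c1 2)⁻¹ ∧ c1 = chi c0 c1 8 * (chi c0 c1 2)⁻¹ ∧
    (∀ r : ℕ, chi c0 c1 r ≠ 0) := by
  obtain ⟨h08, h18, h07, h17, h02, h12⟩ := g2tb4_cartan
  refine ⟨?_, ?_, ?_, ?_, ?_⟩
  · intro i r
    unfold chi
    rw [mul_pow, ← zpow_natCast (c0 ^ chevG2.cartan 0 r), ← zpow_natCast (c1 ^ chevG2.cartan 1 r),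
      ← _root_.zpow_mul, ← _root_.zpow_mul, ← zpow_natCast c0, ← zpow_natCast c1, ← _root_.zpow_mul, ← _root_.zpow_mul,
      mul_comm (i : ℤ), mul_comm (i : ℤ)]
  · unfold chi
    rw [h08, h18, h07, h17, h02, h12]
    simp only [_root_.zpow_neg, zpow_one, zpow_zero, mul_one]
    rw [show (2 : ℤ) = ((2 : ℕ) : ℤ) from rfl, zpow_natCast]
    field_simp
  · unfold chi
    rw [h02, h12]
    simp
  · unfold chi
    rw [h08, h18, h02, h12]
    simp only [_root_.zpow_neg, zpow_one, zpow_zero, mul_one, inv_inv]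
    field_simp
  · intro r
    unfold chi
    exact mul_ne_zero (zpow_ne_zero _ hc0) (zpow_ne_zero _ hc1)

theorem g2tb8_cartan :
    chevG2.cartan 0 0 = 0 ∧ chevG2.cartan 1 0 = -1 ∧
    chevG2.cartan 0 1 = -3 ∧ chevG2.cartan 1 1 = 1 ∧
    chevG2.cartan 0 2 = -1 ∧ chevG2.cartan 1 2 = 0 ∧
    chevG2.cartan 0 3 = 1 ∧ chevG2.cartan 1 3 = -1 ∧
    chevG2.cartan 0 4 = -2 ∧ chevG2.cartan 1 4 = 1 ∧
    chevG2.cartan 0 5 = 3 ∧ chevG2.cartan 1 5 = -2 ∧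
    chevG2.cartan 0 6 = -3 ∧ chevG2.cartan 1 6 = 2 ∧
    chevG2.cartan 0 7 = 2 ∧ chevG2.cartan 1 7 = -1 ∧
    chevG2.cartan 0 8 = -1 ∧ chevG2.cartan 1 8 = 1 ∧
    chevG2.cartan 0 9 = 1 ∧ chevG2.cartan 1 9 = 0 ∧
    chevG2.cartan 0 10 = 3 ∧ chevG2.cartan 1 10 = -1 ∧
    chevG2.cartan 0 11 = 0 ∧ chevG2.cartan 1 11 = 1 := by decide

set_option maxRecDepth 100000 in
set_option maxHeartbeats 4000000 in
/-- B8. `Phi` of a diagonal matrix of determinant one is `h_a(ab) h_b(a²b)`. -/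
theorem Phi_diag (a b c : E) (habc : a * b * c = 1) :
    Phi (Matrix.diagonal ![a, b, c]) = hh (a * b) (a ^ 2 * b) := by
  have ha : a ≠ 0 := by
    rintro rfl
    simp at habc
  have hb : b ≠ 0 := by
    rintro rfl
    simp at habc
  have hc : c = (a * b)⁻¹ := eq_inv_of_mul_eq_one_right habc
  subst hc
  rw [g2tb8_hh_diag (a * b) (a ^ 2 * b) (mul_ne_zero ha hb) (mul_ne_zero (pow_ne_zero 2 ha) hb)]
  have hA : Matrix.diagonal ![a, b, (a * b)⁻¹] = !![a, 0, 0; 0, b, 0; 0, 0, (a * b)⁻¹] := by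
    ext i j
    fin_cases i <;> fin_cases j <;> simp [Matrix.diagonal]
  have hadj : (Matrix.diagonal ![a, b, (a * b)⁻¹]).adjugate =
      !![b * (a * b)⁻¹, 0, 0; 0, a * (a * b)⁻¹, 0; 0, 0, a * b] := by
    rw [hA, Matrix.adjugate_fin_three]
    ext i j
    fin_cases i <;> fin_cases j <;> simp
  have hact : ∀ m : Mod E, actMod (Matrix.diagonal ![a, b, (a * b)⁻¹]) m =
      (!![a, 0, 0; 0, b, 0; 0, 0, (a * b)⁻¹] * m.1 *
          !![b * (a * b)⁻¹, 0, 0; 0, a * (a * b)⁻¹, 0; 0, 0, a * b],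
        !![a, 0, 0; 0, b, 0; 0, 0, (a * b)⁻¹] *ᵥ m.2.1,
        (!![b * (a * b)⁻¹, 0, 0; 0, a * (a * b)⁻¹, 0; 0, 0, a * b])ᵀ *ᵥ m.2.2) := by
    intro m
    unfold actMod
    rw [hadj, hA]
  obtain ⟨k0_0, k1_0, k0_1, k1_1, k0_2, k1_2, k0_3, k1_3, k0_4, k1_4, k0_5, k1_5, k0_6, k1_6, k0_7, k1_7, k0_8, k1_8, k0_9, k1_9, k0_10, k1_10, k0_11, k1_11⟩ := g2tb8_cartan
  ext i j
  revert j
  apply idx_cases
  all_goals
    revert i
    apply idx_cases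
  all_goals
    first
      | rw [Matrix.diagonal_apply_eq]
      | rw [Matrix.diagonal_apply_ne _ (by decide)]
  all_goals
    simp only [Phi]
    rw [Matrix.of_apply, hact]
    simp only [ofMod, toMod, eI, hI, Sum.elim_inl, Sum.elim_inr]
    simp [Matrix.mul_apply, Fin.sum_univ_three, Matrix.mulVec, dotProduct, Fin.ext_iff]
    try simp only [chi, k0_0, k1_0, k0_1, k1_1, k0_2, k1_2, k0_3, k1_3, k0_4, k1_4, k0_5, k1_5, k0_6, k1_6, k0_7, k1_7, k0_8, k1_8, k0_9, k1_9, k0_10, k1_10, k0_11, k1_11]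
    try field_simp
    try ring

end Cfsg.Agent.Lib.helper14.G2T
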