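import Mathlib
import Cfsg.Agent.Lib.helper23.P4S.Defs
import Cfsg.Agent.Lib.helper14.SpSLb

set_option autoImplicit false

/-!
# P4S row U1 (`sp4_charpoly`), helper14: the characteristic polynomial of an element of `Sp_4(F)` is a palindromic quartic.
(`p4su1_rev_core` is helper9's `o9ug1_core` (O9U row G1) copied under a fresh name, to keep the import closure small.)
-/

namespace Cfsg.Agent.Lib.helper23.P4S

open Matrix Polynomial

/-- the (skew-)reciprocity of the characteristic polynomial of a matrix with `N B Nᵀ = B`, `det B ≠ 0`, `det N = 1` -/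
theorem p4su1_rev_core {F : Type*} [Field F] {ι : Type*} [Fintype ι] [DecidableEq ι]
    (N B : Matrix ι ι F) (hB : B.det ≠ 0) (hN : N * B * Nᵀ = B) (hdet : N.det = 1) :
    N.charpoly.reverse = (-1) ^ Fintype.card ι * N.charpoly := by
  rw [Matrix.reverse_charpoly]
  unfold Matrix.charpolyRev
  set P : Matrix ι ι F →+* Matrix ι ι F[X] := (C : F →+* F[X]).mapMatrix with hP
  have hPmap : ∀ K : Matrix ι ι F, K.map C = P K := fun K => rfl
  have hrel : P N * P B * P Nᵀ = P B := by
    rw [← map_mul, ← map_mul, hN]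
  have key : (1 - (X : F[X]) • P N) * (P B * P Nᵀ) = -(P B * charmatrix Nᵀ) := by
    have h1 : (1 - (X : F[X]) • P N) * (P B * P Nᵀ) =
        P B * P Nᵀ - (X : F[X]) • (P N * P B * P Nᵀ) := by
      rw [sub_mul, one_mul, Matrix.smul_mul, ← mul_assoc]
    rw [h1, hrel]
    unfold charmatrix
    rw [mul_sub, neg_sub]
    congr 1
    ext i j
    simp [Matrix.mul_apply, Matrix.scalar_apply, Matrix.diagonal_apply, mul_comm]
  have hdetP : ∀ K : Matrix ι ι F, (P K).det = C K.det := by
    intro K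
    exact (RingHom.map_det (C : F →+* F[X]) K).symm
  have h2 := congrArg Matrix.det key
  rw [Matrix.det_mul, Matrix.det_mul, Matrix.det_neg, Matrix.det_mul, hdetP, hdetP,
    Matrix.det_transpose, hdet, map_one, mul_one] at h2
  have hCB : (C B.det : F[X]) ≠ 0 := by
    rw [Ne, C_eq_zero]; exact hB
  have h4 : (1 - (X : F[X]) • P N).det = (-1) ^ Fintype.card ι * (charmatrix Nᵀ).det := by
    apply mul_left_cancel₀ hCB
    rw [mul_comm, h2]
    ring
  rw [hPmap, h4]
  congr 1
  exact Matrix.charpoly_transpose N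

/-- the characteristic polynomial of a symplectic matrix is self-reciprocal -/
theorem p4su1_reverse {F : Type*} [Field F] (m : ℕ) (x : Matrix.symplecticGroup (Fin m) F) :
    (x : Matrix (Fin m ⊕ Fin m) (Fin m ⊕ Fin m) F).charpoly.reverse =
      (x : Matrix (Fin m ⊕ Fin m) (Fin m ⊕ Fin m) F).charpoly := by
  have hJ : (Matrix.J (Fin m) F).det ≠ 0 := by
    intro h0
    have := Matrix.J_det_mul_J_det (Fin m) F
    rw [h0, mul_zero] at this
    exact zero_ne_one this
  have hmem := SymplecticGroup.mem_iff.mp x.2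
  have h := p4su1_rev_core (x : Matrix (Fin m ⊕ Fin m) (Fin m ⊕ Fin m) F) (Matrix.J (Fin m) F) hJ hmem
    (Cfsg.Agent.Lib.helper14.SpSLb.det_symp m x)
  rw [h, Fintype.card_sum, Fintype.card_fin, ← two_mul, pow_mul]
  simp

theorem sp4_charpoly {F : Type*} [Field F] (x : Matrix.symplecticGroup (Fin 2) F) :
    ∃ a b : F, (x : Matrix (Fin 2 ⊕ Fin 2) (Fin 2 ⊕ Fin 2) F).charpoly =
      X ^ 4 - C a * X ^ 3 + C b * X ^ 2 - C a * X + 1 := by
  set χ := (x : Matrix (Fin 2 ⊕ Fin 2) (Fin 2 ⊕ Fin 2) F).charpoly with hχ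
  have hrev : χ.reverse = χ := p4su1_reverse 2 x
  have hmon : χ.Monic := Matrix.charpoly_monic _
  have hdeg : χ.natDegree = 4 := by
    rw [hχ, Matrix.charpoly_natDegree_eq_dim, Fintype.card_sum, Fintype.card_fin]
  have h4 : χ.coeff 4 = 1 := by
    have := hmon.coeff_natDegree
    rwa [hdeg] at this
  have h0 : χ.coeff 0 = 1 := by
    have h := coeff_zero_reverse χ
    rw [hrev, hmon.leadingCoeff] at h
    exact h
  have h1 : χ.coeff 1 = χ.coeff 3 := by
    have h := coeff_reverse χ 1
    rw [hrev, hdeg, revAt_le (by norm_num : 1 ≤ 4)] at h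
    exact h
  refine ⟨-χ.coeff 3, χ.coeff 2, ?_⟩
  conv_lhs => rw [χ.as_sum_range_C_mul_X_pow, hdeg]
  simp only [Finset.sum_range_succ, Finset.sum_range_zero, zero_add, h0, h1, h4, pow_zero, pow_one, map_one, mul_one,
    one_mul, map_neg]
  ring

end Cfsg.Agent.Lib.helper23.P4S
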