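import Mathlib
import Cfsg.Prelude.Def_Characters
import Cfsg.Agent.Lib.helper7.PM2.Defs
import Cfsg.Agent.Lib.helper3.SL2Mult

/-!
# Project PM2 (S4705), piece MULT: a finite group whose central quotient is `SL₂(q)`, `q ≠ 4, 9`, splits
-/

set_option autoImplicit false
set_option linter.unusedVariables false
set_option linter.unusedSectionVars false

namespace Cfsg.Agent.Lib.helper7.PM2

open scoped ComplexConjugate

universe u

section reductions

open scoped commutatorElement

theorem pm2mult_comm_left {G : Type u} [Group G] (a b z : G) (hz : ∀ g : G, g * z = z * g) :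
    ⁅a * z, b⁆ = ⁅a, b⁆ := by
  rw [commutatorElement_def, commutatorElement_def, mul_assoc a z b, ← hz b]
  group

theorem pm2mult_comm_right {G : Type u} [Group G] (a b z : G) (hz : ∀ g : G, g * z = z * g) :
    ⁅a, b * z⁆ = ⁅a, b⁆ := by
  rw [← commutatorElement_inv, pm2mult_comm_left b a z hz, commutatorElement_inv]

/-- if the central quotient is perfect, then `G = G' Z(G)` -/
theorem pm2mult_DZ {G : Type u} [Group G]
    (hperf : commutator (G ⧸ Subgroup.center G) = ⊤) (g : G) :
    ∃ d ∈ commutator G, ∃ z ∈ Subgroup.center G, g = d * z := by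
  have h1 : (commutator G).map (QuotientGroup.mk' (Subgroup.center G)) = ⊤ := by
    rw [commutator_def, Subgroup.map_commutator,
      Subgroup.map_top_of_surjective _ (QuotientGroup.mk'_surjective _), ← commutator_def, hperf]
  have h2 : (QuotientGroup.mk' (Subgroup.center G)) g ∈
      (commutator G).map (QuotientGroup.mk' (Subgroup.center G)) := by
    rw [h1]; exact Subgroup.mem_top _
  obtain ⟨d, hd, e⟩ := Subgroup.mem_map.mp h2
  rw [QuotientGroup.mk'_apply, QuotientGroup.mk'_apply, QuotientGroup.eq] at e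
  exact ⟨d, hd, d⁻¹ * g, e, by group⟩

/-- if the central quotient is perfect, then the derived subgroup is perfect -/
theorem pm2mult_perfect {G : Type u} [Group G]
    (hperf : commutator (G ⧸ Subgroup.center G) = ⊤) :
    commutator (commutator G) = ⊤ := by
  have hle : commutator G ≤ (commutator (commutator G)).map (commutator G).subtype := by
    rw [commutator_eq_closure, Subgroup.closure_le]
    rintro _ ⟨g, h, rfl⟩
    obtain ⟨d₁, hd₁, z₁, hz₁, rfl⟩ := pm2mult_DZ hperf g
    obtain ⟨d₂, hd₂, z₂, hz₂, rfl⟩ := pm2mult_DZ hperf h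
    rw [SetLike.mem_coe, Subgroup.mem_map]
    rw [← commutator_eq_closure] at *
    refine ⟨⁅(⟨d₁, hd₁⟩ : commutator G), ⟨d₂, hd₂⟩⁆, ?_, ?_⟩
    · exact Subgroup.commutator_mem_commutator (Subgroup.mem_top _) (Subgroup.mem_top _)
    · have c1 := Subgroup.mem_center_iff.mp hz₁
      have c2 := Subgroup.mem_center_iff.mp hz₂
      show ⁅d₁, d₂⁆ = ⁅d₁ * z₁, d₂ * z₂⁆
      rw [pm2mult_comm_left _ _ _ c1, pm2mult_comm_right _ _ _ c2]
  rw [eq_top_iff]
  intro w _
  obtain ⟨w', hw', e⟩ := Subgroup.mem_map.mp (hle w.2)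
  have : w' = w := Subtype.ext e
  rw [← this]
  exact hw'

/-- MULT : a finite group whose central quotient is `SL₂(q)`, `q ≠ 4, 9`, splits -/
theorem mult_split {G : Type u} [Group G] [Finite G] {F : Type} [Field F] [Fintype F]
    (h4 : Fintype.card F ≠ 4) (h9 : Fintype.card F ≠ 9)
    (hperf : commutator (G ⧸ Subgroup.center G) = ⊤)
    (φ : G ⧸ Subgroup.center G ≃* Matrix.SpecialLinearGroup (Fin 2) F) :
    Nonempty (G ≃* Matrix.SpecialLinearGroup (Fin 2) F × Subgroup.center G) := by
  set D : Subgroup G := commutator G with hD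
  let σ : D →* Matrix.SpecialLinearGroup (Fin 2) F :=
    (φ.toMonoidHom.comp (QuotientGroup.mk' (Subgroup.center G))).comp D.subtype
  have hσ : ∀ w : D, σ w = φ ((w : G) : G ⧸ Subgroup.center G) := fun w => rfl
  have hker : ∀ w : D, w ∈ σ.ker ↔ (w : G) ∈ Subgroup.center G := by
    intro w
    rw [MonoidHom.mem_ker, hσ, MulEquiv.map_eq_one_iff, QuotientGroup.eq_one_iff]
  have hsurj : Function.Surjective σ := by
    intro s
    obtain ⟨g, hg⟩ := QuotientGroup.mk_surjective (φ.symm s)
    obtain ⟨d, hd, z, hz, rfl⟩ := pm2mult_DZ hperf g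
    refine ⟨⟨d, hd⟩, ?_⟩
    rw [hσ]
    have : ((d * z : G) : G ⧸ Subgroup.center G) = (d : G ⧸ Subgroup.center G) := by
      rw [QuotientGroup.mk_mul, (QuotientGroup.eq_one_iff z).mpr hz, mul_one]
    rw [← this, hg, MulEquiv.apply_symm_apply]
  have hcen : σ.ker ≤ Subgroup.center D := by
    intro w hw
    rw [hker] at hw
    rw [Subgroup.mem_center_iff]
    intro g
    apply Subtype.ext
    exact Subgroup.mem_center_iff.mp hw (g : G)
  have hperfD : commutator D = ⊤ := pm2mult_perfect hperf
  have hder : σ.ker ≤ commutator D := by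
    rw [hperfD]
    exact le_top
  have htriv := Cfsg.Agent.Lib.helper3.sl2_stem_ker_trivial σ hsurj hcen hder h4 h9
  have hinj : Function.Injective σ := by
    rw [injective_iff_map_eq_one]
    intro w hw
    exact htriv w (MonoidHom.mem_ker.mpr hw)
  let σe : D ≃* Matrix.SpecialLinearGroup (Fin 2) F := MulEquiv.ofBijective σ ⟨hinj, hsurj⟩
  let ψ : D × Subgroup.center G →* G :=
    MonoidHom.noncommCoprod D.subtype (Subgroup.center G).subtype (by
      intro d z
      exact (Subgroup.mem_center_iff.mp z.2 (d : G)))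
  have hψ : ∀ d : D, ∀ z : Subgroup.center G, ψ (d, z) = (d : G) * (z : G) := fun d z => rfl
  have hψinj : Function.Injective ψ := by
    rw [injective_iff_map_eq_one]
    rintro ⟨d, z⟩ hdz
    rw [hψ] at hdz
    have hd : (d : G) = (z : G)⁻¹ := eq_inv_of_mul_eq_one_left hdz
    have hdk : d ∈ σ.ker := by
      rw [hker, hd]
      exact Subgroup.inv_mem _ z.2
    have hd1 : d = 1 := htriv d hdk
    have hz1 : z = 1 := by
      apply Subtype.ext
      rw [hd1] at hdz
      simpa using hdz
    rw [hd1, hz1]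
    rfl
  have hψsurj : Function.Surjective ψ := by
    intro g
    obtain ⟨d, hd, z, hz, rfl⟩ := pm2mult_DZ hperf g
    exact ⟨(⟨d, hd⟩, ⟨z, hz⟩), rfl⟩
  exact ⟨(MulEquiv.ofBijective ψ ⟨hψinj, hψsurj⟩).symm.trans
    (MulEquiv.prodCongr σe (MulEquiv.refl _))⟩

end reductions

end Cfsg.Agent.Lib.helper7.PM2
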