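import Mathlib
import Cfsg.Prelude.Def_Characters
import Cfsg.Agent.Lib.helper7.PM2.Defs
import Cfsg.Agent.Lib.helper14.PM2TI1

/-!
# Project PM2 (S4705), piece QC: the quotient by the centre has trivial centre
-/

set_option autoImplicit false
set_option linter.unusedVariables false
set_option linter.unusedSectionVars false

namespace Cfsg.Agent.Lib.helper7.PM2

open scoped ComplexConjugate

universe u

section setting

variable {G : Type u} [Group G] [Fintype G] {p : ℕ} {ζ : G → ℂ} {x : G} {ω : ℂ}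

/-- an element which is central modulo the centre commutes with `x` -/
theorem pm2qc_comm_x (S : Setting p ζ x ω) (g : G)
    (hg : (g : G ⧸ Subgroup.center G) ∈ Subgroup.center (G ⧸ Subgroup.center G)) :
    g * x = x * g := by
  rw [Subgroup.mem_center_iff] at hg
  have h1 := hg (x : G ⧸ Subgroup.center G)
  rw [← QuotientGroup.mk_mul, ← QuotientGroup.mk_mul, QuotientGroup.eq] at h1
  set c := (x * g)⁻¹ * (g * x) with hc
  have hgx : g * x = x * g * c := by
    rw [hc]; group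
  have hcz := Subgroup.mem_center_iff.mp h1
  have hconj : g * x * g⁻¹ = x * c := by
    rw [hgx, mul_assoc x g c, hcz g]
    group
  have hcp : c ^ p = 1 := by
    have e1 : (g * x * g⁻¹) ^ p = 1 := by
      rw [conj_pow, ← S.ordx, pow_orderOf_eq_one, mul_one, mul_inv_cancel]
    rw [hconj] at e1
    have hcomm : Commute x c := hcz x
    rw [hcomm.mul_pow, ← S.ordx, pow_orderOf_eq_one, one_mul, S.ordx] at e1
    exact e1
  have hc1 : c = 1 := by
    by_contra hne
    have hdvd := orderOf_dvd_of_pow_eq_one hcp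
    have ho : orderOf c = p := by
      rcases (Nat.dvd_prime S.hp).mp hdvd with h | h
      · exact absurd (orderOf_eq_one_iff.mp h) hne
      · exact h
    exact pm2ti1_no_central S c h1 ho
  rw [hgx, hc1, mul_one]

/-- QC : the quotient by the centre has trivial centre -/
theorem quot_center (S : Setting p ζ x ω) : Subgroup.center (G ⧸ Subgroup.center G) = ⊥ := by
  rw [eq_bot_iff]
  intro q hq
  obtain ⟨g, rfl⟩ := QuotientGroup.mk_surjective q
  rw [Subgroup.mem_bot, QuotientGroup.eq_one_iff]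
  have hgx := pm2qc_comm_x S g hq
  obtain ⟨m, c', hc', e⟩ := S.cent g hgx
  obtain ⟨τ, hτ⟩ := S.inv
  rw [Subgroup.mem_center_iff] at hq
  have h1 := hq (τ : G ⧸ Subgroup.center G)
  rw [← QuotientGroup.mk_mul, ← QuotientGroup.mk_mul, QuotientGroup.eq] at h1
  have hc'z := Subgroup.mem_center_iff.mp hc'
  have hτ' : τ⁻¹ * x * τ = x⁻¹ := by
    have : x = τ⁻¹ * x⁻¹ * τ := by rw [← hτ]; group
    calc τ⁻¹ * x * τ = (τ⁻¹ * x⁻¹ * τ)⁻¹ := by group
      _ = x⁻¹ := by rw [← this]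
  have hτm : τ⁻¹ * x ^ m * τ = (x ^ m)⁻¹ := by
    have : τ⁻¹ * x ^ m * τ = τ⁻¹ * x ^ m * τ⁻¹⁻¹ := by rw [inv_inv]
    rw [this, ← conj_pow, inv_inv, hτ', inv_pow]
  have h2 : (τ * g)⁻¹ * (g * τ) = ((x ^ m) ^ 2)⁻¹ := by
    rw [e]
    have e1 : (τ * (x ^ m * c'))⁻¹ * (x ^ m * c' * τ) = c'⁻¹ * (x ^ m)⁻¹ * (τ⁻¹ * x ^ m * τ) * c' := by
      rw [mul_assoc (x ^ m) c' τ, ← hc'z τ]
      group
    rw [e1, hτm]
    calc c'⁻¹ * (x ^ m)⁻¹ * (x ^ m)⁻¹ * c' = c'⁻¹ * (((x ^ m)⁻¹ * (x ^ m)⁻¹) * c') := by group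
      _ = c'⁻¹ * (c' * ((x ^ m)⁻¹ * (x ^ m)⁻¹)) := by rw [hc'z]
      _ = (x ^ m)⁻¹ * (x ^ m)⁻¹ := by group
      _ = ((x ^ m) ^ 2)⁻¹ := by rw [pow_two, mul_inv_rev]
  rw [h2] at h1
  have h3 : (x ^ m) ^ 2 ∈ Subgroup.center G := by
    have := Subgroup.inv_mem _ h1
    rwa [inv_inv] at this
  have hpm : p ∣ m := by
    by_contra hpm
    apply pm2ti1_no_central S _ h3
    rw [← pow_mul, orderOf_pow, S.ordx]
    have hcop : Nat.Coprime p (m * 2) := by
      rw [Nat.Prime.coprime_iff_not_dvd S.hp]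
      intro hd
      rcases (Nat.Prime.dvd_mul S.hp).mp hd with h | h
      · exact hpm h
      · have := Nat.le_of_dvd (by norm_num) h
        have := S.hp5
        omega
    rw [Nat.Coprime] at hcop
    rw [hcop, Nat.div_one]
  have hxm : x ^ m = 1 := by
    rw [← S.ordx] at hpm
    exact orderOf_dvd_iff_pow_eq_one.mp hpm
  rw [e, hxm, one_mul]
  exact hc'

end setting

end Cfsg.Agent.Lib.helper7.PM2
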