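import Mathlib
import Cfsg.Agent.Lib.helper14.UBNf

/-!
The unitary group is generated by its upper triangular and its monomial subgroups.
-/

set_option autoImplicit false

namespace Cfsg.Agent.Lib.helper14.UBN

open Matrix

universe u
variable {F : Type u} [Field F] {n : ℕ} {S : SInv F}

/-- the outer indices at level `j` -/
def Out (j : ℕ) (i : Fin n) : Prop := rk i < j ∨ rk (rv i) < j

theorem out_rv {j : ℕ} {i : Fin n} (h : Out j i) : Out j (rv i) := by
  rcases h with h | h
  · right
    rwa [rv_rv]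
  · left
    exact h

/-- elements fixing the outer basis vectors -/
def FixOuter (j : ℕ) (g : ↥(GJ n S)) : Prop := ∀ i, Out j i → mt g *ᵥ bV i = bV i

theorem fixOuter_mul {j : ℕ} {g h : ↥(GJ n S)} (hg : FixOuter j g) (hh : FixOuter j h) :
    FixOuter j (g * h) := by
  intro i hi
  rw [mt_mul_mulVec, hh i hi, hg i hi]

theorem fixOuter_inv {j : ℕ} {g : ↥(GJ n S)} (hg : FixOuter j g) : FixOuter j g⁻¹ := by
  intro i hi
  have := mt_inv_mulVec g (bV i)
  rwa [hg i hi] at this

theorem outer_zero_of_fix {j : ℕ} {g : ↥(GJ n S)} (hg : FixOuter j g) {y : Fin n}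
    (hy : ¬ Out j y) (i : Fin n) (hi : Out j i) : (mt g *ᵥ bV y) i = 0 := by
  have h1 : hJ S (mt g *ᵥ bV y) (bV (rv i)) = (mt g *ᵥ bV y) i := by
    rw [hJ_bV_right, rv_rv]
  rw [← h1, ← hg (rv i) (out_rv hi), mt_form, hJ_bV_bV, rv_rv]
  apply if_neg
  intro e
  rw [e] at hy
  exact hy hi

theorem eich_aux (p : Fin n) (hp : rv p ≠ p) (w : Fin n → F) (h1 : w (rv p) = 1)
    (hiso : hJ S w w = 0) :
    -(w p) + S.σ (-(w p)) =
      hJ S (w - bV (rv p) - w p • bV p) (w - bV (rv p) - w p • bV p) := by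
  obtain ⟨wa, hwa⟩ : ∃ wa : F, wa = w p := ⟨_, rfl⟩
  obtain ⟨z, hz⟩ : ∃ z : Fin n → F, z = w - bV (rv p) - wa • bV p := ⟨_, rfl⟩
  rw [← hwa, ← hz]
  have hza : z p = 0 := by
    rw [hz, Pi.sub_apply, Pi.sub_apply, Pi.smul_apply, bV_apply, bV_apply, if_neg hp.symm,
      if_pos rfl, smul_eq_mul, mul_one, sub_zero, hwa, sub_self]
  have hzc : z (rv p) = 0 := by
    rw [hz, Pi.sub_apply, Pi.sub_apply, Pi.smul_apply, bV_apply, bV_apply, if_pos rfl,
      if_neg hp, smul_eq_mul, mul_zero, sub_zero, h1, sub_self]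
  have hw' : w = bV (rv p) + z + wa • bV p := by
    rw [hz]
    abel
  rw [hw'] at hiso
  have f1 : hJ S (bV (rv p) : Fin n → F) (bV (rv p)) = 0 := by
    rw [hJ_bV_bV, rv_rv, if_neg hp]
  have f2 : hJ S (bV (rv p)) z = 0 := by rw [hJ_bV_left, rv_rv, hza, map_zero]
  have f3 : hJ S (bV (rv p) : Fin n → F) (bV p) = 1 := by rw [hJ_bV_bV, if_pos rfl]
  have f4 : hJ S z (bV (rv p)) = 0 := by rw [hJ_bV_right, rv_rv, hza]
  have f5 : hJ S z (bV p) = 0 := by rw [hJ_bV_right, hzc]
  have f6 : hJ S (bV p : Fin n → F) (bV (rv p)) = 1 := by rw [hJ_bV_bV, rv_rv, if_pos rfl]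
  have f7 : hJ S (bV p) z = 0 := by rw [hJ_bV_left, hzc, map_zero]
  have f8 : hJ S (bV p : Fin n → F) (bV p) = 0 := by rw [hJ_bV_bV, if_neg hp.symm]
  simp only [hJ_add_left, hJ_add_right, hJ_smul_left, hJ_smul_right, f1, f2, f3, f4, f5, f6, f7,
    f8] at hiso
  rw [map_neg]
  linear_combination -hiso

/-- an upper triangular unitary matrix fixing `e_p` with prescribed column `rv p` -/
theorem exists_eich_col (p : Fin n) (hrk : rk p < rk (rv p)) (w : Fin n → F)
    (h1 : w (rv p) = 1) (hiso : hJ S w w = 0) (hout : ∀ i, Out (rk p) i → w i = 0) :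
    ∃ E : ↥(GJ n S), E ∈ BU n S ∧ FixOuter (rk p) E ∧ mt E *ᵥ bV p = bV p ∧
      mt E *ᵥ bV (rv p) = w := by
  have hp : rv p ≠ p := by
    intro e
    rw [e] at hrk
    exact lt_irrefl _ hrk
  have hnp : ¬ Out (rk p) p := by
    rintro (h | h)
    · exact lt_irrefl _ h
    · omega
  have hnp' : ¬ Out (rk p) (rv p) := by
    rintro (h | h)
    · omega
    · rw [rv_rv] at h
      exact lt_irrefl _ h
  obtain ⟨z, hz⟩ : ∃ z : Fin n → F, z = w - bV (rv p) - w p • bV p := ⟨_, rfl⟩
  have hza : z p = 0 := by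
    rw [hz, Pi.sub_apply, Pi.sub_apply, Pi.smul_apply, bV_apply, bV_apply, if_neg hp.symm,
      if_pos rfl, smul_eq_mul, mul_one, sub_zero, sub_self]
  have hzc : z (rv p) = 0 := by
    rw [hz, Pi.sub_apply, Pi.sub_apply, Pi.smul_apply, bV_apply, bV_apply, if_pos rfl,
      if_neg hp, smul_eq_mul, mul_zero, sub_zero, h1, sub_self]
  have hzout : ∀ i, Out (rk p) i → z i = 0 := by
    intro i hi
    have e1 : i ≠ rv p := fun e => hnp' (e ▸ hi)
    have e2 : i ≠ p := fun e => hnp (e ▸ hi)
    rw [hz, Pi.sub_apply, Pi.sub_apply, Pi.smul_apply, bV_apply, bV_apply, if_neg e1, if_neg e2,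
      hout i hi, smul_zero, sub_zero, sub_zero]
  have hβ : -(w p) + S.σ (-(w p)) = hJ S z z := by
    rw [hz]
    exact eich_aux p hp w h1 hiso
  refine ⟨eichG p z (-(w p)) hp hzc hβ, ?_, ?_, ?_, ?_⟩
  · intro x y hxy
    have hne : x ≠ y := fun e => by rw [e] at hxy; exact lt_irrefl _ hxy
    rw [eichG_apply, if_neg hne, zero_add]
    have t1 : z x * (if y = rv p then (1 : F) else 0) = 0 := by
      by_cases hy : y = rv p
      · rw [hy] at hxy
        have : Out (rk p) x := by
          right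
          have := rk_add_rv x
          have := rk_add_rv p
          omega
        rw [hzout x this, zero_mul]
      · rw [if_neg hy, mul_zero]
    have t2 : (if x = p then (1 : F) else 0) *
        (S.σ (z (rv y)) + -(w p) * (if y = rv p then 1 else 0)) = 0 := by
      by_cases hx : x = p
      · rw [hx] at hxy
        have hy : Out (rk p) y := Or.inl hxy
        have hy' : y ≠ rv p := fun e => hnp' (e ▸ hy)
        rw [hzout _ (out_rv hy), map_zero, if_neg hy', mul_zero, add_zero, mul_zero]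
      · rw [if_neg hx, zero_mul]
    rw [t1, t2, sub_zero]
  · intro i hi
    apply eichG_fix
    · rw [bV_apply]
      apply if_neg
      intro e
      exact hnp' (e ▸ hi)
    · rw [hJ_bV_left, hzout _ (out_rv hi), map_zero]
  · apply eichG_fix
    · rw [bV_apply, if_neg hp]
    · rw [hJ_bV_left, hzc, map_zero]
  · rw [eichG_col, hza, map_zero, zero_add, hz]
    simp only [neg_smul]
    abel

/-- the index of maximal rank in the support of an isotropic vector is not fixed by `rv` -/
theorem rv_ne_of_max_supp (v : Fin n → F) (hvv : hJ S v v = 0) (t : Fin n) (ht : v t ≠ 0)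
    (hmax : ∀ i, v i ≠ 0 → rk i ≤ rk t) : rv t ≠ t := by
  intro e
  unfold hJ at hvv
  rw [Finset.sum_eq_single t] at hvv
  · rw [e] at hvv
    rcases mul_eq_zero.mp hvv with h | h
    · exact ht h
    · exact ht (sigma_eq_zero h)
  · intro i _ hit
    have hne : rk i ≠ rk t := fun h => hit (rk_injective h)
    rcases lt_or_gt_of_ne hne with h | h
    · have h2 : v (rv i) = 0 := by
        by_contra h3
        have h4 := hmax _ h3
        have h5 := rk_add_rv i
        have h6 := rk_add_rv t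
        rw [e] at h6
        omega
      rw [h2, map_zero, mul_zero]
    · have h2 : v i = 0 := by
        by_contra h3
        have h4 := hmax _ h3
        omega
      rw [h2, zero_mul]
  · intro h
    exact absurd (Finset.mem_univ _) h

theorem monoU_tauP_fixOuter {j : ℕ} {a c : Fin n} (hac : a ≠ c) (ha : rv a ≠ a) (hc : rv c ≠ c)
    (ha' : ¬ Out j a) (hc' : ¬ Out j c) :
    FixOuter j (monoU (S := S) (tauP a c hac ha hc) (RvC_tauP hac ha hc)) := by
  intro i hi
  rw [monoU_mulVec_bV, tauP_apply, tauF_of_ne]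
  · intro e; exact ha' (e ▸ hi)
  · intro e; exact hc' (e ▸ hi)
  · intro e
    apply ha'
    have := out_rv hi
    rwa [e, rv_rv] at this
  · intro e
    apply hc'
    have := out_rv hi
    rwa [e, rv_rv] at this

/-- moving a nonzero coordinate of an isotropic vector to the position `rv p` -/
theorem exists_move (p : Fin n) (hrk : rk p < rk (rv p)) (v : Fin n → F) (hvv : hJ S v v = 0)
    (hv : v ≠ 0) (hout : ∀ i, Out (rk p) i → v i = 0) :
    ∃ ν : ↥(GJ n S), ν ∈ NU n S ∧ FixOuter (rk p) ν ∧ (mt ν *ᵥ v) (rv p) ≠ 0 := by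
  classical
  by_cases h0 : v (rv p) ≠ 0
  · refine ⟨1, (NU n S).one_mem, ?_, ?_⟩
    · intro i _
      rw [mt_one_mulVec]
    · rw [mt_one_mulVec]
      exact h0
  · push_neg at h0
    have hne : (Finset.univ.filter (fun i : Fin n => v i ≠ 0)).Nonempty := by
      obtain ⟨x, hx⟩ := Function.ne_iff.mp hv
      exact ⟨x, Finset.mem_filter.2 ⟨Finset.mem_univ _, hx⟩⟩
    obtain ⟨t, ht, hmax⟩ := Finset.exists_max_image _ (fun i : Fin n => rk i) hne
    have ht' : v t ≠ 0 := (Finset.mem_filter.1 ht).2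
    have hmax' : ∀ i, v i ≠ 0 → rk i ≤ rk t := fun i hi =>
      hmax i (Finset.mem_filter.2 ⟨Finset.mem_univ _, hi⟩)
    have hrt : rv t ≠ t := rv_ne_of_max_supp v hvv t ht' hmax'
    have htp : t ≠ rv p := fun e => ht' (e ▸ h0)
    have hp : rv (rv p) ≠ rv p := by
      rw [rv_rv]
      intro e
      rw [← e] at hrk
      exact lt_irrefl _ hrk
    have hnt : ¬ Out (rk p) t := fun h => ht' (hout t h)
    have hnp' : ¬ Out (rk p) (rv p) := by
      rintro (h | h)
      · omega
      · rw [rv_rv] at h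
        exact lt_irrefl _ h
    refine ⟨monoU (tauP t (rv p) htp hrt hp) (RvC_tauP htp hrt hp), monoU_mem_NU _ _,
      monoU_tauP_fixOuter htp hrt hp hnt hnp', ?_⟩
    rw [monoU_mulVec, tauP_symm_apply, tauF_right htp]
    exact ht'

/-- mapping an isotropic vector with nonzero coordinate at `rv p` to `e_p` -/
theorem exists_map_of_ne (p : Fin n) (hrk : rk p < rk (rv p)) (v : Fin n → F)
    (hvv : hJ S v v = 0) (h0 : v (rv p) ≠ 0) (hout : ∀ i, Out (rk p) i → v i = 0) :
    ∃ h : ↥(GJ n S), h ∈ BU n S ⊔ NU n S ∧ FixOuter (rk p) h ∧ mt h *ᵥ v = bV p := by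
  have hp : rv p ≠ p := by
    intro e
    rw [e] at hrk
    exact lt_irrefl _ hrk
  have hp' : rv (rv p) ≠ rv p := by
    rw [rv_rv]
    exact hp.symm
  have hnp : ¬ Out (rk p) p := by
    rintro (h | h)
    · exact lt_irrefl _ h
    · omega
  have hnp' : ¬ Out (rk p) (rv p) := by
    rintro (h | h)
    · omega
    · rw [rv_rv] at h
      exact lt_irrefl _ h
  obtain ⟨E, hEB, hEF, _, hEc⟩ := exists_eich_col (S := S) p hrk ((v (rv p))⁻¹ • v)
    (by rw [Pi.smul_apply, smul_eq_mul, inv_mul_cancel₀ h0])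
    (by rw [hJ_smul_left, hJ_smul_right, hvv, mul_zero, mul_zero])
    (by
      intro i hi
      rw [Pi.smul_apply, hout i hi, smul_zero])
  -- `E⁻¹ v = v_{rv p} e_{rv p}`
  have h1 : mt E⁻¹ *ᵥ v = v (rv p) • bV (rv p) := by
    have e1 : v = v (rv p) • ((v (rv p))⁻¹ • v) := by
      rw [smul_smul, mul_inv_cancel₀ h0, one_smul]
    conv_lhs => rw [e1, ← hEc]
    rw [Matrix.mulVec_smul, mt_inv_mulVec]
  -- the reflection exchanging `p` and `rv p`
  set ν : ↥(GJ n S) := monoU (tauP p (rv p) hp.symm hp hp') (RvC_tauP hp.symm hp hp') with hν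
  have hνF : FixOuter (rk p) ν := monoU_tauP_fixOuter hp.symm hp hp' hnp hnp'
  have h2 : mt ν *ᵥ bV (rv p) = bV p := by
    rw [hν, monoU_mulVec_bV, tauP_apply, tauF_right hp.symm]
  -- the torus element
  set d : Fin n → F := fun i => if i = p then (v (rv p))⁻¹ else if i = rv p then S.σ (v (rv p))
    else 1 with hd
  have hdd : ∀ i, d i * S.σ (d (rv i)) = 1 := by
    intro i
    rw [hd]
    show (if i = p then (v (rv p))⁻¹ else if i = rv p then S.σ (v (rv p)) else 1) *
      S.σ (if rv i = p then (v (rv p))⁻¹ else if rv i = rv p then S.σ (v (rv p)) else 1) = 1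
    by_cases e1 : i = p
    · have e2 : rv i ≠ p := by rw [e1]; exact hp
      have e3 : rv i = rv p := by rw [e1]
      rw [if_pos e1, if_neg e2, if_pos e3, S.invol, inv_mul_cancel₀ h0]
    · by_cases e2 : i = rv p
      · have e3 : rv i = p := by rw [e2, rv_rv]
        rw [if_neg e1, if_pos e2, if_pos e3, ← map_mul, mul_inv_cancel₀ h0, map_one]
      · have e3 : rv i ≠ p := fun e => e2 (by rw [← e, rv_rv])
        have e4 : rv i ≠ rv p := fun e => e1 (rv_inj e)
        rw [if_neg e1, if_neg e2, if_neg e3, if_neg e4, map_one, mul_one]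
  have hdF : FixOuter (rk p) (diagU (S := S) d hdd) := by
    intro i hi
    ext x
    rw [diagU_mulVec, bV_apply]
    by_cases hx : x = i
    · have e1 : x ≠ p := fun e => hnp ((hx.symm.trans e) ▸ hi)
      have e2 : x ≠ rv p := fun e => hnp' ((hx.symm.trans e) ▸ hi)
      rw [if_pos hx, mul_one, hd]
      show (if x = p then (v (rv p))⁻¹ else if x = rv p then S.σ (v (rv p)) else 1) = 1
      rw [if_neg e1, if_neg e2]
    · rw [if_neg hx, mul_zero]
  refine ⟨diagU d hdd * ν * E⁻¹, ?_, fixOuter_mul (fixOuter_mul hdF hνF) (fixOuter_inv hEF), ?_⟩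
  · apply Subgroup.mul_mem _ (Subgroup.mul_mem _ _ _) _
    · exact Subgroup.mem_sup_left (diagU_mem_TU d hdd).1
    · exact Subgroup.mem_sup_right (monoU_mem_NU _ _)
    · exact Subgroup.mem_sup_left ((BU n S).inv_mem hEB)
  · rw [mt_mul_mulVec, mt_mul_mulVec, h1, Matrix.mulVec_smul, h2, Matrix.mulVec_smul]
    ext x
    rw [Pi.smul_apply, diagU_mulVec, bV_apply, smul_eq_mul]
    by_cases hx : x = p
    · rw [if_pos hx, mul_one, hd]
      show v (rv p) * (if x = p then (v (rv p))⁻¹ else if x = rv p then S.σ (v (rv p)) else 1) = 1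
      rw [if_pos hx, mul_inv_cancel₀ h0]
    · rw [if_neg hx, mul_zero, mul_zero]

theorem gen_aux : ∀ d j : ℕ, j + d = n / 2 → ∀ g : ↥(GJ n S), FixOuter j g →
    g ∈ BU n S ⊔ NU n S := by
  intro d
  induction d with
  | zero =>
    intro j hj g hg
    apply Subgroup.mem_sup_left
    apply up_of_isMono_one
    intro x y hxy
    rw [Equiv.Perm.one_apply]
    by_contra hne
    apply hxy
    rw [← mulVec_bV (mt g) y x]
    by_cases hy : Out j y
    · rw [hg y hy, bV_apply, if_neg hne]
    · apply outer_zero_of_fix hg hy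
      have h1 := rk_add_rv x
      have h2 := rk_add_rv y
      have h3 : rk x ≠ rk y := fun e => hne (rk_injective e)
      unfold Out at hy ⊢
      push_neg at hy
      omega
  | succ d ih =>
    intro j hj g hg
    have hjn : j < n := by omega
    set p : Fin n := ⟨j, hjn⟩ with hp
    have hrkp : rk p = j := rfl
    have hrk : rk p < rk (rv p) := by
      have := rk_add_rv p
      omega
    have hpne : rv p ≠ p := by
      intro e
      rw [e] at hrk
      exact lt_irrefl _ hrk
    have hnp : ¬ Out j p := by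
      rintro (h | h)
      · rw [hrkp] at h
        exact lt_irrefl _ h
      · omega
    have hnp' : ¬ Out j (rv p) := by
      rintro (h | h)
      · omega
      · rw [rv_rv, hrkp] at h
        exact lt_irrefl _ h
    -- first column
    have hv0 : ∀ i, Out (rk p) i → (mt g *ᵥ bV p) i = 0 := fun i hi =>
      outer_zero_of_fix hg hnp i hi
    have hvv : hJ S (mt g *ᵥ bV p) (mt g *ᵥ bV p) = 0 := by
      rw [mt_form, hJ_bV_bV, if_neg hpne.symm]
    have hvne : mt g *ᵥ bV p ≠ 0 := by
      intro e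
      have h1 := mt_inv_mulVec g (bV p)
      rw [e, Matrix.mulVec_zero] at h1
      have h2 := congrFun h1 p
      rw [Pi.zero_apply, bV_apply, if_pos rfl] at h2
      exact zero_ne_one h2
    obtain ⟨ν, hνN, hνF, hν0⟩ := exists_move p hrk (mt g *ᵥ bV p) hvv hvne hv0
    have hv0' : ∀ i, Out (rk p) i → (mt ν *ᵥ (mt g *ᵥ bV p)) i = 0 := by
      intro i hi
      rw [← mt_mul_mulVec]
      exact outer_zero_of_fix (fixOuter_mul hνF hg) hnp i hi
    have hvv' : hJ S (mt ν *ᵥ (mt g *ᵥ bV p)) (mt ν *ᵥ (mt g *ᵥ bV p)) = 0 := by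
      rw [mt_form, hvv]
    obtain ⟨h, hhH, hhF, hhv⟩ := exists_map_of_ne p hrk _ hvv' hν0 hv0'
    set g1 : ↥(GJ n S) := h * ν * g with hg1
    have hg1F : FixOuter j g1 := fixOuter_mul (fixOuter_mul hhF hνF) hg
    have hg1p : mt g1 *ᵥ bV p = bV p := by
      rw [hg1, mt_mul_mulVec, mt_mul_mulVec, hhv]
    -- second column
    have hw1 : (mt g1 *ᵥ bV (rv p)) (rv p) = 1 := by
      have h1 : hJ S (mt g1 *ᵥ bV (rv p)) (bV p) = (mt g1 *ᵥ bV (rv p)) (rv p) := by
        rw [hJ_bV_right]
      rw [← h1]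
      conv_lhs => rw [← hg1p]
      rw [mt_form, hJ_bV_bV, if_pos rfl]
    have hww : hJ S (mt g1 *ᵥ bV (rv p)) (mt g1 *ᵥ bV (rv p)) = 0 := by
      rw [mt_form, hJ_bV_bV, rv_rv, if_neg hpne]
    have hw0 : ∀ i, Out (rk p) i → (mt g1 *ᵥ bV (rv p)) i = 0 := fun i hi =>
      outer_zero_of_fix hg1F hnp' i hi
    obtain ⟨E, hEB, hEF, hEp, hEc⟩ := exists_eich_col p hrk _ hw1 hww hw0
    set g2 : ↥(GJ n S) := E⁻¹ * g1 with hg2
    have hg2F : FixOuter (j + 1) g2 := by
      intro i hi
      by_cases hi' : Out j i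
      · exact fixOuter_mul (fixOuter_inv hEF) hg1F i hi'
      · have hcase : i = p ∨ i = rv p := by
          unfold Out at hi hi'
          push_neg at hi'
          rcases hi with h | h
          · left
            apply rk_injective
            rw [hrkp]
            omega
          · right
            apply rv_inj
            rw [rv_rv]
            apply rk_injective
            rw [hrkp]
            omega
        rcases hcase with e | e
        · rw [e, hg2, mt_mul_mulVec, hg1p]
          have := mt_inv_mulVec E (bV p)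
          rwa [hEp] at this
        · rw [e, hg2, mt_mul_mulVec, ← hEc, mt_inv_mulVec]
    have hg2H := ih (j + 1) (by omega) g2 hg2F
    have e : g = ν⁻¹ * h⁻¹ * E * g2 := by
      rw [hg2, hg1]
      group
    rw [e]
    apply Subgroup.mul_mem _ (Subgroup.mul_mem _ (Subgroup.mul_mem _ _ _) _) hg2H
    · exact Subgroup.inv_mem _ (Subgroup.mem_sup_right hνN)
    · exact Subgroup.inv_mem _ hhH
    · exact Subgroup.mem_sup_left hEB

theorem BU_sup_NU : BU n S ⊔ NU n S = ⊤ := by
  rw [eq_top_iff]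
  intro g _
  apply gen_aux (n / 2) 0 (by omega) g
  intro i hi
  rcases hi with h | h
  · exact absurd h (Nat.not_lt_zero _)
  · exact absurd h (Nat.not_lt_zero _)

end Cfsg.Agent.Lib.helper14.UBN
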