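import Mathlib
import Cfsg.Agent.Lib.helper14.UBNg
import Cfsg.Agent.Lib.helper14.BNCells

/-!
The (B,N)-pair of the unitary group, ascents and descents, and the longest element.
-/

set_option autoImplicit false

namespace Cfsg.Agent.Lib.helper14.UBN

open Matrix
open Cfsg.Agent.Lib.helper3 Cfsg.Agent.Lib.helper14

universe u
variable {F : Type u} [Field F] {n : ℕ} {S : SInv F}

/-- the extra hypothesis: a nonzero element of trace zero -/
def HasSkew (S : SInv F) : Prop := ∃ β : F, β ≠ 0 ∧ β + S.σ β = 0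

/-- a block unipotent element with nonzero `(a,c)` entry -/
theorem exists_uNode (hS : HasSkew S) (k : Fin (n / 2)) :
    ∃ u : ↥(GJ n S), IsUk k (mt u) ∧ mt u (pa k) (pc k) ≠ 0 ∧ ∀ x, mt u x x = 1 := by
  obtain ⟨β, hβ0, hβ⟩ := hS
  have hac := pa_ne_pc k
  have hcol : IsCol S k (bV (pc k) + β • bV (pa k)) := by
    refine ⟨?_, ?_, ?_⟩
    · rw [Pi.add_apply, Pi.smul_apply, bV_apply, bV_apply, if_pos rfl, if_neg hac.symm, smul_zero,
        add_zero]
    · intro z hz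
      have h1 : z ≠ pc k := fun e => hz (e ▸ rks_pc k)
      have h2 : z ≠ pa k := fun e => hz (e ▸ rks_pa k)
      rw [Pi.add_apply, Pi.smul_apply, bV_apply, bV_apply, if_neg h1, if_neg h2, smul_zero,
        add_zero]
    · simp only [hJ_add_left, hJ_add_right, hJ_smul_left, hJ_smul_right, hJ_bV_bV]
      rw [if_neg (rv_pc_ne k).symm, if_neg (rv_pa_ne k).symm]
      by_cases h : pc k = rv (pa k)
      · have h' : pa k = rv (pc k) := by rw [h, rv_rv]
        rw [if_pos h, if_pos h']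
        linear_combination hβ
      · have h' : pa k ≠ rv (pc k) := fun e => h (by rw [e, rv_rv])
        rw [if_neg h, if_neg h']
        ring
  obtain ⟨E, hE1, hE2, _, hE4⟩ := exists_uPre k _ hcol
  refine ⟨E, hE1, ?_, hE4⟩
  rw [← mulVec_bV (mt E) (pc k) (pa k), hE2, Pi.add_apply, Pi.smul_apply, bV_apply, bV_apply,
    if_neg hac, if_pos rfl, smul_eq_mul, mul_one, zero_add]
  exact hβ0

theorem conj_torus_mem (m t : ↥(GJ n S)) (hm : m ∈ NU n S) (ht : t ∈ BU n S ⊓ NU n S) :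
    m * t * m⁻¹ ∈ BU n S := by
  obtain ⟨π, hπ, hmm⟩ := hm
  have ht' := (mem_TU_iff t).1 ht
  apply up_of_isMono_one
  have := isMono_mul (isMono_mul hmm ht') (isMono_inv m hπ hmm)
  rw [mul_one, mul_inv_cancel] at this
  rw [mt_mul, mt_mul]
  exact this

theorem sRef_injective_mod (k k' : Fin (n / 2))
    (h : (sRef (S := S) k)⁻¹ * sRef k' ∈ BU n S) : k = k' := by
  have hmono : IsMono (mt ((sRef (S := S) k)⁻¹ * sRef k')) (tauS k * tauS k') := by
    rw [mt_mul]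
    exact isMono_mul (isMono_sRef_inv k) (isMono_sRef k')
  have h1 := isMono_one_of_up _ h hmono
  have h2 : tauS k' = tauS k := by
    have : tauS k * (tauS k * tauS k') = tauS k * 1 := by rw [h1]
    rw [← mul_assoc, tauS_mul_self, one_mul, mul_one] at this
    exact this
  have h3 : rks k' (tauS k' (pa k)) = rks k' (pa k) := rks_tauS k' (pa k)
  rw [h2, tauS_pa] at h3
  have hk := k.2
  have hk' := k'.2
  have h4 := rk_lt (pc k)
  unfold rks at h3
  rw [rk_pa] at h3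
  apply Fin.ext
  rcases pc_cases k with ⟨h5, h6⟩ | ⟨h5, _, h6⟩ <;>
    rcases pc_cases k' with ⟨h7, h8⟩ | ⟨h7, _, h8⟩ <;> split_ifs at h3 <;> omega

theorem sRef_conj_apply_ca (k : Fin (n / 2)) (M : Matrix (Fin n) (Fin n) F) :
    (mt (sRef (S := S) k) * M * mt (sRef (S := S) k)) (pc k) (pa k) = M (pa k) (pc k) := by
  rw [sRef_conj_apply, tauS_pc, tauS_pa]

theorem sRef_conj_ne (hS : HasSkew S) (k : Fin (n / 2)) :
    (fun b : ↥(GJ n S) => sRef k * b * sRef k) '' (BU n S : Set ↥(GJ n S)) ≠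
      (BU n S : Set ↥(GJ n S)) := by
  intro h
  obtain ⟨u, hu1, hu2, _⟩ := exists_uNode hS k
  have h1 : sRef (S := S) k * u * sRef k ∈ (BU n S : Set ↥(GJ n S)) := by
    rw [← h]
    exact ⟨u, up_of_isUk k u hu1, rfl⟩
  have h2 : rk (pa k) < rk (pc k) := rk_pa_lt_pc k
  have h3 := h1 h2
  rw [mt_mul, mt_mul, sRef_conj_apply_ca] at h3
  exact hu2 h3

theorem rk_neg_or_pos (k : Fin (n / 2)) (π : Equiv.Perm (Fin n)) :
    rk (π.symm (pa k)) < rk (π.symm (pc k)) ∨ rk (π.symm (pc k)) < rk (π.symm (pa k)) := by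
  have hne : rk (π.symm (pc k)) ≠ rk (π.symm (pa k)) := by
    intro e
    exact pa_ne_pc k (π.symm.injective (rk_injective e)).symm
  omega

theorem gu_mul_mem_union (k : Fin (n / 2)) (m : ↥(GJ n S)) (hm : m ∈ NU n S)
    (b : ↥(GJ n S)) (hb : b ∈ BU n S) :
    sRef k * b * m ∈ DoubleCoset.doubleCoset (sRef k * m)
        (BU n S : Set ↥(GJ n S)) (BU n S) ∪
      DoubleCoset.doubleCoset m (BU n S : Set ↥(GJ n S)) (BU n S) := by
  obtain ⟨π, hπ, hmm⟩ := hm
  rcases rk_neg_or_pos k π with hpos | hneg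
  · left
    obtain ⟨b1, hb1, b2, hb2, e⟩ := bn_P1 k m hπ hmm hpos b hb
    exact DoubleCoset.mem_doubleCoset.2 ⟨b1, hb1, b2, hb2, e⟩
  · by_cases hac : mt b (pa k) (pc k) = 0
    · left
      refine DoubleCoset.mem_doubleCoset.2 ⟨sRef k * b * (sRef k)⁻¹,
        sRef_conj_mem k b hb (col_reduced k b hb hac), 1, (BU n S).one_mem, ?_⟩
      group
    · right
      obtain ⟨b1, hb1, b2, hb2, e⟩ := bn_caseB k m hπ hmm hneg b hb hac
      exact DoubleCoset.mem_doubleCoset.2 ⟨b1, hb1, b2, hb2, e⟩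

/-- the (B,N)-pair of the unitary group -/
def guBN (hS : HasSkew S) : Cfsg.BNPair ↥(GJ n S) where
  B := BU n S
  N := NU n S
  S := SSet n S
  sup_eq_top := BU_sup_NU
  conj_mem := fun m hm t ht => conj_torus_mem m t hm ht
  subset := SSet_subset_NU
  sq_mem := by
    rintro _ ⟨k, rfl⟩
    show sRef k * sRef k ∈ BU n S
    rw [sRef_mul_self]
    exact (BU n S).one_mem
  inj := by
    rintro _ ⟨k, rfl⟩ _ ⟨k', rfl⟩ h
    show sRef k = sRef k'
    rw [sRef_injective_mod k k' h]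
  closure_sup := closure_SSet_sup
  mul_mem_union := by
    rintro _ ⟨k, rfl⟩ m hm b hb
    exact gu_mul_mem_union k m hm b hb
  conj_ne := by
    rintro _ ⟨k, rfl⟩
    exact sRef_conj_ne hS k

theorem Pp_of_pos (hS : HasSkew S) (k : Fin (n / 2)) (m : ↥(GJ n S))
    {π : Equiv.Perm (Fin n)} (hπ : RvC π) (hmm : IsMono (mt m) π)
    (hpos : rk (π.symm (pa k)) < rk (π.symm (pc k))) :
    Pp (guBN (n := n) hS) (sRef k) m := by
  intro b hb
  obtain ⟨b1, hb1, b2, hb2, e⟩ := bn_P1 k m hπ hmm hpos b hb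
  exact mem_dc.2 ⟨b1, hb1, b2, hb2, e⟩

theorem not_Pp_of_neg (hS : HasSkew S) (k : Fin (n / 2)) (m : ↥(GJ n S))
    {π : Equiv.Perm (Fin n)} (hπ : RvC π) (hmm : IsMono (mt m) π)
    (hneg : rk (π.symm (pc k)) < rk (π.symm (pa k))) :
    ¬ Pp (guBN (n := n) hS) (sRef k) m := by
  intro hP
  obtain ⟨u, hu1, hu2, _⟩ := exists_uNode hS k
  have huB : u ∈ BU n S := up_of_isUk k u hu1
  have h1 := hP u huB
  obtain ⟨b1, hb1, b2, hb2, e⟩ := bn_caseB k m hπ hmm hneg u huB hu2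
  have h2 : sRef k * u * m ∈ dc (guBN (n := n) hS) m := mem_dc.2 ⟨b1, hb1, b2, hb2, e⟩
  have hs : sRef k ∈ (guBN (n := n) hS).S := sRef_mem_SSet k
  have hm : m ∈ (guBN (n := n) hS).N := ⟨π, hπ, hmm⟩
  exact dc_s_mul_ne hs hm ((dc_eq_of_mem h1).symm.trans (dc_eq_of_mem h2))

/-- the longest element -/
def nLong (n : ℕ) (S : SInv F) : ↥(GJ n S) := monoU (rvPerm n) RvC_rvPerm

theorem isMono_nLong : IsMono (mt (nLong n S)) (rvPerm n) := isMono_monoU _ _

theorem nLong_mem_NU : nLong n S ∈ NU n S := monoU_mem_NU _ _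

theorem nLong_mem_N (hS : HasSkew S) : nLong n S ∈ (guBN (n := n) hS).N := nLong_mem_NU

theorem nLong_h1 (hS : HasSkew S) :
    ∀ s ∈ (guBN (n := n) hS).S, ¬ Pp (guBN (n := n) hS) s (nLong n S)⁻¹ := by
  rintro _ ⟨k, rfl⟩
  apply not_Pp_of_neg hS k _ (RvC_inv RvC_rvPerm) (isMono_inv _ RvC_rvPerm isMono_nLong)
  show rk (rv (pc k)) < rk (rv (pa k))
  rw [rk_rv_lt_iff]
  exact rk_pa_lt_pc k

theorem nLong_h1' (hS : HasSkew S) :
    ∀ s ∈ (guBN (n := n) hS).S, ¬ Pp (guBN (n := n) hS) s (nLong n S) := by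
  rintro _ ⟨k, rfl⟩
  apply not_Pp_of_neg hS k _ RvC_rvPerm isMono_nLong
  show rk (rv (pc k)) < rk (rv (pa k))
  rw [rk_rv_lt_iff]
  exact rk_pa_lt_pc k

theorem nLong_h2 (hS : HasSkew S) :
    ∀ m ∈ (guBN (n := n) hS).N, (∀ s ∈ (guBN (n := n) hS).S, ¬ Pp (guBN (n := n) hS) s m) →
      LAsc (guBN (n := n) hS) (guBN (n := n) hS).S (m * nLong n S) := by
  rintro m ⟨π, hπ, hmm⟩ hnot
  have hall : ∀ k : Fin (n / 2), rk (π.symm (pc k)) < rk (π.symm (pa k)) := by
    intro k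
    rcases rk_neg_or_pos k π with hpos | hneg
    · exact absurd (Pp_of_pos hS k m hπ hmm hpos) (hnot _ (sRef_mem_SSet k))
    · exact hneg
  have h1 : π.symm = rvPerm n := perm_eq_rv_of_simple π.symm (RvC_inv hπ) hall
  have h2 : π = rvPerm n := by
    have := congrArg Equiv.symm h1
    rw [Equiv.symm_symm, rvPerm_symm] at this
    exact this
  have hmono : IsMono (mt (m * nLong n S)) 1 := by
    have := isMono_mul hmm (isMono_nLong (n := n) (S := S))
    rw [h2, rvPerm_mul_self] at this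
    rw [mt_mul]
    exact this
  rintro _ ⟨k, rfl⟩
  apply Pp_of_pos hS k (m * nLong n S) RvC_one hmono
  show rk (pa k) < rk (pc k)
  exact rk_pa_lt_pc k

/-- enumeration of the simple reflections -/
def sigmaS (n : ℕ) (S : SInv F) (i : ℕ) : ↥(GJ n S) :=
  if h : i < n / 2 then sRef ⟨i, h⟩ else 1

theorem sigmaS_mem (hS : HasSkew S) : ∀ i < n / 2, sigmaS n S i ∈ (guBN (n := n) hS).S := by
  intro i hi
  unfold sigmaS
  rw [dif_pos hi]
  exact sRef_mem_SSet _

theorem sigmaS_surj (hS : HasSkew S) :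
    ∀ s ∈ (guBN (n := n) hS).S, ∃ i < n / 2, sigmaS n S i = s := by
  rintro _ ⟨k, rfl⟩
  refine ⟨k.val, k.2, ?_⟩
  unfold sigmaS
  rw [dif_pos k.2]

end Cfsg.Agent.Lib.helper14.UBN
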