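import Mathlib
import Cfsg.Agent.Lib.helper17.T3.Defs
import Cfsg.Agent.Lib.Helper19.T3A.Defs
import Cfsg.Agent.Lib.Helper19.T3A.Comb

/-!
# T3A rows D1 D2 D3 (helper14): the monomial calculus — `isMon_one`, `IsMon.mul`, `IsMon.inv`
-/

set_option autoImplicit false

namespace Cfsg.Agent.Lib.helper17.T3

open Matrix Cfsg.Agent.Lib.helper15.St2 Cfsg.Agent.Lib.helper7.Ce Cfsg.Agent.Lib.Helper19.T3A

variable {F K : Type*} [Field F] [Field K] [Algebra F K]

namespace SysT

variable {C : Cub F K} {Γ : Type*} [Group Γ] (Q : SysT C Γ)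

theorem isMon_one : Q.IsMon 1 W.one := by
  refine ⟨fun _ => 1, fun _ => 1, fun _ => one_ne_zero, fun _ => one_ne_zero, fun _ => by simp,
    fun _ => by simp, ?_, ?_⟩
  · intro j u
    rw [cj_one_left, actS_one, one_mul]
  · intro j c
    rw [cj_one_left, actL_one, one_mul]

theorem IsMon.mul {g g' : Γ} {w w' : W} (h : Q.IsMon g w) (h' : Q.IsMon g' w') : Q.IsMon (g * g') (W.mul w w') := by
  obtain ⟨a, b, ha, hb, ha3, hb3, hs, hl⟩ := h
  obtain ⟨a', b', ha', hb', ha3', hb3', hs', hl'⟩ := h'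
  refine ⟨fun j => a (actS w' j) * a' j, fun j => b (actL w' j) * b' j,
    fun j => mul_ne_zero (ha _) (ha' _), fun j => mul_ne_zero (hb _) (hb' _), ?_, ?_, ?_, ?_⟩
  · intro j
    simp only
    rw [(act_add_three w' j).1, ha3, ha3', mul_inv]
  · intro j
    simp only
    rw [(act_add_three w' j).2, hb3, hb3', mul_inv]
  · intro j u
    rw [← cj_cj, hs', hs, actS_mul, mul_assoc]
  · intro j c
    rw [← cj_cj, hl', hl, actL_mul, mul_assoc]

theorem IsMon.inv {g : Γ} {w : W} (h : Q.IsMon g w) : Q.IsMon g⁻¹ (W.inv w) := by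
  obtain ⟨a, b, ha, hb, ha3, hb3, hs, hl⟩ := h
  refine ⟨fun k => (a (actS (W.inv w) k))⁻¹, fun k => (b (actL (W.inv w) k))⁻¹,
    fun k => inv_ne_zero (ha _), fun k => inv_ne_zero (hb _), ?_, ?_, ?_, ?_⟩
  · intro k
    simp only
    rw [(act_add_three (W.inv w) k).1, ha3]
  · intro k
    simp only
    rw [(act_add_three (W.inv w) k).2, hb3]
  · intro k u
    apply cj_inv_of
    rw [hs, (actS_inv w k).1, ← mul_assoc, mul_inv_cancel₀ (ha _), one_mul]
  · intro k c
    apply cj_inv_of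
    rw [hl, (actL_inv w k).1, ← mul_assoc, mul_inv_cancel₀ (hb _), one_mul]

end SysT

end Cfsg.Agent.Lib.helper17.T3
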