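import Mathlib
import Cfsg.Agent.Lib.helper17.T3.Defs
import Cfsg.Agent.Lib.Helper19.T3A.Defs
import Cfsg.Agent.Lib.Helper19.T3A.Comb

/-!
# T3A rows D4 D5 (helper14): the Weyl elements `ws k t`, `wl k c` are monomial
-/

set_option autoImplicit false

namespace Cfsg.Agent.Lib.helper17.T3

open Matrix Cfsg.Agent.Lib.helper15.St2 Cfsg.Agent.Lib.helper7.Ce Cfsg.Agent.Lib.Helper19.T3A

variable {F K : Type*} [Field F] [Field K] [Algebra F K]

/-- a six-way selector on `ZMod 6` -/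
def t3ad4helper14_sel {α : Type*} (x0 x1 x2 x3 x4 x5 : α) (i : ZMod 6) : α :=
  if i = 0 then x0 else if i = 1 then x1 else if i = 2 then x2 else if i = 3 then x3 else
    if i = 4 then x4 else x5

section sel

variable {α : Type*} (x0 x1 x2 x3 x4 x5 : α)

theorem t3ad4helper14_sel0 : t3ad4helper14_sel x0 x1 x2 x3 x4 x5 0 = x0 := by
  unfold t3ad4helper14_sel; rw [if_pos rfl]

theorem t3ad4helper14_sel1 : t3ad4helper14_sel x0 x1 x2 x3 x4 x5 1 = x1 := by
  unfold t3ad4helper14_sel; rw [if_neg (by decide), if_pos rfl]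

theorem t3ad4helper14_sel2 : t3ad4helper14_sel x0 x1 x2 x3 x4 x5 2 = x2 := by
  unfold t3ad4helper14_sel; rw [if_neg (by decide), if_neg (by decide), if_pos rfl]

theorem t3ad4helper14_sel3 : t3ad4helper14_sel x0 x1 x2 x3 x4 x5 3 = x3 := by
  unfold t3ad4helper14_sel
  rw [if_neg (by decide), if_neg (by decide), if_neg (by decide), if_pos rfl]

theorem t3ad4helper14_sel4 : t3ad4helper14_sel x0 x1 x2 x3 x4 x5 4 = x4 := by
  unfold t3ad4helper14_sel
  rw [if_neg (by decide), if_neg (by decide), if_neg (by decide), if_neg (by decide), if_pos rfl]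

theorem t3ad4helper14_sel5 : t3ad4helper14_sel x0 x1 x2 x3 x4 x5 5 = x5 := by
  unfold t3ad4helper14_sel
  rw [if_neg (by decide), if_neg (by decide), if_neg (by decide), if_neg (by decide),
    if_neg (by decide)]

/-- a property of all six values holds for every index -/
theorem t3ad4helper14_sel_all (P : α → Prop) (h0 : P x0) (h1 : P x1) (h2 : P x2) (h3 : P x3)
    (h4 : P x4) (h5 : P x5) (i : ZMod 6) : P (t3ad4helper14_sel x0 x1 x2 x3 x4 x5 i) := by
  rcases exists_add 0 i with rfl | rfl | rfl | rfl | rfl | rfl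
  · rw [t3ad4helper14_sel0]; exact h0
  · rw [zero_add, t3ad4helper14_sel1]; exact h1
  · rw [zero_add, t3ad4helper14_sel2]; exact h2
  · rw [zero_add, t3ad4helper14_sel3]; exact h3
  · rw [zero_add, t3ad4helper14_sel4]; exact h4
  · rw [zero_add, t3ad4helper14_sel5]; exact h5

/-- opposite indices -/
theorem t3ad4helper14_sel_opp [DivisionRing α] (h3 : x3 = x0⁻¹) (h4 : x4 = x1⁻¹) (h5 : x5 = x2⁻¹)
    (i : ZMod 6) :
    t3ad4helper14_sel x0 x1 x2 x3 x4 x5 (i + 3) = (t3ad4helper14_sel x0 x1 x2 x3 x4 x5 i)⁻¹ := by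
  rcases exists_add 0 i with rfl | rfl | rfl | rfl | rfl | rfl
  · rw [zero_add, t3ad4helper14_sel3, t3ad4helper14_sel0, h3]
  · rw [zero_add, show (1 : ZMod 6) + 3 = 4 from by decide, t3ad4helper14_sel4,
      t3ad4helper14_sel1, h4]
  · rw [zero_add, show (2 : ZMod 6) + 3 = 5 from by decide, t3ad4helper14_sel5,
      t3ad4helper14_sel2, h5]
  · rw [zero_add, show (3 : ZMod 6) + 3 = 0 from by decide, t3ad4helper14_sel0,
      t3ad4helper14_sel3, h3, inv_inv]
  · rw [zero_add, show (4 : ZMod 6) + 3 = 1 from by decide, t3ad4helper14_sel1,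
      t3ad4helper14_sel4, h4, inv_inv]
  · rw [zero_add, show (5 : ZMod 6) + 3 = 2 from by decide, t3ad4helper14_sel2,
      t3ad4helper14_sel5, h5, inv_inv]

end sel

/-- the norm of a nonzero element is nonzero (own copy of row A1) -/
theorem t3ad4helper14_nm_ne_zero (C : Cub F K) {t : K} (ht : t ≠ 0) : C.nm t ≠ 0 := by
  intro h
  have h1 := C.hnm t
  rw [h, map_zero] at h1
  have hθ : ∀ x : K, x ≠ 0 → C.θ x ≠ 0 := fun x hx => (map_ne_zero C.θ).2 hx
  exact mul_ne_zero (mul_ne_zero ht (hθ t ht)) (hθ _ (hθ t ht)) h1.symm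

namespace SysT

variable {C : Cub F K} {Γ : Type*} [Group Γ] (Q : SysT C Γ)

theorem isMon_ws (k : ZMod 6) {t : K} (ht : t ≠ 0) : Q.IsMon (Q.ws k t) (refS k) := by
  have hn : C.nm t ≠ 0 := t3ad4helper14_nm_ne_zero C ht
  have hn' : algebraMap F K (C.nm t) ≠ 0 := (map_ne_zero (algebraMap F K)).2 hn
  have ht2 : t ^ 2 ≠ 0 := pow_ne_zero 2 ht
  have hti2 : t⁻¹ ^ 2 ≠ 0 := pow_ne_zero 2 (inv_ne_zero ht)
  refine ⟨fun j => t3ad4helper14_sel (t⁻¹ ^ 2) (algebraMap F K (C.nm t)⁻¹ * t ^ 2)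
      (-(algebraMap F K (C.nm t) * t⁻¹ ^ 2)) (t ^ 2) (algebraMap F K (C.nm t) * t⁻¹ ^ 2)
      (-(algebraMap F K (C.nm t)⁻¹ * t ^ 2)) (j - k),
    fun j => t3ad4helper14_sel (-(C.nm t)⁻¹) 1 (C.nm t) (-(C.nm t)) 1 (C.nm t)⁻¹ (j - k),
    ?_, ?_, ?_, ?_, ?_, ?_⟩
  · intro j
    apply t3ad4helper14_sel_all _ _ _ _ _ _ (fun x => x ≠ 0)
    · exact hti2
    · rw [map_inv₀]; exact mul_ne_zero (inv_ne_zero hn') ht2
    · exact neg_ne_zero.2 (mul_ne_zero hn' hti2)
    · exact ht2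
    · exact mul_ne_zero hn' hti2
    · rw [map_inv₀]; exact neg_ne_zero.2 (mul_ne_zero (inv_ne_zero hn') ht2)
  · intro j
    apply t3ad4helper14_sel_all _ _ _ _ _ _ (fun x => x ≠ 0)
    · exact neg_ne_zero.2 (inv_ne_zero hn)
    · exact one_ne_zero
    · exact hn
    · exact neg_ne_zero.2 hn
    · exact one_ne_zero
    · exact inv_ne_zero hn
  · intro j
    have e : j + 3 - k = (j - k) + 3 := by ring
    simp only [e]
    apply t3ad4helper14_sel_opp
    · rw [inv_pow, inv_inv]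
    · rw [map_inv₀, mul_inv, inv_inv, inv_pow]
    · rw [map_inv₀, inv_neg, mul_inv, inv_pow, inv_inv]
  · intro j
    have e : j + 3 - k = (j - k) + 3 := by ring
    simp only [e]
    apply t3ad4helper14_sel_opp
    · rw [inv_neg, inv_inv]
    · rw [inv_one]
    · rfl
  · intro j u
    unfold SysT.ws
    beta_reduce
    rcases exists_add k j with rfl | rfl | rfl | rfl | rfl | rfl
    · rw [sub_self, t3ad4helper14_sel0, Q.ws_s0 j t u ht, (refS_act j).1]
    · rw [add_sub_cancel_left, t3ad4helper14_sel1, Q.ws_s1 k t u ht, (refS_act k).2.1,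
        Algebra.smul_def, mul_assoc]
    · rw [add_sub_cancel_left, t3ad4helper14_sel2, Q.ws_s2 k t u ht, (refS_act k).2.2.1,
        Algebra.smul_def, neg_mul, mul_assoc]
    · rw [add_sub_cancel_left, t3ad4helper14_sel3, Q.ws_s3 k t u ht, (refS_act k).2.2.2.1]
    · rw [add_sub_cancel_left, t3ad4helper14_sel4, Q.ws_s4 k t u ht, (refS_act k).2.2.2.2.1,
        Algebra.smul_def, mul_assoc]
    · rw [add_sub_cancel_left, t3ad4helper14_sel5, Q.ws_s5 k t u ht, (refS_act k).2.2.2.2.2.1,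
        Algebra.smul_def, neg_mul, mul_assoc]
  · intro j c
    unfold SysT.ws
    beta_reduce
    rcases exists_add k j with rfl | rfl | rfl | rfl | rfl | rfl
    · rw [sub_self, t3ad4helper14_sel0, Q.ws_l0 j t c ht, (refS_act j).2.2.2.2.2.2.1, neg_mul]
    · rw [add_sub_cancel_left, t3ad4helper14_sel1, Q.ws_l1 k t c ht, (refS_act k).2.2.2.2.2.2.2.1,
        one_mul]
    · rw [add_sub_cancel_left, t3ad4helper14_sel2, Q.ws_l2 k t c ht,
        (refS_act k).2.2.2.2.2.2.2.2.1]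
    · rw [add_sub_cancel_left, t3ad4helper14_sel3, Q.ws_l3 k t c ht,
        (refS_act k).2.2.2.2.2.2.2.2.2.1, neg_mul]
    · rw [add_sub_cancel_left, t3ad4helper14_sel4, Q.ws_l4 k t c ht,
        (refS_act k).2.2.2.2.2.2.2.2.2.2.1, one_mul]
    · rw [add_sub_cancel_left, t3ad4helper14_sel5, Q.ws_l5 k t c ht,
        (refS_act k).2.2.2.2.2.2.2.2.2.2.2]

theorem isMon_wl (k : ZMod 6) {c : F} (hc : c ≠ 0) : Q.IsMon (Q.wl k c) (refL k) := by
  have hc' : algebraMap F K c ≠ 0 := (map_ne_zero (algebraMap F K)).2 hc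
  have hci' : algebraMap F K c⁻¹ ≠ 0 := (map_ne_zero (algebraMap F K)).2 (inv_ne_zero hc)
  refine ⟨fun j => t3ad4helper14_sel (-(algebraMap F K c⁻¹)) (algebraMap F K c⁻¹) 1
      (-(algebraMap F K c)) (algebraMap F K c) 1 (j - k),
    fun j => t3ad4helper14_sel (c⁻¹ ^ 2) (-c⁻¹) c (c ^ 2) (-c) c⁻¹ (j - k),
    ?_, ?_, ?_, ?_, ?_, ?_⟩
  · intro j
    apply t3ad4helper14_sel_all _ _ _ _ _ _ (fun x => x ≠ 0)
    · exact neg_ne_zero.2 hci'
    · exact hci'
    · exact one_ne_zero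
    · exact neg_ne_zero.2 hc'
    · exact hc'
    · exact one_ne_zero
  · intro j
    apply t3ad4helper14_sel_all _ _ _ _ _ _ (fun x => x ≠ 0)
    · exact pow_ne_zero 2 (inv_ne_zero hc)
    · exact neg_ne_zero.2 (inv_ne_zero hc)
    · exact hc
    · exact pow_ne_zero 2 hc
    · exact neg_ne_zero.2 hc
    · exact inv_ne_zero hc
  · intro j
    have e : j + 3 - k = (j - k) + 3 := by ring
    simp only [e]
    apply t3ad4helper14_sel_opp
    · rw [map_inv₀, inv_neg, inv_inv]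
    · rw [map_inv₀, inv_inv]
    · rw [inv_one]
  · intro j
    have e : j + 3 - k = (j - k) + 3 := by ring
    simp only [e]
    apply t3ad4helper14_sel_opp
    · rw [inv_pow, inv_inv]
    · rw [inv_neg, inv_inv]
    · rfl
  · intro j u
    unfold SysT.wl
    beta_reduce
    rcases exists_add k j with rfl | rfl | rfl | rfl | rfl | rfl
    · rw [sub_self, t3ad4helper14_sel0, Q.wl_s0 j c u hc, (refL_act j).1, Algebra.smul_def,
        neg_mul]
    · rw [add_sub_cancel_left, t3ad4helper14_sel1, Q.wl_s1 k c u hc, (refL_act k).2.1,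
        Algebra.smul_def]
    · rw [add_sub_cancel_left, t3ad4helper14_sel2, Q.wl_s2 k c u hc, (refL_act k).2.2.1, one_mul]
    · rw [add_sub_cancel_left, t3ad4helper14_sel3, Q.wl_s3 k c u hc, (refL_act k).2.2.2.1,
        Algebra.smul_def, neg_mul]
    · rw [add_sub_cancel_left, t3ad4helper14_sel4, Q.wl_s4 k c u hc, (refL_act k).2.2.2.2.1,
        Algebra.smul_def]
    · rw [add_sub_cancel_left, t3ad4helper14_sel5, Q.wl_s5 k c u hc, (refL_act k).2.2.2.2.2.1,
        one_mul]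
  · intro j d
    unfold SysT.wl
    beta_reduce
    rcases exists_add k j with rfl | rfl | rfl | rfl | rfl | rfl
    · rw [sub_self, t3ad4helper14_sel0, Q.wl_l0 j c d hc, (refL_act j).2.2.2.2.2.2.1]
    · rw [add_sub_cancel_left, t3ad4helper14_sel1, Q.wl_l1 k c d hc, (refL_act k).2.2.2.2.2.2.2.1,
        neg_mul]
    · rw [add_sub_cancel_left, t3ad4helper14_sel2, Q.wl_l2 k c d hc,
        (refL_act k).2.2.2.2.2.2.2.2.1]
    · rw [add_sub_cancel_left, t3ad4helper14_sel3, Q.wl_l3 k c d hc,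
        (refL_act k).2.2.2.2.2.2.2.2.2.1]
    · rw [add_sub_cancel_left, t3ad4helper14_sel4, Q.wl_l4 k c d hc,
        (refL_act k).2.2.2.2.2.2.2.2.2.2.1, neg_mul]
    · rw [add_sub_cancel_left, t3ad4helper14_sel5, Q.wl_l5 k c d hc,
        (refL_act k).2.2.2.2.2.2.2.2.2.2.2]

end SysT

end Cfsg.Agent.Lib.helper17.T3
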