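import Mathlib
import Cfsg.Agent.Lib.helper17.T3.Defs
import Cfsg.Agent.Lib.Helper19.T3A.Defs
import Cfsg.Agent.Lib.Helper19.T3A.Comb

/-!
# T3A rows D8 D9 (helper14): conjugates of Weyl elements and of the groups `UU` under monomial
elements
-/

set_option autoImplicit false

namespace Cfsg.Agent.Lib.helper17.T3

open Matrix Cfsg.Agent.Lib.helper15.St2 Cfsg.Agent.Lib.helper7.Ce Cfsg.Agent.Lib.Helper19.T3A

variable {F K : Type*} [Field F] [Field K] [Algebra F K]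

namespace SysT

variable {C : Cub F K} {Γ : Type*} [Group Γ] (Q : SysT C Γ)

theorem IsMon.cj_ws {g : Γ} {w : W} (h : Q.IsMon g w) (j : ZMod 6) {t : K} (ht : t ≠ 0) :
    ∃ v : K, v ≠ 0 ∧ cj g (Q.ws j t) = Q.ws (actS w j) v := by
  obtain ⟨a, b, ha, hb, ha3, hb3, hs, hl⟩ := h
  refine ⟨a j * t, mul_ne_zero (ha j) ht, ?_⟩
  unfold SysT.ws
  rw [cj_mul, cj_mul, hs, hs, (act_add_three w j).1, ha3, mul_inv]

theorem IsMon.cj_wl {g : Γ} {w : W} (h : Q.IsMon g w) (j : ZMod 6) {c : F} (hc : c ≠ 0) :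
    ∃ v : F, v ≠ 0 ∧ cj g (Q.wl j c) = Q.wl (actL w j) v := by
  obtain ⟨a, b, ha, hb, ha3, hb3, hs, hl⟩ := h
  refine ⟨b j * c, mul_ne_zero (hb j) hc, ?_⟩
  unfold SysT.wl
  rw [cj_mul, cj_mul, hl, hl, (act_add_three w j).2, hb3, mul_inv]

theorem IsMon.cj_mem_UU {g : Γ} {w : W} (h : Q.IsMon g w) {Ps Pl Ps' Pl' : ZMod 6 → Prop}
    (hs : ∀ k, Ps k → Ps' (actS w k)) (hl : ∀ k, Pl k → Pl' (actL w k)) : ∀ x ∈ Q.UU Ps Pl, cj g x ∈ Q.UU Ps' Pl' := by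
  obtain ⟨a, b, ha, hb, ha3, hb3, hcs, hcl⟩ := h
  intro x hx
  unfold SysT.UU at hx
  induction hx using Subgroup.closure_induction with
  | mem y hy =>
    rcases hy with ⟨k, t, hk, rfl⟩ | ⟨k, c, hk, rfl⟩
    · rw [hcs]
      exact Subgroup.subset_closure (Or.inl ⟨_, _, hs k hk, rfl⟩)
    · rw [hcl]
      exact Subgroup.subset_closure (Or.inr ⟨_, _, hl k hk, rfl⟩)
  | one => rw [cj_one]; exact Subgroup.one_mem _
  | mul y z _ _ hy hz => rw [cj_mul]; exact Subgroup.mul_mem _ hy hz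
  | inv y _ hy => rw [cj_inv]; exact Subgroup.inv_mem _ hy

end SysT

end Cfsg.Agent.Lib.helper17.T3
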