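import Mathlib
import Cfsg.Agent.Lib.helper17.T3.Defs
import Cfsg.Agent.Lib.Helper19.T3A.Defs
import Cfsg.Agent.Lib.Helper19.T3A.Comb

/-!
# T3A row B4 (helper14): the rank one Bruhat decomposition of the negative simple root groups
-/

set_option autoImplicit false

namespace Cfsg.Agent.Lib.helper17.T3

open Matrix Cfsg.Agent.Lib.helper15.St2 Cfsg.Agent.Lib.helper7.Ce Cfsg.Agent.Lib.Helper19.T3A

variable {F K : Type*} [Field F] [Field K] [Algebra F K]

namespace SysT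

variable {C : Cub F K} {Γ : Type*} [Group Γ] (Q : SysT C Γ)

theorem t3ab4helper14_xs_zero (k : ZMod 6) : Q.xs k 0 = 1 := by
  have := Q.adds k 0 0
  rw [add_zero] at this
  exact mul_eq_left.1 this

theorem t3ab4helper14_xl_zero (k : ZMod 6) : Q.xl k 0 = 1 := by
  have := Q.addl k 0 0
  rw [add_zero] at this
  exact mul_eq_left.1 this

theorem t3ab4helper14_xs_neg (k : ZMod 6) (t : K) : Q.xs k (-t) = (Q.xs k t)⁻¹ := by
  have := Q.adds k t (-t)
  rw [add_neg_cancel, t3ab4helper14_xs_zero] at this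
  exact eq_inv_of_mul_eq_one_right this

theorem t3ab4helper14_xl_neg (k : ZMod 6) (c : F) : Q.xl k (-c) = (Q.xl k c)⁻¹ := by
  have := Q.addl k c (-c)
  rw [add_neg_cancel, t3ab4helper14_xl_zero] at this
  exact eq_inv_of_mul_eq_one_right this

/-- elements of a `UU` with a single short root -/
theorem t3ab4helper14_mem_short {Ps Pl : ZMod 6 → Prop} (k0 : ZMod 6) (hs : ∀ k, Ps k → k = k0)
    (hl : ∀ k, ¬ Pl k) : ∀ x ∈ Q.UU Ps Pl, ∃ t : K, x = Q.xs k0 t := by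
  intro x hx
  unfold UU at hx
  induction hx using Subgroup.closure_induction with
  | mem y hy =>
    rcases hy with ⟨k, t, hk, rfl⟩ | ⟨k, c, hk, rfl⟩
    · rw [hs k hk]; exact ⟨t, rfl⟩
    · exact absurd hk (hl k)
  | one => exact ⟨0, (t3ab4helper14_xs_zero Q k0).symm⟩
  | mul y z _ _ hy hz =>
    obtain ⟨t, rfl⟩ := hy
    obtain ⟨u, rfl⟩ := hz
    exact ⟨t + u, Q.adds k0 t u⟩
  | inv y _ hy =>
    obtain ⟨t, rfl⟩ := hy
    exact ⟨-t, (t3ab4helper14_xs_neg Q k0 t).symm⟩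

/-- elements of a `UU` with a single long root -/
theorem t3ab4helper14_mem_long {Ps Pl : ZMod 6 → Prop} (k0 : ZMod 6) (hs : ∀ k, ¬ Ps k)
    (hl : ∀ k, Pl k → k = k0) : ∀ x ∈ Q.UU Ps Pl, ∃ c : F, x = Q.xl k0 c := by
  intro x hx
  unfold UU at hx
  induction hx using Subgroup.closure_induction with
  | mem y hy =>
    rcases hy with ⟨k, t, hk, rfl⟩ | ⟨k, c, hk, rfl⟩
    · exact absurd hk (hs k)
    · rw [hl k hk]; exact ⟨c, rfl⟩
  | one => exact ⟨0, (t3ab4helper14_xl_zero Q k0).symm⟩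
  | mul y z _ _ hy hz =>
    obtain ⟨t, rfl⟩ := hy
    obtain ⟨u, rfl⟩ := hz
    exact ⟨t + u, Q.addl k0 t u⟩
  | inv y _ hy =>
    obtain ⟨t, rfl⟩ := hy
    exact ⟨-t, (t3ab4helper14_xl_neg Q k0 t).symm⟩

theorem t3ab4helper14_hs_one (k : ZMod 6) : Q.hs k 1 = 1 := by
  unfold hs
  rw [mul_inv_cancel]

theorem t3ab4helper14_hl_one (k : ZMod 6) : Q.hl k 1 = 1 := by
  unfold hl
  rw [mul_inv_cancel]

theorem t3ab4helper14_hs_mem_Tor {t : K} (ht : t ≠ 0) : Q.hs 0 t ∈ Q.Tor := by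
  apply Subgroup.subset_closure
  refine ⟨t, 1, ht, one_ne_zero, ?_⟩
  rw [t3ab4helper14_hl_one, mul_one]

theorem t3ab4helper14_hl_mem_Tor {c : F} (hc : c ≠ 0) : Q.hl 2 c ∈ Q.Tor := by
  apply Subgroup.subset_closure
  refine ⟨1, c, one_ne_zero, hc, ?_⟩
  rw [t3ab4helper14_hs_one, one_mul]

/-- the opposite short root element (own copy of a part of row R2) -/
theorem t3ab4helper14_xs_opp (k : ZMod 6) {t : K} (_ht : t ≠ 0) :
    Q.xs (k + 3) t = Q.xs k (-t⁻¹) * Q.ws k t⁻¹ * Q.xs k (-t⁻¹) := by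
  unfold ws
  rw [inv_inv, t3ab4helper14_xs_neg]
  group

/-- the opposite long root element (own copy of a part of row R3) -/
theorem t3ab4helper14_xl_opp (k : ZMod 6) {c : F} (_hc : c ≠ 0) :
    Q.xl (k + 3) c = Q.xl k (-c⁻¹) * Q.wl k c⁻¹ * Q.xl k (-c⁻¹) := by
  unfold wl
  rw [inv_inv, t3ab4helper14_xl_neg]
  group

theorem Ys_rank_one (s : Bool) : ∀ y ∈ Q.Ys s, y = 1 ∨ ∃ x ∈ Q.Xs s, ∃ h ∈ Q.Tor, ∃ x' ∈ Q.Xs s, y = x * h * Q.nS s * x' := by
  intro y hy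
  cases s
  · -- the long simple root
    obtain ⟨c, rfl⟩ := t3ab4helper14_mem_long Q 5 (fun k hk => by simp at hk) (fun k hk => hk.2) y hy
    by_cases hc : c = 0
    · left; rw [hc, t3ab4helper14_xl_zero]
    · right
      have hx : Q.xl 2 (-c⁻¹) ∈ Q.Xs false :=
        Subgroup.subset_closure (Or.inr ⟨2, _, ⟨rfl, rfl⟩, rfl⟩)
      refine ⟨_, hx, Q.hl 2 c⁻¹, t3ab4helper14_hl_mem_Tor Q (inv_ne_zero hc), _, hx, ?_⟩
      have e := t3ab4helper14_xl_opp Q 2 hc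
      rw [show (2 : ZMod 6) + 3 = 5 from by decide] at e
      rw [e]
      have : Q.nS false = Q.wl 2 1 := by simp [nS]
      rw [this]
      unfold hl
      group
  · obtain ⟨t, rfl⟩ := t3ab4helper14_mem_short Q 3 (fun k hk => hk.2) (fun k hk => by simp at hk) y hy
    by_cases ht : t = 0
    · left; rw [ht, t3ab4helper14_xs_zero]
    · right
      have hx : Q.xs 0 (-t⁻¹) ∈ Q.Xs true :=
        Subgroup.subset_closure (Or.inl ⟨0, _, ⟨rfl, rfl⟩, rfl⟩)
      refine ⟨_, hx, Q.hs 0 t⁻¹, t3ab4helper14_hs_mem_Tor Q (inv_ne_zero ht), _, hx, ?_⟩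
      have e := t3ab4helper14_xs_opp Q 0 ht
      rw [show (0 : ZMod 6) + 3 = 3 from by decide] at e
      rw [e]
      have : Q.nS true = Q.ws 0 1 := by simp [nS]
      rw [this]
      unfold hs
      group

end SysT

end Cfsg.Agent.Lib.helper17.T3
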