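import Mathlib
import Cfsg.Agent.Lib.helper17.T3.Defs
import Cfsg.Agent.Lib.Helper19.T3A.Defs
import Cfsg.Agent.Lib.Helper19.T3A.Comb
import Cfsg.Agent.Lib.helper14.T3AD1
import Cfsg.Agent.Lib.helper14.T3AD4
import Cfsg.Agent.Lib.helper14.T3AD8

/-!
# T3A row B7 (helper14): the braid relation `n_a n_b n_a n_b n_a n_b = h n_b n_a n_b n_a n_b n_a`
-/

set_option autoImplicit false

namespace Cfsg.Agent.Lib.helper17.T3

open Matrix Cfsg.Agent.Lib.helper15.St2 Cfsg.Agent.Lib.helper7.Ce Cfsg.Agent.Lib.Helper19.T3A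

variable {F K : Type*} [Field F] [Field K] [Algebra F K]

namespace SysT

variable {C : Cub F K} {Γ : Type*} [Group Γ] (Q : SysT C Γ)

/-- own copy of row D7 -/
theorem t3ab7helper14_isMon_nS (s : Bool) : Q.IsMon (Q.nS s) (sref s) := by
  cases s
  · have := Q.isMon_wl 2 (one_ne_zero (α := F))
    simpa [nS, sref] using this
  · have := Q.isMon_ws 0 (one_ne_zero (α := K))
    simpa [nS, sref] using this

/-- own copy of row D7 -/
theorem t3ab7helper14_isMon_nw (w : List Bool) : Q.IsMon (Q.nw w) (wdW w) := by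
  induction w with
  | nil =>
    unfold nw wdW
    rw [List.map_nil, List.prod_nil]
    exact Q.isMon_one
  | cons s w ih =>
    have : Q.nw (s :: w) = Q.nS s * Q.nw w := by
      unfold nw
      rw [List.map_cons, List.prod_cons]
    rw [this]
    unfold wdW
    exact IsMon.mul Q (t3ab7helper14_isMon_nS Q s) ih

/-- own copy of a part of row U0 -/
theorem t3ab7helper14_wl_eq (k : ZMod 6) (c : F) : Q.wl k c = Q.hl k c * Q.wl k 1 := by
  unfold hl
  group

/-- own copy of a part of row U0 -/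
theorem t3ab7helper14_hs_one (k : ZMod 6) : Q.hs k 1 = 1 := by
  unfold hs
  rw [mul_inv_cancel]

/-- own copy of a part of row T2 -/
theorem t3ab7helper14_hl_mem_Tor {c : F} (hc : c ≠ 0) : Q.hl 2 c ∈ Q.Tor := by
  apply Subgroup.subset_closure
  refine ⟨1, c, one_ne_zero, hc, ?_⟩
  rw [t3ab7helper14_hs_one, one_mul]

theorem braid : ∃ h ∈ Q.Tor, Q.nw (alt true 6) = h * Q.nw (alt false 6) := by
  have hg := t3ab7helper14_isMon_nw Q (alt true 5)
  obtain ⟨v, hv, hcj⟩ := IsMon.cj_wl Q hg 2 (one_ne_zero (α := F))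
  rw [braid_fix, t3ab7helper14_wl_eq Q 2 v] at hcj
  refine ⟨Q.hl 2 v, t3ab7helper14_hl_mem_Tor Q hv, ?_⟩
  have e1 : Q.nw (alt true 6) = Q.nw (alt true 5) * Q.nS false := by
    simp only [nw, alt, List.map_cons, List.map_nil, List.prod_cons, List.prod_nil, Bool.not_true,
      Bool.not_false, mul_one, mul_assoc]
  have e2 : Q.nw (alt false 6) = Q.nS false * Q.nw (alt true 5) := by
    simp only [nw, alt, List.map_cons, List.map_nil, List.prod_cons, List.prod_nil, Bool.not_true,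
      Bool.not_false, mul_one, mul_assoc]
  have e3 : Q.nS false = Q.wl 2 1 := by simp [nS]
  rw [e1, e2, e3]
  unfold cj at hcj
  calc Q.nw (alt true 5) * Q.wl 2 1
      = (Q.nw (alt true 5) * Q.wl 2 1 * (Q.nw (alt true 5))⁻¹) * Q.nw (alt true 5) := by group
    _ = Q.hl 2 v * Q.wl 2 1 * Q.nw (alt true 5) := by rw [hcj]
    _ = Q.hl 2 v * (Q.wl 2 1 * Q.nw (alt true 5)) := by group

end SysT

end Cfsg.Agent.Lib.helper17.T3
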