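import Mathlib
import Cfsg.Agent.Lib.helper17.T3.Defs
import Cfsg.Agent.Lib.Helper19.T3A.Defs
import Cfsg.Agent.Lib.Helper19.T3A.Comb
import Cfsg.Agent.Lib.helper23.CEUE1
import Cfsg.Agent.Lib.helper14.T3AD1
import Cfsg.Agent.Lib.helper14.T3AD4
import Cfsg.Agent.Lib.helper14.T3AD8
import Cfsg.Agent.Lib.helper14.T3AB4

/-!
# T3A row T5 (helper14): the simple reflections normalize the torus
(with own-name copies of the statements of rows D6, T3, T4, T6 and parts of R2, R3)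
-/

set_option autoImplicit false

namespace Cfsg.Agent.Lib.helper17.T3

open Matrix Cfsg.Agent.Lib.helper15.St2 Cfsg.Agent.Lib.helper7.Ce Cfsg.Agent.Lib.helper7.CEU Cfsg.Agent.Lib.Helper19.T3A

variable {F K : Type*} [Field F] [Field K] [Algebra F K]

/-- `w(1)³ = w(-1)` in `SL₂` -/
theorem t3at5helper14_wm_cube {L : Type*} [Field L] :
    (xm (1 : L) * ym (-(1 : L)⁻¹) * xm 1) * (xm (1 : L) * ym (-(1 : L)⁻¹) * xm 1) *
      (xm (1 : L) * ym (-(1 : L)⁻¹) * xm 1) = xm (-1 : L) * ym (-(-1 : L)⁻¹) * xm (-1) := by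
  apply Subtype.ext
  rw [mul_coe' (_ * _) (xm (1 : L) * ym (-(1 : L)⁻¹) * xm 1),
    mul_coe' (xm (1 : L) * ym (-(1 : L)⁻¹) * xm 1) (xm (1 : L) * ym (-(1 : L)⁻¹) * xm 1),
    wm_coe (1 : L) one_ne_zero, wm_coe (-1 : L) (neg_ne_zero.2 one_ne_zero), Matrix.mul_fin_two,
    Matrix.mul_fin_two]
  refine eq_of2 ?_ ?_ ?_ ?_ <;> simp

namespace SysT

variable {C : Cub F K} {Γ : Type*} [Group Γ] (Q : SysT C Γ)

/-- own copy of a part of row R2 -/
theorem t3at5helper14_ws_sq [Finite K] (k : ZMod 6) : Q.ws k 1 * Q.ws k 1 = Q.hs k (-1) := by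
  obtain ⟨ρ, hρ⟩ := lift_sl2_of_st (Q.sts k)
  have hw : ∀ t : K, Q.ws k t = ρ (xm t * ym (-t⁻¹) * xm t) := by
    intro t
    rw [map_mul, map_mul, (hρ t).1, (hρ (-t⁻¹)).2]
    unfold ws St.x St.y sts
    simp only [if_true, Bool.false_eq_true, if_false, neg_neg]
  have h3 : Q.ws k 1 * Q.ws k 1 * Q.ws k 1 = Q.ws k (-1) := by
    rw [hw 1, hw (-1), ← map_mul, ← map_mul, t3at5helper14_wm_cube]
  unfold hs
  rw [← h3]
  group

/-- own copy of a part of row R3 -/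
theorem t3at5helper14_wl_sq [Finite K] (k : ZMod 6) : Q.wl k 1 * Q.wl k 1 = Q.hl k (-1) := by
  haveI : Finite F := finite_F F K
  obtain ⟨ρ, hρ⟩ := lift_sl2_of_st (Q.stl k)
  have hw : ∀ t : F, Q.wl k t = ρ (xm t * ym (-t⁻¹) * xm t) := by
    intro t
    rw [map_mul, map_mul, (hρ t).1, (hρ (-t⁻¹)).2]
    unfold wl St.x St.y stl
    simp only [if_true, Bool.false_eq_true, if_false, neg_neg]
  have h3 : Q.wl k 1 * Q.wl k 1 * Q.wl k 1 = Q.wl k (-1) := by
    rw [hw 1, hw (-1), ← map_mul, ← map_mul, t3at5helper14_wm_cube]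
  unfold hl
  rw [← h3]
  group

/-- own copy of row T6 -/
theorem t3at5helper14_nS_sq_mem_Tor [Finite K] (s : Bool) : Q.nS s * Q.nS s ∈ Q.Tor := by
  cases s
  · have : Q.nS false = Q.wl 2 1 := by simp [nS]
    rw [this, t3at5helper14_wl_sq]
    exact t3ab4helper14_hl_mem_Tor Q (neg_ne_zero.2 one_ne_zero)
  · have : Q.nS true = Q.ws 0 1 := by simp [nS]
    rw [this, t3at5helper14_ws_sq]
    exact t3ab4helper14_hs_mem_Tor Q (neg_ne_zero.2 one_ne_zero)

/-- own copy of row D6 -/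
theorem t3at5helper14_isMon_hs (k : ZMod 6) {t : K} (ht : t ≠ 0) : Q.IsMon (Q.hs k t) W.one := by
  have h1 := Q.isMon_ws k ht
  have h2 := IsMon.inv Q (Q.isMon_ws k (one_ne_zero (α := K)))
  have := IsMon.mul Q h1 h2
  rw [(refS_mul_inv k).1] at this
  exact this

/-- own copy of row D6 -/
theorem t3at5helper14_isMon_hl (k : ZMod 6) {c : F} (hc : c ≠ 0) : Q.IsMon (Q.hl k c) W.one := by
  have h1 := Q.isMon_wl k hc
  have h2 := IsMon.inv Q (Q.isMon_wl k (one_ne_zero (α := F)))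
  have := IsMon.mul Q h1 h2
  rw [(refS_mul_inv k).2] at this
  exact this

/-- own copy of row T3 -/
theorem t3at5helper14_isMon_of_mem_Tor {h : Γ} (hh : h ∈ Q.Tor) : Q.IsMon h W.one := by
  unfold Tor at hh
  induction hh using Subgroup.closure_induction with
  | mem y hy =>
    obtain ⟨t, c, ht, hc, rfl⟩ := hy
    have := IsMon.mul Q (t3at5helper14_isMon_hs Q 0 ht) (t3at5helper14_isMon_hl Q 2 hc)
    rw [(W_mul_one W.one).1] at this
    exact this
  | one => exact Q.isMon_one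
  | mul y z _ _ hy hz =>
    have := IsMon.mul Q hy hz
    rw [(W_mul_one W.one).1] at this
    exact this
  | inv y _ hy =>
    have := IsMon.inv Q hy
    have e : W.inv W.one = W.one := by decide
    rw [e] at this
    exact this

/-- own copy of row T4 -/
theorem t3at5helper14_cj_ws_one {h : Γ} (hh : Q.IsMon h W.one) (k : ZMod 6) :
    ∃ v : K, v ≠ 0 ∧ cj (Q.ws k 1) h = h * Q.hs k v := by
  have h' := IsMon.inv Q hh
  have e : W.inv W.one = W.one := by decide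
  rw [e] at h'
  obtain ⟨v, hv, hcj⟩ := IsMon.cj_ws Q h' k (one_ne_zero (α := K))
  rw [actS_one] at hcj
  refine ⟨v, hv, ?_⟩
  unfold hs
  rw [← hcj]
  unfold cj
  group

/-- own copy of row T4 -/
theorem t3at5helper14_cj_wl_one {h : Γ} (hh : Q.IsMon h W.one) (k : ZMod 6) :
    ∃ v : F, v ≠ 0 ∧ cj (Q.wl k 1) h = h * Q.hl k v := by
  have h' := IsMon.inv Q hh
  have e : W.inv W.one = W.one := by decide
  rw [e] at h'
  obtain ⟨v, hv, hcj⟩ := IsMon.cj_wl Q h' k (one_ne_zero (α := F))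
  rw [actL_one] at hcj
  refine ⟨v, hv, ?_⟩
  unfold hl
  rw [← hcj]
  unfold cj
  group

theorem cj_nS_Tor [Finite K] (s : Bool) {h : Γ} (hh : h ∈ Q.Tor) : cj (Q.nS s) h ∈ Q.Tor ∧ cj (Q.nS s)⁻¹ h ∈ Q.Tor := by
  have key : ∀ h' : Γ, h' ∈ Q.Tor → cj (Q.nS s) h' ∈ Q.Tor := by
    intro h' hh'
    have hm := t3at5helper14_isMon_of_mem_Tor Q hh'
    cases s
    · obtain ⟨v, hv, e⟩ := t3at5helper14_cj_wl_one Q hm 2
      have : Q.nS false = Q.wl 2 1 := by simp [nS]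
      rw [this, e]
      exact Subgroup.mul_mem _ hh' (t3ab4helper14_hl_mem_Tor Q hv)
    · obtain ⟨v, hv, e⟩ := t3at5helper14_cj_ws_one Q hm 0
      have : Q.nS true = Q.ws 0 1 := by simp [nS]
      rw [this, e]
      exact Subgroup.mul_mem _ hh' (t3ab4helper14_hs_mem_Tor Q hv)
  refine ⟨key h hh, ?_⟩
  have hsq := t3at5helper14_nS_sq_mem_Tor Q s
  have e : cj (Q.nS s)⁻¹ h = cj (Q.nS s) ((Q.nS s * Q.nS s)⁻¹ * h * (Q.nS s * Q.nS s)) := by
    unfold cj
    group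
  rw [e]
  apply key
  exact Subgroup.mul_mem _ (Subgroup.mul_mem _ (Subgroup.inv_mem _ hsq) hh) hsq

end SysT

end Cfsg.Agent.Lib.helper17.T3
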