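import Mathlib
import Cfsg.Agent.Lib.helper17.T3.Defs
import Cfsg.Agent.Lib.Helper19.T3A.Defs
import Cfsg.Agent.Lib.Helper19.T3A.Comb

/-!
# T3A row B9 (helper14): the union of the cells is closed under `Bor` and `n_s⁻¹` — the two
statements without dependencies verbatim, `InM_nS_inv_mul` as a core on the statements of T6, B8
-/

set_option autoImplicit false

namespace Cfsg.Agent.Lib.helper17.T3

open Matrix Cfsg.Agent.Lib.helper15.St2 Cfsg.Agent.Lib.helper7.Ce Cfsg.Agent.Lib.Helper19.T3A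

variable {F K : Type*} [Field F] [Field K] [Algebra F K]

namespace SysT

variable {C : Cub F K} {Γ : Type*} [Group Γ] (Q : SysT C Γ)

theorem InM_Bor_mul {b g : Γ} (hb : b ∈ Q.Bor) (hg : Q.InM g) : Q.InM (b * g) := by
  obtain ⟨s, n, hn, b1, hb1, b2, hb2, rfl⟩ := hg
  refine ⟨s, n, hn, b * b1, Subgroup.mul_mem _ hb hb1, b2, hb2, ?_⟩
  group

theorem InM_one : Q.InM 1 := by
  refine ⟨true, 0, by omega, 1, Subgroup.one_mem _, 1, Subgroup.one_mem _, ?_⟩
  unfold nw alt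
  simp

/-- core of `InM_nS_inv_mul`, on the statements of rows T6 and B8 -/
theorem t3ab9helper14_InM_nS_inv_mul_core (s : Bool) (hT6 : Q.nS s * Q.nS s ∈ Q.Tor)
    (hB8 : ∀ {g : Γ}, Q.InM g → Q.InM (Q.nS s * g)) {g : Γ} (hg : Q.InM g) :
    Q.InM ((Q.nS s)⁻¹ * g) := by
  have e : (Q.nS s)⁻¹ * g = (Q.nS s * Q.nS s)⁻¹ * (Q.nS s * g) := by group
  rw [e]
  apply InM_Bor_mul Q _ (hB8 hg)
  exact Subgroup.inv_mem _ ((le_sup_left : Q.Tor ≤ Q.Tor ⊔ Q.U) hT6)

end SysT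

end Cfsg.Agent.Lib.helper17.T3
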