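import Mathlib
import Cfsg.Agent.Lib.helper17.T3.Defs
import Cfsg.Agent.Lib.Helper19.T3A.Defs
import Cfsg.Agent.Lib.Helper19.T3A.Comb
import Cfsg.Agent.Lib.Helper19.T3AB8
import Cfsg.Agent.Lib.Helper10.T3AT6
import Cfsg.Agent.Lib.helper14.T3AB9core

/-!
# T3A row B9 (helper14): `InM_nS_inv_mul` verbatim (wrapper of the core on T6 + B8)
-/

set_option autoImplicit false

namespace Cfsg.Agent.Lib.helper17.T3

open Matrix Cfsg.Agent.Lib.helper15.St2 Cfsg.Agent.Lib.helper7.Ce Cfsg.Agent.Lib.Helper19.T3A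

variable {F K : Type*} [Field F] [Field K] [Algebra F K]

namespace SysT

variable {C : Cub F K} {Γ : Type*} [Group Γ] (Q : SysT C Γ)

theorem InM_nS_inv_mul [Finite K] (s : Bool) {g : Γ} (hg : Q.InM g) : Q.InM ((Q.nS s)⁻¹ * g) :=
  t3ab9helper14_InM_nS_inv_mul_core Q s (Q.nS_sq_mem_Tor s) (fun h => Q.InM_nS_mul s h) hg

end SysT

end Cfsg.Agent.Lib.helper17.T3
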