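import Mathlib
import Cfsg.Prelude.Def_LocalEven

set_option autoImplicit false

/-! `p`-closed groups (products of `p`-elements are `p`-elements) and a Frattini-type criterion:
if all `p`-local subgroups of `G` are `p`-closed, every section of `G` with a non-trivial normal
`p`-subgroup is `p`-closed. -/

namespace Cfsg.Agent.Lib.helper14.PCl

/-- `x` is a `p`-element. -/
def IsPElt (p : ℕ) {M : Type*} [Group M] (x : M) : Prop := ∃ k : ℕ, x ^ p ^ k = 1

/-- products of `p`-elements are `p`-elements -/
def PC (p : ℕ) (M : Type*) [Group M] : Prop :=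
  ∀ x y : M, IsPElt p x → IsPElt p y → IsPElt p (x * y)

section basic
variable {p : ℕ} {M M' : Type*} [Group M] [Group M']

theorem isPElt_map (f : M →* M') {x : M} (hx : IsPElt p x) : IsPElt p (f x) := by
  obtain ⟨k, hk⟩ := hx
  exact ⟨k, by rw [← map_pow, hk, map_one]⟩

theorem isPElt_of_map (f : M →* M') (hf : Function.Injective f) {x : M} (hx : IsPElt p (f x)) :
    IsPElt p x := by
  obtain ⟨k, hk⟩ := hx
  exact ⟨k, hf (by rw [map_pow, hk, map_one])⟩

theorem pc_of_injective (f : M →* M') (hf : Function.Injective f) (h : PC p M') : PC p M := by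
  intro x y hx hy
  apply isPElt_of_map f hf
  rw [map_mul]
  exact h _ _ (isPElt_map f hx) (isPElt_map f hy)

theorem pc_subgroup (h : PC p M) (N : Subgroup M) : PC p N :=
  pc_of_injective N.subtype N.subtype_injective h

/-- lifting `p`-elements through a surjection from a finite group -/
theorem exists_isPElt_lift [Fact p.Prime] [Finite M] (f : M →* M') (hf : Function.Surjective f)
    {y : M'} (hy : IsPElt p y) : ∃ x : M, f x = y ∧ IsPElt p x := by
  have hp : p.Prime := Fact.out
  obtain ⟨k, hk⟩ := hy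
  obtain ⟨x₀, rfl⟩ := hf y
  have ho : 0 < orderOf x₀ := orderOf_pos x₀
  obtain ⟨a, c, hc, hac⟩ := Nat.exists_eq_pow_mul_and_not_dvd ho.ne' p hp.ne_one
  have hcop : Nat.Coprime (p ^ k) c := Nat.Coprime.pow_left k ((Nat.Prime.coprime_iff_not_dvd hp).mpr hc)
  -- find c' with c * c' ≡ 1 mod p^k
  obtain ⟨c', hc'⟩ : ∃ c' : ℕ, c * c' ≡ 1 [MOD p ^ k] := by
    by_cases hk1 : p ^ k = 1
    · exact ⟨0, by rw [hk1]; exact Nat.modEq_one⟩
    · have h1 : 1 < p ^ k := by
        have : 0 < p ^ k := pos_of_ne_zero (pow_ne_zero _ hp.ne_zero)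
        omega
      obtain ⟨m, -, hm⟩ := Nat.exists_mul_mod_eq_one_of_coprime hcop.symm h1
      refine ⟨m, ?_⟩
      show c * m % p ^ k = 1 % p ^ k
      rw [hm, Nat.mod_eq_of_lt h1]
  refine ⟨x₀ ^ (c * c'), ?_, a, ?_⟩
  · rw [map_pow]
    have : (f x₀) ^ (c * c') = (f x₀) ^ 1 := by
      rw [pow_eq_pow_iff_modEq]
      exact hc'.of_dvd (orderOf_dvd_of_pow_eq_one hk)
    rw [this, pow_one]
  · rw [← pow_mul]
    have : c * c' * p ^ a = orderOf x₀ * c' := by rw [hac]; ring
    rw [this, pow_mul, pow_orderOf_eq_one, one_pow]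

theorem pc_of_surjective [Fact p.Prime] [Finite M] (f : M →* M') (hf : Function.Surjective f)
    (h : PC p M) : PC p M' := by
  intro x y hx hy
  obtain ⟨x', rfl, hx'⟩ := exists_isPElt_lift f hf hx
  obtain ⟨y', rfl, hy'⟩ := exists_isPElt_lift f hf hy
  rw [← map_mul]
  exact isPElt_map f (h _ _ hx' hy')

theorem isPElt_of_mem_pgroup {Q : Subgroup M} (hQ : IsPGroup p Q) {x : M} (hx : x ∈ Q) :
    IsPElt p x := by
  obtain ⟨k, hk⟩ := hQ ⟨x, hx⟩
  exact ⟨k, by simpa using congrArg Subtype.val hk⟩

end basic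

section frattini
variable {p : ℕ} [Fact p.Prime] {G : Type*} [Group G] [Finite G]

/-- If every `p`-local subgroup of `G` is `p`-closed then every section of `G` with a nontrivial
normal `p`-subgroup is `p`-closed. -/
theorem pc_of_section {H : Type*} [Group H]
    (hloc : ∀ P : Subgroup G, IsPGroup p P → P ≠ ⊥ → PC p ↥(Subgroup.normalizer (P : Set G)))
    (K : Subgroup G) (π : K →* H) (hπ : Function.Surjective π)
    (V : Subgroup H) [V.Normal] (hV : IsPGroup p V) (hV1 : V ≠ ⊥) : PC p H := by
  classical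
  let W : Subgroup K := V.comap π
  haveI : W.Normal := Subgroup.Normal.comap inferInstance π
  let πW : W →* V := π.subgroupComap V
  have hπW : Function.Surjective πW := π.subgroupComap_surjective_of_surjective V hπ
  let P : Sylow p W := Sylow.nonempty.some
  -- P maps onto V
  have htop : ((P.mapSurjective hπW : Sylow p V) : Subgroup V) = ⊤ := by
    have hVtop : IsPGroup p (⊤ : Subgroup V) := hV.to_subgroup ⊤
    exact ((P.mapSurjective hπW).is_maximal' hVtop le_top).symm
  let PK : Subgroup K := (P : Subgroup W).map W.subtype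
  have hmapPK : PK.map π = V := by
    apply le_antisymm
    · rintro _ ⟨x, ⟨w, hw, rfl⟩, rfl⟩
      exact w.2
    · intro v hv
      have : (⟨v, hv⟩ : V) ∈ ((P.mapSurjective hπW : Sylow p V) : Subgroup V) := by
        rw [htop]; exact Subgroup.mem_top _
      rw [Sylow.coe_mapSurjective] at this
      obtain ⟨w, hw, hwv⟩ := this
      refine ⟨(w : K), ⟨w, hw, rfl⟩, ?_⟩
      exact congrArg Subtype.val hwv
  have hfrat : Subgroup.normalizer (PK : Set K) ⊔ W = ⊤ := Sylow.normalizer_sup_eq_top P
  let Mn : Subgroup K := Subgroup.normalizer (PK : Set K)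
  have hMtop : Mn.map π = ⊤ := by
    have h1 : (Mn ⊔ W).map π = ⊤ := by
      rw [hfrat, ← MonoidHom.range_eq_map, MonoidHom.range_eq_top]
      exact hπ
    rw [Subgroup.map_sup] at h1
    have h2 : W.map π ≤ Mn.map π := by
      have : W.map π = V := Subgroup.map_comap_eq_self_of_surjective hπ V
      rw [this, ← hmapPK]
      exact Subgroup.map_mono (Subgroup.le_normalizer (H := PK))
    rwa [sup_eq_left.mpr h2] at h1
  -- the p-subgroup of G
  let P₁ : Subgroup G := PK.map K.subtype
  have hP₁ : IsPGroup p P₁ := by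
    have h1 : IsPGroup p PK := (P.isPGroup').map W.subtype
    exact h1.map K.subtype
  have hP₁ne : P₁ ≠ ⊥ := by
    intro h0
    have h1 : PK = ⊥ := by
      rw [← Subgroup.map_eq_bot_iff_of_injective PK K.subtype_injective]
      exact h0
    apply hV1
    rw [← hmapPK, h1, Subgroup.map_bot]
  have hpcN := hloc P₁ hP₁ hP₁ne
  -- Mn embeds in the normalizer
  have hle : Mn.map K.subtype ≤ Subgroup.normalizer (P₁ : Set G) :=
    Subgroup.le_normalizer_map (H := PK) K.subtype
  let j : Mn →* ↥(Subgroup.normalizer (P₁ : Set G)) :=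
    { toFun := fun m => ⟨((m : K) : G), hle ⟨(m : K), m.2, rfl⟩⟩
      map_one' := rfl
      map_mul' := fun _ _ => rfl }
  have hj : Function.Injective j := by
    intro a b hab
    have := congrArg Subtype.val hab
    exact Subtype.ext (Subtype.ext this)
  have hpcM : PC p Mn := pc_of_injective j hj hpcN
  -- Mn maps onto H
  have hsurj : Function.Surjective (π.comp Mn.subtype) := by
    intro h
    have : h ∈ Mn.map π := by rw [hMtop]; exact Subgroup.mem_top _
    obtain ⟨m, hm, rfl⟩ := this
    exact ⟨⟨m, hm⟩, rfl⟩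
  exact pc_of_surjective _ hsurj hpcM

/-- If every `p`-local subgroup of `G` is `p`-closed, a group `H` with a nontrivial normal
`p`-subgroup that is not `p`-closed is not involved in `G`. -/
theorem not_involves_of_local_pc {H : Type*} [Group H]
    (hloc : ∀ P : Subgroup G, IsPGroup p P → P ≠ ⊥ → PC p ↥(Subgroup.normalizer (P : Set G)))
    (V : Subgroup H) [V.Normal] (hV : IsPGroup p V) (hV1 : V ≠ ⊥) (hH : ¬ PC p H) :
    ¬ Cfsg.Involves H G := by
  rintro ⟨K, R, hn, ⟨e⟩⟩
  haveI := hn
  apply hH
  exact pc_of_section hloc K (e.toMonoidHom.comp (QuotientGroup.mk' (R.subgroupOf K)))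
    (e.surjective.comp (QuotientGroup.mk'_surjective _)) V hV hV1

end frattini

end Cfsg.Agent.Lib.helper14.PCl
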