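import Mathlib
import Cfsg.Prelude.Def_Classical
import Cfsg.Prelude.Def_LieClassical
import Cfsg.Agent.Lib.Lead.Unitary
import Cfsg.Agent.Lib.Lead.HermIso
import Cfsg.Agent.Lib.helper6.HermGram
import Cfsg.Agent.Lib.Helper16.UnitaryFixed
import Cfsg.Agent.Lib.helper14.PCl
import Cfsg.Agent.Lib.helper14.SU3J

set_option autoImplicit false

/-! Geometry of `SU₃(q)`, `q` odd: every `p`-local subgroup is `p`-closed. -/

namespace Cfsg.Agent.Lib.helper14.SU3Geo

open Matrix Cfsg.Agent.Lib.helper14.SU3J Cfsg.Agent.Lib.helper14.PCl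

section coords
variable {K : Type*} [Field K] [Fintype K] {q : ℕ}

local notation "M3" => Matrix (Fin 3) (Fin 3) K
local notation "H" => Cfsg.hermForm 3 K q

theorem herm3 (u v : Fin 3 → K) : H u v = u 0 * v 0 ^ q + u 1 * v 1 ^ q + u 2 * v 2 ^ q := by
  simp [Cfsg.hermForm, Fin.sum_univ_three]

/-- the base change matrix to hyperbolic coordinates -/
def T0 (ε : K) : M3 := !![1, 0, 2⁻¹; ε, 0, -(ε * 2⁻¹); 0, 1, 0]

def T0i (ε : K) : M3 := !![2⁻¹, 2⁻¹ * ε⁻¹, 0; 0, 0, 1; 1, -ε⁻¹, 0]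

theorem T0i_mul (ε : K) (hε : ε ≠ 0) (h2 : (2 : K) ≠ 0) : T0i ε * T0 ε = 1 := by
  ext i j
  fin_cases i <;> fin_cases j <;>
    simp [T0, T0i, Matrix.mul_apply, Fin.sum_univ_three] <;> field_simp <;> ring

theorem T0_mul (ε : K) (hε : ε ≠ 0) (h2 : (2 : K) ≠ 0) : T0 ε * T0i ε = 1 := by
  ext i j
  fin_cases i <;> fin_cases j <;>
    simp [T0, T0i, Matrix.mul_apply, Fin.sum_univ_three] <;> field_simp <;> ring

theorem T0_form (σ : K →+* K) (hσ : ∀ x, σ x = x ^ q) (ε : K) (hε : ε * σ ε = -1)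
    (h2 : (2 : K) ≠ 0) (x y : Fin 3 → K) :
    H (T0 ε *ᵥ x) (T0 ε *ᵥ y) = hJ σ x y := by
  rw [herm3]
  simp only [← hσ, mv3, hJ]
  have e1 : ∀ i j, T0 ε i j = (!![1, 0, 2⁻¹; ε, 0, -(ε * 2⁻¹); 0, 1, 0] : M3) i j := fun _ _ => rfl
  simp only [e1]
  simp only [Matrix.of_apply, Matrix.cons_val', Matrix.cons_val_zero, Matrix.cons_val_one,
    Matrix.cons_val_two, Matrix.empty_val', Matrix.cons_val_fin_one, Matrix.head_cons,
    Matrix.tail_cons, Matrix.head_fin_const]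
  simp only [map_add, map_mul, map_neg, map_zero, map_one, map_inv₀, map_ofNat]
  have hε' : σ ε = -ε⁻¹ := by
    have hne : ε ≠ 0 := by
      rintro rfl
      simp at hε
    field_simp
    linear_combination hε
  rw [hε']
  have hne : ε ≠ 0 := by
    rintro rfl
    simp at hε
  field_simp
  ring

/-- hyperbolic coordinates adapted to an isotropic vector -/
theorem exists_T (hK : Fintype.card K = q ^ 2) (hq : Odd q) (h2 : (2 : K) ≠ 0)
    (σ : K →+* K) (hσ : ∀ x, σ x = x ^ q)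
    (v : Fin 3 → K) (hv : v ≠ 0) (hvv : H v v = 0) :
    ∃ T Ti : M3, Ti * T = 1 ∧ T * Ti = 1 ∧ (∀ x y, H (T *ᵥ x) (T *ᵥ y) = hJ σ x y) ∧
      T *ᵥ ![1, 0, 0] = v := by
  have h1 : (-1 : Kˣ) ^ (q - 1) = 1 := by
    obtain ⟨m, hm⟩ := hq
    have : q - 1 = 2 * m := by omega
    rw [this, pow_mul]
    simp
  obtain ⟨μ, hμ⟩ := Cfsg.Agent.Lib.Helper16.norm_surj hK (-1 : Kˣ) h1
  have hε : (μ : K) * σ (μ : K) = -1 := by
    rw [hσ, ← pow_succ']
    have := congrArg Units.val hμ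
    simpa using this
  have hεne : (μ : K) ≠ 0 := μ.ne_zero
  set f₁ : Fin 3 → K := T0 (μ : K) *ᵥ ![1, 0, 0] with hf₁
  have hf₁f₁ : H f₁ f₁ = 0 := by
    rw [hf₁, T0_form σ hσ _ hε h2]
    simp [hJ]
  have hf₁ne : f₁ ≠ 0 := by
    intro h0
    have := congrFun h0 0
    rw [hf₁, mv3] at this
    simp [T0] at this
  have hli : LinearIndependent K (fun _ : Fin 1 => f₁) :=
    LinearIndependent.of_subsingleton (0 : Fin 1) hf₁ne
  have hli' : LinearIndependent K (fun _ : Fin 1 => v) :=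
    LinearIndependent.of_subsingleton (0 : Fin 1) hv
  obtain ⟨g, hg, hgf⟩ := Cfsg.Agent.Lib.helper6.HF.witt_tuple_gram hK
    (fun _ : Fin 1 => f₁) (fun _ : Fin 1 => v) hli hli' (fun _ _ => by rw [hf₁f₁, hvv])
  have hgv := hgf 0
  have hgi : (g : M3) * ((g⁻¹ : GL (Fin 3) K) : M3) = 1 := by
    rw [← Matrix.GeneralLinearGroup.coe_mul, mul_inv_cancel]; rfl
  have hig : ((g⁻¹ : GL (Fin 3) K) : M3) * (g : M3) = 1 := by
    rw [← Matrix.GeneralLinearGroup.coe_mul, inv_mul_cancel]; rfl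
  refine ⟨(g : M3) * T0 (μ : K), T0i (μ : K) * ((g⁻¹ : GL (Fin 3) K) : M3), ?_, ?_, ?_, ?_⟩
  · calc T0i (μ : K) * ((g⁻¹ : GL (Fin 3) K) : M3) * ((g : M3) * T0 (μ : K))
        = T0i (μ : K) * (((g⁻¹ : GL (Fin 3) K) : M3) * (g : M3)) * T0 (μ : K) := by
          simp only [Matrix.mul_assoc]
      _ = 1 := by rw [hig, Matrix.mul_one, T0i_mul _ hεne h2]
  · calc (g : M3) * T0 (μ : K) * (T0i (μ : K) * ((g⁻¹ : GL (Fin 3) K) : M3))
        = (g : M3) * (T0 (μ : K) * T0i (μ : K)) * ((g⁻¹ : GL (Fin 3) K) : M3) := by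
          simp only [Matrix.mul_assoc]
      _ = 1 := by rw [T0_mul _ hεne h2, Matrix.mul_one, hgi]
  · intro x y
    rw [← Matrix.mulVec_mulVec, ← Matrix.mulVec_mulVec]
    rw [(Cfsg.Agent.Lib.helper6.HF.mem_GU g).mp hg, T0_form σ hσ _ hε h2]
  · rw [← Matrix.mulVec_mulVec]
    exact hgv

end coords

section main
variable {K : Type*} [Field K] [Fintype K] {q : ℕ}

local notation "M3" => Matrix (Fin 3) (Fin 3) K
local notation "H" => Cfsg.hermForm 3 K q
set_option quotPrecheck false in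
local notation "G" => ↥(Cfsg.SU 3 K q)

/-- the matrix of an element of `SU₃` -/
def mat (X : G) : M3 := ((X : Matrix.SpecialLinearGroup (Fin 3) K) : M3)

theorem mat_mul (X Y : G) : mat (X * Y) = mat X * mat Y := by
  simp only [mat, Subgroup.coe_mul, Matrix.SpecialLinearGroup.coe_mul]

theorem mat_one : mat (1 : G) = 1 := by
  simp only [mat, Subgroup.coe_one, Matrix.SpecialLinearGroup.coe_one]

theorem mat_pow (X : G) (k : ℕ) : mat (X ^ k) = (mat X) ^ k := by
  simp only [mat, Subgroup.coe_pow, Matrix.SpecialLinearGroup.coe_pow]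

theorem mat_inj {X Y : G} (h : mat X = mat Y) : X = Y :=
  Subtype.ext (Subtype.ext h)

theorem mat_pres (X : G) (u v : Fin 3 → K) : H (mat X *ᵥ u) (mat X *ᵥ v) = H u v := X.2 u v

theorem mat_inv_mul (X : G) : mat X⁻¹ * mat X = 1 := by
  rw [← mat_mul, inv_mul_cancel, mat_one]

variable {p : ℕ} [Fact p.Prime]

theorem dvd_card_iso (hK : Fintype.card K = q ^ 2) (hpq : p ∣ q) :
    p ∣ Nat.card {v : Fin 3 → K // H v v = 0} := by
  classical
  have hq := Cfsg.Agent.Lib.Lead.two_le_q hK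
  have h1 : Nat.card {v : Fin 3 → K // H v v = 0} = (Cfsg.Agent.Lib.Lead.hermAB q 3).1 := by
    rw [Nat.card_eq_fintype_card, Fintype.card_subtype]
    have := Cfsg.Agent.Lib.Lead.card_herm hK 3 (0 : K) (zero_pow (by omega))
    rw [if_pos rfl] at this
    exact this
  rw [h1]
  have h2 := (Cfsg.Agent.Lib.Lead.hermAB_closed q hq 3).1
  have h3 : ((Cfsg.Agent.Lib.Lead.hermAB q 3).1 : ℤ) = (q : ℤ) * ((q : ℤ) ^ 4 - (q : ℤ) ^ 2 + q) := by
    have hq0 : (q : ℤ) ≠ 0 := by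
      have : (0 : ℤ) < q := by exact_mod_cast (by omega : 0 < q)
      exact this.ne'
    apply mul_left_cancel₀ hq0
    rw [h2]
    ring
  have h4 : (q : ℤ) ∣ ((Cfsg.Agent.Lib.Lead.hermAB q 3).1 : ℤ) := ⟨_, h3⟩
  exact dvd_trans hpq (Int.natCast_dvd_natCast.mp h4)

/-- a `p`-subgroup of `SU₃(q)` fixes a nonzero isotropic vector -/
theorem exists_fixed_iso (hK : Fintype.card K = q ^ 2) (hpq : p ∣ q) (P : Subgroup G)
    (hP : IsPGroup p P) :
    ∃ v : Fin 3 → K, v ≠ 0 ∧ H v v = 0 ∧ ∀ g ∈ P, mat g *ᵥ v = v := by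
  classical
  have hq := Cfsg.Agent.Lib.Lead.two_le_q hK
  letI : MulAction P {v : Fin 3 → K // H v v = 0} :=
    { smul := fun g z => ⟨mat g.1 *ᵥ z.1, by rw [mat_pres]; exact z.2⟩
      one_smul := fun z => by
        apply Subtype.ext
        show mat ((1 : P) : G) *ᵥ z.1 = z.1
        rw [Subgroup.coe_one, mat_one, Matrix.one_mulVec]
      mul_smul := fun g h z => by
        apply Subtype.ext
        show mat ((g * h : P) : G) *ᵥ z.1 = mat g.1 *ᵥ (mat h.1 *ᵥ z.1)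
        rw [Subgroup.coe_mul, mat_mul, Matrix.mulVec_mulVec] }
  have hsmul : ∀ (g : P) (z : {v : Fin 3 → K // H v v = 0}), (g • z).1 = mat g.1 *ᵥ z.1 :=
    fun _ _ => rfl
  have hz : H (0 : Fin 3 → K) 0 = 0 := by
    rw [herm3]; simp
  have h0 : (⟨0, hz⟩ : {v : Fin 3 → K // H v v = 0}) ∈
      MulAction.fixedPoints P {v : Fin 3 → K // H v v = 0} := by
    intro g
    apply Subtype.ext
    rw [hsmul]
    exact Matrix.mulVec_zero _
  obtain ⟨b, hb, hne⟩ := hP.exists_fixed_point_of_prime_dvd_card_of_fixed_point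
    {v : Fin 3 → K // H v v = 0} (dvd_card_iso hK hpq) h0
  refine ⟨b.1, ?_, b.2, ?_⟩
  · intro h
    apply hne
    exact Subtype.ext h.symm
  · intro g hg
    have := hb ⟨g, hg⟩
    have h2 := congrArg Subtype.val this
    rw [hsmul] at h2
    exact h2

/-- every `p`-local subgroup of `SU₃(q)` (`q` a power of the odd prime `p`) is `p`-closed -/
theorem local_pc [CharP K p] (hK : Fintype.card K = q ^ 2) (hp2 : p ≠ 2) (hpq : p ∣ q) (hqodd : Odd q)
    (P : Subgroup G) (hP : IsPGroup p P) (hP1 : P ≠ ⊥) :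
    PC p ↥(Subgroup.normalizer (P : Set G)) := by
  obtain ⟨σ, hσ⟩ := Cfsg.Agent.Lib.Lead.exists_frob hK
  have h2 : (2 : K) ≠ 0 := by
    intro h
    have h' : ((2 : ℕ) : K) = 0 := by exact_mod_cast h
    rw [CharP.cast_eq_zero_iff K p] at h'
    exact hp2 ((Nat.prime_dvd_prime_iff_eq Fact.out Nat.prime_two).mp h')
  obtain ⟨v, hv, hvv, hfix⟩ := exists_fixed_iso hK hpq P hP
  obtain ⟨T, Ti, hTiT, hTTi, hform, hTe⟩ := exists_T hK hqodd h2 σ hσ v hv hvv
  -- conjugation into hyperbolic coordinates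
  set cj : G → M3 := fun X => Ti * mat X * T with hcj
  have cj_mul : ∀ X Y : G, cj (X * Y) = cj X * cj Y := by
    intro X Y
    simp only [hcj, mat_mul]
    calc Ti * (mat X * mat Y) * T = Ti * mat X * 1 * mat Y * T := by
          simp only [Matrix.mul_one, Matrix.mul_assoc]
      _ = Ti * mat X * T * (Ti * mat Y * T) := by
          rw [← hTTi]; simp only [Matrix.mul_assoc]
  have cj_one : cj 1 = 1 := by
    simp only [hcj, mat_one, Matrix.mul_one, hTiT]
  have cj_pow : ∀ (X : G) (k : ℕ), cj (X ^ k) = (cj X) ^ k := by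
    intro X k
    induction k with
    | zero => rw [pow_zero, pow_zero, cj_one]
    | succ k ih => rw [pow_succ, pow_succ, cj_mul, ih]
  have cj_eq_one : ∀ X : G, cj X = 1 → X = 1 := by
    intro X hX
    apply mat_inj
    rw [mat_one]
    have : T * (Ti * mat X * T) * Ti = 1 := by
      have hX' : Ti * mat X * T = 1 := hX
      rw [hX', Matrix.mul_one, hTTi]
    calc mat X = (T * Ti) * mat X * (T * Ti) := by rw [hTTi, Matrix.one_mul, Matrix.mul_one]
      _ = T * (Ti * mat X * T) * Ti := by simp only [Matrix.mul_assoc]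
      _ = 1 := this
  have T_cj : ∀ (X : G) (x : Fin 3 → K), T *ᵥ (cj X *ᵥ x) = mat X *ᵥ (T *ᵥ x) := by
    intro X x
    simp only [hcj, Matrix.mulVec_mulVec]
    congr 1
    calc T * (Ti * mat X * T) = (T * Ti) * mat X * T := by simp only [Matrix.mul_assoc]
      _ = mat X * T := by rw [hTTi, Matrix.one_mul]
  have cj_pres : ∀ X : G, PresJ σ (cj X) := by
    intro X x y
    rw [← hform, T_cj, T_cj, mat_pres, hform]
  have Ti_T : ∀ x : Fin 3 → K, Ti *ᵥ (T *ᵥ x) = x := by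
    intro x
    rw [Matrix.mulVec_mulVec, hTiT, Matrix.one_mulVec]
  have T_Ti : ∀ x : Fin 3 → K, T *ᵥ (Ti *ᵥ x) = x := by
    intro x
    rw [Matrix.mulVec_mulVec, hTTi, Matrix.one_mulVec]
  -- p-elements stabilising the line of v are unitriangular
  have key1 : ∀ X : G, (∃ c : K, mat X *ᵥ v = c • v) → IsPElt p X → IsUT (cj X) := by
    rintro X ⟨c, hc⟩ ⟨k, hk⟩
    have he : cj X *ᵥ ![1, 0, 0] = c • ![1, 0, 0] := by
      have h1 : T *ᵥ (cj X *ᵥ ![1, 0, 0]) = T *ᵥ (c • ![1, 0, 0]) := by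
        rw [T_cj, hTe, hc, Matrix.mulVec_smul, hTe]
      have := congrArg (fun w => Ti *ᵥ w) h1
      simpa only [Ti_T] using this
    have h10 : cj X 1 0 = 0 := by
      have := congrFun he 1
      rw [mv3] at this
      simpa using this
    have h20 : cj X 2 0 = 0 := by
      have := congrFun he 2
      rw [mv3] at this
      simpa using this
    have hup := isUp_of_presJ σ (cj X) h10 h20 (cj_pres X)
    apply isUT_of_pow (p := p) hup k
    rw [← cj_pow, hk, cj_one]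
  -- uniqueness of the fixed isotropic point
  have huniq : ∀ u : Fin 3 → K, H u u = 0 → (∀ g ∈ P, mat g *ᵥ u = u) → ∃ c : K, u = c • v := by
    intro u huu hu
    by_contra hcon
    apply hP1
    rw [Subgroup.eq_bot_iff_forall]
    intro g hg
    apply cj_eq_one
    have hgp : IsPElt p g := isPElt_of_mem_pgroup hP hg
    have hUT := key1 g ⟨1, by rw [hfix g hg, one_smul]⟩ hgp
    apply eq_one_of_fix σ (cj g) hUT (cj_pres g) (Ti *ᵥ u)
    · have h1 : T *ᵥ (cj g *ᵥ (Ti *ᵥ u)) = T *ᵥ (Ti *ᵥ u) := by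
        rw [T_cj, T_Ti, hu g hg]
      have := congrArg (fun w => Ti *ᵥ w) h1
      simpa only [Ti_T] using this
    · rw [← hform, T_Ti, huu]
    · rintro ⟨h1, h2⟩
      apply hcon
      refine ⟨(Ti *ᵥ u) 0, ?_⟩
      have hx : Ti *ᵥ u = (Ti *ᵥ u) 0 • ![1, 0, 0] := by
        ext i
        fin_cases i
        · simp
        · simpa using h1
        · simpa using h2
      calc u = T *ᵥ (Ti *ᵥ u) := (T_Ti u).symm
        _ = T *ᵥ ((Ti *ᵥ u) 0 • ![1, 0, 0]) := by rw [← hx]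
        _ = (Ti *ᵥ u) 0 • v := by rw [Matrix.mulVec_smul, hTe]
  -- the normaliser stabilises the line of v
  have hnorm : ∀ n : G, n ∈ Subgroup.normalizer (P : Set G) → ∃ c : K, mat n *ᵥ v = c • v := by
    intro n hn
    apply huniq
    · rw [mat_pres, hvv]
    · intro g hg
      have hmem : n⁻¹ * g * n ∈ P := by
        have := (Subgroup.mem_normalizer_iff.mp (Subgroup.inv_mem _ hn) g).mp hg
        simpa using this
      have h1 : g * n = n * (n⁻¹ * g * n) := by group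
      rw [Matrix.mulVec_mulVec, ← mat_mul, h1, mat_mul, ← Matrix.mulVec_mulVec, hfix _ hmem]
  -- conclusion
  intro X Y hX hY
  have hX' : IsPElt p (X : G) := isPElt_map (Subgroup.subtype _) hX
  have hY' : IsPElt p (Y : G) := isPElt_map (Subgroup.subtype _) hY
  have h1 := key1 X.1 (hnorm X.1 X.2) hX'
  have h2 := key1 Y.1 (hnorm Y.1 Y.2) hY'
  have h3 : IsUT (cj (X.1 * Y.1)) := by
    rw [cj_mul]; exact isUT_mul h1 h2
  refine ⟨1, ?_⟩
  rw [pow_one]
  apply Subtype.ext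
  rw [Subgroup.coe_pow, Subgroup.coe_mul, Subgroup.coe_one]
  apply cj_eq_one
  rw [cj_pow]
  exact pow_p_eq_one hp2 _ h3

end main

end Cfsg.Agent.Lib.helper14.SU3Geo
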