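import Mathlib
import Cfsg.Prelude.Def_LieRecognition
import Cfsg.Agent.Lib.Lead.HermIso

set_option autoImplicit false

/-! An explicit model of the Sylow 2-subgroup of `SU₃(2ⁿ)`: pairs `(b, c)` with `c + σ c = b σ b`
and product `(b, c)(b', c') = (b + b', c + c' + b σ b')`. -/

namespace Cfsg.Agent.Lib.helper14.SuzModel

section model
variable {K : Type*} [Field K]

/-- the underlying set of the model -/
def SuzP (σ : K →+* K) : Type _ := {x : K × K // x.2 + σ x.2 = x.1 * σ x.1}

variable {σ : K →+* K}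

def SuzP.b (x : SuzP σ) : K := x.1.1
def SuzP.c (x : SuzP σ) : K := x.1.2
theorem SuzP.h (x : SuzP σ) : x.c + σ x.c = x.b * σ x.b := x.2

@[ext] theorem SuzP.ext {x y : SuzP σ} (hb : x.b = y.b) (hc : x.c = y.c) : x = y :=
  Subtype.ext (Prod.ext hb hc)

def SuzP.mk' (b c : K) (h : c + σ c = b * σ b) : SuzP σ := ⟨(b, c), h⟩
@[simp] theorem SuzP.mk'_b (b c : K) (h : c + σ c = b * σ b) : (SuzP.mk' b c h : SuzP σ).b = b := rfl
@[simp] theorem SuzP.mk'_c (b c : K) (h : c + σ c = b * σ b) : (SuzP.mk' b c h : SuzP σ).c = c := rfl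

variable [CharP K 2] [hinv : Fact (∀ x, σ (σ x) = x)]

theorem add_self' (x : K) : x + x = 0 := CharTwo.add_self_eq_zero x

instance : Mul (SuzP σ) :=
  ⟨fun x y => SuzP.mk' (x.b + y.b) (x.c + y.c + x.b * σ y.b) (by
    have hx := x.h
    have hy := y.h
    simp only [map_add, map_mul, hinv.out]
    linear_combination hx + hy)⟩

instance : One (SuzP σ) := ⟨SuzP.mk' 0 0 (by simp)⟩

instance : Inv (SuzP σ) :=
  ⟨fun x => SuzP.mk' x.b (x.c + x.b * σ x.b) (by
    have hx := x.h
    simp only [map_add, map_mul, hinv.out]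
    have h2 := add_self' (x.b * σ x.b)
    linear_combination hx + h2)⟩

@[simp] theorem mul_b (x y : SuzP σ) : (x * y).b = x.b + y.b := rfl
@[simp] theorem mul_c (x y : SuzP σ) : (x * y).c = x.c + y.c + x.b * σ y.b := rfl
@[simp] theorem one_b : (1 : SuzP σ).b = 0 := rfl
@[simp] theorem one_c : (1 : SuzP σ).c = 0 := rfl
@[simp] theorem inv_b (x : SuzP σ) : (x⁻¹).b = x.b := rfl
@[simp] theorem inv_c (x : SuzP σ) : (x⁻¹).c = x.c + x.b * σ x.b := rfl

instance : Group (SuzP σ) :=
  Group.ofLeftAxioms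
    (fun x y z => by
      ext
      · simp only [mul_b]; ring
      · simp only [mul_c, mul_b, map_add]; ring)
    (fun x => by
      ext
      · simp
      · simp)
    (fun x => by
      ext
      · simp only [mul_b, inv_b, one_b]; exact add_self' _
      · simp only [mul_c, inv_c, inv_b, one_c]
        have h1 := add_self' x.c
        have h2 := add_self' (x.b * σ x.b)
        linear_combination h1 + h2)

theorem sq_b (x : SuzP σ) : (x * x).b = 0 := by
  simp only [mul_b]; exact add_self' _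

theorem sq_c (x : SuzP σ) : (x * x).c = x.b * σ x.b := by
  simp only [mul_c]
  have := add_self' x.c
  linear_combination this

theorem sq_eq_one_iff (x : SuzP σ) : x * x = 1 ↔ x.b = 0 := by
  constructor
  · intro h
    have := congrArg SuzP.c h
    rw [sq_c, one_c] at this
    rcases mul_eq_zero.mp this with h1 | h1
    · exact h1
    · by_contra hne
      exact (map_ne_zero σ).mpr hne h1
  · intro h
    ext
    · rw [sq_b, one_b]
    · rw [sq_c, one_c, h, zero_mul]

theorem pow_four (x : SuzP σ) : x ^ 2 ^ 2 = 1 := by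
  have h1 : x ^ 2 ^ 2 = (x * x) * (x * x) := by
    show x ^ 4 = _
    rw [show (4 : ℕ) = 2 + 2 from rfl, pow_add, pow_two]
  rw [h1, sq_eq_one_iff, sq_b]

theorem isPGroup : IsPGroup 2 (SuzP σ) := fun x => ⟨2, pow_four x⟩

theorem comm_iff (x y : SuzP σ) : x * y = y * x ↔ x.b * σ y.b = y.b * σ x.b := by
  constructor
  · intro h
    have := congrArg SuzP.c h
    simp only [mul_c] at this
    linear_combination this
  · intro h
    ext
    · simp only [mul_b]; ring
    · simp only [mul_c]
      linear_combination h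

theorem ne_one_iff_of_b (x : SuzP σ) (hb : x.b = 0) : x ≠ 1 ↔ x.c ≠ 0 := by
  constructor
  · intro h hc
    apply h
    ext
    · rw [hb, one_b]
    · rw [hc, one_c]
  · intro h h1
    apply h
    rw [h1, one_c]

theorem c_fixed_of_b (x : SuzP σ) (hb : x.b = 0) : σ x.c = x.c := by
  have := x.h
  rw [hb, zero_mul] at this
  have h2 := add_self' x.c
  linear_combination this - h2

/-- elements with `b = 0` -/
def zEl (c : K) (hc : σ c = c) : SuzP σ := SuzP.mk' 0 c (by rw [hc, zero_mul]; exact add_self' c)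

@[simp] theorem zEl_b (c : K) (hc : σ c = c) : (zEl c hc : SuzP σ).b = 0 := rfl
@[simp] theorem zEl_c (c : K) (hc : σ c = c) : (zEl c hc : SuzP σ).c = c := rfl

theorem zEl_central (c : K) (hc : σ c = c) (y : SuzP σ) : zEl c hc * y = y * zEl c hc := by
  rw [comm_iff]
  simp

/-- the projection `(b, c) ↦ b` -/
def bHom : SuzP σ →* Multiplicative K where
  toFun x := Multiplicative.ofAdd x.b
  map_one' := rfl
  map_mul' _ _ := rfl

theorem mem_ker_bHom (x : SuzP σ) : x ∈ (bHom (σ := σ)).ker ↔ x.b = 0 := by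
  rw [MonoidHom.mem_ker]
  exact Iff.rfl

/-- the automorphism `(b, c) ↦ (a b, a² c)` for `a` in the fixed field -/
def scal (a : K) (ha : σ a = a) (x : SuzP σ) : SuzP σ :=
  SuzP.mk' (a * x.b) (a * a * x.c) (by
    have := x.h
    simp only [map_mul, ha]
    linear_combination (a * a) * this)

@[simp] theorem scal_b (a : K) (ha : σ a = a) (x : SuzP σ) : (scal a ha x).b = a * x.b := rfl
@[simp] theorem scal_c (a : K) (ha : σ a = a) (x : SuzP σ) : (scal a ha x).c = a * a * x.c := rfl

theorem scal_mul (a : K) (ha : σ a = a) (x y : SuzP σ) :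
    scal a ha (x * y) = scal a ha x * scal a ha y := by
  ext
  · simp only [scal_b, mul_b]; ring
  · simp only [scal_c, mul_c, scal_b, map_mul, ha]; ring

theorem scal_scal (a a' : K) (ha : σ a = a) (ha' : σ a' = a') (x : SuzP σ) :
    scal a ha (scal a' ha' x) = scal (a * a') (by rw [map_mul, ha, ha']) x := by
  ext
  · simp only [scal_b]; ring
  · simp only [scal_c]; ring

theorem scal_one (x : SuzP σ) : scal (1 : K) (map_one σ) x = x := by
  ext
  · simp
  · simp

/-- the fixed field units -/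
def fixU (σ : K →+* K) : Subgroup Kˣ where
  carrier := {a | σ (a : K) = a}
  one_mem' := by simp
  mul_mem' := by
    intro a b ha hb
    show σ ((a * b : Kˣ) : K) = _
    rw [Units.val_mul, map_mul, ha, hb]
  inv_mem' := by
    intro a ha
    show σ ((a⁻¹ : Kˣ) : K) = _
    rw [Units.val_inv_eq_inv_val, map_inv₀, ha]

theorem fixU_mem (a : fixU σ) : σ ((a : Kˣ) : K) = ((a : Kˣ) : K) := a.2

theorem fixU_inv_mem (a : fixU σ) : σ (((a : Kˣ)⁻¹ : Kˣ) : K) = (((a : Kˣ)⁻¹ : Kˣ) : K) :=
  fixU_mem a⁻¹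

/-- the scalar automorphism as a `MulAut` -/
def scalAut (a : fixU σ) : MulAut (SuzP σ) where
  toFun := scal ((a : Kˣ) : K) (fixU_mem a)
  invFun := scal (((a : Kˣ)⁻¹ : Kˣ) : K) (fixU_inv_mem a)
  left_inv x := by
    have h1 : (((a : Kˣ)⁻¹ : Kˣ) : K) * ((a : Kˣ) : K) = 1 := by simp
    ext
    · simp only [scal_b]
      rw [← mul_assoc, h1, one_mul]
    · simp only [scal_c]
      linear_combination ((((a : Kˣ)⁻¹ : Kˣ) : K) * ((a : Kˣ) : K) * x.c + x.c) * h1
  right_inv x := by
    have h1 : ((a : Kˣ) : K) * (((a : Kˣ)⁻¹ : Kˣ) : K) = 1 := by simp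
    ext
    · simp only [scal_b]
      rw [← mul_assoc, h1, one_mul]
    · simp only [scal_c]
      linear_combination (((a : Kˣ) : K) * (((a : Kˣ)⁻¹ : Kˣ) : K) * x.c + x.c) * h1
  map_mul' := scal_mul _ _

theorem scalAut_b (a : fixU σ) (x : SuzP σ) : (scalAut a x).b = ((a : Kˣ) : K) * x.b := rfl
theorem scalAut_c (a : fixU σ) (x : SuzP σ) :
    (scalAut a x).c = ((a : Kˣ) : K) * ((a : Kˣ) : K) * x.c := rfl

def scalHom : fixU σ →* MulAut (SuzP σ) where
  toFun := scalAut
  map_one' := by
    ext x : 2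
    · rw [scalAut_b]; simp
    · rw [scalAut_c]; simp
  map_mul' a a' := by
    ext x : 2
    · rw [MulAut.mul_apply, scalAut_b, scalAut_b, scalAut_b]
      simp only [Subgroup.coe_mul, Units.val_mul]; ring
    · rw [MulAut.mul_apply, scalAut_c, scalAut_c, scalAut_c]
      simp only [Subgroup.coe_mul, Units.val_mul]; ring

theorem scalHom_apply (a : fixU σ) : scalHom a = scalAut a := rfl

end model

section finite
variable {K : Type*} [Field K] [Fintype K] {q : ℕ} {σ : K →+* K} [CharP K 2]
  [hinv : Fact (∀ x, σ (σ x) = x)]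

open Cfsg.Agent.Lib.Lead.HI

theorem exists_c (hK : Fintype.card K = q ^ 2) (hσ : ∀ x, σ x = x ^ q) (b : K) :
    ∃ c : K, c + σ c = b * σ b := by
  have hs : (b * σ b) ^ q = b * σ b := by
    rw [← hσ, map_mul, hinv.out, mul_comm]
  obtain ⟨c, hc⟩ := trace_surj hK (b * σ b) hs
  exact ⟨c, by rw [hσ]; exact hc⟩

theorem exists_tr (hK : Fintype.card K = q ^ 2) (hσ : ∀ x, σ x = x ^ q) (s : K) (hs : σ s = s) :
    ∃ c : K, c + σ c = s := by
  obtain ⟨c, hc⟩ := trace_surj hK s (by rw [← hσ]; exact hs)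
  exact ⟨c, by rw [hσ]; exact hc⟩

theorem bHom_surjective (hK : Fintype.card K = q ^ 2) (hσ : ∀ x, σ x = x ^ q) :
    Function.Surjective (bHom (σ := σ)) := by
  intro b
  obtain ⟨c, hc⟩ := exists_c hK hσ (Multiplicative.toAdd b)
  exact ⟨SuzP.mk' (Multiplicative.toAdd b) c hc, rfl⟩

instance : Finite (SuzP σ) := by
  unfold SuzP
  infer_instance

theorem card_ker (hK : Fintype.card K = q ^ 2) (hσ : ∀ x, σ x = x ^ q) :
    Nat.card (bHom (σ := σ)).ker = q := by
  classical
  have e : (bHom (σ := σ)).ker ≃ {s : K // s ^ q = s} :=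
    { toFun := fun x => ⟨x.1.c, by
        rw [← hσ]
        exact c_fixed_of_b x.1 ((mem_ker_bHom x.1).mp x.2)⟩
      invFun := fun s => ⟨zEl s.1 (by rw [hσ]; exact s.2), (mem_ker_bHom _).mpr rfl⟩
      left_inv := fun x => by
        apply Subtype.ext
        ext
        · exact ((mem_ker_bHom x.1).mp x.2).symm
        · rfl
      right_inv := fun s => rfl }
  rw [Nat.card_congr e, Nat.card_eq_fintype_card, Fintype.card_subtype]
  exact card_fixed hK

theorem card_suzP (hK : Fintype.card K = q ^ 2) (hσ : ∀ x, σ x = x ^ q) :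
    Nat.card (SuzP σ) = q ^ 3 := by
  have h1 := Subgroup.card_eq_card_quotient_mul_card_subgroup (bHom (σ := σ)).ker
  have h2 : Nat.card (SuzP σ ⧸ (bHom (σ := σ)).ker) = q ^ 2 := by
    rw [Nat.card_congr (QuotientGroup.quotientKerEquivOfSurjective _
      (bHom_surjective hK hσ)).toEquiv]
    show Nat.card K = q ^ 2
    rw [Nat.card_eq_fintype_card, hK]
  rw [h1, h2, card_ker hK hσ]
  ring

theorem center_eq (hK : Fintype.card K = q ^ 2) (hσ : ∀ x, σ x = x ^ q) :
    Subgroup.center (SuzP σ) = (bHom (σ := σ)).ker := by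
  ext x
  rw [mem_ker_bHom, Subgroup.mem_center_iff]
  constructor
  · intro hx
    by_contra hb
    obtain ⟨δ, hδ⟩ := exists_not_fixed hK
    obtain ⟨c, hc⟩ := exists_c (σ := σ) hK hσ (x.b * δ)
    have h1 := hx (SuzP.mk' (x.b * δ) c hc)
    rw [comm_iff] at h1
    simp only [SuzP.mk'_b, map_mul] at h1
    have h2 : x.b * σ x.b * (δ - σ δ) = 0 := by linear_combination h1
    have h3 : σ x.b ≠ 0 := (map_ne_zero σ).mpr hb
    rcases mul_eq_zero.mp h2 with h | h
    · rcases mul_eq_zero.mp h with h' | h'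
      · exact hb h'
      · exact h3 h'
    · apply hδ
      rw [← hσ]
      exact (sub_eq_zero.mp h).symm
  · intro hb y
    rw [comm_iff, hb]
    simp

theorem card_center (hK : Fintype.card K = q ^ 2) (hσ : ∀ x, σ x = x ^ q) :
    Nat.card (Subgroup.center (SuzP σ)) = q := by
  rw [center_eq hK hσ, card_ker hK hσ]

/-- involutions are exactly the nonidentity central elements -/
theorem invol_iff (hK : Fintype.card K = q ^ 2) (hσ : ∀ x, σ x = x ^ q) (x : SuzP σ) :
    (x ≠ 1 ∧ x * x = 1) ↔ (x ≠ 1 ∧ x ∈ Subgroup.center (SuzP σ)) := by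
  rw [center_eq hK hσ, mem_ker_bHom, sq_eq_one_iff]

theorem exists_fixed_ne (hK : Fintype.card K = q ^ 2) (hq : 3 ≤ q) :
    ∃ c : K, c ^ q = c ∧ c ≠ 0 ∧ c ≠ 1 := by
  classical
  have h := card_fixed hK
  by_contra hcon
  push Not at hcon
  have hsub : (Finset.univ.filter (fun s : K => s ^ q = s)) ⊆ {0, 1} := by
    intro s hs
    rw [Finset.mem_filter] at hs
    by_cases h0 : s = 0
    · simp [h0]
    · have := hcon s hs.2 h0
      simp [this]
  have := Finset.card_le_card hsub
  rw [h] at this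
  have h2 : ({0, 1} : Finset K).card ≤ 2 := Finset.card_le_two
  omega

theorem exists_noncomm (hK : Fintype.card K = q ^ 2) (hσ : ∀ x, σ x = x ^ q) :
    ∃ x y : SuzP σ, x * y ≠ y * x := by
  obtain ⟨δ, hδ⟩ := exists_not_fixed hK
  obtain ⟨c1, hc1⟩ := exists_c (σ := σ) hK hσ 1
  obtain ⟨c2, hc2⟩ := exists_c (σ := σ) hK hσ δ
  refine ⟨SuzP.mk' 1 c1 hc1, SuzP.mk' δ c2 hc2, ?_⟩
  rw [Ne, comm_iff]
  simp only [SuzP.mk'_b, map_one, one_mul, mul_one]
  intro h
  apply hδ
  rw [← hσ, h]

theorem isSuzuki (hK : Fintype.card K = q ^ 2) (hσ : ∀ x, σ x = x ^ q) (hq : 3 ≤ q) :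
    Cfsg.IsSuzukiTwoGroup (SuzP σ) := by
  refine ⟨inferInstance, isPGroup, exists_noncomm hK hσ, ?_, ?_⟩
  · obtain ⟨c, hc, hc0, hc1⟩ := exists_fixed_ne hK hq
    have hc' : σ c = c := by rw [hσ]; exact hc
    refine ⟨zEl 1 (map_one σ), zEl c hc', ?_, ?_, ?_, ?_, ?_⟩
    · intro h
      have := congrArg SuzP.c h
      simp at this
      exact hc1 this.symm
    · rw [ne_one_iff_of_b _ rfl]; simp
    · rw [sq_eq_one_iff]; rfl
    · rw [ne_one_iff_of_b _ rfl]; simpa using hc0
    · rw [sq_eq_one_iff]; rfl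
  · haveI : IsCyclic (fixU σ) := inferInstance
    refine ⟨(scalHom (σ := σ)).range, ?_, ?_⟩
    · exact isCyclic_of_surjective (scalHom (σ := σ)).rangeRestrict
        (scalHom (σ := σ)).rangeRestrict_surjective
    · intro x y hx1 hx2 hy1 hy2
      have hxb := (sq_eq_one_iff x).mp hx2
      have hyb := (sq_eq_one_iff y).mp hy2
      have hxc := (ne_one_iff_of_b x hxb).mp hx1
      have hyc := (ne_one_iff_of_b y hyb).mp hy1
      have hxf := c_fixed_of_b x hxb
      have hyf := c_fixed_of_b y hyb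
      -- square root of y.c / x.c
      obtain ⟨r, hr⟩ := FiniteField.isSquare_of_char_two (CharP.ringChar_of_prime_eq_zero Nat.prime_two
        (by exact_mod_cast (CharP.cast_eq_zero K 2))) (y.c / x.c)
      have hr0 : r ≠ 0 := by
        rintro rfl
        rw [mul_zero] at hr
        exact (div_ne_zero hyc hxc) hr
      have hrf : σ r = r := by
        have h1 : σ r * σ r = r * r := by
          rw [← map_mul, ← hr, map_div₀, hxf, hyf]
        have h2 : (σ r + r) * (σ r + r) = 0 := by
          have := add_self' (σ r * r)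
          linear_combination h1 + this + add_self' (r * r)
        have h3 : σ r + r = 0 := by
          rcases mul_eq_zero.mp h2 with h | h <;> exact h
        have := add_self' r
        linear_combination h3 - this
      let a : fixU σ := ⟨Units.mk0 r hr0, hrf⟩
      have ha : scalAut a x = y := by
        ext
        · rw [scalAut_b, hxb, hyb, mul_zero]
        · rw [scalAut_c]
          show r * r * x.c = y.c
          rw [← hr]
          field_simp
      refine ⟨⟨scalHom a, a, rfl⟩, ha, ?_⟩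
      rintro ⟨k, a', rfl⟩ hk
      apply Subtype.ext
      show scalHom a' = scalHom a
      congr 1
      have hk' : scalAut a' x = y := hk
      have h1 := congrArg SuzP.c hk'
      rw [scalAut_c] at h1
      have h2 : ((a' : Kˣ) : K) * ((a' : Kˣ) : K) = r * r := by
        have : ((a' : Kˣ) : K) * ((a' : Kˣ) : K) = y.c / x.c := by
          rw [eq_div_iff hxc]
          exact h1
        rw [this, hr]
      have h3 : (((a' : Kˣ) : K) + r) * (((a' : Kˣ) : K) + r) = 0 := by
        have := add_self' (((a' : Kˣ) : K) * r)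
        linear_combination h2 + this + add_self' (r * r)
      have h4 : ((a' : Kˣ) : K) + r = 0 := by
        rcases mul_eq_zero.mp h3 with h | h <;> exact h
      apply Subtype.ext
      apply Units.ext
      show ((a' : Kˣ) : K) = r
      have := add_self' r
      linear_combination h4 - this

/-- every central element is a commutator -/
theorem exists_comm_eq (hK : Fintype.card K = q ^ 2) (hσ : ∀ x, σ x = x ^ q) (z : SuzP σ)
    (hz : z.b = 0) : ∃ u v : SuzP σ, z = u * v * u⁻¹ * v⁻¹ := by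
  have hzc := c_fixed_of_b z hz
  obtain ⟨b', hb'⟩ := exists_tr hK hσ z.c hzc
  obtain ⟨c1, hc1⟩ := exists_c (σ := σ) hK hσ 1
  obtain ⟨c2, hc2⟩ := exists_c (σ := σ) hK hσ b'
  refine ⟨SuzP.mk' 1 c1 hc1, SuzP.mk' b' c2 hc2, ?_⟩
  have key : SuzP.mk' 1 c1 hc1 * SuzP.mk' b' c2 hc2 = z * (SuzP.mk' b' c2 hc2 * SuzP.mk' 1 c1 hc1) := by
    ext
    · simp only [mul_b, SuzP.mk'_b, hz]; ring
    · simp only [mul_c, mul_b, SuzP.mk'_b, SuzP.mk'_c, hz, map_one]
      linear_combination hb' - add_self' b'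
  have : z = SuzP.mk' 1 c1 hc1 * SuzP.mk' b' c2 hc2 * (SuzP.mk' b' c2 hc2 * SuzP.mk' 1 c1 hc1)⁻¹ := by
    rw [key, mul_inv_cancel_right]
  rw [this, mul_inv_rev]
  group

theorem sq_mem_center (hK : Fintype.card K = q ^ 2) (hσ : ∀ x, σ x = x ^ q) (x : SuzP σ) :
    x ^ 2 ∈ Subgroup.center (SuzP σ) := by
  rw [center_eq hK hσ, mem_ker_bHom, pow_two, sq_b]

theorem sq_eq_one_of_mem_center (hK : Fintype.card K = q ^ 2) (hσ : ∀ x, σ x = x ^ q) (x : SuzP σ)
    (hx : x ∈ Subgroup.center (SuzP σ)) : x ^ 2 = 1 := by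
  rw [center_eq hK hσ, mem_ker_bHom] at hx
  rw [pow_two, sq_eq_one_iff]
  exact hx

end finite

section transfer

theorem congr_apply {P Q : Type*} [Group P] [Group Q] (e : Q ≃* P) (k : MulAut Q) (x : P) :
    (MulAut.congr e k) x = e (k (e.symm x)) := rfl

/-- being a Suzuki 2-group is invariant under isomorphism -/
theorem isSuzuki_of_equiv {P Q : Type*} [Group P] [Group Q] (e : P ≃* Q)
    (h : Cfsg.IsSuzukiTwoGroup Q) : Cfsg.IsSuzukiTwoGroup P := by
  obtain ⟨hfin, hpg, ⟨x0, y0, hxy⟩, ⟨x1, y1, h1, h2, h3, h4, h5⟩, ⟨Kk, hcyc, hreg⟩⟩ := h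
  haveI := hfin
  refine ⟨Finite.of_equiv Q e.symm.toEquiv, hpg.of_equiv e.symm, ?_, ?_, ?_⟩
  · refine ⟨e.symm x0, e.symm y0, ?_⟩
    rw [← map_mul, ← map_mul]
    exact fun h => hxy (e.symm.injective h)
  · refine ⟨e.symm x1, e.symm y1, ?_, ?_, ?_, ?_, ?_⟩
    · exact fun h => h1 (e.symm.injective h)
    · exact fun h => h2 (e.symm.injective (by rw [h, map_one]))
    · rw [← map_mul, h3, map_one]
    · exact fun h => h4 (e.symm.injective (by rw [h, map_one]))
    · rw [← map_mul, h5, map_one]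
  · let c : MulAut Q →* MulAut P := (MulAut.congr e.symm).toMonoidHom
    have hc : Function.Injective c := (MulAut.congr e.symm).injective
    refine ⟨Kk.map c, ?_, ?_⟩
    · haveI := hcyc
      exact isCyclic_of_surjective (Kk.equivMapOfInjective c hc).toMonoidHom
        (Kk.equivMapOfInjective c hc).surjective
    · intro x y hx1 hx2 hy1 hy2
      have hx1' : e x ≠ 1 := fun h => hx1 (e.injective (by rw [h, map_one]))
      have hy1' : e y ≠ 1 := fun h => hy1 (e.injective (by rw [h, map_one]))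
      have hx2' : e x * e x = 1 := by rw [← map_mul, hx2, map_one]
      have hy2' : e y * e y = 1 := by rw [← map_mul, hy2, map_one]
      obtain ⟨k, hk, hku⟩ := hreg (e x) (e y) hx1' hx2' hy1' hy2'
      refine ⟨⟨c k.1, k.1, k.2, rfl⟩, ?_, ?_⟩
      · show (MulAut.congr e.symm k.1) x = y
        rw [congr_apply]
        show e.symm ((k : MulAut Q) (e x)) = y
        rw [hk]
        exact e.symm_apply_apply y
      · rintro ⟨k', k2, hk2, rfl⟩ hk'
        have hk'' : (MulAut.congr e.symm k2) x = y := hk'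
        rw [congr_apply] at hk''
        have h6 : (k2 : MulAut Q) (e x) = e y := by
          have := congrArg e hk''
          rw [MulEquiv.apply_symm_apply] at this
          exact this
        have h7 := hku ⟨k2, hk2⟩ h6
        apply Subtype.ext
        show c k2 = c k.1
        rw [← h7]

end transfer

end Cfsg.Agent.Lib.helper14.SuzModel
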