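import Mathlib
import Cfsg.Prelude.Def_Classical
import Cfsg.Agent.S0280
import Cfsg.Agent.Lib.helper14.SU3J
import Cfsg.Agent.Lib.helper14.SU3Geo
import Cfsg.Agent.Lib.helper14.SuzModel

set_option autoImplicit false

/-! The Sylow 2-subgroups of `PSU₃(2ⁿ)` are isomorphic to the explicit model `SuzP σ`. -/

namespace Cfsg.Agent.Lib.helper14.SU3Even

open Matrix Cfsg.Agent.Lib.helper14.SU3J Cfsg.Agent.Lib.helper14.SuzModel
  Cfsg.Agent.Lib.helper14.SU3Geo

section coords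
variable {K : Type*} [Field K] [Fintype K] {q : ℕ}

local notation "M3" => Matrix (Fin 3) (Fin 3) K
local notation "H" => Cfsg.hermForm 3 K q

/-- hyperbolic coordinates in characteristic 2 -/
def T2 (θ : K) : M3 := !![1, 0, θ; 1, 0, θ + 1; 0, 1, 0]

def T2i (θ : K) : M3 := !![1 + θ, θ, 0; 0, 0, 1; 1, 1, 0]

theorem T2i_mul [CharP K 2] (θ : K) : T2i θ * T2 θ = 1 := by
  have h2 : ∀ x : K, x + x = 0 := CharTwo.add_self_eq_zero
  ext i j
  fin_cases i <;> fin_cases j <;>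
    simp [T2, T2i, Matrix.mul_apply, Fin.sum_univ_three, h2]
  all_goals first
    | linear_combination h2 θ
    | linear_combination h2 θ + h2 1
    | linear_combination (1 + θ) * h2 θ
    | linear_combination θ * h2 θ
    | linear_combination h2 1

theorem T2_mul [CharP K 2] (θ : K) : T2 θ * T2i θ = 1 := by
  have h2 : ∀ x : K, x + x = 0 := CharTwo.add_self_eq_zero
  ext i j
  fin_cases i <;> fin_cases j <;>
    simp [T2, T2i, Matrix.mul_apply, Fin.sum_univ_three, h2]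
  all_goals first
    | linear_combination h2 θ
    | linear_combination h2 θ + h2 1
    | linear_combination (1 + θ) * h2 θ
    | linear_combination θ * h2 θ
    | linear_combination h2 1

theorem T2_form [CharP K 2] (σ : K →+* K) (hσ : ∀ x, σ x = x ^ q) (θ : K) (hθ : θ + σ θ = 1)
    (x y : Fin 3 → K) : H (T2 θ *ᵥ x) (T2 θ *ᵥ y) = hJ σ x y := by
  have h2 : ∀ x : K, x + x = 0 := CharTwo.add_self_eq_zero
  rw [herm3]
  simp only [← hσ, mv3, hJ]
  have e1 : ∀ i j, T2 θ i j = (!![1, 0, θ; 1, 0, θ + 1; 0, 1, 0] : M3) i j := fun _ _ => rfl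
  simp only [e1]
  simp only [Matrix.of_apply, Matrix.cons_val', Matrix.cons_val_zero, Matrix.cons_val_one,
    Matrix.cons_val_two, Matrix.empty_val', Matrix.cons_val_fin_one, Matrix.head_cons,
    Matrix.tail_cons, Matrix.head_fin_const]
  simp only [map_add, map_mul, map_zero, map_one]
  have hθ' : σ θ = 1 - θ := by linear_combination hθ
  rw [hθ']
  linear_combination (x 0 * σ (y 0)) * h2 1 + (x 2 * σ (y 0)) * h2 θ - (x 0 * σ (y 2)) * h2 θ
    + (x 2 * σ (y 2)) * h2 θ - (x 2 * σ (y 2)) * (θ * h2 θ) + (x 0 * σ (y 2)) * h2 1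
    + (x 2 * σ (y 2)) * h2 1

/-- the matrix of a model element in hyperbolic coordinates -/
def Mx (σ : K →+* K) (x : SuzP σ) : M3 := !![1, x.b, x.c; 0, 1, σ x.b; 0, 0, 1]

theorem Mx_apply (σ : K →+* K) (x : SuzP σ) (i j : Fin 3) :
    Mx σ x i j = (!![1, x.b, x.c; 0, 1, σ x.b; 0, 0, 1] : M3) i j := rfl

theorem Mx_det (σ : K →+* K) (x : SuzP σ) : (Mx σ x).det = 1 := by
  rw [Matrix.det_fin_three]
  simp [Mx_apply]

variable [CharP K 2] {σ : K →+* K} [hinv : Fact (∀ x, σ (σ x) = x)]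

theorem Mx_mul (x y : SuzP σ) : Mx σ (x * y) = Mx σ x * Mx σ y := by
  ext i j
  fin_cases i <;> fin_cases j <;>
    simp [Mx_apply, Matrix.mul_apply, Fin.sum_univ_three, SuzModel.mul_b, SuzModel.mul_c] <;> ring

theorem Mx_one : Mx σ (1 : SuzP σ) = 1 := by
  ext i j
  fin_cases i <;> fin_cases j <;> simp [Mx_apply, SuzModel.one_b, SuzModel.one_c]

theorem Mx_inj {x y : SuzP σ} (h : Mx σ x = Mx σ y) : x = y := by
  have h1 := congrFun (congrFun h 0) 1
  have h2 := congrFun (congrFun h 0) 2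
  simp only [Mx_apply] at h1 h2
  exact SuzP.ext (by simpa using h1) (by simpa using h2)

theorem Mx_presJ (x : SuzP σ) : PresJ σ (Mx σ x) := by
  have h2 : ∀ x : K, x + x = 0 := CharTwo.add_self_eq_zero
  intro u v
  simp only [hJ, mv3, Mx_apply]
  simp only [Matrix.of_apply, Matrix.cons_val', Matrix.cons_val_zero, Matrix.cons_val_one,
    Matrix.cons_val_two, Matrix.empty_val', Matrix.cons_val_fin_one, Matrix.head_cons,
    Matrix.tail_cons, Matrix.head_fin_const]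
  simp only [map_add, map_mul, map_zero, map_one, hinv.out]
  have hx := x.h
  linear_combination (u 2 * σ (v 2)) * hx + (u 1 * σ (v 2)) * h2 x.b
    + (u 2 * σ (v 1)) * h2 (σ x.b) + (u 2 * σ (v 2)) * (h2 (x.b * σ x.b))

end coords

section embed
variable {K : Type*} [Field K] [Fintype K] {q : ℕ} [CharP K 2] {σ : K →+* K}
  [hinv : Fact (∀ x, σ (σ x) = x)]

local notation "M3" => Matrix (Fin 3) (Fin 3) K
local notation "H" => Cfsg.hermForm 3 K q

/-- the matrix in standard coordinates -/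
def Nx (σ : K →+* K) (θ : K) (x : SuzP σ) : M3 := T2 θ * Mx σ x * T2i θ

theorem Nx_det (θ : K) (x : SuzP σ) : (Nx σ θ x).det = 1 := by
  unfold Nx
  rw [Matrix.det_mul, Matrix.det_mul, Mx_det, mul_one, ← Matrix.det_mul, T2_mul, Matrix.det_one]

theorem Nx_mul (θ : K) (x y : SuzP σ) : Nx σ θ (x * y) = Nx σ θ x * Nx σ θ y := by
  unfold Nx
  rw [Mx_mul]
  calc T2 θ * (Mx σ x * Mx σ y) * T2i θ = T2 θ * Mx σ x * 1 * Mx σ y * T2i θ := by
        simp only [Matrix.mul_one, Matrix.mul_assoc]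
    _ = T2 θ * Mx σ x * T2i θ * (T2 θ * Mx σ y * T2i θ) := by
        rw [← T2i_mul θ]; simp only [Matrix.mul_assoc]

theorem Nx_one (θ : K) : Nx σ θ (1 : SuzP σ) = 1 := by
  unfold Nx
  rw [Mx_one, Matrix.mul_one, T2_mul]

theorem Nx_inj (θ : K) {x y : SuzP σ} (h : Nx σ θ x = Nx σ θ y) : x = y := by
  apply Mx_inj
  unfold Nx at h
  have h1 : T2i θ * (T2 θ * Mx σ x * T2i θ) * T2 θ = T2i θ * (T2 θ * Mx σ y * T2i θ) * T2 θ := by
    rw [h]
  have e : ∀ M : M3, T2i θ * (T2 θ * M * T2i θ) * T2 θ = M := by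
    intro M
    calc T2i θ * (T2 θ * M * T2i θ) * T2 θ = (T2i θ * T2 θ) * M * (T2i θ * T2 θ) := by
          simp only [Matrix.mul_assoc]
      _ = M := by rw [T2i_mul, Matrix.one_mul, Matrix.mul_one]
  rwa [e, e] at h1

theorem Nx_pres (hσ : ∀ x, σ x = x ^ q) (θ : K) (hθ : θ + σ θ = 1) (x : SuzP σ)
    (u v : Fin 3 → K) : H (Nx σ θ x *ᵥ u) (Nx σ θ x *ᵥ v) = H u v := by
  have e : ∀ w : Fin 3 → K, Nx σ θ x *ᵥ w = T2 θ *ᵥ (Mx σ x *ᵥ (T2i θ *ᵥ w)) := by
    intro w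
    unfold Nx
    simp only [Matrix.mulVec_mulVec, Matrix.mul_assoc]
  have e2 : ∀ w : Fin 3 → K, T2 θ *ᵥ (T2i θ *ᵥ w) = w := by
    intro w
    rw [Matrix.mulVec_mulVec, T2_mul, Matrix.one_mulVec]
  rw [e, e, T2_form σ hσ θ hθ, Mx_presJ x, ← T2_form σ hσ θ hθ, e2, e2]

/-- the embedding of the model into `SU₃` -/
def emb (hσ : ∀ x, σ x = x ^ q) (θ : K) (hθ : θ + σ θ = 1) : SuzP σ →* ↥(Cfsg.SU 3 K q) where
  toFun x := ⟨⟨Nx σ θ x, Nx_det θ x⟩, fun u v => Nx_pres hσ θ hθ x u v⟩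
  map_one' := by
    apply Subtype.ext
    apply Subtype.ext
    exact Nx_one θ
  map_mul' x y := by
    apply Subtype.ext
    apply Subtype.ext
    exact Nx_mul θ x y

theorem emb_injective (hσ : ∀ x, σ x = x ^ q) (θ : K) (hθ : θ + σ θ = 1) :
    Function.Injective (emb (q := q) hσ θ hθ) := by
  intro x y h
  apply Nx_inj θ
  exact congrArg (fun g : ↥(Cfsg.SU 3 K q) => ((g : Matrix.SpecialLinearGroup (Fin 3) K) : M3)) h

/-- the composite embedding into `PSU₃` -/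
def embP (hσ : ∀ x, σ x = x ^ q) (θ : K) (hθ : θ + σ θ = 1) : SuzP σ →* Cfsg.PSU 3 K q :=
  (QuotientGroup.mk' (Subgroup.center ↥(Cfsg.SU 3 K q))).comp (emb hσ θ hθ)

theorem embP_injective (hK : Fintype.card K = q ^ 2) (hσ : ∀ x, σ x = x ^ q) (θ : K)
    (hθ : θ + σ θ = 1) : Function.Injective (embP (q := q) hσ θ hθ) := by
  rw [injective_iff_map_eq_one]
  intro x hx
  have hz : emb (q := q) hσ θ hθ x ∈ Subgroup.center ↥(Cfsg.SU 3 K q) := by
    have : (QuotientGroup.mk' (Subgroup.center ↥(Cfsg.SU 3 K q))) (emb hσ θ hθ x) = 1 := hx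
    rwa [QuotientGroup.mk'_apply, QuotientGroup.eq_one_iff] at this
  -- the centre has odd order dividing 3
  have hc : Nat.card (Subgroup.center ↥(Cfsg.SU 3 K q)) ∣ 3 := by
    rw [Cfsg.Agent.S0279.result hK 3 (le_refl 3)]
    exact Nat.gcd_dvd_left 3 (q + 1)
  set z : Subgroup.center ↥(Cfsg.SU 3 K q) := ⟨emb hσ θ hθ x, hz⟩ with hzdef
  have h4 : z ^ 4 = 1 := by
    apply Subtype.ext
    show (emb (q := q) hσ θ hθ x) ^ 4 = 1
    rw [← map_pow]
    have : x ^ 4 = 1 := SuzModel.pow_four x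
    rw [this, map_one]
  have h3 : z ^ 3 = 1 := by
    have h := orderOf_dvd_natCard z
    exact orderOf_dvd_iff_pow_eq_one.mp (h.trans hc)
  have h1 : z = 1 := by
    have : z ^ 4 = z ^ 3 * z := pow_succ z 3
    rw [h4, h3, one_mul] at this
    exact this.symm
  have h2 : emb (q := q) hσ θ hθ x = 1 := congrArg Subtype.val h1
  exact emb_injective hσ θ hθ (by rw [h2, map_one])

theorem odd_cofactor (n : ℕ) (hn : 1 ≤ n) :
    ¬ 2 ∣ ((2 ^ n + 1) * ((2 ^ n) ^ 2 - 1) * ((2 ^ n) ^ 3 + 1)) := by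
  have h2 : 2 ∣ 2 ^ n := dvd_pow_self 2 (by omega)
  obtain ⟨m, hm⟩ := h2
  have hm1 : 1 ≤ m := by
    rcases Nat.eq_zero_or_pos m with h | h
    · rw [h, mul_zero] at hm
      exact absurd hm (pow_ne_zero _ (by norm_num))
    · exact h
  rw [hm]
  intro h
  rw [Nat.Prime.dvd_mul Nat.prime_two, Nat.Prime.dvd_mul Nat.prime_two] at h
  have e1 : (2 * m) ^ 2 - 1 = 2 * (2 * m ^ 2 - 1) + 1 := by
    have : 1 ≤ 2 * m ^ 2 := by nlinarith
    have h4 : (2 * m) ^ 2 = 2 * (2 * m ^ 2) := by ring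
    omega
  have e2 : (2 * m) ^ 3 + 1 = 2 * (4 * m ^ 3) + 1 := by ring
  rcases h with (h | h) | h
  · omega
  · rw [e1] at h; omega
  · rw [e2] at h; omega

/-- every Sylow 2-subgroup of `PSU₃(2ⁿ)` is isomorphic to the model -/
theorem sylow_equiv (n : ℕ) (hn : 1 ≤ n) (hq : q = 2 ^ n) (hK : Fintype.card K = q ^ 2)
    (hσ : ∀ x, σ x = x ^ q) (S : Sylow 2 (Cfsg.PSU 3 K q)) : Nonempty (↥S ≃* SuzP σ) := by
  obtain ⟨θ, hθ0⟩ := Cfsg.Agent.Lib.Lead.HI.exists_theta hK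
  have hθ : θ + σ θ = 1 := by rw [hσ]; exact hθ0
  set f := embP (q := q) hσ θ hθ with hf
  have hfi := embP_injective hK hσ θ hθ
  have hcardP : Nat.card f.range = q ^ 3 := by
    rw [← Nat.card_congr (MonoidHom.ofInjective hfi).toEquiv, SuzModel.card_suzP hK hσ]
  have hPG : IsPGroup 2 f.range := by
    apply IsPGroup.of_card (n := 3 * n)
    rw [hcardP, hq, ← pow_mul, mul_comm]
  have hidx : ¬ 2 ∣ f.range.index := by
    have h1 := Cfsg.Agent.S0280.result hK 3 (by norm_num)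
    have h2 : (∏ i ∈ Finset.range 3, (if Even i then q ^ (i + 1) + 1 else q ^ (i + 1) - 1)) =
        (q + 1) * (q ^ 2 - 1) * (q ^ 3 + 1) := by
      rw [Finset.prod_range_succ, Finset.prod_range_succ, Finset.prod_range_one]
      have e0 : Even 0 := by decide
      have e1 : ¬ Even 1 := by decide
      have e2 : Even 2 := by decide
      simp only [e0, e1, e2, if_true, if_false]
      ring_nf
    rw [h2] at h1
    have h3 : 3 * (3 - 1) / 2 = 3 := by norm_num
    rw [h3] at h1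
    have h4 := Subgroup.card_mul_index f.range
    rw [hcardP] at h4
    rw [← h4] at h1
    have hq0 : 0 < q ^ 3 := by
      rw [hq]; positivity
    have h5 : Nat.gcd 3 (q + 1) * ((q + 1) * f.range.index) =
        (q + 1) * (q ^ 2 - 1) * (q ^ 3 + 1) := by
      apply Nat.eq_of_mul_eq_mul_left hq0
      rw [← h1]; ring
    intro h2d
    have : 2 ∣ (q + 1) * (q ^ 2 - 1) * (q ^ 3 + 1) := by
      rw [← h5]
      exact Dvd.dvd.mul_left (Dvd.dvd.mul_left h2d _) _
    rw [hq] at this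
    exact odd_cofactor n hn this
  let P : Sylow 2 (Cfsg.PSU 3 K q) := hPG.toSylow hidx
  have hPcoe : (P : Subgroup (Cfsg.PSU 3 K q)) = f.range := IsPGroup.toSylow_coe hPG hidx
  haveI : Finite (Cfsg.PSU 3 K q) := inferInstance
  have e1 : ↥S ≃* ↥P := Sylow.equiv S P
  have e2 : ↥P ≃* f.range := MulEquiv.subgroupCongr hPcoe
  have e3 : SuzP σ ≃* f.range := MonoidHom.ofInjective hfi
  exact ⟨(e1.trans e2).trans e3.symm⟩

end embed

end Cfsg.Agent.Lib.helper14.SU3Even
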