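import Mathlib
import Cfsg.Agent.Lib.Helper19.U3P.Defs
import Cfsg.Agent.Lib.Helper25.SU3P.Basic
import Cfsg.Agent.Lib.Helper25.SU3P.Center

/-! Project U3P (designer helper19), row X11 (`isUT_iff`) by helper14. -/

set_option autoImplicit false

namespace Cfsg.Agent.Lib.Helper19.U3P

open Cfsg.Agent.Lib.helper17.SLP Cfsg.Agent.Lib.helper14.SU3J Cfsg.Agent.Lib.Helper25.SU3P
open Polynomial Matrix

universe u v

/-- a unitriangular `J`-isometry is `uu σ α β` with `β + σ β + α σ α = 0` -/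
theorem u3px11_aux {F : Type*} [Field F] (σ : F →+* F) (hσσ : ∀ x, σ (σ x) = x)
    (M : Matrix (Fin 3) (Fin 3) F) (hUT : IsUT M) (hP : PresJ σ M) :
    M 0 2 + σ (M 0 2) + M 0 1 * σ (M 0 1) = 0 ∧ M = uu σ (M 0 1) (M 0 2) := by
  obtain ⟨⟨m10, m20, m21⟩, m00, m11, m22⟩ := hUT
  have p12 := hP ![0, 1, 0] ![0, 0, 1]
  simp only [hJ, mv3] at p12
  have q12 : M 0 1 + σ (M 1 2) = 0 := by
    simpa [m10, m20, m21, m00, m11, m22] using p12
  have r12 : M 1 2 = -σ (M 0 1) := by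
    have := congrArg σ q12
    rw [map_add, hσσ, map_zero] at this
    linear_combination this
  have p22 := hP ![0, 0, 1] ![0, 0, 1]
  simp only [hJ, mv3] at p22
  have q22 : M 0 2 + M 1 2 * σ (M 1 2) + σ (M 0 2) = 0 := by
    simpa [m10, m20, m21, m00, m11, m22] using p22
  refine ⟨?_, ?_⟩
  · rw [r12] at q22
    simp only [map_neg, hσσ] at q22
    linear_combination q22
  · ext i j
    fin_cases i <;> fin_cases j <;> simp [uu, m10, m20, m21, m00, m11, m22, r12]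

section X

variable {F : Type u} [Field F] [Fintype F] {K : Type u} [Field K] [Fintype K] {q : ℕ}

/-- X11 -/
theorem isUT_iff (D : Par F K q) (hσσ : ∀ x, D.σ (D.σ x) = x) (X : ↥(Cfsg.SU 3 F q)) :
    IsUT (D.c.cj X) ↔ ∃ α β : F, β + D.σ β + α * D.σ α = 0 ∧ D.c.cj X = uu D.σ α β := by
  constructor
  · intro h
    obtain ⟨h1, h2⟩ := u3px11_aux D.σ hσσ (D.c.cj X) h (D.c.cj_presJ X)
    exact ⟨_, _, h1, h2⟩
  · rintro ⟨α, β, -, h⟩
    rw [h]
    exact CenterAux.isUT_uu D.σ α β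

end X

end Cfsg.Agent.Lib.Helper19.U3P
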