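import Mathlib
import Cfsg.Agent.Lib.Helper19.U3P.Defs
import Cfsg.Agent.Lib.Helper25.SU3P.Basic
import Cfsg.Agent.Lib.Helper25.SU3P.Center
import Cfsg.Agent.Lib.helper14.U3PX11

/-! Project U3P (designer helper19), row X17 (`bruhat_S`) by helper14. -/

set_option autoImplicit false

namespace Cfsg.Agent.Lib.Helper19.U3P

open Cfsg.Agent.Lib.helper17.SLP Cfsg.Agent.Lib.helper14.SU3J Cfsg.Agent.Lib.Helper25.SU3P
open Polynomial Matrix

universe u v

/-- the inverse of `wJ γ` -/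
def u3px17_wJi {F : Type*} [Field F] (γ : F) : Matrix (Fin 3) (Fin 3) F :=
  !![0, 0, -γ; 0, 1, 0; γ⁻¹, 0, 0]

theorem u3px17_wJi_mul {F : Type*} [Field F] (γ : F) (hγ : γ ≠ 0) : u3px17_wJi γ * wJ γ = 1 := by
  ext i j
  fin_cases i <;> fin_cases j <;>
    simp [u3px17_wJi, wJ, Matrix.mul_apply, Fin.sum_univ_three, hγ]

theorem u3px17_mul_wJi {F : Type*} [Field F] (γ : F) (hγ : γ ≠ 0) : wJ γ * u3px17_wJi γ = 1 := by
  ext i j
  fin_cases i <;> fin_cases j <;>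
    simp [u3px17_wJi, wJ, Matrix.mul_apply, Fin.sum_univ_three, hγ]

/-- a left inverse of a matrix with a two-sided inverse is that inverse -/
theorem u3px17_inv_unique {F : Type*} [Field F] {A B C : Matrix (Fin 3) (Fin 3) F}
    (h1 : A * B = 1) (h2 : B * C = 1) : A = C := by
  calc A = A * (B * C) := by rw [h2, Matrix.mul_one]
    _ = (A * B) * C := by rw [Matrix.mul_assoc]
    _ = C := by rw [h1, Matrix.one_mul]

/-- the matrix computation: `wJ γ⁻¹ * uu σ α β * wJ γ` is upper triangular only for `α = β = 0` -/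
theorem u3px17_aux {F : Type*} [Field F] (σ : F →+* F) (γ α β : F) (hγ : γ ≠ 0)
    (h : IsUp (u3px17_wJi γ * uu σ α β * wJ γ)) : α = 0 ∧ β = 0 := by
  obtain ⟨h10, h20, -⟩ := h
  have e10 : (u3px17_wJi γ * uu σ α β * wJ γ) 1 0 = σ α * γ⁻¹ := by
    simp [u3px17_wJi, uu, wJ, Matrix.mul_apply, Fin.sum_univ_three]
  have e20 : (u3px17_wJi γ * uu σ α β * wJ γ) 2 0 = -(γ⁻¹ * β * γ⁻¹) := by
    simp [u3px17_wJi, uu, wJ, Matrix.mul_apply, Fin.sum_univ_three]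
  rw [e10] at h10
  rw [e20] at h20
  have hγi : γ⁻¹ ≠ 0 := inv_ne_zero hγ
  constructor
  · have : σ α = 0 := by
      rcases mul_eq_zero.mp h10 with h | h
      · exact h
      · exact absurd h hγi
    by_contra hne
    exact (map_ne_zero σ).mpr hne this
  · have h' : γ⁻¹ * β * γ⁻¹ = 0 := neg_eq_zero.mp h20
    rcases mul_eq_zero.mp h' with h | h
    · rcases mul_eq_zero.mp h with h | h
      · exact absurd h hγi
      · exact h
    · exact absurd h hγi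

section X

variable {F : Type u} [Field F] [Fintype F] {K : Type u} [Field K] [Fintype K] {q : ℕ}

variable {D : Par F K q} {a b c : ↥(Cfsg.SU 3 F q)} {ρ : SL2 K →* ↥(Cfsg.SU 3 F q)}

/-- the coordinate matrix of `c⁻¹` -/
theorem u3px17_cj_c_inv (hG : Gens D a b c ρ) (hγ : D.γ0 ≠ 0) :
    D.c.cj c⁻¹ = u3px17_wJi D.γ0 := by
  have h1 : D.c.cj c⁻¹ * wJ D.γ0 = 1 := by rw [← hG.hc]; exact D.c.cj_inv_mul c
  exact u3px17_inv_unique h1 (u3px17_mul_wJi D.γ0 hγ)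

/-- X17 -/
theorem bruhat_S (hG : Gens D a b c ρ) (hσσ : ∀ x, D.σ (D.σ x) = x) (hγ : D.γ0 ≠ 0)
    (X : ↥(Cfsg.SU 3 F q)) (hX : IsUT (D.c.cj X)) (hup : IsUp (D.c.cj (c⁻¹ * X * c))) : X = 1 := by
  obtain ⟨α, β, -, hαβ⟩ := (isUT_iff D hσσ X).mp hX
  rw [D.c.cj_mul, D.c.cj_mul, u3px17_cj_c_inv hG hγ, hG.hc, hαβ] at hup
  obtain ⟨h1, h2⟩ := u3px17_aux D.σ D.γ0 α β hγ hup
  apply D.c.cj_eq_one
  rw [hαβ, h1, h2]
  ext i j
  fin_cases i <;> fin_cases j <;> simp [uu]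

end X

end Cfsg.Agent.Lib.Helper19.U3P
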