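import Mathlib
import Cfsg.Agent.Lib.Helper19.U3P.Defs
import Cfsg.Agent.Lib.Helper25.SU3P.Basic
import Cfsg.Agent.Lib.Helper25.SU3P.Center
import Cfsg.Agent.Lib.helper14.U3PX17

/-! Project U3P (designer helper19), row X14 (`up_decomp`) by helper14. -/

set_option autoImplicit false

namespace Cfsg.Agent.Lib.Helper19.U3P

open Cfsg.Agent.Lib.helper17.SLP Cfsg.Agent.Lib.helper14.SU3J Cfsg.Agent.Lib.Helper25.SU3P
open Polynomial Matrix

universe u v

theorem u3px14_dd_mul {F : Type*} [Field F] (σ : F →+* F) (l l' : F) (hl : l ≠ 0) (hl' : l' ≠ 0) :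
    dd σ l * dd σ l' = dd σ (l * l') := by
  have hsl : σ l ≠ 0 := (map_ne_zero σ).mpr hl
  have hsl' : σ l' ≠ 0 := (map_ne_zero σ).mpr hl'
  ext i j
  fin_cases i <;> fin_cases j <;>
    simp [dd, Matrix.mul_apply, Fin.sum_univ_three, hl, hl', hsl, hsl']
  all_goals (try field_simp)

theorem u3px14_dd_one {F : Type*} [Field F] (σ : F →+* F) : dd σ (1 : F) = 1 := by
  ext i j
  fin_cases i <;> fin_cases j <;> simp [dd]

section X

variable {F : Type u} [Field F] [Fintype F] {K : Type u} [Field K] [Fintype K] {q : ℕ}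

variable {D : Par F K q} {a b c : ↥(Cfsg.SU 3 F q)} {ρ : SL2 K →* ↥(Cfsg.SU 3 F q)}

theorem u3px14_cj_b_pow (hG : Gens D a b c ρ) (n : ℕ) :
    D.c.cj (b ^ n) = dd D.σ (((D.ζ ^ n : Fˣ) : Fˣ) : F) := by
  induction n with
  | zero => rw [pow_zero, pow_zero, D.c.cj_one, Units.val_one, u3px14_dd_one]
  | succ n ih =>
    rw [pow_succ, D.c.cj_mul, ih, hG.hb, u3px14_dd_mul _ _ _ (Units.ne_zero _) (Units.ne_zero _),
      pow_succ, Units.val_mul]

/-- the coordinate matrix of an integer power of `b` -/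
theorem u3px14_cj_b_zpow (hG : Gens D a b c ρ) (i : ℤ) :
    D.c.cj (b ^ i) = dd D.σ (((D.ζ ^ i : Fˣ) : Fˣ) : F) := by
  obtain ⟨n, rfl | rfl⟩ := Int.eq_nat_or_neg i
  · rw [zpow_natCast, zpow_natCast]; exact u3px14_cj_b_pow hG n
  · rw [_root_.zpow_neg, _root_.zpow_neg, zpow_natCast, zpow_natCast]
    have h1 : D.c.cj (b ^ n)⁻¹ * D.c.cj (b ^ n) = 1 := D.c.cj_inv_mul _
    have h2 : D.c.cj (b ^ n) * dd D.σ ((((D.ζ ^ n)⁻¹ : Fˣ) : Fˣ) : F) = 1 := by
      rw [u3px14_cj_b_pow hG n, u3px14_dd_mul _ _ _ (Units.ne_zero _) (Units.ne_zero _),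
        ← Units.val_mul, mul_inv_cancel, Units.val_one, u3px14_dd_one]
    exact u3px17_inv_unique h1 h2

/-- the matrix computation behind X14 -/
theorem u3px14_aux {F : Type*} [Field F] (σ : F →+* F) (hσσ : ∀ x, σ (σ x) = x)
    (M : Matrix (Fin 3) (Fin 3) F) (hUp : IsUp M) (hP : PresJ σ M) (hdet : M.det = 1) :
    M 0 0 ≠ 0 ∧ IsUT (M * dd σ (M 0 0)⁻¹) := by
  obtain ⟨m10, m20, m21⟩ := hUp
  have h02 := hJ_e01 σ M m10 m20 hP
  have hl : M 0 0 ≠ 0 := by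
    intro h0
    rw [h0, zero_mul] at h02
    exact zero_ne_one h02
  have hsl : σ (M 0 0) ≠ 0 := (map_ne_zero σ).mpr hl
  have h22 : M 2 2 = (σ (M 0 0))⁻¹ := by
    have := congrArg σ h02
    rw [map_mul, hσσ, map_one] at this
    field_simp
    linear_combination this
  have hd : M 0 0 * M 1 1 * M 2 2 = 1 := by
    rw [Matrix.det_fin_three] at hdet
    rw [m10, m20, m21] at hdet
    linear_combination hdet
  have h11 : M 1 1 = σ (M 0 0) / M 0 0 := by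
    rw [h22] at hd
    field_simp
    field_simp at hd
    linear_combination hd
  refine ⟨hl, ?_⟩
  have hli : (M 0 0)⁻¹ ≠ 0 := inv_ne_zero hl
  refine ⟨⟨?_, ?_, ?_⟩, ?_, ?_, ?_⟩
  · simp [dd, Matrix.mul_apply, Fin.sum_univ_three, m10]
  · simp [dd, Matrix.mul_apply, Fin.sum_univ_three, m20]
  · simp [dd, Matrix.mul_apply, Fin.sum_univ_three, m21]
  · simp [dd, Matrix.mul_apply, Fin.sum_univ_three, hl]
  · simp [dd, Matrix.mul_apply, Fin.sum_univ_three, h11]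
    field_simp
  · simp [dd, Matrix.mul_apply, Fin.sum_univ_three, h22, hl, hsl]

/-- X14 -/
theorem up_decomp (hG : Gens D a b c ρ) (hσσ : ∀ x, D.σ (D.σ x) = x) (X : ↥(Cfsg.SU 3 F q))
    (hX : IsUp (D.c.cj X)) : ∃ (Y : ↥(Cfsg.SU 3 F q)) (i : ℤ), IsUT (D.c.cj Y) ∧ X = Y * b ^ i := by
  obtain ⟨hl, hUT⟩ := u3px14_aux D.σ hσσ (D.c.cj X) hX (D.c.cj_presJ X) (D.c.cj_det X)
  obtain ⟨i, hi⟩ := Subgroup.mem_zpowers_iff.mp (D.hζ (Units.mk0 _ hl))
  refine ⟨X * b ^ (-i), i, ?_, ?_⟩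
  · rw [D.c.cj_mul, u3px14_cj_b_zpow hG (-i), _root_.zpow_neg, hi]
    simpa using hUT
  · rw [mul_assoc, ← _root_.zpow_add, neg_add_cancel, zpow_zero, mul_one]

end X

end Cfsg.Agent.Lib.Helper19.U3P
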