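import Mathlib
import Cfsg.Prelude.Def_ChevStructure
import Cfsg.Prelude.Def_ParabolicCharacters
import Cfsg.Agent.Lib.helper8.ChevBN5
import Cfsg.Agent.Lib.helper8.ChevTits2
import Cfsg.Agent.Lib.helper8.ChevBorel
import Cfsg.Agent.Lib.helper14.StVal

/-!
The Steinberg character of a Chevalley group restricted to `B` (helper8's Chevalley machinery
plus the abstract (B,N)-pair computation of `StVal`).
-/

set_option autoImplicit false

namespace Cfsg.Agent.Lib.helper14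

open Cfsg.Lie Cfsg.Lie.ChevalleyDatum Cfsg.Agent.Lib.helper8 Cfsg.Agent.Lib.helper3

universe u

variable {F : Type u} [Field F]

/-- if `n⁻¹ X_{α_i} n` is a positive root subgroup then `s_i B n ⊆ B s_i n B` -/
theorem st_pos_step (D : ChevalleyDatum) (hB : H8Base.{u} D) (hA : H8ReflAll D)
    (hC : H8CommAll.{u} D) (hBN : H8BN D)
    (i : ℕ) (hi : i < D.rank) (n : GL D.Idx F) (hn : n ∈ D.monomialSubgroup F)
    (ρ : ℕ) (hact : H8Act D hB n⁻¹ (D.simple i) ρ) (hρ : D.IsPosRoot ρ)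
    (b : GL D.Idx F) (hb : b ∈ D.borelSubgroup F) :
    ∃ b1 ∈ D.borelSubgroup F, ∃ b2 ∈ D.borelSubgroup F,
      h8nU D hB (D.simple i) 1 * b * n = b1 * (h8nU D hB (D.simple i) 1 * n) * b2 := by
  obtain ⟨dep, par, horb⟩ := hBN.orb
  obtain ⟨hg, hrow⟩ := hBN.up i hi
  obtain ⟨hnorm, hsup⟩ := h8up_main (F := F) D hB hC i hg hrow
  have hpp := h8simple_pos D hBN i hi
  have hmemB : b ∈ ((D.posUnipotent F ⊔ D.diagonalSubgroup F : Subgroup (GL D.Idx F)) :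
      Set (GL D.Idx F)) := hb
  rw [Subgroup.coe_mul_of_right_le_normalizer_left _ _ (h8_H_le_normalizer_U D hB)] at hmemB
  obtain ⟨u, hu, h, hh, rfl⟩ := hmemB
  have hu' : u ∈ ((Subgroup.closure (h8UpSet D F (D.simple i)) ⊔ D.rootSubgroup F (D.simple i) :
      Subgroup (GL D.Idx F)) : Set (GL D.Idx F)) := by
    rw [hsup]
    exact hu
  rw [Subgroup.coe_mul_of_right_le_normalizer_left _ _ (le_trans le_sup_left hnorm)] at hu'
  obtain ⟨u', hu'm, x, hx, rfl⟩ := hu'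
  obtain ⟨t, rfl⟩ := h8rootSubgroup_mem D hB _ hpp.1 x hx
  have hsn := h8nU_normalizes_up (F := F) D hB hA i hi (hBN.sp i hi)
  have hu'' := (Subgroup.mem_normalizer_iff.mp hsn u').mp hu'm
  have hUpB : Subgroup.closure (h8UpSet D F (D.simple i)) ≤ D.borelSubgroup F := by
    refine le_trans ?_ (h8U_le_B D)
    rw [← hsup]
    exact le_sup_left
  have hninv : n⁻¹ ∈ Subgroup.normalizer (D.diagonalSubgroup F : Set (GL D.Idx F)) :=
    h8N_le_normalizer_H D hB hA dep par horb (Subgroup.inv_mem _ hn)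
  have hh'' := (Subgroup.mem_normalizer_iff.mp hninv h).mp hh
  obtain ⟨c, _, hc⟩ := hact
  have key : h8nU D hB (D.simple i) 1 * (u' * h8xU D hB (D.simple i) t * h) * n =
      (h8nU D hB (D.simple i) 1 * u' * (h8nU D hB (D.simple i) 1)⁻¹) *
        (h8nU D hB (D.simple i) 1 * n) *
        ((n⁻¹ * h8xU D hB (D.simple i) t * n⁻¹⁻¹) * (n⁻¹ * h * n⁻¹⁻¹)) := by
    group
  refine ⟨_, hUpB hu'', _, ?_, key⟩
  rw [hc t]
  exact Subgroup.mul_mem _ (h8U_le_B D (h8xU_mem_U D hB _ hρ _)) (h8H_le_B D hh'')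

/-- if `n⁻¹ X_{α_i} n` is a negative root subgroup then `s_i B n` meets `B n B` -/
theorem st_neg_step (D : ChevalleyDatum) (hB : H8Base.{u} D) (hA : H8ReflAll D)
    (hBN : H8BN D) (hW : H8BN2 D) (hO2 : H8Ord2 D)
    (i : ℕ) (hi : i < D.rank) (n : GL D.Idx F) (hn : n ∈ D.monomialSubgroup F)
    (ρ : ℕ) (hρlt : ρ < D.nroots) (hact : H8Act D hB n⁻¹ (D.simple i) ρ)
    (hρ : D.IsPosRoot (D.negIdx.getD ρ 0)) :
    ∃ b ∈ D.borelSubgroup F, ∃ b1 ∈ D.borelSubgroup F, ∃ b2 ∈ D.borelSubgroup F,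
      h8nU D hB (D.simple i) 1 * b * n = b1 * n * b2 := by
  have hpp := h8simple_pos D hBN i hi
  rcases h8bn_core D hB hA hBN i hi n hn (1 : F) with ⟨b2, hb2, e⟩ | ⟨b1, hb1, b2, hb2, e⟩
  · exfalso
    obtain ⟨c, hc, hcc⟩ := hact
    have e1 : b2 = n⁻¹ * h8xU D hB (D.simple i) 1 * n⁻¹⁻¹ := by
      have : n⁻¹ * h8xU D hB (D.simple i) 1 * n⁻¹⁻¹ =
          (h8nU D hB (D.simple i) 1 * n)⁻¹ *
            (h8nU D hB (D.simple i) 1 * h8xU D hB (D.simple i) 1 * n) := by group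
      rw [this, e]
      group
    rw [hcc 1] at e1
    apply h8xneg_not_mem_B D hB hA hBN hW _ hρ (c * 1) (mul_ne_zero hc one_ne_zero)
    rw [(hO2.negneg ρ hρlt).2, ← e1]
    exact hb2
  · exact ⟨_, h8U_le_B D (h8xU_mem_U D hB _ hpp 1), b1, hb1, b2, hb2, e⟩

/-- the root subgroup `n⁻¹ X_{α_i} n` is a root subgroup of a positive or of a negative root -/
theorem st_dich (D : ChevalleyDatum) (hB : H8Base.{u} D) (hA : H8ReflAll D)
    (hBN : H8BN D) (hW : H8BN2 D)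
    (i : ℕ) (hi : i < D.rank) (n : GL D.Idx F) (hn : n ∈ D.monomialSubgroup F) :
    ∃ ρ < D.nroots, H8Act D hB n⁻¹ (D.simple i) ρ ∧
      (D.IsPosRoot ρ ∨ D.IsPosRoot (D.negIdx.getD ρ 0)) := by
  obtain ⟨dep, par, horb⟩ := hBN.orb
  obtain ⟨σ, τ, a1, a2, a3, a4, a5, a6, a7⟩ :=
    h8perm_N D hB hA dep par horb n⁻¹ (Subgroup.inv_mem _ hn)
  have hp := (h8simple_pos D hBN i hi).1
  exact ⟨σ (D.simple i), a1 _ hp, a7 _ hp, h8posOrNeg D hB hBN.negOK hW.neglt _ (a1 _ hp)⟩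

section PLevel

variable (D : ChevalleyDatum) (hB : H8Base.{u} D)
  (P : Cfsg.BNPair ↥(D.group F))
  (hPB : P.B = (D.borelSubgroup F).subgroupOf (D.group F))

include hPB in
theorem st_Pp_of_pos (hA : H8ReflAll D) (hC : H8CommAll.{u} D) (hBN : H8BN D)
    (hPN : P.N = (D.monomialSubgroup F).subgroupOf (D.group F))
    {s m : ↥(D.group F)} (i : ℕ) (hi : i < D.rank)
    (hs : (s : GL D.Idx F) = h8nU D hB (D.simple i) 1) (hm : m ∈ P.N)
    (ρ : ℕ) (hact : H8Act D hB (m : GL D.Idx F)⁻¹ (D.simple i) ρ) (hρ : D.IsPosRoot ρ) :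
    Pp P s m := by
  have hBG := h8_B_le_group (F := F) D hB
  intro b hb
  rw [hPB, Subgroup.mem_subgroupOf] at hb
  rw [hPN, Subgroup.mem_subgroupOf] at hm
  obtain ⟨b1, hb1, b2, hb2, e⟩ := st_pos_step D hB hA hC hBN i hi (m : GL D.Idx F) hm ρ hact hρ
    (b : GL D.Idx F) hb
  rw [mem_dc]
  refine ⟨⟨b1, hBG hb1⟩, ?_, ⟨b2, hBG hb2⟩, ?_, ?_⟩
  · rw [hPB, Subgroup.mem_subgroupOf]; exact hb1
  · rw [hPB, Subgroup.mem_subgroupOf]; exact hb2
  · apply Subtype.ext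
    show (s : GL D.Idx F) * (b : GL D.Idx F) * (m : GL D.Idx F) =
      b1 * ((s : GL D.Idx F) * (m : GL D.Idx F)) * b2
    rw [hs]
    exact e

include hPB in
theorem st_not_Pp_of_neg (hA : H8ReflAll D) (hBN : H8BN D) (hW : H8BN2 D) (hO2 : H8Ord2 D)
    (hPN : P.N = (D.monomialSubgroup F).subgroupOf (D.group F))
    {s m : ↥(D.group F)} (hsS : s ∈ P.S) (i : ℕ) (hi : i < D.rank)
    (hs : (s : GL D.Idx F) = h8nU D hB (D.simple i) 1) (hm : m ∈ P.N)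
    (ρ : ℕ) (hρlt : ρ < D.nroots) (hact : H8Act D hB (m : GL D.Idx F)⁻¹ (D.simple i) ρ)
    (hρ : D.IsPosRoot (D.negIdx.getD ρ 0)) :
    ¬ Pp P s m := by
  have hBG := h8_B_le_group (F := F) D hB
  intro hp
  have hm' := hm
  rw [hPN, Subgroup.mem_subgroupOf] at hm'
  obtain ⟨b, hb, b1, hb1, b2, hb2, e⟩ := st_neg_step D hB hA hBN hW hO2 i hi
    (m : GL D.Idx F) hm' ρ hρlt hact hρ
  have hbP : (⟨b, hBG hb⟩ : ↥(D.group F)) ∈ P.B := by
    rw [hPB, Subgroup.mem_subgroupOf]; exact hb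
  have h1 : s * ⟨b, hBG hb⟩ * m ∈ dc P (s * m) := hp _ hbP
  have h2 : s * ⟨b, hBG hb⟩ * m ∈ dc P m := by
    rw [mem_dc]
    refine ⟨⟨b1, hBG hb1⟩, ?_, ⟨b2, hBG hb2⟩, ?_, ?_⟩
    · rw [hPB, Subgroup.mem_subgroupOf]; exact hb1
    · rw [hPB, Subgroup.mem_subgroupOf]; exact hb2
    · apply Subtype.ext
      show (s : GL D.Idx F) * b * (m : GL D.Idx F) = b1 * (m : GL D.Idx F) * b2
      rw [hs]
      exact e
  have : dc P (s * m) = dc P m := by rw [← dc_eq_of_mem h1, dc_eq_of_mem h2]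
  exact dc_s_mul_ne hsS hm this

end PLevel

end Cfsg.Agent.Lib.helper14
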