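import Mathlib

/-!
Combinatorics of the index set `Fin m ⊕ Fin m` of the symplectic group `Sp_{2m}`:
the rank function (ordering `e₁ < … < e_m < f_m < … < f₁`), simple pairs, the permutations `tau`,
and characterisations of the identity and of the order reversal among permutations commuting
with `Sum.swap`.
-/

set_option autoImplicit false

namespace Cfsg.Agent.Lib.helper14.SpBN

variable {m : ℕ}

/-- the rank of an index: `e_i ↦ i`, `f_i ↦ 2m - 1 - i` -/
def rk : Fin m ⊕ Fin m → ℕ
  | Sum.inl i => i.val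
  | Sum.inr i => 2 * m - 1 - i.val

theorem rk_inl (i : Fin m) : rk (Sum.inl i : Fin m ⊕ Fin m) = i.val := rfl

theorem rk_inr (i : Fin m) : rk (Sum.inr i : Fin m ⊕ Fin m) = 2 * m - 1 - i.val := rfl

theorem rk_lt (x : Fin m ⊕ Fin m) : rk x < 2 * m := by
  rcases x with i | i
  · have := i.2
    rw [rk_inl]; omega
  · have := i.2
    rw [rk_inr]; omega

theorem rk_add_swap (x : Fin m ⊕ Fin m) : rk x + rk x.swap = 2 * m - 1 := by
  rcases x with i | i
  · have := i.2
    rw [Sum.swap_inl, rk_inl, rk_inr]; omega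
  · have := i.2
    rw [Sum.swap_inr, rk_inl, rk_inr]; omega

theorem rk_injective : Function.Injective (rk : Fin m ⊕ Fin m → ℕ) := by
  intro x y h
  rcases x with i | i <;> rcases y with j | j
  · rw [rk_inl, rk_inl] at h
    rw [Fin.ext h]
  · have := i.2; have := j.2
    rw [rk_inl, rk_inr] at h; omega
  · have := i.2; have := j.2
    rw [rk_inl, rk_inr] at h; omega
  · have := i.2; have := j.2
    rw [rk_inr, rk_inr] at h
    have : i.val = j.val := by omega
    rw [Fin.ext this]

theorem rk_swap_lt_iff (x y : Fin m ⊕ Fin m) : rk x.swap < rk y.swap ↔ rk y < rk x := by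
  have h1 := rk_add_swap x
  have h2 := rk_add_swap y
  have h3 := rk_lt x
  have h4 := rk_lt y
  omega

theorem swap_ne (x : Fin m ⊕ Fin m) : x.swap ≠ x := by
  rcases x with i | i <;> simp

theorem exists_rk (r : ℕ) (hr : r < 2 * m) : ∃ x : Fin m ⊕ Fin m, rk x = r := by
  by_cases h : r < m
  · exact ⟨Sum.inl ⟨r, h⟩, rfl⟩
  · refine ⟨Sum.inr ⟨2 * m - 1 - r, by omega⟩, ?_⟩
    rw [rk_inr]
    show 2 * m - 1 - (2 * m - 1 - r) = r
    omega

/-- first member of the `k`-th simple pair -/
def pa (k : Fin m) : Fin m ⊕ Fin m := Sum.inl k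

/-- second member of the `k`-th simple pair -/
def pc (k : Fin m) : Fin m ⊕ Fin m :=
  if h : k.val + 1 < m then Sum.inl ⟨k.val + 1, h⟩ else Sum.inr k

theorem rk_pa (k : Fin m) : rk (pa k) = k.val := rfl

theorem rk_pc (k : Fin m) : rk (pc k) = k.val + 1 := by
  unfold pc
  have := k.2
  split_ifs with h
  · rfl
  · rw [rk_inr]; omega

theorem pa_ne_pc (k : Fin m) : pa k ≠ pc k := by
  intro h
  have := congrArg rk h
  rw [rk_pa, rk_pc] at this
  omega

theorem eq_pa_of_rk {k : Fin m} {x : Fin m ⊕ Fin m} (h : rk x = k.val) : x = pa k :=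
  rk_injective (by rw [h, rk_pa])

theorem eq_pc_of_rk {k : Fin m} {x : Fin m ⊕ Fin m} (h : rk x = k.val + 1) : x = pc k :=
  rk_injective (by rw [h, rk_pc])

/-- `SwC π`: the permutation `π` commutes with `Sum.swap`. -/
def SwC (π : Equiv.Perm (Fin m ⊕ Fin m)) : Prop := ∀ x, π (Sum.swap x) = Sum.swap (π x)

theorem SwC_one : SwC (1 : Equiv.Perm (Fin m ⊕ Fin m)) := fun _ => rfl

theorem SwC_mul {π ρ : Equiv.Perm (Fin m ⊕ Fin m)} (h1 : SwC π) (h2 : SwC ρ) : SwC (π * ρ) := by
  intro x
  rw [Equiv.Perm.mul_apply, Equiv.Perm.mul_apply, h2, h1]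

theorem SwC_inv {π : Equiv.Perm (Fin m ⊕ Fin m)} (h : SwC π) : SwC π⁻¹ := by
  intro x
  apply π.injective
  rw [h]
  simp only [Equiv.Perm.inv_def, Equiv.apply_symm_apply]

theorem SwC_symm {π : Equiv.Perm (Fin m ⊕ Fin m)} (h : SwC π) (x : Fin m ⊕ Fin m) :
    π.symm (Sum.swap x) = Sum.swap (π.symm x) := SwC_inv h x

/-- if `rk ∘ π` increases along every step of rank, then `π = 1` -/
theorem perm_eq_one_of_step (π : Equiv.Perm (Fin m ⊕ Fin m))
    (H : ∀ x y : Fin m ⊕ Fin m, rk y = rk x + 1 → rk (π x) < rk (π y)) : π = 1 := by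
  have hlow : ∀ n : ℕ, ∀ x : Fin m ⊕ Fin m, rk x = n → n ≤ rk (π x) := by
    intro n
    induction n with
    | zero => intro x _; exact Nat.zero_le _
    | succ n ih =>
      intro x hx
      have hx2 := rk_lt x
      obtain ⟨y, hy⟩ := exists_rk (m := m) n (by omega)
      have h1 := ih y hy
      have h2 := H y x (by rw [hx, hy])
      omega
  have hup : ∀ n : ℕ, ∀ x : Fin m ⊕ Fin m, rk x + n = 2 * m - 1 → rk (π x) + n ≤ 2 * m - 1 := by
    intro n
    induction n with
    | zero =>
      intro x _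
      have := rk_lt (π x)
      omega
    | succ n ih =>
      intro x hx
      obtain ⟨y, hy⟩ := exists_rk (m := m) (rk x + 1) (by omega)
      have h1 := ih y (by omega)
      have h2 := H x y hy
      omega
  ext x
  rw [Equiv.Perm.one_apply]
  apply rk_injective
  have h1 := hlow (rk x) x rfl
  have hx := rk_lt x
  have h2 := hup (2 * m - 1 - rk x) x (by omega)
  omega

/-- a permutation commuting with `swap` that is increasing on every simple pair is the identity -/
theorem perm_eq_one_of_simple (π : Equiv.Perm (Fin m ⊕ Fin m)) (hπ : SwC π)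
    (H : ∀ k : Fin m, rk (π (pa k)) < rk (π (pc k))) : π = 1 := by
  apply perm_eq_one_of_step
  intro x y hxy
  by_cases hx : rk x < m
  · have e1 : x = pa ⟨rk x, hx⟩ := eq_pa_of_rk rfl
    have e2 : y = pc ⟨rk x, hx⟩ := eq_pc_of_rk hxy
    rw [e1, e2]
    exact H _
  · have hy := rk_lt y
    have h1 := rk_add_swap x
    have h2 := rk_add_swap y
    have hk : rk y.swap < m := by omega
    have e1 : y.swap = pa ⟨rk y.swap, hk⟩ := eq_pa_of_rk rfl
    have e2 : x.swap = pc ⟨rk y.swap, hk⟩ := eq_pc_of_rk (by show rk x.swap = rk y.swap + 1; omega)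
    have h3 := H ⟨rk y.swap, hk⟩
    rw [← e1, ← e2, hπ, hπ, rk_swap_lt_iff] at h3
    exact h3

/-- `Sum.swap` as a permutation -/
def swapPerm (m : ℕ) : Equiv.Perm (Fin m ⊕ Fin m) := Equiv.sumComm (Fin m) (Fin m)

theorem swapPerm_apply (x : Fin m ⊕ Fin m) : swapPerm m x = x.swap := rfl

theorem swapPerm_symm_apply (x : Fin m ⊕ Fin m) : (swapPerm m).symm x = x.swap := rfl

theorem SwC_swapPerm : SwC (swapPerm m) := fun _ => rfl

/-- a permutation commuting with `swap` that is decreasing on every simple pair is `swap` -/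
theorem perm_eq_swap_of_simple (π : Equiv.Perm (Fin m ⊕ Fin m)) (hπ : SwC π)
    (H : ∀ k : Fin m, rk (π (pc k)) < rk (π (pa k))) : π = swapPerm m := by
  have h1 : swapPerm m * π = 1 := by
    apply perm_eq_one_of_simple _ (SwC_mul SwC_swapPerm hπ)
    intro k
    rw [Equiv.Perm.mul_apply, Equiv.Perm.mul_apply, swapPerm_apply, swapPerm_apply,
      rk_swap_lt_iff]
    exact H k
  have h2 : swapPerm m * swapPerm m = 1 := by
    ext x
    rw [Equiv.Perm.mul_apply, swapPerm_apply, swapPerm_apply, Sum.swap_swap, Equiv.Perm.one_apply]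
  calc π = (swapPerm m * swapPerm m) * π := by rw [h2, one_mul]
    _ = swapPerm m * (swapPerm m * π) := mul_assoc _ _ _
    _ = swapPerm m := by rw [h1, mul_one]

end Cfsg.Agent.Lib.helper14.SpBN
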