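import Mathlib
import Cfsg.Agent.Lib.helper14.SpBNa
import Cfsg.Agent.Lib.Helper16.SPA9

/-!
Entries of symplectic matrices: the inverse formula, the upper triangular subgroup `Bsp`,
the monomial subgroup `Nsp`, and their intersection.
-/

set_option autoImplicit false

namespace Cfsg.Agent.Lib.helper14.SpBN

open Matrix Cfsg.Agent.Lib.helper6 Cfsg.Agent.Lib.Helper26 Cfsg.Agent.Lib.Helper16.SPA

universe u
variable {F : Type u} [Field F] {m : ℕ}

theorem coe_mul' (g h : ↥(Matrix.symplecticGroup (Fin m) F)) : (g * h).1 = g.1 * h.1 := rfl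

theorem coe_one' : (1 : ↥(Matrix.symplecticGroup (Fin m) F)).1 = 1 := rfl

/-- entries of the inverse of a symplectic matrix -/
theorem inv_apply (g : ↥(Matrix.symplecticGroup (Fin m) F)) (x y : Fin m ⊕ Fin m) :
    (g⁻¹).1 x y = eps x * eps y * g.1 y.swap x.swap := by
  have h := sp_form g ((g⁻¹ : ↥(Matrix.symplecticGroup (Fin m) F)).1 *ᵥ bV y) (bV x.swap)
  rw [sp_mulVec_inv] at h
  rw [sympForm_bV_left, sympForm_bV_right, mulVec_bV, mulVec_bV, Sum.swap_swap, eps_swap] at h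
  have e := eps_mul_self (F := F) x
  linear_combination (eps x) * h - ((g⁻¹).1 x y) * e

theorem inv_mul_apply (g : ↥(Matrix.symplecticGroup (Fin m) F)) (x y : Fin m ⊕ Fin m) :
    ((g⁻¹).1 * g.1) x y = if x = y then 1 else 0 := by
  rw [← coe_mul', inv_mul_cancel, coe_one', Matrix.one_apply]

theorem mul_inv_apply (g : ↥(Matrix.symplecticGroup (Fin m) F)) (x y : Fin m ⊕ Fin m) :
    (g.1 * (g⁻¹).1) x y = if x = y then 1 else 0 := by
  rw [← coe_mul', mul_inv_cancel, coe_one', Matrix.one_apply]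

/-- inverses preserve block triangularity for a grading symmetric under `swap` -/
theorem blockTri_inv {bf : Fin m ⊕ Fin m → ℕ}
    (hsym : ∀ x y : Fin m ⊕ Fin m, bf y < bf x → bf x.swap < bf y.swap)
    (g : ↥(Matrix.symplecticGroup (Fin m) F)) (hg : g.1.BlockTriangular bf) :
    (g⁻¹).1.BlockTriangular bf := by
  intro x y hxy
  rw [inv_apply, hg (hsym x y hxy), mul_zero]

theorem rk_sym (x y : Fin m ⊕ Fin m) (h : rk y < rk x) : rk x.swap < rk y.swap :=
  (rk_swap_lt_iff x y).2 h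

/-- the upper triangular subgroup -/
def Bsp (m : ℕ) (F : Type u) [Field F] : Subgroup ↥(Matrix.symplecticGroup (Fin m) F) where
  carrier := {g | g.1.BlockTriangular rk}
  mul_mem' := fun {a b} ha hb => by
    show (a * b).1.BlockTriangular rk
    rw [coe_mul']
    exact Matrix.BlockTriangular.mul ha hb
  one_mem' := by
    show (1 : ↥(Matrix.symplecticGroup (Fin m) F)).1.BlockTriangular rk
    rw [coe_one']
    exact Matrix.blockTriangular_one
  inv_mem' := fun {g} hg => blockTri_inv rk_sym g hg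

theorem mem_Bsp_iff (g : ↥(Matrix.symplecticGroup (Fin m) F)) :
    g ∈ Bsp m F ↔ g.1.BlockTriangular rk := Iff.rfl

/-- diagonal entries are multiplicative on block triangular matrices for an injective grading -/
theorem up_mul_diag {M N : Matrix (Fin m ⊕ Fin m) (Fin m ⊕ Fin m) F}
    (hM : M.BlockTriangular rk) (hN : N.BlockTriangular rk) (x : Fin m ⊕ Fin m) :
    (M * N) x x = M x x * N x x := by
  rw [Matrix.mul_apply]
  apply Finset.sum_eq_single x
  · intro z _ hz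
    rcases lt_or_gt_of_ne (fun h => hz (rk_injective h)) with h | h
    · rw [hM h, zero_mul]
    · rw [hN h, mul_zero]
  · intro h
    exact absurd (Finset.mem_univ x) h

theorem up_diag_mul_inv (g : ↥(Matrix.symplecticGroup (Fin m) F)) (hg : g ∈ Bsp m F)
    (x : Fin m ⊕ Fin m) : g.1 x x * (g⁻¹).1 x x = 1 := by
  have h := mul_inv_apply g x x
  rw [if_pos rfl, up_mul_diag hg ((Bsp m F).inv_mem hg)] at h
  exact h

theorem up_diag_ne_zero (g : ↥(Matrix.symplecticGroup (Fin m) F)) (hg : g ∈ Bsp m F)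
    (x : Fin m ⊕ Fin m) : g.1 x x ≠ 0 := by
  intro h
  have := up_diag_mul_inv g hg x
  rw [h, zero_mul] at this
  exact zero_ne_one this

theorem up_diag_swap (g : ↥(Matrix.symplecticGroup (Fin m) F)) (hg : g ∈ Bsp m F)
    (x : Fin m ⊕ Fin m) : g.1 x x * g.1 x.swap x.swap = 1 := by
  have h := up_diag_mul_inv g hg x
  rw [inv_apply, eps_mul_self, one_mul] at h
  exact h

/-- monomial matrices with underlying permutation `π` -/
def IsMono (M : Matrix (Fin m ⊕ Fin m) (Fin m ⊕ Fin m) F) (π : Equiv.Perm (Fin m ⊕ Fin m)) : Prop :=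
  ∀ x y, M x y ≠ 0 → x = π y

theorem isMono_one : IsMono (1 : Matrix (Fin m ⊕ Fin m) (Fin m ⊕ Fin m) F) 1 := by
  intro x y h
  rw [Equiv.Perm.one_apply]
  by_contra hxy
  exact h (Matrix.one_apply_ne hxy)

theorem mono_mul_apply {A M : Matrix (Fin m ⊕ Fin m) (Fin m ⊕ Fin m) F}
    {ρ : Equiv.Perm (Fin m ⊕ Fin m)} (hA : IsMono A ρ) (x y : Fin m ⊕ Fin m) :
    (A * M) x y = A x (ρ.symm x) * M (ρ.symm x) y := by
  rw [Matrix.mul_apply]
  apply Finset.sum_eq_single (ρ.symm x)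
  · intro z _ hz
    have : A x z = 0 := by
      by_contra h
      have := hA x z h
      apply hz
      rw [this, Equiv.symm_apply_apply]
    rw [this, zero_mul]
  · intro h
    exact absurd (Finset.mem_univ _) h

theorem mul_mono_apply {M C : Matrix (Fin m ⊕ Fin m) (Fin m ⊕ Fin m) F}
    {π : Equiv.Perm (Fin m ⊕ Fin m)} (hC : IsMono C π) (x y : Fin m ⊕ Fin m) :
    (M * C) x y = M x (π y) * C (π y) y := by
  rw [Matrix.mul_apply]
  apply Finset.sum_eq_single (π y)
  · intro z _ hz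
    have : C z y = 0 := by
      by_contra h
      exact hz (hC z y h)
    rw [this, mul_zero]
  · intro h
    exact absurd (Finset.mem_univ _) h

theorem isMono_mul {M N : Matrix (Fin m ⊕ Fin m) (Fin m ⊕ Fin m) F}
    {π ρ : Equiv.Perm (Fin m ⊕ Fin m)} (hM : IsMono M π) (hN : IsMono N ρ) :
    IsMono (M * N) (π * ρ) := by
  intro x y h
  rw [mul_mono_apply hN] at h
  have h1 : M x (ρ y) ≠ 0 := fun h0 => h (by rw [h0, zero_mul])
  rw [Equiv.Perm.mul_apply]
  exact hM x (ρ y) h1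

theorem isMono_inv (g : ↥(Matrix.symplecticGroup (Fin m) F)) {π : Equiv.Perm (Fin m ⊕ Fin m)}
    (hπ : SwC π) (hg : IsMono g.1 π) : IsMono (g⁻¹).1 π⁻¹ := by
  intro x y h
  rw [inv_apply] at h
  have h1 : g.1 y.swap x.swap ≠ 0 := fun h0 => h (by rw [h0, mul_zero])
  have h2 := hg _ _ h1
  rw [hπ] at h2
  have h3 : y = π x := Sum.swap_leftInverse.injective h2
  rw [h3, Equiv.Perm.inv_def, Equiv.symm_apply_apply]

/-- the monomial subgroup -/
def Nsp (m : ℕ) (F : Type u) [Field F] : Subgroup ↥(Matrix.symplecticGroup (Fin m) F) where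
  carrier := {g | ∃ π : Equiv.Perm (Fin m ⊕ Fin m), SwC π ∧ IsMono g.1 π}
  mul_mem' := by
    rintro a b ⟨π, hπ, ha⟩ ⟨ρ, hρ, hb⟩
    exact ⟨π * ρ, SwC_mul hπ hρ, isMono_mul ha hb⟩
  one_mem' := ⟨1, SwC_one, isMono_one⟩
  inv_mem' := by
    rintro g ⟨π, hπ, hg⟩
    exact ⟨π⁻¹, SwC_inv hπ, isMono_inv g hπ hg⟩

theorem mem_Nsp_iff (g : ↥(Matrix.symplecticGroup (Fin m) F)) :
    g ∈ Nsp m F ↔ ∃ π : Equiv.Perm (Fin m ⊕ Fin m), SwC π ∧ IsMono g.1 π := Iff.rfl

/-- the pivot entries of a monomial symplectic matrix are nonzero -/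
theorem mono_pivot_ne_zero (g : ↥(Matrix.symplecticGroup (Fin m) F))
    {π : Equiv.Perm (Fin m ⊕ Fin m)} (hg : IsMono g.1 π) (y : Fin m ⊕ Fin m) :
    g.1 (π y) y ≠ 0 := by
  intro h
  have h1 := inv_mul_apply g y y
  rw [if_pos rfl, mul_mono_apply hg, h, mul_zero] at h1
  exact zero_ne_one h1

theorem mono_pivot_mul_inv (g : ↥(Matrix.symplecticGroup (Fin m) F))
    {π : Equiv.Perm (Fin m ⊕ Fin m)} (hg : IsMono g.1 π) (y : Fin m ⊕ Fin m) :
    (g⁻¹).1 y (π y) * g.1 (π y) y = 1 := by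
  have h1 := inv_mul_apply g y y
  rw [if_pos rfl, mul_mono_apply hg] at h1
  exact h1

/-- uniqueness of the permutation of a monomial symplectic matrix -/
theorem mono_perm_unique (g : ↥(Matrix.symplecticGroup (Fin m) F))
    {π ρ : Equiv.Perm (Fin m ⊕ Fin m)} (hπ : IsMono g.1 π) (hρ : IsMono g.1 ρ) : π = ρ := by
  ext y
  exact hρ _ _ (mono_pivot_ne_zero g hπ y)

theorem isMono_one_of_up (g : ↥(Matrix.symplecticGroup (Fin m) F)) (hg : g ∈ Bsp m F)
    {π : Equiv.Perm (Fin m ⊕ Fin m)} (hπ : IsMono g.1 π) : π = 1 := by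
  ext x
  rw [Equiv.Perm.one_apply]
  exact (hπ x x (up_diag_ne_zero g hg x)).symm

theorem up_of_isMono_one (g : ↥(Matrix.symplecticGroup (Fin m) F)) (hg : IsMono g.1 1) :
    g ∈ Bsp m F := by
  intro x y hxy
  by_contra h
  have := hg x y h
  rw [Equiv.Perm.one_apply] at this
  rw [this] at hxy
  exact lt_irrefl _ hxy

theorem mem_Tsp_iff (g : ↥(Matrix.symplecticGroup (Fin m) F)) :
    g ∈ Bsp m F ⊓ Nsp m F ↔ IsMono g.1 1 := by
  constructor
  · rintro ⟨hB, π, _, hπ⟩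
    have := isMono_one_of_up g hB hπ
    rwa [this] at hπ
  · intro h
    exact ⟨up_of_isMono_one g h, 1, SwC_one, h⟩

/-- conjugation entry formula for monomial matrices -/
theorem mono_conj_apply (n : ↥(Matrix.symplecticGroup (Fin m) F))
    {π : Equiv.Perm (Fin m ⊕ Fin m)} (hπ : SwC π) (hn : IsMono n.1 π)
    (M : Matrix (Fin m ⊕ Fin m) (Fin m ⊕ Fin m) F) (x y : Fin m ⊕ Fin m) :
    ((n⁻¹).1 * M * n.1) x y = (n⁻¹).1 x (π x) * M (π x) (π y) * n.1 (π y) y := by
  rw [mul_mono_apply hn, mono_mul_apply (isMono_inv n hπ hn)]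
  have e : (π⁻¹ : Equiv.Perm (Fin m ⊕ Fin m)).symm x = π x := by
    rw [Equiv.Perm.inv_def, Equiv.symm_symm]
  rw [e]

end Cfsg.Agent.Lib.helper14.SpBN
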