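import Mathlib
import Cfsg.Agent.Lib.helper14.SpBNb

/-!
The permutations `tauP a c` (exchanging `a ↔ c` and `swap a ↔ swap c`), the monomial symplectic
matrices `monoSp π`, and the coarser grading `rks k`.
-/

set_option autoImplicit false

namespace Cfsg.Agent.Lib.helper14.SpBN

open Matrix Cfsg.Agent.Lib.helper6 Cfsg.Agent.Lib.Helper26 Cfsg.Agent.Lib.Helper16.SPA

universe u
variable {F : Type u} [Field F] {m : ℕ}

theorem swap_inj' {x y : Fin m ⊕ Fin m} (h : x.swap = y.swap) : x = y :=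
  Sum.swap_leftInverse.injective h

theorem swap_eq_iff {x y : Fin m ⊕ Fin m} : x.swap = y ↔ x = y.swap := by
  constructor
  · intro h; rw [← h, Sum.swap_swap]
  · intro h; rw [h, Sum.swap_swap]

/-- the involution exchanging `a ↔ c` and `swap a ↔ swap c` -/
def tauF (a c : Fin m ⊕ Fin m) (x : Fin m ⊕ Fin m) : Fin m ⊕ Fin m :=
  if x = a then c else if x = c then a else if x = a.swap then c.swap
    else if x = c.swap then a.swap else x

theorem tauF_left (a c : Fin m ⊕ Fin m) : tauF a c a = c := if_pos rfl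

theorem tauF_right {a c : Fin m ⊕ Fin m} (hac : a ≠ c) : tauF a c c = a := by
  unfold tauF
  rw [if_neg hac.symm, if_pos rfl]

theorem tauF_swap_left {a c : Fin m ⊕ Fin m} (h : c ≠ a.swap) :
    tauF a c a.swap = c.swap := by
  unfold tauF
  rw [if_neg (swap_ne a), if_neg h.symm, if_pos rfl]

theorem tauF_swap_right {a c : Fin m ⊕ Fin m} (hac : a ≠ c) (h : c ≠ a.swap) :
    tauF a c c.swap = a.swap := by
  unfold tauF
  have h1 : c.swap ≠ a := fun e => h (by rw [← e, Sum.swap_swap])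
  have h2 : c.swap ≠ a.swap := fun e => hac (swap_inj' e).symm
  rw [if_neg h1, if_neg (swap_ne c), if_neg h2, if_pos rfl]

theorem tauF_of_ne {a c x : Fin m ⊕ Fin m} (h1 : x ≠ a) (h2 : x ≠ c) (h3 : x ≠ a.swap)
    (h4 : x ≠ c.swap) : tauF a c x = x := by
  unfold tauF
  rw [if_neg h1, if_neg h2, if_neg h3, if_neg h4]

theorem tauF_invol {a c : Fin m ⊕ Fin m} (hac : a ≠ c) : Function.Involutive (tauF a c) := by
  intro x
  by_cases h1 : x = a
  · rw [h1, tauF_left, tauF_right hac]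
  by_cases h2 : x = c
  · rw [h2, tauF_right hac, tauF_left]
  by_cases h3 : x = a.swap
  · have hc : c ≠ a.swap := fun e => h2 (by rw [h3, e])
    rw [h3, tauF_swap_left hc, tauF_swap_right hac hc]
  by_cases h4 : x = c.swap
  · have hc : c ≠ a.swap := fun e => h1 (by rw [h4, e, Sum.swap_swap])
    rw [h4, tauF_swap_right hac hc, tauF_swap_left hc]
  rw [tauF_of_ne h1 h2 h3 h4, tauF_of_ne h1 h2 h3 h4]

/-- `tauF` as a permutation -/
def tauP (a c : Fin m ⊕ Fin m) (hac : a ≠ c) : Equiv.Perm (Fin m ⊕ Fin m) :=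
  (tauF_invol hac).toPerm

theorem tauP_apply {a c : Fin m ⊕ Fin m} (hac : a ≠ c) (x : Fin m ⊕ Fin m) :
    tauP a c hac x = tauF a c x := rfl

theorem tauP_symm_apply {a c : Fin m ⊕ Fin m} (hac : a ≠ c) (x : Fin m ⊕ Fin m) :
    (tauP a c hac).symm x = tauF a c x := rfl

theorem tauP_mul_self {a c : Fin m ⊕ Fin m} (hac : a ≠ c) : tauP a c hac * tauP a c hac = 1 := by
  ext x
  rw [Equiv.Perm.mul_apply, tauP_apply, tauP_apply, tauF_invol hac, Equiv.Perm.one_apply]

theorem SwC_tauP {a c : Fin m ⊕ Fin m} (hac : a ≠ c) : SwC (tauP a c hac) := by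
  intro x
  rw [tauP_apply, tauP_apply]
  by_cases h1 : x = a
  · rw [h1, tauF_left]
    by_cases hc : c = a.swap
    · rw [← hc, tauF_right hac, hc, Sum.swap_swap]
    · rw [tauF_swap_left hc]
  by_cases h2 : x = c
  · rw [h2, tauF_right hac]
    by_cases hc : c = a.swap
    · have hc' : c.swap = a := by rw [hc, Sum.swap_swap]
      rw [hc', tauF_left, hc]
    · rw [tauF_swap_right hac hc]
  by_cases h3 : x = a.swap
  · have hc : c ≠ a.swap := fun e => h2 (by rw [h3, e])
    rw [h3, Sum.swap_swap, tauF_left, tauF_swap_left hc, Sum.swap_swap]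
  by_cases h4 : x = c.swap
  · have hc : c ≠ a.swap := fun e => h1 (by rw [h4, e, Sum.swap_swap])
    rw [h4, Sum.swap_swap, tauF_right hac, tauF_swap_right hac hc, Sum.swap_swap]
  have g1 : x.swap ≠ a := fun e => h3 (swap_eq_iff.1 e)
  have g2 : x.swap ≠ c := fun e => h4 (swap_eq_iff.1 e)
  have g3 : x.swap ≠ a.swap := fun e => h1 (swap_inj' e)
  have g4 : x.swap ≠ c.swap := fun e => h2 (swap_inj' e)
  rw [tauF_of_ne h1 h2 h3 h4, tauF_of_ne g1 g2 g3 g4]

/-- the scalars of the monomial matrix `monoSp π` -/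
def lamS (π : Equiv.Perm (Fin m ⊕ Fin m)) (y : Fin m ⊕ Fin m) : F :=
  Sum.elim (fun _ => (1 : F)) (fun i => eps (π (Sum.inl i))) y

theorem lamS_ne_zero (π : Equiv.Perm (Fin m ⊕ Fin m)) (y : Fin m ⊕ Fin m) :
    (lamS π y : F) ≠ 0 := by
  rcases y with i | i
  · exact one_ne_zero
  · exact eps_ne_zero _

theorem lamS_rel {π : Equiv.Perm (Fin m ⊕ Fin m)} (hπ : SwC π) (y : Fin m ⊕ Fin m) :
    (lamS π y.swap : F) * lamS π y * eps (π y) = eps y := by
  rcases y with i | i
  · show eps (π (Sum.inl i)) * 1 * eps (π (Sum.inl i)) = (1 : F)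
    rw [mul_one, eps_mul_self]
  · show (1 : F) * eps (π (Sum.inl i)) * eps (π (Sum.inr i)) = -1
    have : π (Sum.inr i) = (π (Sum.inl i)).swap := by
      rw [← hπ]
      rfl
    rw [this, eps_swap, one_mul, mul_neg, eps_mul_self]

/-- the monomial symplectic matrix attached to a permutation commuting with `swap` -/
def monoSp (π : Equiv.Perm (Fin m ⊕ Fin m)) (hπ : SwC π) :
    ↥(Matrix.symplecticGroup (Fin m) F) :=
  ⟨colMat (fun y => (lamS π y : F) • bV (π y)), by
    apply colMat_mem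
    intro k l
    rw [sympForm_smul_left, sympForm_smul_right, sympForm_bV_bV, sympForm_bV_bV]
    by_cases h : k = l.swap
    · have h' : π k = (π l).swap := by rw [h, hπ]
      rw [if_pos h, if_pos h', h, ← mul_assoc]
      have := lamS_rel (F := F) hπ l
      linear_combination this
    · have h' : π k ≠ (π l).swap := by
        intro e
        rw [← hπ] at e
        exact h (π.injective e)
      rw [if_neg h, if_neg h', mul_zero, mul_zero]⟩

theorem monoSp_mulVec (π : Equiv.Perm (Fin m ⊕ Fin m)) (hπ : SwC π) (y : Fin m ⊕ Fin m) :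
    (monoSp (F := F) π hπ).1 *ᵥ bV y = (lamS π y : F) • bV (π y) :=
  colMat_bV _ y

theorem monoSp_apply (π : Equiv.Perm (Fin m ⊕ Fin m)) (hπ : SwC π) (x y : Fin m ⊕ Fin m) :
    (monoSp (F := F) π hπ).1 x y = if x = π y then lamS π y else 0 := by
  rw [← mulVec_bV (monoSp (F := F) π hπ).1 y x, monoSp_mulVec, Pi.smul_apply, bV_apply,
    smul_eq_mul, mul_ite, mul_one, mul_zero]

theorem isMono_monoSp (π : Equiv.Perm (Fin m ⊕ Fin m)) (hπ : SwC π) :
    IsMono (monoSp (F := F) π hπ).1 π := by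
  intro x y h
  rw [monoSp_apply] at h
  by_contra hxy
  rw [if_neg hxy] at h
  exact h rfl

theorem monoSp_mem_Nsp (π : Equiv.Perm (Fin m ⊕ Fin m)) (hπ : SwC π) :
    monoSp (F := F) π hπ ∈ Nsp m F := ⟨π, hπ, isMono_monoSp π hπ⟩

end Cfsg.Agent.Lib.helper14.SpBN
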