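import Mathlib
import Cfsg.Agent.Lib.helper14.SpBNc

/-!
The coarser grading `rks k`, simple reflections, simple root elements, and the key lemma (K):
a symplectic matrix that is block triangular for `rks k` with vanishing `(c,a)` entry is upper
triangular.
-/

set_option autoImplicit false

namespace Cfsg.Agent.Lib.helper14.SpBN

open Matrix Cfsg.Agent.Lib.helper6 Cfsg.Agent.Lib.Helper26 Cfsg.Agent.Lib.Helper16.SPA

universe u
variable {F : Type u} [Field F] {m : ℕ}

/-- the grading merging the ranks of the `k`-th simple pair (and of its mirror image) -/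
def rks (k : Fin m) (x : Fin m ⊕ Fin m) : ℕ :=
  if rk x = k.val + 1 ∨ rk x + k.val + 1 = 2 * m then rk x - 1 else rk x

theorem rks_sym (k : Fin m) (x y : Fin m ⊕ Fin m) (h : rks k y < rks k x) :
    rks k x.swap < rks k y.swap := by
  have h1 := rk_add_swap x
  have h2 := rk_add_swap y
  have h3 := rk_lt x
  have h4 := rk_lt y
  have hk := k.2
  unfold rks at *
  split_ifs at * <;> omega

theorem rks_mono (k : Fin m) {x y : Fin m ⊕ Fin m} (h : rks k y < rks k x) : rk y < rk x := by
  have hk := k.2
  unfold rks at h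
  split_ifs at h <;> omega

theorem rk_swap_pa (k : Fin m) : rk (pa k).swap + k.val + 1 = 2 * m := by
  have h1 := rk_add_swap (pa k)
  have hk := k.2
  rw [rk_pa] at h1
  omega

theorem rk_swap_pc (k : Fin m) : rk (pc k).swap + k.val + 2 = 2 * m := by
  have h1 := rk_add_swap (pc k)
  have hk := k.2
  rw [rk_pc] at h1
  omega

theorem rks_pa (k : Fin m) : rks k (pa k) = k.val := by
  have hk := k.2
  unfold rks
  rw [rk_pa]
  split_ifs <;> omega

theorem rks_pc (k : Fin m) : rks k (pc k) = k.val := by
  have hk := k.2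
  unfold rks
  rw [rk_pc]
  split_ifs <;> omega

/-- below rank `k` the grading is smaller than `k` -/
theorem rks_lt_of_rk_lt (k : Fin m) {z : Fin m ⊕ Fin m} (h : rk z < k.val) : rks k z < k.val := by
  have hk := k.2
  unfold rks
  split_ifs <;> omega

theorem rks_gt_of_rk_gt (k : Fin m) {z : Fin m ⊕ Fin m} (h : k.val + 1 < rk z) :
    k.val < rks k z := by
  have hk := k.2
  unfold rks
  split_ifs <;> omega

/-- two indices out of order for `rk` but not for `rks k` form the simple pair or its mirror -/
theorem pair_of_not_rks_lt (k : Fin m) {x y : Fin m ⊕ Fin m} (h : rk y < rk x)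
    (h' : ¬ rks k y < rks k x) :
    (x = pc k ∧ y = pa k) ∨ (x = (pa k).swap ∧ y = (pc k).swap) := by
  have hk := k.2
  have hx := rk_lt x
  unfold rks at h'
  by_cases h1 : rk x = k.val + 1
  · left
    have h2 : rk y = k.val := by
      split_ifs at h' <;> omega
    exact ⟨eq_pc_of_rk h1, eq_pa_of_rk h2⟩
  · right
    have h3 : rk x + k.val + 1 = 2 * m ∧ rk y + k.val + 2 = 2 * m := by
      split_ifs at h' <;> omega
    constructor
    · apply rk_injective
      have := rk_swap_pa k
      omega
    · apply rk_injective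
      have := rk_swap_pc k
      omega

theorem rks_tauF (k : Fin m) (x : Fin m ⊕ Fin m) :
    rks k (tauF (pa k) (pc k) x) = rks k x := by
  have hk := k.2
  have hac := pa_ne_pc k
  by_cases h1 : x = pa k
  · rw [h1, tauF_left, rks_pa, rks_pc]
  by_cases h2 : x = pc k
  · rw [h2, tauF_right hac, rks_pa, rks_pc]
  by_cases h3 : x = (pa k).swap
  · have hc : pc k ≠ (pa k).swap := fun e => h2 (by rw [h3, e])
    rw [h3, tauF_swap_left hc]
    have e1 := rk_swap_pa k
    have e2 := rk_swap_pc k
    unfold rks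
    split_ifs <;> omega
  by_cases h4 : x = (pc k).swap
  · have hc : pc k ≠ (pa k).swap := fun e => h1 (by rw [h4, e, Sum.swap_swap])
    rw [h4, tauF_swap_right hac hc]
    have e1 := rk_swap_pa k
    have e2 := rk_swap_pc k
    unfold rks
    split_ifs <;> omega
  rw [tauF_of_ne h1 h2 h3 h4]

theorem pk_of_up (k : Fin m) {M : Matrix (Fin m ⊕ Fin m) (Fin m ⊕ Fin m) F}
    (hM : M.BlockTriangular rk) : M.BlockTriangular (rks k) :=
  fun _ _ h => hM (rks_mono k h)

theorem pk_of_mono (k : Fin m) {M : Matrix (Fin m ⊕ Fin m) (Fin m ⊕ Fin m) F}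
    (hM : IsMono M (tauP (pa k) (pc k) (pa_ne_pc k))) : M.BlockTriangular (rks k) := by
  intro x y h
  by_contra hne
  have := hM x y hne
  rw [tauP_apply] at this
  rw [this, rks_tauF] at h
  exact lt_irrefl _ h

/-- collapse of a product entry in column `pa k` -/
theorem pk_mul_apply_pa (k : Fin m) {A M : Matrix (Fin m ⊕ Fin m) (Fin m ⊕ Fin m) F}
    (hA : A.BlockTriangular (rks k)) (hM : M.BlockTriangular (rks k))
    (hca : M (pc k) (pa k) = 0) (x : Fin m ⊕ Fin m) (hx : rks k x = k.val) :
    (A * M) x (pa k) = A x (pa k) * M (pa k) (pa k) := by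
  rw [Matrix.mul_apply]
  apply Finset.sum_eq_single (pa k)
  · intro z _ hz
    by_cases hzc : z = pc k
    · rw [hzc, hca, mul_zero]
    have hrz : rk z ≠ k.val := fun e => hz (eq_pa_of_rk e)
    have hrz' : rk z ≠ k.val + 1 := fun e => hzc (eq_pc_of_rk e)
    rcases lt_or_gt_of_ne hrz with h | h
    · have : rks k z < rks k x := by rw [hx]; exact rks_lt_of_rk_lt k h
      rw [hA this, zero_mul]
    · have : rks k (pa k) < rks k z := by
        rw [rks_pa]
        exact rks_gt_of_rk_gt k (by omega)
      rw [hM this, mul_zero]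
  · intro h
    exact absurd (Finset.mem_univ _) h

/-- Lemma (K) -/
theorem lemmaK (k : Fin m) (g : ↥(Matrix.symplecticGroup (Fin m) F))
    (hg : g.1.BlockTriangular (rks k)) (hca : g.1 (pc k) (pa k) = 0) : g ∈ Bsp m F := by
  have hinv := blockTri_inv (rks_sym k) g hg
  have h1 := inv_mul_apply g (pa k) (pa k)
  rw [if_pos rfl, pk_mul_apply_pa k hinv hg hca _ (rks_pa k)] at h1
  have haa : g.1 (pa k) (pa k) ≠ 0 := by
    intro h
    rw [h, mul_zero] at h1
    exact zero_ne_one h1
  have h2 := inv_mul_apply g (pc k) (pa k)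
  rw [if_neg (pa_ne_pc k).symm, pk_mul_apply_pa k hinv hg hca _ (rks_pc k)] at h2
  have h3 : (g⁻¹).1 (pc k) (pa k) = 0 := by
    rcases mul_eq_zero.mp h2 with h | h
    · exact h
    · exact absurd h haa
  rw [inv_apply] at h3
  have h4 : g.1 (pa k).swap (pc k).swap = 0 := by
    rcases mul_eq_zero.mp h3 with h | h
    · rcases mul_eq_zero.mp h with h | h
      · exact absurd h (eps_ne_zero _)
      · exact absurd h (eps_ne_zero _)
    · exact h
  intro x y hxy
  by_cases h : rks k y < rks k x
  · exact hg h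
  · rcases pair_of_not_rks_lt k hxy h with ⟨rfl, rfl⟩ | ⟨rfl, rfl⟩
    · exact hca
    · exact h4

end Cfsg.Agent.Lib.helper14.SpBN
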