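import Mathlib
import Cfsg.Agent.Lib.helper14.SpBNd

/-!
Simple reflections and simple root elements of `Sp`.
-/

set_option autoImplicit false

namespace Cfsg.Agent.Lib.helper14.SpBN

open Matrix Cfsg.Agent.Lib.helper6 Cfsg.Agent.Lib.Helper26 Cfsg.Agent.Lib.Helper16.SPA

universe u
variable {F : Type u} [Field F] {m : ℕ}

/-- the permutation of the `k`-th simple reflection -/
def tauS (k : Fin m) : Equiv.Perm (Fin m ⊕ Fin m) := tauP (pa k) (pc k) (pa_ne_pc k)

theorem SwC_tauS (k : Fin m) : SwC (tauS k) := SwC_tauP _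

theorem tauS_pa (k : Fin m) : tauS k (pa k) = pc k := tauF_left _ _

theorem tauS_pc (k : Fin m) : tauS k (pc k) = pa k := tauF_right (pa_ne_pc k)

theorem tauS_symm (k : Fin m) : (tauS k).symm = tauS k := rfl

theorem tauS_inv (k : Fin m) : (tauS k)⁻¹ = tauS k := rfl

theorem tauS_mul_self (k : Fin m) : tauS k * tauS k = 1 := tauP_mul_self _

/-- the `k`-th simple reflection -/
def sRef (k : Fin m) : ↥(Matrix.symplecticGroup (Fin m) F) := monoSp (tauS k) (SwC_tauS k)

theorem isMono_sRef (k : Fin m) : IsMono (sRef (F := F) k).1 (tauS k) := isMono_monoSp _ _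

theorem isMono_sRef_inv (k : Fin m) : IsMono ((sRef (F := F) k)⁻¹).1 (tauS k) := by
  have := isMono_inv (sRef (F := F) k) (SwC_tauS k) (isMono_sRef k)
  rwa [tauS_inv] at this

theorem sRef_mem_Nsp (k : Fin m) : sRef (F := F) k ∈ Nsp m F := monoSp_mem_Nsp _ _

theorem sRef_sq_mem_Bsp (k : Fin m) : sRef (F := F) k * sRef k ∈ Bsp m F := by
  apply up_of_isMono_one
  have := isMono_mul (isMono_sRef (F := F) k) (isMono_sRef (F := F) k)
  rwa [tauS_mul_self] at this

theorem pk_sRef (k : Fin m) : (sRef (F := F) k).1.BlockTriangular (rks k) :=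
  pk_of_mono k (isMono_sRef k)

theorem pk_sRef_inv (k : Fin m) : ((sRef (F := F) k)⁻¹).1.BlockTriangular (rks k) :=
  pk_of_mono k (isMono_sRef_inv k)

theorem sRef_pivot (k : Fin m) : (sRef (F := F) k).1 (pc k) (pa k) ≠ 0 := by
  have := mono_pivot_ne_zero (sRef (F := F) k) (isMono_sRef k) (pa k)
  rwa [tauS_pa] at this

theorem sRef_inv_pivot (k : Fin m) : ((sRef (F := F) k)⁻¹).1 (pc k) (pa k) ≠ 0 := by
  have := mono_pivot_ne_zero ((sRef (F := F) k)⁻¹) (isMono_sRef_inv k) (pa k)
  rwa [tauS_pa] at this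

/-- entry `(c,a)` of a conjugate `s * M * s⁻¹` -/
theorem sRef_conj_apply_ca (k : Fin m) (M : Matrix (Fin m ⊕ Fin m) (Fin m ⊕ Fin m) F) :
    ((sRef (F := F) k).1 * M * ((sRef (F := F) k)⁻¹).1) (pc k) (pa k) =
      (sRef (F := F) k).1 (pc k) (pa k) * M (pa k) (pc k) * ((sRef (F := F) k)⁻¹).1 (pc k) (pa k) := by
  rw [mul_mono_apply (isMono_sRef_inv k), mono_mul_apply (isMono_sRef k), tauS_symm, tauS_pa, tauS_pc]

/-- the `k`-th simple root element -/
def uRoot (k : Fin m) (t : F) : ↥(Matrix.symplecticGroup (Fin m) F) :=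
  if pc k = (pa k).swap then spT m (bV (pa k)) (t * eps (pa k))
  else sR (bV (pa k)) (bV (pc k).swap) (-t * eps (pc k))

theorem uRoot_apply (k : Fin m) (t : F) (x y : Fin m ⊕ Fin m) :
    (uRoot k t).1 x y = (if x = y then 1 else 0) + (if x = pa k ∧ y = pc k then t else 0) +
      (if pc k ≠ (pa k).swap ∧ x = (pc k).swap ∧ y = (pa k).swap then
        -t * eps (pc k) * eps (pa k) else 0) := by
  have hac := pa_ne_pc k
  rw [← mulVec_bV (uRoot k t).1 y x]
  unfold uRoot
  by_cases hc : pc k = (pa k).swap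
  · rw [if_pos hc, spT_mulVec, sympForm_bV_bV, Pi.add_apply, Pi.smul_apply, bV_apply, bV_apply,
      smul_eq_mul]
    have e := eps_mul_self (F := F) (pa k)
    rw [if_neg (fun h : pc k ≠ (pa k).swap ∧ _ => h.1 hc), add_zero, ← hc]
    by_cases hx : x = pa k <;> by_cases hy : y = pc k
    · have hxy : x = pa k ∧ y = pc k := ⟨hx, hy⟩
      rw [if_pos hx, if_pos hy, if_pos hxy]
      congr 1
      linear_combination t * e
    · rw [if_neg hy, if_neg (fun h : x = pa k ∧ y = pc k => hy h.2)]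
      simp
    · rw [if_neg hx, if_neg (fun h : x = pa k ∧ y = pc k => hx h.1)]
      simp
    · rw [if_neg hx, if_neg (fun h : x = pa k ∧ y = pc k => hx h.1)]
      simp
  · rw [if_neg hc]
    have horth : Cfsg.sympForm m F (bV (pa k) : Fin m ⊕ Fin m → F) (bV (pc k).swap) = 0 := by
      rw [sympForm_bV_bV, Sum.swap_swap, if_neg hac]
    rw [sR_mulVec horth, sympForm_bV_bV, sympForm_bV_bV, Sum.swap_swap]
    simp only [Pi.add_apply, Pi.smul_apply, bV_apply, smul_eq_mul]
    have e := eps_mul_self (F := F) (pc k)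
    have e2 := eps_swap (F := F) (pc k)
    by_cases hy1 : y = pc k
    · have hy2 : y ≠ (pa k).swap := fun h => hc (hy1 ▸ h)
      rw [if_neg hy2, if_pos hy1, e2]
      by_cases hx : x = pa k
      · have hx2 : x ≠ (pc k).swap := by
          rw [hx]
          intro h
          apply hc
          rw [h, Sum.swap_swap]
        have hxy : x = pa k ∧ y = pc k := ⟨hx, hy1⟩
        rw [if_pos hxy, if_pos hx, if_neg hx2,
          if_neg (fun h : pc k ≠ (pa k).swap ∧ x = (pc k).swap ∧ _ => hx2 h.2.1)]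
        linear_combination t * e
      · rw [if_neg (fun h : x = pa k ∧ y = pc k => hx h.1), if_neg hx,
          if_neg (fun h : pc k ≠ (pa k).swap ∧ x = (pc k).swap ∧ y = (pa k).swap => hy2 h.2.2)]
        ring
    · rw [if_neg hy1, if_neg (fun h : x = pa k ∧ y = pc k => hy1 h.2)]
      by_cases hy2 : y = (pa k).swap
      · rw [if_pos hy2]
        by_cases hx : x = (pc k).swap
        · have hxy : pc k ≠ (pa k).swap ∧ x = (pc k).swap ∧ y = (pa k).swap := ⟨hc, hx, hy2⟩
          rw [if_pos hx, if_pos hxy]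
          ring
        · rw [if_neg hx, if_neg (fun h : pc k ≠ (pa k).swap ∧ x = (pc k).swap ∧ _ => hx h.2.1)]
          ring
      · rw [if_neg hy2, if_neg (fun h : pc k ≠ (pa k).swap ∧ x = (pc k).swap ∧ y = (pa k).swap =>
          hy2 h.2.2)]
        ring

end Cfsg.Agent.Lib.helper14.SpBN
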