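import Mathlib
import Cfsg.Agent.Lib.helper14.SpBNe

/-!
The double coset computations `(B s B)(B n B) ⊆ B s n B ∪ B n B` for `Sp`.
-/

set_option autoImplicit false

namespace Cfsg.Agent.Lib.helper14.SpBN

open Matrix Cfsg.Agent.Lib.helper6 Cfsg.Agent.Lib.Helper26 Cfsg.Agent.Lib.Helper16.SPA

universe u
variable {F : Type u} [Field F] {m : ℕ}

theorem swap_pc_ne_swap_pa (k : Fin m) : (pc k).swap ≠ (pa k).swap :=
  fun e => pa_ne_pc k (swap_inj' e).symm

theorem uRoot_supp (k : Fin m) (t : F) {x y : Fin m ⊕ Fin m} (h : (uRoot k t).1 x y ≠ 0) :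
    x = y ∨ (x = pa k ∧ y = pc k) ∨ (x = (pc k).swap ∧ y = (pa k).swap) := by
  by_contra hcon
  push_neg at hcon
  obtain ⟨h1, h2, h3⟩ := hcon
  apply h
  rw [uRoot_apply, if_neg h1, if_neg (fun hh : x = pa k ∧ y = pc k => h2 hh.1 hh.2),
    if_neg (fun hh : pc k ≠ (pa k).swap ∧ x = (pc k).swap ∧ y = (pa k).swap => h3 hh.2.1 hh.2.2),
    add_zero, add_zero]

theorem uRoot_mem_Bsp (k : Fin m) (t : F) : uRoot k t ∈ Bsp m F := by
  intro x y hxy
  by_contra h
  rcases uRoot_supp k t h with rfl | ⟨rfl, rfl⟩ | ⟨rfl, rfl⟩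
  · exact lt_irrefl _ hxy
  · rw [rk_pa, rk_pc] at hxy
    omega
  · rw [rk_swap_lt_iff, rk_pa, rk_pc] at hxy
    omega

theorem uRoot_row_pa (k : Fin m) (t : F) (z : Fin m ⊕ Fin m) :
    (uRoot k t).1 (pa k) z = if z = pa k then 1 else if z = pc k then t else 0 := by
  rw [uRoot_apply]
  have h3 : ¬ (pc k ≠ (pa k).swap ∧ pa k = (pc k).swap ∧ z = (pa k).swap) := by
    rintro ⟨h, h', _⟩
    apply h
    rw [h', Sum.swap_swap]
  rw [if_neg h3, add_zero]
  by_cases h1 : z = pa k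
  · have h2 : ¬ (pa k = pa k ∧ z = pc k) := fun hh => pa_ne_pc k (h1 ▸ hh.2)
    rw [if_pos h1, if_pos h1.symm, if_neg h2, add_zero]
  · rw [if_neg h1, if_neg (fun hh => h1 hh.symm), zero_add]
    by_cases h2 : z = pc k
    · have h2' : pa k = pa k ∧ z = pc k := ⟨rfl, h2⟩
      rw [if_pos h2, if_pos h2']
    · rw [if_neg h2, if_neg (fun hh : pa k = pa k ∧ z = pc k => h2 hh.2)]

theorem uRoot_col_pc (k : Fin m) (t : F) (z : Fin m ⊕ Fin m) :
    (uRoot k t).1 z (pc k) = if z = pc k then 1 else if z = pa k then t else 0 := by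
  rw [uRoot_apply]
  have h3 : ¬ (pc k ≠ (pa k).swap ∧ z = (pc k).swap ∧ pc k = (pa k).swap) := by
    rintro ⟨h, _, h'⟩
    exact h h'
  rw [if_neg h3, add_zero]
  by_cases h1 : z = pc k
  · have h2 : ¬ (z = pa k ∧ pc k = pc k) := fun hh => pa_ne_pc k (hh.1 ▸ h1)
    rw [if_pos h1, if_pos h1, if_neg h2, add_zero]
  · rw [if_neg h1, if_neg h1, zero_add]
    by_cases h2 : z = pa k
    · have h2' : z = pa k ∧ pc k = pc k := ⟨h2, rfl⟩
      rw [if_pos h2, if_pos h2']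
    · rw [if_neg h2, if_neg (fun hh : z = pa k ∧ pc k = pc k => h2 hh.1)]

theorem uRoot_apply_ac (k : Fin m) (t : F) : (uRoot k t).1 (pa k) (pc k) = t := by
  rw [uRoot_row_pa, if_neg (pa_ne_pc k).symm, if_pos rfl]

/-- conjugating by `s` an upper triangular matrix with vanishing `(a,c)` entry -/
theorem sRef_conj_mem (k : Fin m) (b : ↥(Matrix.symplecticGroup (Fin m) F)) (hb : b ∈ Bsp m F)
    (hac : b.1 (pa k) (pc k) = 0) : sRef k * b * (sRef k)⁻¹ ∈ Bsp m F := by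
  apply lemmaK k
  · rw [coe_mul', coe_mul']
    exact ((pk_sRef k).mul (pk_of_up k hb)).mul (pk_sRef_inv k)
  · rw [coe_mul', coe_mul', sRef_conj_apply_ca, hac, mul_zero, zero_mul]

/-- conjugating a simple root element by a monomial matrix for which the root stays positive -/
theorem conj_uRoot_mem (k : Fin m) (t : F) (n : ↥(Matrix.symplecticGroup (Fin m) F))
    {π : Equiv.Perm (Fin m ⊕ Fin m)} (hπ : SwC π) (hn : IsMono n.1 π)
    (hpos : rk (π.symm (pa k)) < rk (π.symm (pc k))) : n⁻¹ * uRoot k t * n ∈ Bsp m F := by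
  intro x y hxy
  rw [coe_mul', coe_mul', mono_conj_apply n hπ hn]
  have h0 : (uRoot k t).1 (π x) (π y) = 0 := by
    by_contra h
    rcases uRoot_supp k t h with h1 | ⟨h1, h2⟩ | ⟨h1, h2⟩
    · rw [π.injective h1] at hxy
      exact lt_irrefl _ hxy
    · have e1 : x = π.symm (pa k) := by rw [← h1, Equiv.symm_apply_apply]
      have e2 : y = π.symm (pc k) := by rw [← h2, Equiv.symm_apply_apply]
      rw [e1, e2] at hxy
      omega
    · have e1 : x = (π.symm (pc k)).swap := by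
        rw [← SwC_symm hπ, ← h1, Equiv.symm_apply_apply]
      have e2 : y = (π.symm (pa k)).swap := by
        rw [← SwC_symm hπ, ← h2, Equiv.symm_apply_apply]
      rw [e1, e2, rk_swap_lt_iff] at hxy
      omega
  rw [h0, mul_zero, zero_mul]

/-- case (P1): when the root stays positive, `s b n ∈ B s n B` -/
theorem bn_P1 (k : Fin m) (n : ↥(Matrix.symplecticGroup (Fin m) F))
    {π : Equiv.Perm (Fin m ⊕ Fin m)} (hπ : SwC π) (hn : IsMono n.1 π)
    (hpos : rk (π.symm (pa k)) < rk (π.symm (pc k)))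
    (b : ↥(Matrix.symplecticGroup (Fin m) F)) (hb : b ∈ Bsp m F) :
    ∃ b1 ∈ Bsp m F, ∃ b2 ∈ Bsp m F, sRef k * b * n = b1 * (sRef k * n) * b2 := by
  have haa := up_diag_ne_zero b hb (pa k)
  set t : F := b.1 (pa k) (pc k) / b.1 (pa k) (pa k) with ht
  have hb' : b * uRoot k (-t) ∈ Bsp m F := (Bsp m F).mul_mem hb (uRoot_mem_Bsp k _)
  have hent : (b * uRoot k (-t)).1 (pa k) (pc k) = 0 := by
    rw [coe_mul', Matrix.mul_apply,
      Fintype.sum_eq_add (pa k) (pc k) (pa_ne_pc k)]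
    · rw [uRoot_col_pc, uRoot_col_pc, if_neg (pa_ne_pc k), if_pos rfl, if_pos rfl, ht]
      field_simp
      ring
    · rintro z ⟨hz1, hz2⟩
      rw [uRoot_col_pc, if_neg hz2, if_neg hz1, mul_zero]
  refine ⟨sRef k * (b * uRoot k (-t)) * (sRef k)⁻¹, sRef_conj_mem k _ hb' hent,
    n⁻¹ * (uRoot k (-t))⁻¹ * n, ?_, ?_⟩
  · have h1 := conj_uRoot_mem k (-t) n hπ hn hpos
    have h2 := (Bsp m F).inv_mem h1
    have e : (n⁻¹ * uRoot k (-t) * n)⁻¹ = n⁻¹ * (uRoot k (-t))⁻¹ * n := by group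
    rwa [e] at h2
  · group

/-- case (B): when the root becomes negative, `s b n ∈ B s n B ∪ B n B` -/
theorem bn_caseB (k : Fin m) (n : ↥(Matrix.symplecticGroup (Fin m) F))
    {π : Equiv.Perm (Fin m ⊕ Fin m)} (hπ : SwC π) (hn : IsMono n.1 π)
    (hneg : rk (π.symm (pc k)) < rk (π.symm (pa k)))
    (b : ↥(Matrix.symplecticGroup (Fin m) F)) (hb : b ∈ Bsp m F)
    (hac : b.1 (pa k) (pc k) ≠ 0) :
    ∃ b1 ∈ Bsp m F, ∃ b2 ∈ Bsp m F, sRef k * b * n = b1 * n * b2 := by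
  set s : ↥(Matrix.symplecticGroup (Fin m) F) := sRef k with hs
  set v : ↥(Matrix.symplecticGroup (Fin m) F) := s * b * s⁻¹ with hv
  have hvpk : v.1.BlockTriangular (rks k) := by
    rw [hv, coe_mul', coe_mul']
    exact ((pk_sRef k).mul (pk_of_up k hb)).mul (pk_sRef_inv k)
  have hvca : v.1 (pc k) (pa k) ≠ 0 := by
    rw [hv, coe_mul', coe_mul', sRef_conj_apply_ca]
    exact mul_ne_zero (mul_ne_zero (sRef_pivot k) hac) (sRef_inv_pivot k)
  set y : F := - v.1 (pa k) (pa k) / v.1 (pc k) (pa k) with hy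
  set g : ↥(Matrix.symplecticGroup (Fin m) F) := uRoot k y * v with hg
  have hgaa : g.1 (pa k) (pa k) = 0 := by
    rw [hg, coe_mul', Matrix.mul_apply, Fintype.sum_eq_add (pa k) (pc k) (pa_ne_pc k)]
    · rw [uRoot_row_pa, uRoot_row_pa, if_pos rfl, if_neg (pa_ne_pc k).symm, if_pos rfl, hy]
      field_simp
      ring
    · rintro z ⟨hz1, hz2⟩
      rw [uRoot_row_pa, if_neg hz1, if_neg hz2, zero_mul]
  have hgpk : g.1.BlockTriangular (rks k) := by
    rw [hg, coe_mul']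
    exact (pk_of_up k (uRoot_mem_Bsp k y)).mul hvpk
  have hw : s⁻¹ * g ∈ Bsp m F := by
    apply lemmaK k
    · rw [coe_mul']
      exact (pk_sRef_inv k).mul hgpk
    · rw [coe_mul', mono_mul_apply (isMono_sRef_inv k), tauS_symm, tauS_pc, hgaa, mul_zero]
  -- apply (P1) to `s * n`
  have hmono : IsMono (s * n).1 (tauS k * π) := by
    rw [coe_mul']
    exact isMono_mul (isMono_sRef k) hn
  have hpos' : rk ((tauS k * π).symm (pa k)) < rk ((tauS k * π).symm (pc k)) := by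
    have e1 : (tauS k * π).symm (pa k) = π.symm (pc k) := by
      show π.symm ((tauS k).symm (pa k)) = _
      rw [tauS_symm, tauS_pa]
    have e2 : (tauS k * π).symm (pc k) = π.symm (pa k) := by
      show π.symm ((tauS k).symm (pc k)) = _
      rw [tauS_symm, tauS_pc]
    rw [e1, e2]
    exact hneg
  obtain ⟨b1, hb1, b2, hb2, e⟩ := bn_P1 k (s * n) (SwC_mul (SwC_tauS k) hπ) hmono hpos'
    (s⁻¹ * g) hw
  rw [← hs] at e
  refine ⟨(uRoot k y)⁻¹ * b1 * (s * s), ?_, b2, hb2, ?_⟩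
  · exact (Bsp m F).mul_mem ((Bsp m F).mul_mem ((Bsp m F).inv_mem (uRoot_mem_Bsp k y)) hb1)
      (sRef_sq_mem_Bsp k)
  · have e' : s * b * n = (uRoot k y)⁻¹ * (s * (s⁻¹ * g) * (s * n)) := by
      rw [hg, hv]
      group
    rw [e', e]
    group

end Cfsg.Agent.Lib.helper14.SpBN
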