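import Mathlib
import Cfsg.Agent.Lib.helper14.SpBNf

/-!
Generation of the monomial group of `Sp` by the simple reflections modulo the torus.
-/

set_option autoImplicit false

namespace Cfsg.Agent.Lib.helper14.SpBN

open Matrix Cfsg.Agent.Lib.helper6 Cfsg.Agent.Lib.Helper26 Cfsg.Agent.Lib.Helper16.SPA

universe u
variable {F : Type u} [Field F] {m : ℕ}

/-- potential function on permutations -/
def gphi (π : Equiv.Perm (Fin m ⊕ Fin m)) : ℤ :=
  ∑ y : Fin m ⊕ Fin m, (rk y : ℤ) * (rk (π.symm y) : ℤ)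

/-- upper bound of the potential -/
def gbound (m : ℕ) : ℤ := ∑ y : Fin m ⊕ Fin m, (rk y : ℤ) * (2 * m : ℤ)

theorem gphi_le (π : Equiv.Perm (Fin m ⊕ Fin m)) : gphi π ≤ gbound m := by
  unfold gphi gbound
  apply Finset.sum_le_sum
  intro y _
  apply mul_le_mul_of_nonneg_left _ (Int.natCast_nonneg _)
  have := rk_lt (π.symm y)
  omega

/-- the difference `rk (τ y) - rk y` as a combination of indicator functions -/
theorem rk_tauS_sub (k : Fin m) (y : Fin m ⊕ Fin m) :
    (rk (tauS k y) : ℤ) - rk y =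
      (if y = pa k then 1 else 0) - (if y = pc k then 1 else 0) +
        (if pc k = (pa k).swap then 0
          else (if y = (pc k).swap then 1 else 0) - (if y = (pa k).swap then 1 else 0)) := by
  have hac := pa_ne_pc k
  have hk := k.2
  have e1 := rk_swap_pa k
  have e2 := rk_swap_pc k
  show (rk (tauF (pa k) (pc k) y) : ℤ) - rk y = _
  by_cases h1 : y = pa k
  · rw [h1, tauF_left, rk_pa, rk_pc, if_pos rfl, if_neg hac]
    by_cases hc : pc k = (pa k).swap
    · rw [if_pos hc]; push_cast; ring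
    · have g1 : pa k ≠ (pc k).swap := fun e => hc (by rw [e, Sum.swap_swap])
      rw [if_neg hc, if_neg g1, if_neg (swap_ne (pa k)).symm]; push_cast; ring
  by_cases h2 : y = pc k
  · rw [h2, tauF_right hac, rk_pa, rk_pc, if_neg hac.symm, if_pos rfl]
    by_cases hc : pc k = (pa k).swap
    · rw [if_pos hc]; push_cast; ring
    · rw [if_neg hc, if_neg (swap_ne (pc k)).symm, if_neg hc]; push_cast; ring
  by_cases h3 : y = (pa k).swap
  · have hc : pc k ≠ (pa k).swap := fun e => h2 (by rw [h3, e])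
    have g1 : (pa k).swap ≠ (pc k).swap := fun e => hac (swap_inj' e)
    rw [h3, tauF_swap_left hc, if_neg (swap_ne (pa k)), if_neg hc.symm, if_neg hc, if_neg g1,
      if_pos rfl]
    have : (rk (pc k).swap : ℤ) + 1 = rk (pa k).swap := by omega
    linarith
  by_cases h4 : y = (pc k).swap
  · have hc : pc k ≠ (pa k).swap := fun e => h1 (by rw [h4, e, Sum.swap_swap])
    have g1 : (pc k).swap ≠ (pa k).swap := fun e => hac (swap_inj' e).symm
    have g2 : (pc k).swap ≠ pa k := fun e => hc (by rw [← e, Sum.swap_swap])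
    rw [h4, tauF_swap_right hac hc, if_neg g2, if_neg (swap_ne (pc k)), if_neg hc, if_pos rfl,
      if_neg g1]
    have : (rk (pc k).swap : ℤ) + 1 = rk (pa k).swap := by omega
    linarith
  rw [tauF_of_ne h1 h2 h3 h4, if_neg h1, if_neg h2, if_neg h4, if_neg h3]
  split_ifs <;> ring

theorem gphi_tauS_mul (k : Fin m) (π : Equiv.Perm (Fin m ⊕ Fin m)) :
    gphi (tauS k * π) = ∑ y : Fin m ⊕ Fin m, (rk (tauS k y) : ℤ) * (rk (π.symm y) : ℤ) := by
  unfold gphi
  rw [← Equiv.sum_comp (tauS k) (fun y => (rk (tauS k y) : ℤ) * (rk (π.symm y) : ℤ))]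
  apply Finset.sum_congr rfl
  intro y _
  have e1 : tauS k (tauS k y) = y := tauF_invol (pa_ne_pc k) y
  have e2 : (tauS k * π).symm y = π.symm (tauS k y) := rfl
  rw [e1, e2]

theorem gphi_lt (k : Fin m) (π : Equiv.Perm (Fin m ⊕ Fin m)) (hπ : SwC π)
    (hneg : rk (π.symm (pc k)) < rk (π.symm (pa k))) : gphi π < gphi (tauS k * π) := by
  have hdiff : gphi (tauS k * π) - gphi π =
      ∑ y : Fin m ⊕ Fin m, ((rk (tauS k y) : ℤ) - rk y) * (rk (π.symm y) : ℤ) := by
    rw [gphi_tauS_mul]
    unfold gphi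
    rw [← Finset.sum_sub_distrib]
    apply Finset.sum_congr rfl
    intro y _
    ring
  have hsum : ∑ y : Fin m ⊕ Fin m, ((rk (tauS k y) : ℤ) - rk y) * (rk (π.symm y) : ℤ) =
      (rk (π.symm (pa k)) : ℤ) - rk (π.symm (pc k)) +
        (if pc k = (pa k).swap then 0
          else (rk (π.symm (pc k).swap) : ℤ) - rk (π.symm (pa k).swap)) := by
    simp_rw [rk_tauS_sub]
    by_cases hc : pc k = (pa k).swap
    · simp only [if_pos hc, add_zero, sub_mul, ite_mul, one_mul, zero_mul,
        Finset.sum_sub_distrib, Finset.sum_ite_eq', Finset.mem_univ, if_true]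
    · simp only [if_neg hc, add_mul, sub_mul, ite_mul, one_mul, zero_mul,
        Finset.sum_add_distrib, Finset.sum_sub_distrib, Finset.sum_ite_eq', Finset.mem_univ, if_true]
  have h1 := rk_add_swap (π.symm (pa k))
  have h2 := rk_add_swap (π.symm (pc k))
  have h3 : π.symm (pa k).swap = (π.symm (pa k)).swap := SwC_symm hπ _
  have h4 : π.symm (pc k).swap = (π.symm (pc k)).swap := SwC_symm hπ _
  have hpos : 0 < gphi (tauS k * π) - gphi π := by
    rw [hdiff, hsum, h3, h4]
    split_ifs
    · omega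
    · omega
  omega

/-- the set of simple reflections -/
def Ssp (m : ℕ) (F : Type u) [Field F] : Set ↥(Matrix.symplecticGroup (Fin m) F) :=
  Set.range (fun k : Fin m => sRef (F := F) k)

theorem sRef_mem_Ssp (k : Fin m) : sRef (F := F) k ∈ Ssp m F := ⟨k, rfl⟩

theorem Ssp_subset_Nsp : Ssp m F ⊆ (Nsp m F : Set ↥(Matrix.symplecticGroup (Fin m) F)) := by
  rintro _ ⟨k, rfl⟩
  exact sRef_mem_Nsp k

theorem mono_mem_closure_aux : ∀ d : ℕ, ∀ (n : ↥(Matrix.symplecticGroup (Fin m) F))
    (π : Equiv.Perm (Fin m ⊕ Fin m)), SwC π → IsMono n.1 π → (gbound m - gphi π).toNat < d →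
    n ∈ Subgroup.closure (Ssp m F) ⊔ (Bsp m F ⊓ Nsp m F) := by
  intro d
  induction d with
  | zero => intro n π _ _ h; exact absurd h (Nat.not_lt_zero _)
  | succ d ih =>
    intro n π hπ hn hd
    by_cases hall : ∀ k : Fin m, rk (π.symm (pa k)) < rk (π.symm (pc k))
    · have h1 : π.symm = 1 := perm_eq_one_of_simple π.symm (SwC_inv hπ) hall
      have h2 : π = 1 := by
        have := congrArg Equiv.symm h1
        rwa [Equiv.symm_symm] at this
      rw [h2] at hn
      exact Subgroup.mem_sup_right ((mem_Tsp_iff n).2 hn)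
    · push_neg at hall
      obtain ⟨k, hk⟩ := hall
      have hne : rk (π.symm (pc k)) ≠ rk (π.symm (pa k)) := by
        intro e
        exact pa_ne_pc k (π.symm.injective (rk_injective e)).symm
      have hneg : rk (π.symm (pc k)) < rk (π.symm (pa k)) := lt_of_le_of_ne hk hne
      have hlt := gphi_lt k π hπ hneg
      have hle := gphi_le (tauS k * π)
      have hmono : IsMono (sRef (F := F) k * n).1 (tauS k * π) := by
        rw [coe_mul']
        exact isMono_mul (isMono_sRef k) hn
      have hmeas : (gbound m - gphi (tauS k * π)).toNat < d := by omega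
      have h3 := ih (sRef k * n) (tauS k * π) (SwC_mul (SwC_tauS k) hπ) hmono hmeas
      have h4 : sRef (F := F) k ∈ Subgroup.closure (Ssp m F) ⊔ (Bsp m F ⊓ Nsp m F) :=
        Subgroup.mem_sup_left (Subgroup.subset_closure (sRef_mem_Ssp k))
      have e : n = (sRef (F := F) k)⁻¹ * (sRef k * n) := by group
      rw [e]
      exact Subgroup.mul_mem _ (Subgroup.inv_mem _ h4) h3

theorem closure_Ssp_sup : Subgroup.closure (Ssp m F) ⊔ (Bsp m F ⊓ Nsp m F) = Nsp m F := by
  apply le_antisymm
  · apply sup_le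
    · rw [Subgroup.closure_le]
      exact Ssp_subset_Nsp
    · exact inf_le_right
  · rintro n ⟨π, hπ, hn⟩
    exact mono_mem_closure_aux _ n π hπ hn (Nat.lt_succ_self _)

end Cfsg.Agent.Lib.helper14.SpBN
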