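import Mathlib
import Cfsg.Agent.Lib.helper14.SpBNg

/-!
`Sp` is generated by the upper triangular and the monomial subgroups.
-/

set_option autoImplicit false

namespace Cfsg.Agent.Lib.helper14.SpBN

open Matrix Cfsg.Agent.Lib.helper6 Cfsg.Agent.Lib.Helper26 Cfsg.Agent.Lib.Helper16.SPA

universe u
variable {F : Type u} [Field F] {m : ℕ}

/-- the longest element -/
def nLong (m : ℕ) (F : Type u) [Field F] : ↥(Matrix.symplecticGroup (Fin m) F) :=
  monoSp (swapPerm m) SwC_swapPerm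

theorem isMono_nLong : IsMono (nLong m F).1 (swapPerm m) := isMono_monoSp _ _

theorem nLong_mem_Nsp : nLong m F ∈ Nsp m F := monoSp_mem_Nsp _ _

/-- lower triangular matrices -/
def IsLow (M : Matrix (Fin m ⊕ Fin m) (Fin m ⊕ Fin m) F) : Prop :=
  M.BlockTriangular (fun x => rk x.swap)

theorem isLow_iff (M : Matrix (Fin m ⊕ Fin m) (Fin m ⊕ Fin m) F) :
    IsLow M ↔ ∀ x y, rk x < rk y → M x y = 0 := by
  constructor
  · intro h x y hxy
    exact h ((rk_swap_lt_iff y x).2 hxy)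
  · intro h x y hxy
    exact h x y ((rk_swap_lt_iff y x).1 hxy)

theorem low_mem_sup (g : ↥(Matrix.symplecticGroup (Fin m) F)) (hg : IsLow g.1) :
    g ∈ Bsp m F ⊔ Nsp m F := by
  have h1 : (nLong m F)⁻¹ * g * nLong m F ∈ Bsp m F := by
    intro x y hxy
    rw [coe_mul', coe_mul', mono_conj_apply _ SwC_swapPerm isMono_nLong, swapPerm_apply,
      swapPerm_apply, (isLow_iff g.1).1 hg _ _ ((rk_swap_lt_iff x y).2 hxy), mul_zero, zero_mul]
  have hN : nLong m F ∈ Bsp m F ⊔ Nsp m F := Subgroup.mem_sup_right nLong_mem_Nsp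
  have e : g = nLong m F * ((nLong m F)⁻¹ * g * nLong m F) * (nLong m F)⁻¹ := by group
  rw [e]
  exact Subgroup.mul_mem _ (Subgroup.mul_mem _ hN (Subgroup.mem_sup_left h1))
    (Subgroup.inv_mem _ hN)

theorem spT_bV_apply (p : Fin m ⊕ Fin m) (c : F) (z y : Fin m ⊕ Fin m) :
    (spT m (bV p) c).1 z y =
      (if z = y then 1 else 0) + c * (if y = p.swap then eps p else 0) * (if z = p then 1 else 0) := by
  rw [← mulVec_bV (spT m (bV p) c).1 y z, spT_mulVec, sympForm_bV_bV, Pi.add_apply, Pi.smul_apply,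
    bV_apply, bV_apply, smul_eq_mul]

theorem spT_bV_mem_sup (p : Fin m ⊕ Fin m) (c : F) : spT m (bV p) c ∈ Bsp m F ⊔ Nsp m F := by
  by_cases h : rk p < rk p.swap
  · apply Subgroup.mem_sup_left
    intro z y hzy
    rw [spT_bV_apply, if_neg (fun e => by rw [e] at hzy; exact lt_irrefl _ hzy), zero_add]
    by_cases h1 : y = p.swap
    · by_cases h2 : z = p
      · rw [h1, h2] at hzy
        omega
      · rw [if_neg h2, mul_zero]
    · rw [if_neg h1, mul_zero, zero_mul]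
  · apply low_mem_sup
    rw [isLow_iff]
    intro z y hzy
    rw [spT_bV_apply, if_neg (fun e => by rw [e] at hzy; exact lt_irrefl _ hzy), zero_add]
    by_cases h1 : y = p.swap
    · by_cases h2 : z = p
      · rw [h1, h2] at hzy
        omega
      · rw [if_neg h2, mul_zero]
    · rw [if_neg h1, mul_zero, zero_mul]

/-- a lower triangular symplectic matrix with prescribed first column -/
theorem exists_low (a₀ : Fin m ⊕ Fin m) (h0 : rk a₀ = 0) (v : Fin m ⊕ Fin m → F) (hv : v a₀ = 1) :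
    ∃ g : ↥(Matrix.symplecticGroup (Fin m) F), IsLow g.1 ∧ g.1 *ᵥ bV a₀ = v := by
  set f₀ := a₀.swap with hf₀
  have hf₀s : f₀.swap = a₀ := by rw [hf₀, Sum.swap_swap]
  have hne : a₀ ≠ f₀ := (swap_ne a₀).symm
  have hrf : ∀ z : Fin m ⊕ Fin m, rk z ≤ rk f₀ := by
    intro z
    have h1 := rk_add_swap a₀
    rw [← hf₀] at h1
    have h2 := rk_lt z
    omega
  set w : Fin m ⊕ Fin m → F := v - bV a₀ - v f₀ • bV f₀ with hw
  have hwa : w a₀ = 0 := by
    rw [hw]
    simp [bV_apply, hne, hv]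
  have hwf : w f₀ = 0 := by
    rw [hw]
    simp [bV_apply, hne.symm]
  have horth : Cfsg.sympForm m F (bV f₀ : Fin m ⊕ Fin m → F) w = 0 := by
    rw [sympForm_bV_left, hf₀s, hwa, mul_zero, neg_zero]
  have e := eps_mul_self (F := F) f₀
  have s1 : (sR (bV f₀) w (eps f₀ : F)).1 *ᵥ bV a₀ = bV a₀ + w := by
    rw [sR_mulVec horth, sympForm_bV_bV, hf₀s, if_pos rfl, sympForm_bV_left, ← hf₀, hwf, mul_zero,
      neg_zero, zero_smul, add_zero, smul_smul, e, one_smul]
  have s2 : (spT m (bV f₀) (eps f₀ * v f₀)).1 *ᵥ (bV a₀ + w) = v := by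
    rw [spT_mulVec, sympForm_bV_right, hf₀s, Pi.add_apply, hwa, bV_apply, if_pos rfl, add_zero,
      mul_one, hw]
    have : eps f₀ * v f₀ * eps f₀ = v f₀ := by linear_combination (v f₀) * e
    rw [this]
    abel
  refine ⟨spT m (bV f₀) (eps f₀ * v f₀) * sR (bV f₀) w (eps f₀ : F), ?_, ?_⟩
  · rw [coe_mul']
    apply Matrix.BlockTriangular.mul
    · rw [← IsLow, isLow_iff]
      intro z y hzy
      rw [spT_bV_apply, if_neg (fun e => by rw [e] at hzy; exact lt_irrefl _ hzy), zero_add]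
      have h2 : z ≠ f₀ := by
        intro e
        rw [e] at hzy
        exact absurd (hrf y) (not_le.2 hzy)
      rw [if_neg h2, mul_zero]
    · rw [← IsLow, isLow_iff]
      intro z y hzy
      rw [← mulVec_bV (sR (bV f₀) w (eps f₀ : F)).1 y z, sR_mulVec horth, sympForm_bV_bV, hf₀s]
      have h1 : z ≠ y := fun e => by rw [e] at hzy; exact lt_irrefl _ hzy
      have h2 : z ≠ f₀ := by
        intro e
        rw [e] at hzy
        exact absurd (hrf y) (not_le.2 hzy)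
      have h3 : y ≠ a₀ := by
        intro e
        rw [e, h0] at hzy
        exact Nat.not_lt_zero _ hzy
      simp only [Pi.add_apply, Pi.smul_apply, bV_apply, smul_eq_mul]
      rw [if_neg h1, if_neg h3, if_neg h2]
      ring
  · rw [sp_mul_mulVec, s1, s2]

theorem mono_mulVec_apply {A : Matrix (Fin m ⊕ Fin m) (Fin m ⊕ Fin m) F}
    {ρ : Equiv.Perm (Fin m ⊕ Fin m)} (hA : IsMono A ρ) (v : Fin m ⊕ Fin m → F)
    (x : Fin m ⊕ Fin m) : (A *ᵥ v) x = A x (ρ.symm x) * v (ρ.symm x) := by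
  show ∑ y, A x y * v y = _
  apply Finset.sum_eq_single (ρ.symm x)
  · intro z _ hz
    have : A x z = 0 := by
      by_contra h
      have := hA x z h
      apply hz
      rw [this, Equiv.symm_apply_apply]
    rw [this, zero_mul]
  · intro h
    exact absurd (Finset.mem_univ _) h

/-- the group generated by `Bsp` and `Nsp` is transitive on lines -/
theorem exists_map_bV (a₀ : Fin m ⊕ Fin m) (h0 : rk a₀ = 0) (v : Fin m ⊕ Fin m → F)
    (hv : v ≠ 0) : ∃ h ∈ Bsp m F ⊔ Nsp m F, ∃ μ : F, μ ≠ 0 ∧ h.1 *ᵥ bV a₀ = μ • v := by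
  obtain ⟨x, hx⟩ := Function.ne_iff.mp hv
  rw [Pi.zero_apply] at hx
  by_cases hxa : a₀ = x
  · rw [← hxa] at hx
    obtain ⟨g, hg, e⟩ := exists_low a₀ h0 ((v a₀)⁻¹ • v) (by
      rw [Pi.smul_apply, smul_eq_mul, inv_mul_cancel₀ hx])
    exact ⟨g, low_mem_sup g hg, (v a₀)⁻¹, inv_ne_zero hx, e⟩
  · set ν : ↥(Matrix.symplecticGroup (Fin m) F) := monoSp (tauP a₀ x hxa) (SwC_tauP hxa) with hν
    have hνm : IsMono ν.1 (tauP a₀ x hxa) := isMono_monoSp _ _
    have hv2 : (ν.1 *ᵥ v) a₀ ≠ 0 := by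
      rw [mono_mulVec_apply hνm, tauP_symm_apply, tauF_left]
      apply mul_ne_zero _ hx
      have := mono_pivot_ne_zero ν hνm x
      rwa [tauP_apply, tauF_right hxa] at this
    obtain ⟨g, hg, e⟩ := exists_low a₀ h0 (((ν.1 *ᵥ v) a₀)⁻¹ • (ν.1 *ᵥ v)) (by
      rw [Pi.smul_apply, smul_eq_mul, inv_mul_cancel₀ hv2])
    refine ⟨ν⁻¹ * g, ?_, ((ν.1 *ᵥ v) a₀)⁻¹, inv_ne_zero hv2, ?_⟩
    · exact Subgroup.mul_mem _ (Subgroup.inv_mem _ (Subgroup.mem_sup_right (monoSp_mem_Nsp _ _)))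
        (low_mem_sup g hg)
    · rw [sp_mul_mulVec, e, Matrix.mulVec_smul, sp_inv_mulVec]

theorem spT_zero_left (c : F) : spT m (0 : Fin m ⊕ Fin m → F) c = 1 := by
  apply sp_ext
  intro x
  rw [spT_mulVec, sp_one_mulVec, smul_zero, add_zero]

theorem Bsp_sup_Nsp (hm : 0 < m) : Bsp m F ⊔ Nsp m F = ⊤ := by
  rw [eq_top_iff, ← Cfsg.Agent.S0765.result m, Subgroup.closure_le]
  rintro A ⟨w, c, hA⟩
  have hA' : A = spT m w c := Subtype.ext hA
  rw [hA']
  by_cases hw : w = 0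
  · rw [hw, spT_zero_left]
    exact Subgroup.one_mem _
  · have h0 : rk (Sum.inl ⟨0, hm⟩ : Fin m ⊕ Fin m) = 0 := rfl
    obtain ⟨h, hh, μ, hμ, e⟩ := exists_map_bV _ h0 w hw
    have key : spT m w c = h * spT m (bV (Sum.inl ⟨0, hm⟩)) ((μ⁻¹) ^ 2 * c) * h⁻¹ := by
      rw [spT_conj, e, spT_smul]
      congr 1
      field_simp
    rw [key]
    exact Subgroup.mul_mem _ (Subgroup.mul_mem _ hh (spT_bV_mem_sup _ _)) (Subgroup.inv_mem _ hh)

end Cfsg.Agent.Lib.helper14.SpBN
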