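import Mathlib
import Cfsg.Agent.Lib.helper14.SpBNh
import Cfsg.Agent.Lib.helper14.BNCells

/-!
The (B,N)-pair of the symplectic group, and the conditions needed for the Steinberg character.
-/

set_option autoImplicit false

namespace Cfsg.Agent.Lib.helper14.SpBN

open Matrix Cfsg.Agent.Lib.helper6 Cfsg.Agent.Lib.Helper26 Cfsg.Agent.Lib.Helper16.SPA
open Cfsg.Agent.Lib.helper3

universe u
variable {F : Type u} [Field F] {m : ℕ}

theorem conj_torus_mem (n t : ↥(Matrix.symplecticGroup (Fin m) F)) (hn : n ∈ Nsp m F)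
    (ht : t ∈ Bsp m F ⊓ Nsp m F) : n * t * n⁻¹ ∈ Bsp m F := by
  obtain ⟨π, hπ, hnm⟩ := hn
  have ht' := (mem_Tsp_iff t).1 ht
  apply up_of_isMono_one
  have := isMono_mul (isMono_mul hnm ht') (isMono_inv n hπ hnm)
  rw [mul_one, mul_inv_cancel] at this
  rw [coe_mul', coe_mul']
  exact this

theorem sRef_injective_mod (k k' : Fin m)
    (h : (sRef (F := F) k)⁻¹ * sRef k' ∈ Bsp m F) : k = k' := by
  have hmono : IsMono ((sRef (F := F) k)⁻¹ * sRef k').1 (tauS k * tauS k') := by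
    rw [coe_mul']
    exact isMono_mul (isMono_sRef_inv k) (isMono_sRef k')
  have h1 := isMono_one_of_up _ h hmono
  have h2 : tauS k' = tauS k := by
    have : tauS k * (tauS k * tauS k') = tauS k * 1 := by rw [h1]
    rw [← mul_assoc, tauS_mul_self, one_mul, mul_one] at this
    exact this
  have h3 : rks k' (tauS k' (pa k)) = rks k' (pa k) := rks_tauF k' (pa k)
  rw [h2, tauS_pa] at h3
  have hk := k.2
  have hk' := k'.2
  unfold rks at h3
  rw [rk_pa, rk_pc] at h3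
  apply Fin.ext
  split_ifs at h3 <;> omega

theorem sRef_conj_uRoot_not_mem (k : Fin m) :
    sRef (F := F) k * uRoot k 1 * (sRef k)⁻¹ ∉ Bsp m F := by
  intro h
  have h1 : rk (pa k) < rk (pc k) := by rw [rk_pa, rk_pc]; omega
  have h2 := h h1
  rw [coe_mul', coe_mul', sRef_conj_apply_ca, uRoot_apply_ac, mul_one] at h2
  exact mul_ne_zero (sRef_pivot k) (sRef_inv_pivot k) h2

theorem sRef_conj_ne (k : Fin m) :
    (fun b : ↥(Matrix.symplecticGroup (Fin m) F) => sRef k * b * sRef k) ''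
      (Bsp m F : Set ↥(Matrix.symplecticGroup (Fin m) F)) ≠
      (Bsp m F : Set ↥(Matrix.symplecticGroup (Fin m) F)) := by
  intro h
  have h1 : sRef (F := F) k * uRoot k 1 * sRef k ∈
      (Bsp m F : Set ↥(Matrix.symplecticGroup (Fin m) F)) := by
    rw [← h]
    exact ⟨uRoot k 1, uRoot_mem_Bsp k 1, rfl⟩
  apply sRef_conj_uRoot_not_mem (F := F) k
  have e : sRef (F := F) k * uRoot k 1 * (sRef k)⁻¹ =
      (sRef k * uRoot k 1 * sRef k) * (sRef k * sRef k)⁻¹ := by group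
  rw [e]
  exact (Bsp m F).mul_mem h1 ((Bsp m F).inv_mem (sRef_sq_mem_Bsp k))

theorem rk_neg_or_pos (k : Fin m) (π : Equiv.Perm (Fin m ⊕ Fin m)) :
    rk (π.symm (pa k)) < rk (π.symm (pc k)) ∨ rk (π.symm (pc k)) < rk (π.symm (pa k)) := by
  have hne : rk (π.symm (pc k)) ≠ rk (π.symm (pa k)) := by
    intro e
    exact pa_ne_pc k (π.symm.injective (rk_injective e)).symm
  omega

theorem sp_mul_mem_union (k : Fin m) (n : ↥(Matrix.symplecticGroup (Fin m) F))
    (hn : n ∈ Nsp m F) (b : ↥(Matrix.symplecticGroup (Fin m) F)) (hb : b ∈ Bsp m F) :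
    sRef k * b * n ∈ DoubleCoset.doubleCoset (sRef k * n)
        (Bsp m F : Set ↥(Matrix.symplecticGroup (Fin m) F)) (Bsp m F) ∪
      DoubleCoset.doubleCoset n (Bsp m F : Set ↥(Matrix.symplecticGroup (Fin m) F)) (Bsp m F) := by
  obtain ⟨π, hπ, hnm⟩ := hn
  rcases rk_neg_or_pos k π with hpos | hneg
  · left
    obtain ⟨b1, hb1, b2, hb2, e⟩ := bn_P1 k n hπ hnm hpos b hb
    exact DoubleCoset.mem_doubleCoset.2 ⟨b1, hb1, b2, hb2, e⟩
  · by_cases hac : b.1 (pa k) (pc k) = 0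
    · left
      refine DoubleCoset.mem_doubleCoset.2 ⟨sRef k * b * (sRef k)⁻¹, sRef_conj_mem k b hb hac, 1,
        (Bsp m F).one_mem, ?_⟩
      group
    · right
      obtain ⟨b1, hb1, b2, hb2, e⟩ := bn_caseB k n hπ hnm hneg b hb hac
      exact DoubleCoset.mem_doubleCoset.2 ⟨b1, hb1, b2, hb2, e⟩

/-- the (B,N)-pair of the symplectic group -/
def spBN (hm : 0 < m) : Cfsg.BNPair ↥(Matrix.symplecticGroup (Fin m) F) where
  B := Bsp m F
  N := Nsp m F
  S := Ssp m F
  sup_eq_top := Bsp_sup_Nsp hm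
  conj_mem := fun n hn t ht => conj_torus_mem n t hn ht
  subset := Ssp_subset_Nsp
  sq_mem := by
    rintro _ ⟨k, rfl⟩
    exact sRef_sq_mem_Bsp k
  inj := by
    rintro _ ⟨k, rfl⟩ _ ⟨k', rfl⟩ h
    show sRef k = sRef k'
    rw [sRef_injective_mod k k' h]
  closure_sup := closure_Ssp_sup
  mul_mem_union := by
    rintro _ ⟨k, rfl⟩ n hn b hb
    exact sp_mul_mem_union k n hn b hb
  conj_ne := by
    rintro _ ⟨k, rfl⟩
    exact sRef_conj_ne k

end Cfsg.Agent.Lib.helper14.SpBN
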