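import Mathlib
import Cfsg.Agent.Lib.helper14.SpBNi

/-!
Ascents and descents in the (B,N)-pair of `Sp`, and the longest element.
-/

set_option autoImplicit false

namespace Cfsg.Agent.Lib.helper14.SpBN

open Matrix Cfsg.Agent.Lib.helper6 Cfsg.Agent.Lib.Helper26 Cfsg.Agent.Lib.Helper16.SPA
open Cfsg.Agent.Lib.helper3 Cfsg.Agent.Lib.helper14

universe u
variable {F : Type u} [Field F] {m : ℕ}

theorem Pp_of_pos (hm : 0 < m) (k : Fin m) (n : ↥(Matrix.symplecticGroup (Fin m) F))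
    {π : Equiv.Perm (Fin m ⊕ Fin m)} (hπ : SwC π) (hnm : IsMono n.1 π)
    (hpos : rk (π.symm (pa k)) < rk (π.symm (pc k))) :
    Pp (spBN (F := F) hm) (sRef k) n := by
  intro b hb
  obtain ⟨b1, hb1, b2, hb2, e⟩ := bn_P1 k n hπ hnm hpos b hb
  exact mem_dc.2 ⟨b1, hb1, b2, hb2, e⟩

theorem not_Pp_of_neg (hm : 0 < m) (k : Fin m) (n : ↥(Matrix.symplecticGroup (Fin m) F))
    {π : Equiv.Perm (Fin m ⊕ Fin m)} (hπ : SwC π) (hnm : IsMono n.1 π)
    (hneg : rk (π.symm (pc k)) < rk (π.symm (pa k))) :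
    ¬ Pp (spBN (F := F) hm) (sRef k) n := by
  intro hP
  have h1 := hP (uRoot k 1) (uRoot_mem_Bsp k 1)
  have hac : (uRoot k (1 : F)).1 (pa k) (pc k) ≠ 0 := by
    rw [uRoot_apply_ac]
    exact one_ne_zero
  obtain ⟨b1, hb1, b2, hb2, e⟩ := bn_caseB k n hπ hnm hneg _ (uRoot_mem_Bsp k 1) hac
  have h2 : sRef k * uRoot k 1 * n ∈ dc (spBN (F := F) hm) n := mem_dc.2 ⟨b1, hb1, b2, hb2, e⟩
  have hs : sRef k ∈ (spBN (F := F) hm).S := sRef_mem_Ssp k
  have hn : n ∈ (spBN (F := F) hm).N := ⟨π, hπ, hnm⟩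
  exact dc_s_mul_ne hs hn ((dc_eq_of_mem h1).symm.trans (dc_eq_of_mem h2))

theorem swapPerm_mul_self : swapPerm m * swapPerm m = 1 := by
  ext x
  rw [Equiv.Perm.mul_apply, swapPerm_apply, swapPerm_apply, Sum.swap_swap, Equiv.Perm.one_apply]

theorem swapPerm_symm : (swapPerm m).symm = swapPerm m := Equiv.ext (fun _ => rfl)

theorem nLong_mem_N (hm : 0 < m) : nLong m F ∈ (spBN (F := F) hm).N := nLong_mem_Nsp

theorem nLong_h1 (hm : 0 < m) :
    ∀ s ∈ (spBN (F := F) hm).S, ¬ Pp (spBN (F := F) hm) s (nLong m F)⁻¹ := by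
  rintro _ ⟨k, rfl⟩
  apply not_Pp_of_neg hm k _ (SwC_inv SwC_swapPerm) (isMono_inv _ SwC_swapPerm isMono_nLong)
  show rk (pc k).swap < rk (pa k).swap
  rw [rk_swap_lt_iff, rk_pa, rk_pc]
  omega

theorem nLong_h1' (hm : 0 < m) :
    ∀ s ∈ (spBN (F := F) hm).S, ¬ Pp (spBN (F := F) hm) s (nLong m F) := by
  rintro _ ⟨k, rfl⟩
  apply not_Pp_of_neg hm k _ SwC_swapPerm isMono_nLong
  show rk (pc k).swap < rk (pa k).swap
  rw [rk_swap_lt_iff, rk_pa, rk_pc]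
  omega

theorem nLong_h2 (hm : 0 < m) :
    ∀ n ∈ (spBN (F := F) hm).N, (∀ s ∈ (spBN (F := F) hm).S, ¬ Pp (spBN (F := F) hm) s n) →
      LAsc (spBN (F := F) hm) (spBN (F := F) hm).S (n * nLong m F) := by
  rintro n ⟨π, hπ, hnm⟩ hnot
  have hall : ∀ k : Fin m, rk (π.symm (pc k)) < rk (π.symm (pa k)) := by
    intro k
    rcases rk_neg_or_pos k π with hpos | hneg
    · exact absurd (Pp_of_pos hm k n hπ hnm hpos) (hnot _ (sRef_mem_Ssp k))
    · exact hneg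
  have h1 : π.symm = swapPerm m := perm_eq_swap_of_simple π.symm (SwC_inv hπ) hall
  have h2 : π = swapPerm m := by
    have := congrArg Equiv.symm h1
    rw [Equiv.symm_symm, swapPerm_symm] at this
    exact this
  have hmono : IsMono (n * nLong m F).1 1 := by
    have := isMono_mul hnm (isMono_nLong (m := m) (F := F))
    rw [h2, swapPerm_mul_self] at this
    rw [coe_mul']
    exact this
  rintro _ ⟨k, rfl⟩
  apply Pp_of_pos hm k (n * nLong m F) SwC_one hmono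
  show rk (pa k) < rk (pc k)
  rw [rk_pa, rk_pc]
  omega

/-- enumeration of the simple reflections -/
def sigmaS (m : ℕ) (F : Type u) [Field F] (i : ℕ) : ↥(Matrix.symplecticGroup (Fin m) F) :=
  if h : i < m then sRef ⟨i, h⟩ else 1

theorem sigmaS_mem (hm : 0 < m) : ∀ i < m, sigmaS m F i ∈ (spBN (F := F) hm).S := by
  intro i hi
  unfold sigmaS
  rw [dif_pos hi]
  exact sRef_mem_Ssp _

theorem sigmaS_surj (hm : 0 < m) : ∀ s ∈ (spBN (F := F) hm).S, ∃ i < m, sigmaS m F i = s := by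
  rintro _ ⟨k, rfl⟩
  refine ⟨k.val, k.2, ?_⟩
  unfold sigmaS
  rw [dif_pos k.2]

end Cfsg.Agent.Lib.helper14.SpBN
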