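import Mathlib
import Cfsg.Agent.Lib.helper14.SpBNj

/-!
The unipotent radical of the upper triangular subgroup of `Sp`, its complement the torus, and the
order of the torus.
-/

set_option autoImplicit false

namespace Cfsg.Agent.Lib.helper14.SpBN

open Matrix Cfsg.Agent.Lib.helper6 Cfsg.Agent.Lib.Helper26 Cfsg.Agent.Lib.Helper16.SPA
open Cfsg.Agent.Lib.helper3 Cfsg.Agent.Lib.helper14

universe u
variable {F : Type u} [Field F] {m : ℕ}

/-- the upper unitriangular subgroup -/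
def Uup (m : ℕ) (F : Type u) [Field F] : Subgroup ↥(Matrix.symplecticGroup (Fin m) F) where
  carrier := {g | g ∈ Bsp m F ∧ ∀ x, g.1 x x = 1}
  mul_mem' := fun {a b} ha hb => ⟨(Bsp m F).mul_mem ha.1 hb.1, fun x => by
    rw [coe_mul', up_mul_diag ha.1 hb.1, ha.2, hb.2, mul_one]⟩
  one_mem' := ⟨(Bsp m F).one_mem, fun x => by rw [coe_one', Matrix.one_apply_eq]⟩
  inv_mem' := fun {g} hg => ⟨(Bsp m F).inv_mem hg.1, fun x => by
    have := up_diag_mul_inv g hg.1 x
    rw [hg.2, one_mul] at this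
    exact this⟩

theorem mem_Uup_iff (g : ↥(Matrix.symplecticGroup (Fin m) F)) :
    g ∈ Uup m F ↔ g ∈ Bsp m F ∧ ∀ x, g.1 x x = 1 := Iff.rfl

theorem Uup_le_Bsp : Uup m F ≤ Bsp m F := fun _ h => h.1

theorem uRoot_mem_Uup (k : Fin m) (t : F) : uRoot k t ∈ Uup m F := by
  refine ⟨uRoot_mem_Bsp k t, fun x => ?_⟩
  rw [uRoot_apply, if_pos rfl,
    if_neg (fun h : x = pa k ∧ x = pc k => pa_ne_pc k (h.1.symm.trans h.2)),
    if_neg (fun h : pc k ≠ (pa k).swap ∧ x = (pc k).swap ∧ x = (pa k).swap =>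
      swap_pc_ne_swap_pa k (h.2.1.symm.trans h.2.2)), add_zero, add_zero]

theorem Uup_conj_mem (b u : ↥(Matrix.symplecticGroup (Fin m) F)) (hb : b ∈ Bsp m F)
    (hu : u ∈ Uup m F) : b * u * b⁻¹ ∈ Uup m F := by
  have hbu : b * u ∈ Bsp m F := (Bsp m F).mul_mem hb hu.1
  refine ⟨(Bsp m F).mul_mem hbu ((Bsp m F).inv_mem hb), fun x => ?_⟩
  rw [coe_mul', up_mul_diag hbu ((Bsp m F).inv_mem hb), coe_mul', up_mul_diag hb hu.1, hu.2,
    mul_one, up_diag_mul_inv b hb]

theorem Uup_le_Usp [Fintype F] : Uup m F ≤ Usp m F := by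
  intro g hg
  rw [mem_Usp_iff]
  refine ⟨?_, ?_, ?_⟩
  · ext i j
    show g.1 (Sum.inr i) (Sum.inl j) = 0
    apply hg.1
    show j.val < 2 * m - 1 - i.val
    have := i.2
    have := j.2
    omega
  · intro i j hji
    exact hg.1 (show rk (Sum.inl j : Fin m ⊕ Fin m) < rk (Sum.inl i : Fin m ⊕ Fin m) from hji)
  · intro i
    exact hg.2 (Sum.inl i)

theorem Uup_isPGroup [Fintype F] (p : ℕ) [Fact p.Prime] [CharP F p] : IsPGroup p ↥(Uup m F) :=
  (Usp_isPGroup p).to_le Uup_le_Usp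

/-- the diagonal part of an upper triangular symplectic matrix -/
def diagSp (b : ↥(Matrix.symplecticGroup (Fin m) F)) (hb : b ∈ Bsp m F) :
    ↥(Matrix.symplecticGroup (Fin m) F) :=
  ⟨colMat (fun y => b.1 y y • bV y), by
    apply colMat_mem
    intro k l
    rw [sympForm_smul_left, sympForm_smul_right, sympForm_bV_bV]
    by_cases h : k = l.swap
    · rw [if_pos h, h]
      have := up_diag_swap b hb l
      linear_combination (eps l) * this
    · rw [if_neg h, mul_zero, mul_zero]⟩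

theorem diagSp_apply (b : ↥(Matrix.symplecticGroup (Fin m) F)) (hb : b ∈ Bsp m F)
    (x y : Fin m ⊕ Fin m) : (diagSp b hb).1 x y = if x = y then b.1 y y else 0 := by
  rw [← mulVec_bV (diagSp b hb).1 y x]
  show (colMat (fun y => b.1 y y • bV y) *ᵥ bV y) x = _
  rw [colMat_bV, Pi.smul_apply, bV_apply, smul_eq_mul, mul_ite, mul_one, mul_zero]

theorem isMono_diagSp (b : ↥(Matrix.symplecticGroup (Fin m) F)) (hb : b ∈ Bsp m F) :
    IsMono (diagSp b hb).1 1 := by
  intro x y h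
  rw [diagSp_apply] at h
  by_contra hxy
  rw [Equiv.Perm.one_apply] at hxy
  rw [if_neg hxy] at h
  exact h rfl

theorem diagSp_mem (b : ↥(Matrix.symplecticGroup (Fin m) F)) (hb : b ∈ Bsp m F) :
    diagSp b hb ∈ Bsp m F ⊓ Nsp m F := (mem_Tsp_iff _).2 (isMono_diagSp b hb)

theorem mul_diagSp_inv_mem (b : ↥(Matrix.symplecticGroup (Fin m) F)) (hb : b ∈ Bsp m F) :
    b * (diagSp b hb)⁻¹ ∈ Uup m F := by
  have hd : diagSp b hb ∈ Bsp m F := (diagSp_mem b hb).1
  refine ⟨(Bsp m F).mul_mem hb ((Bsp m F).inv_mem hd), fun x => ?_⟩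
  rw [coe_mul', up_mul_diag hb ((Bsp m F).inv_mem hd)]
  have h1 := up_diag_mul_inv (diagSp b hb) hd x
  rw [diagSp_apply, if_pos rfl] at h1
  exact h1

theorem eq_one_of_mem_Uup_of_mem_Tsp (g : ↥(Matrix.symplecticGroup (Fin m) F))
    (hU : g ∈ Uup m F) (hT : g ∈ Bsp m F ⊓ Nsp m F) : g = 1 := by
  have hmono := (mem_Tsp_iff g).1 hT
  apply Subtype.ext
  ext x y
  rw [coe_one', Matrix.one_apply]
  by_cases h : x = y
  · rw [if_pos h, h, hU.2]
  · rw [if_neg h]
    by_contra h0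
    exact h (hmono x y h0)

/-- `Uup` and the torus are complementary inside `Bsp` -/
theorem Uup_isComplement' :
    Subgroup.IsComplement' ((Uup m F).subgroupOf (Bsp m F))
      ((Bsp m F ⊓ Nsp m F).subgroupOf (Bsp m F)) := by
  apply Subgroup.isComplement'_of_disjoint_and_mul_eq_univ
  · rw [Subgroup.disjoint_def]
    intro x hxU hxT
    rw [Subgroup.mem_subgroupOf] at hxU hxT
    exact Subtype.ext (eq_one_of_mem_Uup_of_mem_Tsp _ hxU hxT)
  · rw [Set.eq_univ_iff_forall]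
    intro b
    have hd := diagSp_mem b.1 b.2
    refine Set.mem_mul.2 ⟨⟨b.1 * (diagSp b.1 b.2)⁻¹, (mul_diagSp_inv_mem b.1 b.2).1⟩, ?_,
      ⟨diagSp b.1 b.2, hd.1⟩, ?_, ?_⟩
    · show _ ∈ (Uup m F).subgroupOf (Bsp m F)
      rw [Subgroup.mem_subgroupOf]
      exact mul_diagSp_inv_mem b.1 b.2
    · show _ ∈ (Bsp m F ⊓ Nsp m F).subgroupOf (Bsp m F)
      rw [Subgroup.mem_subgroupOf]
      exact hd
    · apply Subtype.ext
      show b.1 * (diagSp b.1 b.2)⁻¹ * diagSp b.1 b.2 = b.1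
      group

/-- powers of a torus element -/
theorem torus_pow (t : ↥(Matrix.symplecticGroup (Fin m) F)) (ht : IsMono t.1 1) (k : ℕ) :
    IsMono (t ^ k).1 1 ∧ ∀ x, (t ^ k).1 x x = (t.1 x x) ^ k := by
  induction k with
  | zero =>
    rw [pow_zero]
    exact ⟨isMono_one, fun x => by rw [coe_one', Matrix.one_apply_eq, pow_zero]⟩
  | succ k ih =>
    rw [pow_succ]
    constructor
    · have := isMono_mul ih.1 ht
      rw [mul_one] at this
      rw [coe_mul']
      exact this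
    · intro x
      rw [coe_mul', up_mul_diag (up_of_isMono_one _ ih.1) (up_of_isMono_one _ ht), ih.2, pow_succ]

theorem torus_pow_card_sub_one [Fintype F] (t : ↥(Matrix.symplecticGroup (Fin m) F))
    (ht : t ∈ Bsp m F ⊓ Nsp m F) : t ^ (Fintype.card F - 1) = 1 := by
  have hmono := (mem_Tsp_iff t).1 ht
  obtain ⟨h1, h2⟩ := torus_pow t hmono (Fintype.card F - 1)
  apply Subtype.ext
  ext x y
  rw [coe_one', Matrix.one_apply]
  by_cases h : x = y
  · rw [if_pos h, h, h2, FiniteField.pow_card_sub_one_eq_one _ (up_diag_ne_zero t ht.1 y)]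
  · rw [if_neg h]
    by_contra h0
    exact h (h1 x y h0)

theorem torus_card_not_dvd [Fintype F] (p : ℕ) [Fact p.Prime] [CharP F p] :
    ¬ p ∣ Nat.card ((Bsp m F ⊓ Nsp m F).subgroupOf (Bsp m F)) := by
  intro hdvd
  have hp : p.Prime := Fact.out
  obtain ⟨x, hx⟩ := exists_prime_orderOf_dvd_card' p hdvd
  have hxT : (x : ↥(Bsp m F)).1 ∈ Bsp m F ⊓ Nsp m F := Subgroup.mem_subgroupOf.1 x.2
  have h1 : x ^ (Fintype.card F - 1) = 1 := by
    apply Subtype.ext
    apply Subtype.ext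
    have := torus_pow_card_sub_one _ hxT
    exact this
  have h2 : p ∣ Fintype.card F - 1 := by
    rw [← hx]
    exact orderOf_dvd_of_pow_eq_one h1
  obtain ⟨n, _, hn⟩ := FiniteField.card F p
  have h3 : p ∣ Fintype.card F := by
    rw [hn]
    exact dvd_pow_self p n.ne_zero
  have h4 : 1 ≤ Fintype.card F := Fintype.card_pos
  have h5 : p ∣ 1 := by
    have := Nat.dvd_sub h3 h2
    rwa [Nat.sub_sub_self h4] at this
  exact hp.one_lt.ne' (Nat.dvd_one.mp h5)

end Cfsg.Agent.Lib.helper14.SpBN
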