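import Mathlib
import Cfsg.Agent.Lib.helper14.SpBNk

/-!
The index of the upper triangular subgroup of `Sp` is prime to the characteristic, and the
`p`-part of the order of `Sp`.
-/

set_option autoImplicit false

namespace Cfsg.Agent.Lib.helper14.SpBN

open Matrix Cfsg.Agent.Lib.helper6 Cfsg.Agent.Lib.Helper26 Cfsg.Agent.Lib.Helper16.SPA
open Cfsg.Agent.Lib.helper3 Cfsg.Agent.Lib.helper14

universe u
variable {F : Type u} [Field F] {m : ℕ}

theorem conj_uRoot_not_mem (k : Fin m) (n : ↥(Matrix.symplecticGroup (Fin m) F))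
    {π : Equiv.Perm (Fin m ⊕ Fin m)} (hπ : SwC π) (hnm : IsMono n.1 π)
    (hneg : rk (π.symm (pc k)) < rk (π.symm (pa k))) :
    n⁻¹ * uRoot k 1 * n ∉ Bsp m F := by
  intro h
  have h1 := h hneg
  rw [coe_mul', coe_mul', mono_conj_apply n hπ hnm, Equiv.apply_symm_apply,
    Equiv.apply_symm_apply, uRoot_apply_ac, mul_one] at h1
  have h2 := mono_pivot_ne_zero n hnm (π.symm (pc k))
  rw [Equiv.apply_symm_apply] at h2
  have h3 := mono_pivot_mul_inv n hnm (π.symm (pa k))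
  rw [Equiv.apply_symm_apply] at h3
  have h4 : (n⁻¹).1 (π.symm (pa k)) (pa k) ≠ 0 := by
    intro h0
    rw [h0, zero_mul] at h3
    exact zero_ne_one h3
  exact mul_ne_zero h4 h2 h1

/-- a coset fixed by the whole unitriangular group is the trivial coset -/
theorem mem_Bsp_of_fixed (hm : 0 < m) (g : ↥(Matrix.symplecticGroup (Fin m) F))
    (h : ∀ u ∈ Uup m F, g⁻¹ * u * g ∈ Bsp m F) : g ∈ Bsp m F := by
  obtain ⟨n, hn, hg⟩ := bruhat (P := spBN (F := F) hm) g
  obtain ⟨b1, hb1, b2, hb2, rfl⟩ := mem_dc.1 hg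
  have hb1' : b1 ∈ Bsp m F := hb1
  have hb2' : b2 ∈ Bsp m F := hb2
  obtain ⟨π, hπ, hnm⟩ := hn
  have hall : ∀ k : Fin m, rk (π.symm (pa k)) < rk (π.symm (pc k)) := by
    intro k
    rcases rk_neg_or_pos k π with hpos | hneg
    · exact hpos
    · exfalso
      apply conj_uRoot_not_mem k n hπ hnm hneg
      have h1 := h (b1 * uRoot k 1 * b1⁻¹) (Uup_conj_mem b1 _ hb1' (uRoot_mem_Uup k 1))
      have e : n⁻¹ * uRoot k 1 * n =
          b2 * ((b1 * n * b2)⁻¹ * (b1 * uRoot k 1 * b1⁻¹) * (b1 * n * b2)) * b2⁻¹ := by group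
      rw [e]
      exact (Bsp m F).mul_mem ((Bsp m F).mul_mem hb2' h1) ((Bsp m F).inv_mem hb2')
  have h1 : π.symm = 1 := perm_eq_one_of_simple π.symm (SwC_inv hπ) hall
  have h2 : π = 1 := by
    have := congrArg Equiv.symm h1
    rwa [Equiv.symm_symm] at this
  rw [h2] at hnm
  exact (Bsp m F).mul_mem ((Bsp m F).mul_mem hb1' (up_of_isMono_one n hnm)) hb2'

theorem sub_smul_coe {G : Type*} [Group G] (U B : Subgroup G) (u : U) (g : G) :
    u • (g : G ⧸ B) = (((u : G) * g : G) : G ⧸ B) := rfl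

theorem index_Bsp_not_dvd [Fintype F] (hm : 0 < m) (p : ℕ) [Fact p.Prime] [CharP F p] :
    ¬ p ∣ (Bsp m F).index := by
  intro hdvd
  have hU := Uup_isPGroup (m := m) (F := F) p
  have ha : ((1 : ↥(Matrix.symplecticGroup (Fin m) F)) :
      ↥(Matrix.symplecticGroup (Fin m) F) ⧸ Bsp m F) ∈
      MulAction.fixedPoints ↥(Uup m F) (↥(Matrix.symplecticGroup (Fin m) F) ⧸ Bsp m F) := by
    intro u
    rw [sub_smul_coe, QuotientGroup.eq, mul_one, mul_one]
    exact (Bsp m F).inv_mem (Uup_le_Bsp u.2)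
  rw [Subgroup.index_eq_card] at hdvd
  obtain ⟨b, hb, hab⟩ := hU.exists_fixed_point_of_prime_dvd_card_of_fixed_point
    (↥(Matrix.symplecticGroup (Fin m) F) ⧸ Bsp m F) hdvd ha
  apply hab
  induction b using QuotientGroup.induction_on with
  | H g =>
    rw [QuotientGroup.eq, inv_one, one_mul]
    apply mem_Bsp_of_fixed hm
    intro u hu
    have h1 := hb ⟨u⁻¹, (Uup m F).inv_mem hu⟩
    rw [sub_smul_coe, QuotientGroup.eq] at h1
    have e : g⁻¹ * u * g = ((u⁻¹ : ↥(Matrix.symplecticGroup (Fin m) F)) * g)⁻¹ * g := by group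
    rw [e]
    exact h1

/-- the `p`-part of the order of `Sp` -/
theorem card_sp_ppart [Fintype F] (hm : 0 < m) (p : ℕ) [Fact p.Prime] [CharP F p] :
    ∃ a r : ℕ, Nat.card ((Uup m F).subgroupOf (Bsp m F)) = p ^ a ∧
      Nat.card ↥(Matrix.symplecticGroup (Fin m) F) = p ^ a * r ∧ ¬ p ∣ r := by
  have hp : p.Prime := Fact.out
  have hU' : IsPGroup p ↥((Uup m F).subgroupOf (Bsp m F)) :=
    (Uup_isPGroup (m := m) (F := F) p).comap_of_injective (Bsp m F).subtype
      Subtype.val_injective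
  obtain ⟨a, ha⟩ := IsPGroup.iff_card.1 hU'
  refine ⟨a, Nat.card ((Bsp m F ⊓ Nsp m F).subgroupOf (Bsp m F)) * (Bsp m F).index, ha, ?_, ?_⟩
  · rw [← ha, ← mul_assoc, (Uup_isComplement' (m := m) (F := F)).card_mul_card,
      Subgroup.card_mul_index]
  · intro h
    rcases (Nat.Prime.dvd_mul hp).1 h with h | h
    · exact torus_card_not_dvd p h
    · exact index_Bsp_not_dvd hm p h

end Cfsg.Agent.Lib.helper14.SpBN
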