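import Mathlib
import Cfsg.Agent.Lib.helper14.SpBNl
import Cfsg.Agent.S0246
import Cfsg.Prelude.Def_ParabolicCharacters

/-!
Remaining ingredients for the Steinberg character of `Sp`: the torus as the intersection of the
upper triangular group with its opposite, and central elements.
-/

set_option autoImplicit false

namespace Cfsg.Agent.Lib.helper14.SpBN

open Matrix Cfsg.Agent.Lib.helper6 Cfsg.Agent.Lib.Helper26 Cfsg.Agent.Lib.Helper16.SPA
open Cfsg.Agent.Lib.helper3 Cfsg.Agent.Lib.helper14

universe u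
variable {F : Type u} [Field F] {m : ℕ}

theorem nLong_conj_torus (h : ↥(Matrix.symplecticGroup (Fin m) F))
    (hh : h ∈ Bsp m F ⊓ Nsp m F) : (nLong m F)⁻¹ * h * nLong m F ∈ Bsp m F := by
  have := conj_torus_mem (nLong m F)⁻¹ h ((Nsp m F).inv_mem nLong_mem_Nsp) hh
  rwa [inv_inv] at this

theorem mem_torus_of_nLong_conj (β : ↥(Matrix.symplecticGroup (Fin m) F)) (hβ : β ∈ Bsp m F)
    (hc : (nLong m F)⁻¹ * β * nLong m F ∈ Bsp m F) : β ∈ Bsp m F ⊓ Nsp m F := by
  rw [mem_Tsp_iff]
  intro x y hxy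
  rw [Equiv.Perm.one_apply]
  by_contra hne
  have h1 : rk x < rk y := by
    rcases lt_or_gt_of_ne (fun e => hne (rk_injective e)) with h | h
    · exact h
    · exact absurd (hβ h) hxy
  have h2 := hc ((rk_swap_lt_iff y x).2 h1)
  rw [coe_mul', coe_mul', mono_conj_apply _ SwC_swapPerm isMono_nLong, swapPerm_apply,
    swapPerm_apply, Sum.swap_swap, Sum.swap_swap] at h2
  have h3 := mono_pivot_ne_zero (nLong m F) isMono_nLong y.swap
  rw [swapPerm_apply, Sum.swap_swap] at h3
  have h4 := mono_pivot_mul_inv (nLong m F) isMono_nLong x.swap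
  rw [swapPerm_apply, Sum.swap_swap] at h4
  have h5 : ((nLong m F)⁻¹).1 x.swap x ≠ 0 := by
    intro h0
    rw [h0, zero_mul] at h4
    exact zero_ne_one h4
  exact mul_ne_zero (mul_ne_zero h5 hxy) h3 h2

theorem center_le_Bsp : Subgroup.center ↥(Matrix.symplecticGroup (Fin m) F) ≤ Bsp m F := by
  intro z hz
  obtain ⟨l, hl⟩ := Cfsg.Agent.S0246.central_scalar z hz
  intro x y hxy
  have hne : x ≠ y := fun e => by rw [e] at hxy; exact lt_irrefl _ hxy
  show (z : Matrix (Fin m ⊕ Fin m) (Fin m ⊕ Fin m) F) x y = 0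
  rw [hl, Matrix.smul_apply, Matrix.one_apply_ne hne, smul_zero]

theorem fpc_central' {G : Type*} [Group G] (H : Subgroup G) (z : G) (hz : z ∈ Subgroup.center G)
    (hzH : z ∈ H) : Cfsg.fixedPointCharacter H z = Cfsg.fixedPointCharacter H 1 := by
  unfold Cfsg.fixedPointCharacter
  congr 1
  have h1 : MulAction.fixedBy (G ⧸ H) z = Set.univ := by
    ext x
    simp only [MulAction.mem_fixedBy, Set.mem_univ, iff_true]
    induction x using QuotientGroup.induction_on with
    | H a =>
      rw [MulAction.Quotient.smul_coe, smul_eq_mul, QuotientGroup.eq]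
      have : (z * a)⁻¹ * a = z⁻¹ := by
        have hc : a * z = z * a := (Subgroup.mem_center_iff.mp hz a)
        rw [← hc]
        group
      rw [this]
      exact H.inv_mem hzH
  have h2 : MulAction.fixedBy (G ⧸ H) (1 : G) = Set.univ := by
    ext x
    simp
  rw [h1, h2]

end Cfsg.Agent.Lib.helper14.SpBN
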