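import Mathlib
import Cfsg.Agent.Lib.helper7.CED.Defs
import Cfsg.Agent.Lib.Helper24.STCI1
import Cfsg.Agent.Lib.Helper22.STCF1

/-! Project CED (designer helper7; S2096 + S2097), rows T3 (`t3r_milnor`, `t3c_milnor`) and T4 (`t4_milnor`), by helper14. -/

set_option autoImplicit false

namespace Cfsg.Agent.Lib.helper7.CED

open Cfsg.Agent.Lib.helper15.St2 Cfsg.Agent.Lib.helper7.Ce Cfsg.Agent.Lib.helper3.STC Cfsg.Agent.Lib.Lead.STD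
  Cfsg.Agent.Lib.helper7.CEC

section T

variable {K : Type*} [Field K] {ι : Type*} {Γ G : Type*} [Group Γ] [Group G] {S : SysD K ι G} {σ : Γ →* G}

theorem cedt3_unpack {a b : ι ⊕ ι} (h : ab a ≠ ab b) : a ≠ b ∧ a ≠ ng b ∧ b ≠ a ∧ b ≠ ng a := by
  refine ⟨?_, ?_, ?_, ?_⟩
  · intro e; exact h (by rw [e])
  · intro e; exact h (ab_eq_iff.2 (Or.inr e))
  · intro e; exact h (by rw [e])
  · intro e; exact h (ab_eq_iff.2 (Or.inr (ng_eq_iff.1 e.symm)))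

/-- Milnor's trick through an auxiliary index `e` -/
theorem cedt3_step (h : IsCE σ) (a b e : ι ⊕ ι) (hab : ab a ≠ ab b) (hea : ab e ≠ ab a) (heb : ab e ≠ ab b)
    (w : G) (t : K) (h1 : S.x a e t * w = w * S.x a e t) (h2 : S.x e b 1 * w = w * S.x e b 1) :
    CL σ (S.x a b t) w := by
  obtain ⟨hab1, hab2, -, -⟩ := cedt3_unpack hab
  obtain ⟨hea1, hea2, hae1, hae2⟩ := cedt3_unpack hea
  obtain ⟨heb1, heb2, -, -⟩ := cedt3_unpack heb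
  have e1 : S.x a b t = cm (S.x a e t) (S.x e b 1) := by
    have := S.comm3 a e b hae1 hae2 heb1 heb2 hab1 hab2 t 1
    rw [mul_one] at this
    rw [← this]
    rfl
  rw [e1]
  exact h.milnor h1 h2

/-- T3 -/
theorem t3r_milnor (h : IsCE σ) (h4 : I4 ι) :
    ∀ a b d : ι ⊕ ι, ab a ≠ ab b → ab a ≠ ab d → ab b ≠ ab d → ∀ t u : K, CL σ (S.x a b t) (S.x a d u) := by
  intro a b d hab had hbd t u
  obtain ⟨e, hea, heb, hed⟩ := h4 a b d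
  obtain ⟨hab1, hab2, hba1, hba2⟩ := cedt3_unpack hab
  obtain ⟨had1, had2, hda1, hda2⟩ := cedt3_unpack had
  obtain ⟨hbd1, hbd2, hdb1, hdb2⟩ := cedt3_unpack hbd
  obtain ⟨hea1, hea2, hae1, hae2⟩ := cedt3_unpack hea
  obtain ⟨heb1, heb2, hbe1, hbe2⟩ := cedt3_unpack heb
  obtain ⟨hed1, hed2, hde1, hde2⟩ := cedt3_unpack hed
  apply cedt3_step h a b e hab hea heb
  · exact S.comm a e a d hae1 hae2 had1 had2 hea1 had1 hed2 (ne_ng a) t u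
  · exact S.comm e b a d heb1 heb2 had1 had2 hba1 hed1 hbd2 hea2 1 u

theorem t3c_milnor (h : IsCE σ) (h4 : I4 ι) :
    ∀ a b c : ι ⊕ ι, ab a ≠ ab b → ab c ≠ ab b → ab a ≠ ab c → ∀ t u : K, CL σ (S.x a b t) (S.x c b u) := by
  intro a b c hab hcb hac t u
  obtain ⟨e, hea, heb, hec⟩ := h4 a b c
  obtain ⟨hab1, hab2, hba1, hba2⟩ := cedt3_unpack hab
  obtain ⟨hcb1, hcb2, hbc1, hbc2⟩ := cedt3_unpack hcb
  obtain ⟨hac1, hac2, hca1, hca2⟩ := cedt3_unpack hac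
  obtain ⟨hea1, hea2, hae1, hae2⟩ := cedt3_unpack hea
  obtain ⟨heb1, heb2, hbe1, hbe2⟩ := cedt3_unpack heb
  obtain ⟨hec1, hec2, hce1, hce2⟩ := cedt3_unpack hec
  apply cedt3_step h a b e hab hea heb
  · exact S.comm a e c b hae1 hae2 hcb1 hcb2 hec1 hab1 heb2 hac2 t u
  · exact S.comm e b c b heb1 heb2 hcb1 hcb2 hbc1 heb1 (ne_ng b) hec2 1 u

/-- T4 -/
theorem t4_milnor (h : IsCE σ) (h5 : I5 ι) :
    ∀ a b c d : ι ⊕ ι, ab a ≠ ab b → ab c ≠ ab d → ab a ≠ ab c → ab a ≠ ab d → ab b ≠ ab c → ab b ≠ ab d →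
      ∀ t u : K, CL σ (S.x a b t) (S.x c d u) := by
  intro a b c d hab hcd hac had hbc hbd t u
  obtain ⟨e, hea, heb, hec, hed⟩ := h5 a b c d
  obtain ⟨hab1, hab2, hba1, hba2⟩ := cedt3_unpack hab
  obtain ⟨hcd1, hcd2, hdc1, hdc2⟩ := cedt3_unpack hcd
  obtain ⟨hac1, hac2, hca1, hca2⟩ := cedt3_unpack hac
  obtain ⟨had1, had2, hda1, hda2⟩ := cedt3_unpack had
  obtain ⟨hbc1, hbc2, hcb1, hcb2⟩ := cedt3_unpack hbc
  obtain ⟨hbd1, hbd2, hdb1, hdb2⟩ := cedt3_unpack hbd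
  obtain ⟨hea1, hea2, hae1, hae2⟩ := cedt3_unpack hea
  obtain ⟨heb1, heb2, hbe1, hbe2⟩ := cedt3_unpack heb
  obtain ⟨hec1, hec2, hce1, hce2⟩ := cedt3_unpack hec
  obtain ⟨hed1, hed2, hde1, hde2⟩ := cedt3_unpack hed
  apply cedt3_step h a b e hab hea heb
  · exact S.comm a e c d hae1 hae2 hcd1 hcd2 hec1 had1 hed2 hac2 t u
  · exact S.comm e b c d heb1 heb2 hcd1 hcd2 hbc1 hed1 hbd2 hec2 1 u

end T

end Cfsg.Agent.Lib.helper7.CED
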