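import Mathlib
import Cfsg.Prelude.Def_ChevStructure
import Cfsg.Agent.Lib.helper14.INV.Defs
import Cfsg.Agent.Lib.helper8.ChevCox2
import Cfsg.Agent.Lib.helper8.ChevWeyl2

/-!
# Project INV: the Weyl group elements `w` of the maximal cells (generic structure)

For an involution `w` of the Weyl group fixing or making negative every fundamental root, with `J` the
set of the fixed fundamental roots:

* `gt_fix`: `w` fixes every root of `Φ_J`;
* `gt_struct`: a positive root mapped to a positive root lies in `Φ_J`;
* `gt_unique`: a Weyl group element is determined by its set of inversions.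
-/

set_option autoImplicit false

namespace Cfsg.Agent.Lib.helper14.INV

open Cfsg.Lie Cfsg.Lie.ChevalleyDatum Cfsg.Agent.Lib.helper8 Cfsg.Agent.Lib.helper14

/-- a Weyl group element is determined by its set of inversions -/
theorem gt_unique (D : ChevalleyDatum) (hB : H8Base.{0} D) (hA : H8ReflAll D) (hBN : H8BN D)
    (hW : H8BN2 D) (hO2 : H8Ord2 D) (w w' : List ℕ) (hw : ValidW D w) (hw' : ValidW D w')
    (hN : ∀ r, D.IsPosRoot r → (D.IsPosRoot (h8sW D w r) ↔ D.IsPosRoot (h8sW D w' r))) :
    ∀ r < D.nroots, h8sW D w r = h8sW D w' r := by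
  set π := h8wPerm D hA w with hπ
  set π' := h8wPerm D hA w' with hπ'
  have hπW : π ∈ h8W D hA := (h8W_mem_iff D hA π).mpr ⟨w, hw, rfl⟩
  have hπ'W : π' ∈ h8W D hA := (h8W_mem_iff D hA π').mpr ⟨w', hw', rfl⟩
  have hvW : π' * π⁻¹ ∈ h8W D hA := Subgroup.mul_mem _ hπ'W (Subgroup.inv_mem _ hπW)
  have hN' : ∀ t : Fin D.nroots, D.IsPosRoot t.val →
      (D.IsPosRoot (π t).val ↔ D.IsPosRoot (π' t).val) := by
    intro t ht
    rw [hπ, hπ', h8wPerm_val D hA w hw t, h8wPerm_val D hA w' hw' t]
    exact hN t.val ht
  have h0 : h8Ninv D (π' * π⁻¹) = 0 := by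
    unfold h8Ninv
    rw [Finset.card_eq_zero, Finset.filter_eq_empty_iff]
    rintro s - ⟨hs, hns⟩
    apply hns
    set t := π⁻¹ s with ht
    have hts : π t = s := by rw [ht]; simp
    show D.IsPosRoot (π' (π⁻¹ s)).val
    rw [← ht]
    by_cases htp : D.IsPosRoot t.val
    · exact (hN' t htp).mp (by rw [hts]; exact hs)
    · have htn : D.IsPosRoot (h8negF D hW t).val := (h8negF_pos D hB hBN hW hO2 t).mpr htp
      have h1 : ¬ D.IsPosRoot (π (h8negF D hW t)).val := by
        rw [h8W_negc D hA hW π hπW t, hts, h8negF_pos D hB hBN hW hO2 s]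
        exact fun h => h hs
      have h2 : ¬ D.IsPosRoot (π' (h8negF D hW t)).val := fun h => h1 ((hN' _ htn).mpr h)
      rw [h8W_negc D hA hW π' hπ'W t, h8negF_pos D hB hBN hW hO2] at h2
      exact not_not.mp h2
  have h1 := h8W_inv_zero D hB hA hBN hW hO2 _ hvW h0
  have h2 : π' = π := by
    have := mul_inv_eq_one.mp h1
    exact this
  intro r hr
  have h3 : (π' ⟨r, hr⟩).val = (π ⟨r, hr⟩).val := by rw [h2]
  rw [hπ, hπ', h8wPerm_val D hA w hw, h8wPerm_val D hA w' hw'] at h3
  exact h3.symm

/-- the `k`-th coordinate of the coroot of `r` -/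
def cf (D : ChevalleyDatum) (r k : ℕ) : ℤ := (D.coroot.getD r #[]).getD k 0

/-- the Cartan integer `⟨p_i, p_m^∨⟩`, read off the action of the `i`-th reflection -/
def gtA (D : ChevalleyDatum) (i m : ℕ) : ℤ :=
  cf D (D.simple m) i - cf D (D.reflectRoot i (D.simple m)) i

/-- the checkable properties of the coordinates: the fundamental reflections act linearly, the
fundamental roots are the unit vectors, a root is determined by its coordinates, the coordinate vectors
have length `rank` -/
def gtChk (D : ChevalleyDatum) : Bool :=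
  ((List.range D.nroots).all fun r => (List.range D.rank).all fun i => (List.range D.rank).all fun k =>
    decide (cf D (D.reflectRoot i r) k = cf D r k -
      (if k = i then ((List.range D.rank).map fun m => cf D r m * gtA D i m).sum else 0))) &&
  ((List.range D.rank).all fun k => decide (D.simple k < D.nroots) &&
    (List.range D.rank).all fun m => decide (cf D (D.simple k) m = if m = k then 1 else 0)) &&
  ((List.range D.nroots).all fun r => (List.range D.nroots).all fun s =>
    r == s || (List.range D.rank).any fun k => decide (cf D r k ≠ cf D s k)) &&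
  ((List.range D.nroots).all fun r => decide ((D.coroot.getD r #[]).size = D.rank))

theorem gt_list_sum (n : ℕ) (f : ℕ → ℤ) :
    ((List.range n).map f).sum = ∑ m ∈ Finset.range n, f m := by
  induction n with
  | zero => simp
  | succ n ih => rw [List.range_succ, List.map_append, List.sum_append, ih, Finset.sum_range_succ]; simp

theorem gtChk_lin (D : ChevalleyDatum) (h : gtChk D = true) (r i k : ℕ) (hr : r < D.nroots)
    (hi : i < D.rank) (hk : k < D.rank) :
    cf D (D.reflectRoot i r) k = cf D r k -
      (if k = i then ∑ m ∈ Finset.range D.rank, cf D r m * gtA D i m else 0) := by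
  unfold gtChk at h
  simp only [Bool.and_eq_true, List.all_eq_true, List.mem_range, decide_eq_true_eq] at h
  rw [← gt_list_sum]
  exact h.1.1.1 r hr i hi k hk

theorem gtChk_simple (D : ChevalleyDatum) (h : gtChk D = true) (k m : ℕ) (hk : k < D.rank)
    (hm : m < D.rank) : cf D (D.simple k) m = if m = k then 1 else 0 := by
  unfold gtChk at h
  simp only [Bool.and_eq_true, List.all_eq_true, List.mem_range, decide_eq_true_eq] at h
  exact (h.1.1.2 k hk).2 m hm

theorem gtChk_inj (D : ChevalleyDatum) (h : gtChk D = true) (r s : ℕ) (hr : r < D.nroots)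
    (hs : s < D.nroots) (he : ∀ k < D.rank, cf D r k = cf D s k) : r = s := by
  unfold gtChk at h
  simp only [Bool.and_eq_true, List.all_eq_true, List.mem_range, decide_eq_true_eq,
    Bool.or_eq_true, beq_iff_eq, List.any_eq_true] at h
  rcases h.1.2 r hr s hs with h1 | ⟨k, hk, hne⟩
  · exact h1
  · exact absurd (he k hk) hne

theorem gtChk_size (D : ChevalleyDatum) (h : gtChk D = true) (r : ℕ) (hr : r < D.nroots) :
    (D.coroot.getD r #[]).size = D.rank := by
  unfold gtChk at h
  simp only [Bool.and_eq_true, List.all_eq_true, List.mem_range, decide_eq_true_eq] at h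
  exact h.2 r hr

theorem gt_pos_cf (D : ChevalleyDatum) (r : ℕ) (hr : D.IsPosRoot r) (k : ℕ) : 0 ≤ cf D r k := by
  unfold cf
  by_cases hk : k < (D.coroot.getD r #[]).size
  · rw [Array.getD_eq_getD_getElem?, Array.getElem?_eq_getElem hk]
    exact hr.2 _ (by simp)
  · rw [Array.getD_eq_getD_getElem?, Array.getElem?_eq_none (by omega)]
    simp

theorem gt_neg_cf (D : ChevalleyDatum) (r : ℕ) (hr : D.IsNegRoot r) (k : ℕ) : cf D r k ≤ 0 := by
  unfold cf
  by_cases hk : k < (D.coroot.getD r #[]).size
  · rw [Array.getD_eq_getD_getElem?, Array.getElem?_eq_getElem hk]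
    exact hr.2 _ (by simp)
  · rw [Array.getD_eq_getD_getElem?, Array.getElem?_eq_none (by omega)]
    simp

theorem gt_sW_cons (D : ChevalleyDatum) (i : ℕ) (w : List ℕ) (s : ℕ) :
    h8sW D (i :: w) s = D.reflectRoot i (h8sW D w s) := rfl

/-- the action of a word on the coordinates is linear -/
theorem gt_lin (D : ChevalleyDatum) (hA : H8ReflAll D) (h : gtChk D = true) (w : List ℕ)
    (hw : ValidW D w) (r : ℕ) (hr : r < D.nroots) (k : ℕ) (hk : k < D.rank) :
    cf D (h8sW D w r) k =
      ∑ m ∈ Finset.range D.rank, cf D r m * cf D (h8sW D w (D.simple m)) k := by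
  induction w generalizing k with
  | nil =>
    show cf D r k = ∑ m ∈ Finset.range D.rank, cf D r m * cf D (D.simple m) k
    rw [Finset.sum_eq_single k]
    · rw [gtChk_simple D h k k hk hk, if_pos rfl, mul_one]
    · intro m hm hmk
      rw [gtChk_simple D h m k (Finset.mem_range.mp hm) hk, if_neg (fun e => hmk e.symm), mul_zero]
    · intro hk'
      exact absurd (Finset.mem_range.mpr hk) hk'
  | cons i w ih =>
    have hw' : ValidW D w := fun j hj => hw j (List.mem_cons_of_mem _ hj)
    have hi : i < D.rank := hw i List.mem_cons_self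
    have hlt : ∀ s < D.nroots, h8sW D w s < D.nroots := fun s hs => h8sW_lt D hA w hw' s hs
    have hsim : ∀ m < D.rank, D.simple m < D.nroots := by
      intro m hm
      unfold gtChk at h
      simp only [Bool.and_eq_true, List.all_eq_true, List.mem_range, decide_eq_true_eq] at h
      exact (h.1.1.2 m hm).1
    simp only [gt_sW_cons]
    rw [gtChk_lin D h _ i k (hlt r hr) hi hk]
    have e1 : ∀ m ∈ Finset.range D.rank,
        cf D r m * cf D (D.reflectRoot i (h8sW D w (D.simple m))) k =
        cf D r m * cf D (h8sW D w (D.simple m)) k - cf D r m *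
          (if k = i then ∑ n ∈ Finset.range D.rank, cf D (h8sW D w (D.simple m)) n * gtA D i n
            else 0) := by
      intro m hm
      rw [gtChk_lin D h _ i k (hlt _ (hsim m (Finset.mem_range.mp hm))) hi hk, mul_sub]
    rw [Finset.sum_congr rfl e1, Finset.sum_sub_distrib, ← ih hw' k hk]
    congr 1
    by_cases hki : k = i
    · rw [if_pos hki]
      simp only [if_pos hki]
      have e2 : ∀ n ∈ Finset.range D.rank, cf D (h8sW D w r) n * gtA D i n =
          ∑ m ∈ Finset.range D.rank, cf D r m * (cf D (h8sW D w (D.simple m)) n * gtA D i n) := by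
        intro n hn
        rw [ih hw' n (Finset.mem_range.mp hn), Finset.sum_mul]
        apply Finset.sum_congr rfl
        intro m _
        ring
      rw [Finset.sum_congr rfl e2, Finset.sum_comm]
      apply Finset.sum_congr rfl
      intro m _
      rw [Finset.mul_sum]
    · rw [if_neg hki]
      simp only [if_neg hki, mul_zero, Finset.sum_const_zero]

theorem gtChk_simple_lt (D : ChevalleyDatum) (h : gtChk D = true) (m : ℕ) (hm : m < D.rank) :
    D.simple m < D.nroots := by
  unfold gtChk at h
  simp only [Bool.and_eq_true, List.all_eq_true, List.mem_range, decide_eq_true_eq] at h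
  exact (h.1.1.2 m hm).1

/-- `w` fixes every root of the subsystem of its fixed fundamental roots -/
theorem gt_fix (D : ChevalleyDatum) (hA : H8ReflAll D) (h : gtChk D = true) (w : List ℕ)
    (hw : ValidW D w) (r : ℕ) (hr : D.InRootSub (FixJ D w) r) : h8sW D w r = r := by
  apply gtChk_inj D h _ _ (h8sW_lt D hA w hw r hr.1) hr.1
  intro k hk
  rw [gt_lin D hA h w hw r hr.1 k hk]
  have e1 : ∀ m ∈ Finset.range D.rank, cf D r m * cf D (h8sW D w (D.simple m)) k =
      cf D r m * (if k = m then 1 else 0) := by
    intro m hm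
    have hm' := Finset.mem_range.mp hm
    by_cases hmJ : m ∈ FixJ D w
    · rw [hmJ.2, gtChk_simple D h m k hm' hk]
    · have : cf D r m = 0 := hr.2 m hm' hmJ
      rw [this, zero_mul, zero_mul]
  rw [Finset.sum_congr rfl e1, Finset.sum_eq_single k]
  · rw [if_pos rfl, mul_one]
  · intro m _ hmk
    rw [if_neg (fun e => hmk e.symm), mul_zero]
  · intro hk'
    exact absurd (Finset.mem_range.mpr hk) hk'

/-- a positive root mapped to a positive root by `w` lies in the subsystem of the fundamental roots
fixed by `w` -/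
theorem gt_struct (D : ChevalleyDatum) (hB : H8Base.{0} D) (hA : H8ReflAll D) (h : gtChk D = true)
    (w : List ℕ) (hw : ValidW D w) (hJ : JProp D w) (r : ℕ) (hp : D.IsPosRoot r)
    (hp' : D.IsPosRoot (h8sW D w r)) : D.InRootSub (FixJ D w) r := by
  classical
  refine ⟨hp.1, ?_⟩
  by_contra hcon
  push_neg at hcon
  obtain ⟨k₀, hk₀, hk₀J, hk₀c⟩ := hcon
  set J := FixJ D w with hJdef
  set K := (Finset.range D.rank).filter (fun k => k ∉ J) with hK
  have hrc : ∀ m, 0 ≤ cf D r m := gt_pos_cf D r hp
  have hk₀1 : 1 ≤ cf D r k₀ := by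
    have := hrc k₀
    have hne : cf D r k₀ ≠ 0 := hk₀c
    omega
  -- the sum of the coordinates outside `J` of the image
  have hT : ∑ k ∈ K, cf D (h8sW D w r) k =
      ∑ m ∈ Finset.range D.rank, cf D r m * ∑ k ∈ K, cf D (h8sW D w (D.simple m)) k := by
    have e1 : ∀ k ∈ K, cf D (h8sW D w r) k =
        ∑ m ∈ Finset.range D.rank, cf D r m * cf D (h8sW D w (D.simple m)) k := by
      intro k hk
      rw [hK, Finset.mem_filter, Finset.mem_range] at hk
      exact gt_lin D hA h w hw r hp.1 k hk.1
    rw [Finset.sum_congr rfl e1, Finset.sum_comm]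
    apply Finset.sum_congr rfl
    intro m _
    rw [Finset.mul_sum]
  have hT0 : 0 ≤ ∑ k ∈ K, cf D (h8sW D w r) k :=
    Finset.sum_nonneg (fun k _ => gt_pos_cf D _ hp' k)
  -- the terms
  have hS : ∀ m ∈ Finset.range D.rank,
      cf D r m * ∑ k ∈ K, cf D (h8sW D w (D.simple m)) k ≤ if m ∈ J then 0 else - cf D r m := by
    intro m hm
    have hm' := Finset.mem_range.mp hm
    by_cases hmJ : m ∈ J
    · rw [if_pos hmJ]
      have : ∑ k ∈ K, cf D (h8sW D w (D.simple m)) k = 0 := by
        apply Finset.sum_eq_zero
        intro k hk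
        rw [hK, Finset.mem_filter, Finset.mem_range] at hk
        rw [hmJ.2, gtChk_simple D h m k hm' hk.1, if_neg]
        rintro rfl
        exact hk.2 hmJ
      rw [this, mul_zero]
    · rw [if_neg hmJ]
      have hmlt := gtChk_simple_lt D h m hm'
      have himlt := h8sW_lt D hA w hw _ hmlt
      have hnp : ¬ D.IsPosRoot (h8sW D w (D.simple m)) := by
        rcases hJ.2 m hm' with h1 | h1
        · exact absurd ⟨hm', h1⟩ hmJ
        · exact h1
      have hneg : D.IsNegRoot (h8sW D w (D.simple m)) := by
        rcases hB.posneg _ himlt with h1 | h1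
        · exact absurd h1 hnp
        · exact h1
      have hle : ∀ k, cf D (h8sW D w (D.simple m)) k ≤ 0 := gt_neg_cf D _ hneg
      have hS1 : ∑ k ∈ K, cf D (h8sW D w (D.simple m)) k ≤ -1 := by
        by_contra hcon
        push_neg at hcon
        have hsum0 : ∑ k ∈ K, cf D (h8sW D w (D.simple m)) k = 0 := by
          have : ∑ k ∈ K, cf D (h8sW D w (D.simple m)) k ≤ 0 :=
            Finset.sum_nonpos (fun k _ => hle k)
          omega
        have hall : ∀ k ∈ K, cf D (h8sW D w (D.simple m)) k = 0 := by
          intro k hk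
          by_contra hne
          have hlt : cf D (h8sW D w (D.simple m)) k < 0 := lt_of_le_of_ne (hle k) hne
          have : ∑ k ∈ K, cf D (h8sW D w (D.simple m)) k < 0 :=
            Finset.sum_neg' (fun k _ => hle k) ⟨k, hk, hlt⟩
          omega
        have hin : D.InRootSub J (h8sW D w (D.simple m)) := by
          refine ⟨himlt, fun i hi hiJ => hall i ?_⟩
          rw [hK, Finset.mem_filter, Finset.mem_range]
          exact ⟨hi, hiJ⟩
        have hfix := gt_fix D hA h w hw _ hin
        rw [hJ.1 _ hmlt] at hfix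
        exact hmJ ⟨hm', hfix.symm⟩
      have := hrc m
      nlinarith
  have hfin : ∑ m ∈ Finset.range D.rank, (if m ∈ J then (0 : ℤ) else - cf D r m) ≤ -1 := by
    have hterm : ∀ m ∈ Finset.range D.rank, (if m ∈ J then (0 : ℤ) else - cf D r m) ≤ 0 := by
      intro m _
      split_ifs
      · exact le_refl _
      · have := hrc m; omega
    have h1 : ∑ m ∈ Finset.range D.rank, (if m ∈ J then (0 : ℤ) else - cf D r m) ≤
        (if k₀ ∈ J then (0 : ℤ) else - cf D r k₀) := by
      have := Finset.sum_le_sum_of_subset_of_nonneg (s := {k₀}) (t := Finset.range D.rank)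
        (f := fun m => - (if m ∈ J then (0 : ℤ) else - cf D r m))
        (by intro x hx; rw [Finset.mem_singleton] at hx; rw [hx]; exact Finset.mem_range.mpr hk₀)
        (by intro m hm _; have := hterm m hm; omega)
      rw [Finset.sum_singleton, Finset.sum_neg_distrib] at this
      omega
    rw [if_neg hk₀J] at h1
    omega
  have := Finset.sum_le_sum hS
  rw [← hT] at this
  omega

end Cfsg.Agent.Lib.helper14.INV
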