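import Mathlib
import Cfsg.Prelude.Def_ChevStructure
import Cfsg.Agent.Lib.helper14.INVGT

/-!
# Project INV: the Weyl group preserves the inner product of roots (simply-laced types)

`gtIp D r s` is the inner product of the roots `r`, `s` computed from the coroot coordinates and the
Cartan integers `gtA`; if `gtA` is symmetric (`gtSymChk`, simply-laced types) it is invariant under the
Weyl group: `gt_ip_inv`.
-/

set_option autoImplicit false

namespace Cfsg.Agent.Lib.helper14.INV

open Cfsg.Lie Cfsg.Lie.ChevalleyDatum Cfsg.Agent.Lib.helper8 Cfsg.Agent.Lib.helper14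

/-- the inner product of the roots `r`, `s` (simply-laced types, roots of norm `2`) -/
def gtIp (D : ChevalleyDatum) (r s : ℕ) : ℤ :=
  ∑ k ∈ Finset.range D.rank, ∑ l ∈ Finset.range D.rank, cf D r k * gtA D k l * cf D s l

/-- the Cartan integers are symmetric with diagonal `2` -/
def gtSymChk (D : ChevalleyDatum) : Bool :=
  (List.range D.rank).all fun k => decide (gtA D k k = 2) &&
    (List.range D.rank).all fun l => decide (gtA D k l = gtA D l k)

theorem gt_bil_refl (n : ℕ) (a : ℕ → ℕ → ℤ) (i : ℕ) (hi : i < n)
    (hsym : ∀ k < n, ∀ l < n, a k l = a l k) (hii : a i i = 2) (x y : ℕ → ℤ) :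
    ∑ k ∈ Finset.range n, ∑ l ∈ Finset.range n,
      (x k - if k = i then ∑ m ∈ Finset.range n, x m * a i m else 0) * a k l *
      (y l - if l = i then ∑ m ∈ Finset.range n, y m * a i m else 0) =
    ∑ k ∈ Finset.range n, ∑ l ∈ Finset.range n, x k * a k l * y l := by
  set X := ∑ m ∈ Finset.range n, x m * a i m with hX
  set Y := ∑ m ∈ Finset.range n, y m * a i m with hY
  have hi' : i ∈ Finset.range n := Finset.mem_range.mpr hi
  have e : ∀ k ∈ Finset.range n, ∀ l ∈ Finset.range n,
      (x k - if k = i then X else 0) * a k l * (y l - if l = i then Y else 0) =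
      x k * a k l * y l - (if k = i then X * (a i l * y l) else 0)
        - (if l = i then (x k * a k i) * Y else 0)
        + (if k = i then (if l = i then X * a i i * Y else 0) else 0) := by
    intro k _ l _
    by_cases hk : k = i <;> by_cases hl : l = i
    · subst hk; subst hl; simp only [if_true]; ring
    · subst hk; simp only [if_true, if_neg hl]; ring
    · subst hl; simp only [if_true, if_neg hk]; ring
    · simp only [if_neg hk, if_neg hl]; ring
  rw [Finset.sum_congr rfl (fun k hk => Finset.sum_congr rfl (fun l hl => e k hk l hl))]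
  simp only [Finset.sum_add_distrib, Finset.sum_sub_distrib]
  have e1 : ∑ k ∈ Finset.range n, ∑ l ∈ Finset.range n,
      (if k = i then X * (a i l * y l) else 0) = X * Y := by
    rw [Finset.sum_comm]
    simp only [Finset.sum_ite_eq', hi', if_true]
    rw [hY, Finset.mul_sum]
    apply Finset.sum_congr rfl
    intro l _
    ring
  have e2 : ∑ k ∈ Finset.range n, ∑ l ∈ Finset.range n,
      (if l = i then (x k * a k i) * Y else 0) = X * Y := by
    simp only [Finset.sum_ite_eq', hi', if_true]
    rw [← Finset.sum_mul, hX]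
    congr 1
    apply Finset.sum_congr rfl
    intro k hk
    rw [hsym k (Finset.mem_range.mp hk) i hi]
  have e3 : ∑ k ∈ Finset.range n, ∑ l ∈ Finset.range n,
      (if k = i then (if l = i then X * a i i * Y else 0) else 0) = 2 * (X * Y) := by
    rw [Finset.sum_comm]
    simp only [Finset.sum_ite_eq', hi', if_true]
    rw [hii]
    ring
  rw [e1, e2, e3]
  ring

theorem gtSymChk_spec (D : ChevalleyDatum) (h : gtSymChk D = true) :
    (∀ k < D.rank, gtA D k k = 2) ∧ ∀ k < D.rank, ∀ l < D.rank, gtA D k l = gtA D l k := by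
  unfold gtSymChk at h
  simp only [Bool.and_eq_true, List.all_eq_true, List.mem_range, decide_eq_true_eq] at h
  exact ⟨fun k hk => (h k hk).1, fun k hk l hl => (h k hk).2 l hl⟩

/-- a fundamental reflection preserves the inner product -/
theorem gt_ip_refl (D : ChevalleyDatum) (h : gtChk D = true) (hs : gtSymChk D = true) (i : ℕ)
    (hi : i < D.rank) (r s : ℕ) (hr : r < D.nroots) (hs' : s < D.nroots) :
    gtIp D (D.reflectRoot i r) (D.reflectRoot i s) = gtIp D r s := by
  obtain ⟨h2, hsym⟩ := gtSymChk_spec D hs
  unfold gtIp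
  have e : ∀ k ∈ Finset.range D.rank, ∀ l ∈ Finset.range D.rank,
      cf D (D.reflectRoot i r) k * gtA D k l * cf D (D.reflectRoot i s) l =
      (cf D r k - if k = i then ∑ m ∈ Finset.range D.rank, cf D r m * gtA D i m else 0) *
        gtA D k l *
      (cf D s l - if l = i then ∑ m ∈ Finset.range D.rank, cf D s m * gtA D i m else 0) := by
    intro k hk l hl
    rw [gtChk_lin D h r i k hr hi (Finset.mem_range.mp hk),
      gtChk_lin D h s i l hs' hi (Finset.mem_range.mp hl)]
  rw [Finset.sum_congr rfl (fun k hk => Finset.sum_congr rfl (fun l hl => e k hk l hl))]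
  exact gt_bil_refl D.rank (gtA D) i hi hsym (h2 i hi) _ _

/-- the Weyl group preserves the inner product -/
theorem gt_ip_inv (D : ChevalleyDatum) (hA : H8ReflAll D) (h : gtChk D = true)
    (hs : gtSymChk D = true) (w : List ℕ) (hw : ValidW D w) (r s : ℕ) (hr : r < D.nroots)
    (hs' : s < D.nroots) : gtIp D (h8sW D w r) (h8sW D w s) = gtIp D r s := by
  induction w with
  | nil => rfl
  | cons i w ih =>
    have hw' : ValidW D w := fun j hj => hw j (List.mem_cons_of_mem _ hj)
    rw [gt_sW_cons, gt_sW_cons, gt_ip_refl D h hs i (hw i List.mem_cons_self) _ _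
      (h8sW_lt D hA w hw' r hr) (h8sW_lt D hA w hw' s hs'), ih hw']

/-- the inner product as a list computation (for `decide`) -/
def gtIpL (D : ChevalleyDatum) (r s : ℕ) : ℤ :=
  ((List.range D.rank).map fun k =>
    ((List.range D.rank).map fun l => cf D r k * gtA D k l * cf D s l).sum).sum

theorem gtIp_eq (D : ChevalleyDatum) (r s : ℕ) : gtIp D r s = gtIpL D r s := by
  unfold gtIp gtIpL
  rw [gt_list_sum]
  apply Finset.sum_congr rfl
  intro k _
  rw [gt_list_sum]

/-- the Weyl group preserves the inner product (list form) -/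
theorem gt_ipL_inv (D : ChevalleyDatum) (hA : H8ReflAll D) (h : gtChk D = true)
    (hs : gtSymChk D = true) (w : List ℕ) (hw : ValidW D w) (r s : ℕ) (hr : r < D.nroots)
    (hs' : s < D.nroots) : gtIpL D (h8sW D w r) (h8sW D w s) = gtIpL D r s := by
  rw [← gtIp_eq, ← gtIp_eq]
  exact gt_ip_inv D hA h hs w hw r s hr hs'

end Cfsg.Agent.Lib.helper14.INV
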