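import Mathlib
import Cfsg.Prelude.Def_ChevStructure
import Cfsg.Agent.Lib.helper14.INVGT

/-!
# Project INV: the Weyl group elements `w` of the maximal cells — identification with a table

`gt_table`: given a table `T` of pairs `(J, c)`, one for every subset `J` of the fundamental roots, where
the word `c` has the positive roots outside `Φ_J` as its inversion set (checked by `gtTabChk`), every
word `w` with `JProp` acts on the roots as the word `c` of the entry of `J = FixJ w`.
-/

set_option autoImplicit false

namespace Cfsg.Agent.Lib.helper14.INV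

open Cfsg.Lie Cfsg.Lie.ChevalleyDatum Cfsg.Agent.Lib.helper8 Cfsg.Agent.Lib.helper14

/-- the word `c` is valid and its inversion set is the set of the positive roots outside `Φ_J` -/
def gtInvChk (D : ChevalleyDatum) (J c : List ℕ) : Bool :=
  c.all (fun i => decide (i < D.rank)) &&
  (List.range D.nroots).all fun r => !decide (D.IsPosRoot r) ||
    (decide (D.IsPosRoot (h8sW D c r)) ==
      (List.range D.rank).all fun i => J.contains i || decide (cf D r i = 0))

/-- every subset of the fundamental roots has an entry, and the entries are correct -/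
def gtTabChk (D : ChevalleyDatum) (T : List (List ℕ × List ℕ)) : Bool :=
  ((List.range D.rank).sublists.all fun J => T.any fun e => e.1 == J) &&
  T.all fun e => gtInvChk D e.1 e.2

theorem gt_table (D : ChevalleyDatum) (hB : H8Base.{0} D) (hA : H8ReflAll D) (hBN : H8BN D)
    (hW : H8BN2 D) (hO2 : H8Ord2 D) (h : gtChk D = true) (T : List (List ℕ × List ℕ))
    (hT : gtTabChk D T = true) (w : List ℕ) (hw : ValidW D w) (hJ : JProp D w) :
    ∃ e ∈ T, (∀ i, i ∈ e.1 ↔ i ∈ FixJ D w) ∧ ValidW D e.2 ∧
      ∀ r < D.nroots, h8sW D w r = h8sW D e.2 r := by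
  unfold gtTabChk at hT
  rw [Bool.and_eq_true, List.all_eq_true, List.all_eq_true] at hT
  set Jl := (List.range D.rank).filter (fun i => decide (h8sW D w (D.simple i) = D.simple i))
    with hJl
  have hsub : Jl ∈ (List.range D.rank).sublists := List.mem_sublists.mpr List.filter_sublist
  have h1 := hT.1 Jl hsub
  rw [List.any_eq_true] at h1
  obtain ⟨e, he, heJ⟩ := h1
  have heJ' : e.1 = Jl := by simpa using heJ
  have hmem : ∀ i, i ∈ e.1 ↔ i ∈ FixJ D w := by
    intro i
    rw [heJ', hJl, List.mem_filter, List.mem_range, decide_eq_true_eq]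
    rfl
  have h2 := hT.2 e he
  unfold gtInvChk at h2
  rw [Bool.and_eq_true, List.all_eq_true, List.all_eq_true] at h2
  have hv : ValidW D e.2 := by
    intro i hi
    have := h2.1 i hi
    simpa using this
  refine ⟨e, he, hmem, hv, ?_⟩
  apply gt_unique D hB hA hBN hW hO2 w e.2 hw hv
  intro r hr
  have h3 := h2.2 r (List.mem_range.mpr hr.1)
  rw [Bool.or_eq_true] at h3
  rcases h3 with h3 | h3
  · simp only [Bool.not_eq_true', decide_eq_false_iff_not] at h3
    exact absurd hr h3
  · rw [beq_iff_eq] at h3
    have hiff : D.IsPosRoot (h8sW D e.2 r) ↔ D.InRootSub (FixJ D w) r := by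
      rw [← decide_eq_true_iff (p := D.IsPosRoot (h8sW D e.2 r)), h3, List.all_eq_true]
      constructor
      · intro hall
        refine ⟨hr.1, fun i hi hiJ => ?_⟩
        have := hall i (List.mem_range.mpr hi)
        rw [Bool.or_eq_true, List.contains_iff_mem, decide_eq_true_eq] at this
        rcases this with h4 | h4
        · exact absurd ((hmem i).mp h4) hiJ
        · exact h4
      · intro hin i hi
        rw [Bool.or_eq_true, List.contains_iff_mem, decide_eq_true_eq]
        by_cases hiJ : i ∈ FixJ D w
        · exact Or.inl ((hmem i).mpr hiJ)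
        · exact Or.inr (hin.2 i (List.mem_range.mp hi) hiJ)
    rw [hiff]
    constructor
    · exact gt_struct D hB hA h w hw hJ r hr
    · intro hin
      rw [gt_fix D hA h w hw r hin]
      exact hr

end Cfsg.Agent.Lib.helper14.INV
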