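import Mathlib
import Cfsg.Prelude.Def_ChevStructure
import Cfsg.Agent.Lib.helper14.INVGT2

/-!
# Project INV: `gt_table` with the `good` flag

The entry of the table found by `gt_table` is good: its word is an involution on the roots and fixes the
fundamental roots of its `J`.
-/

set_option autoImplicit false

namespace Cfsg.Agent.Lib.helper14.INV

open Cfsg.Lie Cfsg.Lie.ChevalleyDatum Cfsg.Agent.Lib.helper8 Cfsg.Agent.Lib.helper14

/-- the word of the entry is an involution on the roots and fixes the fundamental roots of `J` -/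
def gtGood (D : ChevalleyDatum) (e : List ℕ × List ℕ) : Bool :=
  ((List.range D.nroots).all fun r => h8sW D e.2 (h8sW D e.2 r) == r) &&
  e.1.all fun j => h8sW D e.2 (D.simple j) == D.simple j

theorem gt_table_good (D : ChevalleyDatum) (hB : H8Base.{0} D) (hA : H8ReflAll D) (hBN : H8BN D)
    (hW : H8BN2 D) (hO2 : H8Ord2 D) (h : gtChk D = true) (T : List (List ℕ × List ℕ))
    (hT : gtTabChk D T = true) (w : List ℕ) (hw : ValidW D w) (hJ : JProp D w) :
    ∃ e ∈ T, gtGood D e = true ∧ (∀ i, i ∈ e.1 ↔ i ∈ FixJ D w) ∧ ValidW D e.2 ∧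
      ∀ r < D.nroots, h8sW D w r = h8sW D e.2 r := by
  obtain ⟨e, he, hmem, hv, heq⟩ := gt_table D hB hA hBN hW hO2 h T hT w hw hJ
  refine ⟨e, he, ?_, hmem, hv, heq⟩
  unfold gtGood
  rw [Bool.and_eq_true, List.all_eq_true, List.all_eq_true]
  constructor
  · intro r hr
    rw [List.mem_range] at hr
    rw [beq_iff_eq, ← heq r hr, ← heq _ (h8sW_lt D hA w hw r hr)]
    exact hJ.1 r hr
  · intro j hj
    have hjJ := (hmem j).mp hj
    rw [beq_iff_eq, ← heq _ (gtChk_simple_lt D h j hjJ.1)]
    exact hjJ.2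

end Cfsg.Agent.Lib.helper14.INV
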