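import Mathlib
import Cfsg.Prelude.Def_ChevStructure
import Cfsg.Agent.Lib.helper14.INV.F4Defs
import Cfsg.Agent.Lib.helper14.F4Cf

/-!
# Project INV, piece NONCONJ, generic part 2: the `B`-conjugates of a product of root elements

`nc_form_prod`: let `L` be a list of roots with pairwise commuting root subgroups (modulo `m`), `R` a list
of roots of `L` such that the root subgroups of `r :: up r` (`up r` consisting of roots `> r`) are
stable under `B` and no other root of `R` lies in `up r`. Then every `B`-conjugate of `∏_{r ∈ R} x_r(1)` is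
a word `∏_{s ∈ L} x_s(c s)` with `c r ≠ 0` for all `r ∈ R`.
-/

set_option autoImplicit false

namespace Cfsg.Agent.Lib.helper14.INV

open Cfsg.Lie Cfsg.Lie.ChevalleyDatum Cfsg.Agent.Lib.helper8 Cfsg.Agent.Lib.helper14

universe u

variable {F : Type u} [Field F]

/-- a word on a sublist is a word on the list -/
theorem ncLW_sublist (D : ChevalleyDatum) (hB : H8Base.{u} D) (c : ℕ → F) (L' L : List ℕ)
    (hsub : L'.Sublist L) (hnd : L.Nodup) :
    f4cLW D hB L' c = f4cLW D hB L (fun s => if s ∈ L' then c s else 0) := by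
  induction hsub with
  | slnil => rfl
  | @cons l₁ l₂ a hs ih =>
    rw [List.nodup_cons] at hnd
    have ha : a ∉ l₁ := fun h => hnd.1 (hs.subset h)
    rw [f4cLW_cons, if_neg ha, h8xU_zero, one_mul]
    exact ih hnd.2
  | @cons_cons l₁ l₂ a hs ih =>
    rw [List.nodup_cons] at hnd
    rw [f4cLW_cons, f4cLW_cons, if_pos List.mem_cons_self, ih hnd.2]
    congr 1
    apply f4cLW_congr
    intro s hs'
    have hsa : s ≠ a := by
      rintro rfl
      exact hnd.1 hs'
    by_cases h1 : s ∈ l₁
    · rw [if_pos h1, if_pos (List.mem_cons_of_mem _ h1)]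
    · rw [if_neg h1, if_neg]
      intro h2
      rcases List.mem_cons.mp h2 with h3 | h3
      · exact hsa h3
      · exact h1 h3

theorem w1_cons (D : ChevalleyDatum) (hB : H8Base.{u} D) (r : ℕ) (R : List ℕ) :
    (w1 D hB (r :: R) : GL D.Idx F) = h8xU D hB r 1 * w1 D hB R := by
  unfold w1
  rw [List.map_cons, h8wordU_cons]

theorem w1_nil (D : ChevalleyDatum) (hB : H8Base.{u} D) : (w1 D hB [] : GL D.Idx F) = 1 := by
  unfold w1 h8wordU
  simp

/-- the `B`-conjugates of a product of root elements -/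
theorem nc_form_prod (D : ChevalleyDatum) (hB : H8Base.{u} D) (hC : H8CommAll.{u} D)
    (hO : H8Ord D) (hO2 : H8Ord2 D) (hM : CfMax D) (m : ℕ) (hm : ((m : ℤ) : F) = 0)
    (L : List ℕ) (hLnd : L.Nodup) (hcomm : f4cCommChk D L m = true) (up : ℕ → List ℕ)
    (R : List ℕ) (hRnd : R.Nodup)
    (hR : ∀ r ∈ R, D.IsPosRoot r ∧ (∀ s ∈ up r, D.IsPosRoot s ∧ r < s) ∧ (r :: up r).Sublist L ∧
      f4cCommChk D (r :: up r) m = true ∧ f4cStabChk D (r :: up r) m = true ∧
      ∀ r' ∈ R, r' ≠ r → r' ∉ up r)
    (b : GL D.Idx F) (hb : b ∈ D.borelSubgroup F) :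
    ∃ c : ℕ → F, (∀ r ∈ R, c r ≠ 0) ∧ b * w1 D hB R * b⁻¹ = f4cLW D hB L c := by
  have key : ∀ R' : List ℕ, R'.Nodup → (∀ r ∈ R', r ∈ R) →
      ∃ c : ℕ → F, (∀ r ∈ R', c r ≠ 0) ∧ (∀ s, (∀ r ∈ R', s ∉ r :: up r) → c s = 0) ∧
        b * w1 D hB R' * b⁻¹ = f4cLW D hB L c := by
    intro R'
    induction R' with
    | nil =>
      intro _ _
      refine ⟨fun _ => 0, fun r hr => absurd hr List.not_mem_nil, fun _ _ => rfl, ?_⟩
      rw [w1_nil, mul_one, mul_inv_cancel, f4cLW_zero]
    | cons r₀ R' ih =>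
      intro hnd hsub
      rw [List.nodup_cons] at hnd
      obtain ⟨c, hc1, hc2, hc3⟩ := ih hnd.2 (fun r hr => hsub r (List.mem_cons_of_mem _ hr))
      have hr₀R := hsub r₀ List.mem_cons_self
      obtain ⟨hpos, hup, hsl, hcm, hst, hanti⟩ := hR r₀ hr₀R
      have hnd0 : (r₀ :: up r₀).Nodup := hsl.nodup hLnd
      obtain ⟨c₀, hc₀, e₀⟩ := f4c_B_conj_lead D hB hC hO hO2 hM r₀ (up r₀) hpos hup hnd0 m hm hcm
        hst b hb
      rw [ncLW_sublist D hB c₀ _ L hsl hLnd] at e₀
      refine ⟨fun s => (if s ∈ r₀ :: up r₀ then c₀ s else 0) + c s, ?_, ?_, ?_⟩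
      · intro r hr
        rcases List.mem_cons.mp hr with rfl | hr'
        · show (if r ∈ r :: up r then c₀ r else 0) + c r ≠ 0
          rw [if_pos List.mem_cons_self]
          have : c r = 0 := by
            apply hc2
            intro r' hr' hmem
            have hr'R := hsub r' (List.mem_cons_of_mem _ hr')
            rcases List.mem_cons.mp hmem with h1 | h1
            · rw [h1] at hnd; exact hnd.1 hr'
            · have hne : r ≠ r' := by
                rintro rfl
                exact hnd.1 hr'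
              exact (hR r' hr'R).2.2.2.2.2 r hr₀R hne h1
          rw [this, add_zero]
          exact hc₀
        · show (if r ∈ r₀ :: up r₀ then c₀ r else 0) + c r ≠ 0
          have hne : r ≠ r₀ := by
            rintro rfl
            exact hnd.1 hr'
          rw [if_neg, zero_add]
          · exact hc1 r hr'
          · intro hmem
            rcases List.mem_cons.mp hmem with h1 | h1
            · exact hne h1
            · exact hanti r (hsub r (List.mem_cons_of_mem _ hr')) hne h1
      · intro s hs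
        show (if s ∈ r₀ :: up r₀ then c₀ s else 0) + c s = 0
        rw [if_neg (hs r₀ List.mem_cons_self), zero_add]
        exact hc2 s (fun r hr => hs r (List.mem_cons_of_mem _ hr))
      · rw [w1_cons]
        have e1 : b * (h8xU D hB r₀ 1 * w1 D hB R') * b⁻¹ =
            (b * h8xU D hB r₀ 1 * b⁻¹) * (b * w1 D hB R' * b⁻¹) := by group
        rw [e1, e₀, hc3]
        exact f4cLW_mul D hB hC L m hm hcomm _ _ L (fun s hs => hs)
  obtain ⟨c, h1, _, h3⟩ := key R hRnd (fun r hr => hr)
  exact ⟨c, h1, h3⟩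

end Cfsg.Agent.Lib.helper14.INV
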