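import Mathlib
import Cfsg.Prelude.Def_ChevStructure
import Cfsg.Agent.Lib.helper14.INV.F4Defs
import Cfsg.Agent.Lib.Helper22.INVCOLL
import Cfsg.Agent.Lib.helper14.INVNCb

/-!
# Project INV, pieces WMOVE and FUSE (backup by helper14)

A *move* is a pair `(b, k)`: `(true, s)` is the conjugation by `x_s(1)`, `(false, i)` the conjugation by
`n_i(1)`. `fuseb_run` applies a list of moves to a word of positive roots (a product of root elements
`x_r(1)` in characteristic two), collecting after each move; `fuseb_ok` checks the side conditions.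
-/

set_option autoImplicit false

namespace Cfsg.Agent.Lib.helper14.INV

open Cfsg.Lie Cfsg.Lie.ChevalleyDatum Cfsg.Agent.Lib.helper8 Cfsg.Agent.Lib.helper14

universe u

variable {F : Type u} [Field F]

/-- WMOVE for one root element -/
theorem fuseb_conj_x [CharP F 2] (D : ChevalleyDatum) (hB : H8Base.{u} D) (hA : H8ReflAll D)
    (i : ℕ) (hi : i < D.rank) (s : ℕ) (hs : s < D.nroots) :
    h8nU D hB (D.simple i) (1 : F) * h8xU D hB s 1 * (h8nU D hB (D.simple i) (1 : F))⁻¹ =
      h8xU D hB (D.reflectRoot i s) 1 := by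
  obtain ⟨η, hη, h1⟩ := h8n_simple_conj_all (F := F) D hA i s hi hs
  rw [mul_inv_eq_iff_eq_mul]
  apply Units.ext
  rw [Units.val_mul, Units.val_mul, h8nU_val, h8xU_val, h8xU_val, h1 1]
  have e : ((η : F) * 1) = 1 := by
    rcases hη with rfl | rfl
    · simp
    · have h2 : (1 : F) + 1 = 0 := by
        have := CharP.cast_eq_zero F 2
        rw [← this]; norm_num
      have : (-1 : F) = 1 := by
        rw [neg_eq_iff_add_eq_zero]; exact h2
      simp [this]
  rw [e]

/-- WMOVE (backup) -/
theorem conj_nU_w1_b [CharP F 2] (D : ChevalleyDatum) (hB : H8Base.{u} D) (hA : H8ReflAll D)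
    (i : ℕ) (hi : i < D.rank) (w : List ℕ) (hw : ∀ r ∈ w, r < D.nroots) :
    h8nU D hB (D.simple i) (1 : F) * w1 D hB w * (h8nU D hB (D.simple i) (1 : F))⁻¹ =
      w1 D hB (w.map (D.reflectRoot i)) := by
  induction w with
  | nil => rw [List.map_nil, w1_nil, mul_one, mul_inv_cancel]
  | cons a l ih =>
    rw [List.map_cons, w1_cons, w1_cons, ← ih (fun r hr => hw r (List.mem_cons_of_mem _ hr)),
      ← fuseb_conj_x D hB hA i hi a (hw a List.mem_cons_self)]
    group

/-- one move -/
def fuseb_step (D : ChevalleyDatum) (fuel : ℕ) (m : Bool × ℕ) (w : List ℕ) : List ℕ :=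
  if m.1 then coll D fuel (m.2 :: (w ++ [m.2])) else coll D fuel (w.map (D.reflectRoot m.2))

/-- the side conditions of one move -/
def fuseb_ok1 (D : ChevalleyDatum) (m : Bool × ℕ) (w : List ℕ) : Bool :=
  w.all (fun r => decide (D.IsPosRoot r)) &&
  (if m.1 then decide (D.IsPosRoot m.2)
   else decide (m.2 < D.rank) && (w.map (D.reflectRoot m.2)).all fun r => decide (D.IsPosRoot r))

/-- a list of moves -/
def fuseb_run (D : ChevalleyDatum) (fuel : ℕ) : List (Bool × ℕ) → List ℕ → List ℕ
  | [], w => w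
  | m :: ms, w => fuseb_run D fuel ms (fuseb_step D fuel m w)

/-- the side conditions of a list of moves -/
def fuseb_ok (D : ChevalleyDatum) (fuel : ℕ) : List (Bool × ℕ) → List ℕ → Bool
  | [], _ => true
  | m :: ms, w => fuseb_ok1 D m w && fuseb_ok D fuel ms (fuseb_step D fuel m w)

theorem fuseb_cj_refl (D : ChevalleyDatum) (a : GL D.Idx F) : Cj D a a :=
  ⟨1, Subgroup.one_mem _, by group⟩

theorem fuseb_cj_trans (D : ChevalleyDatum) {a b c : GL D.Idx F} (h1 : Cj D a b) (h2 : Cj D b c) :
    Cj D a c := by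
  obtain ⟨g, hg, e1⟩ := h1
  obtain ⟨g', hg', e2⟩ := h2
  refine ⟨g' * g, Subgroup.mul_mem _ hg' hg, ?_⟩
  rw [← e2, ← e1]; group

/-- one move is a conjugation -/
theorem fuseb_step_cj [CharP F 2] (D : ChevalleyDatum) (hB : H8Base.{u} D) (hA : H8ReflAll D)
    (hC : H8CommAll.{u} D) (hBN : H8BN D) (hO : H8Ord D) (fuel : ℕ) (m : Bool × ℕ) (w : List ℕ)
    (h : fuseb_ok1 D m w = true) :
    Cj D (w1 D hB w : GL D.Idx F) (w1 D hB (fuseb_step D fuel m w)) := by
  obtain ⟨b, k⟩ := m
  unfold fuseb_ok1 at h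
  rw [Bool.and_eq_true, List.all_eq_true] at h
  obtain ⟨hw, h2⟩ := h
  have hw' : ∀ r ∈ w, D.IsPosRoot r := fun r hr => of_decide_eq_true (hw r hr)
  cases b with
  | true =>
    have hk : D.IsPosRoot k := by simpa using h2
    refine ⟨h8xU D hB k 1, h8xU_mem_group D hB k 1, ?_⟩
    have hinv : (h8xU D hB k (1 : F))⁻¹ = h8xU D hB k 1 := by
      rw [inv_eq_iff_mul_eq_one]
      exact invcoll_xx D hB k hk.1
    unfold fuseb_step
    rw [if_pos rfl, ← coll_sound D hB hC hBN hO fuel _ (by
      intro r hr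
      rcases List.mem_cons.mp hr with rfl | hr
      · exact hk
      · rcases List.mem_append.mp hr with hr | hr
        · exact hw' r hr
        · rw [List.mem_singleton] at hr; rw [hr]; exact hk)]
    rw [w1_cons, invcoll_w1_append, w1_cons, w1_nil, mul_one, hinv, mul_assoc]
  | false =>
    simp only [Bool.false_eq_true, if_false, Bool.and_eq_true, decide_eq_true_eq,
      List.all_eq_true] at h2
    obtain ⟨hk, h3⟩ := h2
    refine ⟨h8nU D hB (D.simple k) 1, h8wordU_mem_group D hB _, ?_⟩
    unfold fuseb_step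
    rw [if_neg (by simp), ← coll_sound D hB hC hBN hO fuel _ (fun r hr => h3 r hr)]
    exact conj_nU_w1_b D hB hA k hk w (fun r hr => (hw' r hr).1)

/-- a list of moves is a conjugation -/
theorem fuseb_run_cj [CharP F 2] (D : ChevalleyDatum) (hB : H8Base.{u} D) (hA : H8ReflAll D)
    (hC : H8CommAll.{u} D) (hBN : H8BN D) (hO : H8Ord D) (fuel : ℕ) (ms : List (Bool × ℕ))
    (w : List ℕ) (h : fuseb_ok D fuel ms w = true) :
    Cj D (w1 D hB w : GL D.Idx F) (w1 D hB (fuseb_run D fuel ms w)) := by
  induction ms generalizing w with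
  | nil => exact fuseb_cj_refl D _
  | cons m ms ih =>
    unfold fuseb_ok at h
    rw [Bool.and_eq_true] at h
    unfold fuseb_run
    exact fuseb_cj_trans D (fuseb_step_cj D hB hA hC hBN hO fuel m w h.1) (ih _ h.2)

/-- the moves for the eleven standard products of `F₄` -/
def f4FuseMoves : List (List (Bool × ℕ)) :=
  [[], [],
   [(true, 29), (false, 3), (false, 2), (false, 1), (false, 2), (false, 3)],
   [(false, 0), (false, 1)],
   [],
   [(false, 3), (false, 2)],
   [(true, 27), (true, 33), (false, 0), (false, 1), (true, 27)],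
   [(true, 29), (true, 33), (false, 0), (false, 3), (false, 2), (false, 1), (true, 27)],
   [(true, 41), (true, 24), (false, 0), (false, 1), (false, 3), (false, 2), (true, 25)],
   [(true, 25), (true, 24), (false, 3), (false, 2), (true, 25)],
   [(true, 24), (true, 25), (true, 27), (true, 26), (true, 33), (true, 36), (false, 0), (false, 1),
    (false, 3), (false, 2), (false, 1), (false, 2)]]

set_option maxRecDepth 100000 in
theorem f4_fuse_chk : (List.range 11).all (fun k =>
    fuseb_ok chevF4 40 (f4FuseMoves.getD k []) (f4Std.getD k []) &&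
    (f4Rep.getD k []).all (fun r => decide (chevF4.IsPosRoot r)) &&
    decide (fuseb_run chevF4 40 (f4FuseMoves.getD k []) (f4Std.getD k []) =
      coll chevF4 40 (f4Rep.getD k []))) = true := by
  decide +kernel

/-- FUSE (backup) -/
theorem f4_fuse_b [CharP F 2] (hB : H8Base.{u} chevF4) (hA : H8ReflAll chevF4)
    (hC : H8CommAll.{u} chevF4) (hBN : H8BN chevF4) (hO : H8Ord chevF4) (k : ℕ) (hk : k < 11) :
    Cj chevF4 (w1 chevF4 hB (f4Std.getD k []) : GL chevF4.Idx F) (w1 chevF4 hB (f4Rep.getD k [])) := by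
  have h := f4_fuse_chk
  rw [List.all_eq_true] at h
  have hk' := h k (List.mem_range.mpr hk)
  rw [Bool.and_eq_true, Bool.and_eq_true, decide_eq_true_eq, List.all_eq_true] at hk'
  obtain ⟨⟨h1, h2⟩, h3⟩ := hk'
  rw [coll_sound chevF4 hB hC hBN hO 40 (f4Rep.getD k []) (fun r hr => of_decide_eq_true (h2 r hr)),
    ← h3]
  exact fuseb_run_cj chevF4 hB hA hC hBN hO 40 _ _ h1

end Cfsg.Agent.Lib.helper14.INV
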