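import Mathlib
import Cfsg.Prelude.Def_ChevStructure
import Cfsg.Agent.Lib.helper8.ChevH5

/-!
# Project INV: the diagonal subgroup `H` of a Chevalley group over a finite field of characteristic two
has odd order
-/

set_option autoImplicit false

namespace Cfsg.Agent.Lib.helper14.INV

open Cfsg.Lie Cfsg.Lie.ChevalleyDatum Cfsg.Agent.Lib.helper8

universe u

variable {F : Type u} [Field F]

theorem odd_card_sub_one' [Fintype F] [CharP F 2] : Odd (Fintype.card F - 1) := by
  obtain ⟨n, hn⟩ := FiniteField.card F 2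
  rw [hn.2]
  have h2 : 2 ∣ 2 ^ (n : ℕ) := dvd_pow_self 2 n.ne_zero
  have hpos : 0 < 2 ^ (n : ℕ) := by positivity
  rcases h2 with ⟨m, hm⟩
  rw [hm] at hpos ⊢
  refine ⟨m - 1, ?_⟩
  omega

theorem odd_of_mul_eq_pow (a b n k : ℕ) (h : a * b = n ^ k) (hn : Odd n) : Odd b := by
  have : Odd (a * b) := by rw [h]; exact hn.pow
  exact (Nat.odd_mul.mp this).2

/-- `|H|` is odd for every type -/
theorem H_card_odd [Fintype F] [CharP F 2] (D : ChevalleyDatum)
    (hD : D ∈ [chevG2, chevB2, chevD4, chevF4, chevE6, chevE7, chevE8]) :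
    Odd (Nat.card (D.diagonalSubgroup F)) := by
  have ho : Odd (Fintype.card F - 1) := odd_card_sub_one'
  simp only [List.mem_cons, List.not_mem_nil, or_false] at hD
  rcases hD with rfl | rfl | rfl | rfl | rfl | rfl | rfl
  · rw [h8H_card_G2]; exact ho.pow
  · exact odd_of_mul_eq_pow _ _ _ _ h8H_card_B2 ho
  · exact odd_of_mul_eq_pow _ _ _ _ h8H_card_D4 ho
  · rw [h8H_card_F4]; exact ho.pow
  · exact odd_of_mul_eq_pow _ _ _ _ h8H_card_E6 ho
  · exact odd_of_mul_eq_pow _ _ _ _ h8H_card_E7 ho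
  · rw [h8H_card_E8]; exact ho.pow

end Cfsg.Agent.Lib.helper14.INV
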