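import Mathlib
import Cfsg.Prelude.Def_ChevStructure
import Cfsg.Agent.Lib.helper14.INV.Defs
import Cfsg.Agent.Lib.helper8.ChevCnt1

/-!
# Project INV (S2174), piece NONCONJ, generic part

If `g y₁ g⁻¹ = y₂`, the `B`-conjugates of `yᵢ` are words over the list `Lᵢ` (cut out by witness Weyl
words) with non-vanishing coefficients at `L₀ᵢ`, then the Weyl group element `w` of the Bruhat cell of
`g` maps `L₀₁` into `L₂` and its inverse maps `L₀₂` into `L₁`.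
-/

set_option autoImplicit false

namespace Cfsg.Agent.Lib.helper14.INV

open Cfsg.Lie Cfsg.Lie.ChevalleyDatum Cfsg.Agent.Lib.helper8 Cfsg.Agent.Lib.helper14

universe u

variable {F : Type u} [Field F]

/-- one direction, for a given Bruhat decomposition of `g` -/
theorem nc_half (D : ChevalleyDatum) (hB : H8Base.{u} D) (hA : H8ReflAll D)
    (hC : H8CommAll.{u} D) (hBN : H8BN D) (hO : H8Ord D) (hO2 : H8Ord2 D)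
    (L₁ L₀₁ L₂ : List ℕ)
    (hfil₁ : (h8Lk D 0).filter (fun r => decide (r ∈ L₁)) = L₁)
    (hfil₂ : (h8Lk D 0).filter (fun r => decide (r ∈ L₂)) = L₂)
    (ws : List (List ℕ)) (hws : ∀ v ∈ ws, ∀ i ∈ v, i < D.rank)
    (hLpos : ∀ v ∈ ws, ∀ r ∈ L₂, D.IsPosRoot (h8sW D v r))
    (hLcl : ∀ s < D.nroots, (∀ v ∈ ws, D.IsPosRoot (h8sW D v s)) → s ∈ L₂)
    (y₁ y₂ : GL D.Idx F)
    (hBy₁ : ∀ b ∈ D.borelSubgroup F, ∃ c : ℕ → F, (∀ r ∈ L₀₁, c r ≠ 0) ∧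
      b * y₁ * b⁻¹ = f4cLW D hB L₁ c)
    (hBy₂ : ∀ b ∈ D.borelSubgroup F, ∃ c : ℕ → F, b * y₂ * b⁻¹ = f4cLW D hB L₂ c)
    (hL₀ : ∀ r ∈ L₀₁, r ∈ L₁ ∧ D.IsPosRoot r)
    (g b b' h0 : GL D.Idx F) (hb : b ∈ D.borelSubgroup F) (hb' : b' ∈ D.borelSubgroup F)
    (hh0 : h0 ∈ D.diagonalSubgroup F) (w : List ℕ) (hw : ∀ i ∈ w, i < D.rank)
    (e : g = b * (h0 * h8nWU D hB w) * b') (hconj : g * y₁ * g⁻¹ = y₂) :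
    ∀ r ∈ L₀₁, h8sW D w r ∈ L₂ := by
  obtain ⟨c, hc, hy⟩ := hBy₁ b' hb'
  have hb0 : (b * h0)⁻¹ ∈ D.borelSubgroup F :=
    Subgroup.inv_mem _ (Subgroup.mul_mem _ hb (h8H_le_B D hh0))
  obtain ⟨c', hy'⟩ := hBy₂ (b * h0)⁻¹ hb0
  have hνeq : (h8nWU D hB w : GL D.Idx F) = (b * h0)⁻¹ * g * b'⁻¹ := by
    rw [e]; group
  have hkey : (h8nWU D hB w : GL D.Idx F) * (b' * y₁ * b'⁻¹) *
      (h8nWU D hB w : GL D.Idx F)⁻¹ = (b * h0)⁻¹ * y₂ * ((b * h0)⁻¹)⁻¹ := by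
    have e2 : (h8nWU D hB w : GL D.Idx F) * (b' * y₁ * b'⁻¹) *
        (h8nWU D hB w : GL D.Idx F)⁻¹ =
        (b * h0)⁻¹ * (g * y₁ * g⁻¹) * ((b * h0)⁻¹)⁻¹ := by
      rw [hνeq]; group
    rw [e2, hconj]
  rw [hy, hy', f4cLW_eq_W D hB L₁ hfil₁, f4cLW_eq_W D hB L₂ hfil₂] at hkey
  intro r hr
  apply f4c_support D hB hA hC hBN hO hO2 L₂ ws hws hLpos hLcl w hw _ _ ?_ hkey r (hL₀ r hr).2
  · rw [if_pos (hL₀ r hr).1]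
    exact hc r hr
  · intro s _ hs
    by_contra hsL
    rw [if_neg hsL] at hs
    exact hs rfl

/-- both directions -/
theorem nc_core (D : ChevalleyDatum) (hB : H8Base.{u} D) (hA : H8ReflAll D)
    (hC : H8CommAll.{u} D) (hBN : H8BN D) (hW : H8BN2 D) (hO : H8Ord D) (hO2 : H8Ord2 D)
    (L₁ L₀₁ L₂ L₀₂ : List ℕ)
    (hfil₁ : (h8Lk D 0).filter (fun r => decide (r ∈ L₁)) = L₁)
    (hfil₂ : (h8Lk D 0).filter (fun r => decide (r ∈ L₂)) = L₂)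
    (ws₁ ws₂ : List (List ℕ)) (hws₁ : ∀ v ∈ ws₁, ∀ i ∈ v, i < D.rank)
    (hws₂ : ∀ v ∈ ws₂, ∀ i ∈ v, i < D.rank)
    (hLpos₁ : ∀ v ∈ ws₁, ∀ r ∈ L₁, D.IsPosRoot (h8sW D v r))
    (hLcl₁ : ∀ s < D.nroots, (∀ v ∈ ws₁, D.IsPosRoot (h8sW D v s)) → s ∈ L₁)
    (hLpos₂ : ∀ v ∈ ws₂, ∀ r ∈ L₂, D.IsPosRoot (h8sW D v r))
    (hLcl₂ : ∀ s < D.nroots, (∀ v ∈ ws₂, D.IsPosRoot (h8sW D v s)) → s ∈ L₂)
    (y₁ y₂ : GL D.Idx F)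
    (hBy₁ : ∀ b ∈ D.borelSubgroup F, ∃ c : ℕ → F, (∀ r ∈ L₀₁, c r ≠ 0) ∧
      b * y₁ * b⁻¹ = f4cLW D hB L₁ c)
    (hBy₂ : ∀ b ∈ D.borelSubgroup F, ∃ c : ℕ → F, (∀ r ∈ L₀₂, c r ≠ 0) ∧
      b * y₂ * b⁻¹ = f4cLW D hB L₂ c)
    (hL₀₁ : ∀ r ∈ L₀₁, r ∈ L₁ ∧ D.IsPosRoot r) (hL₀₂ : ∀ r ∈ L₀₂, r ∈ L₂ ∧ D.IsPosRoot r)
    (g : GL D.Idx F) (hg : g ∈ D.group F) (hconj : g * y₁ * g⁻¹ = y₂) :
    ∃ w w₂ : List ℕ, (∀ i ∈ w, i < D.rank) ∧ (∀ i ∈ w₂, i < D.rank) ∧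
      (∀ r ∈ L₀₁, h8sW D w r ∈ L₂) ∧ (∀ r ∈ L₀₂, h8sW D w₂ r ∈ L₁) ∧
      (∀ r < D.nroots, h8sW D w₂ (h8sW D w r) = r) ∧
      (∀ r < D.nroots, h8sW D w (h8sW D w₂ r) = r) := by
  obtain ⟨b, hb, n, hn, b', hb', e⟩ := h8bruhat D hB hA hC hBN hW g hg
  obtain ⟨h0, hh0, w, hw, rfl⟩ := h8N_word D hB hA hBN n hn
  obtain ⟨h2, hh2, w₂, hw₂, e2⟩ := h8N_word D hB hA hBN (h0 * h8nWU D hB w)⁻¹
    (Subgroup.inv_mem _ hn)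
  have hBy₂' : ∀ b ∈ D.borelSubgroup F, ∃ c : ℕ → F, b * y₂ * b⁻¹ = f4cLW D hB L₂ c := by
    intro b hb
    obtain ⟨c, _, hc⟩ := hBy₂ b hb
    exact ⟨c, hc⟩
  have hBy₁' : ∀ b ∈ D.borelSubgroup F, ∃ c : ℕ → F, b * y₁ * b⁻¹ = f4cLW D hB L₁ c := by
    intro b hb
    obtain ⟨c, _, hc⟩ := hBy₁ b hb
    exact ⟨c, hc⟩
  have h1 := nc_half D hB hA hC hBN hO hO2 L₁ L₀₁ L₂ hfil₁ hfil₂ ws₂ hws₂ hLpos₂ hLcl₂ y₁ y₂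
    hBy₁ hBy₂' hL₀₁ g b b' h0 hb hb' hh0 w hw e hconj
  have einv : g⁻¹ = b'⁻¹ * (h2 * h8nWU D hB w₂) * b⁻¹ := by
    rw [← e2, e]; group
  have hconj' : g⁻¹ * y₂ * g⁻¹⁻¹ = y₁ := by
    rw [← hconj]; group
  have h2' := nc_half D hB hA hC hBN hO hO2 L₂ L₀₂ L₁ hfil₂ hfil₁ ws₁ hws₁ hLpos₁ hLcl₁ y₂ y₁
    hBy₂ hBy₁' hL₀₂ g⁻¹ b'⁻¹ b⁻¹ h2 (Subgroup.inv_mem _ hb') (Subgroup.inv_mem _ hb) hh2 w₂ hw₂
    einv hconj'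
  refine ⟨w, w₂, hw, hw₂, h1, h2', ?_, ?_⟩
  · intro r hr
    -- `n_{w₂} = h2⁻¹ (h0 n_w)⁻¹` maps `w r` to `r`
    have hr' := h8sW_lt D hA w hw r hr
    have a1 : H8Act D hB (h0 * h8nWU D hB w : GL D.Idx F) r (h8sW D w r) :=
      h8act_mul D hB h0 _ _ _ _ (h8nWU_act D hB hA w hw r hr)
        (h8perm_H_id D hB h0 hh0 _ hr')
    have a2 := h8act_inv D hB _ _ _ a1
    have a3 : H8Act D hB (h2⁻¹ * (h0 * h8nWU D hB w : GL D.Idx F)⁻¹) (h8sW D w r) r :=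
      h8act_mul D hB h2⁻¹ _ _ _ _ a2 (h8perm_H_id D hB h2⁻¹ (Subgroup.inv_mem _ hh2) r hr)
    have e3 : (h8nWU D hB w₂ : GL D.Idx F) = h2⁻¹ * (h0 * h8nWU D hB w : GL D.Idx F)⁻¹ := by
      rw [e2]; group
    rw [← e3] at a3
    have a4 := h8nWU_act (F := F) D hB hA w₂ hw₂ (h8sW D w r) hr'
    exact h8act_unique D hB hA hBN hW hO2 _ _ _ _ (h8sW_lt D hA w₂ hw₂ _ hr') hr a4 a3
  · intro r hr
    have hr' := h8sW_lt D hA w₂ hw₂ r hr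
    have a1 : H8Act D hB (h2 * h8nWU D hB w₂ : GL D.Idx F) r (h8sW D w₂ r) :=
      h8act_mul D hB h2 _ _ _ _ (h8nWU_act D hB hA w₂ hw₂ r hr)
        (h8perm_H_id D hB h2 hh2 _ hr')
    have a2 := h8act_inv D hB _ _ _ a1
    have a3 : H8Act D hB (h0⁻¹ * (h2 * h8nWU D hB w₂ : GL D.Idx F)⁻¹) (h8sW D w₂ r) r :=
      h8act_mul D hB h0⁻¹ _ _ _ _ a2 (h8perm_H_id D hB h0⁻¹ (Subgroup.inv_mem _ hh0) r hr)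
    have e3 : (h8nWU D hB w : GL D.Idx F) = h0⁻¹ * (h2 * h8nWU D hB w₂ : GL D.Idx F)⁻¹ := by
      rw [← e2]; group
    rw [← e3] at a3
    have a4 := h8nWU_act (F := F) D hB hA w hw (h8sW D w₂ r) hr'
    exact h8act_unique D hB hA hBN hW hO2 _ _ _ _ (h8sW_lt D hA w hw _ hr') hr a4 a3

end Cfsg.Agent.Lib.helper14.INV
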