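import Mathlib
import Cfsg.Agent.Lib.Helper19.U3P.Defs
import Cfsg.Agent.Lib.Helper25.SU3P.Basic
import Cfsg.Agent.Lib.Helper25.SU3P.Center

/-! Project U3P (designer helper19), row X10 (`exists_US`) by helper14. -/

set_option autoImplicit false

namespace Cfsg.Agent.Lib.Helper19.U3P

open Cfsg.Agent.Lib.helper17.SLP Cfsg.Agent.Lib.helper14.SU3J Cfsg.Agent.Lib.Helper25.SU3P
open Polynomial Matrix

universe u v

section X

variable {F : Type u} [Field F] [Fintype F] {K : Type u} [Field K] [Fintype K] {q : ℕ}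

/-- the coordinate matrix of an inverse is a power of the coordinate matrix -/
theorem u3px10_cj_inv {σ : F →+* F} (c : Coords F q σ) (X : ↥(Cfsg.SU 3 F q)) :
    ∃ k : ℕ, c.cj X⁻¹ = (c.cj X) ^ k := by
  classical
  haveI : Finite ↥(Cfsg.SU 3 F q) := inferInstance
  have hn : 0 < orderOf X := orderOf_pos X
  refine ⟨orderOf X - 1, ?_⟩
  rw [← c.cj_pow]
  congr 1
  rw [inv_eq_iff_mul_eq_one, ← pow_succ', Nat.sub_add_cancel hn, pow_orderOf_eq_one]

/-- X10 -/
theorem exists_US (D : Par F K q) :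
    ∃ US : Subgroup ↥(Cfsg.SU 3 F q), ∀ X, X ∈ US ↔ IsUT (D.c.cj X) := by
  refine ⟨{ carrier := {X | IsUT (D.c.cj X)}
            mul_mem' := ?_
            one_mem' := ?_
            inv_mem' := ?_ }, fun X => Iff.rfl⟩
  · intro X Y hX hY
    show IsUT (D.c.cj (X * Y))
    rw [D.c.cj_mul]
    exact isUT_mul hX hY
  · show IsUT (D.c.cj 1)
    rw [D.c.cj_one]
    exact CenterAux.isUT_one
  · intro X hX
    show IsUT (D.c.cj X⁻¹)
    obtain ⟨k, hk⟩ := u3px10_cj_inv D.c X
    rw [hk]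
    exact CenterAux.isUT_pow hX k

end X

end Cfsg.Agent.Lib.Helper19.U3P
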