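import Mathlib
import Cfsg.Agent.Lib.Helper19.U3P.Defs
import Cfsg.Agent.Lib.Helper25.SU3P.Basic
import Cfsg.Agent.Lib.Helper25.SU3P.Center
import Cfsg.Agent.Lib.Helper25.SU3P.Conj
import Cfsg.Agent.Lib.Lead.Unitary
import Cfsg.Agent.Lib.helper14.U3PX11

/-! Project U3P (designer helper19), row X12 (`card_US`) by helper14: core on the statement of F12. -/

set_option autoImplicit false

namespace Cfsg.Agent.Lib.Helper19.U3P

open Cfsg.Agent.Lib.helper17.SLP Cfsg.Agent.Lib.helper14.SU3J Cfsg.Agent.Lib.Helper25.SU3P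
open Polynomial Matrix

universe u v

section X

variable {F : Type u} [Field F] [Fintype F] {K : Type u} [Field K] [Fintype K] {q : ℕ}

/-- the unitriangular elements correspond to the solutions of the norm equation -/
noncomputable def u3px12_equiv (D : Par F K q) (hF : Fintype.card F = q ^ 2)
    (US : Subgroup ↥(Cfsg.SU 3 F q)) (hUS : ∀ X, X ∈ US ↔ IsUT (D.c.cj X)) :
    ↥US ≃ {v : F × F // v.2 + D.σ v.2 + v.1 * D.σ v.1 = 0} := by
  have hσσ : ∀ x, D.σ (D.σ x) = x := Cfsg.Agent.Lib.Lead.frob_frob hF D.σ D.hσ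
  refine Equiv.ofBijective
    (fun X => ⟨((D.c.cj X.1) 0 1, (D.c.cj X.1) 0 2),
      (u3px11_aux D.σ hσσ (D.c.cj X.1) ((hUS X.1).mp X.2) (D.c.cj_presJ X.1)).1⟩) ⟨?_, ?_⟩
  · intro X Y h
    have h1 : (D.c.cj X.1) 0 1 = (D.c.cj Y.1) 0 1 := congrArg (fun v => v.1.1) h
    have h2 : (D.c.cj X.1) 0 2 = (D.c.cj Y.1) 0 2 := congrArg (fun v => v.1.2) h
    have eX := (u3px11_aux D.σ hσσ (D.c.cj X.1) ((hUS X.1).mp X.2) (D.c.cj_presJ X.1)).2
    have eY := (u3px11_aux D.σ hσσ (D.c.cj Y.1) ((hUS Y.1).mp Y.2) (D.c.cj_presJ Y.1)).2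
    apply Subtype.ext
    apply D.c.cj_inj
    rw [eX, eY, h1, h2]
  · rintro ⟨⟨α, β⟩, hv⟩
    obtain ⟨X, hX⟩ := D.c.exists_lift (uu D.σ α β) (ConjAux.presJ_uu D.σ hσσ α β hv)
      (ConjAux.det_uu D.σ α β)
    have hXU : X ∈ US := (hUS X).mpr (by rw [hX]; exact CenterAux.isUT_uu D.σ α β)
    refine ⟨⟨X, hXU⟩, ?_⟩
    apply Subtype.ext
    show ((D.c.cj X) 0 1, (D.c.cj X) 0 2) = (α, β)
    rw [hX]
    simp [uu]

/-- X12, core: with the statement of F12 (`card_val`) as a hypothesis -/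
theorem card_US_core (D : Par F K q) (hF : Fintype.card F = q ^ 2) (US : Subgroup ↥(Cfsg.SU 3 F q))
    (hUS : ∀ X, X ∈ US ↔ IsUT (D.c.cj X))
    (hF12 : Nat.card {v : F × F // v.2 + D.σ v.2 + v.1 * D.σ v.1 = 0} = q ^ 3) :
    Nat.card ↥US = q ^ 3 := by
  rw [Nat.card_congr (u3px12_equiv D hF US hUS), hF12]

end X

end Cfsg.Agent.Lib.Helper19.U3P
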