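import Mathlib
import Cfsg.Agent.Lib.helper14.U3PX12
import Cfsg.Agent.Lib.helper7.U3PF12

/-! Project U3P (designer helper19), row X12 (`card_US`) by helper14: verbatim, on helper7's F12. -/

set_option autoImplicit false

namespace Cfsg.Agent.Lib.Helper19.U3P

open Cfsg.Agent.Lib.helper17.SLP Cfsg.Agent.Lib.helper14.SU3J Cfsg.Agent.Lib.Helper25.SU3P
open Polynomial Matrix

universe u v

section X

variable {F : Type u} [Field F] [Fintype F] {K : Type u} [Field K] [Fintype K] {q : ℕ}

/-- X12 -/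
theorem card_US (D : Par F K q) (hF : Fintype.card F = q ^ 2) (US : Subgroup ↥(Cfsg.SU 3 F q))
    (hUS : ∀ X, X ∈ US ↔ IsUT (D.c.cj X)) : Nat.card ↥US = q ^ 3 :=
  card_US_core D hF US hUS (card_val D hF)

end X

end Cfsg.Agent.Lib.Helper19.U3P
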