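import Mathlib
import Cfsg.Agent.Lib.Helper19.U3P.Defs
import Cfsg.Agent.Lib.Helper19.U3PX1
import Cfsg.Agent.Lib.Helper25.SU3P.Basic
import Cfsg.Agent.Lib.Helper25.SU3P.Center
import Cfsg.Agent.Lib.helper14.U3PX11

/-! Project U3P (designer helper19), row X18 (`reps_S`) by helper14. -/

set_option autoImplicit false

namespace Cfsg.Agent.Lib.Helper19.U3P

open Cfsg.Agent.Lib.helper17.SLP Cfsg.Agent.Lib.helper14.SU3J Cfsg.Agent.Lib.Helper25.SU3P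
open Polynomial Matrix

universe u v

section X

variable {F : Type u} [Field F] [Fintype F] {K : Type u} [Field K] [Fintype K] {q : ℕ}

variable {D : Par F K q} {a b c : ↥(Cfsg.SU 3 F q)} {ρ : SL2 K →* ↥(Cfsg.SU 3 F q)}

/-- one representative: if `X` and `b^i y b^-i` have the same `α`-coordinate, they differ by an
element of `Z` -/
theorem u3px18_aux (hG : Gens D a b c ρ) (hσσ : ∀ x, D.σ (D.σ x) = x) (hγ : D.γ0 ≠ 0)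
    (hγσ : D.σ D.γ0 = -D.γ0) (y : ↥(Cfsg.SU 3 F q)) (αy βy : F) (hy : D.c.cj y = uu D.σ αy βy)
    (X : ↥(Cfsg.SU 3 F q)) (α β : F) (hX : D.c.cj X = uu D.σ α β) (i : ℤ)
    (hα : α = D.al ^ i * αy) :
    ∃ t : K, X = ρ (xM t) * b ^ i * y * b ^ (-i) := by
  have hW : D.c.cj (cj b y i) = uu D.σ (D.al ^ i * αy) (D.bl ^ i * βy) :=
    cj_b_U hG hσσ y αy βy hy i
  have hWUT : IsUT (D.c.cj (cj b y i)) := by
    rw [hW]; exact CenterAux.isUT_uu D.σ _ _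
  have hv := (u3px11_aux D.σ hσσ (D.c.cj (cj b y i)) hWUT (D.c.cj_presJ _)).1
  rw [hW] at hv
  have hv' : D.bl ^ i * βy + D.σ (D.bl ^ i * βy) + D.al ^ i * αy * D.σ (D.al ^ i * αy) = 0 := by
    simpa [uu] using hv
  have hWi := u3px1_cj_inv (D := D) (cj b y i) _ _ hW hv'
  have hZ : D.c.cj (X * (cj b y i)⁻¹) =
      uu D.σ 0 (β + D.σ (D.bl ^ i * βy) - α * D.σ (-(D.al ^ i * αy))) := by
    rw [D.c.cj_mul, hX, hWi, uu_mul, hα]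
    congr 1
    ring
  obtain ⟨t, ht⟩ := Z_of_alpha_zero hG hγ hγσ _ _ hZ
  refine ⟨t, ?_⟩
  rw [← ht]
  unfold cj
  group

/-- X18 -/
theorem reps_S (hG : Gens D a b c ρ) (hσσ : ∀ x, D.σ (D.σ x) = x) (hγ : D.γ0 ≠ 0) (hγσ : D.σ D.γ0 = -D.γ0)
    (α₁ α₂ : F) (hreps : ∀ x : F, x ≠ 0 → ∃ i : ℤ, x = D.al ^ i ∨ x = D.al ^ i * α₁ ∨ x = D.al ^ i * α₂)
    (Y₁ Y₂ : ↥(Cfsg.SU 3 F q)) (β₁ β₂ : F) (h1 : D.c.cj Y₁ = uu D.σ α₁ β₁) (h2 : D.c.cj Y₂ = uu D.σ α₂ β₂)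
    (X : ↥(Cfsg.SU 3 F q)) (hX : IsUT (D.c.cj X)) (hXZ : ∀ t : K, X ≠ ρ (xM t)) :
    ∃ (t : K) (i : ℤ) (y : ↥(Cfsg.SU 3 F q)), (y = a ∨ y = Y₁ ∨ y = Y₂) ∧
      X = ρ (xM t) * b ^ i * y * b ^ (-i) := by
  obtain ⟨-, hXu⟩ := u3px11_aux D.σ hσσ (D.c.cj X) hX (D.c.cj_presJ X)
  have hα : (D.c.cj X) 0 1 ≠ 0 := by
    intro h0
    rw [h0] at hXu
    obtain ⟨t, ht⟩ := Z_of_alpha_zero hG hγ hγσ X _ hXu
    exact hXZ t ht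
  obtain ⟨i, hi | hi | hi⟩ := hreps _ hα
  · obtain ⟨t, ht⟩ := u3px18_aux hG hσσ hγ hγσ a 1 D.β0 hG.ha X _ _ hXu i (by rw [hi, mul_one])
    exact ⟨t, i, a, Or.inl rfl, ht⟩
  · obtain ⟨t, ht⟩ := u3px18_aux hG hσσ hγ hγσ Y₁ α₁ β₁ h1 X _ _ hXu i hi
    exact ⟨t, i, Y₁, Or.inr (Or.inl rfl), ht⟩
  · obtain ⟨t, ht⟩ := u3px18_aux hG hσσ hγ hγσ Y₂ α₂ β₂ h2 X _ _ hXu i hi
    exact ⟨t, i, Y₂, Or.inr (Or.inr rfl), ht⟩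

end X

end Cfsg.Agent.Lib.Helper19.U3P
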