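import Mathlib

/-!
# Project BD, wave 4, piece SINGCONJ

A `p`-singular element is conjugate to an element of `C_G(P)` when `P` is a Sylow `p`-subgroup of order `p`.
-/

set_option autoImplicit false

namespace Cfsg.Agent.Lib.helper7.BD

universe u

/-- SINGCONJ : a `p`-singular element is conjugate to an element of `C_G(P)` -/
theorem sing_conj_mem_centralizer {G : Type u} [Group G] [Finite G] {p : ℕ} [Fact p.Prime]
    (P : Sylow p G) (hP : Nat.card P = p) (g : G) (hg : p ∣ orderOf g) :
    ∃ k : G, k * g * k⁻¹ ∈ Subgroup.centralizer ((P : Subgroup G) : Set G) := by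
  classical
  have hp : p.Prime := Fact.out
  obtain ⟨d, hd⟩ := hg
  have hpos : 0 < orderOf g := orderOf_pos g
  have hdpos : 0 < d := by
    rcases Nat.eq_zero_or_pos d with h | h
    · rw [h, mul_zero] at hd; omega
    · exact h
  set z : G := g ^ d with hz
  have hzord : orderOf z = p := by
    rw [hz, orderOf_pow' g hdpos.ne', hd, Nat.gcd_eq_right (Dvd.intro_left p rfl)]
    exact Nat.mul_div_cancel p hdpos
  -- ⟨z⟩ is a p-group
  have hzp : IsPGroup p (Subgroup.zpowers z) := by
    apply IsPGroup.of_card (n := 1)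
    rw [Nat.card_zpowers, hzord, pow_one]
  obtain ⟨Q, hQ⟩ := hzp.exists_le_sylow
  obtain ⟨k, hk⟩ := MulAction.exists_smul_eq G Q P
  refine ⟨k, ?_⟩
  have hzQ : z ∈ (Q : Subgroup G) := hQ (Subgroup.mem_zpowers z)
  have hkz : k * z * k⁻¹ ∈ (P : Subgroup G) := by
    rw [← hk, Sylow.smul_def, Sylow.pointwise_smul_def,
      Subgroup.mem_pointwise_smul_iff_inv_smul_mem]
    simp only [MulAut.smul_def, MulAut.conj_inv_apply]
    have : k⁻¹ * (k * z * k⁻¹) * k = z := by group
    rw [this]; exact hzQ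
  -- P = zpowers (k z k⁻¹)
  have hord2 : orderOf (k * z * k⁻¹) = p := by
    have hs : SemiconjBy k z (k * z * k⁻¹) := by
      unfold SemiconjBy; group
    rw [← hs.orderOf_eq]; exact hzord
  have hPeq : Subgroup.zpowers (k * z * k⁻¹) = (P : Subgroup G) := by
    apply Subgroup.eq_of_le_of_card_ge
    · rw [Subgroup.zpowers_le]; exact hkz
    · rw [Nat.card_zpowers, hord2, hP]
  rw [Subgroup.mem_centralizer_iff]
  intro x hx
  rw [SetLike.mem_coe, ← hPeq, Subgroup.mem_zpowers_iff] at hx
  obtain ⟨n, rfl⟩ := hx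
  have hc : Commute (k * z * k⁻¹) (k * g * k⁻¹) := by
    have : k * z * k⁻¹ = (k * g * k⁻¹) ^ d := by
      rw [conj_pow]
    rw [this]
    exact (Commute.refl _).pow_left d
  exact (hc.zpow_left n).eq

end Cfsg.Agent.Lib.helper7.BD
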