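import Mathlib
import Cfsg.Agent.Lib.Helper24.SU3M.Defs
import Cfsg.Agent.Lib.helper14.U3PX10
import Cfsg.Agent.Lib.helper14.U3PX11
import Cfsg.Agent.Lib.helper14.U3PX12fin
import Cfsg.Agent.Lib.Helper19.U3PX1
import Cfsg.Agent.Lib.Lead.Unitary

/-!
# Project SU3M (designer helper24; rank one half of S2089), rows U1 (`mem_Ug`), U2 (`mem_Ag`), U3 (`Ag_central`),
U7 (`card_Ug`), by helper14.
-/

set_option autoImplicit false

namespace Cfsg.Agent.Lib.Helper24.SU3M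

open Cfsg.Agent.Lib.Helper19.U3P Cfsg.Agent.Lib.Helper25.SU3P Cfsg.Agent.Lib.helper14.SU3J Matrix

universe u

section U

variable {F : Type u} [Field F] [Fintype F] {K : Type u} [Field K] [Fintype K] {q : ℕ}

/-- U1 -/
theorem mem_Ug (D : Par F K q) (X : ↥(Cfsg.SU 3 F q)) : X ∈ Ug D ↔ IsUT (D.c.cj X) := by
  obtain ⟨US, hUS⟩ := exists_US D
  have e : {X : ↥(Cfsg.SU 3 F q) | IsUT (D.c.cj X)} = (US : Set ↥(Cfsg.SU 3 F q)) := by
    ext Y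
    exact (hUS Y).symm
  unfold Ug
  rw [e, Subgroup.closure_eq]
  exact hUS X

/-- the subgroup with carrier `{X | ∃ e, cj X = uu σ 0 e}` -/
theorem su3mu1_exists_AS (D : Par F K q) :
    ∃ AS : Subgroup ↥(Cfsg.SU 3 F q), ∀ X, X ∈ AS ↔ ∃ e : F, D.c.cj X = uu D.σ 0 e := by
  refine ⟨{ carrier := {X | ∃ e : F, D.c.cj X = uu D.σ 0 e}
            mul_mem' := ?_
            one_mem' := ?_
            inv_mem' := ?_ }, fun X => Iff.rfl⟩
  · rintro X Y ⟨e, he⟩ ⟨e', he'⟩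
    refine ⟨e + e', ?_⟩
    rw [D.c.cj_mul, he, he', uu_mul]
    congr 1
    · ring
    · rw [zero_mul, sub_zero]
  · exact ⟨0, by rw [D.c.cj_one, u3px1_uu_zero]⟩
  · rintro X ⟨e, he⟩
    refine ⟨-e, ?_⟩
    have h1 := D.c.cj_mul_inv X
    rw [he] at h1
    have h2 : uu D.σ 0 e * uu D.σ 0 (-e) = 1 := by
      rw [uu_mul, ← u3px1_uu_zero D.σ]
      congr 1
      · ring
      · rw [zero_mul, sub_zero, add_neg_cancel]
    exact u3px1_inv_unique _ _ _ h1 h2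

/-- U2 -/
theorem mem_Ag (D : Par F K q) (X : ↥(Cfsg.SU 3 F q)) : X ∈ Ag D ↔ ∃ e : F, D.c.cj X = uu D.σ 0 e := by
  obtain ⟨AS, hAS⟩ := su3mu1_exists_AS D
  have e : {X : ↥(Cfsg.SU 3 F q) | ∃ e : F, D.c.cj X = uu D.σ 0 e} = (AS : Set ↥(Cfsg.SU 3 F q)) := by
    ext Y
    exact (hAS Y).symm
  unfold Ag
  rw [e, Subgroup.closure_eq]
  exact hAS X

/-- U3 -/
theorem Ag_central (D : Par F K q) (hF : Fintype.card F = q ^ 2) :
    Ag D ≤ Ug D ∧ ∀ X ∈ Ag D, ∀ Y ∈ Ug D, X * Y = Y * X := by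
  have hσσ : ∀ x, D.σ (D.σ x) = x := Cfsg.Agent.Lib.Lead.frob_frob hF D.σ D.hσ
  constructor
  · intro X hX
    rw [mem_Ag] at hX
    obtain ⟨e, he⟩ := hX
    rw [mem_Ug, he]
    exact CenterAux.isUT_uu D.σ 0 e
  · intro X hX Y hY
    rw [mem_Ag] at hX
    obtain ⟨e, he⟩ := hX
    rw [mem_Ug, isUT_iff D hσσ] at hY
    obtain ⟨α, β, -, hY⟩ := hY
    apply D.c.cj_inj
    rw [D.c.cj_mul, D.c.cj_mul, he, hY, uu_mul, uu_mul]
    congr 1
    · ring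
    · rw [map_zero]; ring

/-- U7 -/
theorem card_Ug (D : Par F K q) (hF : Fintype.card F = q ^ 2) : Nat.card ↥(Ug D) = q ^ 3 :=
  card_US D hF (Ug D) (mem_Ug D)

end U

end Cfsg.Agent.Lib.Helper24.SU3M
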