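import Mathlib
import Cfsg.Agent.Lib.helper14.SU3MU1
import Cfsg.Agent.Lib.Helper25.SU3P.Main
import Cfsg.Agent.Lib.Helper20.SU3MNT1

/-!
# Project SU3M (designer helper24), row P8 (`Bg_index`), by helper14.
-/

set_option autoImplicit false

namespace Cfsg.Agent.Lib.Helper24.SU3M

open Cfsg.Agent.Lib.Helper19.U3P Cfsg.Agent.Lib.Helper25.SU3P Cfsg.Agent.Lib.helper14.SU3J Matrix

universe u

section P

variable {F : Type u} [Field F] [Fintype F] {K : Type u} [Field K] [Fintype K] {q : ℕ}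

/-- `q` is a positive power of the characteristic -/
theorem su3mp8_q_pow (hF : Fintype.card F = q ^ 2) (p : ℕ) [Fact p.Prime] [CharP F p] :
    ∃ f : ℕ, 1 ≤ f ∧ q = p ^ f := by
  have hp : p.Prime := Fact.out
  obtain ⟨n, hn⟩ := FiniteField.card F p
  have h1 : q ∣ p ^ (n : ℕ) := by
    rw [← hn.2, hF]
    exact Dvd.intro_left (q ^ 1) (by ring)
  obtain ⟨f, -, hf⟩ := (Nat.dvd_prime_pow hp).mp h1
  refine ⟨f, ?_, hf⟩
  rcases Nat.eq_zero_or_pos f with h0 | h0
  · exfalso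
    rw [h0, pow_zero] at hf
    rw [hf, one_pow] at hF
    have := Fintype.one_lt_card (α := F)
    omega
  · exact h0

/-- P8 -/
theorem Bg_index (D : Par F K q) (hF : Fintype.card F = q ^ 2) (hz : ↥(Cfsg.SU 3 F q)) (p : ℕ) [Fact p.Prime] [CharP F p] :
    ¬ p ∣ (Bg D hz).index := by
  have hp : p.Prime := Fact.out
  obtain ⟨f, hf1, hf⟩ := su3mp8_q_pow hF p
  have hle : Ug D ≤ Bg D hz := by
    unfold Bg
    exact le_sup_left
  have hdvd : Nat.card ↥(Ug D) ∣ Nat.card ↥(Bg D hz) := Subgroup.card_dvd_of_le hle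
  rw [card_Ug D hF] at hdvd
  have hmul := Subgroup.index_mul_card (Bg D hz)
  rw [card_SU3 hF] at hmul
  exact nt_p p f (Bg D hz).index (Nat.card ↥(Bg D hz)) hp hf1 (by rw [← hf]; exact hdvd)
    (by rw [← hf]; exact hmul)

end P

end Cfsg.Agent.Lib.Helper24.SU3M
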