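import Mathlib
import Cfsg.Agent.Lib.helper14.SU3MU1
import Cfsg.Agent.Lib.Helper18.U3PF1
import Cfsg.Agent.Lib.helper7.CeA

/-!
# Project SU3M (designer helper24; rank one half of S2089), rows U4 (`Ag_comm`), U5 (`hz_conj`), U6 (`ex_uu`),
U8 (`ex_alpha`), by helper14.
-/

set_option autoImplicit false

namespace Cfsg.Agent.Lib.Helper24.SU3M

open Cfsg.Agent.Lib.Helper19.U3P Cfsg.Agent.Lib.Helper25.SU3P Cfsg.Agent.Lib.helper14.SU3J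
  Cfsg.Agent.Lib.helper7.Ce Matrix

universe u

section U

variable {F : Type u} [Field F] [Fintype F] {K : Type u} [Field K] [Fintype K] {q : ℕ}

/-- a lift of `uu α β` for a solution of the norm equation lies in `Ug` -/
theorem su3mu4_lift (D : Par F K q) (hF : Fintype.card F = q ^ 2) (α β : F)
    (hv : β + D.σ β + α * D.σ α = 0) : ∃ X ∈ Ug D, D.c.cj X = uu D.σ α β := by
  have hσσ : ∀ x, D.σ (D.σ x) = x := Cfsg.Agent.Lib.Lead.frob_frob hF D.σ D.hσ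
  obtain ⟨X, hX⟩ := D.c.exists_lift (uu D.σ α β) (ConjAux.presJ_uu D.σ hσσ α β hv)
    (ConjAux.det_uu D.σ α β)
  refine ⟨X, ?_, hX⟩
  rw [mem_Ug, hX]
  exact CenterAux.isUT_uu D.σ α β

/-- U6 -/
theorem ex_uu (D : Par F K q) (hF : Fintype.card F = q ^ 2) (α : F) :
    ∃ X ∈ Ug D, ∃ β : F, D.c.cj X = uu D.σ α β := by
  have hσσ : ∀ x, D.σ (D.σ x) = x := Cfsg.Agent.Lib.Lead.frob_frob hF D.σ D.hσ
  have hfix : D.σ (-(α * D.σ α)) = -(α * D.σ α) := by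
    rw [map_neg, map_mul, hσσ, mul_comm]
  obtain ⟨β, hβ⟩ := (trace_surj hF D.σ D.hσ).1 _ hfix
  obtain ⟨X, hXU, hX⟩ := su3mu4_lift D hF α β (by rw [hβ]; ring)
  exact ⟨X, hXU, β, hX⟩

/-- U5 -/
theorem hz_conj (D : Par F K q) (hF : Fintype.card F = q ^ 2) {hz : ↥(Cfsg.SU 3 F q)} (hhz : D.c.cj hz = dd D.σ (D.ζ : F))
    (X : ↥(Cfsg.SU 3 F q)) (α β : F) (hX : D.c.cj X = uu D.σ α β) : D.c.cj (hz * X * hz⁻¹) = uu D.σ (D.al * α) (D.bl * β) := by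
  have hσσ : ∀ x, D.σ (D.σ x) = x := Cfsg.Agent.Lib.Lead.frob_frob hF D.σ D.hσ
  have hinv : D.c.cj hz⁻¹ = ConjAux.ddi D.σ (D.ζ : F) := by
    have h1 := D.c.cj_mul_inv hz
    rw [hhz] at h1
    exact u3px1_inv_unique _ _ _ h1 (ConjAux.dd_mul_ddi D.σ _ (Units.ne_zero D.ζ))
  rw [D.c.cj_conj, hhz, hX, hinv, u3px1_dd_conj D.σ hσσ _ (Units.ne_zero D.ζ)]
  rfl

/-- U8 -/
theorem ex_alpha (D : Par F K q) (hF : Fintype.card F = q ^ 2) :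
    ∃ a : ↥(Cfsg.SU 3 F q) → F, (∀ X ∈ Ug D, ∃ β, D.c.cj X = uu D.σ (a X) β) ∧ (∀ X ∈ Ug D, ∀ Y ∈ Ug D, a (X * Y) = a X + a Y) ∧
      (∀ X ∈ Ug D, a X = 0 → X ∈ Ag D) := by
  have hσσ : ∀ x, D.σ (D.σ x) = x := Cfsg.Agent.Lib.Lead.frob_frob hF D.σ D.hσ
  have key : ∀ X ∈ Ug D, ∃ β, D.c.cj X = uu D.σ ((D.c.cj X) 0 1) β := by
    intro X hX
    rw [mem_Ug, isUT_iff D hσσ] at hX
    obtain ⟨α, β, -, h⟩ := hX
    refine ⟨β, ?_⟩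
    have : (D.c.cj X) 0 1 = α := by rw [h]; simp [uu]
    rw [this, h]
  refine ⟨fun X => (D.c.cj X) 0 1, key, ?_, ?_⟩
  · intro X hX Y hY
    obtain ⟨β, h1⟩ := key X hX
    obtain ⟨β', h2⟩ := key Y hY
    show (D.c.cj (X * Y)) 0 1 = (D.c.cj X) 0 1 + (D.c.cj Y) 0 1
    rw [D.c.cj_mul]
    conv_lhs => rw [h1, h2, uu_mul]
    simp [uu]
  · intro X hX h0
    obtain ⟨β, h1⟩ := key X hX
    rw [mem_Ag]
    refine ⟨β, ?_⟩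
    have h0' : (D.c.cj X) 0 1 = 0 := h0
    rw [h0'] at h1
    exact h1

/-- U4 -/
theorem Ag_comm (D : Par F K q) (hF : Fintype.card F = q ^ 2) :
    ∀ X ∈ Ag D, ∃ Y₁ ∈ Ug D, ∃ Y₂ ∈ Ug D, X = cm Y₁ Y₂ := by
  have hσσ : ∀ x, D.σ (D.σ x) = x := Cfsg.Agent.Lib.Lead.frob_frob hF D.σ D.hσ
  intro X hX
  have hXU : X ∈ Ug D := (Ag_central D hF).1 hX
  rw [mem_Ag] at hX
  obtain ⟨e, he⟩ := hX
  -- `e` is skew
  have hskew : e + D.σ e = 0 := by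
    rw [mem_Ug, isUT_iff D hσσ] at hXU
    obtain ⟨α', β', hv, h⟩ := hXU
    rw [he] at h
    obtain ⟨h1, h2⟩ := u3px1_uu_inj D.σ h
    rw [← h1, ← h2] at hv
    rw [zero_mul, add_zero] at hv
    exact hv
  -- `c` with `c + σ c = 1`
  obtain ⟨c, hc⟩ := (trace_surj hF D.σ D.hσ).1 1 (map_one D.σ)
  -- the two elements
  obtain ⟨Y₁, hY₁U, β, hY₁⟩ := ex_uu D hF (-(c * e))
  obtain ⟨Y₂, hY₂U, hY₂⟩ := su3mu4_lift D hF 1 D.β0 (by rw [map_one, mul_one]; exact D.hβ0)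
  refine ⟨Y₁, hY₁U, Y₂, hY₂U, ?_⟩
  -- `Y₁ Y₂ = Z (Y₂ Y₁)` with `cj Z = uu 0 e`, i.e. `Z = X`
  have hσe : D.σ e = -e := by linear_combination hskew
  have hprod : D.c.cj (Y₁ * Y₂) = D.c.cj (X * (Y₂ * Y₁)) := by
    rw [D.c.cj_mul, D.c.cj_mul, D.c.cj_mul, he, hY₁, hY₂, uu_mul, uu_mul, uu_mul]
    congr 1
    · ring
    · rw [map_one, map_neg, map_mul, hσe]
      have hc' : D.σ c = 1 - c := by linear_combination hc
      rw [hc']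
      ring
  have h3 : Y₁ * Y₂ = X * (Y₂ * Y₁) := D.c.cj_inj hprod
  unfold cm
  have : Y₁ * Y₂ * Y₁⁻¹ * Y₂⁻¹ = (Y₁ * Y₂) * (Y₂ * Y₁)⁻¹ := by group
  rw [this, h3]
  group

end U

end Cfsg.Agent.Lib.Helper24.SU3M
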