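import Mathlib
import Cfsg.Agent.Lib.helper14.SU3MU4

/-!
# Project SU3M (designer helper24), rows P1 (`NA_comm`), P2a (`A0_eq`), P2b (`A0_inter`, core on the statement of FL3
`al_facts`), P2c (`A0_map`, core on FL3), by helper14.
-/

set_option autoImplicit false

namespace Cfsg.Agent.Lib.Helper24.SU3M

open Cfsg.Agent.Lib.Helper19.U3P Cfsg.Agent.Lib.Helper25.SU3P Cfsg.Agent.Lib.helper14.SU3J
  Cfsg.Agent.Lib.helper7.Ce Matrix

universe u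

section P

variable {F : Type u} [Field F] [Fintype F] {K : Type u} [Field K] [Fintype K] {q : ℕ} {Γ : Type*} [Group Γ] {π : Γ →* ↥(Cfsg.SU 3 F q)}

/-- P1 -/
theorem NA_comm (D : Par F K q) (hF : Fintype.card F = q ^ 2) (h : IsCE π) :
    ∀ y ∈ (Ag D).comap π, ∀ y' ∈ (Ag D).comap π, y * y' = y' * y := by
  intro y hy y' hy'
  rw [Subgroup.mem_comap] at hy hy'
  obtain ⟨Y₁, hY₁, Y₂, hY₂, e⟩ := Ag_comm D hF (π y) hy
  have hc := (Ag_central D hF).2 (π y') hy'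
  have h1 : Y₁ * π y' = π y' * Y₁ := (hc Y₁ hY₁).symm
  have h2 : Y₂ * π y' = π y' * Y₂ := (hc Y₂ hY₂).symm
  exact h.milnor h1 h2 y y' e rfl

/-- conjugation by a lift of `hz` maps `NA` to itself -/
theorem su3mp1_conj_mem (D : Par F K q) (hF : Fintype.card F = q ^ 2) {hz : ↥(Cfsg.SU 3 F q)}
    (hhz : D.c.cj hz = dd D.σ (D.ζ : F)) {t : Γ} (ht : π t = hz) (y : Γ) (hy : y ∈ (Ag D).comap π) :
    t * y * t⁻¹ ∈ (Ag D).comap π := by
  rw [Subgroup.mem_comap] at hy ⊢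
  rw [mem_Ag] at hy
  obtain ⟨e, he⟩ := hy
  rw [map_mul, map_mul, map_inv, ht, mem_Ag]
  refine ⟨D.bl * e, ?_⟩
  rw [hz_conj D hF hhz (π y) 0 e he, mul_zero]

/-- `cm t y ∈ NA` -/
theorem su3mp1_cm_mem (D : Par F K q) (hF : Fintype.card F = q ^ 2) {hz : ↥(Cfsg.SU 3 F q)}
    (hhz : D.c.cj hz = dd D.σ (D.ζ : F)) {t : Γ} (ht : π t = hz) (y : Γ) (hy : y ∈ (Ag D).comap π) :
    cm t y ∈ (Ag D).comap π := by
  have h1 := su3mp1_conj_mem D hF hhz ht y hy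
  have : cm t y = (t * y * t⁻¹) * y⁻¹ := rfl
  rw [this]
  exact Subgroup.mul_mem _ h1 (Subgroup.inv_mem _ hy)

/-- `y ↦ cm t y` is multiplicative on `NA` -/
theorem su3mp1_cm_mul (D : Par F K q) (hF : Fintype.card F = q ^ 2) (h : IsCE π) {hz : ↥(Cfsg.SU 3 F q)}
    (hhz : D.c.cj hz = dd D.σ (D.ζ : F)) {t : Γ} (ht : π t = hz) (y y' : Γ) (hy : y ∈ (Ag D).comap π)
    (hy' : y' ∈ (Ag D).comap π) : cm t (y * y') = cm t y * cm t y' := by
  rw [cm_mul_right]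
  have h1 := su3mp1_cm_mem D hF hhz ht y' hy'
  have h2 := NA_comm D hF h y hy (cm t y') h1
  rw [h2, mul_inv_cancel_right]

/-- P2a -/
theorem A0_eq (D : Par F K q) (hF : Fintype.card F = q ^ 2) (h : IsCE π) {hz : ↥(Cfsg.SU 3 F q)} (hhz : D.c.cj hz = dd D.σ (D.ζ : F))
    {t : Γ} (ht : π t = hz) : ∀ g ∈ A0 D π t, ∃ y ∈ (Ag D).comap π, g = cm t y := by
  intro g hg
  unfold A0 at hg
  induction hg using Subgroup.closure_induction with
  | mem x hx =>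
    obtain ⟨y, hy, rfl⟩ := hx
    exact ⟨y, hy, rfl⟩
  | one =>
    refine ⟨1, Subgroup.one_mem _, ?_⟩
    unfold cm
    group
  | mul x y _ _ hx hy =>
    obtain ⟨a, ha, rfl⟩ := hx
    obtain ⟨b, hb, rfl⟩ := hy
    exact ⟨a * b, Subgroup.mul_mem _ ha hb, (su3mp1_cm_mul D hF h hhz ht a b ha hb).symm⟩
  | inv x _ hx =>
    obtain ⟨a, ha, rfl⟩ := hx
    refine ⟨a⁻¹, Subgroup.inv_mem _ ha, ?_⟩
    have h1 := su3mp1_cm_mul D hF h hhz ht a a⁻¹ ha (Subgroup.inv_mem _ ha)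
    rw [mul_inv_cancel] at h1
    have h2 : cm t (1 : Γ) = 1 := by unfold cm; group
    rw [h2] at h1
    exact inv_eq_of_mul_eq_one_right h1.symm

/-- coordinates of `π (cm t y)` -/
theorem su3mp1_cm_coord (D : Par F K q) (hF : Fintype.card F = q ^ 2) {hz : ↥(Cfsg.SU 3 F q)}
    (hhz : D.c.cj hz = dd D.σ (D.ζ : F)) {t : Γ} (ht : π t = hz) (y : Γ) (e : F)
    (he : D.c.cj (π y) = uu D.σ 0 e) : D.c.cj (π (cm t y)) = uu D.σ 0 ((D.bl - 1) * e) := by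
  have h1 : π (cm t y) = (hz * π y * hz⁻¹) * (π y)⁻¹ := by
    unfold cm
    rw [map_mul, map_mul, map_mul, map_inv, map_inv, ht]
  have h2 : D.c.cj (π y)⁻¹ = uu D.σ 0 (-e) := by
    have h3 := D.c.cj_mul_inv (π y)
    rw [he] at h3
    have h4 : uu D.σ 0 e * uu D.σ 0 (-e) = 1 := by
      rw [uu_mul, ← u3px1_uu_zero D.σ]
      congr 1
      · ring
      · rw [zero_mul, sub_zero, add_neg_cancel]
    exact u3px1_inv_unique _ _ _ h3 h4
  rw [h1, D.c.cj_mul, hz_conj D hF hhz (π y) 0 e he, h2, uu_mul]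
  congr 1
  · ring
  · ring

/-- P2b, core: with `bl ≠ 1` (from FL3 `al_facts`) as a hypothesis -/
theorem su3mp2b_core (D : Par F K q) (hF : Fintype.card F = q ^ 2) (hbl : D.bl ≠ 1) (h : IsCE π) {hz : ↥(Cfsg.SU 3 F q)} (hhz : D.c.cj hz = dd D.σ (D.ζ : F))
    {t : Γ} (ht : π t = hz) : ∀ g ∈ A0 D π t, π g = 1 → g = 1 := by
  intro g hg hπ
  obtain ⟨y, hy, rfl⟩ := A0_eq D hF h hhz ht g hg
  have hy' := hy
  rw [Subgroup.mem_comap, mem_Ag] at hy'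
  obtain ⟨e, he⟩ := hy'
  have h1 := su3mp1_cm_coord D hF hhz ht y e he
  rw [hπ, D.c.cj_one, ← u3px1_uu_zero D.σ] at h1
  have h2 := (u3px1_uu_inj D.σ h1).2
  have h3 : e = 0 := by
    rcases mul_eq_zero.mp h2.symm with h4 | h4
    · exact absurd (sub_eq_zero.mp h4) hbl
    · exact h4
  rw [h3, u3px1_uu_zero] at he
  have h5 : π y = 1 := D.c.cj_eq_one he
  rw [cm_eq_one_iff]
  exact (h.comm_of_map_one h5 t).symm

/-- P2c, core: with `bl ≠ 1` as a hypothesis -/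
theorem su3mp2c_core (D : Par F K q) (hF : Fintype.card F = q ^ 2) (hbl : D.bl ≠ 1) (h : IsCE π) {hz : ↥(Cfsg.SU 3 F q)} (hhz : D.c.cj hz = dd D.σ (D.ζ : F))
    {t : Γ} (ht : π t = hz) : ∀ X ∈ Ag D, ∃ g ∈ A0 D π t, π g = X := by
  have hσσ : ∀ x, D.σ (D.σ x) = x := Cfsg.Agent.Lib.Lead.frob_frob hF D.σ D.hσ
  intro X hX
  have hXU : X ∈ Ug D := (Ag_central D hF).1 hX
  rw [mem_Ag] at hX
  obtain ⟨e, he⟩ := hX
  have hskew : e + D.σ e = 0 := by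
    rw [mem_Ug, isUT_iff D hσσ] at hXU
    obtain ⟨α', β', hv, h'⟩ := hXU
    rw [he] at h'
    obtain ⟨h1, h2⟩ := u3px1_uu_inj D.σ h'
    rw [← h1, ← h2] at hv
    rw [zero_mul, add_zero] at hv
    exact hv
  have hb1 : D.bl - 1 ≠ 0 := sub_ne_zero.mpr hbl
  -- `σ bl = bl`
  have hσbl : D.σ D.bl = D.bl := by
    unfold Par.bl
    rw [map_mul, hσσ, mul_comm]
  set e' := (D.bl - 1)⁻¹ * e with he'
  have hskew' : e' + D.σ e' + 0 * D.σ 0 = 0 := by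
    rw [he', map_mul, map_inv₀, map_sub, map_one, hσbl]
    have : D.σ e = -e := by linear_combination hskew
    rw [this]
    ring
  obtain ⟨Y, -, hY⟩ := su3mu4_lift D hF 0 e' hskew'
  obtain ⟨y, rfl⟩ := h.surj Y
  have hyA : y ∈ (Ag D).comap π := by
    rw [Subgroup.mem_comap, mem_Ag]
    exact ⟨e', hY⟩
  refine ⟨cm t y, Subgroup.subset_closure ⟨y, hyA, rfl⟩, ?_⟩
  apply D.c.cj_inj
  rw [su3mp1_cm_coord D hF hhz ht y e' hY, he, he']
  congr 1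
  field_simp

end P

end Cfsg.Agent.Lib.Helper24.SU3M
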