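import Mathlib
import Cfsg.Agent.Lib.helper14.SU3MP1
import Cfsg.Agent.Lib.Helper20.SU3MFL3

/-!
# Project SU3M (designer helper24), rows P2b (`A0_inter`), P2c (`A0_map`), by helper14 (wrappers of the cores in `SU3MP1`
on helper20's FL3 `al_facts`).
-/

set_option autoImplicit false

namespace Cfsg.Agent.Lib.Helper24.SU3M

open Cfsg.Agent.Lib.Helper19.U3P Cfsg.Agent.Lib.Helper25.SU3P Cfsg.Agent.Lib.helper14.SU3J
  Cfsg.Agent.Lib.helper7.Ce Matrix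

universe u

section P

variable {F : Type u} [Field F] [Fintype F] {K : Type u} [Field K] [Fintype K] {q : ℕ} {Γ : Type*} [Group Γ] {π : Γ →* ↥(Cfsg.SU 3 F q)}

/-- P2b -/
theorem A0_inter (D : Par F K q) (hF : Fintype.card F = q ^ 2) (hq : 3 ≤ q) (h : IsCE π) {hz : ↥(Cfsg.SU 3 F q)} (hhz : D.c.cj hz = dd D.σ (D.ζ : F))
    {t : Γ} (ht : π t = hz) : ∀ g ∈ A0 D π t, π g = 1 → g = 1 :=
  su3mp2b_core D hF (al_facts D hF hq).2.2.2.2.1 h hhz ht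

/-- P2c -/
theorem A0_map (D : Par F K q) (hF : Fintype.card F = q ^ 2) (hq : 3 ≤ q) (h : IsCE π) {hz : ↥(Cfsg.SU 3 F q)} (hhz : D.c.cj hz = dd D.σ (D.ζ : F))
    {t : Γ} (ht : π t = hz) : ∀ X ∈ Ag D, ∃ g ∈ A0 D π t, π g = X :=
  su3mp2c_core D hF (al_facts D hF hq).2.2.2.2.1 h hhz ht

end P

end Cfsg.Agent.Lib.Helper24.SU3M
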