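import Mathlib
import Cfsg.Agent.Lib.helper14.CoxCoset

/-!
Double cosets `W_J w W_K` in a group with the exchange property: every double coset contains
exactly one element that is left-`J`-reduced and right-`K`-reduced.
-/

set_option autoImplicit false

namespace Cfsg.Agent.Lib.helper14

open Cfsg.Agent.Lib.helper3

section CoxDouble

variable {W : Type*} [Group W] {T : Set W} {Ps : W → Set W}

theorem word_inv_prod (hT2 : ∀ t ∈ T, t * t = 1) (L : List W) (hL : ∀ x ∈ L, x ∈ T) :
    L.reverse.prod = L.prod⁻¹ := by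
  rw [List.prod_inv_reverse]
  congr 1
  have : ∀ M : List W, (∀ x ∈ M, x ∈ T) → M.map (fun x => x⁻¹) = M := by
    intro M hM
    induction M with
    | nil => rfl
    | cons a M ih =>
      simp only [List.map_cons]
      rw [ih (fun x hx => hM x (List.mem_cons_of_mem _ hx))]
      congr 1
      exact inv_eq_of_mul_eq_one_left (hT2 a (hM a List.mem_cons_self))
  rw [this L hL]

theorem wlen_inv_le (hT2 : ∀ t ∈ T, t * t = 1) (hgen : Subgroup.closure T = ⊤) (w : W) :
    wlen T w⁻¹ ≤ wlen T w := by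
  obtain ⟨L, hL, hw, hlen⟩ := exists_reduced hT2 hgen w
  have := wlen_le (T := T) (w := w⁻¹) (L := L.reverse)
    (fun x hx => hL x (List.mem_reverse.1 hx)) (by rw [word_inv_prod hT2 L hL, hw])
  rw [List.length_reverse, hlen] at this
  exact this

theorem wlen_inv (hT2 : ∀ t ∈ T, t * t = 1) (hgen : Subgroup.closure T = ⊤) (w : W) :
    wlen T w⁻¹ = wlen T w := by
  apply le_antisymm (wlen_inv_le hT2 hgen w)
  have := wlen_inv_le hT2 hgen w⁻¹
  rwa [inv_inv] at this

/-- left-`J`-reduced and right-`K`-reduced -/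
def IsDRed (Ps : W → Set W) (J K : Set W) (d : W) : Prop :=
  IsLeftAsc Ps J d ∧ IsLeftAsc Ps K d⁻¹

/-- straightening: for `d` left-`J`-reduced and `b ∈ W_K`, the left-`J`-reduced part of `d b`
has the form `d b'` with `b' ∈ W_K` -/
theorem cd_straighten (E : ExchSys T Ps) {J K : Set W} (hJ : J ⊆ T) (hK : K ⊆ T) {d : W}
    (hd : IsLeftAsc Ps J d) : ∀ (n : ℕ) (L : List W), L.length = n → (∀ x ∈ L, x ∈ K) →
      ∃ L' : List W, (∀ x ∈ L', x ∈ K) ∧ IsLeftAsc Ps J (d * L'.prod) ∧
        ∃ a ∈ Subgroup.closure J, d * L.prod = a * (d * L'.prod) := by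
  intro n
  induction n with
  | zero =>
    intro L hlen hL
    rw [List.length_eq_zero_iff] at hlen
    subst hlen
    refine ⟨[], by simp, ?_, 1, Subgroup.one_mem _, by simp⟩
    simpa using hd
  | succ n ih =>
    intro L hlen hL
    by_cases h : IsLeftAsc Ps J (d * L.prod)
    · exact ⟨L, hL, h, 1, Subgroup.one_mem _, by simp⟩
    · unfold IsLeftAsc at h
      push Not at h
      obtain ⟨t, htJ, hnot⟩ := h
      have htT := hJ htJ
      obtain ⟨Ld, hLd, hLdp, hLdlen⟩ := exists_reduced E.hT2 E.hgen d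
      have hM : ∀ x ∈ Ld ++ L, x ∈ T := by
        intro x hx
        rcases List.mem_append.1 hx with h | h
        · exact hLd x h
        · exact hK (hL x h)
      have hMp : (Ld ++ L).prod = d * L.prod := by rw [List.prod_append, hLdp]
      rw [← hMp] at hnot
      obtain ⟨i, hi, e⟩ := exchange Ps E.hT2 E.hA E.hC htT (Ld ++ L) hM hnot
      by_cases hiL : i < Ld.length
      · exfalso
        rw [List.eraseIdx_append_of_lt_length hiL, List.prod_append, List.prod_append, hLdp,
          ← mul_assoc] at e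
        have e' : t * d = (Ld.eraseIdx i).prod := mul_right_cancel e
        have h1 := wlen_le (T := T) (w := t * d) (L := Ld.eraseIdx i)
          (eraseIdx_mem Ld i _ hLd) e'.symm
        rw [List.length_eraseIdx_of_lt hiL, hLdlen] at h1
        have h2 := (mem_Ps_iff Ps E.hT2 E.hgen E.hA E.hB E.hC htT d).1 (hd t htJ)
        omega
      · rw [not_lt] at hiL
        rw [List.eraseIdx_append_of_length_le hiL, List.prod_append, List.prod_append, hLdp] at e
        have hj : i - Ld.length < L.length := by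
          rw [List.length_append] at hi
          omega
        have hlen1 : (L.eraseIdx (i - Ld.length)).length = n := by
          rw [List.length_eraseIdx_of_lt hj, hlen]
          rfl
        obtain ⟨L', hL', hasc, a, ha, ea⟩ := ih (L.eraseIdx (i - Ld.length)) hlen1
          (eraseIdx_mem L _ _ hL)
        refine ⟨L', hL', hasc, t * a, Subgroup.mul_mem _ (Subgroup.subset_closure htJ) ha, ?_⟩
        rw [mul_assoc, ← ea, ← e, ← mul_assoc, E.hT2 t htT, one_mul]

theorem cd_unique (E : ExchSys T Ps) {J K : Set W} (hJ : J ⊆ T) (hK : K ⊆ T) {d w : W}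
    (hd : IsDRed Ps J K d) (hw : IsDRed Ps J K w) {a b : W} (ha : a ∈ Subgroup.closure J)
    (hb : b ∈ Subgroup.closure K) (e : w = a * d * b) : w = d := by
  obtain ⟨L, hL, hLp⟩ := exists_word_of_closure E.hT2 hK hb
  obtain ⟨L', hL', hasc, a', ha', ea⟩ := cd_straighten E hJ hK hd.1 L.length L rfl hL
  have hb' : L'.prod ∈ Subgroup.closure K := cc_list_prod_mem L' hL'
  set b' := L'.prod with hb'def
  have e1 : w = (a * a') * (d * b') := by
    rw [e, mul_assoc a d b, ← hLp, ea]
    group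
  have hmin1 := cc_min_of_asc E hJ hasc
  have hmin2 := cc_min_of_asc E hJ hw.1
  have h1 := cc_unique E hJ hmin1 hmin2 (Subgroup.mul_mem _ ha ha') e1
  rw [h1, one_mul] at e1
  -- lengths
  have hdinv := cc_min_of_asc E hK hd.2
  have hwinv := cc_min_of_asc E hK hw.2
  have l1 := cc_add E hK hdinv (Subgroup.inv_mem _ hb')
  have l2 := cc_add E hK hwinv hb'
  have e2 : b'⁻¹ * d⁻¹ = w⁻¹ := by rw [e1]; group
  have e3 : b' * w⁻¹ = d⁻¹ := by rw [e1]; group
  rw [e2, wlen_inv E.hT2 E.hgen, wlen_inv E.hT2 E.hgen, wlen_inv E.hT2 E.hgen] at l1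
  rw [e3, wlen_inv E.hT2 E.hgen, wlen_inv E.hT2 E.hgen] at l2
  have h0 : wlen T b' = 0 := by omega
  have := eq_one_of_wlen_eq_zero E.hT2 E.hgen h0
  rw [e1, this, mul_one]

theorem cd_exists (E : ExchSys T Ps) {J K : Set W} (hJ : J ⊆ T) (hK : K ⊆ T) (w : W) :
    ∃ d, IsDRed Ps J K d ∧ ∃ a ∈ Subgroup.closure J, ∃ b ∈ Subgroup.closure K,
      w = a * d * b := by
  classical
  have hne : ∃ k, ∃ a ∈ Subgroup.closure J, ∃ b ∈ Subgroup.closure K,
      wlen T (a * w * b) = k :=
    ⟨_, 1, Subgroup.one_mem _, 1, Subgroup.one_mem _, rfl⟩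
  obtain ⟨a, ha, b, hb, hk⟩ := Nat.find_spec hne
  have hmin : ∀ a' ∈ Subgroup.closure J, ∀ b' ∈ Subgroup.closure K,
      wlen T (a * w * b) ≤ wlen T (a' * w * b') := by
    intro a' ha' b' hb'
    rw [hk]
    exact Nat.find_min' hne ⟨a', ha', b', hb', rfl⟩
  refine ⟨a * w * b, ⟨?_, ?_⟩, a⁻¹, Subgroup.inv_mem _ ha, b⁻¹, Subgroup.inv_mem _ hb, by group⟩
  · apply cc_asc_of_min E hJ
    intro v hv
    have := hmin (v * a) (Subgroup.mul_mem _ hv ha) b hb
    have e : v * a * w * b = v * (a * w * b) := by group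
    rwa [e] at this
  · apply cc_asc_of_min E hK
    intro v hv
    have := hmin a ha (b * v⁻¹) (Subgroup.mul_mem _ hb (Subgroup.inv_mem _ hv))
    have e : a * w * (b * v⁻¹) = (v * (a * w * b)⁻¹)⁻¹ := by group
    rw [e, wlen_inv E.hT2 E.hgen] at this
    rw [wlen_inv E.hT2 E.hgen]
    exact this

end CoxDouble

end Cfsg.Agent.Lib.helper14
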