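import Mathlib
import Cfsg.Agent.Lib.helper14.CoxDouble
import Cfsg.Agent.Lib.helper14.BNCells

/-!
Double cosets `P_J \ G / P_K` of a (B,N)-pair: the `G`-orbits on `G/P_J × G/P_K` are
parametrised by the `(J,K)`-reduced elements of the Weyl group.
-/

set_option autoImplicit false

namespace Cfsg.Agent.Lib.helper14

open Cfsg.Agent.Lib.helper3 DoubleCoset

section BNDouble

variable {G : Type*} [Group G] {P : Cfsg.BNPair G}

/-- `⋃ v ∈ closure J, B v m B` is stable under left multiplication by `B` and `J`. -/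
theorem bnd_stable {J : Set G} (hJ : J ⊆ P.S) {m : G} (hm : m ∈ P.N) :
    ∀ t ∈ (P.B : Set G) ∪ J, ∀ x ∈ {x : G | ∃ v ∈ Subgroup.closure J, x ∈ dc P (v * m)},
      t * x ∈ {x : G | ∃ v ∈ Subgroup.closure J, x ∈ dc P (v * m)} ∧
      t⁻¹ * x ∈ {x : G | ∃ v ∈ Subgroup.closure J, x ∈ dc P (v * m)} := by
  have hJN : Subgroup.closure J ≤ P.N := closure_S_le_N hJ
  intro t ht x hx
  obtain ⟨v, hv, hxn⟩ := hx
  have hvm : v * m ∈ P.N := P.N.mul_mem (hJN hv) hm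
  rcases ht with ht | ht
  · exact ⟨⟨v, hv, dc_mul_left ht hxn⟩, ⟨v, hv, dc_mul_left (P.B.inv_mem ht) hxn⟩⟩
  · obtain ⟨b₁, h₁, b₂, h₂, rfl⟩ := mem_dc.1 hxn
    constructor
    · have := t3 (hJ ht) hvm h₁
      have e : t * (b₁ * (v * m) * b₂) = (t * b₁ * (v * m)) * b₂ := by group
      rw [e]
      rcases this with h | h
      · refine ⟨t * v, Subgroup.mul_mem _ (Subgroup.subset_closure ht) hv, ?_⟩
        rw [mul_assoc]
        exact dc_mul_right h₂ h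
      · exact ⟨v, hv, dc_mul_right h₂ h⟩
    · have := t3_inv (hJ ht) hvm h₁
      have e : t⁻¹ * (b₁ * (v * m) * b₂) = (t⁻¹ * b₁ * (v * m)) * b₂ := by group
      rw [e]
      rcases this with h | h
      · refine ⟨t⁻¹ * v, Subgroup.mul_mem _ (Subgroup.inv_mem _ (Subgroup.subset_closure ht)) hv, ?_⟩
        rw [mul_assoc]
        exact dc_mul_right h₂ h
      · exact ⟨v, hv, dc_mul_right h₂ h⟩

theorem bnd_left {J : Set G} (hJ : J ⊆ P.S) {m : G} (hm : m ∈ P.N) {p : G}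
    (hp : p ∈ P.parabolic J) : ∃ v ∈ Subgroup.closure J, p * m ∈ dc P (v * m) := by
  have hp' : p ∈ Subgroup.closure ((P.B : Set G) ∪ J) := by
    rw [Subgroup.closure_union, Subgroup.closure_eq]; exact hp
  exact (closure_mul_mem (bnd_stable hJ hm) hp' m
    ⟨1, Subgroup.one_mem _, by rw [one_mul]; exact dc_self m⟩).1

theorem bnd_double {J K : Set G} (hJ : J ⊆ P.S) (hK : K ⊆ P.S) {m : G} (hm : m ∈ P.N) {p q : G}
    (hp : p ∈ P.parabolic J) (hq : q ∈ P.parabolic K) :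
    ∃ v ∈ Subgroup.closure J, ∃ v' ∈ Subgroup.closure K, p * m * q ∈ dc P (v * m * v') := by
  obtain ⟨v, hv, h1⟩ := bnd_left hJ hm hp
  have hvm : v * m ∈ P.N := P.N.mul_mem (closure_S_le_N hJ hv) hm
  obtain ⟨b₁, h₁, b₂, h₂, e⟩ := mem_dc.1 h1
  -- (p m q)⁻¹ = q⁻¹ b₂⁻¹ (v m)⁻¹ b₁⁻¹
  have hq' : q⁻¹ * b₂⁻¹ ∈ P.parabolic K :=
    Subgroup.mul_mem _ (Subgroup.inv_mem _ hq)
      ((le_sup_left : P.B ≤ P.parabolic K) (P.B.inv_mem h₂))
  obtain ⟨v', hv', h2⟩ := bnd_left hK (P.N.inv_mem hvm) hq'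
  refine ⟨v, hv, v'⁻¹, Subgroup.inv_mem _ hv', ?_⟩
  have h3 := dc_inv (dc_mul_right (P.B.inv_mem h₁) h2)
  have e1 : (q⁻¹ * b₂⁻¹ * (v * m)⁻¹ * b₁⁻¹)⁻¹ = p * m * q := by
    have : p * m * q = (b₁ * (v * m) * b₂) * q := by rw [← e]
    rw [this]; group
  have e2 : (v' * (v * m)⁻¹)⁻¹ = v * m * v'⁻¹ := by group
  rwa [e1, e2] at h3

/-- lift of an element of `closure (projG '' J)` to `closure J` -/
theorem bnd_lift {J : Set G} (hJ : J ⊆ P.S) {a : Weyl P}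
    (ha : a ∈ Subgroup.closure (projG P '' J)) : ∃ v ∈ Subgroup.closure J, projG P v = a := by
  obtain ⟨Lw, hLw, rfl⟩ := exists_word_of_closure (T := TW P) TW_sq (image_subset_TW hJ) ha
  obtain ⟨L, hL, rfl⟩ := exists_lift Lw hLw
  refine ⟨L.prod, cc_list_prod_mem L hL, ?_⟩
  exact projG_list_prod (fun s hs => hJ (hL s hs))

end BNDouble

end Cfsg.Agent.Lib.helper14
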