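import Mathlib
import Cfsg.Agent.Lib.helper14.BNDouble

/-!
The number of `G`-orbits on `G/P_J × G/P_K` equals the number of `(J,K)`-reduced elements of `W`.
-/

set_option autoImplicit false

namespace Cfsg.Agent.Lib.helper14

open Cfsg.Agent.Lib.helper3 DoubleCoset

section BNOrbit

variable {G : Type*} [Group G] {P : Cfsg.BNPair G}

theorem bnd_orbit_card {J K : Set G} (hJ : J ⊆ P.S) (hK : K ⊆ P.S) :
    Nat.card (MulAction.orbitRel.Quotient G ((G ⧸ P.parabolic J) × (G ⧸ P.parabolic K))) =
      Nat.card {d : Weyl P // IsDRed (PsW P) (projG P '' J) (projG P '' K) d} := by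
  classical
  have hJT := image_subset_TW (P := P) hJ
  have hKT := image_subset_TW (P := P) hK
  have hBX : P.B ≤ P.parabolic J := le_sup_left
  have hBY : P.B ≤ P.parabolic K := le_sup_left
  have hJX : Subgroup.closure J ≤ P.parabolic J := le_sup_right
  have hKY : Subgroup.closure K ≤ P.parabolic K := le_sup_right
  have hlift : ∀ d : Weyl P, ∃ n, n ∈ P.N ∧ projG P n = d := fun d => by
    obtain ⟨n, hn, e⟩ := projG_surj d
    exact ⟨n, hn, e⟩
  choose lift hliftN hliftp using hlift
  let f : {d : Weyl P // IsDRed (PsW P) (projG P '' J) (projG P '' K) d} →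
      MulAction.orbitRel.Quotient G ((G ⧸ P.parabolic J) × (G ⧸ P.parabolic K)) :=
    fun d => Quotient.mk'' (((1 : G) : G ⧸ P.parabolic J), ((lift d.1 : G) : G ⧸ P.parabolic K))
  have hinj : Function.Injective f := by
    rintro ⟨d, hd⟩ ⟨d', hd'⟩ h
    apply Subtype.ext
    show d = d'
    have h' : (MulAction.orbitRel G ((G ⧸ P.parabolic J) × (G ⧸ P.parabolic K)))
        (((1 : G) : G ⧸ P.parabolic J), ((lift d : G) : G ⧸ P.parabolic K))
        (((1 : G) : G ⧸ P.parabolic J), ((lift d' : G) : G ⧸ P.parabolic K)) := Quotient.exact' h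
    rw [MulAction.orbitRel_apply, MulAction.mem_orbit_iff] at h'
    obtain ⟨g, hg⟩ := h'
    have hg1 : g • ((1 : G) : G ⧸ P.parabolic J) = ((1 : G) : G ⧸ P.parabolic J) :=
      congrArg Prod.fst hg
    have hg2 : g • ((lift d' : G) : G ⧸ P.parabolic K) = ((lift d : G) : G ⧸ P.parabolic K) :=
      congrArg Prod.snd hg
    have hgX : g ∈ P.parabolic J := by
      have e : g • ((1 : G) : G ⧸ P.parabolic J) = ((g * 1 : G) : G ⧸ P.parabolic J) := rfl
      rw [e, mul_one, QuotientGroup.eq] at hg1
      have := Subgroup.inv_mem _ hg1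
      simpa using this
    have hgY : (g * lift d')⁻¹ * lift d ∈ P.parabolic K := by
      have e : g • ((lift d' : G) : G ⧸ P.parabolic K) =
          ((g * lift d' : G) : G ⧸ P.parabolic K) := rfl
      rw [e, QuotientGroup.eq] at hg2
      exact hg2
    obtain ⟨v, hv, v', hv', hmem⟩ := bnd_double hJ hK (hliftN d') hgX hgY
    have e1 : g * lift d' * ((g * lift d')⁻¹ * lift d) = lift d := by group
    rw [e1] at hmem
    have hvN := closure_S_le_N hJ hv
    have hv'N := closure_S_le_N hK hv'
    have hN2 : v * lift d' * v' ∈ P.N := P.N.mul_mem (P.N.mul_mem hvN (hliftN d')) hv'N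
    have e2 := projG_eq_of_dc_eq (hliftN d) hN2 (dc_eq_of_mem hmem)
    rw [projG_mul (P.N.mul_mem hvN (hliftN d')) hv'N, projG_mul hvN (hliftN d'), hliftp,
      hliftp] at e2
    exact cd_unique bn_exchSys hJT hKT hd' hd (projG_mem_closure_image hJ hv)
      (projG_mem_closure_image hK hv') e2
  have hsurj : Function.Surjective f := by
    intro ω
    induction ω using Quotient.inductionOn' with
    | h pq =>
      obtain ⟨c₁, c₂⟩ := pq
      induction c₁ using QuotientGroup.induction_on with
      | H x =>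
        induction c₂ using QuotientGroup.induction_on with
        | H y =>
          obtain ⟨n, hn, hg⟩ := bruhat (P := P) (x⁻¹ * y)
          obtain ⟨d, hd, a, ha, b, hb, e⟩ := cd_exists (Ps := PsW P) bn_exchSys hJT hKT (projG P n)
          obtain ⟨va, hva, rfl⟩ := bnd_lift hJ ha
          obtain ⟨vb, hvb, rfl⟩ := bnd_lift hK hb
          have hvaN := closure_S_le_N hJ hva
          have hvbN := closure_S_le_N hK hvb
          have hN2 : va * lift d * vb ∈ P.N := P.N.mul_mem (P.N.mul_mem hvaN (hliftN d)) hvbN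
          have e' : projG P n = projG P (va * lift d * vb) := by
            rw [projG_mul (P.N.mul_mem hvaN (hliftN d)) hvbN, projG_mul hvaN (hliftN d), hliftp]
            exact e
          rw [dc_eq_of_projG_eq hn hN2 e'] at hg
          obtain ⟨b₁, h₁, b₂, h₂, eg⟩ := mem_dc.1 hg
          refine ⟨⟨d, hd⟩, ?_⟩
          apply Quotient.sound'
          rw [MulAction.orbitRel_apply, MulAction.mem_orbit_iff]
          -- (1, lift d) = g • (x, y) with g = (x * b₁ * va)⁻¹
          refine ⟨(x * b₁ * va)⁻¹, ?_⟩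
          apply Prod.ext
          · show (((x * b₁ * va)⁻¹ * x : G) : G ⧸ P.parabolic J) = ((1 : G) : G ⧸ P.parabolic J)
            rw [QuotientGroup.eq]
            have e3 : ((x * b₁ * va)⁻¹ * x)⁻¹ * 1 = b₁ * va := by group
            rw [e3]
            exact Subgroup.mul_mem _ (hBX h₁) (hJX hva)
          · show (((x * b₁ * va)⁻¹ * y : G) : G ⧸ P.parabolic K) =
              ((lift d : G) : G ⧸ P.parabolic K)
            rw [QuotientGroup.eq]
            have e3 : ((x * b₁ * va)⁻¹ * y)⁻¹ * lift d =
                (x⁻¹ * y)⁻¹ * (b₁ * va * lift d) := by group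
            rw [e3, eg]
            have e4 : (b₁ * (va * lift d * vb) * b₂)⁻¹ * (b₁ * va * lift d) =
                b₂⁻¹ * vb⁻¹ := by group
            rw [e4]
            exact Subgroup.mul_mem _ (hBY (P.B.inv_mem h₂)) (Subgroup.inv_mem _ (hKY hvb))
  exact (Nat.card_congr (Equiv.ofBijective f ⟨hinj, hsurj⟩)).symm

end BNOrbit

end Cfsg.Agent.Lib.helper14
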