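import Mathlib
import Cfsg.Agent.Lib.helper14.BNOrbit

/-!
The norm of the alternating sum of parabolic permutation characters of a finite group with a
(B,N)-pair, expressed through the Weyl group.
-/

set_option autoImplicit false

namespace Cfsg.Agent.Lib.helper14

open Cfsg.Agent.Lib.helper3 DoubleCoset

section BNNorm

theorem alt_sum_subset (r : ℕ) (A : Finset ℕ) (hA : A ⊆ Finset.range r) :
    ∑ J ∈ (Finset.range r).powerset, (-1 : ℤ) ^ J.card * (if J ⊆ A then (1 : ℤ) else 0) =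
      if A = ∅ then 1 else 0 := by
  rw [← Finset.sum_powerset_neg_one_pow_card]
  have hsub : A.powerset = (Finset.range r).powerset.filter (fun J => J ⊆ A) := by
    ext J
    rw [Finset.mem_powerset, Finset.mem_filter, Finset.mem_powerset]
    constructor
    · intro h
      exact ⟨fun i hi => hA (h hi), h⟩
    · exact fun h => h.2
  rw [hsub, Finset.sum_filter]
  apply Finset.sum_congr rfl
  intro J _
  split_ifs <;> simp

variable {G : Type*} [Group G]

theorem fixedBy_prod_card {α β : Type*} [MulAction G α] [MulAction G β] (g : G) :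
    Nat.card (MulAction.fixedBy (α × β) g) =
      Nat.card (MulAction.fixedBy α g) * Nat.card (MulAction.fixedBy β g) := by
  rw [← Nat.card_prod]
  apply Nat.card_congr
  exact
    { toFun := fun x => (⟨x.1.1, congrArg Prod.fst (MulAction.mem_fixedBy.1 x.2)⟩,
        ⟨x.1.2, congrArg Prod.snd (MulAction.mem_fixedBy.1 x.2)⟩)
      invFun := fun y => ⟨(y.1.1, y.2.1), MulAction.mem_fixedBy.2
        (Prod.ext (MulAction.mem_fixedBy.1 y.1.2) (MulAction.mem_fixedBy.1 y.2.2))⟩
      left_inv := fun x => rfl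
      right_inv := fun y => rfl }

theorem burnside_nat [Fintype G] {X : Type*} [MulAction G X] [Finite X] :
    ∑ g : G, Nat.card (MulAction.fixedBy X g) =
      Nat.card (MulAction.orbitRel.Quotient G X) * Nat.card G := by
  classical
  haveI : ∀ g : G, Fintype (MulAction.fixedBy X g) := fun g => Fintype.ofFinite _
  haveI : Fintype (Quotient (MulAction.orbitRel G X)) := Fintype.ofFinite _
  have h := MulAction.sum_card_fixedBy_eq_card_orbits_mul_card_group G X
  rw [Nat.card_eq_fintype_card (α := G)]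
  have e : Nat.card (MulAction.orbitRel.Quotient G X) =
      Fintype.card (Quotient (MulAction.orbitRel G X)) := Nat.card_eq_fintype_card
  rw [e, ← h]
  apply Finset.sum_congr rfl
  intro g _
  exact Nat.card_eq_fintype_card

variable {P : Cfsg.BNPair G}

theorem bn_pair_sum [Fintype G] {J K : Set G} (hJ : J ⊆ P.S) (hK : K ⊆ P.S) :
    ∑ g : G, (Nat.card (MulAction.fixedBy (G ⧸ P.parabolic J) g) : ℤ) *
        (Nat.card (MulAction.fixedBy (G ⧸ P.parabolic K) g) : ℤ) =
      (Nat.card {d : Weyl P // IsDRed (PsW P) (projG P '' J) (projG P '' K) d} : ℤ) *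
        (Nat.card G : ℤ) := by
  have h := burnside_nat (G := G) (X := (G ⧸ P.parabolic J) × (G ⧸ P.parabolic K))
  rw [bnd_orbit_card hJ hK] at h
  have h' := congrArg (Nat.cast : ℕ → ℤ) h
  push_cast at h'
  rw [← h']
  apply Finset.sum_congr rfl
  intro g _
  rw [fixedBy_prod_card]
  push_cast
  rfl

theorem bn_norm_sum_int [Fintype G] (σ : ℕ → G) (r : ℕ) (hσ : ∀ i < r, σ i ∈ P.S) :
    ∑ g : G, (∑ J ∈ (Finset.range r).powerset, (-1 : ℤ) ^ J.card *
        (Nat.card (MulAction.fixedBy (G ⧸ P.parabolic (σ '' (J : Set ℕ))) g) : ℤ)) ^ 2 =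
      (Nat.card {d : Weyl P // ∀ i < r, d ∉ PsW P (projG P (σ i)) ∧
        d⁻¹ ∉ PsW P (projG P (σ i))} : ℤ) * (Nat.card G : ℤ) := by
  classical
  haveI : Fintype (Weyl P) := Fintype.ofFinite _
  set A : Weyl P → Finset ℕ := fun d =>
    (Finset.range r).filter (fun i => d ∈ PsW P (projG P (σ i))) with hA
  have hAsub : ∀ d, A d ⊆ Finset.range r := fun d => Finset.filter_subset _ _
  have hJS : ∀ J ∈ (Finset.range r).powerset, σ '' (J : Set ℕ) ⊆ P.S := by
    intro J hJ
    rw [Finset.mem_powerset] at hJ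
    rintro s ⟨i, hi, rfl⟩
    exact hσ i (Finset.mem_range.1 (hJ hi))
  have hasc : ∀ J ∈ (Finset.range r).powerset, ∀ d : Weyl P,
      IsLeftAsc (PsW P) (projG P '' (σ '' (J : Set ℕ))) d ↔ J ⊆ A d := by
    intro J hJ d
    rw [Finset.mem_powerset] at hJ
    constructor
    · intro h i hi
      rw [hA, Finset.mem_filter]
      exact ⟨hJ hi, h _ ⟨σ i, ⟨i, hi, rfl⟩, rfl⟩⟩
    · rintro h t ⟨s, ⟨i, hi, rfl⟩, rfl⟩
      have := h hi
      rw [hA, Finset.mem_filter] at this
      exact this.2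
  have key : ∀ J ∈ (Finset.range r).powerset, ∀ K ∈ (Finset.range r).powerset,
      ∑ g : G, (Nat.card (MulAction.fixedBy (G ⧸ P.parabolic (σ '' (J : Set ℕ))) g) : ℤ) *
        (Nat.card (MulAction.fixedBy (G ⧸ P.parabolic (σ '' (K : Set ℕ))) g) : ℤ) =
      (∑ d : Weyl P, (if J ⊆ A d then (1 : ℤ) else 0) * (if K ⊆ A d⁻¹ then (1 : ℤ) else 0)) *
        (Nat.card G : ℤ) := by
    intro J hJ K hK
    rw [bn_pair_sum (hJS J hJ) (hJS K hK)]
    congr 1
    rw [Nat.card_eq_fintype_card, Fintype.card_subtype]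
    have : ∀ d : Weyl P, (if J ⊆ A d then (1 : ℤ) else 0) * (if K ⊆ A d⁻¹ then (1 : ℤ) else 0) =
        if (J ⊆ A d ∧ K ⊆ A d⁻¹) then (1 : ℤ) else 0 := by
      intro d
      split_ifs <;> simp_all
    rw [Finset.sum_congr rfl (fun d _ => this d), Finset.sum_boole]
    congr 2
    apply Finset.filter_congr
    intro d _
    unfold IsDRed
    rw [hasc J hJ d, hasc K hK d⁻¹]
  -- expand the square
  have hexp : ∀ g : G, (∑ J ∈ (Finset.range r).powerset, (-1 : ℤ) ^ J.card *
        (Nat.card (MulAction.fixedBy (G ⧸ P.parabolic (σ '' (J : Set ℕ))) g) : ℤ)) ^ 2 =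
      ∑ J ∈ (Finset.range r).powerset, ∑ K ∈ (Finset.range r).powerset,
        ((-1 : ℤ) ^ J.card * (-1 : ℤ) ^ K.card) *
        ((Nat.card (MulAction.fixedBy (G ⧸ P.parabolic (σ '' (J : Set ℕ))) g) : ℤ) *
          (Nat.card (MulAction.fixedBy (G ⧸ P.parabolic (σ '' (K : Set ℕ))) g) : ℤ)) := by
    intro g
    rw [sq, Finset.sum_mul_sum]
    apply Finset.sum_congr rfl
    intro J _
    apply Finset.sum_congr rfl
    intro K _
    ring
  rw [Finset.sum_congr rfl (fun g _ => hexp g), Finset.sum_comm]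
  have h2 : ∀ J ∈ (Finset.range r).powerset,
      ∑ g : G, ∑ K ∈ (Finset.range r).powerset,
        ((-1 : ℤ) ^ J.card * (-1 : ℤ) ^ K.card) *
        ((Nat.card (MulAction.fixedBy (G ⧸ P.parabolic (σ '' (J : Set ℕ))) g) : ℤ) *
          (Nat.card (MulAction.fixedBy (G ⧸ P.parabolic (σ '' (K : Set ℕ))) g) : ℤ)) =
      ∑ K ∈ (Finset.range r).powerset, ((-1 : ℤ) ^ J.card * (-1 : ℤ) ^ K.card) *
        ((∑ d : Weyl P, (if J ⊆ A d then (1 : ℤ) else 0) *
          (if K ⊆ A d⁻¹ then (1 : ℤ) else 0)) * (Nat.card G : ℤ)) := by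
    intro J hJ
    rw [Finset.sum_comm]
    apply Finset.sum_congr rfl
    intro K hK
    rw [← Finset.mul_sum, key J hJ K hK]
  rw [Finset.sum_congr rfl h2]
  -- now pure combinatorics
  have h3 : ∑ J ∈ (Finset.range r).powerset, ∑ K ∈ (Finset.range r).powerset,
      ((-1 : ℤ) ^ J.card * (-1 : ℤ) ^ K.card) *
        ((∑ d : Weyl P, (if J ⊆ A d then (1 : ℤ) else 0) *
          (if K ⊆ A d⁻¹ then (1 : ℤ) else 0)) * (Nat.card G : ℤ)) =
      (∑ d : Weyl P, (∑ J ∈ (Finset.range r).powerset, (-1 : ℤ) ^ J.card *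
          (if J ⊆ A d then (1 : ℤ) else 0)) *
        (∑ K ∈ (Finset.range r).powerset, (-1 : ℤ) ^ K.card *
          (if K ⊆ A d⁻¹ then (1 : ℤ) else 0))) * (Nat.card G : ℤ) := by
    symm
    rw [Finset.sum_mul]
    have hd : ∀ d : Weyl P, (∑ J ∈ (Finset.range r).powerset, (-1 : ℤ) ^ J.card *
          (if J ⊆ A d then (1 : ℤ) else 0)) *
        (∑ K ∈ (Finset.range r).powerset, (-1 : ℤ) ^ K.card *
          (if K ⊆ A d⁻¹ then (1 : ℤ) else 0)) * (Nat.card G : ℤ) =
        ∑ J ∈ (Finset.range r).powerset, ∑ K ∈ (Finset.range r).powerset,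
          ((-1 : ℤ) ^ J.card * (-1 : ℤ) ^ K.card) *
            ((if J ⊆ A d then (1 : ℤ) else 0) * (if K ⊆ A d⁻¹ then (1 : ℤ) else 0) *
              (Nat.card G : ℤ)) := by
      intro d
      rw [Finset.sum_mul_sum, Finset.sum_mul]
      apply Finset.sum_congr rfl
      intro J _
      rw [Finset.sum_mul]
      apply Finset.sum_congr rfl
      intro K _
      ring
    rw [Finset.sum_congr rfl (fun d _ => hd d), Finset.sum_comm]
    apply Finset.sum_congr rfl
    intro J _
    rw [Finset.sum_comm]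
    apply Finset.sum_congr rfl
    intro K _
    rw [Finset.sum_mul, Finset.mul_sum]
  rw [h3]
  congr 1
  have h4 : ∀ d : Weyl P, (∑ J ∈ (Finset.range r).powerset, (-1 : ℤ) ^ J.card *
          (if J ⊆ A d then (1 : ℤ) else 0)) *
        (∑ K ∈ (Finset.range r).powerset, (-1 : ℤ) ^ K.card *
          (if K ⊆ A d⁻¹ then (1 : ℤ) else 0)) =
      if (A d = ∅ ∧ A d⁻¹ = ∅) then (1 : ℤ) else 0 := by
    intro d
    rw [alt_sum_subset r (A d) (hAsub d), alt_sum_subset r (A d⁻¹) (hAsub d⁻¹)]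
    by_cases h1 : A d = ∅
    · by_cases h2 : A d⁻¹ = ∅
      · rw [if_pos h1, if_pos h2, if_pos ⟨h1, h2⟩, mul_one]
      · rw [if_pos h1, if_neg h2, if_neg (show ¬(A d = ∅ ∧ A d⁻¹ = ∅) from fun h => h2 h.2), mul_zero]
    · rw [if_neg h1, if_neg (show ¬(A d = ∅ ∧ A d⁻¹ = ∅) from fun h => h1 h.1), zero_mul]
  rw [Finset.sum_congr rfl (fun d _ => h4 d), Finset.sum_boole, Nat.card_eq_fintype_card,
    Fintype.card_subtype]
  congr 2
  apply Finset.filter_congr
  intro d _
  have hempty : ∀ d' : Weyl P, A d' = ∅ ↔ ∀ i < r, d' ∉ PsW P (projG P (σ i)) := by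
    intro d'
    rw [Finset.eq_empty_iff_forall_notMem]
    constructor
    · intro h i hi hmem
      apply h i
      rw [hA, Finset.mem_filter]
      exact ⟨Finset.mem_range.2 hi, hmem⟩
    · intro h i hi
      rw [hA, Finset.mem_filter] at hi
      exact h i (Finset.mem_range.1 hi.1) hi.2
  rw [hempty d, hempty d⁻¹]
  constructor
  · rintro ⟨h1, h2⟩ i hi
    exact ⟨h1 i hi, h2 i hi⟩
  · intro h
    exact ⟨fun i hi => (h i hi).1, fun i hi => (h i hi).2⟩

end BNNorm

end Cfsg.Agent.Lib.helper14
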