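import Mathlib
import Cfsg.Prelude.Def_Characters
import Cfsg.Prelude.Def_ParabolicCharacters
import Cfsg.Agent.Lib.helper14.BNNorm
import Cfsg.Agent.Lib.helper14.StCell
import Cfsg.Agent.Lib.helper2.CharInd
import Cfsg.Agent.Lib.helper2.CharNat
import Cfsg.Agent.Lib.Helper11.VirtChar
import Cfsg.Agent.Lib.Helper1.FrobeniusThm
import Cfsg.Agent.Lib.Helper25.CharOrth
import Cfsg.Agent.S0872

/-!
Irreducibility of the alternating sum of parabolic permutation characters (the Steinberg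
character) of a finite group with a (B,N)-pair possessing a longest element.
-/

set_option autoImplicit false

namespace Cfsg.Agent.Lib.helper14

open Cfsg.Agent.Lib.helper3 DoubleCoset
open scoped ComplexConjugate

section StIrr

variable {G : Type*} [Group G]

theorem fixedPointCharacter_isCharacter [Fintype G] (K : Subgroup G) :
    Cfsg.IsCharacter G (Cfsg.fixedPointCharacter K) := by
  have h : Cfsg.fixedPointCharacter K = Cfsg.indFun K (fun _ => (1 : ℂ)) := by
    funext g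
    rw [Cfsg.Agent.S0872.indFun_one_eq_fixCount]
    unfold Cfsg.fixedPointCharacter Cfsg.Agent.S0872.fixCount
    push_cast
    rfl
  rw [h]
  exact Cfsg.Agent.Lib.helper2.isCharacter_indFun K _
    (Cfsg.Agent.Lib.Helper1.isCharacter_const_one ↥K)

/-- the unique element of `W` all of whose left and right multiples by generators are shorter -/
theorem longest_card_one {P : Cfsg.BNPair G} (σ : ℕ → G) (r : ℕ) (hσ : ∀ i < r, σ i ∈ P.S)
    (hσ' : ∀ s ∈ P.S, ∃ i < r, σ i = s) {n₀ : G} (hn₀ : n₀ ∈ P.N)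
    (h1 : ∀ s ∈ P.S, ¬ Pp P s n₀⁻¹) (h1' : ∀ s ∈ P.S, ¬ Pp P s n₀)
    (h2 : ∀ m ∈ P.N, (∀ s ∈ P.S, ¬ Pp P s m) → LAsc P P.S (m * n₀)) :
    Nat.card {d : Weyl P // ∀ i < r, d ∉ PsW P (projG P (σ i)) ∧
        d⁻¹ ∉ PsW P (projG P (σ i))} = 1 := by
  have hn₀' : n₀⁻¹ ∈ P.N := P.N.inv_mem hn₀
  rw [Nat.card_eq_one_iff_exists]
  refine ⟨⟨projG P n₀⁻¹, ?_⟩, ?_⟩
  · intro i hi
    constructor
    · rw [mem_PsW_iff (hσ i hi) hn₀']
      exact h1 _ (hσ i hi)
    · rw [projG_inv hn₀, inv_inv, mem_PsW_iff (hσ i hi) hn₀]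
      exact h1' _ (hσ i hi)
  · rintro ⟨d, hd⟩
    apply Subtype.ext
    show d = projG P n₀⁻¹
    obtain ⟨m, hm, rfl⟩ := projG_surj d
    have hall : ∀ s ∈ P.S, ¬ Pp P s m := by
      intro s hs
      obtain ⟨i, hi, rfl⟩ := hσ' s hs
      rw [← mem_PsW_iff (hσ i hi) hm]
      exact (hd i hi).1
    have h3 := projG_eq_one_of_lasc (P.N.mul_mem hm hn₀) (h2 m hm hall)
    rw [projG_mul hm hn₀] at h3
    rw [projG_inv hn₀]
    exact eq_inv_of_mul_eq_one_left h3

theorem st_irr_abstract [Fintype G] (P : Cfsg.BNPair G) (Q : Finset ℕ → Subgroup G) (σ : ℕ → G)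
    (r : ℕ) (hσ : ∀ i < r, σ i ∈ P.S) (hσ' : ∀ s ∈ P.S, ∃ i < r, σ i = s)
    (hQ : ∀ J ∈ (Finset.range r).powerset, Q J = P.parabolic (σ '' (J : Set ℕ)))
    {n₀ : G} (hn₀ : n₀ ∈ P.N)
    (h1 : ∀ s ∈ P.S, ¬ Pp P s n₀⁻¹) (h1' : ∀ s ∈ P.S, ¬ Pp P s n₀)
    (h2 : ∀ m ∈ P.N, (∀ s ∈ P.S, ¬ Pp P s m) → LAsc P P.S (m * n₀))
    (θ : G → ℂ)
    (hθ : θ = fun g => ∑ J ∈ (Finset.range r).powerset,
      (-1 : ℂ) ^ J.card * Cfsg.fixedPointCharacter (Q J) g)
    (hpos : ∃ k : ℕ, 0 < k ∧ θ 1 = (k : ℂ)) :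
    Cfsg.IsIrrCharacter G θ := by
  classical
  -- integer-valued form
  set τ : G → ℤ := fun g => ∑ J ∈ (Finset.range r).powerset, (-1 : ℤ) ^ J.card *
    (Nat.card (MulAction.fixedBy (G ⧸ P.parabolic (σ '' (J : Set ℕ))) g) : ℤ) with hτ
  have hθτ : ∀ g, θ g = ((τ g : ℤ) : ℂ) := by
    intro g
    rw [hθ, hτ]
    push_cast
    apply Finset.sum_congr rfl
    intro J hJ
    rw [hQ J hJ]
    rfl
  -- generalized character
  have hgen : Cfsg.IsGeneralizedCharacter G θ := by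
    refine ⟨∑ J ∈ (Finset.range r).powerset.filter (fun J => Even J.card),
        Cfsg.fixedPointCharacter (Q J),
      ∑ J ∈ (Finset.range r).powerset.filter (fun J => ¬ Even J.card),
        Cfsg.fixedPointCharacter (Q J), ?_, ?_, ?_⟩
    · exact Cfsg.Agent.Lib.helper2.isCharacter_sum _ _
        (fun J _ => fixedPointCharacter_isCharacter (Q J))
    · exact Cfsg.Agent.Lib.helper2.isCharacter_sum _ _
        (fun J _ => fixedPointCharacter_isCharacter (Q J))
    · funext g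
      rw [hθ]
      simp only [Pi.sub_apply, Finset.sum_apply]
      rw [← Finset.sum_filter_add_sum_filter_not (Finset.range r).powerset
          (fun J => Even J.card), sub_eq_add_neg, ← Finset.sum_neg_distrib]
      congr 1
      · apply Finset.sum_congr rfl
        intro J hJ
        rw [(Finset.mem_filter.1 hJ).2.neg_one_pow, one_mul]
      · apply Finset.sum_congr rfl
        intro J hJ
        rw [(Nat.not_even_iff_odd.1 (Finset.mem_filter.1 hJ).2).neg_one_pow, neg_one_mul]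
  -- norm one
  have hnorm : Cfsg.classInner θ θ = 1 := by
    unfold Cfsg.classInner
    have hsum : ∑ g : G, θ g * conj (θ g) = ((∑ g : G, τ g ^ 2 : ℤ) : ℂ) := by
      push_cast
      apply Finset.sum_congr rfl
      intro g _
      rw [hθτ g, map_intCast, sq]
    have hcount := bn_norm_sum_int (P := P) σ r hσ
    rw [longest_card_one σ r hσ hσ' hn₀ h1 h1' h2] at hcount
    rw [hsum, hτ, hcount]
    have hG : (Nat.card G : ℂ) ≠ 0 := by exact_mod_cast (Nat.card_pos (α := G)).ne'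
    push_cast
    rw [one_mul]
    exact inv_mul_cancel₀ hG
  obtain ⟨ε, η, hε, hθη⟩ := Cfsg.Agent.Lib.Helper11.genChar_norm_one θ hgen hnorm
  obtain ⟨k, hk, hk1⟩ := hpos
  obtain ⟨n, hn, hn1⟩ := Cfsg.Agent.Lib.Helper25.irr_one_eq_finrank η
  rcases hε with rfl | rfl
  · have : θ = (η : G → ℂ) := by
      rw [hθη]
      funext g
      simp
    rw [this]
    exact η.2
  · exfalso
    have h3 : θ 1 = -((n : ℕ) : ℂ) := by
      rw [hθη, Pi.smul_apply, hn1]
      simp
    rw [hk1] at h3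
    have h4 : ((k + n : ℕ) : ℂ) = 0 := by
      push_cast
      rw [h3]
      ring
    have h5 : k + n = 0 := by exact_mod_cast h4
    omega

end StIrr

end Cfsg.Agent.Lib.helper14
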