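import Mathlib
import Cfsg.Agent.Lib.helper14.UBNh
import Cfsg.Agent.Lib.helper8.Unitri

/-!
The unipotent radical of the upper triangular subgroup of the unitary group, its complement the
torus, the order of the torus, the index of the upper triangular subgroup, and the `p`-part of
the order of the unitary group.
-/

set_option autoImplicit false

namespace Cfsg.Agent.Lib.helper14.UBN

open Matrix
open Cfsg.Agent.Lib.helper3 Cfsg.Agent.Lib.helper14 Cfsg.Agent.Lib.helper8

universe u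
variable {F : Type u} [Field F] {n : ℕ} {S : SInv F}

/-- the upper unitriangular subgroup -/
def UU (n : ℕ) (S : SInv F) : Subgroup ↥(GJ n S) where
  carrier := {g | g ∈ BU n S ∧ ∀ x, mt g x x = 1}
  mul_mem' := fun {a b} ha hb => ⟨(BU n S).mul_mem ha.1 hb.1, fun x => by
    rw [mt_mul, up_mul_diag ha.1 hb.1, ha.2, hb.2, mul_one]⟩
  one_mem' := ⟨(BU n S).one_mem, fun x => by rw [mt_one, Matrix.one_apply_eq]⟩
  inv_mem' := fun {g} hg => ⟨(BU n S).inv_mem hg.1, fun x => by
    have := up_diag_mul_inv g hg.1 x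
    rw [hg.2, one_mul] at this
    exact this⟩

theorem mem_UU_iff (g : ↥(GJ n S)) : g ∈ UU n S ↔ g ∈ BU n S ∧ ∀ x, mt g x x = 1 := Iff.rfl

theorem UU_le_BU : UU n S ≤ BU n S := fun _ h => h.1

theorem UU_conj_mem (b u : ↥(GJ n S)) (hb : b ∈ BU n S) (hu : u ∈ UU n S) :
    b * u * b⁻¹ ∈ UU n S := by
  have hbu : b * u ∈ BU n S := (BU n S).mul_mem hb hu.1
  refine ⟨(BU n S).mul_mem hbu ((BU n S).inv_mem hb), fun x => ?_⟩
  rw [mt_mul, up_mul_diag hbu ((BU n S).inv_mem hb), mt_mul, up_mul_diag hb hu.1, hu.2,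
    mul_one, up_diag_mul_inv b hb]

theorem mt_pow (g : ↥(GJ n S)) (k : ℕ) : mt (g ^ k) = mt g ^ k := by
  induction k with
  | zero => rw [pow_zero, pow_zero, mt_one]
  | succ k ih => rw [pow_succ, pow_succ, mt_mul, ih]

theorem UU_pow_eq_one (p : ℕ) [Fact p.Prime] [CharP F p] (g : ↥(GJ n S)) (hg : g ∈ UU n S) :
    g ^ p ^ n = 1 := by
  apply mt_ext
  rw [mt_pow, mt_one]
  rcases Nat.eq_zero_or_pos n with h0 | h0
  · subst h0
    ext x
    exact x.elim0
  haveI : Nonempty (Fin n) := ⟨⟨0, h0⟩⟩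
  have hρ : ∀ i : Fin n, (fun i : Fin n => n - 1 - rk i) i < n := by
    intro i
    show n - 1 - rk i < n
    omega
  have huni : H8Unitri (fun i : Fin n => n - 1 - rk i) 1 (mt g) := by
    intro i j h
    have hij : i ≠ j := by
      intro e
      apply h
      rw [e, Matrix.sub_apply, hg.2, Matrix.one_apply_eq, sub_self]
    rw [Matrix.sub_apply, Matrix.one_apply_ne hij, sub_zero] at h
    have h1 : ¬ rk j < rk i := fun hlt => h (hg.1 hlt)
    have h2 : rk i ≠ rk j := fun e => hij (rk_injective e)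
    have h3 := rk_lt j
    show n - 1 - rk j + 1 ≤ n - 1 - rk i
    omega
  have hnil : (mt g - 1) ^ n = 0 := h8unitri_pow_eq_zero hρ huni
  have hle : n ≤ p ^ n := by
    have h1 : n < 2 ^ n := Nat.lt_two_pow_self
    have h2 : 2 ^ n ≤ p ^ n := Nat.pow_le_pow_left (Fact.out : p.Prime).two_le n
    omega
  have hnil' : (mt g - 1) ^ p ^ n = 0 := by
    rw [← Nat.sub_add_cancel hle, pow_add, hnil, mul_zero]
  have hcomm : Commute (mt g - 1) (1 : Matrix (Fin n) (Fin n) F) := Commute.one_right _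
  have h1 := add_pow_char_pow_of_commute p n hcomm
  rw [sub_add_cancel, hnil', one_pow, zero_add] at h1
  exact h1

theorem UU_isPGroup (p : ℕ) [Fact p.Prime] [CharP F p] : IsPGroup p ↥(UU n S) := by
  intro g
  refine ⟨n, ?_⟩
  apply Subtype.ext
  rw [Subgroup.coe_pow, Subgroup.coe_one]
  exact UU_pow_eq_one p g.1 g.2

/-- the diagonal part of an upper triangular unitary matrix -/
def diagOf (b : ↥(GJ n S)) (hb : b ∈ BU n S) : ↥(GJ n S) :=
  diagU (fun y => mt b y y) (fun i => up_diag_rv b hb i)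

theorem diagOf_apply (b : ↥(GJ n S)) (hb : b ∈ BU n S) (x y : Fin n) :
    mt (diagOf b hb) x y = if x = y then mt b x x else 0 := diagU_apply _ _ x y

theorem diagOf_mem (b : ↥(GJ n S)) (hb : b ∈ BU n S) : diagOf b hb ∈ BU n S ⊓ NU n S :=
  diagU_mem_TU _ _

theorem mul_diagOf_inv_mem (b : ↥(GJ n S)) (hb : b ∈ BU n S) :
    b * (diagOf b hb)⁻¹ ∈ UU n S := by
  have hd : diagOf b hb ∈ BU n S := (diagOf_mem b hb).1
  refine ⟨(BU n S).mul_mem hb ((BU n S).inv_mem hd), fun x => ?_⟩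
  rw [mt_mul, up_mul_diag hb ((BU n S).inv_mem hd)]
  have h1 := up_diag_mul_inv (diagOf b hb) hd x
  rw [diagOf_apply, if_pos rfl] at h1
  exact h1

theorem eq_one_of_mem_UU_of_mem_TU (g : ↥(GJ n S)) (hU : g ∈ UU n S)
    (hT : g ∈ BU n S ⊓ NU n S) : g = 1 := by
  have hmono := (mem_TU_iff g).1 hT
  apply mt_ext
  ext x y
  rw [mt_one, Matrix.one_apply]
  by_cases h : x = y
  · rw [if_pos h, h, hU.2]
  · rw [if_neg h]
    by_contra h0
    exact h (hmono x y h0)

/-- `UU` and the torus are complementary inside `BU` -/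
theorem UU_isComplement' :
    Subgroup.IsComplement' ((UU n S).subgroupOf (BU n S))
      ((BU n S ⊓ NU n S).subgroupOf (BU n S)) := by
  apply Subgroup.isComplement'_of_disjoint_and_mul_eq_univ
  · rw [Subgroup.disjoint_def]
    intro x hxU hxT
    rw [Subgroup.mem_subgroupOf] at hxU hxT
    exact Subtype.ext (eq_one_of_mem_UU_of_mem_TU _ hxU hxT)
  · rw [Set.eq_univ_iff_forall]
    intro b
    have hd := diagOf_mem b.1 b.2
    refine Set.mem_mul.2 ⟨⟨b.1 * (diagOf b.1 b.2)⁻¹, (mul_diagOf_inv_mem b.1 b.2).1⟩, ?_,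
      ⟨diagOf b.1 b.2, hd.1⟩, ?_, ?_⟩
    · show _ ∈ (UU n S).subgroupOf (BU n S)
      rw [Subgroup.mem_subgroupOf]
      exact mul_diagOf_inv_mem b.1 b.2
    · show _ ∈ (BU n S ⊓ NU n S).subgroupOf (BU n S)
      rw [Subgroup.mem_subgroupOf]
      exact hd
    · apply Subtype.ext
      show b.1 * (diagOf b.1 b.2)⁻¹ * diagOf b.1 b.2 = b.1
      group

/-- powers of a torus element -/
theorem torus_pow (t : ↥(GJ n S)) (ht : IsMono (mt t) 1) (k : ℕ) :
    IsMono (mt (t ^ k)) 1 ∧ ∀ x, mt (t ^ k) x x = (mt t x x) ^ k := by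
  induction k with
  | zero =>
    rw [pow_zero]
    exact ⟨isMono_one, fun x => by rw [mt_one, Matrix.one_apply_eq, pow_zero]⟩
  | succ k ih =>
    rw [pow_succ]
    constructor
    · have := isMono_mul ih.1 ht
      rw [mul_one] at this
      rw [mt_mul]
      exact this
    · intro x
      rw [mt_mul, up_mul_diag (up_of_isMono_one _ ih.1) (up_of_isMono_one _ ht), ih.2, pow_succ]

theorem torus_pow_card_sub_one [Fintype F] (t : ↥(GJ n S)) (ht : t ∈ BU n S ⊓ NU n S) :
    t ^ (Fintype.card F - 1) = 1 := by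
  have hmono := (mem_TU_iff t).1 ht
  obtain ⟨h1, h2⟩ := torus_pow t hmono (Fintype.card F - 1)
  apply mt_ext
  ext x y
  rw [mt_one, Matrix.one_apply]
  by_cases h : x = y
  · rw [if_pos h, h, h2, FiniteField.pow_card_sub_one_eq_one _ (up_diag_ne_zero t ht.1 y)]
  · rw [if_neg h]
    by_contra h0
    exact h (h1 x y h0)

instance gjFinite [Finite F] : Finite ↥(GJ n S) := by
  haveI : Fintype F := Fintype.ofFinite F
  exact Subtype.finite

theorem torus_card_not_dvd [Fintype F] (p : ℕ) [Fact p.Prime] [CharP F p] :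
    ¬ p ∣ Nat.card ((BU n S ⊓ NU n S).subgroupOf (BU n S)) := by
  intro hdvd
  have hp : p.Prime := Fact.out
  obtain ⟨x, hx⟩ := exists_prime_orderOf_dvd_card' p hdvd
  have hxT : (x : ↥(BU n S)).1 ∈ BU n S ⊓ NU n S := Subgroup.mem_subgroupOf.1 x.2
  have h1 : x ^ (Fintype.card F - 1) = 1 := by
    apply Subtype.ext
    apply Subtype.ext
    have := torus_pow_card_sub_one _ hxT
    exact this
  have h2 : p ∣ Fintype.card F - 1 := by
    rw [← hx]
    exact orderOf_dvd_of_pow_eq_one h1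
  obtain ⟨k, _, hk⟩ := FiniteField.card F p
  have h3 : p ∣ Fintype.card F := by
    rw [hk]
    exact dvd_pow_self p k.ne_zero
  have h4 : 1 ≤ Fintype.card F := Fintype.card_pos
  have h5 : p ∣ 1 := by
    have := Nat.dvd_sub h3 h2
    rwa [Nat.sub_sub_self h4] at this
  exact hp.one_lt.ne' (Nat.dvd_one.mp h5)

theorem conj_uNode_not_mem (k : Fin (n / 2)) (u m : ↥(GJ n S)) (hu : mt u (pa k) (pc k) ≠ 0)
    {π : Equiv.Perm (Fin n)} (hπ : RvC π) (hmm : IsMono (mt m) π)
    (hneg : rk (π.symm (pc k)) < rk (π.symm (pa k))) : m⁻¹ * u * m ∉ BU n S := by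
  intro h
  have h1 := h hneg
  rw [mt_mul, mt_mul, mono_conj_apply m hπ hmm, Equiv.apply_symm_apply,
    Equiv.apply_symm_apply] at h1
  have h2 := mono_pivot_ne_zero m hmm (π.symm (pc k))
  rw [Equiv.apply_symm_apply] at h2
  have h3 := mono_pivot_mul_inv m hmm (π.symm (pa k))
  rw [Equiv.apply_symm_apply] at h3
  have h4 : mt m⁻¹ (π.symm (pa k)) (pa k) ≠ 0 := by
    intro h0
    rw [h0, zero_mul] at h3
    exact zero_ne_one h3
  exact mul_ne_zero (mul_ne_zero h4 hu) h2 h1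

/-- a coset fixed by the whole unitriangular group is the trivial coset -/
theorem mem_BU_of_fixed (hS : HasSkew S) (g : ↥(GJ n S))
    (h : ∀ u ∈ UU n S, g⁻¹ * u * g ∈ BU n S) : g ∈ BU n S := by
  obtain ⟨m, hm, hg⟩ := bruhat (P := guBN (n := n) hS) g
  obtain ⟨b1, hb1, b2, hb2, rfl⟩ := mem_dc.1 hg
  have hb1' : b1 ∈ BU n S := hb1
  have hb2' : b2 ∈ BU n S := hb2
  obtain ⟨π, hπ, hmm⟩ := hm
  have hall : ∀ k : Fin (n / 2), rk (π.symm (pa k)) < rk (π.symm (pc k)) := by
    intro k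
    rcases rk_neg_or_pos k π with hpos | hneg
    · exact hpos
    · exfalso
      obtain ⟨u, hu1, hu2, hu3⟩ := exists_uNode hS k
      have huU : u ∈ UU n S := ⟨up_of_isUk k u hu1, hu3⟩
      apply conj_uNode_not_mem k u m hu2 hπ hmm hneg
      have h1 := h (b1 * u * b1⁻¹) (UU_conj_mem b1 _ hb1' huU)
      have e : m⁻¹ * u * m =
          b2 * ((b1 * m * b2)⁻¹ * (b1 * u * b1⁻¹) * (b1 * m * b2)) * b2⁻¹ := by group
      rw [e]
      exact (BU n S).mul_mem ((BU n S).mul_mem hb2' h1) ((BU n S).inv_mem hb2')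
  have h1 : π.symm = 1 := perm_eq_one_of_simple π.symm (RvC_inv hπ) hall
  have h2 : π = 1 := by
    have := congrArg Equiv.symm h1
    rwa [Equiv.symm_symm] at this
  rw [h2] at hmm
  exact (BU n S).mul_mem ((BU n S).mul_mem hb1' (up_of_isMono_one m hmm)) hb2'

theorem sub_smul_coe {G : Type*} [Group G] (U B : Subgroup G) (u : U) (g : G) :
    u • (g : G ⧸ B) = (((u : G) * g : G) : G ⧸ B) := rfl

theorem index_BU_not_dvd [Fintype F] (hS : HasSkew S) (p : ℕ) [Fact p.Prime] [CharP F p] :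
    ¬ p ∣ (BU n S).index := by
  intro hdvd
  have hU := UU_isPGroup (n := n) (S := S) p
  have ha : ((1 : ↥(GJ n S)) : ↥(GJ n S) ⧸ BU n S) ∈
      MulAction.fixedPoints ↥(UU n S) (↥(GJ n S) ⧸ BU n S) := by
    intro u
    rw [sub_smul_coe, QuotientGroup.eq, mul_one, mul_one]
    exact (BU n S).inv_mem (UU_le_BU u.2)
  rw [Subgroup.index_eq_card] at hdvd
  obtain ⟨b, hb, hab⟩ := hU.exists_fixed_point_of_prime_dvd_card_of_fixed_point
    (↥(GJ n S) ⧸ BU n S) hdvd ha
  apply hab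
  induction b using QuotientGroup.induction_on with
  | H g =>
    rw [QuotientGroup.eq, inv_one, one_mul]
    apply mem_BU_of_fixed hS
    intro u hu
    have h1 := hb ⟨u⁻¹, (UU n S).inv_mem hu⟩
    rw [sub_smul_coe, QuotientGroup.eq] at h1
    have e : g⁻¹ * u * g = ((u⁻¹ : ↥(GJ n S)) * g)⁻¹ * g := by group
    rw [e]
    exact h1

/-- the `p`-part of the order of the unitary group -/
theorem card_gu_ppart [Fintype F] (hS : HasSkew S) (p : ℕ) [Fact p.Prime] [CharP F p] :
    ∃ a r : ℕ, Nat.card ((UU n S).subgroupOf (BU n S)) = p ^ a ∧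
      Nat.card ↥(GJ n S) = p ^ a * r ∧ ¬ p ∣ r := by
  have hp : p.Prime := Fact.out
  have hU' : IsPGroup p ↥((UU n S).subgroupOf (BU n S)) :=
    (UU_isPGroup (n := n) (S := S) p).comap_of_injective (BU n S).subtype
      Subtype.val_injective
  obtain ⟨a, ha⟩ := IsPGroup.iff_card.1 hU'
  refine ⟨a, Nat.card ((BU n S ⊓ NU n S).subgroupOf (BU n S)) * (BU n S).index, ha, ?_, ?_⟩
  · rw [← ha, ← mul_assoc, (UU_isComplement' (n := n) (S := S)).card_mul_card,
      Subgroup.card_mul_index]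
  · intro h
    rcases (Nat.Prime.dvd_mul hp).1 h with h | h
    · exact torus_card_not_dvd p h
    · exact index_BU_not_dvd hS p h

end Cfsg.Agent.Lib.helper14.UBN
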