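import Mathlib
import Cfsg.Agent.Lib.helper14.UBNi
import Cfsg.Agent.Lib.helper14.StIrr
import Cfsg.Agent.Lib.helper14.StVal
import Cfsg.Prelude.Def_ParabolicCharacters

/-!
The Steinberg character of the unitary group `GJ n S`.
-/

set_option autoImplicit false

namespace Cfsg.Agent.Lib.helper14.UBN

open Matrix
open Cfsg.Agent.Lib.helper3 Cfsg.Agent.Lib.helper14

universe u
variable {F : Type u} [Field F] {n : ℕ} {S : SInv F}

theorem nLong_conj_torus (h : ↥(GJ n S)) (hh : h ∈ BU n S ⊓ NU n S) :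
    (nLong n S)⁻¹ * h * nLong n S ∈ BU n S := by
  have := conj_torus_mem (nLong n S)⁻¹ h ((NU n S).inv_mem nLong_mem_NU) hh
  rwa [inv_inv] at this

theorem mem_torus_of_nLong_conj (β : ↥(GJ n S)) (hβ : β ∈ BU n S)
    (hc : (nLong n S)⁻¹ * β * nLong n S ∈ BU n S) : β ∈ BU n S ⊓ NU n S := by
  rw [mem_TU_iff]
  intro x y hxy
  rw [Equiv.Perm.one_apply]
  by_contra hne
  have h1 : rk x < rk y := by
    rcases lt_or_gt_of_ne (fun e => hne (rk_injective e)) with h | h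
    · exact h
    · exact absurd (hβ h) hxy
  have h2 := hc ((rk_rv_lt_iff y x).2 h1)
  rw [mt_mul, mt_mul, mono_conj_apply _ RvC_rvPerm isMono_nLong, rvPerm_apply,
    rvPerm_apply, rv_rv, rv_rv] at h2
  have h3 := mono_pivot_ne_zero (nLong n S) isMono_nLong (rv y)
  rw [rvPerm_apply, rv_rv] at h3
  have h4 := mono_pivot_mul_inv (nLong n S) isMono_nLong (rv x)
  rw [rvPerm_apply, rv_rv] at h4
  have h5 : mt (nLong n S)⁻¹ (rv x) x ≠ 0 := by
    intro h0
    rw [h0, zero_mul] at h4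
    exact zero_ne_one h4
  exact mul_ne_zero (mul_ne_zero h5 hxy) h3 h2

/-- an element centralising the unitriangular group is upper triangular -/
theorem mem_BU_of_comm (hS : HasSkew S) (z : ↥(GJ n S))
    (h : ∀ u ∈ UU n S, u * z = z * u) : z ∈ BU n S := by
  apply mem_BU_of_fixed hS
  intro u hu
  have e : z⁻¹ * u * z = u := by
    rw [mul_assoc, h u hu, ← mul_assoc, inv_mul_cancel, one_mul]
  rw [e]
  exact UU_le_BU hu

theorem fpc_of_conj_mem {G : Type*} [Group G] (H : Subgroup G) (z : G)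
    (hz : ∀ a : G, a⁻¹ * z * a ∈ H) :
    Cfsg.fixedPointCharacter H z = Cfsg.fixedPointCharacter H 1 := by
  unfold Cfsg.fixedPointCharacter
  congr 1
  have h1 : MulAction.fixedBy (G ⧸ H) z = Set.univ := by
    ext x
    simp only [MulAction.mem_fixedBy, Set.mem_univ, iff_true]
    induction x using QuotientGroup.induction_on with
    | H a =>
      rw [MulAction.Quotient.smul_coe, smul_eq_mul, QuotientGroup.eq]
      have : (z * a)⁻¹ * a = (a⁻¹ * z * a)⁻¹ := by group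
      rw [this]
      exact H.inv_mem (hz a)
  have h2 : MulAction.fixedBy (G ⧸ H) (1 : G) = Set.univ := by
    ext x
    simp
  rw [h1, h2]

/-- the Steinberg character of the unitary group -/
theorem gu_steinberg [Fintype F] (hS : HasSkew S) (p : ℕ) [Fact p.Prime] [CharP F p] (n : ℕ) :
    ∃ (θ : ↥(GJ n S) → ℂ) (a r : ℕ), Cfsg.IsIrrCharacter ↥(GJ n S) θ ∧
      θ 1 = ((p ^ a : ℕ) : ℂ) ∧ Nat.card ↥(GJ n S) = p ^ a * r ∧ ¬ p ∣ r ∧
      ∀ z : ↥(GJ n S), (∀ g : ↥(GJ n S), g⁻¹ * z * g ∈ BU n S) → θ z = θ 1 := by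
  classical
  have hp : p.Prime := Fact.out
  haveI : Fintype ↥(GJ n S) := Fintype.ofFinite _
  set P : Cfsg.BNPair ↥(GJ n S) := guBN (n := n) hS with hP
  let Q : Finset ℕ → Subgroup ↥(GJ n S) :=
    fun J => P.parabolic (sigmaS n S '' (J : Set ℕ))
  set θ : ↥(GJ n S) → ℂ := fun g =>
    ∑ J ∈ (Finset.range (n / 2)).powerset,
      (-1 : ℂ) ^ J.card * Cfsg.fixedPointCharacter (Q J) g with hθ
  have hval : ∀ b : ↥(BU n S), θ (b : ↥(GJ n S)) =
      (Nat.card (MulAction.fixedBy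
        (↥(BU n S) ⧸ (BU n S ⊓ NU n S).subgroupOf (BU n S)) b) : ℂ) := fun b =>
    st_value P (BU n S) rfl Q (sigmaS n S) (n / 2) (sigmaS_mem hS) (sigmaS_surj hS)
      (fun J _ => rfl) (nLong_mem_N hS) (nLong_h1 hS) (nLong_h2 hS) (BU n S ⊓ NU n S)
      (fun h hh _ => nLong_conj_torus h hh) (fun β hβ hc => mem_torus_of_nLong_conj β hβ hc) b
  obtain ⟨a, r, hUa, hGa, hr⟩ := card_gu_ppart (n := n) (S := S) hS p
  have hθ1 : θ 1 = ((p ^ a : ℕ) : ℂ) := by
    have h1 := hval 1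
    rw [MulAction.fixedBy_one_eq_univ, Nat.card_congr (Equiv.Set.univ _)] at h1
    have h2 : Nat.card (↥(BU n S) ⧸ (BU n S ⊓ NU n S).subgroupOf (BU n S)) = p ^ a := by
      rw [← Subgroup.index_eq_card, (UU_isComplement' (n := n) (S := S)).index_eq_card, hUa]
    rw [h2] at h1
    exact h1
  have hirr : Cfsg.IsIrrCharacter ↥(GJ n S) θ :=
    st_irr_abstract P Q (sigmaS n S) (n / 2) (sigmaS_mem hS) (sigmaS_surj hS) (fun J _ => rfl)
      (nLong_mem_N hS) (nLong_h1 hS) (nLong_h1' hS) (nLong_h2 hS) θ hθ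
      ⟨p ^ a, pow_pos hp.pos _, hθ1⟩
  refine ⟨θ, a, r, hirr, hθ1, hGa, hr, ?_⟩
  intro z hz
  rw [hθ]
  apply Finset.sum_congr rfl
  intro J _
  rw [fpc_of_conj_mem (Q J) z (fun g => le_sup_left (a := P.B) (hz g))]

end Cfsg.Agent.Lib.helper14.UBN
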