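import Mathlib
import Cfsg.Agent.Lib.helper14.UBNj

/-!
The (B,N)-pair and the Steinberg character of the isometry group `GJ n S` of the form
`Σ u_i σ(v_{n-1-i})` under the weaker hypothesis `NodeHyp` (for every node there is a block unipotent
element with nonzero `(a,c)` entry), which also covers the odd dimensional orthogonal groups in odd
characteristic (`σ = id`).  The proofs repeat those of `UBNh`, `UBNi`, `UBNj`.
-/

set_option autoImplicit false

namespace Cfsg.Agent.Lib.helper14.OBN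

open Matrix
open Cfsg.Agent.Lib.helper3 Cfsg.Agent.Lib.helper14 Cfsg.Agent.Lib.helper8
open Cfsg.Agent.Lib.helper14.UBN

universe u
variable {F : Type u} [Field F] {n : ℕ} {S : SInv F}

/-- the node hypothesis: for every node a block unipotent element with nonzero `(a,c)` entry -/
def NodeHyp (n : ℕ) (S : SInv F) : Prop :=
  ∀ k : Fin (n / 2), ∃ u : ↥(GJ n S), IsUk k (mt u) ∧ mt u (pa k) (pc k) ≠ 0 ∧ ∀ x, mt u x x = 1

theorem sRef_conj_ne (hS : NodeHyp n S) (k : Fin (n / 2)) :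
    (fun b : ↥(GJ n S) => sRef k * b * sRef k) '' (BU n S : Set ↥(GJ n S)) ≠
      (BU n S : Set ↥(GJ n S)) := by
  intro h
  obtain ⟨u, hu1, hu2, _⟩ := hS k
  have h1 : sRef (S := S) k * u * sRef k ∈ (BU n S : Set ↥(GJ n S)) := by
    rw [← h]
    exact ⟨u, up_of_isUk k u hu1, rfl⟩
  have h2 : rk (pa k) < rk (pc k) := rk_pa_lt_pc k
  have h3 := h1 h2
  rw [mt_mul, mt_mul, sRef_conj_apply_ca] at h3
  exact hu2 h3

/-- the (B,N)-pair of the unitary group -/
def guBN (hS : NodeHyp n S) : Cfsg.BNPair ↥(GJ n S) where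
  B := BU n S
  N := NU n S
  S := SSet n S
  sup_eq_top := BU_sup_NU
  conj_mem := fun m hm t ht => conj_torus_mem m t hm ht
  subset := SSet_subset_NU
  sq_mem := by
    rintro _ ⟨k, rfl⟩
    show sRef k * sRef k ∈ BU n S
    rw [sRef_mul_self]
    exact (BU n S).one_mem
  inj := by
    rintro _ ⟨k, rfl⟩ _ ⟨k', rfl⟩ h
    show sRef k = sRef k'
    rw [sRef_injective_mod k k' h]
  closure_sup := closure_SSet_sup
  mul_mem_union := by
    rintro _ ⟨k, rfl⟩ m hm b hb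
    exact gu_mul_mem_union k m hm b hb
  conj_ne := by
    rintro _ ⟨k, rfl⟩
    exact sRef_conj_ne hS k

theorem Pp_of_pos (hS : NodeHyp n S) (k : Fin (n / 2)) (m : ↥(GJ n S))
    {π : Equiv.Perm (Fin n)} (hπ : RvC π) (hmm : IsMono (mt m) π)
    (hpos : rk (π.symm (pa k)) < rk (π.symm (pc k))) :
    Pp (guBN (n := n) hS) (sRef k) m := by
  intro b hb
  obtain ⟨b1, hb1, b2, hb2, e⟩ := bn_P1 k m hπ hmm hpos b hb
  exact mem_dc.2 ⟨b1, hb1, b2, hb2, e⟩

theorem not_Pp_of_neg (hS : NodeHyp n S) (k : Fin (n / 2)) (m : ↥(GJ n S))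
    {π : Equiv.Perm (Fin n)} (hπ : RvC π) (hmm : IsMono (mt m) π)
    (hneg : rk (π.symm (pc k)) < rk (π.symm (pa k))) :
    ¬ Pp (guBN (n := n) hS) (sRef k) m := by
  intro hP
  obtain ⟨u, hu1, hu2, _⟩ := hS k
  have huB : u ∈ BU n S := up_of_isUk k u hu1
  have h1 := hP u huB
  obtain ⟨b1, hb1, b2, hb2, e⟩ := bn_caseB k m hπ hmm hneg u huB hu2
  have h2 : sRef k * u * m ∈ dc (guBN (n := n) hS) m := mem_dc.2 ⟨b1, hb1, b2, hb2, e⟩
  have hs : sRef k ∈ (guBN (n := n) hS).S := sRef_mem_SSet k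
  have hm : m ∈ (guBN (n := n) hS).N := ⟨π, hπ, hmm⟩
  exact dc_s_mul_ne hs hm ((dc_eq_of_mem h1).symm.trans (dc_eq_of_mem h2))

theorem nLong_mem_N (hS : NodeHyp n S) : nLong n S ∈ (guBN (n := n) hS).N := nLong_mem_NU

theorem nLong_h1 (hS : NodeHyp n S) :
    ∀ s ∈ (guBN (n := n) hS).S, ¬ Pp (guBN (n := n) hS) s (nLong n S)⁻¹ := by
  rintro _ ⟨k, rfl⟩
  apply not_Pp_of_neg hS k _ (RvC_inv RvC_rvPerm) (isMono_inv _ RvC_rvPerm isMono_nLong)
  show rk (rv (pc k)) < rk (rv (pa k))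
  rw [rk_rv_lt_iff]
  exact rk_pa_lt_pc k

theorem nLong_h1' (hS : NodeHyp n S) :
    ∀ s ∈ (guBN (n := n) hS).S, ¬ Pp (guBN (n := n) hS) s (nLong n S) := by
  rintro _ ⟨k, rfl⟩
  apply not_Pp_of_neg hS k _ RvC_rvPerm isMono_nLong
  show rk (rv (pc k)) < rk (rv (pa k))
  rw [rk_rv_lt_iff]
  exact rk_pa_lt_pc k

theorem nLong_h2 (hS : NodeHyp n S) :
    ∀ m ∈ (guBN (n := n) hS).N, (∀ s ∈ (guBN (n := n) hS).S, ¬ Pp (guBN (n := n) hS) s m) →
      LAsc (guBN (n := n) hS) (guBN (n := n) hS).S (m * nLong n S) := by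
  rintro m ⟨π, hπ, hmm⟩ hnot
  have hall : ∀ k : Fin (n / 2), rk (π.symm (pc k)) < rk (π.symm (pa k)) := by
    intro k
    rcases rk_neg_or_pos k π with hpos | hneg
    · exact absurd (Pp_of_pos hS k m hπ hmm hpos) (hnot _ (sRef_mem_SSet k))
    · exact hneg
  have h1 : π.symm = rvPerm n := perm_eq_rv_of_simple π.symm (RvC_inv hπ) hall
  have h2 : π = rvPerm n := by
    have := congrArg Equiv.symm h1
    rw [Equiv.symm_symm, rvPerm_symm] at this
    exact this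
  have hmono : IsMono (mt (m * nLong n S)) 1 := by
    have := isMono_mul hmm (isMono_nLong (n := n) (S := S))
    rw [h2, rvPerm_mul_self] at this
    rw [mt_mul]
    exact this
  rintro _ ⟨k, rfl⟩
  apply Pp_of_pos hS k (m * nLong n S) RvC_one hmono
  show rk (pa k) < rk (pc k)
  exact rk_pa_lt_pc k

theorem sigmaS_mem (hS : NodeHyp n S) : ∀ i < n / 2, sigmaS n S i ∈ (guBN (n := n) hS).S := by
  intro i hi
  unfold sigmaS
  rw [dif_pos hi]
  exact sRef_mem_SSet _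

theorem sigmaS_surj (hS : NodeHyp n S) :
    ∀ s ∈ (guBN (n := n) hS).S, ∃ i < n / 2, sigmaS n S i = s := by
  rintro _ ⟨k, rfl⟩
  refine ⟨k.val, k.2, ?_⟩
  unfold sigmaS
  rw [dif_pos k.2]

/-- a coset fixed by the whole unitriangular group is the trivial coset -/
theorem mem_BU_of_fixed (hS : NodeHyp n S) (g : ↥(GJ n S))
    (h : ∀ u ∈ UU n S, g⁻¹ * u * g ∈ BU n S) : g ∈ BU n S := by
  obtain ⟨m, hm, hg⟩ := bruhat (P := guBN (n := n) hS) g
  obtain ⟨b1, hb1, b2, hb2, rfl⟩ := mem_dc.1 hg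
  have hb1' : b1 ∈ BU n S := hb1
  have hb2' : b2 ∈ BU n S := hb2
  obtain ⟨π, hπ, hmm⟩ := hm
  have hall : ∀ k : Fin (n / 2), rk (π.symm (pa k)) < rk (π.symm (pc k)) := by
    intro k
    rcases rk_neg_or_pos k π with hpos | hneg
    · exact hpos
    · exfalso
      obtain ⟨u, hu1, hu2, hu3⟩ := hS k
      have huU : u ∈ UU n S := ⟨up_of_isUk k u hu1, hu3⟩
      apply conj_uNode_not_mem k u m hu2 hπ hmm hneg
      have h1 := h (b1 * u * b1⁻¹) (UU_conj_mem b1 _ hb1' huU)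
      have e : m⁻¹ * u * m =
          b2 * ((b1 * m * b2)⁻¹ * (b1 * u * b1⁻¹) * (b1 * m * b2)) * b2⁻¹ := by group
      rw [e]
      exact (BU n S).mul_mem ((BU n S).mul_mem hb2' h1) ((BU n S).inv_mem hb2')
  have h1 : π.symm = 1 := perm_eq_one_of_simple π.symm (RvC_inv hπ) hall
  have h2 : π = 1 := by
    have := congrArg Equiv.symm h1
    rwa [Equiv.symm_symm] at this
  rw [h2] at hmm
  exact (BU n S).mul_mem ((BU n S).mul_mem hb1' (up_of_isMono_one m hmm)) hb2'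

theorem index_BU_not_dvd [Fintype F] (hS : NodeHyp n S) (p : ℕ) [Fact p.Prime] [CharP F p] :
    ¬ p ∣ (BU n S).index := by
  intro hdvd
  have hU := UU_isPGroup (n := n) (S := S) p
  have ha : ((1 : ↥(GJ n S)) : ↥(GJ n S) ⧸ BU n S) ∈
      MulAction.fixedPoints ↥(UU n S) (↥(GJ n S) ⧸ BU n S) := by
    intro u
    rw [sub_smul_coe, QuotientGroup.eq, mul_one, mul_one]
    exact (BU n S).inv_mem (UU_le_BU u.2)
  rw [Subgroup.index_eq_card] at hdvd
  obtain ⟨b, hb, hab⟩ := hU.exists_fixed_point_of_prime_dvd_card_of_fixed_point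
    (↥(GJ n S) ⧸ BU n S) hdvd ha
  apply hab
  induction b using QuotientGroup.induction_on with
  | H g =>
    rw [QuotientGroup.eq, inv_one, one_mul]
    apply mem_BU_of_fixed hS
    intro u hu
    have h1 := hb ⟨u⁻¹, (UU n S).inv_mem hu⟩
    rw [sub_smul_coe, QuotientGroup.eq] at h1
    have e : g⁻¹ * u * g = ((u⁻¹ : ↥(GJ n S)) * g)⁻¹ * g := by group
    rw [e]
    exact h1

/-- the `p`-part of the order of the unitary group -/
theorem card_gu_ppart [Fintype F] (hS : NodeHyp n S) (p : ℕ) [Fact p.Prime] [CharP F p] :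
    ∃ a r : ℕ, Nat.card ((UU n S).subgroupOf (BU n S)) = p ^ a ∧
      Nat.card ↥(GJ n S) = p ^ a * r ∧ ¬ p ∣ r := by
  have hp : p.Prime := Fact.out
  have hU' : IsPGroup p ↥((UU n S).subgroupOf (BU n S)) :=
    (UU_isPGroup (n := n) (S := S) p).comap_of_injective (BU n S).subtype
      Subtype.val_injective
  obtain ⟨a, ha⟩ := IsPGroup.iff_card.1 hU'
  refine ⟨a, Nat.card ((BU n S ⊓ NU n S).subgroupOf (BU n S)) * (BU n S).index, ha, ?_, ?_⟩
  · rw [← ha, ← mul_assoc, (UU_isComplement' (n := n) (S := S)).card_mul_card,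
      Subgroup.card_mul_index]
  · intro h
    rcases (Nat.Prime.dvd_mul hp).1 h with h | h
    · exact torus_card_not_dvd p h
    · exact index_BU_not_dvd hS p h

/-- an element centralising the unitriangular group is upper triangular -/
theorem mem_BU_of_comm (hS : NodeHyp n S) (z : ↥(GJ n S))
    (h : ∀ u ∈ UU n S, u * z = z * u) : z ∈ BU n S := by
  apply mem_BU_of_fixed hS
  intro u hu
  have e : z⁻¹ * u * z = u := by
    rw [mul_assoc, h u hu, ← mul_assoc, inv_mul_cancel, one_mul]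
  rw [e]
  exact UU_le_BU hu

/-- the Steinberg character of the unitary group -/
theorem gu_steinberg [Fintype F] (hS : NodeHyp n S) (p : ℕ) [Fact p.Prime] [CharP F p] :
    ∃ (θ : ↥(GJ n S) → ℂ) (a r : ℕ), Cfsg.IsIrrCharacter ↥(GJ n S) θ ∧
      θ 1 = ((p ^ a : ℕ) : ℂ) ∧ Nat.card ↥(GJ n S) = p ^ a * r ∧ ¬ p ∣ r ∧
      ∀ z : ↥(GJ n S), (∀ g : ↥(GJ n S), g⁻¹ * z * g ∈ BU n S) → θ z = θ 1 := by
  classical
  have hp : p.Prime := Fact.out
  haveI : Fintype ↥(GJ n S) := Fintype.ofFinite _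
  set P : Cfsg.BNPair ↥(GJ n S) := guBN (n := n) hS with hP
  let Q : Finset ℕ → Subgroup ↥(GJ n S) :=
    fun J => P.parabolic (sigmaS n S '' (J : Set ℕ))
  set θ : ↥(GJ n S) → ℂ := fun g =>
    ∑ J ∈ (Finset.range (n / 2)).powerset,
      (-1 : ℂ) ^ J.card * Cfsg.fixedPointCharacter (Q J) g with hθ
  have hval : ∀ b : ↥(BU n S), θ (b : ↥(GJ n S)) =
      (Nat.card (MulAction.fixedBy
        (↥(BU n S) ⧸ (BU n S ⊓ NU n S).subgroupOf (BU n S)) b) : ℂ) := fun b =>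
    st_value P (BU n S) rfl Q (sigmaS n S) (n / 2) (sigmaS_mem hS) (sigmaS_surj hS)
      (fun J _ => rfl) (nLong_mem_N hS) (nLong_h1 hS) (nLong_h2 hS) (BU n S ⊓ NU n S)
      (fun h hh _ => nLong_conj_torus h hh) (fun β hβ hc => mem_torus_of_nLong_conj β hβ hc) b
  obtain ⟨a, r, hUa, hGa, hr⟩ := card_gu_ppart (n := n) (S := S) hS p
  have hθ1 : θ 1 = ((p ^ a : ℕ) : ℂ) := by
    have h1 := hval 1
    rw [MulAction.fixedBy_one_eq_univ, Nat.card_congr (Equiv.Set.univ _)] at h1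
    have h2 : Nat.card (↥(BU n S) ⧸ (BU n S ⊓ NU n S).subgroupOf (BU n S)) = p ^ a := by
      rw [← Subgroup.index_eq_card, (UU_isComplement' (n := n) (S := S)).index_eq_card, hUa]
    rw [h2] at h1
    exact h1
  have hirr : Cfsg.IsIrrCharacter ↥(GJ n S) θ :=
    st_irr_abstract P Q (sigmaS n S) (n / 2) (sigmaS_mem hS) (sigmaS_surj hS) (fun J _ => rfl)
      (nLong_mem_N hS) (nLong_h1 hS) (nLong_h1' hS) (nLong_h2 hS) θ hθ
      ⟨p ^ a, pow_pos hp.pos _, hθ1⟩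
  refine ⟨θ, a, r, hirr, hθ1, hGa, hr, ?_⟩
  intro z hz
  rw [hθ]
  apply Finset.sum_congr rfl
  intro J _
  rw [fpc_of_conj_mem (Q J) z (fun g => le_sup_left (a := P.B) (hz g))]

end Cfsg.Agent.Lib.helper14.OBN
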