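import Mathlib
import Cfsg.Agent.S2544
import Cfsg.Agent.Lib.Helper25.CharQuot
import Cfsg.Agent.Lib.Helper25.CharRestrict
import Cfsg.Agent.Lib.helper2.CharInt
import Cfsg.Agent.Lib.Helper24.FSDefZero
import Cfsg.Agent.Lib.helper15.StbSt3
import Cfsg.Agent.S0139

/-!
Descent of a Steinberg-like character: from an irreducible character `θ` of `G` of degree the full
`p`-part of `|G|`, through a normal subgroup `N` of index prime to `p` and a surjection
`ψ : H → N`, to the central quotient `H / Z(H)`.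
-/

set_option autoImplicit false

namespace Cfsg.Agent.Lib.helper14

open Cfsg.Agent.Lib.helper15.StbSt Cfsg.Agent.Lib.Helper25 Cfsg.Agent.S2544

theorem steinberg_descend {G H : Type*} [Group G] [Fintype G] [Group H] [Finite H] (p : ℕ)
    [Fact p.Prime] (θ : G → ℂ) (a r : ℕ) (hθ : Cfsg.IsIrrCharacter G θ)
    (hθ1 : θ 1 = ((p ^ a : ℕ) : ℂ)) (hG : Nat.card G = p ^ a * r) (hr : ¬ p ∣ r)
    (N : Subgroup G) [hN : N.Normal] (hidx : ¬ p ∣ N.index) (ψ : H →* ↥N)
    (hψ : Function.Surjective ψ) (hHG : Nat.card H ∣ Nat.card G)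
    (hcent : ∀ z ∈ Subgroup.center H, θ ((ψ z : ↥N) : G) = θ 1) :
    ∃ χ : H ⧸ Subgroup.center H → ℂ, Cfsg.IsIrrCharacter (H ⧸ Subgroup.center H) χ ∧
      ∀ P : Sylow p (H ⧸ Subgroup.center H), χ 1 = Nat.card P ∧
        ∀ x : H ⧸ Subgroup.center H, x ∈ P → x ≠ 1 → χ x = 0 := by
  classical
  have hp : p.Prime := Fact.out
  -- vanishing on `G`
  have hdegG : Cfsg.charDegree θ = p ^ a := by
    unfold Cfsg.charDegree
    rw [hθ1, Complex.natCast_re, Nat.floor_natCast]
  have hdivG : p ^ (Nat.card G).factorization p ∣ Cfsg.charDegree θ := by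
    rw [hdegG]
    have h1 : p ^ (Nat.card G).factorization p ∣ p ^ a * r := by
      rw [← hG]
      exact Nat.ordProj_dvd _ _
    exact (Nat.Coprime.pow_left _
      ((Nat.Prime.coprime_iff_not_dvd hp).mpr hr)).dvd_of_dvd_mul_right h1
  have hvan : ∀ y : G, p ∣ orderOf y → θ y = 0 := fun y hy =>
    Cfsg.Agent.Lib.Helper24.fz_vanish (⟨θ, hθ⟩ : Cfsg.IrrCharacter G) p hp hdivG y hy
  -- the Sylow subgroups of `N`
  have hNcard : ∃ m' : ℕ, Nat.card N = p ^ a * m' ∧ ¬ p ∣ m' := by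
    have h1 : Nat.card N * N.index = Nat.card G := Subgroup.card_mul_index N
    have hcop : Nat.Coprime (p ^ a) N.index :=
      Nat.Coprime.pow_left _ ((Nat.Prime.coprime_iff_not_dvd hp).mpr hidx)
    have hdvd : p ^ a ∣ Nat.card N := by
      apply hcop.dvd_of_dvd_mul_right
      rw [h1, hG]
      exact dvd_mul_right _ _
    obtain ⟨m', hm'⟩ := hdvd
    refine ⟨m', hm', ?_⟩
    intro hpm'
    apply hr
    have h2 : p ^ a * (m' * N.index) = p ^ a * r := by
      rw [← mul_assoc, ← hm', h1, hG]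
    have h3 := Nat.eq_of_mul_eq_mul_left (pow_pos hp.pos _) h2
    rw [← h3]
    exact dvd_mul_of_dvd_left hpm' _
  obtain ⟨m', hNc, hpm'⟩ := hNcard
  obtain P : Sylow p N := default
  have hPc : Nat.card (P : Subgroup N) = p ^ a := sylow_card_of_ppart p a m' hNc hpm' P
  have hdeg : θ 1 = (Nat.card (P : Subgroup N) : ℂ) := by
    rw [hPc, hθ1]
  obtain ⟨d, ρ, hρ, hρχ⟩ := restrict_irr_of_sylow_regular N p θ hθ hvan P hdeg
  haveI := hρ
  let ρS : Representation ℂ H (Fin d → ℂ) := MonoidHom.comp ρ ψ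
  have hρS : ρS.IsIrreducible := irreducible_comp_surj ψ hψ ρ
  haveI := hρS
  have hchar : ∀ s : H, ρS.character s = θ ((ψ s : ↥N) : G) := by
    intro s
    show ρ.character (ψ s) = _
    rw [hρχ]
  have hK : Subgroup.center H ≤ MonoidHom.ker ρS := by
    intro z hz
    rw [MonoidHom.mem_ker]
    have h1 : ρS.character z = (Module.finrank ℂ (Fin d → ℂ) : ℂ) := by
      rw [← Representation.char_one ρS, hchar, hchar, map_one]
      exact hcent z hz
    exact (Cfsg.Agent.S0139.result ρS z).mp h1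
  let σ : Representation ℂ (H ⧸ Subgroup.center H) (Fin d → ℂ) :=
    QuotientGroup.lift (Subgroup.center H) ρS hK
  have hσ : σ.IsIrreducible := quotient_irreducible ρS _ hK
  have hσirr : Cfsg.IsIrrCharacter (H ⧸ Subgroup.center H) σ.character := ⟨d, σ, hσ, rfl⟩
  have hσchar : ∀ s : H, σ.character (QuotientGroup.mk s : H ⧸ Subgroup.center H) =
      θ ((ψ s : ↥N) : G) := by
    intro s
    rw [← hchar]
    rfl
  have h1Q : σ.character 1 = ((p ^ a : ℕ) : ℂ) := by
    have := hσchar 1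
    rw [map_one] at this
    rw [← hθ1]
    exact this
  haveI : Fintype (H ⧸ Subgroup.center H) := Fintype.ofFinite _
  have hdegQ : Cfsg.charDegree σ.character = p ^ a := by
    unfold Cfsg.charDegree
    rw [h1Q, Complex.natCast_re, Nat.floor_natCast]
  have hdivQ : p ^ (Nat.card (H ⧸ Subgroup.center H)).factorization p ∣
      Cfsg.charDegree σ.character := by
    rw [hdegQ]
    have h1 : p ^ (Nat.card (H ⧸ Subgroup.center H)).factorization p ∣ p ^ a * r := by
      rw [← hG]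
      exact dvd_trans (Nat.ordProj_dvd _ _)
        (dvd_trans (Subgroup.card_quotient_dvd_card _) hHG)
    exact (Nat.Coprime.pow_left _
      ((Nat.Prime.coprime_iff_not_dvd hp).mpr hr)).dvd_of_dvd_mul_right h1
  have hvanQ : ∀ x : H ⧸ Subgroup.center H, p ∣ orderOf x → σ.character x = 0 := fun x hx =>
    Cfsg.Agent.Lib.Helper24.fz_vanish
      (⟨σ.character, hσirr⟩ : Cfsg.IrrCharacter (H ⧸ Subgroup.center H)) p hp hdivQ x hx
  refine ⟨σ.character, hσirr, ?_⟩
  intro Q
  have hQvan : ∀ x : H ⧸ Subgroup.center H, x ∈ Q → x ≠ 1 → σ.character x = 0 := by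
    intro x hxQ hx1
    apply hvanQ
    have hx1' : (⟨x, hxQ⟩ : (Q : Subgroup (H ⧸ Subgroup.center H))) ≠ 1 := by
      intro h
      exact hx1 (congrArg Subtype.val h)
    exact dvd_orderOf_of_mem_pgroup p (Q : Subgroup _) Q.isPGroup' ⟨x, hxQ⟩ hx1'
  refine ⟨?_, hQvan⟩
  have : Fintype (Q : Subgroup (H ⧸ Subgroup.center H)) := Fintype.ofFinite _
  obtain ⟨k, hk⟩ := sum_subgroup_irr (Q : Subgroup (H ⧸ Subgroup.center H))
    (⟨σ.character, hσirr⟩ : Cfsg.IrrCharacter (H ⧸ Subgroup.center H))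
  have hsumQ : ∑ x : (Q : Subgroup (H ⧸ Subgroup.center H)),
      σ.character (x : H ⧸ Subgroup.center H) = σ.character 1 := by
    rw [Finset.sum_eq_single (1 : (Q : Subgroup (H ⧸ Subgroup.center H)))]
    · rfl
    · intro x _ hx
      apply hQvan _ x.2
      intro h
      exact hx (Subtype.ext h)
    · intro h
      exact absurd (Finset.mem_univ _) h
  have hdvd1 : Nat.card (Q : Subgroup (H ⧸ Subgroup.center H)) ∣ p ^ a := by
    have h3 : ((p ^ a : ℕ) : ℂ) =
        ((Nat.card (Q : Subgroup (H ⧸ Subgroup.center H)) * k : ℕ) : ℂ) := by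
      rw [← h1Q, ← hsumQ]
      push_cast
      exact hk
    have h4 : p ^ a = Nat.card (Q : Subgroup (H ⧸ Subgroup.center H)) * k := by
      exact_mod_cast h3
    exact ⟨k, h4⟩
  have hdvd2 : p ^ a ∣ Nat.card (Q : Subgroup (H ⧸ Subgroup.center H)) := by
    obtain ⟨n', _, hn1, hn2⟩ := Cfsg.Agent.Lib.helper2.irr_degree_dvd_card
      (⟨σ.character, hσirr⟩ : Cfsg.IrrCharacter (H ⧸ Subgroup.center H))
    have hn' : n' = p ^ a := by
      have : ((n' : ℕ) : ℂ) = ((p ^ a : ℕ) : ℂ) := by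
        rw [← hn1]
        exact h1Q
      exact_mod_cast this
    rw [hn'] at hn2
    rw [Sylow.card_eq_multiplicity]
    apply pow_dvd_pow
    exact (hp.pow_dvd_iff_le_factorization Nat.card_pos.ne').mp hn2
  rw [h1Q]
  congr 1
  exact Nat.dvd_antisymm hdvd2 hdvd1

end Cfsg.Agent.Lib.helper14
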