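import Mathlib
import Cfsg.Agent.Lib.helper14.UBNj
import Cfsg.Agent.Lib.helper14.StDescend
import Cfsg.Agent.Lib.Lead.Unitary
import Cfsg.Agent.Lib.Lead.HermIso
import Cfsg.Agent.Lib.helper6.HermFrames
import Cfsg.Agent.S0755
import Cfsg.Prelude.Def_Classical

/-!
Transfer of the Steinberg character of the unitary group `GJ n S` of the form
`Σ u_i σ(v_{n-1-i})` to the projective special unitary group of the standard Hermitian form.
-/

set_option autoImplicit false

namespace Cfsg.Agent.Lib.helper14.UBN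

open Matrix
open Cfsg.Agent.Lib.helper3 Cfsg.Agent.Lib.helper14

universe u
variable {F : Type u} [Field F] {n : ℕ}

/-- the form `hJ` as a sesquilinear map: `BJ n S x y = hJ S y x` -/
noncomputable def BJ (n : ℕ) (S : SInv F) : (Fin n → F) →ₛₗ[S.σ] (Fin n → F) →ₗ[F] F :=
  LinearMap.mk₂'ₛₗ S.σ (RingHom.id F) (fun x y => hJ S y x)
    (fun x x' y => hJ_add_right y x x')
    (fun c x y => by rw [hJ_smul_right, smul_eq_mul])
    (fun x y y' => hJ_add_left y y' x)
    (fun c x y => by rw [hJ_smul_left, RingHom.id_apply, smul_eq_mul])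

theorem BJ_apply (S : SInv F) (x y : Fin n → F) : BJ n S x y = hJ S y x := rfl

theorem BJ_isSymm (S : SInv F) : (BJ n S).IsSymm :=
  ⟨fun x y => by rw [BJ_apply, BJ_apply, hJ_symm]⟩

theorem BJ_nondeg (S : SInv F) : (BJ n S).Nondegenerate := by
  constructor
  · intro x hx
    funext i
    have := hx (bV (rv i))
    rw [BJ_apply, hJ_bV_left, rv_rv] at this
    exact sigma_eq_zero this
  · intro y hy
    funext i
    have := hy (bV (rv i))
    rw [BJ_apply, hJ_bV_right, rv_rv] at this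
    exact this

/-- a basis change matrix whose columns are orthonormal for `hJ` -/
theorem exists_basis_change [Finite F] (S : SInv F) (hS : S.σ ≠ RingHom.id F) (n : ℕ) :
    ∃ P : GL (Fin n) F, ∀ i j,
      hJ S ((P : Matrix (Fin n) (Fin n) F) *ᵥ bV i) ((P : Matrix (Fin n) (Fin n) F) *ᵥ bV j) =
        if i = j then 1 else 0 := by
  obtain ⟨b, hb⟩ := Cfsg.Agent.S0755.result S.σ hS S.invol (BJ n S) (BJ_isSymm S) (BJ_nondeg S)
  have hrank : Module.finrank F (Fin n → F) = n := Module.finrank_fin_fun F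
  let e : Fin (Module.finrank F (Fin n → F)) ≃ Fin n := finCongr hrank
  let c : Fin n → (Fin n → F) := fun j => b (e.symm j)
  have hc : ∀ i j, hJ S (c i) (c j) = if i = j then 1 else 0 := by
    intro i j
    have := hb (e.symm j) (e.symm i)
    rw [BJ_apply] at this
    rw [this]
    by_cases h : i = j
    · rw [if_pos h, if_pos (by rw [h])]
    · rw [if_neg h, if_neg (fun h' => h (e.symm.injective h').symm)]
  let M : Matrix (Fin n) (Fin n) F := Matrix.of (fun x j => c j x)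
  let R : Matrix (Fin n) (Fin n) F := Matrix.of (fun j x => S.σ (M (rv x) j))
  have hRM : R * M = 1 := by
    ext j i
    rw [Matrix.mul_apply, Matrix.one_apply]
    have := hc i j
    unfold hJ at this
    rw [show (if j = i then (1 : F) else 0) = if i = j then 1 else 0 from by
      by_cases e' : j = i
      · rw [if_pos e', if_pos e'.symm]
      · rw [if_neg e', if_neg (fun e'' => e' e''.symm)], ← this]
    apply Finset.sum_congr rfl
    intro x _
    show S.σ (c j (rv x)) * c i x = c i x * S.σ (c j (rv x))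
    rw [mul_comm]
  refine ⟨⟨M, R, mul_eq_one_comm.mp hRM, hRM⟩, ?_⟩
  intro i j
  have e1 : ∀ k, M *ᵥ bV k = c k := by
    intro k
    ext x
    rw [mulVec_bV]
    rfl
  show hJ S (M *ᵥ bV i) (M *ᵥ bV j) = _
  rw [e1, e1, hc]

theorem vec_eq_sum (u : Fin n → F) : u = ∑ i, u i • (bV i : Fin n → F) := by
  ext x
  rw [Finset.sum_apply]
  simp only [Pi.smul_apply, bV_apply, smul_eq_mul, mul_ite, mul_one, mul_zero]
  rw [Finset.sum_ite_eq]
  simp

/-- the form identity for a basis change matrix -/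
theorem basis_change_form (S : SInv F) (P : Matrix (Fin n) (Fin n) F)
    (hP : ∀ i j, hJ S (P *ᵥ bV i) (P *ᵥ bV j) = if i = j then 1 else 0) (u v : Fin n → F) :
    hJ S (P *ᵥ u) (P *ᵥ v) = ∑ i, u i * S.σ (v i) := by
  have hu : P *ᵥ u = ∑ i, u i • (P *ᵥ bV i) := by
    conv_lhs => rw [vec_eq_sum u]
    rw [Matrix.mulVec_sum]
    apply Finset.sum_congr rfl
    intro i _
    rw [Matrix.mulVec_smul]
  have hv : P *ᵥ v = ∑ i, v i • (P *ᵥ bV i) := by
    conv_lhs => rw [vec_eq_sum v]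
    rw [Matrix.mulVec_sum]
    apply Finset.sum_congr rfl
    intro i _
    rw [Matrix.mulVec_smul]
  rw [hu, hv, ← BJ_apply]
  simp only [map_sum, LinearMap.sum_apply, LinearMap.map_smulₛₗ, LinearMap.smul_apply, map_smul,
    smul_eq_mul, RingHom.id_apply, BJ_apply, hP]
  apply Finset.sum_congr rfl
  intro i _
  congr 1
  rw [Finset.sum_eq_single i]
  · rw [if_pos rfl, mul_one]
  · intro j _ hj
    rw [if_neg (fun e => hj e.symm), mul_zero]
  · intro h
    exact absurd (Finset.mem_univ _) h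

theorem gl_mul_val (a b : GL (Fin n) F) :
    ((a * b : GL (Fin n) F) : Matrix (Fin n) (Fin n) F) =
      (a : Matrix (Fin n) (Fin n) F) * (b : Matrix (Fin n) (Fin n) F) := rfl

theorem gl_inv_mulVec (a : GL (Fin n) F) (v : Fin n → F) :
    ((a⁻¹ : GL (Fin n) F) : Matrix (Fin n) (Fin n) F) *ᵥ
      ((a : Matrix (Fin n) (Fin n) F) *ᵥ v) = v := by
  rw [Matrix.mulVec_mulVec, ← gl_mul_val, inv_mul_cancel]
  exact Matrix.one_mulVec v

theorem gl_mulVec_inv (a : GL (Fin n) F) (v : Fin n → F) :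
    (a : Matrix (Fin n) (Fin n) F) *ᵥ
      (((a⁻¹ : GL (Fin n) F) : Matrix (Fin n) (Fin n) F) *ᵥ v) = v := by
  rw [Matrix.mulVec_mulVec, ← gl_mul_val, mul_inv_cancel]
  exact Matrix.one_mulVec v

section transfer

variable [Fintype F] {q : ℕ}

/-- conjugating a matrix preserving the standard Hermitian form into `GJ` -/
theorem conj_mem_GJ (S : SInv F) (hσ : ∀ x, S.σ x = x ^ q) (P : GL (Fin n) F)
    (hP : ∀ i j, hJ S ((P : Matrix (Fin n) (Fin n) F) *ᵥ bV i)
      ((P : Matrix (Fin n) (Fin n) F) *ᵥ bV j) = if i = j then 1 else 0)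
    (g : GL (Fin n) F)
    (hg : ∀ u v, Cfsg.hermForm n F q ((g : Matrix (Fin n) (Fin n) F) *ᵥ u)
      ((g : Matrix (Fin n) (Fin n) F) *ᵥ v) = Cfsg.hermForm n F q u v) :
    P * g * P⁻¹ ∈ GJ n S := by
  have hform : ∀ u v, hJ S ((P : Matrix (Fin n) (Fin n) F) *ᵥ u)
      ((P : Matrix (Fin n) (Fin n) F) *ᵥ v) = Cfsg.hermForm n F q u v := by
    intro u v
    rw [basis_change_form S _ hP]
    unfold Cfsg.hermForm
    apply Finset.sum_congr rfl
    intro i _
    rw [hσ]
  intro u v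
  show hJ S (((P * g * P⁻¹ : GL (Fin n) F) : Matrix (Fin n) (Fin n) F) *ᵥ u)
    (((P * g * P⁻¹ : GL (Fin n) F) : Matrix (Fin n) (Fin n) F) *ᵥ v) = hJ S u v
  rw [gl_mul_val, gl_mul_val, ← Matrix.mulVec_mulVec, ← Matrix.mulVec_mulVec,
    ← Matrix.mulVec_mulVec, ← Matrix.mulVec_mulVec, hform, hg, ← hform, gl_mulVec_inv,
    gl_mulVec_inv]

/-- conjugating an element of `GJ` back to a matrix preserving the standard Hermitian form -/
theorem conj_preserves (S : SInv F) (hσ : ∀ x, S.σ x = x ^ q) (P : GL (Fin n) F)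
    (hP : ∀ i j, hJ S ((P : Matrix (Fin n) (Fin n) F) *ᵥ bV i)
      ((P : Matrix (Fin n) (Fin n) F) *ᵥ bV j) = if i = j then 1 else 0)
    (x : GL (Fin n) F) (hx : x ∈ GJ n S) (u v : Fin n → F) :
    Cfsg.hermForm n F q (((P⁻¹ * x * P : GL (Fin n) F) : Matrix (Fin n) (Fin n) F) *ᵥ u)
      (((P⁻¹ * x * P : GL (Fin n) F) : Matrix (Fin n) (Fin n) F) *ᵥ v) =
      Cfsg.hermForm n F q u v := by
  have hform : ∀ u v, hJ S ((P : Matrix (Fin n) (Fin n) F) *ᵥ u)
      ((P : Matrix (Fin n) (Fin n) F) *ᵥ v) = Cfsg.hermForm n F q u v := by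
    intro u v
    rw [basis_change_form S _ hP]
    unfold Cfsg.hermForm
    apply Finset.sum_congr rfl
    intro i _
    rw [hσ]
  have hx' : ∀ u v, hJ S ((x : Matrix (Fin n) (Fin n) F) *ᵥ u)
      ((x : Matrix (Fin n) (Fin n) F) *ᵥ v) = hJ S u v := hx
  rw [gl_mul_val, gl_mul_val, ← Matrix.mulVec_mulVec, ← Matrix.mulVec_mulVec,
    ← Matrix.mulVec_mulVec, ← Matrix.mulVec_mulVec, ← hform, gl_mulVec_inv, gl_mulVec_inv, hx',
    hform]

theorem hasSkew_frob (S : SInv F) (hσ : ∀ x, S.σ x = x ^ q) (hF : Fintype.card F = q ^ 2) :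
    HasSkew S := by
  obtain ⟨δ, hδ⟩ := Cfsg.Agent.Lib.Lead.HI.exists_not_fixed hF
  refine ⟨δ - S.σ δ, ?_, ?_⟩
  · rw [hσ]
    exact sub_ne_zero.mpr (Ne.symm hδ)
  · rw [map_sub, S.invol]
    ring

/-- unitriangular unitary matrices have determinant one -/
theorem det_of_mem_UU {S : SInv F} (u : ↥(GJ n S)) (hu : u ∈ UU n S) : (mt u).det = 1 := by
  have h1 : (mt u).BlockTriangular id := by
    intro i j h
    exact hu.1 (show rk j < rk i from h)
  rw [Matrix.det_of_upperTriangular h1]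
  apply Finset.prod_eq_one
  intro i _
  exact hu.2 i

/-- the Steinberg character of the projective special unitary group -/
theorem psu_steinberg (p : ℕ) [Fact p.Prime] [CharP F p] (n q : ℕ)
    (hF : Fintype.card F = q ^ 2) :
    ∃ χ : Cfsg.PSU n F q → ℂ, Cfsg.IsIrrCharacter (Cfsg.PSU n F q) χ ∧
      ∀ P : Sylow p (Cfsg.PSU n F q), χ 1 = Nat.card P ∧
        ∀ x : Cfsg.PSU n F q, x ∈ P → x ≠ 1 → χ x = 0 := by
  classical
  have hp : p.Prime := Fact.out
  obtain ⟨σ, hσ⟩ := Cfsg.Agent.Lib.Lead.exists_frob hF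
  have hσσ := Cfsg.Agent.Lib.Lead.frob_frob hF σ hσ
  set S : SInv F := ⟨σ, hσσ⟩ with hSdef
  have hσ' : ∀ x, S.σ x = x ^ q := hσ
  have hSne : S.σ ≠ RingHom.id F := Cfsg.Agent.Lib.helper6.HF.frob_ne_id hF σ hσ
  have hS : HasSkew S := hasSkew_frob S hσ' hF
  obtain ⟨P, hP⟩ := exists_basis_change S hSne n
  obtain ⟨θ, a, r, hθ, hθ1, hG, hr, hθc⟩ := gu_steinberg (S := S) hS p n
  haveI : Fintype ↥(GJ n S) := Fintype.ofFinite _
  -- the determinant one subgroup
  let detJ : ↥(GJ n S) →* Fˣ := Matrix.GeneralLinearGroup.det.comp (GJ n S).subtype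
  set NJ : Subgroup ↥(GJ n S) := detJ.ker with hNJ
  haveI hNn : NJ.Normal := MonoidHom.normal_ker _
  have hidx : ¬ p ∣ NJ.index := by
    intro h
    have hidx' : NJ.index ∣ Fintype.card F - 1 := by
      rw [hNJ, Subgroup.index_ker]
      have := Subgroup.card_subgroup_dvd_card detJ.range
      rwa [Nat.card_eq_fintype_card (α := Fˣ), Fintype.card_units] at this
    have h1 := dvd_trans h hidx'
    obtain ⟨k, _, hk⟩ := FiniteField.card F p
    have h2 : p ∣ Fintype.card F := by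
      rw [hk]
      exact dvd_pow_self p k.ne_zero
    have h3 : 1 ≤ Fintype.card F := Fintype.card_pos
    have h4 : p ∣ 1 := by
      have := Nat.dvd_sub h2 h1
      rwa [Nat.sub_sub_self h3] at this
    exact hp.one_lt.ne' (Nat.dvd_one.mp h4)
  -- the map from `SU`
  let conjP : GL (Fin n) F →* GL (Fin n) F := (MulAut.conj P).toMonoidHom
  have hconjP : ∀ g, conjP g = P * g * P⁻¹ := fun g => rfl
  let ψ₀ : ↥(Cfsg.SU n F q) →* GL (Fin n) F :=
    conjP.comp (Matrix.SpecialLinearGroup.toGL.comp (Cfsg.SU n F q).subtype)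
  have hψ₀ : ∀ s : ↥(Cfsg.SU n F q), ψ₀ s = P * Matrix.SpecialLinearGroup.toGL s.1 * P⁻¹ :=
    fun s => rfl
  have hmem : ∀ s : ↥(Cfsg.SU n F q), ψ₀ s ∈ GJ n S := by
    intro s
    rw [hψ₀]
    apply conj_mem_GJ S hσ' P hP
    intro u v
    exact s.2 u v
  let ψ₁ : ↥(Cfsg.SU n F q) →* ↥(GJ n S) := ψ₀.codRestrict (GJ n S) hmem
  have hψ₁ : ∀ s : ↥(Cfsg.SU n F q),
      ((ψ₁ s : ↥(GJ n S)) : GL (Fin n) F) = P * Matrix.SpecialLinearGroup.toGL s.1 * P⁻¹ :=
    fun s => rfl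
  have hmem₂ : ∀ s : ↥(Cfsg.SU n F q), ψ₁ s ∈ NJ := by
    intro s
    rw [hNJ, MonoidHom.mem_ker]
    show Matrix.GeneralLinearGroup.det ((ψ₁ s : ↥(GJ n S)) : GL (Fin n) F) = 1
    rw [hψ₁, map_mul, map_mul, map_inv, mul_comm, ← mul_assoc, inv_mul_cancel, one_mul]
    apply Units.ext
    rw [Matrix.GeneralLinearGroup.val_det_apply]
    show (s.1 : Matrix (Fin n) (Fin n) F).det = 1
    exact s.1.2
  let ψ : ↥(Cfsg.SU n F q) →* ↥NJ := ψ₁.codRestrict NJ hmem₂
  have hψval : ∀ s : ↥(Cfsg.SU n F q),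
      (((ψ s : ↥NJ) : ↥(GJ n S)) : GL (Fin n) F) =
        P * Matrix.SpecialLinearGroup.toGL s.1 * P⁻¹ := fun s => rfl
  have hψsurj : Function.Surjective ψ := by
    intro x
    have hx : Matrix.GeneralLinearGroup.det ((x : ↥(GJ n S)) : GL (Fin n) F) = 1 := x.2
    have hdet : ((P⁻¹ * ((x : ↥(GJ n S)) : GL (Fin n) F) * P : GL (Fin n) F) :
        Matrix (Fin n) (Fin n) F).det = 1 := by
      have h1 : Matrix.GeneralLinearGroup.det (P⁻¹ * ((x : ↥(GJ n S)) : GL (Fin n) F) * P) = 1 := by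
        rw [map_mul, map_mul, map_inv, hx, mul_one, inv_mul_cancel]
      have := congrArg Units.val h1
      rwa [Matrix.GeneralLinearGroup.val_det_apply] at this
    let sl : Matrix.SpecialLinearGroup (Fin n) F :=
      ⟨((P⁻¹ * ((x : ↥(GJ n S)) : GL (Fin n) F) * P : GL (Fin n) F) :
        Matrix (Fin n) (Fin n) F), hdet⟩
    have hsl : sl ∈ Cfsg.SU n F q := by
      intro u v
      exact conj_preserves S hσ' P hP _ x.1.2 u v
    refine ⟨⟨sl, hsl⟩, ?_⟩
    apply Subtype.ext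
    apply Subtype.ext
    rw [hψval]
    have e1 : Matrix.SpecialLinearGroup.toGL sl =
        P⁻¹ * ((x : ↥(GJ n S)) : GL (Fin n) F) * P := by
      apply Units.ext
      rfl
    show P * Matrix.SpecialLinearGroup.toGL sl * P⁻¹ = _
    rw [e1]
    group
  have hψinj : Function.Injective ψ := by
    intro s s' h
    have h1 : P * Matrix.SpecialLinearGroup.toGL s.1 * P⁻¹ =
        P * Matrix.SpecialLinearGroup.toGL s'.1 * P⁻¹ := by
      rw [← hψval, ← hψval, h]
    have h2 : Matrix.SpecialLinearGroup.toGL s.1 = Matrix.SpecialLinearGroup.toGL s'.1 := by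
      have := mul_right_cancel h1
      exact mul_left_cancel this
    exact Subtype.ext (Matrix.SpecialLinearGroup.toGL_injective h2)
  haveI : Finite ↥(Cfsg.SU n F q) := Finite.of_injective ψ hψinj
  have hHG : Nat.card ↥(Cfsg.SU n F q) ∣ Nat.card ↥(GJ n S) := by
    rw [Nat.card_congr (Equiv.ofBijective ψ ⟨hψinj, hψsurj⟩)]
    exact Subgroup.card_subgroup_dvd_card NJ
  -- central elements
  have hUN : ∀ u ∈ UU n S, u ∈ NJ := by
    intro u hu
    rw [hNJ, MonoidHom.mem_ker]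
    apply Units.ext
    show ((Matrix.GeneralLinearGroup.det ((u : ↥(GJ n S)) : GL (Fin n) F) : Fˣ) : F) = 1
    rw [Matrix.GeneralLinearGroup.val_det_apply]
    exact det_of_mem_UU u hu
  have hcent : ∀ z ∈ Subgroup.center ↥(Cfsg.SU n F q),
      θ (((ψ z : ↥NJ) : ↥(GJ n S))) = θ 1 := by
    intro z hz
    apply hθc
    intro g
    apply mem_BU_of_comm hS
    intro u hu
    -- `ψ z` commutes with every element of `NJ`
    have hcomm : ∀ y : ↥(GJ n S), y ∈ NJ →
        ((ψ z : ↥NJ) : ↥(GJ n S)) * y = y * ((ψ z : ↥NJ) : ↥(GJ n S)) := by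
      intro y hy
      obtain ⟨s, hs⟩ := hψsurj ⟨y, hy⟩
      have h1 : ψ z * ψ s = ψ s * ψ z := by
        rw [← map_mul, ← map_mul, Subgroup.mem_center_iff.mp hz s]
      have h2 := congrArg (fun t : ↥NJ => (t : ↥(GJ n S))) h1
      rw [hs] at h2
      exact h2
    have hy : g * u * g⁻¹ ∈ NJ := hNn.conj_mem u (hUN u hu) g
    have h3 := hcomm _ hy
    calc u * (g⁻¹ * ((ψ z : ↥NJ) : ↥(GJ n S)) * g)
        = g⁻¹ * ((g * u * g⁻¹) * ((ψ z : ↥NJ) : ↥(GJ n S))) * g := by group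
      _ = g⁻¹ * (((ψ z : ↥NJ) : ↥(GJ n S)) * (g * u * g⁻¹)) * g := by rw [h3]
      _ = g⁻¹ * ((ψ z : ↥NJ) : ↥(GJ n S)) * g * u := by group
  exact steinberg_descend p θ a r hθ hθ1 hG hr NJ hidx ψ hψsurj hHG hcent

end transfer

end Cfsg.Agent.Lib.helper14.UBN
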