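import Mathlib
import Cfsg.Agent.Lib.helper14.OBNa
import Cfsg.Agent.Lib.helper14.UBNk
import Cfsg.Agent.S0788
import Cfsg.Prelude.Def_Classical

/-!
The odd dimensional orthogonal group in odd characteristic as the group `GJ n S` for the trivial
involution: the node hypothesis, the quadratic form `Q0 u = Σ u_i u_{n-1-i}`, and the index of the
commutator subgroup.
-/

set_option autoImplicit false

namespace Cfsg.Agent.Lib.helper14.OBN

open Matrix
open Cfsg.Agent.Lib.helper3 Cfsg.Agent.Lib.helper14 Cfsg.Agent.Lib.helper8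
open Cfsg.Agent.Lib.helper14.UBN

universe u
variable {F : Type u} [Field F] {n : ℕ}

/-- the trivial involution -/
def Sid (F : Type u) [Field F] : SInv F := ⟨RingHom.id F, fun _ => rfl⟩

theorem Sid_apply (x : F) : (Sid F).σ x = x := rfl

/-- for `σ = id` the form is symmetric -/
theorem hJ_comm (u v : Fin n → F) : hJ (Sid F) u v = hJ (Sid F) v u := by
  have := hJ_symm (S := Sid F) u v
  rwa [Sid_apply] at this

/-- the node hypothesis for odd dimensional orthogonal groups in odd characteristic -/
theorem nodeHyp_orth (h2 : (2 : F) ≠ 0) (hn : n % 2 = 1) : NodeHyp n (Sid F) := by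
  intro k
  have hac := pa_ne_pc k
  have hk := k.2
  by_cases h : pc k = rv (pa k)
  · -- the last node
    have hrc : rv (pc k) = pa k := by rw [h, rv_rv]
    have hmidlt : n / 2 < n := by omega
    set mid : Fin n := ⟨n / 2, hmidlt⟩ with hmid
    have hrkmid : rk mid = n / 2 := rfl
    have hrvmid : rv mid = mid := by
      apply rk_injective
      have := rk_add_rv mid
      omega
    have hrkc : rk (pc k) = n - 1 - k.val := by
      have := rk_add_rv (pa k)
      rw [← h, rk_pa] at this
      omega
    have hklast : k.val + 1 = n / 2 := by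
      rcases pc_cases k with ⟨h5, h6⟩ | ⟨h5, _, _⟩
      · omega
      · exact h5
    have hma : mid ≠ pa k := by
      intro e
      have := congrArg rk e
      rw [hrkmid, rk_pa] at this
      omega
    have hmc : mid ≠ pc k := by
      intro e
      have := congrArg rk e
      rw [hrkmid, hrkc] at this
      omega
    have hcol : IsCol (Sid F) k (bV (pc k) + bV mid + (-(2 : F)⁻¹) • bV (pa k)) := by
      refine ⟨?_, ?_, ?_⟩
      · rw [Pi.add_apply, Pi.add_apply, Pi.smul_apply, bV_apply, bV_apply, bV_apply, if_pos rfl,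
          if_neg hmc.symm, if_neg hac.symm, smul_zero, add_zero, add_zero]
      · intro z hz
        have h1 : z ≠ pc k := fun e => hz (e ▸ rks_pc k)
        have h2' : z ≠ pa k := fun e => hz (e ▸ rks_pa k)
        have h3 : z ≠ mid := by
          intro e
          apply hz
          rw [e, rks_eq_iff, hrkmid, hrkc]
          omega
        rw [Pi.add_apply, Pi.add_apply, Pi.smul_apply, bV_apply, bV_apply, bV_apply, if_neg h1,
          if_neg h2', if_neg h3, smul_zero, add_zero, add_zero]
      · simp only [hJ_add_left, hJ_add_right, hJ_smul_left, hJ_smul_right, hJ_bV_bV, Sid_apply]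
        rw [hrvmid, hrc, ← h]
        simp only [hma, hma.symm, hmc, hmc.symm, hac, hac.symm, if_true, if_false]
        field_simp
        ring
    obtain ⟨E, hE1, hE2, _, hE4⟩ := exists_uPre k _ hcol
    refine ⟨E, hE1, ?_, hE4⟩
    rw [← mulVec_bV (mt E) (pc k) (pa k), hE2, Pi.add_apply, Pi.add_apply, Pi.smul_apply, bV_apply,
      bV_apply, bV_apply, if_neg hac, if_neg hma.symm, if_pos rfl, smul_eq_mul, mul_one, zero_add,
      zero_add]
    exact neg_ne_zero.mpr (inv_ne_zero h2)
  · have h' : pa k ≠ rv (pc k) := fun e => h (by rw [e, rv_rv])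
    have hcol : IsCol (Sid F) k (bV (pc k) + (1 : F) • bV (pa k)) := by
      refine ⟨?_, ?_, ?_⟩
      · rw [Pi.add_apply, Pi.smul_apply, bV_apply, bV_apply, if_pos rfl, if_neg hac.symm, smul_zero,
          add_zero]
      · intro z hz
        have h1 : z ≠ pc k := fun e => hz (e ▸ rks_pc k)
        have h2' : z ≠ pa k := fun e => hz (e ▸ rks_pa k)
        rw [Pi.add_apply, Pi.smul_apply, bV_apply, bV_apply, if_neg h1, if_neg h2', smul_zero,
          add_zero]
      · simp only [hJ_add_left, hJ_add_right, hJ_smul_left, hJ_smul_right, hJ_bV_bV]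
        rw [if_neg (rv_pc_ne k).symm, if_neg (rv_pa_ne k).symm, if_neg h, if_neg h']
        ring
    obtain ⟨E, hE1, hE2, _, hE4⟩ := exists_uPre k _ hcol
    refine ⟨E, hE1, ?_, hE4⟩
    rw [← mulVec_bV (mt E) (pc k) (pa k), hE2, Pi.add_apply, Pi.smul_apply, bV_apply, bV_apply,
      if_neg hac, if_pos rfl, smul_eq_mul, mul_one, zero_add]
    exact one_ne_zero

/-- the quadratic form `Σ u_i u_{n-1-i}` -/
noncomputable def Q0 (n : ℕ) (F : Type u) [Field F] : QuadraticForm F (Fin n → F) :=
  LinearMap.BilinMap.toQuadraticMap (BJ n (Sid F))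

theorem Q0_apply (v : Fin n → F) : Q0 n F v = hJ (Sid F) v v := rfl

theorem Q0_polar (h2 : (2 : F) ≠ 0) : (QuadraticMap.polarBilin (Q0 n F)).Nondegenerate := by
  have hpol : ∀ x y : Fin n → F, QuadraticMap.polarBilin (Q0 n F) x y = 2 * hJ (Sid F) x y := by
    intro x y
    rw [QuadraticMap.polarBilin_apply_apply]
    unfold QuadraticMap.polar
    rw [Q0_apply, Q0_apply, Q0_apply]
    simp only [hJ_add_left, hJ_add_right]
    rw [hJ_comm y x]
    ring
  constructor
  · intro x hx
    funext i
    have := hx (bV (rv i))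
    rw [hpol, hJ_bV_right, rv_rv] at this
    rcases mul_eq_zero.mp this with h | h
    · exact absurd h h2
    · exact h
  · intro y hy
    funext i
    have := hy (bV (rv i))
    rw [hpol, hJ_bV_left, rv_rv, Sid_apply] at this
    rcases mul_eq_zero.mp this with h | h
    · exact absurd h h2
    · exact h

/-- the isometry group of `Q0` is `GJ` -/
theorem isometryGroup_Q0 (h2 : (2 : F) ≠ 0) :
    Cfsg.isometryGroup F (⇑(Q0 n F)) = GJ n (Sid F) := by
  ext g
  constructor
  · intro hg u v
    have hg' : ∀ w : Fin n → F, hJ (Sid F) ((g : Matrix (Fin n) (Fin n) F) *ᵥ w)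
        ((g : Matrix (Fin n) (Fin n) F) *ᵥ w) = hJ (Sid F) w w := fun w => hg w w
    show hJ (Sid F) ((g : Matrix (Fin n) (Fin n) F) *ᵥ u) ((g : Matrix (Fin n) (Fin n) F) *ᵥ v) =
      hJ (Sid F) u v
    have h1 := hg' (u + v)
    rw [Matrix.mulVec_add] at h1
    simp only [hJ_add_left, hJ_add_right] at h1
    rw [hg' u, hg' v, hJ_comm ((g : Matrix (Fin n) (Fin n) F) *ᵥ v), hJ_comm v u] at h1
    have h3 : 2 * hJ (Sid F) ((g : Matrix (Fin n) (Fin n) F) *ᵥ u)
        ((g : Matrix (Fin n) (Fin n) F) *ᵥ v) = 2 * hJ (Sid F) u v := by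
      linear_combination h1
    exact mul_left_cancel₀ h2 h3
  · intro hg u _
    exact hg u u

theorem commutator_index_congr {G : Type*} [Group G] (K K' : Subgroup G) (h : K = K') :
    (commutator ↥K).index = (commutator ↥K').index := by
  subst h
  rfl

/-- the commutator subgroup of the orthogonal group `GJ n (Sid F)` has index 4 -/
theorem commutator_GJ_index [Fintype F] (h2 : (2 : F) ≠ 0) (hn : 2 ≤ n) :
    (commutator ↥(GJ n (Sid F))).index = 4 := by
  rw [← commutator_index_congr _ _ (isometryGroup_Q0 (n := n) h2)]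
  exact Cfsg.Agent.S0788.result h2 hn (Q0 n F) (Q0_polar h2)

end Cfsg.Agent.Lib.helper14.OBN
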