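import Mathlib
import Cfsg.Agent.Lib.helper14.OBNb

/-!
Transfer from the isometry group of `x₀² + Σ x_i y_i` to `GJ (2m+1) (Sid F)` and the Steinberg
character of `PΩ_{2m+1}(F)`.
-/

set_option autoImplicit false

namespace Cfsg.Agent.Lib.helper14.OBN

open Matrix
open Cfsg.Agent.Lib.helper3 Cfsg.Agent.Lib.helper14 Cfsg.Agent.Lib.helper8
open Cfsg.Agent.Lib.helper14.UBN

universe u
variable {F : Type u} [Field F] {m : ℕ}

/-- the index type of the form `x₀² + Σ x_i y_i` -/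
abbrev OI (m : ℕ) : Type := Unit ⊕ (Fin m ⊕ Fin m)

/-- the index map -/
def idx (m : ℕ) : OI m → Fin (2 * m + 1)
  | .inl _ => ⟨m, by omega⟩
  | .inr (.inl i) => ⟨i.val, by have := i.2; omega⟩
  | .inr (.inr i) => ⟨2 * m - i.val, by omega⟩

theorem idx_injective (m : ℕ) : Function.Injective (idx m) := by
  intro a b h
  rcases a with _ | a | a <;> rcases b with _ | b | b <;> simp only [idx, Fin.mk.injEq] at h
  · rfl
  · have := b.2; omega
  · have := b.2; omega
  · have := a.2; omega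
  · rw [Fin.ext h]
  · have := a.2; have := b.2; omega
  · have := a.2; omega
  · have := a.2; have := b.2; omega
  · have := a.2
    have := b.2
    have : a = b := Fin.ext (by omega)
    rw [this]

theorem card_OI (m : ℕ) : Fintype.card (OI m) = Fintype.card (Fin (2 * m + 1)) := by
  simp only [Fintype.card_sum, Fintype.card_fin, Fintype.card_unit]
  omega

/-- the index bijection -/
noncomputable def eI (m : ℕ) : OI m ≃ Fin (2 * m + 1) :=
  Equiv.ofBijective (idx m)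
    ((Fintype.bijective_iff_injective_and_card _).2 ⟨idx_injective m, card_OI m⟩)

theorem eI_apply (a : OI m) : eI m a = idx m a := rfl

theorem rv_eI_inl : rv (eI m (.inl ())) = eI m (.inl ()) := by
  apply Fin.ext
  simp only [rv, eI_apply, idx, Fin.val_rev]
  omega

theorem rv_eI_inr_inl (i : Fin m) : rv (eI m (.inr (.inl i))) = eI m (.inr (.inr i)) := by
  apply Fin.ext
  have := i.2
  simp only [rv, eI_apply, idx, Fin.val_rev]
  omega

theorem rv_eI_inr_inr (i : Fin m) : rv (eI m (.inr (.inr i))) = eI m (.inr (.inl i)) := by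
  apply Fin.ext
  have := i.2
  simp only [rv, eI_apply, idx, Fin.val_rev]
  omega

/-- the weights -/
def cW (m : ℕ) (F : Type u) [Field F] : OI m → F
  | .inl _ => 1
  | .inr (.inl _) => 2
  | .inr (.inr _) => 1

theorem cW_ne_zero (h2 : (2 : F) ≠ 0) (a : OI m) : cW m F a ≠ 0 := by
  rcases a with _ | a | a
  · exact one_ne_zero
  · exact h2
  · exact one_ne_zero

/-- the coordinate change -/
noncomputable def Lm (m : ℕ) (F : Type u) [Field F] : Matrix (OI m) (Fin (2 * m + 1)) F :=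
  Matrix.of fun a j => if j = eI m a then cW m F a else 0

/-- the inverse coordinate change -/
noncomputable def Lm' (m : ℕ) (F : Type u) [Field F] : Matrix (Fin (2 * m + 1)) (OI m) F :=
  Matrix.of fun j a => if j = eI m a then (cW m F a)⁻¹ else 0

theorem Lm_mulVec (u : Fin (2 * m + 1) → F) (a : OI m) :
    (Lm m F *ᵥ u) a = cW m F a * u (eI m a) := by
  unfold Lm
  rw [Matrix.mulVec, dotProduct, Finset.sum_eq_single (eI m a)]
  · rw [Matrix.of_apply, if_pos rfl]
  · intro j _ hj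
    rw [Matrix.of_apply, if_neg hj, zero_mul]
  · intro h
    exact absurd (Finset.mem_univ _) h

theorem Lm'_mulVec (v : OI m → F) (j : Fin (2 * m + 1)) :
    (Lm' m F *ᵥ v) j = (cW m F ((eI m).symm j))⁻¹ * v ((eI m).symm j) := by
  unfold Lm'
  rw [Matrix.mulVec, dotProduct, Finset.sum_eq_single ((eI m).symm j)]
  · rw [Matrix.of_apply, if_pos ((eI m).apply_symm_apply j).symm]
  · intro a _ ha
    have : j ≠ eI m a := by
      intro e
      apply ha
      rw [e, Equiv.symm_apply_apply]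
    rw [Matrix.of_apply, if_neg this, zero_mul]
  · intro h
    exact absurd (Finset.mem_univ _) h

theorem Lm_Lm'_mulVec (h2 : (2 : F) ≠ 0) (v : OI m → F) : Lm m F *ᵥ (Lm' m F *ᵥ v) = v := by
  funext a
  rw [Lm_mulVec, Lm'_mulVec, Equiv.symm_apply_apply, ← mul_assoc,
    mul_inv_cancel₀ (cW_ne_zero h2 a), one_mul]

theorem Lm'_Lm_mulVec (h2 : (2 : F) ≠ 0) (u : Fin (2 * m + 1) → F) :
    Lm' m F *ᵥ (Lm m F *ᵥ u) = u := by
  funext j
  rw [Lm'_mulVec, Lm_mulVec, Equiv.apply_symm_apply, ← mul_assoc,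
    inv_mul_cancel₀ (cW_ne_zero h2 _), one_mul]

theorem matrix_eq_one_of_mulVec {ι : Type*} [Fintype ι] [DecidableEq ι]
    (M : Matrix ι ι F) (h : ∀ v, M *ᵥ v = v) : M = 1 := by
  ext i j
  have := congrFun (h (Pi.single j 1)) i
  rw [Matrix.mulVec_single_one] at this
  rw [Matrix.one_apply]
  rw [show M i j = M.col j i from rfl, this, Pi.single_apply]

theorem Lm_mul_Lm' (h2 : (2 : F) ≠ 0) : Lm m F * Lm' m F = 1 := by
  apply matrix_eq_one_of_mulVec
  intro v
  rw [← Matrix.mulVec_mulVec, Lm_Lm'_mulVec h2]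

theorem Lm'_mul_Lm (h2 : (2 : F) ≠ 0) : Lm' m F * Lm m F = 1 := by
  apply matrix_eq_one_of_mulVec
  intro v
  rw [← Matrix.mulVec_mulVec, Lm'_Lm_mulVec h2]

/-- the key identity between the two quadratic forms -/
theorem quadFormOdd_Lm (u : Fin (2 * m + 1) → F) :
    Cfsg.quadFormOdd m F (Lm m F *ᵥ u) = hJ (Sid F) u u := by
  unfold Cfsg.quadFormOdd hJ
  rw [← Equiv.sum_comp (eI m), Fintype.sum_sum_type, Fintype.sum_sum_type]
  simp only [Lm_mulVec, Sid_apply, rv_eI_inl, rv_eI_inr_inl, rv_eI_inr_inr, cW, Finset.univ_unique,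
    Finset.sum_singleton]
  rw [← Finset.sum_add_distrib]
  have : ∀ i : Fin m, 2 * u (eI m (.inr (.inl i))) * (1 * u (eI m (.inr (.inr i)))) =
      u (eI m (.inr (.inl i))) * u (eI m (.inr (.inr i))) +
        u (eI m (.inr (.inr i))) * u (eI m (.inr (.inl i))) := by
    intro i
    ring
  rw [Finset.sum_congr rfl (fun i _ => this i)]
  have hd : (default : Unit) = () := rfl
  rw [hd, rv_eI_inl]
  ring

/-- conjugation by the coordinate change, on matrices -/
noncomputable def PhiM (m : ℕ) (F : Type u) [Field F] (h2 : (2 : F) ≠ 0) :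
    Matrix (OI m) (OI m) F ≃* Matrix (Fin (2 * m + 1)) (Fin (2 * m + 1)) F where
  toFun g := Lm' m F * g * Lm m F
  invFun x := Lm m F * x * Lm' m F
  left_inv g := by
    show Lm m F * (Lm' m F * g * Lm m F) * Lm' m F = g
    rw [Matrix.mul_assoc, Matrix.mul_assoc, Lm_mul_Lm' h2, Matrix.mul_one, ← Matrix.mul_assoc,
      Lm_mul_Lm' h2, Matrix.one_mul]
  right_inv x := by
    show Lm' m F * (Lm m F * x * Lm' m F) * Lm m F = x
    rw [Matrix.mul_assoc, Matrix.mul_assoc, Lm'_mul_Lm h2, Matrix.mul_one, ← Matrix.mul_assoc,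
      Lm'_mul_Lm h2, Matrix.one_mul]
  map_mul' g h := by
    show Lm' m F * (g * h) * Lm m F = Lm' m F * g * Lm m F * (Lm' m F * h * Lm m F)
    have e : Lm' m F * g * Lm m F * (Lm' m F * h * Lm m F) =
        Lm' m F * g * (Lm m F * Lm' m F) * h * Lm m F := by
      simp only [Matrix.mul_assoc]
    rw [e, Lm_mul_Lm' h2, Matrix.mul_one]
    simp only [Matrix.mul_assoc]

theorem PhiM_apply (h2 : (2 : F) ≠ 0) (g : Matrix (OI m) (OI m) F) :
    PhiM m F h2 g = Lm' m F * g * Lm m F := rfl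

theorem PhiM_mulVec (h2 : (2 : F) ≠ 0) (g : Matrix (OI m) (OI m) F)
    (u : Fin (2 * m + 1) → F) :
    PhiM m F h2 g *ᵥ u = Lm' m F *ᵥ (g *ᵥ (Lm m F *ᵥ u)) := by
  rw [PhiM_apply, Matrix.mulVec_mulVec, Matrix.mulVec_mulVec, Matrix.mul_assoc]

/-- conjugation by the coordinate change, on general linear groups -/
noncomputable def PhiG (m : ℕ) (F : Type u) [Field F] (h2 : (2 : F) ≠ 0) :
    GL (OI m) F ≃* GL (Fin (2 * m + 1)) F := Units.mapEquiv (PhiM m F h2)

theorem PhiG_val (h2 : (2 : F) ≠ 0) (g : GL (OI m) F) :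
    ((PhiG m F h2 g : GL (Fin (2 * m + 1)) F) : Matrix (Fin (2 * m + 1)) (Fin (2 * m + 1)) F) =
      PhiM m F h2 (g : Matrix (OI m) (OI m) F) := rfl

theorem mem_isometry_iff (h2 : (2 : F) ≠ 0) (g : GL (OI m) F) :
    g ∈ Cfsg.isometryGroup F (Cfsg.quadFormOdd m F) ↔ PhiG m F h2 g ∈ GJ (2 * m + 1) (Sid F) := by
  rw [← isometryGroup_Q0 h2]
  constructor
  · intro hg u _
    show Q0 (2 * m + 1) F (((PhiG m F h2 g : GL (Fin (2 * m + 1)) F) :
      Matrix (Fin (2 * m + 1)) (Fin (2 * m + 1)) F) *ᵥ u) = Q0 (2 * m + 1) F u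
    rw [PhiG_val, PhiM_mulVec, Q0_apply, Q0_apply, ← quadFormOdd_Lm, ← quadFormOdd_Lm,
      Lm_Lm'_mulVec h2]
    exact hg (Lm m F *ᵥ u) (Lm m F *ᵥ u)
  · intro hg v _
    show Cfsg.quadFormOdd m F ((g : Matrix (OI m) (OI m) F) *ᵥ v) = Cfsg.quadFormOdd m F v
    have h1 := hg (Lm' m F *ᵥ v) (Lm' m F *ᵥ v)
    have h1' : Q0 (2 * m + 1) F (((PhiG m F h2 g : GL (Fin (2 * m + 1)) F) :
        Matrix (Fin (2 * m + 1)) (Fin (2 * m + 1)) F) *ᵥ (Lm' m F *ᵥ v)) =
        Q0 (2 * m + 1) F (Lm' m F *ᵥ v) := h1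
    rw [PhiG_val, PhiM_mulVec, Q0_apply, Q0_apply, ← quadFormOdd_Lm, ← quadFormOdd_Lm,
      Lm_Lm'_mulVec h2, Lm_Lm'_mulVec h2] at h1'
    exact h1'

/-- the isomorphism of the isometry group of `x₀² + Σ x_i y_i` with `GJ (2m+1) (Sid F)` -/
noncomputable def fIso (m : ℕ) (F : Type u) [Field F] (h2 : (2 : F) ≠ 0) :
    ↥(Cfsg.isometryGroup F (Cfsg.quadFormOdd m F)) ≃* ↥(GJ (2 * m + 1) (Sid F)) where
  toFun a := ⟨PhiG m F h2 a.1, (mem_isometry_iff h2 a.1).1 a.2⟩
  invFun x := ⟨(PhiG m F h2).symm x.1, (mem_isometry_iff h2 _).2 (by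
    rw [MulEquiv.apply_symm_apply]
    exact x.2)⟩
  left_inv a := Subtype.ext ((PhiG m F h2).symm_apply_apply _)
  right_inv x := Subtype.ext ((PhiG m F h2).apply_symm_apply _)
  map_mul' a b := Subtype.ext (map_mul (PhiG m F h2) _ _)

end Cfsg.Agent.Lib.helper14.OBN
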