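import Mathlib
import Cfsg.Agent.Lib.helper14.OBNc

/-!
The Steinberg character of `PΩ_{2m+1}(F)`, `|F|` odd.
-/

set_option autoImplicit false

namespace Cfsg.Agent.Lib.helper14.OBN

open Matrix
open Cfsg.Agent.Lib.helper3 Cfsg.Agent.Lib.helper14 Cfsg.Agent.Lib.helper8
open Cfsg.Agent.Lib.helper14.UBN

universe u
variable {F : Type u} [Field F] {m : ℕ}

theorem two_ne_zero_of_odd_card [Fintype F] (hodd : Odd (Fintype.card F)) : (2 : F) ≠ 0 := by
  intro h2
  haveI : CharP F 2 := CharTwo.of_one_ne_zero_of_two_eq_zero one_ne_zero h2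
  obtain ⟨k, _, hk⟩ := FiniteField.card F 2
  rw [hk] at hodd
  have : Even (2 ^ (k : ℕ)) := (Nat.even_pow' k.ne_zero).2 even_two
  exact (Nat.not_even_iff_odd.2 hodd) this

theorem prime_ne_two_of_odd_card [Fintype F] (p : ℕ) [Fact p.Prime] [CharP F p]
    (hodd : Odd (Fintype.card F)) : p ≠ 2 := by
  intro e
  have h2 := two_ne_zero_of_odd_card hodd
  apply h2
  have := CharP.cast_eq_zero F p
  rw [e] at this
  exact_mod_cast this

/-- a `p`-subgroup lies in every normal subgroup of index 4, `p` odd -/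
theorem mem_of_index_four {G : Type*} [Group G] (N : Subgroup G) [N.Normal] (hN : N.index = 4)
    (p : ℕ) (hp : p.Prime) (hp2 : p ≠ 2) (u : G) (k : ℕ) (hu : u ^ (p ^ k) = 1) : u ∈ N := by
  rw [← QuotientGroup.eq_one_iff]
  have h1 : ((u : G ⧸ N)) ^ (p ^ k) = 1 := by
    rw [← QuotientGroup.mk_pow, hu, QuotientGroup.mk_one]
  have h2 : ((u : G ⧸ N)) ^ 4 = 1 := by
    have hc : Nat.card (G ⧸ N) = 4 := by rw [← Subgroup.index_eq_card, hN]
    rw [← hc]
    exact pow_card_eq_one'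
  have hcop : Nat.Coprime (p ^ k) 4 := by
    have h4 : (4 : ℕ) = 2 ^ 2 := by norm_num
    rw [h4]
    apply Nat.Coprime.pow
    exact (Nat.coprime_primes hp Nat.prime_two).2 hp2
  exact (pow_eq_one_iff_of_coprime hcop).1 ⟨h1, h2⟩

/-- the Steinberg character of the projective odd dimensional orthogonal group -/
theorem pomega_odd_steinberg [Fintype F] (p : ℕ) [Fact p.Prime] [CharP F p]
    (hodd : Odd (Fintype.card F)) (m : ℕ) (hm : 1 ≤ m) :
    ∃ χ : Cfsg.POmega F (Cfsg.quadFormOdd m F) → ℂ,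
      Cfsg.IsIrrCharacter (Cfsg.POmega F (Cfsg.quadFormOdd m F)) χ ∧
      ∀ P : Sylow p (Cfsg.POmega F (Cfsg.quadFormOdd m F)), χ 1 = Nat.card P ∧
        ∀ x : Cfsg.POmega F (Cfsg.quadFormOdd m F), x ∈ P → x ≠ 1 → χ x = 0 := by
  have hp : p.Prime := Fact.out
  have h2 : (2 : F) ≠ 0 := two_ne_zero_of_odd_card hodd
  have hp2 : p ≠ 2 := prime_ne_two_of_odd_card p hodd
  have hN : NodeHyp (2 * m + 1) (Sid F) := nodeHyp_orth h2 (by omega)
  obtain ⟨θ, a, r, hθ, hθ1, hG, hr, hθc⟩ := gu_steinberg (S := Sid F) (n := 2 * m + 1) hN p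
  haveI : Fintype ↥(GJ (2 * m + 1) (Sid F)) := Fintype.ofFinite _
  set NJ : Subgroup ↥(GJ (2 * m + 1) (Sid F)) := commutator ↥(GJ (2 * m + 1) (Sid F)) with hNJ
  haveI hNn : NJ.Normal := by rw [hNJ]; infer_instance
  have hidx4 : NJ.index = 4 := commutator_GJ_index h2 (by omega)
  have hidx : ¬ p ∣ NJ.index := by
    rw [hidx4]
    intro h
    have h4 : (4 : ℕ) = 2 ^ 2 := by norm_num
    rw [h4] at h
    have := hp.dvd_of_dvd_pow h
    exact hp2 ((Nat.prime_dvd_prime_iff_eq hp Nat.prime_two).1 this)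
  -- the map from `Ω`
  let f := fIso m F h2
  have hmap : (commutator ↥(Cfsg.isometryGroup F (Cfsg.quadFormOdd m F))).map f.toMonoidHom =
      NJ := by
    rw [hNJ, commutator_def, commutator_def, Subgroup.map_commutator,
      Subgroup.map_top_of_surjective _ f.surjective]
  let ψ : ↥(commutator ↥(Cfsg.isometryGroup F (Cfsg.quadFormOdd m F))) →* ↥NJ :=
    (MulEquiv.subgroupCongr hmap).toMonoidHom.comp
      (f.toMonoidHom.subgroupMap (commutator ↥(Cfsg.isometryGroup F (Cfsg.quadFormOdd m F))))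
  have hψval : ∀ s : ↥(commutator ↥(Cfsg.isometryGroup F (Cfsg.quadFormOdd m F))),
      ((ψ s : ↥NJ) : ↥(GJ (2 * m + 1) (Sid F))) = f s.1 := fun s => rfl
  have hψsurj : Function.Surjective ψ := by
    intro x
    obtain ⟨y, hy⟩ := MonoidHom.subgroupMap_surjective f.toMonoidHom
      (commutator ↥(Cfsg.isometryGroup F (Cfsg.quadFormOdd m F)))
      ((MulEquiv.subgroupCongr hmap).symm x)
    refine ⟨y, ?_⟩
    show (MulEquiv.subgroupCongr hmap) (f.toMonoidHom.subgroupMap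
      (commutator ↥(Cfsg.isometryGroup F (Cfsg.quadFormOdd m F))) y) = x
    rw [hy, MulEquiv.apply_symm_apply]
  haveI : Finite ↥(Cfsg.isometryGroup F (Cfsg.quadFormOdd m F)) :=
    Finite.of_equiv _ f.symm.toEquiv
  have hHG : Nat.card ↥(commutator ↥(Cfsg.isometryGroup F (Cfsg.quadFormOdd m F))) ∣
      Nat.card ↥(GJ (2 * m + 1) (Sid F)) := by
    rw [← Nat.card_congr f.toEquiv]
    exact Subgroup.card_subgroup_dvd_card _
  -- unipotent elements lie in the commutator subgroup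
  have hUN : ∀ u ∈ UU (2 * m + 1) (Sid F), u ∈ NJ := by
    intro u hu
    obtain ⟨k, hk⟩ := UU_isPGroup (n := 2 * m + 1) (S := Sid F) p ⟨u, hu⟩
    have hk' : u ^ (p ^ k) = 1 := by
      have := congrArg (fun t : ↥(UU (2 * m + 1) (Sid F)) => (t : ↥(GJ (2 * m + 1) (Sid F)))) hk
      exact this
    exact mem_of_index_four NJ hidx4 p hp hp2 u k hk'
  have hcent : ∀ z ∈ Subgroup.center
      ↥(commutator ↥(Cfsg.isometryGroup F (Cfsg.quadFormOdd m F))),
      θ (((ψ z : ↥NJ) : ↥(GJ (2 * m + 1) (Sid F)))) = θ 1 := by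
    intro z hz
    apply hθc
    intro g
    apply mem_BU_of_comm hN
    intro u hu
    have hcomm : ∀ y : ↥(GJ (2 * m + 1) (Sid F)), y ∈ NJ →
        ((ψ z : ↥NJ) : ↥(GJ (2 * m + 1) (Sid F))) * y =
          y * ((ψ z : ↥NJ) : ↥(GJ (2 * m + 1) (Sid F))) := by
      intro y hy
      obtain ⟨s, hs⟩ := hψsurj ⟨y, hy⟩
      have h1 : ψ z * ψ s = ψ s * ψ z := by
        rw [← map_mul, ← map_mul, Subgroup.mem_center_iff.mp hz s]
      have h2' := congrArg (fun t : ↥NJ => (t : ↥(GJ (2 * m + 1) (Sid F)))) h1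
      rw [hs] at h2'
      exact h2'
    have hy : g * u * g⁻¹ ∈ NJ := hNn.conj_mem u (hUN u hu) g
    have h3 := hcomm _ hy
    calc u * (g⁻¹ * ((ψ z : ↥NJ) : ↥(GJ (2 * m + 1) (Sid F))) * g)
        = g⁻¹ * ((g * u * g⁻¹) * ((ψ z : ↥NJ) : ↥(GJ (2 * m + 1) (Sid F)))) * g := by group
      _ = g⁻¹ * (((ψ z : ↥NJ) : ↥(GJ (2 * m + 1) (Sid F))) * (g * u * g⁻¹)) * g := by rw [h3]
      _ = g⁻¹ * ((ψ z : ↥NJ) : ↥(GJ (2 * m + 1) (Sid F))) * g * u := by group
  exact steinberg_descend p θ a r hθ hθ1 hG hr NJ hidx ψ hψsurj hHG hcent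

end Cfsg.Agent.Lib.helper14.OBN
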