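import Mathlib
import Cfsg.Prelude.Def_ClassicalGeometry
import Cfsg.Agent.Lib.helper6.Quad
import Cfsg.Agent.Lib.helper14.ODNSQa

/-!
# Block ODNSQ (helper14), part b: an isometry `X` with `X * X = -1` is a product of `2k` reflections whose `Q`-values
multiply to `2^k * s^2` (`2k = card ι`).
-/

set_option autoImplicit false

namespace Cfsg.Agent.Lib.helper14.ODNSQ

open Module Matrix

variable {ι : Type} [Fintype ι] [DecidableEq ι] {F : Type*} [Field F]

/-- the two reflection vectors attached to `e` -/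
def odnsq_vs {κ : Type*} (X : Matrix ι ι F) (e : κ → ι → F) (js : List κ) : List (ι → F) :=
  js.flatMap (fun j => [e j, e j - X *ᵥ e j])

/-- the product of the two reflections attached to `e j` -/
noncomputable def odnsq_G {κ : Type*} (Q : QuadraticForm F (ι → F)) (X : Matrix ι ι F) (e : κ → ι → F) (j : κ) :
    Matrix ι ι F :=
  Cfsg.reflectionMatrix (⇑Q) (e j) * Cfsg.reflectionMatrix (⇑Q) (e j - X *ᵥ e j)

theorem odnsq_vs_prod {κ : Type*} (Q : QuadraticForm F (ι → F)) (X : Matrix ι ι F) (e : κ → ι → F)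
    (js : List κ) :
    ((odnsq_vs X e js).map (fun v => Cfsg.reflectionMatrix (⇑Q) v)).prod = (js.map (odnsq_G Q X e)).prod := by
  induction js with
  | nil => simp [odnsq_vs]
  | cons j js ih =>
    have : odnsq_vs X e (j :: js) = [e j, e j - X *ᵥ e j] ++ odnsq_vs X e js := by
      simp [odnsq_vs]
    rw [this, List.map_append, List.prod_append, ih, List.map_cons, List.prod_cons]
    simp [odnsq_G, Matrix.mul_assoc]

theorem odnsq_vs_length {κ : Type*} (X : Matrix ι ι F) (e : κ → ι → F) (js : List κ) :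
    (odnsq_vs X e js).length = 2 * js.length := by
  induction js with
  | nil => simp [odnsq_vs]
  | cons j js ih =>
    have : odnsq_vs X e (j :: js) = [e j, e j - X *ᵥ e j] ++ odnsq_vs X e js := by
      simp [odnsq_vs]
    rw [this, List.length_append, ih, List.length_cons]
    simp
    omega

theorem odnsq_vs_Q {κ : Type*} (Q : QuadraticForm F (ι → F)) (X : Matrix ι ι F) (e : κ → ι → F)
    (hQ2 : ∀ j, Q (e j - X *ᵥ e j) = 2 * Q (e j)) (js : List κ) :
    ((odnsq_vs X e js).map (fun v => Q v)).prod = 2 ^ js.length * ((js.map (fun j => Q (e j))).prod) ^ 2 := by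
  induction js with
  | nil => simp [odnsq_vs]
  | cons j js ih =>
    have : odnsq_vs X e (j :: js) = [e j, e j - X *ᵥ e j] ++ odnsq_vs X e js := by
      simp [odnsq_vs]
    rw [this, List.map_append, List.prod_append, ih, List.map_cons, List.prod_cons, List.length_cons]
    simp only [List.map_cons, List.map_nil, List.prod_cons, List.prod_nil, mul_one, hQ2]
    ring

theorem odnsq_vs_mem {κ : Type*} (X : Matrix ι ι F) (e : κ → ι → F) (js : List κ) (v : ι → F)
    (hv : v ∈ odnsq_vs X e js) : ∃ j, v = e j ∨ v = e j - X *ᵥ e j := by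
  simp only [odnsq_vs, List.mem_flatMap, List.mem_cons, List.not_mem_nil, or_false] at hv
  obtain ⟨j, _, h⟩ := hv
  exact ⟨j, h⟩

section single

variable (Q : QuadraticForm F (ι → F)) (X : Matrix ι ι F) (h2 : (2 : F) ≠ 0)
  (hXX : ∀ v, X *ᵥ (X *ᵥ v) = -v) (hXQ : ∀ v, Q (X *ᵥ v) = Q v)

include hXQ in
theorem odnsq_polar_X (u v : ι → F) :
    QuadraticMap.polar (⇑Q) (X *ᵥ u) (X *ᵥ v) = QuadraticMap.polar (⇑Q) u v := by
  unfold QuadraticMap.polar
  rw [← Matrix.mulVec_add, hXQ, hXQ, hXQ]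

include h2 hXX hXQ in
theorem odnsq_polar_self_X (e : ι → F) : QuadraticMap.polar (⇑Q) e (X *ᵥ e) = 0 := by
  have hA : QuadraticMap.polar (⇑Q) (X *ᵥ e) (X *ᵥ (X *ᵥ e)) = QuadraticMap.polar (⇑Q) e (X *ᵥ e) :=
    odnsq_polar_X Q X hXQ e (X *ᵥ e)
  rw [hXX, QuadraticMap.polar_neg_right] at hA
  have hB : QuadraticMap.polar (⇑Q) (X *ᵥ e) e = QuadraticMap.polar (⇑Q) e (X *ᵥ e) :=
    QuadraticMap.polar_comm _ _ _
  rw [hB] at hA
  have : (2 : F) * QuadraticMap.polar (⇑Q) e (X *ᵥ e) = 0 := by linear_combination -hA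
  exact (mul_eq_zero.1 this).resolve_left h2

include h2 hXX hXQ in
theorem odnsq_Q_sub (e : ι → F) : Q (e - X *ᵥ e) = 2 * Q e := by
  have h1 : Q (e - X *ᵥ e) = Q e + Q (X *ᵥ e) - QuadraticMap.polar (⇑Q) e (X *ᵥ e) := by
    have := QuadraticMap.polar (⇑Q) e (-(X *ᵥ e))
    have h3 : QuadraticMap.polar (⇑Q) e (-(X *ᵥ e)) = Q (e + -(X *ᵥ e)) - Q e - Q (-(X *ᵥ e)) := rfl
    rw [QuadraticMap.polar_neg_right, QuadraticMap.map_neg, ← sub_eq_add_neg] at h3
    linear_combination -h3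
  rw [h1, hXQ, odnsq_polar_self_X Q X h2 hXX hXQ]
  ring

include h2 hXX hXQ in
theorem odnsq_G_e {κ : Type*} (e : κ → ι → F) (j : κ) (hj : Q (e j) ≠ 0) :
    odnsq_G Q X e j *ᵥ e j = X *ᵥ e j := by
  have hp0 := odnsq_polar_self_X Q X h2 hXX hXQ (e j)
  have hQs := odnsq_Q_sub Q X h2 hXX hXQ (e j)
  have hpe : QuadraticMap.polar (⇑Q) (e j) (e j) = 2 * Q (e j) := by
    rw [QuadraticMap.polar_self, nsmul_eq_mul]
    norm_num
  have hin : Cfsg.reflectionMatrix (⇑Q) (e j - X *ᵥ e j) *ᵥ e j = X *ᵥ e j := by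
    rw [Cfsg.Agent.Lib.helper6.reflectionMatrix_mulVec, QuadraticMap.polar_sub_left, hpe,
      QuadraticMap.polar_comm (⇑Q) (X *ᵥ e j) (e j), hp0, hQs, sub_zero,
      inv_mul_cancel₀ (mul_ne_zero h2 hj), one_smul]
    abel
  rw [odnsq_G, ← Matrix.mulVec_mulVec, hin, Cfsg.Agent.Lib.helper6.reflectionMatrix_mulVec, hp0, mul_zero,
    zero_smul, sub_zero]

include h2 hXX hXQ in
theorem odnsq_G_Xe {κ : Type*} (e : κ → ι → F) (j : κ) (hj : Q (e j) ≠ 0) :
    odnsq_G Q X e j *ᵥ (X *ᵥ e j) = -e j := by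
  have hp0 := odnsq_polar_self_X Q X h2 hXX hXQ (e j)
  have hQs := odnsq_Q_sub Q X h2 hXX hXQ (e j)
  have hpe : QuadraticMap.polar (⇑Q) (e j) (e j) = 2 * Q (e j) := by
    rw [QuadraticMap.polar_self, nsmul_eq_mul]
    norm_num
  have hpX : QuadraticMap.polar (⇑Q) (X *ᵥ e j) (X *ᵥ e j) = 2 * Q (e j) := by
    rw [odnsq_polar_X Q X hXQ, hpe]
  have hin : Cfsg.reflectionMatrix (⇑Q) (e j - X *ᵥ e j) *ᵥ (X *ᵥ e j) = e j := by
    rw [Cfsg.Agent.Lib.helper6.reflectionMatrix_mulVec, QuadraticMap.polar_sub_left, hp0, hpX, hQs, zero_sub,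
      mul_neg, inv_mul_cancel₀ (mul_ne_zero h2 hj), neg_smul, one_smul]
    abel
  have h4 : (Q (e j))⁻¹ * (2 * Q (e j)) = 2 := by
    field_simp
  rw [odnsq_G, ← Matrix.mulVec_mulVec, hin, Cfsg.Agent.Lib.helper6.reflectionMatrix_mulVec, hpe, h4, two_smul]
  abel

theorem odnsq_G_fix {κ : Type*} (e : κ → ι → F) (j : κ) (w : ι → F)
    (h1 : QuadraticMap.polar (⇑Q) (e j) w = 0) (h3 : QuadraticMap.polar (⇑Q) (X *ᵥ e j) w = 0) :
    odnsq_G Q X e j *ᵥ w = w := by
  have hin : Cfsg.reflectionMatrix (⇑Q) (e j - X *ᵥ e j) *ᵥ w = w := by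
    rw [Cfsg.Agent.Lib.helper6.reflectionMatrix_mulVec, QuadraticMap.polar_sub_left, h1, h3, sub_zero, mul_zero,
      zero_smul, sub_zero]
  rw [odnsq_G, ← Matrix.mulVec_mulVec, hin, Cfsg.Agent.Lib.helper6.reflectionMatrix_mulVec, h1, mul_zero,
    zero_smul, sub_zero]

end single

/-- a product of maps each of which, except the `l`-th, fixes `w` and `G l w` -/
theorem odnsq_prod_apply {κ : Type*} [DecidableEq κ] (G : κ → Matrix ι ι F) (w : ι → F) (l : κ)
    (hfix : ∀ j, j ≠ l → G j *ᵥ w = w) (hfix' : ∀ j, j ≠ l → G j *ᵥ (G l *ᵥ w) = G l *ᵥ w)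
    (js : List κ) (hnd : js.Nodup) :
    (js.map G).prod *ᵥ w = if l ∈ js then G l *ᵥ w else w := by
  induction js with
  | nil => simp
  | cons j js ih =>
    rw [List.nodup_cons] at hnd
    rw [List.map_cons, List.prod_cons, ← Matrix.mulVec_mulVec, ih hnd.2]
    by_cases hjl : j = l
    · subst hjl
      rw [if_neg hnd.1, if_pos List.mem_cons_self]
    · have hl : l ∈ j :: js ↔ l ∈ js := by
        rw [List.mem_cons]
        constructor
        · rintro (h | h)
          · exact absurd h.symm hjl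
          · exact h
        · exact Or.inr
      by_cases hmem : l ∈ js
      · rw [if_pos hmem, if_pos (hl.2 hmem), hfix' j hjl]
      · rw [if_neg hmem, if_neg (fun h => hmem (hl.1 h)), hfix j hjl]

end Cfsg.Agent.Lib.helper14.ODNSQ
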