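import Mathlib
import Cfsg.Prelude.Def_ClassicalGeometry
import Cfsg.Prelude.Def_GeometricClasses
import Cfsg.Agent.Lib.helper6.Quad
import Cfsg.Agent.Lib.Helper16.SpinE3
import Cfsg.Agent.Lib.helper14.ODNSQa
import Cfsg.Agent.Lib.helper14.ODNSQb

/-!
# Block ODNSQ (helper14), part c: an isometry `X` with `X * X = -1` of a nondegenerate quadratic space of dimension
`2k` (`2 ≠ 0`) lies in `Ω` iff `2 ^ k` is a square; it has no invariant nondegenerate subspace of odd dimension.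
-/

set_option autoImplicit false

namespace Cfsg.Agent.Lib.helper14.ODNSQ

open Module Matrix

universe u

variable {ι : Type} [Fintype ι] [DecidableEq ι] {F : Type u} [Field F]

/-- the plane decomposition for a matrix isometry `X` with `X² = -1` of a nondegenerate quadratic form on `ι → F` -/
theorem odnsq_frame (h2 : (2 : F) ≠ 0) (Q : QuadraticForm F (ι → F))
    (hnd : (QuadraticMap.polarBilin Q).Nondegenerate) (X : Matrix ι ι F)
    (hXX : ∀ v, X *ᵥ (X *ᵥ v) = -v) (hXQ : ∀ v, Q (X *ᵥ v) = Q v) :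
    ∃ (k : ℕ) (e : Fin k → ι → F), Fintype.card ι = 2 * k ∧ (∀ j, Q (e j) ≠ 0) ∧
      (∀ j l, j ≠ l → QuadraticMap.polar (⇑Q) (e j) (e l) = 0) ∧
      (∀ j l, QuadraticMap.polar (⇑Q) (e j) (X *ᵥ e l) = 0) := by
  obtain ⟨k, e, hk, h1, h3, h4⟩ := odnsq_dec h2 (Fintype.card ι) (ι → F) (QuadraticMap.polarBilin Q)
    (Matrix.toLin' X) (Module.finrank_fintype_fun_eq_card F)
    (fun u v => by
      rw [QuadraticMap.polarBilin_apply_apply, QuadraticMap.polarBilin_apply_apply, QuadraticMap.polar_comm])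
    hnd
    (fun u v => by
      rw [QuadraticMap.polarBilin_apply_apply, QuadraticMap.polarBilin_apply_apply, Matrix.toLin'_apply,
        Matrix.toLin'_apply, odnsq_polar_X Q X hXQ])
    (fun v => by rw [Matrix.toLin'_apply, Matrix.toLin'_apply, hXX])
  refine ⟨k, e, hk, ?_, ?_, ?_⟩
  · intro j hj
    apply h1 j
    rw [QuadraticMap.polarBilin_apply_apply, QuadraticMap.polar_self, hj, smul_zero]
  · intro j l hjl
    have := h3 j l hjl
    rwa [QuadraticMap.polarBilin_apply_apply] at this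
  · intro j l
    have := h4 j l
    rwa [QuadraticMap.polarBilin_apply_apply, Matrix.toLin'_apply] at this

/-- `X` is the product of the `2k` reflections of the frame -/
theorem odnsq_eq_prod (h2 : (2 : F) ≠ 0) (Q : QuadraticForm F (ι → F)) (X : Matrix ι ι F)
    (hXX : ∀ v, X *ᵥ (X *ᵥ v) = -v) (hXQ : ∀ v, Q (X *ᵥ v) = Q v)
    (k : ℕ) (e : Fin k → ι → F) (hk : Fintype.card ι = 2 * k) (he : ∀ j, Q (e j) ≠ 0)
    (h3 : ∀ j l, j ≠ l → QuadraticMap.polar (⇑Q) (e j) (e l) = 0)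
    (h4 : ∀ j l, QuadraticMap.polar (⇑Q) (e j) (X *ᵥ e l) = 0) :
    X = ((odnsq_vs X e (List.finRange k)).map (fun v => Cfsg.reflectionMatrix (⇑Q) v)).prod := by
  rw [odnsq_vs_prod]
  set B : LinearMap.BilinForm F (ι → F) := QuadraticMap.polarBilin Q with hB
  set f : Fin k ⊕ Fin k → ι → F := Sum.elim e (fun j => X *ᵥ e j) with hf
  have hpe : ∀ j, QuadraticMap.polar (⇑Q) (e j) (e j) ≠ 0 := by
    intro j
    rw [QuadraticMap.polar_self, nsmul_eq_mul]
    push_cast
    exact mul_ne_zero h2 (he j)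
  have h4' : ∀ j l, QuadraticMap.polar (⇑Q) (X *ᵥ e j) (e l) = 0 := by
    intro j l
    rw [QuadraticMap.polar_comm]
    exact h4 l j
  have h5 : ∀ j l, j ≠ l → QuadraticMap.polar (⇑Q) (X *ᵥ e j) (X *ᵥ e l) = 0 := by
    intro j l hjl
    rw [odnsq_polar_X Q X hXQ]
    exact h3 j l hjl
  have hortho : B.iIsOrtho f := by
    rw [LinearMap.BilinForm.iIsOrtho_def]
    rintro (j | j) (l | l) hjl
    · simp only [hf, Sum.elim_inl, hB, QuadraticMap.polarBilin_apply_apply]
      exact h3 j l (fun h => hjl (by rw [h]))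
    · simp only [hf, Sum.elim_inl, Sum.elim_inr, hB, QuadraticMap.polarBilin_apply_apply]
      exact h4 j l
    · simp only [hf, Sum.elim_inl, Sum.elim_inr, hB, QuadraticMap.polarBilin_apply_apply]
      exact h4' j l
    · simp only [hf, Sum.elim_inr, hB, QuadraticMap.polarBilin_apply_apply]
      exact h5 j l (fun h => hjl (by rw [h]))
  have hne : ∀ i, B (f i) (f i) ≠ 0 := by
    rintro (j | j)
    · simp only [hf, Sum.elim_inl, hB, QuadraticMap.polarBilin_apply_apply]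
      exact hpe j
    · simp only [hf, Sum.elim_inr, hB, QuadraticMap.polarBilin_apply_apply]
      rw [odnsq_polar_X Q X hXQ]
      exact hpe j
  have hli : LinearIndependent F f := LinearMap.BilinForm.linearIndependent_of_iIsOrtho hortho hne
  have hcard : Fintype.card (Fin k ⊕ Fin k) = finrank F (ι → F) := by
    rw [Module.finrank_fintype_fun_eq_card, hk, Fintype.card_sum, Fintype.card_fin]
    ring
  have hspan : Submodule.span F (Set.range f) = ⊤ := hli.span_eq_top_of_card_eq_finrank' hcard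
  let b := Basis.mk hli hspan.ge
  have hb : ∀ i, b i = f i := fun i => by
    simp [b]
  -- the action of the product on the frame
  have hnd : (List.finRange k).Nodup := List.nodup_finRange k
  have hGfix_e : ∀ j l, j ≠ l → odnsq_G Q X e j *ᵥ e l = e l := by
    intro j l hjl
    exact odnsq_G_fix Q X e j (e l) (h3 j l hjl) (h4' j l)
  have hGfix_Xe : ∀ j l, j ≠ l → odnsq_G Q X e j *ᵥ (X *ᵥ e l) = X *ᵥ e l := by
    intro j l hjl
    exact odnsq_G_fix Q X e j (X *ᵥ e l) (h4 j l) (h5 j l hjl)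
  have hP_e : ∀ l, ((List.finRange k).map (odnsq_G Q X e)).prod *ᵥ e l = X *ᵥ e l := by
    intro l
    rw [odnsq_prod_apply (odnsq_G Q X e) (e l) l (fun j hjl => hGfix_e j l hjl)
      (fun j hjl => by rw [odnsq_G_e Q X h2 hXX hXQ e l (he l)]; exact hGfix_Xe j l hjl) _ hnd,
      if_pos (List.mem_finRange l), odnsq_G_e Q X h2 hXX hXQ e l (he l)]
  have hP_Xe : ∀ l, ((List.finRange k).map (odnsq_G Q X e)).prod *ᵥ (X *ᵥ e l) = -e l := by
    intro l
    rw [odnsq_prod_apply (odnsq_G Q X e) (X *ᵥ e l) l (fun j hjl => hGfix_Xe j l hjl)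
      (fun j hjl => by
        rw [odnsq_G_Xe Q X h2 hXX hXQ e l (he l), Matrix.mulVec_neg, hGfix_e j l hjl]) _ hnd,
      if_pos (List.mem_finRange l), odnsq_G_Xe Q X h2 hXX hXQ e l (he l)]
  apply Matrix.toLin'.injective
  apply b.ext
  rintro (j | j)
  · rw [hb, Matrix.toLin'_apply, Matrix.toLin'_apply]
    simp only [hf, Sum.elim_inl]
    rw [hP_e]
  · rw [hb, Matrix.toLin'_apply, Matrix.toLin'_apply]
    simp only [hf, Sum.elim_inr]
    rw [hP_Xe, hXX]

theorem odnsq_isSquare_mul_sq (a s : F) (hs : s ≠ 0) : IsSquare (a * s ^ 2) ↔ IsSquare a := by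
  constructor
  · rintro ⟨t, ht⟩
    refine ⟨t / s, ?_⟩
    field_simp
    rw [ht]
    ring
  · rintro ⟨t, ht⟩
    refine ⟨t * s, ?_⟩
    rw [ht]
    ring

/-- **Ω-membership of an isometry with `g * g = -1`**: uniform in `q mod 4`. -/
theorem odnsq_omega [Fintype F] (h2 : (2 : F) ≠ 0) (Q : QuadraticForm F (ι → F))
    (hnd : (QuadraticMap.polarBilin Q).Nondegenerate) (g : ↥(Cfsg.isometryGroup F ⇑Q))
    (hgg : ((g : Matrix.GeneralLinearGroup ι F) : Matrix ι ι F) *
      ((g : Matrix.GeneralLinearGroup ι F) : Matrix ι ι F) = -1)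
    (k : ℕ) (hk : Fintype.card ι = 2 * k) :
    g ∈ Cfsg.Omega F ⇑Q ↔ IsSquare ((2 : F) ^ k) := by
  set X : Matrix ι ι F := ((g : Matrix.GeneralLinearGroup ι F) : Matrix ι ι F) with hX
  have hXX : ∀ v, X *ᵥ (X *ᵥ v) = -v := by
    intro v
    rw [Matrix.mulVec_mulVec, hgg, Matrix.neg_mulVec, Matrix.one_mulVec]
  have hXQ : ∀ v, Q (X *ᵥ v) = Q v := fun v => g.2 v v
  obtain ⟨k', e, hk', he, h3, h4⟩ := odnsq_frame h2 Q hnd X hXX hXQ
  have hkk : k' = k := by omega
  subst hkk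
  have hprod := odnsq_eq_prod h2 Q X hXX hXQ k' e hk he h3 h4
  have hvs : ∀ v ∈ odnsq_vs X e (List.finRange k'), Q v ≠ 0 := by
    intro v hv
    obtain ⟨j, rfl | rfl⟩ := odnsq_vs_mem X e _ v hv
    · exact he j
    · rw [odnsq_Q_sub Q X h2 hXX hXQ]
      exact mul_ne_zero h2 (he j)
  rw [Cfsg.Agent.Lib.Helper16.master h2 Q g (odnsq_vs X e (List.finRange k')) hvs hprod, odnsq_vs_length,
    odnsq_vs_Q Q X e (fun j => odnsq_Q_sub Q X h2 hXX hXQ (e j)), List.length_finRange]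
  have hs : ((List.finRange k').map (fun j => Q (e j))).prod ≠ 0 := by
    apply List.prod_ne_zero
    intro h0
    rw [List.mem_map] at h0
    obtain ⟨j, _, hj⟩ := h0
    exact he j hj
  rw [odnsq_isSquare_mul_sq _ _ hs]
  constructor
  · exact fun h => h.2
  · exact fun h => ⟨⟨k', by ring⟩, h⟩

/-- the same for an element of `GL` -/
theorem odnsq_omegaGL [Fintype F] (h2 : (2 : F) ≠ 0) (Q : QuadraticForm F (ι → F))
    (hnd : (QuadraticMap.polarBilin Q).Nondegenerate) (x : Matrix.GeneralLinearGroup ι F)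
    (hx : x ∈ Cfsg.isometryGroup F ⇑Q)
    (hxx : (x : Matrix ι ι F) * (x : Matrix ι ι F) = -1)
    (k : ℕ) (hk : Fintype.card ι = 2 * k) :
    x ∈ Cfsg.Geo.omegaGL ⇑Q ↔ IsSquare ((2 : F) ^ k) := by
  rw [← odnsq_omega h2 Q hnd ⟨x, hx⟩ hxx k hk]
  unfold Cfsg.Geo.omegaGL
  rw [Subgroup.mem_map]
  constructor
  · rintro ⟨g, hg, hgx⟩
    have : g = ⟨x, hx⟩ := Subtype.ext hgx
    rwa [this] at hg
  · intro h
    exact ⟨⟨x, hx⟩, h, rfl⟩

theorem odnsq_two_pow (h2 : (2 : F) ≠ 0) (k : ℕ) : IsSquare ((2 : F) ^ k) ↔ Even k ∨ IsSquare (2 : F) := by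
  constructor
  · intro h
    rcases Nat.even_or_odd k with hk | hk
    · exact Or.inl hk
    · right
      obtain ⟨j, rfl⟩ := hk
      have : (2 : F) ^ (2 * j + 1) = 2 * ((2 : F) ^ j) ^ 2 := by ring
      rw [this, odnsq_isSquare_mul_sq _ _ (pow_ne_zero _ h2)] at h
      exact h
  · rintro (⟨j, rfl⟩ | h)
    · exact ⟨(2 : F) ^ j, by ring⟩
    · exact h.pow k

/-- no invariant nondegenerate subspace of odd dimension -/
theorem odnsq_no_odd (h2 : (2 : F) ≠ 0) (Q : QuadraticForm F (ι → F)) (X : Matrix ι ι F)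
    (hXX : X * X = -1) (hXQ : ∀ v, Q (X *ᵥ v) = Q v) (W : Submodule F (ι → F))
    (hW : Cfsg.Geo.IsNondegenerateOn (QuadraticMap.polar (⇑Q)) W)
    (hXW : W.map (Matrix.toLin' X) ≤ W) : Even (finrank F W) := by
  have hXX' : ∀ v, X *ᵥ (X *ᵥ v) = -v := by
    intro v
    rw [Matrix.mulVec_mulVec, hXX, Matrix.neg_mulVec, Matrix.one_mulVec]
  have hmem : ∀ w ∈ W, Matrix.toLin' X w ∈ W := fun w hw => hXW (Submodule.mem_map_of_mem hw)
  let XW : W →ₗ[F] W := (Matrix.toLin' X).restrict hmem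
  let BW : LinearMap.BilinForm F W := LinearMap.BilinForm.restrict (QuadraticMap.polarBilin Q) W
  have hBW : ∀ u v : W, BW u v = QuadraticMap.polar (⇑Q) (u : ι → F) (v : ι → F) := fun u v => rfl
  have hXWc : ∀ u : W, ((XW u : W) : ι → F) = X *ᵥ (u : ι → F) := fun u => by
    simp [XW, LinearMap.restrict_apply]
  obtain ⟨k, e, hk, -, -, -⟩ := odnsq_dec h2 (finrank F W) W BW XW rfl
    (fun u v => by rw [hBW, hBW, QuadraticMap.polar_comm])
    ⟨fun w hw => by
        by_contra hne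
        have hne' : (w : ι → F) ≠ 0 := fun h => hne (Subtype.ext h)
        obtain ⟨x, hxW, hx⟩ := (hW w w.2 hne').2
        exact hx (hw ⟨x, hxW⟩),
      fun w hw => by
        by_contra hne
        have hne' : (w : ι → F) ≠ 0 := fun h => hne (Subtype.ext h)
        obtain ⟨x, hxW, hx⟩ := (hW w w.2 hne').1
        exact hx (hw ⟨x, hxW⟩)⟩
    (fun u v => by rw [hBW, hBW, hXWc, hXWc, odnsq_polar_X Q X hXQ])
    (fun v => by
      apply Subtype.ext
      rw [hXWc, hXWc, hXX']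
      rfl)
  exact ⟨k, by omega⟩

end Cfsg.Agent.Lib.helper14.ODNSQ
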