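import Mathlib
import Cfsg.Agent.Lib.Helper1.ODN.Defs
import Cfsg.Agent.Lib.helper14.ODNSQc
import Cfsg.Agent.Lib.Helper16.PlusFam
import Cfsg.Agent.Lib.Helper16.OHelp
import Cfsg.Agent.Lib.Helper25.SQMD1

/-!
# ODN rows EXPLUSODD (`odn_ex_plus_odd`), EXPLUSEVEN core, EXMINUS core (helper14)

With `odnsq_omegaGL` (an isometry `x` with `x * x = -1` of a nondegenerate `2d`-space lies in `Ω` iff `2 ^ d` is a square)
the three existence rows reduce to the existence of such an `x` in the isometry group (SQM rows D1, D3, D4).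
-/

set_option autoImplicit false
set_option linter.unusedVariables false
set_option linter.unusedSectionVars false

namespace Cfsg.Agent.Lib.Helper1.ODN

open Cfsg.Agent.Lib.helper14.ODNSQ

theorem odnexplusodd_two_ne {F : Type*} [Field F] [Fintype F] (hq : Odd (Fintype.card F)) : (2 : F) ≠ 0 := by
  apply Ring.two_ne_zero
  intro h
  rw [FiniteField.even_card_iff_char_two] at h
  rw [Nat.odd_iff] at hq
  omega

/-- plus type: any isometry with `x * x = -1` lies in `Ω` as soon as `2 ^ d` is a square -/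
theorem odnexplusodd_plus_mem {F : Type*} [Field F] [Fintype F] (h2 : (2 : F) ≠ 0) (d : ℕ)
    (x : GL (Fin d ⊕ Fin d) F) (hx : x ∈ Cfsg.isometryGroup F (Cfsg.quadFormPlus d F))
    (hxx : (x : Matrix (Fin d ⊕ Fin d) (Fin d ⊕ Fin d) F) * (x : Matrix (Fin d ⊕ Fin d) (Fin d ⊕ Fin d) F) = -1) :
    x ∈ Cfsg.Geo.omegaGL (Cfsg.quadFormPlus d F) ↔ IsSquare ((2 : F) ^ d) := by
  have hcard : Fintype.card (Fin d ⊕ Fin d) = 2 * d := by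
    rw [Fintype.card_sum, Fintype.card_fin]
    ring
  exact odnsq_omegaGL h2 (Cfsg.Agent.Lib.Helper16.qfPlus d F) (Cfsg.Agent.Lib.Helper16.qfPlus_nondeg d F) x hx hxx
    d hcard

/-- minus type: any isometry with `x * x = -1` lies in `Ω` iff `2 ^ (k + 1)` is a square -/
theorem odnexplusodd_minus_mem {F : Type*} [Field F] [Fintype F] (h2 : (2 : F) ≠ 0) (k : ℕ) (a b : F)
    (hab : ∀ x y : F, x ^ 2 + a * x * y + b * y ^ 2 = 0 → x = 0 ∧ y = 0)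
    (x : GL ((Fin k ⊕ Fin k) ⊕ Fin 2) F) (hx : x ∈ Cfsg.isometryGroup F (Cfsg.quadFormMinus k F a b))
    (hxx : (x : Matrix ((Fin k ⊕ Fin k) ⊕ Fin 2) ((Fin k ⊕ Fin k) ⊕ Fin 2) F) *
      (x : Matrix ((Fin k ⊕ Fin k) ⊕ Fin 2) ((Fin k ⊕ Fin k) ⊕ Fin 2) F) = -1) :
    x ∈ Cfsg.Geo.omegaGL (Cfsg.quadFormMinus k F a b) ↔ IsSquare ((2 : F) ^ (k + 1)) := by
  have hcard : Fintype.card ((Fin k ⊕ Fin k) ⊕ Fin 2) = 2 * (k + 1) := by
    rw [Fintype.card_sum, Fintype.card_sum, Fintype.card_fin, Fintype.card_fin]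
    ring
  exact odnsq_omegaGL h2 (Cfsg.Agent.Lib.Helper16.qfMinus k F a b)
    (Cfsg.Agent.Lib.Helper16.OSemi.qfMinus_nondeg k a b hab) x hx hxx (k + 1) hcard

theorem odn_ex_plus_odd {F : Type*} [Field F] [Fintype F] (hq : Fintype.card F % 8 = 1) (d : ℕ) :
    ∃ x : GL (Fin d ⊕ Fin d) F, x ∈ Cfsg.Geo.omegaGL (Cfsg.quadFormPlus d F) ∧
      (x : Matrix (Fin d ⊕ Fin d) (Fin d ⊕ Fin d) F) * (x : Matrix (Fin d ⊕ Fin d) (Fin d ⊕ Fin d) F) = -1 := by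
  have h2 : (2 : F) ≠ 0 := odnexplusodd_two_ne (by rw [Nat.odd_iff]; omega)
  have hm1 : IsSquare (-1 : F) := by
    rw [FiniteField.isSquare_neg_one_iff]
    omega
  obtain ⟨i0, hi0⟩ := hm1
  obtain ⟨x, hx, hxx, -⟩ := Cfsg.Agent.Lib.helper15.SQM.sqm_ex_plus1 (F := F) d i0 hi0.symm
  refine ⟨x, ?_, hxx⟩
  rw [odnexplusodd_plus_mem h2 d x hx hxx]
  apply IsSquare.pow
  rw [FiniteField.isSquare_two_iff]
  omega

/-- EXPLUSEVEN from the statement of SQM row D3 -/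
theorem odnexpluseven_core {F : Type*} [Field F] [Fintype F] (h2 : (2 : F) ≠ 0)
    (hD3 : ∀ k : ℕ, ∃ x : Matrix.GeneralLinearGroup (Fin (2 * k) ⊕ Fin (2 * k)) F,
      x ∈ Cfsg.isometryGroup F (Cfsg.quadFormPlus (2 * k) F) ∧
      (x : Matrix (Fin (2 * k) ⊕ Fin (2 * k)) (Fin (2 * k) ⊕ Fin (2 * k)) F) *
        (x : Matrix (Fin (2 * k) ⊕ Fin (2 * k)) (Fin (2 * k) ⊕ Fin (2 * k)) F) = -1)
    (d : ℕ) (hd : Even d) :
    ∃ x : GL (Fin d ⊕ Fin d) F, x ∈ Cfsg.Geo.omegaGL (Cfsg.quadFormPlus d F) ∧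
      (x : Matrix (Fin d ⊕ Fin d) (Fin d ⊕ Fin d) F) * (x : Matrix (Fin d ⊕ Fin d) (Fin d ⊕ Fin d) F) = -1 := by
  obtain ⟨k, hk⟩ := hd
  have hdk : d = 2 * k := by omega
  subst hdk
  obtain ⟨x, hx, hxx⟩ := hD3 k
  refine ⟨x, ?_, hxx⟩
  rw [odnexplusodd_plus_mem h2 (2 * k) x hx hxx]
  exact ⟨(2 : F) ^ k, by ring⟩

/-- EXMINUS from the statement of SQM row D4 -/
theorem odnexminus_core {F : Type*} [Field F] [Fintype F]
    (hD4 : ∀ (h2 : (2 : F) ≠ 0) (hns : ¬ IsSquare (-1 : F)) (k : ℕ) (a b : F)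
      (hab : ∀ x y : F, x ^ 2 + a * x * y + b * y ^ 2 = 0 → x = 0 ∧ y = 0),
      ∃ x : Matrix.GeneralLinearGroup ((Fin (2 * k) ⊕ Fin (2 * k)) ⊕ Fin 2) F,
        x ∈ Cfsg.isometryGroup F (Cfsg.quadFormMinus (2 * k) F a b) ∧
        (x : Matrix ((Fin (2 * k) ⊕ Fin (2 * k)) ⊕ Fin 2) ((Fin (2 * k) ⊕ Fin (2 * k)) ⊕ Fin 2) F) *
          (x : Matrix ((Fin (2 * k) ⊕ Fin (2 * k)) ⊕ Fin 2) ((Fin (2 * k) ⊕ Fin (2 * k)) ⊕ Fin 2) F) = -1)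
    (hq : Fintype.card F % 8 = 7) (d : ℕ) (hd : Odd d)
    (a b : F) (hab : ∀ x y : F, x ^ 2 + a * x * y + b * y ^ 2 = 0 → x = 0 ∧ y = 0) :
    ∃ x : GL ((Fin (d - 1) ⊕ Fin (d - 1)) ⊕ Fin 2) F, x ∈ Cfsg.Geo.omegaGL (Cfsg.quadFormMinus (d - 1) F a b) ∧
      (x : Matrix ((Fin (d - 1) ⊕ Fin (d - 1)) ⊕ Fin 2) ((Fin (d - 1) ⊕ Fin (d - 1)) ⊕ Fin 2) F) *
        (x : Matrix ((Fin (d - 1) ⊕ Fin (d - 1)) ⊕ Fin 2) ((Fin (d - 1) ⊕ Fin (d - 1)) ⊕ Fin 2) F) = -1 := by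
  have h2 : (2 : F) ≠ 0 := odnexplusodd_two_ne (by rw [Nat.odd_iff]; omega)
  have hns : ¬ IsSquare (-1 : F) := by
    rw [FiniteField.isSquare_neg_one_iff]
    omega
  obtain ⟨k, hk⟩ := hd
  obtain ⟨e, he⟩ : ∃ e, e = d - 1 := ⟨_, rfl⟩
  rw [← he]
  have hek : e = 2 * k := by omega
  subst hek
  obtain ⟨x, hx, hxx⟩ := hD4 h2 hns k a b hab
  refine ⟨x, ?_, hxx⟩
  rw [odnexplusodd_minus_mem h2 (2 * k) a b hab x hx hxx]
  apply IsSquare.pow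
  rw [FiniteField.isSquare_two_iff]
  omega

end Cfsg.Agent.Lib.Helper1.ODN
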