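import Mathlib
import Cfsg.Agent.Lib.helper14.ODNEXPLUSODD
import Cfsg.Agent.Lib.Helper25.SQMD3

/-!
# ODN row EXPLUSEVEN (`odn_ex_plus_even`, helper14): SQM D3 + `odnsq_omegaGL`.
-/

set_option autoImplicit false

namespace Cfsg.Agent.Lib.Helper1.ODN

theorem odn_ex_plus_even {F : Type*} [Field F] [Fintype F] (h2 : (2 : F) ≠ 0) (d : ℕ) (hd : Even d) :
    ∃ x : GL (Fin d ⊕ Fin d) F, x ∈ Cfsg.Geo.omegaGL (Cfsg.quadFormPlus d F) ∧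
      (x : Matrix (Fin d ⊕ Fin d) (Fin d ⊕ Fin d) F) * (x : Matrix (Fin d ⊕ Fin d) (Fin d ⊕ Fin d) F) = -1 :=
  odnexpluseven_core h2 (fun k => Cfsg.Agent.Lib.helper15.SQM.sqm_ex_plus3 k) d hd

end Cfsg.Agent.Lib.Helper1.ODN
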