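import Mathlib
import Cfsg.Agent.Lib.Helper19.SU5.Defs
import Cfsg.Agent.Lib.helper8.STULA1
import Cfsg.Agent.Lib.Helper5.SU4T9

/-!
# Project SU5 (designer helper19), Skel1 block C: cores of C1 (`comm_bcU`) and C2 (`comm_cd_adU`), helper14.
The cited rows (F3 `lam_gen_KU`, T10 `yb_mulU`) enter as hypotheses with their exact statements.
-/

set_option autoImplicit false

namespace Cfsg.Agent.Lib.Helper19.SU5

open Cfsg.Agent.Lib.helper17.SLP Cfsg.Agent.Lib.helper3.SP4 Cfsg.Agent.Lib.Helper22.SU4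
open Cfsg.Agent.Lib.Helper27.STU (Lam XpM XmM XpS XmS SUm XpU XmU)

universe u v

section C

variable {F : Type u} {K : Type u} [Field F] [Field K] [StarRing F] {D : Tw F K}
  {G : Type v} [Group G]

/-- conjugation preserves commutation -/
theorem su5c1_conj (g a b : G) (h : Commute a b) : Commute (g * a * g⁻¹) (g * b * g⁻¹) := by
  unfold Commute SemiconjBy at *
  calc g * a * g⁻¹ * (g * b * g⁻¹) = g * (a * b) * g⁻¹ := by group
    _ = g * (b * a) * g⁻¹ := by rw [h]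
    _ = g * b * g⁻¹ * (g * a * g⁻¹) := by group

/-- `star` fixes the image of `ι` -/
theorem su5c1_star_ι (P : RO D) (y : K) : star (D.ι y) = D.ι y := by
  rw [← P.hσ, D.σ_ι]

/-- the set of `ξ` with `y_b(ξ)` commuting with a fixed element is a subgroup -/
def su5c1_sub (Y : Lam F True → G) (hmul : ∀ ξ η, Y (ξ * η) = Y ξ * Y η) (h1 : Y 1 = 1)
    (hinv : ∀ ξ, Y ξ⁻¹ = (Y ξ)⁻¹) (g : G) : Subgroup (Lam F True) where
  carrier := {ξ | Commute (Y ξ) g}
  mul_mem' := fun {a b} ha hb => by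
    show Commute (Y (a * b)) g
    rw [hmul]
    exact Commute.mul_left ha hb
  one_mem' := by
    show Commute (Y 1) g
    rw [h1]
    exact Commute.one_left g
  inv_mem' := fun {a} ha => by
    show Commute (Y a⁻¹) g
    rw [hinv]
    exact Commute.inv_left ha

theorem su5c1_mem_sub (Y : Lam F True → G) (hmul : ∀ ξ η, Y (ξ * η) = Y ξ * Y η) (h1 : Y 1 = 1)
    (hinv : ∀ ξ, Y ξ⁻¹ = (Y ξ)⁻¹) (g : G) (ξ : Lam F True) :
    ξ ∈ su5c1_sub Y hmul h1 hinv g ↔ Commute (Y ξ) g := Iff.rfl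

/-- C1 core: `hF3` = statement of F3 `lam_gen_KU hFK P`, `hmul h1 hinv` = the `y_b` part of T10 `yb_mulU`, `hc0` : `x_c(0) = 1` (SU4 T9). -/
theorem su5c1_core (P : RO D) (φa : Matrix.SpecialLinearGroup (Fin 2) F →* G) (φb : ↥(SUm F True) →* G)
    (H : HypU P φa φb) (R : TorU P φa φb)
    (hF3 : ∀ H' : Subgroup (Lam F True),
      (∀ k : Kˣ, Lam.act ((D.ιu k : Fˣ) : F) P.ξ₁ ∈ H' ∧ Lam.act ((D.ιu k : Fˣ) : F) P.ξ₂ ∈ H') → H' = ⊤)
    (hmul : ∀ ξ η, yb φb (ξ * η) = yb φb ξ * yb φb η) (h1 : yb φb 1 = 1)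
    (hinv : ∀ ξ, yb φb ξ⁻¹ = (yb φb ξ)⁻¹) (hc0 : xcU P φa φb 0 = 1) :
    ∀ ξ t, Commute (yb φb ξ) (xcU P φa φb t) := by
  -- stage 1
  have hst : ∀ (k : Kˣ) (ξ : Lam F True), Commute (yb φb ξ) (xcU P φa φb 1) →
      Commute (yb φb (Lam.act ((D.ιu k : Fˣ) : F) ξ)) (xcU P φa φb 1) := by
    intro k ξ hξ
    have h2 := su5c1_conj (rh φa (D.ιu k)⁻¹) _ _ hξ
    rw [R.a_yb, R.ac (D.ιu k)⁻¹ 1, inv_inv] at h2
    have e : (((D.ιu k)⁻¹ : Fˣ) : F) * star ((D.ιu k : Fˣ) : F) * 1 = 1 := by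
      rw [D.ιu_coe, su5c1_star_ι P, mul_one, ← D.ιu_coe, Units.inv_mul]
    rwa [e] at h2
  have hS1 : su5c1_sub (yb φb) hmul h1 hinv (xcU P φa φb 1) = ⊤ := by
    apply hF3
    intro k
    exact ⟨hst k _ H.U6, hst k _ H.U6b⟩
  have h1all : ∀ ξ, Commute (yb φb ξ) (xcU P φa φb 1) := by
    intro ξ
    have : ξ ∈ su5c1_sub (yb φb) hmul h1 hinv (xcU P φa φb 1) := by rw [hS1]; trivial
    exact this
  -- stage 2
  intro ξ t
  by_cases ht : t = 0
  · rw [ht, hc0]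
    exact Commute.one_right _
  · have hst' : star t ≠ 0 := fun h => ht (by simpa using congrArg star h)
    set r : Fˣ := Units.mk0 (star t) hst' with hr
    have hrv : (r : F) = star t := rfl
    have hρ : (r : F) ^ 2 / star (r : F) ≠ 0 := by
      rw [hrv, star_star]
      exact div_ne_zero (pow_ne_zero 2 hst') ht
    have h2 := su5c1_conj (hbF P φb r) _ _ (h1all (Lam.act ((r : F) ^ 2 / star (r : F))⁻¹ ξ))
    rw [R.b_yb, R.bc r 1, Lam.act_act, mul_inv_cancel₀ hρ, Lam.act_one, hrv, star_star, mul_one] at h2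
    exact h2

/-- C2 core (final: no cited rows). -/
theorem su5c2_core (P : RO D) (φa : Matrix.SpecialLinearGroup (Fin 2) F →* G) (φb : ↥(SUm F True) →* G)
    (W : WactU P φa φb) (hbc : ∀ ξ t, Commute (yb φb ξ) (xcU P φa φb t)) :
    (∀ t ξ, Commute (xcU P φa φb t) (ydU φa φb ξ)) ∧ ∀ t ξ, Commute (rx φa t) (ydU φa φb ξ) := by
  have hcd : ∀ t ξ, Commute (xcU P φa φb t) (ydU φa φb ξ) := by
    intro t ξ
    have h2 := su5c1_conj (rn φa) _ _ (hbc (Lam.act (-1) ξ) (-star t))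
    rw [W.a_b, W.a_c, Lam.act_act, star_neg, star_star, neg_neg] at h2
    have e : (-1 : F) * -1 = 1 := by ring
    rw [e, Lam.act_one] at h2
    exact h2.symm
  refine ⟨hcd, ?_⟩
  intro t ξ
  have h2 := su5c1_conj (rn (phiL P φb)) _ _ (hcd t ξ)
  rwa [W.b_c, W.b_d] at h2

end C

end Cfsg.Agent.Lib.Helper19.SU5
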