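import Mathlib
import Cfsg.Agent.Lib.Helper19.SU5.Defs
import Cfsg.Agent.Lib.helper8.STULA1
import Cfsg.Agent.Lib.Helper5.SU4T9
import Cfsg.Agent.Lib.helper14.SU5C1core

/-!
# Project SU5 (designer helper19), Skel1 block C: core of C3 (`cm_bdU`), helper14.
The cited rows (F3 `lam_gen_KU`, F4 `lam_gen_FU`, T10 `yb_mulU`) enter as hypotheses with their exact statements.
-/

set_option autoImplicit false

namespace Cfsg.Agent.Lib.Helper19.SU5

open Cfsg.Agent.Lib.helper17.SLP Cfsg.Agent.Lib.helper3.SP4 Cfsg.Agent.Lib.Helper22.SU4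
open Cfsg.Agent.Lib.Helper27.STU (Lam XpM XmM XpS XmS SUm XpU XmU)

universe u v

section grp

variable {G : Type v} [Group G]

theorem su5c3_cm_mul_left (a a' c : G) : cm (a * a') c = a * cm a' c * a⁻¹ * cm a c := by
  unfold cm; group

theorem su5c3_cm_mul_right (a c c' : G) : cm a (c * c') = cm a c * (c * cm a c' * c⁻¹) := by
  unfold cm; group

theorem su5c3_cm_inv_left (a c : G) : cm a⁻¹ c = a⁻¹ * (cm a c)⁻¹ * a := by
  unfold cm; group

theorem su5c3_cm_inv_right (a c : G) : cm a c⁻¹ = c⁻¹ * (cm a c)⁻¹ * c := by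
  unfold cm; group

theorem su5c3_conj_cm (g a c : G) : g * cm a c * g⁻¹ = cm (g * a * g⁻¹) (g * c * g⁻¹) := by
  unfold cm; group

theorem su5c3_cm_one_left (c : G) : cm 1 c = 1 := by
  unfold cm; group

theorem su5c3_cm_one_right (a : G) : cm a 1 = 1 := by
  unfold cm; group

/-- `a x a⁻¹ = x` if they commute -/
theorem su5c3_comm_conj (a x : G) (h : Commute a x) : a * x * a⁻¹ = x := by
  rw [h.eq, mul_inv_cancel_right]

theorem su5c3_comm_conj' (a x : G) (h : Commute a x) : a⁻¹ * x * a = x := by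
  rw [mul_assoc, ← h.eq, inv_mul_cancel_left]

end grp

section C

variable {F : Type u} {K : Type u} [Field F] [Field K] [StarRing F] [Fintype F] [Fintype K] {D : Tw F K}
  {G : Type v} [Group G]

omit [Fintype F] [Fintype K] in
theorem su5c3_xc_add (P : RO D) (φa : Matrix.SpecialLinearGroup (Fin 2) F →* G) (φb : ↥(SUm F True) →* G) :
    (∀ s t, xcU P φa φb (s + t) = xcU P φa φb s * xcU P φa φb t) ∧ xcU P φa φb 0 = 1 ∧
      ∀ t, xcU P φa φb (-t) = (xcU P φa φb t)⁻¹ := by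
  have hc : ∀ s t, xcU P φa φb (s + t) = xcU P φa φb s * xcU P φa φb t := by
    intro s t
    unfold xcU xcT
    rw [sp4kit_rx_add]
    group
  exact ⟨hc, sp4kit_add_zero _ hc, sp4kit_add_neg _ hc⟩

/-- the relation `Q ξ η` -/
def su5c3_Q (P : RO D) (φa : Matrix.SpecialLinearGroup (Fin 2) F →* G) (φb : ↥(SUm F True) →* G)
    (ξ η : Lam F True) : Prop :=
  cm (yb φb ξ) (ydU φa φb η) = xcU P φa φb (-(P.kap)⁻¹ * (star ξ.v * η.v))

/-- C3 core: `hF3` = statement of F3 `lam_gen_KU hFK P`, `hF4` = statement of F4 `lam_gen_FU hFK P`, `hmul … hdinv` = the `y_b`, `y_d` parts of T10 `yb_mulU`. -/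
theorem su5c3_core (P : RO D) (φa : Matrix.SpecialLinearGroup (Fin 2) F →* G) (φb : ↥(SUm F True) →* G)
    (H : HypU P φa φb) (R : TorU P φa φb)
    (hF3 : ∀ H' : Subgroup (Lam F True),
      (∀ k : Kˣ, Lam.act ((D.ιu k : Fˣ) : F) P.ξ₁ ∈ H' ∧ Lam.act ((D.ιu k : Fˣ) : F) P.ξ₂ ∈ H') → H' = ⊤)
    (hF4 : ∀ ξ₀ : Lam F True, ξ₀.v ≠ 0 → ∀ H' : Subgroup (Lam F True),
      (∀ s : Fˣ, Lam.act (s : F) ξ₀ ∈ H') → H' = ⊤)
    (hmul : ∀ ξ η, yb φb (ξ * η) = yb φb ξ * yb φb η) (h1 : yb φb 1 = 1)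
    (hinv : ∀ ξ, yb φb ξ⁻¹ = (yb φb ξ)⁻¹)
    (hdmul : ∀ ξ η, ydU φa φb (ξ * η) = ydU φa φb ξ * ydU φa φb η) (hd1 : ydU φa φb 1 = 1)
    (hdinv : ∀ ξ, ydU φa φb ξ⁻¹ = (ydU φa φb ξ)⁻¹)
    (hbc : ∀ ξ t, Commute (yb φb ξ) (xcU P φa φb t))
    (hcd : ∀ t ξ, Commute (xcU P φa φb t) (ydU φa φb ξ)) :
    ∀ ξ η, cm (yb φb ξ) (ydU φa φb η) = xcU P φa φb (-(P.kap)⁻¹ * (star ξ.v * η.v)) := by
  obtain ⟨hxadd, hx0, hxneg⟩ := su5c3_xc_add P φa φb
  -- product rules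
  have Qml : ∀ ξ ξ' η, su5c3_Q P φa φb ξ η → su5c3_Q P φa φb ξ' η → su5c3_Q P φa φb (ξ * ξ') η := by
    intro ξ ξ' η h h'
    unfold su5c3_Q at *
    rw [hmul, su5c3_cm_mul_left, h, h', su5c3_comm_conj _ _ (hbc ξ _), ← hxadd]
    congr 1
    rw [Lam.mul_v, star_add]
    ring
  have Q1l : ∀ η, su5c3_Q P φa φb 1 η := by
    intro η
    unfold su5c3_Q
    rw [h1, su5c3_cm_one_left, Lam.one_v, star_zero, zero_mul, mul_zero, hx0]
  have Qil : ∀ ξ η, su5c3_Q P φa φb ξ η → su5c3_Q P φa φb ξ⁻¹ η := by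
    intro ξ η h
    unfold su5c3_Q at *
    rw [hinv, su5c3_cm_inv_left, h, ← hxneg, su5c3_comm_conj' _ _ (hbc ξ _)]
    congr 1
    rw [Lam.inv_v, star_neg]
    ring
  have Qmr : ∀ ξ η η', su5c3_Q P φa φb ξ η → su5c3_Q P φa φb ξ η' → su5c3_Q P φa φb ξ (η * η') := by
    intro ξ η η' h h'
    unfold su5c3_Q at *
    rw [hdmul, su5c3_cm_mul_right, h, h', su5c3_comm_conj _ _ (hcd _ η).symm, ← hxadd]
    congr 1
    rw [Lam.mul_v]
    ring
  have Q1r : ∀ ξ, su5c3_Q P φa φb ξ 1 := by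
    intro ξ
    unfold su5c3_Q
    rw [hd1, su5c3_cm_one_right, Lam.one_v, mul_zero, mul_zero, hx0]
  have Qir : ∀ ξ η, su5c3_Q P φa φb ξ η → su5c3_Q P φa φb ξ η⁻¹ := by
    intro ξ η h
    unfold su5c3_Q at *
    rw [hdinv, su5c3_cm_inv_right, h, ← hxneg, su5c3_comm_conj' _ _ (hcd _ η).symm]
    congr 1
    rw [Lam.inv_v]
    ring
  -- stage 1
  let S₁ : Subgroup (Lam F True) :=
    { carrier := {ξ | su5c3_Q P φa φb ξ P.ξ₁}
      mul_mem' := fun {a b} ha hb => Qml a b _ ha hb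
      one_mem' := Q1l _
      inv_mem' := fun {a} ha => Qil a _ ha }
  have hst1 : ∀ (k : Kˣ) (ξ : Lam F True), su5c3_Q P φa φb ξ P.ξ₁ →
      su5c3_Q P φa φb (Lam.act ((D.ιu k : Fˣ) : F) ξ) P.ξ₁ := by
    intro k ξ h
    unfold su5c3_Q at *
    have h2 := congrArg (fun g => hbF P φb (D.ιu k) * g * (hbF P φb (D.ιu k))⁻¹) h
    beta_reduce at h2
    rw [su5c3_conj_cm, R.b_yb, R.b_yd, R.bc (D.ιu k)] at h2
    have hk0 : D.ι (k : K) ≠ 0 := by
      rw [← D.ιu_coe]; exact Units.ne_zero _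
    have e1 : ((D.ιu k : Fˣ) : F) ^ 2 / star ((D.ιu k : Fˣ) : F) = ((D.ιu k : Fˣ) : F) := by
      rw [D.ιu_coe, su5c1_star_ι P]
      field_simp
    have e2 : ((D.ιu k : Fˣ) : F) / star ((D.ιu k : Fˣ) : F) = 1 := by
      rw [D.ιu_coe, su5c1_star_ι P]
      exact div_self hk0
    rw [e1, e2, Lam.act_one] at h2
    rw [h2]
    congr 1
    rw [Lam.act_v, star_mul', D.ιu_coe, su5c1_star_ι P]
    ring
  have hS1 : S₁ = ⊤ := by
    apply hF3
    intro k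
    exact ⟨hst1 k _ H.U8, hst1 k _ H.U8b⟩
  have h1all : ∀ ξ, su5c3_Q P φa φb ξ P.ξ₁ := by
    intro ξ
    have : ξ ∈ S₁ := by rw [hS1]; trivial
    exact this
  -- stage 2
  have hst2 : ∀ (s : Fˣ) (ξ : Lam F True), su5c3_Q P φa φb ξ (Lam.act (s : F) P.ξ₁) := by
    intro s ξ
    have h := h1all (Lam.act (s : F) ξ)
    unfold su5c3_Q at *
    have h2 := congrArg (fun g => rh φa s * g * (rh φa s)⁻¹) h
    beta_reduce at h2
    rw [su5c3_conj_cm, R.a_yb, R.a_yd, R.ac s, Lam.act_act, Units.inv_mul, Lam.act_one] at h2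
    rw [h2]
    congr 1
    rw [Lam.act_v, Lam.act_v, star_mul']
    have hs : (s : F) * star ((s⁻¹ : Fˣ) : F) * star (s : F) = (s : F) := by
      rw [mul_assoc, ← star_mul', Units.inv_mul, star_one, mul_one]
    linear_combination (-(P.kap)⁻¹ * star ξ.v * P.ξ₁.v) * hs
  let S₂ : Subgroup (Lam F True) :=
    { carrier := {η | ∀ ξ, su5c3_Q P φa φb ξ η}
      mul_mem' := fun {a b} ha hb ξ => Qmr ξ a b (ha ξ) (hb ξ)
      one_mem' := fun ξ => Q1r ξ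
      inv_mem' := fun {a} ha ξ => Qir ξ a (ha ξ) }
  have hS2 : S₂ = ⊤ := by
    apply hF4 P.ξ₁
    · rw [P.hv₁]; exact one_ne_zero
    · intro s ξ
      exact hst2 s ξ
  intro ξ η
  have : η ∈ S₂ := by rw [hS2]; trivial
  exact this ξ

end C

end Cfsg.Agent.Lib.Helper19.SU5
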