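import Mathlib
import Cfsg.Agent.Lib.Helper19.SU5.Defs
import Cfsg.Agent.Lib.helper8.STULA1
import Cfsg.Agent.Lib.Helper5.SU4T9
import Cfsg.Agent.Lib.helper14.SU5C1core
import Cfsg.Agent.Lib.helper14.SU5C3core

/-!
# Project SU5 (designer helper19), Skel1 block C: core of C4 (`cm_abU`), helper14.
The cited rows (F3 `lam_gen_KU`, T10 `yb_mulU`) enter as hypotheses with their exact statements.  F5 is not needed (the inverse rule is proved directly).
-/

set_option autoImplicit false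

namespace Cfsg.Agent.Lib.Helper19.SU5

open Cfsg.Agent.Lib.helper17.SLP Cfsg.Agent.Lib.helper3.SP4 Cfsg.Agent.Lib.Helper22.SU4
open Cfsg.Agent.Lib.Helper27.STU (Lam XpM XmM XpS XmS SUm XpU XmU)

universe u v

section grp

variable {G : Type v} [Group G]

theorem su5c4_conj_mul (g a b : G) : g * (a * b) * g⁻¹ = (g * a * g⁻¹) * (g * b * g⁻¹) := by group

/-- `b y b⁻¹ = [b, y] y` -/
theorem su5c4_conj_eq_cm (b y : G) : b * y * b⁻¹ = cm b y * y := by
  unfold cm; group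

end grp

section C

variable {F : Type u} {K : Type u} [Field F] [Field K] [StarRing F] {D : Tw F K}
  {G : Type v} [Group G]

/-- the relation `E t ξ` -/
def su5c4_E (P : RO D) (φa : Matrix.SpecialLinearGroup (Fin 2) F →* G) (φb : ↥(SUm F True) →* G)
    (t : F) (ξ : Lam F True) : Prop :=
  cm (rx φa t) (yb φb ξ) = xcU P φa φb (-(P.kap)⁻¹ * (t * star ξ.c)) * ydU φa φb (Lam.act (-t) ξ)

/-- C4 core: `hF3` = statement of F3 `lam_gen_KU hFK P`, `hmul … hdinv` = the `y_b`, `y_d` parts of T10 `yb_mulU`. -/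
theorem su5c4_core (P : RO D) (φa : Matrix.SpecialLinearGroup (Fin 2) F →* G) (φb : ↥(SUm F True) →* G)
    (H : HypU P φa φb) (R : TorU P φa φb)
    (hF3 : ∀ H' : Subgroup (Lam F True),
      (∀ k : Kˣ, Lam.act ((D.ιu k : Fˣ) : F) P.ξ₁ ∈ H' ∧ Lam.act ((D.ιu k : Fˣ) : F) P.ξ₂ ∈ H') → H' = ⊤)
    (hmul : ∀ ξ η, yb φb (ξ * η) = yb φb ξ * yb φb η) (h1 : yb φb 1 = 1)
    (hinv : ∀ ξ, yb φb ξ⁻¹ = (yb φb ξ)⁻¹)
    (hdmul : ∀ ξ η, ydU φa φb (ξ * η) = ydU φa φb ξ * ydU φa φb η) (hd1 : ydU φa φb 1 = 1)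
    (hdinv : ∀ ξ, ydU φa φb ξ⁻¹ = (ydU φa φb ξ)⁻¹)
    (hbc : ∀ ξ t, Commute (yb φb ξ) (xcU P φa φb t))
    (hcd : ∀ t ξ, Commute (xcU P φa φb t) (ydU φa φb ξ))
    (hbd : ∀ ξ η, cm (yb φb ξ) (ydU φa φb η) = xcU P φa φb (-(P.kap)⁻¹ * (star ξ.v * η.v))) :
    ∀ t ξ, cm (rx φa t) (yb φb ξ) =
      xcU P φa φb (-(P.kap)⁻¹ * (t * star ξ.c)) * ydU φa φb (Lam.act (-t) ξ) := by
  obtain ⟨hxadd, hx0, hxneg⟩ := su5c3_xc_add P φa φb
  -- product rule
  have Eml : ∀ t ξ ξ', su5c4_E P φa φb t ξ → su5c4_E P φa φb t ξ' → su5c4_E P φa φb t (ξ * ξ') := by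
    intro t ξ ξ' h h'
    unfold su5c4_E at *
    rw [hmul, su5c3_cm_mul_right, h, h', su5c4_conj_mul, su5c3_comm_conj _ _ (hbc ξ _), su5c4_conj_eq_cm, hbd]
    set f := -(P.kap)⁻¹ * (t * star ξ.c)
    set f' := -(P.kap)⁻¹ * (t * star ξ'.c)
    set g := Lam.act (-t) ξ
    set g' := Lam.act (-t) ξ'
    set h3 := -(P.kap)⁻¹ * (star ξ.v * g'.v)
    have e : xcU P φa φb f * ydU φa φb g * (xcU P φa φb f' * (xcU P φa φb h3 * ydU φa φb g')) =
        xcU P φa φb (f + f' + h3) * ydU φa φb (g * g') := by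
      calc xcU P φa φb f * ydU φa φb g * (xcU P φa φb f' * (xcU P φa φb h3 * ydU φa φb g'))
          = xcU P φa φb f * (ydU φa φb g * xcU P φa φb f') * xcU P φa φb h3 * ydU φa φb g' := by group
        _ = xcU P φa φb f * (xcU P φa φb f' * ydU φa φb g) * xcU P φa φb h3 * ydU φa φb g' := by
            rw [(hcd f' g).eq]
        _ = xcU P φa φb f * xcU P φa φb f' * (ydU φa φb g * xcU P φa φb h3) * ydU φa φb g' := by group
        _ = xcU P φa φb f * xcU P φa φb f' * (xcU P φa φb h3 * ydU φa φb g) * ydU φa φb g' := by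
            rw [(hcd h3 g).eq]
        _ = (xcU P φa φb f * xcU P φa φb f' * xcU P φa φb h3) * (ydU φa φb g * ydU φa φb g') := by group
        _ = xcU P φa φb (f + f' + h3) * ydU φa φb (g * g') := by rw [hxadd, hxadd, hdmul]
    rw [e]
    congr 1
    · congr 1
      simp only [f, f', h3, g', Lam.mul_c, Lam.act_v, star_add, star_sub, star_mul', star_star]
      ring
    · simp only [g, g']
      rw [Lam.act_mul]
  have E1 : ∀ t, su5c4_E P φa φb t 1 := by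
    intro t
    unfold su5c4_E
    rw [h1, su5c3_cm_one_right, Lam.one_c, star_zero, mul_zero, mul_zero, hx0, Lam.act_one', hd1, one_mul]
  have Eil : ∀ t ξ, su5c4_E P φa φb t ξ → su5c4_E P φa φb t ξ⁻¹ := by
    intro t ξ h
    unfold su5c4_E at *
    rw [hinv, su5c3_cm_inv_right, h, mul_inv_rev]
    have e0 : (yb φb ξ)⁻¹ * ((ydU φa φb (Lam.act (-t) ξ))⁻¹ * (xcU P φa φb (-(P.kap)⁻¹ * (t * star ξ.c)))⁻¹) * yb φb ξ =
        ((yb φb ξ)⁻¹ * (ydU φa φb (Lam.act (-t) ξ))⁻¹ * ((yb φb ξ)⁻¹)⁻¹) *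
          ((yb φb ξ)⁻¹ * (xcU P φa φb (-(P.kap)⁻¹ * (t * star ξ.c)))⁻¹ * yb φb ξ) := by group
    rw [e0, ← hxneg, su5c3_comm_conj' _ _ (hbc ξ _), ← hinv, ← hdinv, su5c4_conj_eq_cm, hbd,
      mul_assoc, ← (hcd _ _).eq, ← mul_assoc, ← hxadd, ← Lam.act_inv]
    congr 2
    have hξ := ξ.h
    simp only [Lam.inv_v, Lam.inv_c, Lam.act_v, star_neg, star_star]
    linear_combination ((P.kap)⁻¹ * t) * hξ
  -- stage 1
  let S₁ : Subgroup (Lam F True) :=
    { carrier := {ξ | su5c4_E P φa φb 1 ξ}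
      mul_mem' := fun {a b} ha hb => Eml 1 a b ha hb
      one_mem' := E1 1
      inv_mem' := fun {a} ha => Eil 1 a ha }
  have hst1 : ∀ (k : Kˣ) (ξ : Lam F True), su5c4_E P φa φb 1 ξ →
      su5c4_E P φa φb 1 (Lam.act ((D.ιu k : Fˣ) : F) ξ) := by
    intro k ξ h
    unfold su5c4_E at *
    have hx0' : D.ι (k : K) ≠ 0 := by
      rw [← D.ιu_coe]; exact Units.ne_zero _
    have hxs : star (D.ι (k : K)) = D.ι (k : K) := su5c1_star_ι P _
    have h2 := congrArg (fun g => hbF P φb ((D.ιu k) ^ 2) * g * (hbF P φb ((D.ιu k) ^ 2))⁻¹) h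
    beta_reduce at h2
    rw [su5c3_conj_cm, su5c4_conj_mul, R.ab ((D.ιu k) ^ 2) 1, R.b_yb, R.bc ((D.ιu k) ^ 2), R.b_yd] at h2
    have h3 := congrArg (fun g => rh φa (D.ιu k) * g * (rh φa (D.ιu k))⁻¹) h2
    beta_reduce at h3
    rw [su5c3_conj_cm, su5c4_conj_mul, sp4kit_rh_act φa (D.ιu k), R.a_yb, R.ac (D.ιu k), R.a_yd,
      Lam.act_act, Lam.act_act, Lam.act_act] at h3
    simp only [Units.val_pow_eq_pow_val, Units.val_inv_eq_inv_val, D.ιu_coe, star_pow, star_inv₀, hxs] at h3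
    have e1 : D.ι (k : K) ^ 2 * ((D.ι (k : K) ^ 2)⁻¹ * 1) = 1 := by field_simp
    have e2 : (D.ι (k : K))⁻¹ * ((D.ι (k : K) ^ 2) ^ 2 / D.ι (k : K) ^ 2) = D.ι (k : K) := by field_simp
    have e3 : D.ι (k : K) * (D.ι (k : K) ^ 2 / D.ι (k : K) ^ 2) * -1 = -1 * D.ι (k : K) := by field_simp
    rw [e1, e2, e3] at h3
    rw [D.ιu_coe, h3, Lam.act_act]
    congr 2
    simp only [Lam.act_c, star_mul', hxs]
    field_simp
  have hS1 : S₁ = ⊤ := by
    apply hF3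
    intro k
    refine ⟨hst1 k _ ?_, hst1 k _ ?_⟩
    · show cm (rx φa 1) (yb φb P.ξ₁) = _
      rw [H.U7, one_mul]
    · show cm (rx φa 1) (yb φb P.ξ₂) = _
      rw [H.U7b, one_mul]
  have h1all : ∀ ξ, su5c4_E P φa φb 1 ξ := by
    intro ξ
    have : ξ ∈ S₁ := by rw [hS1]; trivial
    exact this
  -- stage 2
  intro t ξ
  by_cases ht : t = 0
  · rw [ht, sp4kit_rx_zero, su5c3_cm_one_left, zero_mul, mul_zero, hx0, neg_zero, Lam.act_zero, hd1, one_mul]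
  · have hst' : star t ≠ 0 := fun h => ht (by simpa using congrArg star h)
    set r : Fˣ := Units.mk0 t⁻¹ (inv_ne_zero ht) with hr
    have hrv : (r : F) = t⁻¹ := rfl
    have hρ : (r : F) ^ 2 / star (r : F) ≠ 0 := by
      rw [hrv, star_inv₀]
      exact div_ne_zero (pow_ne_zero 2 (inv_ne_zero ht)) (inv_ne_zero hst')
    have h := h1all (Lam.act ((r : F) ^ 2 / star (r : F))⁻¹ ξ)
    unfold su5c4_E at h
    have h2 := congrArg (fun g => hbF P φb r * g * (hbF P φb r)⁻¹) h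
    beta_reduce at h2
    rw [su5c3_conj_cm, su5c4_conj_mul, R.ab r 1, R.b_yb, R.bc r, R.b_yd, Lam.act_act, Lam.act_act,
      Lam.act_act, mul_inv_cancel₀ hρ, Lam.act_one] at h2
    simp only [Units.val_inv_eq_inv_val, hrv, inv_inv, mul_one, star_inv₀] at h2
    rw [h2]
    congr 2
    · simp only [Lam.act_c, star_mul', star_inv₀, star_div₀, star_pow, star_star]
      field_simp
    · field_simp

end C

end Cfsg.Agent.Lib.Helper19.SU5
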