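import Mathlib
import Cfsg.Agent.Lib.Helper19.SU5.Defs
import Cfsg.Agent.Lib.Helper29.SU5F3
import Cfsg.Agent.Lib.Helper22.SU5F4
import Cfsg.Agent.Lib.Helper20.SU5T10
import Cfsg.Agent.Lib.helper14.SU5C1core
import Cfsg.Agent.Lib.helper14.SU5C3core
import Cfsg.Agent.Lib.helper14.SU5C4core

/-!
# Project SU5 (designer helper19), Skel1 rows C1 (`comm_bcU`), C3 (`cm_bdU`), C4 (`cm_abU`), helper14, VERBATIM
(wrappers of `su5c1_core`, `su5c3_core`, `su5c4_core` on F3 `lam_gen_KU` (helper29), F4 `lam_gen_FU` (helper22), T10 `yb_mulU` (helper20)).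
-/

set_option autoImplicit false

namespace Cfsg.Agent.Lib.Helper19.SU5

open Cfsg.Agent.Lib.helper17.SLP Cfsg.Agent.Lib.helper3.SP4 Cfsg.Agent.Lib.Helper22.SU4
open Cfsg.Agent.Lib.Helper27.STU (Lam XpM XmM XpS XmS SUm XpU XmU)

universe u v

section C

variable {F : Type u} {K : Type u} [Field F] [Field K] [StarRing F] [Fintype F] [Fintype K] {D : Tw F K}
  {G : Type v} [Group G]

/-- C1 [M]  deps F3 T10.  STAGE 1 (`t = 1`): `Ξ := {ξ | Commute (y_b ξ) (x_c 1)}` is a subgroup, `ξ₁ ξ₂ ∈ Ξ` (`H.U6 H.U6b`); stable under `act (ι k)`: conjugate by `τ := h_a(ιu k⁻¹)`: `y_b(ξ) ↦ y_b(act (ι k) ξ)` (`R.a_yb`),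
`x_c(1) ↦ x_c((ι k)⁻¹ star (ι k) · 1) = x_c(1)` (`R.ac`, F1).  F3: `Commute (y_b ξ) (x_c 1)` for all `ξ`.  STAGE 2: for `t ≠ 0` let `r : Fˣ` with `star r = t`; conjugate `Commute (y_b ξ') (x_c 1)` by `h_b(r)`:
`Commute (y_b (act ρ ξ')) (x_c t)`, `ρ = r²/star r ≠ 0` (`R.b_yb R.bc`); `ξ' := act ρ⁻¹ ξ` (`Lam.act_act`, `Lam.act_one`).  `t = 0`: `x_c 0 = 1` (SU4 T9 `xcd_addT`). -/
theorem comm_bcU (hFK : Fintype.card F = Fintype.card K ^ 2) (P : RO D)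
    (φa : Matrix.SpecialLinearGroup (Fin 2) F →* G) (φb : ↥(SUm F True) →* G) (H : HypU P φa φb)
    (R : TorU P φa φb) : ∀ ξ t, Commute (yb φb ξ) (xcU P φa φb t) :=
  su5c1_core P φa φb H R (fun H' h => lam_gen_KU hFK P H' h) (yb_mulU φa φb).1 (yb_mulU φa φb).2.1
    (yb_mulU φa φb).2.2.1 (su5c3_xc_add P φa φb).2.1

/-- C3 [M-L]  deps F3 F4 T10 + SU4 T9 `xcd_addT`. -/
theorem cm_bdU (hFK : Fintype.card F = Fintype.card K ^ 2) (P : RO D)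
    (φa : Matrix.SpecialLinearGroup (Fin 2) F →* G) (φb : ↥(SUm F True) →* G) (H : HypU P φa φb)
    (R : TorU P φa φb) (hbc : ∀ ξ t, Commute (yb φb ξ) (xcU P φa φb t))
    (hcd : ∀ t ξ, Commute (xcU P φa φb t) (ydU φa φb ξ)) :
    ∀ ξ η, cm (yb φb ξ) (ydU φa φb η) = xcU P φa φb (-(P.kap)⁻¹ * (star ξ.v * η.v)) :=
  su5c3_core P φa φb H R (fun H' h => lam_gen_KU hFK P H' h) (fun ξ₀ h₀ H' h => lam_gen_FU hFK P ξ₀ h₀ H' h)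
    (yb_mulU φa φb).1 (yb_mulU φa φb).2.1 (yb_mulU φa φb).2.2.1
    (yb_mulU φa φb).2.2.2.2.2.2.1 (yb_mulU φa φb).2.2.2.2.2.2.2.1 (yb_mulU φa φb).2.2.2.2.2.2.2.2 hbc hcd

/-- C4 [M-L]  deps F3 T10 + `xcd_addT`. -/
theorem cm_abU (hFK : Fintype.card F = Fintype.card K ^ 2) (P : RO D)
    (φa : Matrix.SpecialLinearGroup (Fin 2) F →* G) (φb : ↥(SUm F True) →* G) (H : HypU P φa φb)
    (R : TorU P φa φb) (hbc : ∀ ξ t, Commute (yb φb ξ) (xcU P φa φb t))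
    (hcd : ∀ t ξ, Commute (xcU P φa φb t) (ydU φa φb ξ))
    (hbd : ∀ ξ η, cm (yb φb ξ) (ydU φa φb η) = xcU P φa φb (-(P.kap)⁻¹ * (star ξ.v * η.v))) :
    ∀ t ξ, cm (rx φa t) (yb φb ξ) =
      xcU P φa φb (-(P.kap)⁻¹ * (t * star ξ.c)) * ydU φa φb (Lam.act (-t) ξ) :=
  su5c4_core P φa φb H R (fun H' h => lam_gen_KU hFK P H' h)
    (yb_mulU φa φb).1 (yb_mulU φa φb).2.1 (yb_mulU φa φb).2.2.1
    (yb_mulU φa φb).2.2.2.2.2.2.1 (yb_mulU φa φb).2.2.2.2.2.2.2.1 (yb_mulU φa φb).2.2.2.2.2.2.2.2 hbc hcd hbd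

end C

end Cfsg.Agent.Lib.Helper19.SU5
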