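import Mathlib
import Cfsg.Agent.Lib.Helper19.SU5.Defs
import Cfsg.Agent.Lib.helper14.SU5C1core

/-!
# Project SU5 (designer helper19), Skel1 row C2 (`comm_cd_adU`), helper14, VERBATIM.
-/

set_option autoImplicit false

namespace Cfsg.Agent.Lib.Helper19.SU5

open Cfsg.Agent.Lib.helper17.SLP Cfsg.Agent.Lib.helper3.SP4 Cfsg.Agent.Lib.Helper22.SU4
open Cfsg.Agent.Lib.Helper27.STU (Lam XpM XmM XpS XmS SUm XpU XmU)

universe u v

section C

variable {F : Type u} {K : Type u} [Field F] [Field K] [StarRing F] [Fintype F] [Fintype K] {D : Tw F K}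
  {G : Type v} [Group G]

/-- C2 [S-M]  Conjugate `hbc ξ t` by `w_a`: `Commute (y_d (act (-1) ξ)) (x_c (-star t))` (`W.a_b W.a_c`); every pair arises (`act (-1) (act (-1) ξ) = ξ`, `star (star t) = t`): `cd`.  Conjugate `cd` by `w_b`
(`W.b_c W.b_d`): `ad`. -/
theorem comm_cd_adU (P : RO D) (φa : Matrix.SpecialLinearGroup (Fin 2) F →* G) (φb : ↥(SUm F True) →* G)
    (W : WactU P φa φb) (hbc : ∀ ξ t, Commute (yb φb ξ) (xcU P φa φb t)) :
    (∀ t ξ, Commute (xcU P φa φb t) (ydU φa φb ξ)) ∧ ∀ t ξ, Commute (rx φa t) (ydU φa φb ξ) :=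
  su5c2_core P φa φb W hbc

end C

end Cfsg.Agent.Lib.Helper19.SU5
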