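import Cfsg.Agent.Lib.Helper28.TOO.Defs
import Cfsg.Agent.Lib.helper6.TSSIEG

/-!
# Project TOO, row WG10 (`w1_sing_span`), written by helper14 (with its own copy `toowg10_partner` of the hyperbolic partner, row WG1).
-/

set_option autoImplicit false
set_option linter.unusedVariables false
set_option linter.unusedSectionVars false

namespace Cfsg.Agent.Lib.Helper28.TOO

open Matrix
open scoped Kronecker
open Cfsg.Agent.Lib.helper7.TP Cfsg.Agent.Lib.Helper21.TS

section generic

variable {ι : Type*} [Fintype ι] [DecidableEq ι] {F : Type*} [Field F] {J : Matrix ι ι F}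

/-- hyperbolic partner (same statement as WG1) -/
theorem toowg10_partner (h2 : (2 : F) ≠ 0) (hJ : Jᵀ = J) (hdet : J.det ≠ 0) (w : ι → F) (hw0 : w ≠ 0)
    (hw : bf J w w = 0) : ∃ w' : ι → F, bf J w' w' = 0 ∧ bf J w w' = 1 := by
  obtain ⟨x, hx⟩ := bf_nondeg hdet hw0
  have hxw : bf J x w = bf J w x := bf_symm hJ x w
  refine ⟨(bf J w x)⁻¹ • x - (bf J x x / (2 * bf J w x ^ 2)) • w, ?_, ?_⟩
  · simp only [bf_sub_left, bf_sub_right, bf_smul_left, bf_smul_right, hw, hxw]
    field_simp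
    ring
  · simp only [bf_sub_right, bf_smul_right, hw]
    field_simp
    ring

/-- WG10 -/
theorem w1_sing_span (h2 : (2 : F) ≠ 0) (hJ : Jᵀ = J) (hdet : J.det ≠ 0) (u : ι → F) (hu0 : u ≠ 0)
    (hu : bf J u u = 0) (S : Submodule F (ι → F)) (h : ∀ s : ι → F, bf J s s = 0 → s ∈ S) : S = ⊤ := by
  obtain ⟨u', hu', huu'⟩ := toowg10_partner h2 hJ hdet u hu0 hu
  have hu'u : bf J u' u = 1 := by rw [bf_symm hJ]; exact huu'
  rw [eq_top_iff]
  intro v _
  obtain ⟨y, hy⟩ : ∃ y : ι → F, y = v - bf J v u' • u - bf J v u • u' := ⟨_, rfl⟩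
  have hyu : bf J y u = 0 := by
    rw [hy]
    simp only [bf_sub_left, bf_smul_left, hu, hu'u]
    ring
  have hyu' : bf J y u' = 0 := by
    rw [hy]
    simp only [bf_sub_left, bf_smul_left, hu', huu']
    ring
  have huy : bf J u y = 0 := by rw [bf_symm hJ]; exact hyu
  have hu'y : bf J u' y = 0 := by rw [bf_symm hJ]; exact hyu'
  obtain ⟨c, hc⟩ : ∃ c : F, c = bf J y y / 2 := ⟨_, rfl⟩
  have hss : bf J (u' + y - c • u) (u' + y - c • u) = 0 := by
    simp only [bf_add_left, bf_sub_left, bf_add_right, bf_sub_right, bf_smul_left, bf_smul_right, hu, hu',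
      huu', hu'u, hyu, hyu', huy, hu'y]
    rw [hc]
    field_simp
    ring
  have hsS := h _ hss
  have huS := h u hu
  have hu'S := h u' hu'
  have hv : v = (u' + y - c • u) - u' + c • u + bf J v u' • u + bf J v u • u' := by
    rw [hy]
    abel
  rw [hv]
  exact S.add_mem (S.add_mem (S.add_mem (S.sub_mem hsS hu'S) (S.smul_mem _ huS)) (S.smul_mem _ huS))
    (S.smul_mem _ hu'S)

end generic

end Cfsg.Agent.Lib.Helper28.TOO
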