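import Mathlib
import Cfsg.Agent.Lib.Helper16.O9H.Defs
import Cfsg.Agent.Lib.Helper16.SpinA

set_option autoImplicit false
set_option linter.unusedVariables false
set_option linter.unusedSectionVars false

/-!
# O9H row KORTH (`ker_orth`), helper14: kernels of `P₁(g)`, `P₂(g)` are orthogonal when `P₁.reverse`, `P₂` are coprime.
-/

namespace Cfsg.Agent.Lib.Helper16.O9H

open Matrix Polynomial Module

variable {ι : Type} [Fintype ι] [DecidableEq ι] {F : Type*} [Field F]

/-- an isometry preserves the polar form -/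
theorem o9hkorth_pol_inv (Q : QuadraticForm F (ι → F)) (g : GL ι F) (hg : g ∈ Cfsg.isometryGroup F ⇑Q)
    (x y : ι → F) : pol Q (linOf g x) (linOf g y) = pol Q x y := by
  have h := (Cfsg.Agent.Lib.Helper16.mem_iso_iff (⇑Q) g).mp hg
  have h1 : ∀ z, Q (linOf g z) = Q z := by
    intro z
    have := h z
    simpa [linOf, Matrix.toLin'_apply] using this
  unfold pol QuadraticMap.polar
  rw [← map_add, h1, h1, h1]

/-- powers of an isometry preserve the polar form -/
theorem o9hkorth_pol_pow (Q : QuadraticForm F (ι → F)) (g : GL ι F) (hg : g ∈ Cfsg.isometryGroup F ⇑Q)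
    (n : ℕ) (x y : ι → F) : pol Q ((linOf g ^ n) x) ((linOf g ^ n) y) = pol Q x y := by
  induction n generalizing x y with
  | zero => simp
  | succ n ih =>
    rw [pow_succ, Module.End.mul_apply, Module.End.mul_apply, ih, o9hkorth_pol_inv Q g hg]

/-- the adjoint of `P.reflect N (L)` is `L^{-N} P(L)`, written without inverses -/
theorem o9hkorth_reflect (Q : QuadraticForm F (ι → F)) (g : GL ι F) (hg : g ∈ Cfsg.isometryGroup F ⇑Q)
    (N : ℕ) (P : F[X]) (hP : P.natDegree ≤ N) :
    ∀ x z : ι → F, pol Q x (aeval (linOf g) (reflect N P) z) = pol Q (aeval (linOf g) P x) ((linOf g ^ N) z) := by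
  refine Polynomial.induction_with_natDegree_le
    (fun P => ∀ x z : ι → F, pol Q x (aeval (linOf g) (reflect N P) z)
      = pol Q (aeval (linOf g) P x) ((linOf g ^ N) z)) N ?_ ?_ ?_ P hP
  · intro x z
    simp [pol]
  · intro n r hr hn x z
    rw [reflect_C_mul_X_pow, revAt_le hn]
    simp only [map_mul, aeval_C, map_pow, aeval_X, Module.End.mul_apply, Module.algebraMap_end_apply]
    have e : (linOf g ^ N) z = (linOf g ^ n) ((linOf g ^ (N - n)) z) := by
      rw [← Module.End.mul_apply, ← pow_add, Nat.add_sub_cancel' hn]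
    rw [e]
    unfold pol
    rw [QuadraticMap.polar_smul_right, QuadraticMap.polar_smul_left]
    congr 1
    exact (o9hkorth_pol_pow Q g hg n x _).symm
  · intro f1 f2 _ _ h1 h2 x z
    rw [reflect_add, map_add, map_add, LinearMap.add_apply, LinearMap.add_apply]
    unfold pol at *
    rw [QuadraticMap.polar_add_right, QuadraticMap.polar_add_left, h1, h2]

theorem ker_orth (Q : QuadraticForm F (ι → F)) (g : GL ι F) (hg : g ∈ Cfsg.isometryGroup F ⇑Q)
    (P₁ P₂ : F[X]) (hcop : IsCoprime P₁.reverse P₂) (x y : ι → F) (hx : x ∈ kerP g P₁) (hy : y ∈ kerP g P₂) :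
    pol Q x y = 0 := by
  obtain ⟨u, v, huv⟩ := hcop
  have hx0 : aeval (linOf g) P₁ x = 0 := LinearMap.mem_ker.mp hx
  have hy0 : aeval (linOf g) P₂ y = 0 := LinearMap.mem_ker.mp hy
  have hy1 : y = aeval (linOf g) (reflect P₁.natDegree P₁) (aeval (linOf g) u y) := by
    have h1 : aeval (linOf g) (u * P₁.reverse + v * P₂) y = y := by
      rw [huv]; simp
    rw [map_add, LinearMap.add_apply, map_mul, map_mul, Module.End.mul_apply, Module.End.mul_apply, hy0, map_zero,
      add_zero] at h1
    have hc : aeval (linOf g) u (aeval (linOf g) P₁.reverse y)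
        = aeval (linOf g) P₁.reverse (aeval (linOf g) u y) := by
      rw [← Module.End.mul_apply, ← Module.End.mul_apply, ← map_mul, ← map_mul, mul_comm]
    rw [hc] at h1
    exact h1.symm
  rw [hy1, o9hkorth_reflect Q g hg P₁.natDegree P₁ le_rfl, hx0]
  simp [pol]

end Cfsg.Agent.Lib.Helper16.O9H
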