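import Mathlib
import Cfsg.Agent.Lib.helper8.OME.Defs

set_option autoImplicit false

/-!
# Project OME (designer helper8), row EMB (helper14): `O⁺_{2(d-1)} → O⁻_{2d}`, `g ↦ diag(g, 1₂)`.
-/

namespace Cfsg.Agent.Lib.helper8.OME

open scoped Matrix

section emb
variable {F : Type*} [Field F]

/-- `g ↦ diag(g, 1₂)` as a map of general linear groups -/
noncomputable def omeemb_psi (k : ℕ) (g : GL (Fin k ⊕ Fin k) F) : GL ((Fin k ⊕ Fin k) ⊕ Fin 2) F :=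
  ⟨Matrix.fromBlocks (g : Matrix (Fin k ⊕ Fin k) (Fin k ⊕ Fin k) F) 0 0 (1 : Matrix (Fin 2) (Fin 2) F),
    Matrix.fromBlocks ((g⁻¹ : GL (Fin k ⊕ Fin k) F) : Matrix (Fin k ⊕ Fin k) (Fin k ⊕ Fin k) F) 0 0
      (1 : Matrix (Fin 2) (Fin 2) F),
    by
      rw [Matrix.fromBlocks_multiply]
      simp only [Matrix.mul_zero, Matrix.zero_mul, add_zero, zero_add, Matrix.mul_one]
      rw [← Units.val_mul, mul_inv_cancel, Units.val_one, Matrix.fromBlocks_one],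
    by
      rw [Matrix.fromBlocks_multiply]
      simp only [Matrix.mul_zero, Matrix.zero_mul, add_zero, zero_add, Matrix.mul_one]
      rw [← Units.val_mul, inv_mul_cancel, Units.val_one, Matrix.fromBlocks_one]⟩

theorem omeemb_psi_val (k : ℕ) (g : GL (Fin k ⊕ Fin k) F) :
    ((omeemb_psi k g : GL ((Fin k ⊕ Fin k) ⊕ Fin 2) F) :
        Matrix ((Fin k ⊕ Fin k) ⊕ Fin 2) ((Fin k ⊕ Fin k) ⊕ Fin 2) F) =
      Matrix.fromBlocks (g : Matrix (Fin k ⊕ Fin k) (Fin k ⊕ Fin k) F) 0 0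
        (1 : Matrix (Fin 2) (Fin 2) F) := rfl

theorem omeemb_psi_mul (k : ℕ) (g h : GL (Fin k ⊕ Fin k) F) :
    omeemb_psi k (g * h) = omeemb_psi k g * omeemb_psi k h := by
  apply Units.ext
  rw [Units.val_mul, omeemb_psi_val, omeemb_psi_val, omeemb_psi_val, Matrix.fromBlocks_multiply]
  simp only [Matrix.mul_zero, Matrix.zero_mul, add_zero, zero_add, Matrix.mul_one, Units.val_mul]

theorem omeemb_psi_one (k : ℕ) : omeemb_psi k (1 : GL (Fin k ⊕ Fin k) F) = 1 := by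
  apply Units.ext
  rw [omeemb_psi_val, Units.val_one, Units.val_one, Matrix.fromBlocks_one]

/-- the minus form is the plus form of the first block plus the binary form of the last two coordinates -/
theorem omeemb_Q_split (k : ℕ) (a b : F) (v : (Fin k ⊕ Fin k) ⊕ Fin 2 → F) :
    Cfsg.quadFormMinus k F a b v =
      Cfsg.quadFormPlus k F (v ∘ Sum.inl) +
        (v (.inr 0) ^ 2 + a * v (.inr 0) * v (.inr 1) + b * v (.inr 1) ^ 2) := rfl

theorem omeemb_mulVec_inl {I J : Type} [Fintype I] [Fintype J] (A : Matrix I I F) (D : Matrix J J F)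
    (v : I ⊕ J → F) :
    (Matrix.fromBlocks A 0 0 D *ᵥ v) ∘ Sum.inl = A *ᵥ (v ∘ Sum.inl) := by
  rw [Matrix.fromBlocks_mulVec]
  funext i
  simp

theorem omeemb_mulVec_inr {I J : Type} [Fintype I] [Fintype J] (A : Matrix I I F) (D : Matrix J J F)
    (v : I ⊕ J → F) (j : J) :
    (Matrix.fromBlocks A 0 0 D *ᵥ v) (Sum.inr j) = (D *ᵥ (v ∘ Sum.inr)) j := by
  rw [Matrix.fromBlocks_mulVec]
  simp

/-- `diag(g, 1₂)` is an isometry of the minus form if `g` is one of the plus form -/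
theorem omeemb_psi_mem (k : ℕ) (a b : F) (g : GL (Fin k ⊕ Fin k) F)
    (hg : g ∈ Cfsg.isometryGroup F (Cfsg.quadFormPlus k F)) :
    omeemb_psi k g ∈ Cfsg.isometryGroup F (Cfsg.quadFormMinus k F a b) := by
  intro u _
  show Cfsg.quadFormMinus k F a b (((omeemb_psi k g : GL ((Fin k ⊕ Fin k) ⊕ Fin 2) F) :
    Matrix ((Fin k ⊕ Fin k) ⊕ Fin 2) ((Fin k ⊕ Fin k) ⊕ Fin 2) F) *ᵥ u) = Cfsg.quadFormMinus k F a b u
  rw [omeemb_psi_val, omeemb_Q_split, omeemb_Q_split, omeemb_mulVec_inl, omeemb_mulVec_inr,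
    omeemb_mulVec_inr, Matrix.one_mulVec]
  have h1 : Cfsg.quadFormPlus k F ((g : Matrix (Fin k ⊕ Fin k) (Fin k ⊕ Fin k) F) *ᵥ (u ∘ Sum.inl)) =
      Cfsg.quadFormPlus k F (u ∘ Sum.inl) := hg (u ∘ Sum.inl) (u ∘ Sum.inl)
  rw [h1]
  rfl

end emb

/-- EMB -/
theorem ome_emb {F : Type*} [Field F] (d : ℕ) (a b : F) (g : GL (Fin (d - 1) ⊕ Fin (d - 1)) F)
    (hg : g ∈ Cfsg.Geo.omegaGL (Cfsg.quadFormPlus (d - 1) F)) :
    ∃ x : GL (MI d) F, x ∈ Cfsg.Geo.omegaGL (Cfsg.quadFormMinus (d - 1) F a b) ∧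
      (x : Matrix (MI d) (MI d) F) =
        Matrix.fromBlocks (g : Matrix (Fin (d - 1) ⊕ Fin (d - 1)) (Fin (d - 1) ⊕ Fin (d - 1)) F) 0 0
          (1 : Matrix (Fin 2) (Fin 2) F) := by
  let φ : ↥(Cfsg.isometryGroup F (Cfsg.quadFormPlus (d - 1) F)) →*
      ↥(Cfsg.isometryGroup F (Cfsg.quadFormMinus (d - 1) F a b)) :=
    MonoidHom.mk' (fun g => ⟨omeemb_psi (d - 1) g.1, omeemb_psi_mem (d - 1) a b g.1 g.2⟩)
      (fun g h => Subtype.ext (omeemb_psi_mul (d - 1) g.1 h.1))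
  unfold Cfsg.Geo.omegaGL at hg
  rw [Subgroup.mem_map] at hg
  obtain ⟨g', hg', rfl⟩ := hg
  refine ⟨omeemb_psi (d - 1) g'.1, ?_, rfl⟩
  have h1 : φ g' ∈ (Cfsg.Omega F (Cfsg.quadFormPlus (d - 1) F)).map φ := Subgroup.mem_map_of_mem φ hg'
  unfold Cfsg.Omega at h1
  rw [commutator_def, Subgroup.map_commutator] at h1
  have h2 : φ g' ∈ Cfsg.Omega F (Cfsg.quadFormMinus (d - 1) F a b) :=
    Subgroup.commutator_mono le_top le_top h1
  exact Subgroup.mem_map_of_mem _ h2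

end Cfsg.Agent.Lib.helper8.OME
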