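import Mathlib
import Cfsg.Agent.Lib.helper8.OME.Defs
import Cfsg.Agent.Lib.helper14.OMEEMB
import Cfsg.Agent.Lib.Lead.OPEUEX

set_option autoImplicit false

/-!
# Project OME (designer helper8), row UEXM (helper14): the bad unipotent element of `Ω⁻_{2d}(q)`,
the image under `g ↦ diag(g, 1₂)` of the element of OPE `u_ex`.
-/

namespace Cfsg.Agent.Lib.helper8.OME

open Module
open scoped Matrix

section aux
variable {F : Type*} [Field F]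

/-- `w ↦ (w, 0)` -/
def omeuexm_inl (I J : Type) : (I → F) →ₗ[F] (I ⊕ J → F) where
  toFun w := Sum.elim w 0
  map_add' u v := by
    funext t
    cases t <;> simp
  map_smul' c u := by
    funext t
    cases t <;> simp

/-- `v ↦ v₁` -/
def omeuexm_fst (I J : Type) : (I ⊕ J → F) →ₗ[F] (I → F) where
  toFun v := v ∘ Sum.inl
  map_add' u v := rfl
  map_smul' c u := rfl

theorem omeuexm_fst_inl (I J : Type) :
    (omeuexm_fst I J : (I ⊕ J → F) →ₗ[F] (I → F)) ∘ₗ omeuexm_inl I J = LinearMap.id := by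
  apply LinearMap.ext
  intro w
  rfl

theorem omeuexm_inl_inj (I J : Type) : Function.Injective (omeuexm_inl I J : (I → F) →ₗ[F] (I ⊕ J → F)) := by
  intro u v h
  have := congrArg (omeuexm_fst I J : (I ⊕ J → F) →ₗ[F] (I → F)) h
  exact this

theorem omeuexm_fst_surj (I J : Type) :
    Function.Surjective (omeuexm_fst I J : (I ⊕ J → F) →ₗ[F] (I → F)) := by
  intro w
  exact ⟨omeuexm_inl I J w, rfl⟩

/-- `diag(A, 1) - 1 = ι₁ ∘ (A - 1) ∘ π₁` -/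
theorem omeuexm_N_eq {I J : Type} [Fintype I] [Fintype J] [DecidableEq I] [DecidableEq J]
    (A : Matrix I I F) :
    (Matrix.toLin' (Matrix.fromBlocks A 0 0 (1 : Matrix J J F)) - 1 : Module.End F (I ⊕ J → F)) =
      omeuexm_inl I J ∘ₗ (Matrix.toLin' A - 1 : Module.End F (I → F)) ∘ₗ omeuexm_fst I J := by
  apply LinearMap.ext
  intro v
  funext t
  cases t with
  | inl i =>
    show (Matrix.fromBlocks A 0 0 (1 : Matrix J J F) *ᵥ v) (Sum.inl i) - v (Sum.inl i) =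
      (A *ᵥ (v ∘ Sum.inl)) i - v (Sum.inl i)
    rw [← omeemb_mulVec_inl A (1 : Matrix J J F) v]
    rfl
  | inr j =>
    show (Matrix.fromBlocks A 0 0 (1 : Matrix J J F) *ᵥ v) (Sum.inr j) - v (Sum.inr j) = 0
    rw [omeemb_mulVec_inr, Matrix.one_mulVec]
    exact sub_self _

end aux

/-- the core of UEXM with the plus index `k` -/
theorem omeuexm_core {F : Type*} [Field F] [Fintype F] {p : ℕ} [Fact p.Prime] [CharP F p] (k : ℕ)
    (hk : 3 ≤ k) (a b : F) :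
    ∃ x : GL ((Fin k ⊕ Fin k) ⊕ Fin 2) F, x ∈ Cfsg.Geo.omegaGL (Cfsg.quadFormMinus k F a b) ∧ x ^ p = 1 ∧
      (∀ z : F, (x : Matrix ((Fin k ⊕ Fin k) ⊕ Fin 2) ((Fin k ⊕ Fin k) ⊕ Fin 2) F) ≠
        z • (1 : Matrix ((Fin k ⊕ Fin k) ⊕ Fin 2) ((Fin k ⊕ Fin k) ⊕ Fin 2) F)) ∧
      (Matrix.toLin' (x : Matrix ((Fin k ⊕ Fin k) ⊕ Fin 2) ((Fin k ⊕ Fin k) ⊕ Fin 2) F) - 1) *
        (Matrix.toLin' (x : Matrix ((Fin k ⊕ Fin k) ⊕ Fin 2) ((Fin k ⊕ Fin k) ⊕ Fin 2) F) - 1) = 0 ∧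
      (∀ v, Cfsg.quadFormMinus k F a b
        ((Matrix.toLin' (x : Matrix ((Fin k ⊕ Fin k) ⊕ Fin 2) ((Fin k ⊕ Fin k) ⊕ Fin 2) F) - 1) v) = 0) ∧
      finrank F (LinearMap.ker
          (Matrix.toLin' (x : Matrix ((Fin k ⊕ Fin k) ⊕ Fin 2) ((Fin k ⊕ Fin k) ⊕ Fin 2) F) - 1)) =
        finrank F (LinearMap.range
          (Matrix.toLin' (x : Matrix ((Fin k ⊕ Fin k) ⊕ Fin 2) ((Fin k ⊕ Fin k) ⊕ Fin 2) F) - 1)) +
          2 * (k % 2) + 2 := by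
  obtain ⟨x₀, hx₀, hpow, hns, hNN, hQN, hfr⟩ := Cfsg.Agent.Lib.Helper18.OPE.u_ex (F := F) (p := p) k hk
  -- membership
  have hmem : omeemb_psi k x₀ ∈ Cfsg.Geo.omegaGL (Cfsg.quadFormMinus k F a b) := by
    let φ : ↥(Cfsg.isometryGroup F (Cfsg.quadFormPlus k F)) →*
        ↥(Cfsg.isometryGroup F (Cfsg.quadFormMinus k F a b)) :=
      MonoidHom.mk' (fun g => ⟨omeemb_psi k g.1, omeemb_psi_mem k a b g.1 g.2⟩)
        (fun g h => Subtype.ext (omeemb_psi_mul k g.1 h.1))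
    unfold Cfsg.Geo.omegaGL at hx₀
    rw [Subgroup.mem_map] at hx₀
    obtain ⟨g', hg', rfl⟩ := hx₀
    have h1 : φ g' ∈ (Cfsg.Omega F (Cfsg.quadFormPlus k F)).map φ := Subgroup.mem_map_of_mem φ hg'
    unfold Cfsg.Omega at h1
    rw [commutator_def, Subgroup.map_commutator] at h1
    have h2 : φ g' ∈ Cfsg.Omega F (Cfsg.quadFormMinus k F a b) :=
      Subgroup.commutator_mono le_top le_top h1
    exact Subgroup.mem_map_of_mem _ h2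
  -- the power
  have hp : omeemb_psi k x₀ ^ p = (1 : GL ((Fin k ⊕ Fin k) ⊕ Fin 2) F) := by
    let ψ : GL (Fin k ⊕ Fin k) F →* GL ((Fin k ⊕ Fin k) ⊕ Fin 2) F :=
      MonoidHom.mk' (fun g => omeemb_psi k g) (fun g h => omeemb_psi_mul k g h)
    have h1 : ψ (x₀ ^ p) = ψ x₀ ^ p := map_pow ψ x₀ p
    rw [hpow, map_one] at h1
    exact h1.symm
  -- not scalar
  have hnsc : ∀ z : F, ((omeemb_psi k x₀ : GL ((Fin k ⊕ Fin k) ⊕ Fin 2) F) :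
      Matrix ((Fin k ⊕ Fin k) ⊕ Fin 2) ((Fin k ⊕ Fin k) ⊕ Fin 2) F) ≠
        z • (1 : Matrix ((Fin k ⊕ Fin k) ⊕ Fin 2) ((Fin k ⊕ Fin k) ⊕ Fin 2) F) := by
    intro z hz
    apply hns z
    rw [omeemb_psi_val] at hz
    have h1 := congrArg Matrix.toBlocks₁₁ hz
    rw [Matrix.toBlocks_fromBlocks₁₁] at h1
    rw [h1]
    ext i j
    simp [Matrix.toBlocks₁₁, Matrix.one_apply]
  have hN := omeuexm_N_eq (J := Fin 2) (x₀ : Matrix (Fin k ⊕ Fin k) (Fin k ⊕ Fin k) F)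
  refine ⟨omeemb_psi k x₀, hmem, hp, hnsc, ?_, ?_, ?_⟩
  · rw [omeemb_psi_val, hN, Module.End.mul_eq_comp]
    have h1 : ∀ (N₀ : Module.End F (Fin k ⊕ Fin k → F)), N₀ * N₀ = 0 →
        (omeuexm_inl (Fin k ⊕ Fin k) (Fin 2) ∘ₗ N₀ ∘ₗ omeuexm_fst (Fin k ⊕ Fin k) (Fin 2)) ∘ₗ
          (omeuexm_inl (Fin k ⊕ Fin k) (Fin 2) ∘ₗ N₀ ∘ₗ omeuexm_fst (Fin k ⊕ Fin k) (Fin 2)) =
            (0 : Module.End F ((Fin k ⊕ Fin k) ⊕ Fin 2 → F)) := by
      intro N₀ h0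
      apply LinearMap.ext
      intro v
      show omeuexm_inl (Fin k ⊕ Fin k) (Fin 2) (N₀ (omeuexm_fst (Fin k ⊕ Fin k) (Fin 2)
        (omeuexm_inl (Fin k ⊕ Fin k) (Fin 2) (N₀ (omeuexm_fst (Fin k ⊕ Fin k) (Fin 2) v))))) = 0
      have h2 : omeuexm_fst (Fin k ⊕ Fin k) (Fin 2)
          (omeuexm_inl (Fin k ⊕ Fin k) (Fin 2) (N₀ (omeuexm_fst (Fin k ⊕ Fin k) (Fin 2) v))) =
          N₀ (omeuexm_fst (Fin k ⊕ Fin k) (Fin 2) v) := rfl
      rw [h2]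
      have h3 : N₀ (N₀ (omeuexm_fst (Fin k ⊕ Fin k) (Fin 2) v)) = 0 := by
        have := LinearMap.congr_fun h0 (omeuexm_fst (Fin k ⊕ Fin k) (Fin 2) v)
        exact this
      rw [h3, map_zero]
    exact h1 _ hNN
  · intro v
    rw [omeemb_psi_val, hN]
    show Cfsg.quadFormMinus k F a b (omeuexm_inl (Fin k ⊕ Fin k) (Fin 2)
      ((Matrix.toLin' (x₀ : Matrix (Fin k ⊕ Fin k) (Fin k ⊕ Fin k) F) - 1)
        (omeuexm_fst (Fin k ⊕ Fin k) (Fin 2) v))) = 0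
    rw [omeemb_Q_split]
    have h1 := hQN (omeuexm_fst (Fin k ⊕ Fin k) (Fin 2) v)
    have h2 : (omeuexm_inl (Fin k ⊕ Fin k) (Fin 2)
      ((Matrix.toLin' (x₀ : Matrix (Fin k ⊕ Fin k) (Fin k ⊕ Fin k) F) - 1)
        (omeuexm_fst (Fin k ⊕ Fin k) (Fin 2) v))) ∘ Sum.inl =
        (Matrix.toLin' (x₀ : Matrix (Fin k ⊕ Fin k) (Fin k ⊕ Fin k) F) - 1)
        (omeuexm_fst (Fin k ⊕ Fin k) (Fin 2) v) := rfl
    rw [h2, h1]
    have h3 : ∀ j : Fin 2, (omeuexm_inl (Fin k ⊕ Fin k) (Fin 2)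
      ((Matrix.toLin' (x₀ : Matrix (Fin k ⊕ Fin k) (Fin k ⊕ Fin k) F) - 1)
        (omeuexm_fst (Fin k ⊕ Fin k) (Fin 2) v))) (Sum.inr j) = 0 := fun j => rfl
    rw [h3 0, h3 1]
    ring
  · rw [omeemb_psi_val, hN]
    set N₀ : Module.End F (Fin k ⊕ Fin k → F) :=
      Matrix.toLin' (x₀ : Matrix (Fin k ⊕ Fin k) (Fin k ⊕ Fin k) F) - 1 with hN₀
    have hr : finrank F (LinearMap.range
        (omeuexm_inl (Fin k ⊕ Fin k) (Fin 2) ∘ₗ N₀ ∘ₗ omeuexm_fst (Fin k ⊕ Fin k) (Fin 2))) =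
        finrank F (LinearMap.range N₀) := by
      rw [LinearMap.range_comp, LinearMap.range_comp_of_range_eq_top N₀
        (LinearMap.range_eq_top.mpr (omeuexm_fst_surj (Fin k ⊕ Fin k) (Fin 2)))]
      exact (Submodule.equivMapOfInjective _ (omeuexm_inl_inj (Fin k ⊕ Fin k) (Fin 2))
        (LinearMap.range N₀)).finrank_eq.symm
    have h1 := LinearMap.finrank_range_add_finrank_ker
      (omeuexm_inl (Fin k ⊕ Fin k) (Fin 2) ∘ₗ N₀ ∘ₗ omeuexm_fst (Fin k ⊕ Fin k) (Fin 2))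
    have h2 := LinearMap.finrank_range_add_finrank_ker N₀
    rw [Module.finrank_fintype_fun_eq_card] at h1 h2
    simp only [Fintype.card_sum, Fintype.card_fin] at h1 h2
    rw [hr] at h1 ⊢
    omega

/-- UEXM -/
theorem ome_u_ex {F : Type*} [Field F] [Fintype F] {p : ℕ} [Fact p.Prime] [CharP F p] (d : ℕ)
    (hd : 4 ≤ d) (a b : F) :
    ∃ x : GL (MI d) F, x ∈ Cfsg.Geo.omegaGL (Cfsg.quadFormMinus (d - 1) F a b) ∧ x ^ p = 1 ∧
      (∀ z : F, (x : Matrix (MI d) (MI d) F) ≠ z • (1 : Matrix (MI d) (MI d) F)) ∧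
      (Matrix.toLin' (x : Matrix (MI d) (MI d) F) - 1) * (Matrix.toLin' (x : Matrix (MI d) (MI d) F) - 1) = 0 ∧
      (∀ v, Cfsg.quadFormMinus (d - 1) F a b ((Matrix.toLin' (x : Matrix (MI d) (MI d) F) - 1) v) = 0) ∧
      finrank F (LinearMap.ker (Matrix.toLin' (x : Matrix (MI d) (MI d) F) - 1)) =
        finrank F (LinearMap.range (Matrix.toLin' (x : Matrix (MI d) (MI d) F) - 1)) +
          2 * ((d - 1) % 2) + 2 :=
  omeuexm_core (d - 1) (by omega) a b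

end Cfsg.Agent.Lib.helper8.OME
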