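import Mathlib

set_option autoImplicit false

/-!
# Covering lemmas over a field with at least four elements
-/

namespace Cfsg.Agent.Lib.helper14.RuA

open Module Cardinal

universe u
variable {K : Type u} [Field K]

/-- four distinct elements -/
theorem exists_four (hK : (4 : Cardinal.{u}) ≤ #K) : ∃ τ : Fin 4 → K, Function.Injective τ := by
  have h : Cardinal.lift.{u} #(Fin 4) ≤ Cardinal.lift.{0} #K := by
    simpa using hK
  obtain ⟨τ⟩ := Cardinal.lift_mk_le'.mp h
  exact ⟨τ, τ.injective⟩

theorem exists_avoid (hK : (4 : Cardinal.{u}) ≤ #K) (s : Finset K) (hs : s.card ≤ 3) :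
    ∃ t : K, t ∉ s := by
  classical
  obtain ⟨τ, hτ⟩ := exists_four hK
  have h : s.card < (Finset.univ.image τ).card := by
    rw [Finset.card_image_of_injective _ hτ]
    simp
    omega
  obtain ⟨e, _, he⟩ := Finset.exists_mem_notMem_of_card_lt_card h
  exact ⟨e, he⟩

/-- at most four nonzero functionals have a common non-zero point -/
theorem cov {X : Type*} [AddCommGroup X] [Module K X] (hK : (4 : Cardinal.{u}) ≤ #K) :
    ∀ (k : ℕ) (_ : k ≤ 4) (φ : Fin k → Dual K X), (∀ i, φ i ≠ 0) → ∃ x, ∀ i, φ i x ≠ 0 := by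
  classical
  intro k
  induction k with
  | zero => intro _ φ _; exact ⟨0, fun i => i.elim0⟩
  | succ k ih =>
    intro hk φ hφ
    obtain ⟨x, hx⟩ := ih (by omega) (fun i => φ i.castSucc) (fun i => hφ _)
    by_cases hψ : φ (Fin.last k) x ≠ 0
    · refine ⟨x, fun i => ?_⟩
      refine Fin.lastCases hψ (fun j => hx j) i
    · push Not at hψ
      obtain ⟨x', hx'⟩ : ∃ x', φ (Fin.last k) x' ≠ 0 := by
        by_contra hcon
        push Not at hcon
        exact hφ (Fin.last k) (LinearMap.ext hcon)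
      set s : Finset K := Finset.univ.image
        (fun i : Fin k => -(φ i.castSucc x') / (φ i.castSucc x)) with hs
      have hcard : s.card ≤ 3 := by
        refine le_trans Finset.card_image_le ?_
        simp
        omega
      obtain ⟨t, ht⟩ := exists_avoid hK s hcard
      refine ⟨x' + t • x, fun i => ?_⟩
      refine Fin.lastCases ?_ (fun j => ?_) i
      · rw [map_add, map_smul, hψ, smul_zero, add_zero]
        exact hx'
      · intro h0
        apply ht
        rw [hs, Finset.mem_image]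
        refine ⟨j, Finset.mem_univ _, ?_⟩
        rw [map_add, map_smul, smul_eq_mul] at h0
        have := hx j
        field_simp
        linear_combination -h0

/-- four vectors outside a subspace are separated from it by one functional -/
theorem dcl {V : Type*} [AddCommGroup V] [Module K V] (hK : (4 : Cardinal.{u}) ≤ #K)
    (p : Submodule K V) (a : Fin 4 → V) (ha : ∀ i, a i ∉ p) :
    ∃ w : Dual K V, (∀ x ∈ p, w x = 0) ∧ ∀ i, w (a i) ≠ 0 := by
  set X : Submodule K (Dual K V) := p.dualAnnihilator with hX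
  set φ : Fin 4 → Dual K X := fun i => (Dual.eval K V (a i)).comp X.subtype with hφ
  have hφ0 : ∀ i, φ i ≠ 0 := by
    intro i h0
    obtain ⟨f, hf, hfp⟩ := Submodule.exists_dual_map_eq_bot_of_notMem (ha i) inferInstance
    have hfX : f ∈ X := by
      rw [hX, Submodule.mem_dualAnnihilator]
      intro x hx
      have : f x ∈ p.map f := Submodule.mem_map_of_mem hx
      rw [hfp] at this
      simpa using this
    have := congrArg (fun ψ : Dual K X => ψ ⟨f, hfX⟩) h0
    simp [hφ] at this
    exact hf this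
  obtain ⟨x, hx⟩ := cov (X := X) hK 4 le_rfl φ hφ0
  refine ⟨x.1, ?_, fun i => ?_⟩
  · intro y hy
    have h2 : (x : Dual K V) ∈ p.dualAnnihilator := x.2
    rw [Submodule.mem_dualAnnihilator] at h2
    exact h2 y hy
  · have := hx i
    simpa [hφ] using this

/-- the pigeonhole principle on a projective line with at least five points -/
theorem p5 {V : Type*} [AddCommGroup V] [Module K V] (hK : (4 : Cardinal.{u}) ≤ #K) (a b : V)
    (E : V → Prop) (hEa : ¬ E a)
    (hE3 : ∀ t1 t2 t3 : K, t1 ≠ t2 → t1 ≠ t3 → t2 ≠ t3 →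
      E (b + t1 • a) → E (b + t2 • a) → E (b + t3 • a) → False)
    (S1 S2 : Submodule K V) (h1 : ¬ (a ∈ S1 ∧ b ∈ S1)) (h2 : ¬ (a ∈ S2 ∧ b ∈ S2)) :
    ∃ x, (x = a ∨ ∃ t : K, x = b + t • a) ∧ ¬ E x ∧ x ∉ S1 ∧ x ∉ S2 := by
  classical
  obtain ⟨τ, hτ⟩ := exists_four hK
  by_contra hcon
  push Not at hcon
  set c : Fin 4 → V := fun i => b + τ i • a with hc
  -- facts about subspaces
  have F1 : ∀ S : Submodule K V, ¬ (a ∈ S ∧ b ∈ S) → ∀ i, ¬ (a ∈ S ∧ c i ∈ S) := by
    intro S hS i ⟨ha, hci⟩
    apply hS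
    refine ⟨ha, ?_⟩
    have : b = c i - τ i • a := by simp [hc]
    rw [this]
    exact S.sub_mem hci (S.smul_mem _ ha)
  have F2 : ∀ S : Submodule K V, ¬ (a ∈ S ∧ b ∈ S) → ∀ i j, i ≠ j → ¬ (c i ∈ S ∧ c j ∈ S) := by
    intro S hS i j hij ⟨hi, hj⟩
    have hne : τ i - τ j ≠ 0 := sub_ne_zero.mpr (fun h => hij (hτ h))
    have ha : a ∈ S := by
      have h1 : (τ i - τ j) • a ∈ S := by
        have : (τ i - τ j) • a = c i - c j := by simp [hc, sub_smul]
        rw [this]
        exact S.sub_mem hi hj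
      have := S.smul_mem (τ i - τ j)⁻¹ h1
      rwa [smul_smul, inv_mul_cancel₀ hne, one_smul] at this
    exact F1 S hS i ⟨ha, hi⟩
  set TE : Finset (Fin 4) := Finset.univ.filter (fun i => E (c i)) with hTE
  set T1 : Finset (Fin 4) := Finset.univ.filter (fun i => c i ∈ S1) with hT1
  set T2 : Finset (Fin 4) := Finset.univ.filter (fun i => c i ∈ S2) with hT2
  have hu : (Finset.univ : Finset (Fin 4)) ⊆ TE ∪ T1 ∪ T2 := by
    intro i _
    by_cases hE : E (c i)
    · simp [hTE, hE]
    · by_cases hS1 : c i ∈ S1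
      · simp [hT1, hS1]
      · have := hcon (c i) (Or.inr ⟨τ i, rfl⟩) hE hS1
        simp [hT2, this]
  have hTEc : TE.card ≤ 2 := by
    by_contra h
    push Not at h
    obtain ⟨i, j, k, hi, hj, hk, hij, hik, hjk⟩ := Finset.two_lt_card_iff.mp h
    simp only [hTE, Finset.mem_filter, Finset.mem_univ, true_and] at hi hj hk
    exact hE3 (τ i) (τ j) (τ k) (fun h => hij (hτ h)) (fun h => hik (hτ h))
      (fun h => hjk (hτ h)) hi hj hk
  have hcard1 : ∀ S : Submodule K V, ¬ (a ∈ S ∧ b ∈ S) →
      (Finset.univ.filter (fun i => c i ∈ S)).card ≤ 1 := by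
    intro S hS
    rw [Finset.card_le_one]
    intro i hi j hj
    simp only [Finset.mem_filter, Finset.mem_univ, true_and] at hi hj
    by_contra hij
    exact F2 S hS i j hij ⟨hi, hj⟩
  have hcard0 : ∀ S : Submodule K V, ¬ (a ∈ S ∧ b ∈ S) → a ∈ S →
      (Finset.univ.filter (fun i => c i ∈ S)).card = 0 := by
    intro S hS ha
    rw [Finset.card_eq_zero, Finset.filter_eq_empty_iff]
    intro i _ hi
    exact F1 S hS i ⟨ha, hi⟩
  have h4 : (Finset.univ : Finset (Fin 4)).card = 4 := by simp
  have hle : (Finset.univ : Finset (Fin 4)).card ≤ TE.card + T1.card + T2.card := by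
    refine le_trans (Finset.card_le_card hu) ?_
    refine le_trans (Finset.card_union_le _ _) ?_
    exact Nat.add_le_add_right (Finset.card_union_le _ _) _
  have ha12 : a ∈ S1 ∨ a ∈ S2 := by
    by_cases haS1 : a ∈ S1
    · exact Or.inl haS1
    · exact Or.inr (hcon a (Or.inl rfl) hEa haS1)
  rcases ha12 with ha1 | ha2
  · have e1 : T1.card = 0 := hcard0 S1 h1 ha1
    have e2 : T2.card ≤ 1 := hcard1 S2 h2
    omega
  · have e1 : T2.card = 0 := hcard0 S2 h2 ha2
    have e2 : T1.card ≤ 1 := hcard1 S1 h1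
    omega

end Cfsg.Agent.Lib.helper14.RuA
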