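import Mathlib

set_option autoImplicit false

/-!
# Block triangular endomorphisms relative to a decomposition `V = K v ⊕ ker w`
-/

namespace Cfsg.Agent.Lib.helper14.RuB

open Module LinearMap

variable {K : Type*} [Field K] {V : Type*} [AddCommGroup V] [Module K V]

theorem pW_aux (v : V) (w : Dual K V) (h : w v = 1) (x : V) :
    ((LinearMap.id : V →ₗ[K] V) - w.smulRight v) x ∈ LinearMap.ker w := by
  rw [LinearMap.mem_ker, LinearMap.sub_apply, LinearMap.id_apply, LinearMap.smulRight_apply,
    map_sub, map_smul, h, smul_eq_mul, mul_one, sub_self]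

/-- projection onto `ker w` along `v` -/
noncomputable def pW (v : V) (w : Dual K V) (h : w v = 1) : V →ₗ[K] LinearMap.ker w :=
  LinearMap.codRestrict (LinearMap.ker w) (LinearMap.id - w.smulRight v) (pW_aux v w h)

theorem pW_coe (v : V) (w : Dual K V) (h : w v = 1) (x : V) :
    ((pW v w h x : LinearMap.ker w) : V) = x - w x • v := by
  rw [pW, LinearMap.codRestrict_apply, LinearMap.sub_apply, LinearMap.id_apply,
    LinearMap.smulRight_apply]

theorem pW_self (v : V) (w : Dual K V) (h : w v = 1) : pW v w h v = 0 := by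
  apply Subtype.ext
  rw [pW_coe]
  simp [h]

theorem w_mem (w : Dual K V) (x : LinearMap.ker w) : w (x : V) = 0 :=
  LinearMap.mem_ker.mp x.2

theorem pW_mem (v : V) (w : Dual K V) (h : w v = 1) (x : LinearMap.ker w) :
    pW v w h (x : V) = x := by
  apply Subtype.ext
  rw [pW_coe, w_mem]
  simp

theorem decomp (v : V) (w : Dual K V) (h : w v = 1) (x : V) :
    x = w x • v + (pW v w h x : V) := by
  rw [pW_coe]
  abel

/-- "lower triangular" endomorphism: `v ↦ v + y'`, `X` on `ker w` -/
noncomputable def Lm (v : V) (w : Dual K V) (h : w v = 1) (y' : LinearMap.ker w)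
    (X : Module.End K (LinearMap.ker w)) : Module.End K V :=
  w.smulRight (v + (y' : V)) + (LinearMap.ker w).subtype ∘ₗ X ∘ₗ pW v w h

theorem Lm_apply (v : V) (w : Dual K V) (h : w v = 1) (y' : LinearMap.ker w)
    (X : Module.End K (LinearMap.ker w)) (x : V) :
    Lm v w h y' X x = w x • (v + (y' : V)) + (X (pW v w h x) : V) := by
  simp [Lm]

/-- "upper triangular" endomorphism: `v ↦ v`, `x ↦ a x • v + X x` on `ker w` -/
noncomputable def Um (v : V) (w : Dual K V) (h : w v = 1) (a : Dual K (LinearMap.ker w))
    (X : Module.End K (LinearMap.ker w)) : Module.End K V :=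
  w.smulRight v + (a ∘ₗ pW v w h).smulRight v + (LinearMap.ker w).subtype ∘ₗ X ∘ₗ pW v w h

theorem Um_apply (v : V) (w : Dual K V) (h : w v = 1) (a : Dual K (LinearMap.ker w))
    (X : Module.End K (LinearMap.ker w)) (x : V) :
    Um v w h a X x = w x • v + a (pW v w h x) • v + (X (pW v w h x) : V) := by
  simp [Um]

theorem Lm_sub_one_apply (v : V) (w : Dual K V) (h : w v = 1) (y' : LinearMap.ker w)
    (X : Module.End K (LinearMap.ker w)) (x : V) :
    (Lm v w h y' X - 1) x = w x • (y' : V) + ((X - 1) (pW v w h x) : V) := by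
  simp only [LinearMap.sub_apply, Lm_apply, Module.End.one_apply, Submodule.coe_sub, pW_coe]
  module

theorem Um_sub_one_apply (v : V) (w : Dual K V) (h : w v = 1) (a : Dual K (LinearMap.ker w))
    (X : Module.End K (LinearMap.ker w)) (x : V) :
    (Um v w h a X - 1) x = a (pW v w h x) • v + ((X - 1) (pW v w h x) : V) := by
  simp only [LinearMap.sub_apply, Um_apply, Module.End.one_apply, Submodule.coe_sub, pW_coe]
  module

theorem Lm_pow (v : V) (w : Dual K V) (h : w v = 1) (y' : LinearMap.ker w)
    (X : Module.End K (LinearMap.ker w)) (k : ℕ) (x : V) :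
    ((Lm v w h y' X - 1) ^ (k + 1)) x =
      ((((X - 1) ^ k) (w x • y' + (X - 1) (pW v w h x)) : LinearMap.ker w) : V) := by
  induction k with
  | zero =>
    rw [zero_add, pow_one, pow_zero, Lm_sub_one_apply]
    simp
  | succ k ih =>
    rw [pow_succ', Module.End.mul_apply, ih, Lm_sub_one_apply, w_mem, zero_smul, zero_add, pW_mem,
      pow_succ' (X - 1) k, Module.End.mul_apply]

theorem Um_pow (v : V) (w : Dual K V) (h : w v = 1) (a : Dual K (LinearMap.ker w))
    (X : Module.End K (LinearMap.ker w)) (k : ℕ) (x : V) :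
    ((Um v w h a X - 1) ^ (k + 1)) x =
      a (((X - 1) ^ k) (pW v w h x)) • v + ((((X - 1) ^ (k + 1)) (pW v w h x) : LinearMap.ker w) : V) := by
  induction k with
  | zero =>
    rw [zero_add, pow_one, pow_zero, Um_sub_one_apply]
    simp
  | succ k ih =>
    rw [pow_succ', Module.End.mul_apply, ih, map_add, map_smul, Um_sub_one_apply, Um_sub_one_apply,
      pW_self, pW_mem]
    simp only [map_zero, zero_smul, Submodule.coe_zero, add_zero, smul_zero, zero_add]
    rw [pow_succ' (X - 1) (k + 1), Module.End.mul_apply]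

theorem w_Um (v : V) (w : Dual K V) (h : w v = 1) (a : Dual K (LinearMap.ker w))
    (X : Module.End K (LinearMap.ker w)) (x : V) :
    w (Um v w h a X x) = w x + a (pW v w h x) := by
  rw [Um_apply]
  simp [h]

theorem pW_Um (v : V) (w : Dual K V) (h : w v = 1) (a : Dual K (LinearMap.ker w))
    (X : Module.End K (LinearMap.ker w)) (x : V) :
    pW v w h (Um v w h a X x) = X (pW v w h x) := by
  rw [Um_apply]
  simp [pW_self, pW_mem]

theorem Lm_mul_Um (v : V) (w : Dual K V) (h : w v = 1) (g : Module.End K V)
    (y' : LinearMap.ker w) (hy' : (y' : V) = g v - v) (A2 B2 : Module.End K (LinearMap.ker w))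
    (z' : Dual K (LinearMap.ker w)) (hz' : ∀ x : LinearMap.ker w, z' x = w (g x))
    (hAB : ∀ x : LinearMap.ker w, ((A2 (B2 x) : LinearMap.ker w) : V) = g x - w (g x) • g v) :
    g = Lm v w h y' A2 * Um v w h z' B2 := by
  ext x
  rw [Module.End.mul_apply, Lm_apply, w_Um, pW_Um, hAB, hz', hy']
  conv_lhs => rw [decomp v w h x]
  rw [map_add, map_smul]
  module

theorem Um_mul_Um (v : V) (w : Dual K V) (h : w v = 1) (g : Module.End K V) (hgv : g v = v)
    (A2 B2 : Module.End K (LinearMap.ker w)) (a b : Dual K (LinearMap.ker w))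
    (hAB : ∀ x : LinearMap.ker w, ((A2 (B2 x) : LinearMap.ker w) : V) = g x - w (g x) • v)
    (hab : ∀ x : LinearMap.ker w, b x + a (B2 x) = w (g x)) :
    g = Um v w h a A2 * Um v w h b B2 := by
  ext x
  rw [Module.End.mul_apply, Um_apply v w h a, w_Um, pW_Um, hAB, ← hab]
  conv_lhs => rw [decomp v w h x]
  rw [map_add, map_smul, hgv]
  module

section det

variable [FiniteDimensional K V]

/-- the equivalence `K × ker w ≃ V` -/
noncomputable def eqv (v : V) (w : Dual K V) (h : w v = 1) : (K × LinearMap.ker w) ≃ₗ[K] V where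
  toFun p := p.1 • v + (p.2 : V)
  map_add' p q := by
    simp only [Prod.fst_add, Prod.snd_add, Submodule.coe_add, add_smul]
    abel
  map_smul' c p := by
    simp only [Prod.smul_fst, Prod.smul_snd, smul_eq_mul, Submodule.coe_smul, RingHom.id_apply,
      smul_add, mul_smul]
  invFun x := (w x, pW v w h x)
  left_inv p := by
    refine Prod.ext ?_ ?_
    · simp [h, w_mem]
    · simp [pW_self, pW_mem]
  right_inv x := (decomp v w h x).symm

theorem det_sum (v : V) (w : Dual K V) (h : w v = 1) (f : Module.End K (LinearMap.ker w)) :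
    LinearMap.det (w.smulRight v + (LinearMap.ker w).subtype ∘ₗ f ∘ₗ pW v w h) = LinearMap.det f := by
  have hconj : w.smulRight v + (LinearMap.ker w).subtype ∘ₗ f ∘ₗ pW v w h =
      ((eqv v w h : (K × LinearMap.ker w) →ₗ[K] V)) ∘ₗ
        (LinearMap.prodMap (LinearMap.id : K →ₗ[K] K) f) ∘ₗ
        ((eqv v w h).symm : V →ₗ[K] (K × LinearMap.ker w)) := by
    ext x
    simp [eqv]
  rw [hconj, LinearMap.det_conj, LinearMap.det_prodMap, LinearMap.det_id, one_mul]

omit [FiniteDimensional K V] in
theorem Mm_apply (v : V) (w : Dual K V) (h : w v = 1) (f : Module.End K (LinearMap.ker w)) (x : V) :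
    (w.smulRight v + (LinearMap.ker w).subtype ∘ₗ f ∘ₗ pW v w h) x =
      w x • v + ((f (pW v w h x) : LinearMap.ker w) : V) := by
  simp

/-- the determinant of the Schur complement -/
theorem det_schur (v : V) (w : Dual K V) (h : w v = 1) (g : Module.End K V) (hgv : w (g v) = 1)
    (A' : Module.End K (LinearMap.ker w))
    (hA' : ∀ x : LinearMap.ker w, ((A' x : LinearMap.ker w) : V) = g x - w (g x) • g v) :
    LinearMap.det A' = LinearMap.det g := by
  have hfac : g = LinearMap.transvection w (g v - v) *
      (w.smulRight v + (LinearMap.ker w).subtype ∘ₗ A' ∘ₗ pW v w h) *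
      LinearMap.transvection (w ∘ₗ g - w) v := by
    ext x
    rw [Module.End.mul_apply, Module.End.mul_apply, LinearMap.transvection.apply (w ∘ₗ g - w) v x]
    have hδ : (w ∘ₗ g - w) x = w (g x) - w x := by simp
    rw [hδ]
    have e1 : w (x + (w (g x) - w x) • v) = w (g x) := by
      rw [map_add, map_smul, h, smul_eq_mul, mul_one]; ring
    have e2 : pW v w h (x + (w (g x) - w x) • v) = pW v w h x := by
      rw [map_add, map_smul, pW_self, smul_zero, add_zero]
    have e3 : ((A' (pW v w h x) : LinearMap.ker w) : V) = g x - w (g x) • g v := by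
      rw [hA', pW_coe, map_sub, map_smul, map_sub, map_smul, hgv, smul_eq_mul, mul_one]
      module
    rw [Mm_apply, e1, e2, e3, LinearMap.transvection.apply]
    have e4 : w (w (g x) • v + (g x - w (g x) • g v)) = w (g x) := by
      rw [map_add, map_smul, map_sub, map_smul, h, hgv]
      simp
    rw [e4]
    module
  rw [hfac, map_mul, map_mul, LinearMap.transvection.det, LinearMap.transvection.det,
    det_sum]
  simp [h, hgv]

/-- the determinant of the quotient action modulo a fixed vector -/
theorem det_quot (e : V) (w : Dual K V) (h : w e = 1) (g : Module.End K V) (hge : g e = e)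
    (g2 : Module.End K (LinearMap.ker w))
    (hg2 : ∀ x : LinearMap.ker w, ((g2 x : LinearMap.ker w) : V) = g x - w (g x) • e) :
    LinearMap.det g2 = LinearMap.det g := by
  have hfac : g = (w.smulRight e + (LinearMap.ker w).subtype ∘ₗ g2 ∘ₗ pW e w h) *
      LinearMap.transvection (w ∘ₗ g - w) e := by
    ext x
    rw [Module.End.mul_apply, LinearMap.transvection.apply (w ∘ₗ g - w) e x]
    have hδ : (w ∘ₗ g - w) x = w (g x) - w x := by simp
    rw [hδ]
    have e1 : w (x + (w (g x) - w x) • e) = w (g x) := by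
      rw [map_add, map_smul, h, smul_eq_mul, mul_one]; ring
    have e2 : pW e w h (x + (w (g x) - w x) • e) = pW e w h x := by
      rw [map_add, map_smul, pW_self, smul_zero, add_zero]
    have e3 : ((g2 (pW e w h x) : LinearMap.ker w) : V) = g x - w (g x) • e := by
      rw [hg2, pW_coe, map_sub, map_smul, map_sub, map_smul, hge, h, smul_eq_mul, mul_one]
      module
    rw [Mm_apply, e1, e2, e3]
    module
  rw [hfac, map_mul, LinearMap.transvection.det, det_sum]
  simp [h, hge]

end det

end Cfsg.Agent.Lib.helper14.RuB
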