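import Mathlib
import Cfsg.Agent.Lib.helper14.RuA
import Cfsg.Agent.Lib.helper14.RuB

set_option autoImplicit false

/-!
# Factorisations into two regular unipotent endomorphisms: the inductive step
-/

namespace Cfsg.Agent.Lib.helper14.RuC

open Module LinearMap Cfsg.Agent.Lib.helper14.RuB

universe u v
variable {K : Type u} [Field K] {V : Type v} [AddCommGroup V] [Module K V]

/-- `g = A B` with `A`, `B` unipotent, `(A-1)^(n-1) y ≠ 0` and `z ∘ (B-1)^(n-1) ≠ 0` -/
def Fact (g : Module.End K V) (y : V) (z : Dual K V) : Prop :=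
  ∃ A B : Module.End K V, g = A * B ∧ (A - 1) ^ (finrank K V) = 0 ∧ (B - 1) ^ (finrank K V) = 0 ∧
    ((A - 1) ^ (finrank K V - 1)) y ≠ 0 ∧ z ∘ₗ ((B - 1) ^ (finrank K V - 1)) ≠ 0

/-- the class of triples for which the induction works -/
def Cls (g : Module.End K V) (y : V) (z : Dual K V) : Prop :=
  LinearMap.det g = 1 ∧ y ≠ 0 ∧ z ≠ 0 ∧ (2 ≤ finrank K V → ¬ ∃ c : K, g = c • 1) ∧
    (∀ x, g x = x → ∃ k : K, x = k • y) ∧ (finrank K V = 2 → ∀ x, g x = x → x = 0)

theorem fact_of_schur [FiniteDimensional K V] (g : Module.End K V) (v : V) (w : Dual K V)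
    (h : w v = 1) (y' : LinearMap.ker w) (hy' : (y' : V) = g v - v)
    (A' : Module.End K (LinearMap.ker w))
    (hA' : ∀ x : LinearMap.ker w, ((A' x : LinearMap.ker w) : V) = g x - w (g x) • g v)
    (z' : Dual K (LinearMap.ker w)) (hz' : ∀ x : LinearMap.ker w, z' x = w (g x))
    (hF : Fact A' y' z') (y0 : V) (z0 : Dual K V) (hy0 : w y0 ≠ 0) (hz0 : z0 v ≠ 0)
    (hn : 2 ≤ finrank K V) : Fact g y0 z0 := by
  obtain ⟨A2, B2, hAB, hA2, hB2, hyA, hzB⟩ := hF
  have hw : w ≠ 0 := by
    intro h0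
    rw [h0] at h
    simp at h
  have hfr : finrank K (LinearMap.ker w) + 1 = finrank K V :=
    Module.Dual.finrank_ker_add_one_of_ne_zero hw
  obtain ⟨m, hm⟩ : ∃ m, finrank K (LinearMap.ker w) = m + 1 := ⟨finrank K (LinearMap.ker w) - 1, by omega⟩
  rw [hm] at hA2 hB2 hyA hzB
  have hV : finrank K V = m + 1 + 1 := by omega
  simp only [Nat.add_sub_cancel] at hyA hzB
  refine ⟨Lm v w h y' A2, Um v w h z' B2, ?_, ?_, ?_, ?_, ?_⟩
  · refine Lm_mul_Um v w h g y' hy' A2 B2 z' hz' (fun x => ?_)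
    rw [← Module.End.mul_apply, ← hAB]
    exact hA' x
  · ext x
    rw [hV, Lm_pow, hA2]
    simp
  · ext x
    have hB3 : (B2 - 1) ^ (m + 1 + 1) = 0 := by rw [pow_succ, hB2, zero_mul]
    rw [hV, Um_pow, hB2, hB3]
    simp
  · rw [hV]
    simp only [Nat.add_sub_cancel]
    rw [Lm_pow, map_add, map_smul]
    have : ((A2 - 1) ^ m) ((A2 - 1) (pW v w h y0)) = 0 := by
      rw [← Module.End.mul_apply, ← pow_succ, hA2]
      simp
    rw [this, add_zero, Submodule.coe_smul]
    intro h0
    rcases smul_eq_zero.mp h0 with h1 | h1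
    · exact hy0 h1
    · exact hyA (Subtype.ext h1)
  · rw [hV]
    simp only [Nat.add_sub_cancel]
    obtain ⟨x', hx'⟩ : ∃ x', z' (((B2 - 1) ^ m) x') ≠ 0 := by
      by_contra hcon
      push Not at hcon
      exact hzB (LinearMap.ext hcon)
    intro h0
    have := congrArg (fun f : Dual K V => f (x' : V)) h0
    simp only [LinearMap.coe_comp, Function.comp_apply, LinearMap.zero_apply] at this
    rw [Um_pow, pW_mem, hB2] at this
    simp only [LinearMap.zero_apply, Submodule.coe_zero, add_zero, map_smul, smul_eq_mul] at this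
    rcases mul_eq_zero.mp this with h1 | h1
    · exact hx' h1
    · exact hz0 h1

/-- the inductive step, given a good pair `(v, w)` -/
theorem step [FiniteDimensional K V] (n : ℕ) (hn : finrank K V = n + 2)
    (IH : ∀ (W : Type v) [AddCommGroup W] [Module K W] [FiniteDimensional K W],
      finrank K W = n + 1 → ∀ (g : Module.End K W) (y : W) (z : Dual K W), Cls g y z → Fact g y z)
    (g : Module.End K V) (y0 : V) (z0 : Dual K V) (v : V) (w : Dual K V)
    (h1 : w v = 1) (h2 : w (g v) = 1) (h3 : z0 v ≠ 0) (h4 : w y0 ≠ 0) (hdet : LinearMap.det g = 1)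
    (h5 : g v ≠ v) (h6 : ∃ x, w x = 0 ∧ w (g x) ≠ 0)
    (h7 : 1 ≤ n → ¬ ∃ c : K, ∀ x, w x = 0 → g x - w (g x) • g v = c • x)
    (h8 : ∀ x, w x = 0 → g x - w (g x) • g v = x → ∃ k : K, x = k • (g v - v))
    (h9 : n = 1 → ∀ x, w x = 0 → g x - w (g x) • g v = x → x = 0) : Fact g y0 z0 := by
  have hw : w ≠ 0 := by
    intro h0
    rw [h0] at h1
    simp at h1
  have hfr : finrank K (LinearMap.ker w) + 1 = finrank K V :=
    Module.Dual.finrank_ker_add_one_of_ne_zero hw
  have hfr' : finrank K (LinearMap.ker w) = n + 1 := by omega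
  set Tm : V →ₗ[K] V := g - (w ∘ₗ g).smulRight (g v) with hTm
  have hTm_apply : ∀ x, Tm x = g x - w (g x) • g v := by
    intro x
    simp [hTm]
  have hmem : ∀ x, Tm x ∈ LinearMap.ker w := by
    intro x
    rw [LinearMap.mem_ker, hTm_apply, map_sub, map_smul, h2, smul_eq_mul, mul_one, sub_self]
  set A' : Module.End K (LinearMap.ker w) :=
    (Tm.codRestrict (LinearMap.ker w) hmem) ∘ₗ (LinearMap.ker w).subtype with hA'def
  have hA' : ∀ x : LinearMap.ker w, ((A' x : LinearMap.ker w) : V) = g x - w (g x) • g v := by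
    intro x
    rw [hA'def, LinearMap.comp_apply, LinearMap.codRestrict_apply, Submodule.subtype_apply,
      hTm_apply]
  have hy'mem : g v - v ∈ LinearMap.ker w := by
    rw [LinearMap.mem_ker, map_sub, h1, h2, sub_self]
  set y' : LinearMap.ker w := ⟨g v - v, hy'mem⟩ with hy'def
  set z' : Dual K (LinearMap.ker w) := (w ∘ₗ g) ∘ₗ (LinearMap.ker w).subtype with hz'def
  have hz' : ∀ x : LinearMap.ker w, z' x = w (g x) := by
    intro x
    simp [hz'def]
  have hcls : Cls A' y' z' := by
    refine ⟨?_, ?_, ?_, ?_, ?_, ?_⟩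
    · rw [det_schur v w h1 g h2 A' hA', hdet]
    · intro h0
      have := congrArg Subtype.val h0
      simp only [hy'def, Submodule.coe_zero] at this
      exact h5 (sub_eq_zero.mp this)
    · obtain ⟨x, hx, hgx⟩ := h6
      intro h0
      have := congrArg (fun f : Dual K (LinearMap.ker w) => f ⟨x, LinearMap.mem_ker.mpr hx⟩) h0
      simp only [LinearMap.zero_apply] at this
      rw [hz'] at this
      exact hgx this
    · intro hfin
      rintro ⟨c, hc⟩
      apply h7 (by omega)
      refine ⟨c, fun x hx => ?_⟩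
      have := congrArg (fun f : Module.End K (LinearMap.ker w) =>
        ((f ⟨x, LinearMap.mem_ker.mpr hx⟩ : LinearMap.ker w) : V)) hc
      simp only [LinearMap.smul_apply, Module.End.one_apply, Submodule.coe_smul] at this
      rw [hA'] at this
      exact this
    · intro x hx
      have hx' := congrArg Subtype.val hx
      rw [hA'] at hx'
      obtain ⟨k, hk⟩ := h8 x (w_mem w x) hx'
      exact ⟨k, Subtype.ext (by rw [Submodule.coe_smul, hk])⟩
    · intro hfin x hx
      have hx' := congrArg Subtype.val hx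
      rw [hA'] at hx'
      have := h9 (by omega) x (w_mem w x) hx'
      exact Subtype.ext this
  have hF := IH (LinearMap.ker w) hfr' A' y' z' hcls
  exact fact_of_schur g v w h1 y' rfl A' hA' z' hz' hF y0 z0 h4 h3 (by omega)

theorem r6_of_eigen (g : Module.End K V) (v : V) (w : Dual K V) (h1 : w v = 1) (h2 : w (g v) = 1)
    (h5 : g v ≠ v) (hginj : ∀ x, g x = 0 → x = 0) (xc : V) (c : K) (hxc : g xc = c • xc)
    (hxc0 : xc ≠ 0) (hout : ∀ α β : K, xc ≠ α • v + β • g v) (hw : w xc ≠ 0) :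
    ¬ ∃ c' : K, ∀ x, w x = 0 → g x - w (g x) • g v = c' • x := by
  rintro ⟨c', hc'⟩
  have hc0 : c ≠ 0 := by
    intro h0
    rw [h0, zero_smul] at hxc
    exact hxc0 (hginj xc hxc)
  set κ := w xc with hκ
  have hx0 : w (xc - κ • v) = 0 := by
    rw [map_sub, map_smul, h1, smul_eq_mul, mul_one, sub_self]
  have key := hc' (xc - κ • v) hx0
  rw [map_sub, map_smul, hxc, map_sub, map_smul, map_smul, h2, ← hκ] at key
  simp only [smul_eq_mul, mul_one] at key
  -- key : c • xc - κ • g v - (c * κ - κ) • g v = c' • (xc - κ • v)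
  have key2 : (c - c') • xc = (c * κ) • g v - (c' * κ) • v := by
    have : c • xc - κ • g v - (c * κ - κ) • g v - c' • (xc - κ • v) = 0 := sub_eq_zero.mpr key
    have e : (c - c') • xc - ((c * κ) • g v - (c' * κ) • v) =
        c • xc - κ • g v - (c * κ - κ) • g v - c' • (xc - κ • v) := by module
    exact sub_eq_zero.mp (e.trans this)
  by_cases hcc : c = c'
  · rw [hcc, sub_self, zero_smul] at key2
    have : (c' * κ) • (g v - v) = 0 := by
      rw [smul_sub]
      exact key2.symm
    rcases smul_eq_zero.mp this with h0 | h0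
    · rcases mul_eq_zero.mp h0 with h0 | h0
      · exact hc0 (hcc.trans h0)
      · exact hw h0
    · exact h5 (sub_eq_zero.mp h0)
  · have hne : c - c' ≠ 0 := sub_ne_zero.mpr hcc
    apply hout (-(c' * κ) / (c - c')) ((c * κ) / (c - c'))
    have : xc = (c - c')⁻¹ • ((c - c') • xc) := by
      rw [smul_smul, inv_mul_cancel₀ hne, one_smul]
    rw [this, key2]
    have e1 : -(c' * κ) / (c - c') = (c - c')⁻¹ * (-(c' * κ)) := by field_simp
    have e2 : (c * κ) / (c - c') = (c - c')⁻¹ * (c * κ) := by field_simp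
    rw [e1, e2]
    module

theorem exists_ker2 [FiniteDimensional K V] (hN : 3 ≤ finrank K V) (f1 f2 : Dual K V) :
    ∃ x : V, x ≠ 0 ∧ f1 x = 0 ∧ f2 x = 0 := by
  have hlt : finrank K (K × K) < finrank K V := by
    rw [Module.finrank_prod, Module.finrank_self]
    omega
  have := LinearMap.ker_ne_bot_of_finrank_lt (f := f1.prod f2) hlt
  obtain ⟨x, hx, hx0⟩ := (Submodule.ne_bot_iff _).mp this
  rw [LinearMap.mem_ker, LinearMap.prod_apply] at hx
  have hx' := Prod.ext_iff.mp hx
  exact ⟨x, hx0, hx'.1, hx'.2⟩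

theorem r6_of_none [FiniteDimensional K V] (hN : 3 ≤ finrank K V) (g : Module.End K V) (v : V)
    (w : Dual K V) (h1 : w v = 1) (h2 : w (g v) = 1) (hinj : ∀ x, g x = x → x = 0)
    (hv : ∀ c : K, g v ≠ c • v)
    (hnone : ∀ x (c : K), x ≠ 0 → g x = c • x → ∃ α β : K, x = α • v + β • g v) :
    ¬ ∃ c' : K, ∀ x, w x = 0 → g x - w (g x) • g v = c' • x := by
  rintro ⟨c', hc'⟩
  obtain ⟨x, hx0, hwx, hwgx⟩ := exists_ker2 hN w (w ∘ₗ g)
  rw [LinearMap.comp_apply] at hwgx
  have hgx := hc' x hwx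
  rw [hwgx, zero_smul, sub_zero] at hgx
  obtain ⟨α, β, hαβ⟩ := hnone x c' hx0 hgx
  have hab : α + β = 0 := by
    have := hwx
    rw [hαβ, map_add, map_smul, map_smul, h1, h2] at this
    simpa using this
  have hα : α = -β := by linear_combination hab
  have hx : x = β • (g v - v) := by
    rw [hαβ, hα]
    module
  have hβ : β ≠ 0 := by
    intro h0
    rw [h0, zero_smul] at hx
    exact hx0 hx
  rw [hx, map_smul, map_sub] at hgx
  have h3 : g (g v - c' • v) = g v - c' • v := by
    have h4 : β • (g (g v) - g v) - c' • β • (g v - v) = 0 := sub_eq_zero.mpr hgx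
    have h5 : β • (g (g v - c' • v) - (g v - c' • v)) =
        β • (g (g v) - g v) - c' • β • (g v - v) := by
      rw [map_sub, map_smul]
      module
    rw [h4] at h5
    rcases smul_eq_zero.mp h5 with h6 | h6
    · exact absurd h6 hβ
    · exact sub_eq_zero.mp h6
  exact hv c' (sub_eq_zero.mp (hinj _ h3))

end Cfsg.Agent.Lib.helper14.RuC
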