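import Mathlib
import Cfsg.Agent.Lib.helper14.RuA
import Cfsg.Agent.Lib.helper14.RuB
import Cfsg.Agent.Lib.helper14.RuC

set_option autoImplicit false

/-!
# Factorisations into two regular unipotent endomorphisms: choosing a good pair, first case
-/

namespace Cfsg.Agent.Lib.helper14.RuD

open Module LinearMap Cardinal Cfsg.Agent.Lib.helper14.RuA Cfsg.Agent.Lib.helper14.RuB
  Cfsg.Agent.Lib.helper14.RuC

universe u v
variable {K : Type u} [Field K] {V : Type v} [AddCommGroup V] [Module K V]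

/-- `x` is an eigenvector (or zero) of `g` modulo `e` -/
def Eg (g : Module.End K V) (e : V) (x : V) : Prop := ∃ c d : K, g x = c • x + d • e

theorem eig_three (g : Module.End K V) (e : V) (hge : g e = e) (a b : V) (ha : ¬ Eg g e a)
    (t1 t2 t3 : K) (h12 : t1 ≠ t2) (h13 : t1 ≠ t3) (h23 : t2 ≠ t3)
    (H1 : Eg g e (b + t1 • a)) (H2 : Eg g e (b + t2 • a)) (H3 : Eg g e (b + t3 • a)) : False := by
  obtain ⟨c1, d1, E1⟩ := H1
  obtain ⟨c2, d2, E2⟩ := H2
  obtain ⟨c3, d3, E3⟩ := H3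
  rw [map_add, map_smul] at E1 E2 E3
  have h12' : t1 - t2 ≠ 0 := sub_ne_zero.mpr h12
  have h13' : t1 - t3 ≠ 0 := sub_ne_zero.mpr h13
  have h23' : t2 - t3 ≠ 0 := sub_ne_zero.mpr h23
  have L12 : (t1 - t2) • g a = (c1 - c2) • b + (c1 * t1 - c2 * t2) • a + (d1 - d2) • e := by
    have e1 : (t1 - t2) • g a = (g b + t1 • g a) - (g b + t2 • g a) := by module
    rw [e1, E1, E2]
    module
  have L13 : (t1 - t3) • g a = (c1 - c3) • b + (c1 * t1 - c3 * t3) • a + (d1 - d3) • e := by
    have e1 : (t1 - t3) • g a = (g b + t1 • g a) - (g b + t3 • g a) := by module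
    rw [e1, E1, E3]
    module
  set P : K := (t1 - t3) * (c1 - c2) - (t1 - t2) * (c1 - c3) with hP
  set Q : K := (t1 - t3) * (c1 * t1 - c2 * t2) - (t1 - t2) * (c1 * t1 - c3 * t3) with hQ
  set R : K := (t1 - t3) * (d1 - d2) - (t1 - t2) * (d1 - d3) with hR
  have M : P • b + Q • a + R • e = 0 := by
    have e1 : P • b + Q • a + R • e =
        (t1 - t3) • ((c1 - c2) • b + (c1 * t1 - c2 * t2) • a + (d1 - d2) • e) -
        (t1 - t2) • ((c1 - c3) • b + (c1 * t1 - c3 * t3) • a + (d1 - d3) • e) := by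
      rw [hP, hQ, hR]
      module
    rw [e1, ← L12, ← L13]
    module
  have hga : g a = (t1 - t2)⁻¹ • ((c1 - c2) • b + (c1 * t1 - c2 * t2) • a + (d1 - d2) • e) := by
    rw [← L12, smul_smul, inv_mul_cancel₀ h12', one_smul]
  by_cases hc : c1 = c2
  · apply ha
    refine ⟨(t1 - t2)⁻¹ * (c1 * t1 - c2 * t2), (t1 - t2)⁻¹ * (d1 - d2), ?_⟩
    rw [hga, hc]
    module
  by_cases hP0 : P = 0
  · by_cases hQ0 : Q = 0
    · exfalso
      have key : (c1 - c2) * (t1 - t3) * (t2 - t3) = Q - t3 * P := by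
        rw [hP, hQ]
        ring
      rw [hP0, hQ0] at key
      simp only [mul_zero, sub_zero, mul_eq_zero] at key
      rcases key with (h | h) | h
      · exact hc (sub_eq_zero.mp h)
      · exact h13' h
      · exact h23' h
    · -- `a` is a multiple of `e`
      rw [hP0, zero_smul, zero_add] at M
      have haa : a = (-(Q⁻¹ * R)) • e := by
        have : Q • a = (-R) • e := by
          rw [neg_smul]
          exact eq_neg_of_add_eq_zero_left M
        have h2 : a = Q⁻¹ • (Q • a) := by rw [smul_smul, inv_mul_cancel₀ hQ0, one_smul]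
        rw [h2, this, smul_smul]
        congr 1
        ring
      apply ha
      refine ⟨0, -(Q⁻¹ * R), ?_⟩
      rw [zero_smul, zero_add]
      conv_lhs => rw [haa]
      rw [map_smul, hge]
  · -- `b` is a combination of `a` and `e`
    have hbb : b = (-(P⁻¹ * Q)) • a + (-(P⁻¹ * R)) • e := by
      have : P • b = (-Q) • a + (-R) • e := by
        have h0 : P • b = (P • b + Q • a + R • e) - Q • a - R • e := by module
        rw [h0, M]
        module
      have h2 : b = P⁻¹ • (P • b) := by rw [smul_smul, inv_mul_cancel₀ hP0, one_smul]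
      rw [h2, this]
      module
    apply ha
    refine ⟨(t1 - t2)⁻¹ * ((c1 - c2) * (-(P⁻¹ * Q)) + (c1 * t1 - c2 * t2)),
      (t1 - t2)⁻¹ * ((c1 - c2) * (-(P⁻¹ * R)) + (d1 - d2)), ?_⟩
    rw [hga]
    conv_lhs => rw [hbb]
    module

theorem exists_dual_eq_one (x : V) (hx : x ≠ 0) : ∃ f : Dual K V, f x = 1 := by
  obtain ⟨f, hf⟩ : ∃ f : Dual K V, f x ≠ 0 := by
    by_contra hcon
    push Not at hcon
    exact hx ((Module.forall_dual_apply_eq_zero_iff K x).mp hcon)
  refine ⟨(f x)⁻¹ • f, ?_⟩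
  rw [LinearMap.smul_apply, smul_eq_mul, inv_mul_cancel₀ hf]

theorem exists_dual_ne_zero (x : V) (hx : x ≠ 0) : ∃ f : Dual K V, f ≠ 0 := by
  obtain ⟨f, hf⟩ := exists_dual_eq_one (K := K) x hx
  refine ⟨f, fun h0 => ?_⟩
  rw [h0] at hf
  simp at hf

/-- in dimension three, with determinant one and no fixed vectors, `g u` is never proportional to
`(g - 1)^2 u` for a non-eigenvector `u` -/
theorem dim3 [FiniteDimensional K V] (h3 : finrank K V = 3) (g : Module.End K V)
    (hdet : LinearMap.det g = 1) (hinj : ∀ x, g x = x → x = 0) (u : V)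
    (hu : ∀ c : K, g u ≠ c • u) (μ : K) : g u ≠ μ • (g (g u) - (2 : K) • g u + u) := by
  intro hμ
  have hu0 : u ≠ 0 := by
    rintro rfl
    exact hu 0 (by simp)
  have hμ0 : μ ≠ 0 := by
    rintro rfl
    rw [zero_smul] at hμ
    exact hu 0 (by rw [hμ, zero_smul])
  have h1 : μ⁻¹ • g u = g (g u) - (2 : K) • g u + u := (inv_smul_eq_iff₀ hμ0).mpr hμ
  have hgg : g (g u) = (2 + μ⁻¹) • g u - u := by
    have : g (g u) = (g (g u) - (2 : K) • g u + u) + (2 : K) • g u - u := by module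
    rw [this, ← h1]
    module
  set e : Basis (Fin 3) K V := Module.finBasisOfFinrankEq K V h3 with he
  have key1 : ∀ x, e.det ![g x, g u, g (g u)] = e.det ![x, u, g u] := by
    intro x
    have := e.det_comp g ![x, u, g u]
    rw [hdet, one_mul] at this
    rw [← this]
    congr 1
    ext i
    fin_cases i <;> rfl
  have key2 : ∀ y, e.det ![y, g u, g (g u)] = e.det ![y, u, g u] := by
    intro y
    rw [hgg]
    simp only [Basis.det_apply, Matrix.det_fin_three, Basis.toMatrix_apply]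
    simp [map_sub, map_smul]
    ring
  have key3 : ∀ x, e.det ![g x - x, u, g u] = 0 := by
    intro x
    have h2 : e.det ![g x - x, u, g u] = e.det ![g x, u, g u] - e.det ![x, u, g u] := by
      simp only [Basis.det_apply, Matrix.det_fin_three, Basis.toMatrix_apply]
      simp [map_sub]
      ring
    rw [h2, ← key2, key1, sub_self]
  have hsurj : ∀ y, ∃ x, g x - x = y := by
    have hDinj : Function.Injective (g - 1 : Module.End K V) := by
      rw [← LinearMap.ker_eq_bot, LinearMap.ker_eq_bot']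
      intro x hx
      apply hinj
      have : (g - 1 : Module.End K V) x = g x - x := by simp
      rw [this] at hx
      exact sub_eq_zero.mp hx
    have hDsurj := LinearMap.injective_iff_surjective.mp hDinj
    intro y
    obtain ⟨x, hx⟩ := hDsurj y
    exact ⟨x, by rw [← hx]; simp⟩
  have key4 : ∀ y, e.det ![y, u, g u] = 0 := by
    intro y
    obtain ⟨x, hx⟩ := hsurj y
    rw [← hx]
    exact key3 x
  -- but `u, g u` extends to a basis
  have hli : LinearIndependent K ![u, g u] := by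
    rw [LinearIndependent.pair_iff]
    intro s t hst
    have ht : t = 0 := by
      by_contra ht
      apply hu (-(t⁻¹ * s))
      have : t • g u = (-s) • u := by
        rw [neg_smul]
        exact eq_neg_of_add_eq_zero_right hst
      have h2 : g u = t⁻¹ • (t • g u) := by rw [smul_smul, inv_mul_cancel₀ ht, one_smul]
      rw [h2, this, smul_smul]
      congr 1
      ring
    rw [ht, zero_smul, add_zero] at hst
    rcases smul_eq_zero.mp hst with h | h
    · exact ⟨h, ht⟩
    · exact absurd h hu0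
  obtain ⟨y, hy⟩ : ∃ y, y ∉ Submodule.span K (Set.range ![u, g u]) := by
    by_contra hcon
    push Not at hcon
    have htop : Submodule.span K (Set.range ![u, g u]) = ⊤ := by
      rw [eq_top_iff]
      intro y _
      exact hcon y
    have hle := finrank_range_le_card (R := K) ![u, g u]
    rw [Set.finrank, htop, finrank_top, h3] at hle
    simp at hle
  have hli3 : LinearIndependent K (Fin.cons y ![u, g u] : Fin 3 → V) :=
    linearIndependent_finCons.mpr ⟨hli, hy⟩
  set b : Basis (Fin 3) K V := basisOfLinearIndependentOfCardEqFinrank hli3 (by simp [h3]) with hb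
  have hbu := e.isUnit_det b
  have hb2 : (b : Fin 3 → V) = ![y, u, g u] := by
    rw [hb, coe_basisOfLinearIndependentOfCardEqFinrank]
    ext i
    fin_cases i <;> rfl
  rw [hb2, key4] at hbu
  simp at hbu

/-- a good pair `(v, w)` for the inductive step -/
def Good (n : ℕ) (g : Module.End K V) (y0 : V) (z0 : Dual K V) (v : V) (w : Dual K V) : Prop :=
  w v = 1 ∧ w (g v) = 1 ∧ z0 v ≠ 0 ∧ w y0 ≠ 0 ∧ g v ≠ v ∧ (∃ x, w x = 0 ∧ w (g x) ≠ 0) ∧
  (1 ≤ n → ¬ ∃ c : K, ∀ x, w x = 0 → g x - w (g x) • g v = c • x) ∧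
  (∀ x, w x = 0 → g x - w (g x) • g v = x → ∃ k : K, x = k • (g v - v)) ∧
  (n = 1 → ∀ x, w x = 0 → g x - w (g x) • g v = x → x = 0)

theorem step_good [FiniteDimensional K V] (n : ℕ) (hn : finrank K V = n + 2)
    (IH : ∀ (W : Type v) [AddCommGroup W] [Module K W] [FiniteDimensional K W],
      finrank K W = n + 1 → ∀ (g : Module.End K W) (y : W) (z : Dual K W), Cls g y z → Fact g y z)
    (g : Module.End K V) (y0 : V) (z0 : Dual K V) (v : V) (w : Dual K V)
    (hdet : LinearMap.det g = 1) (hG : Good n g y0 z0 v w) : Fact g y0 z0 := by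
  obtain ⟨h1, h2, h3, h4, h5, h6, h7, h8, h9⟩ := hG
  exact step n hn IH g y0 z0 v w h1 h2 h3 h4 hdet h5 h6 h7 h8 h9

theorem ginj_of_det [FiniteDimensional K V] (g : Module.End K V) (hdet : LinearMap.det g = 1) :
    ∀ x, g x = 0 → x = 0 := by
  intro x hx
  by_contra hx0
  have hker : LinearMap.ker g ≠ ⊥ := by
    intro h
    have : x ∈ LinearMap.ker g := LinearMap.mem_ker.mpr hx
    rw [h] at this
    exact hx0 ((Submodule.mem_bot K).mp this)
  have := LinearMap.det_eq_zero_iff_ker_ne_bot.mpr hker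
  rw [hdet] at this
  exact one_ne_zero this

/-- Case I: `g` has no nonzero fixed vector -/
theorem caseI [FiniteDimensional K V] (hK : (4 : Cardinal.{u}) ≤ #K) (n : ℕ)
    (hn : finrank K V = n + 2) (g : Module.End K V) (y0 : V) (z0 : Dual K V)
    (hdet : LinearMap.det g = 1) (hy0 : y0 ≠ 0) (hz0 : z0 ≠ 0) (hns : ¬ ∃ c : K, g = c • 1)
    (hinj : ∀ x, g x = x → x = 0) : ∃ (v : V) (w : Dual K V), Good n g y0 z0 v w := by
  classical
  set D : Module.End K V := g - 1 with hD
  have hDa : ∀ x, D x = g x - x := fun x => by simp [hD]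
  have hD0 : ∀ x, D x = 0 → x = 0 := by
    intro x hx
    rw [hDa] at hx
    exact hinj x (sub_eq_zero.mp hx)
  have hDinj : Function.Injective D := by
    rw [← LinearMap.ker_eq_bot, LinearMap.ker_eq_bot']
    exact hD0
  have hDsurj : Function.Surjective D := LinearMap.injective_iff_surjective.mp hDinj
  have hDg : ∀ x, D (g x) = g (D x) := by
    intro x
    rw [hDa, hDa, map_sub]
  have hginj := ginj_of_det g hdet
  -- a non-eigenvector
  obtain ⟨a, ha⟩ : ∃ a, ¬ Eg g 0 a := by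
    by_contra hcon
    push Not at hcon
    apply hns
    apply LinearMap.exists_eq_smul_id_of_forall_notLinearIndependent
    intro x hli
    obtain ⟨c, d, hc⟩ := hcon x
    rw [LinearIndependent.pair_iff] at hli
    have := hli (-c) 1 (by rw [hc]; simp)
    exact one_ne_zero this.2
  have ha0 : a ≠ 0 := by
    rintro rfl
    exact ha ⟨0, 0, by simp⟩
  set ζ : Dual K V := z0 ∘ₗ D with hζ
  obtain ⟨b0, hb0⟩ : ∃ b0, ζ b0 ≠ 0 := by
    obtain ⟨y, hy⟩ : ∃ y, z0 y ≠ 0 := by
      by_contra hcon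
      push Not at hcon
      exact hz0 (LinearMap.ext hcon)
    obtain ⟨x, hx⟩ := hDsurj y
    exact ⟨x, by rw [hζ, LinearMap.comp_apply, hx]; exact hy⟩
  set S1 : Submodule K V := LinearMap.ker ζ with hS1
  set S2 : Submodule K V := Submodule.comap (D ∘ₗ D) (Submodule.span K {y0}) with hS2
  have S2line : ∀ x x', x ∈ S2 → x' ∈ S2 → x ≠ 0 → ∃ c : K, x' = c • x := by
    intro x x' hx hx' hx0
    rw [hS2, Submodule.mem_comap, Submodule.mem_span_singleton] at hx hx'
    obtain ⟨κ, hκ⟩ := hx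
    obtain ⟨κ', hκ'⟩ := hx'
    rw [LinearMap.comp_apply] at hκ hκ'
    have hκ0 : κ ≠ 0 := by
      rintro rfl
      rw [zero_smul] at hκ
      exact hx0 (hD0 _ (hD0 _ hκ.symm))
    refine ⟨κ' * κ⁻¹, ?_⟩
    have : D (D (x' - (κ' * κ⁻¹) • x)) = 0 := by
      rw [map_sub, map_sub, map_smul, map_smul, ← hκ, ← hκ', smul_smul, mul_assoc,
        inv_mul_cancel₀ hκ0, mul_one, sub_self]
    exact sub_eq_zero.mp (hD0 _ (hD0 _ this))
  obtain ⟨b, hb1, hb2⟩ : ∃ b, ¬ (a ∈ S1 ∧ b ∈ S1) ∧ ¬ (a ∈ S2 ∧ b ∈ S2) := by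
    by_cases hζa : ζ a = 0
    · refine ⟨b0, fun h => hb0 (LinearMap.mem_ker.mp h.2), fun h => ?_⟩
      obtain ⟨c, hc⟩ := S2line a b0 h.1 h.2 ha0
      apply hb0
      rw [hc, map_smul, hζa, smul_zero]
    · refine ⟨g a, fun h => hζa (LinearMap.mem_ker.mp h.1), fun h => ?_⟩
      obtain ⟨c, hc⟩ := S2line a (g a) h.1 h.2 ha0
      exact ha ⟨c, 0, by rw [hc]; simp⟩
  obtain ⟨u, -, hEu, hu1, hu2⟩ := p5 hK a b (Eg g 0) ha (eig_three g 0 (map_zero g) a b ha)
    S1 S2 hb1 hb2
  have hune : ∀ c : K, g u ≠ c • u := fun c hc => hEu ⟨c, 0, by rw [hc]; simp⟩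
  have hu0 : u ≠ 0 := by
    rintro rfl
    exact hune 0 (by simp)
  have hζu : z0 (D u) ≠ 0 := fun h => hu1 (LinearMap.mem_ker.mpr h)
  have hu2' : ∀ κ : K, κ • y0 ≠ D (D u) := by
    intro κ hκ
    apply hu2
    rw [hS2, Submodule.mem_comap, Submodule.mem_span_singleton]
    exact ⟨κ, hκ⟩
  have hDD : D (D u) = g (D u) - D u := hDa (D u)
  set p : Submodule K V := Submodule.span K {D (D u)} with hp
  have hDup : D u ∉ p := by
    intro h
    rw [hp, Submodule.mem_span_singleton] at h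
    obtain ⟨κ, hκ⟩ := h
    have h1 : κ • D u = u := by
      apply hDinj
      rw [map_smul, hκ]
    have hκ0 : κ ≠ 0 := by
      rintro rfl
      rw [zero_smul] at h1
      exact hu0 h1.symm
    apply hune (κ⁻¹ * (1 + κ))
    rw [hDa] at h1
    have h2 : κ • g u = (1 + κ) • u := by
      have : κ • g u = κ • (g u - u) + κ • u := by module
      rw [this, h1]
      module
    have h3 : g u = κ⁻¹ • (κ • g u) := by rw [smul_smul, inv_mul_cancel₀ hκ0, one_smul]
    rw [h3, h2, smul_smul]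
  have hy0p : y0 ∉ p := by
    intro h
    rw [hp, Submodule.mem_span_singleton] at h
    obtain ⟨κ, hκ⟩ := h
    have hκ0 : κ ≠ 0 := by
      rintro rfl
      rw [zero_smul] at hκ
      exact hy0 hκ.symm
    apply hu2' κ⁻¹
    rw [← hκ, smul_smul, inv_mul_cancel₀ hκ0, one_smul]
  obtain ⟨x3, hx3p, hx3⟩ : ∃ x3, x3 ∉ p ∧ (g u ∉ p → x3 = g u) := by
    by_cases h : g u ∈ p
    · exact ⟨D u, hDup, fun h' => absurd h h'⟩
    · exact ⟨g u, h, fun _ => rfl⟩
  obtain ⟨x4, hx4p, hx4P⟩ : ∃ x4, x4 ∉ p ∧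
      ((∃ xc : V, ∃ c : K, xc ≠ 0 ∧ g xc = c • xc ∧ ∀ α β : K, xc ≠ α • D u + β • g (D u)) →
        (x4 ≠ 0 ∧ (∃ c : K, g x4 = c • x4) ∧ ∀ α β : K, x4 ≠ α • D u + β • g (D u))) := by
    by_cases hP : ∃ xc : V, ∃ c : K, xc ≠ 0 ∧ g xc = c • xc ∧
        ∀ α β : K, xc ≠ α • D u + β • g (D u)
    · obtain ⟨xc, c, h0, hc, hout⟩ := hP
      refine ⟨xc, ?_, fun _ => ⟨h0, ⟨c, hc⟩, hout⟩⟩
      intro h
      rw [hp, Submodule.mem_span_singleton] at h
      obtain ⟨κ, hκ⟩ := h
      apply hout (-κ) κ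
      rw [← hκ, hDD]
      module
    · exact ⟨D u, hDup, fun h => absurd h hP⟩
  obtain ⟨w, hwp, hwa⟩ := dcl hK p ![D u, y0, x3, x4] (by
    intro i
    fin_cases i
    · exact hDup
    · exact hy0p
    · exact hx3p
    · exact hx4p)
  have hw0 : w (D (D u)) = 0 := hwp _ (Submodule.mem_span_singleton_self _)
  have hw1 : w (D u) ≠ 0 := hwa 0
  have hw2 : w y0 ≠ 0 := hwa 1
  have hw3 : w x3 ≠ 0 := hwa 2
  have hw4 : w x4 ≠ 0 := hwa 3
  set s : K := w (D u) with hs
  set v : V := s⁻¹ • D u with hv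
  clear_value v s
  have hDu : D u = s • v := by rw [hv, smul_smul, mul_inv_cancel₀ hw1, one_smul]
  have hgDu : g (D u) = s • g v := by rw [hDu, map_smul]
  have h1 : w v = 1 := by rw [hv, map_smul, smul_eq_mul, ← hs, inv_mul_cancel₀ hw1]
  have hDv : D v = s⁻¹ • D (D u) := by rw [hv, map_smul]
  have hgv : g v = v + D v := by rw [hDa]; abel
  have h2 : w (g v) = 1 := by
    rw [hgv, map_add, h1, hDv, map_smul, hw0, smul_zero, add_zero]
  have h3 : z0 v ≠ 0 := by
    rw [hv, map_smul, smul_eq_mul]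
    exact mul_ne_zero (inv_ne_zero hw1) hζu
  have hv0 : v ≠ 0 := by
    intro h
    rw [h, map_zero] at h1
    exact zero_ne_one h1
  have h5 : g v ≠ v := fun h => hv0 (hinj v h)
  have hvne : ∀ c : K, g v ≠ c • v := by
    intro c hc
    apply hune c
    have : D (g u - c • u) = 0 := by
      rw [map_sub, map_smul, hDg, hgDu, hDu, hc, smul_comm, sub_self]
    exact sub_eq_zero.mp (hD0 _ this)
  have hfix : ∀ x, w x = 0 → g x - w (g x) • g v = x →
      ∃ κ' : K, x = κ' • g u ∧ (g u ∉ p → x = 0) := by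
    intro x hwx hTx
    have hDx : D x = w (g x) • g v := by
      rw [hDa]
      have : g x - x = (g x - w (g x) • g v) - x + w (g x) • g v := by abel
      rw [this, hTx, sub_self, zero_add]
    have hx : x = (w (g x) * s⁻¹) • g u := by
      apply hDinj
      have e1 : D ((w (g x) * s⁻¹) • g u) = (w (g x) * s⁻¹) • (s • g v) := by
        rw [D.map_smul, hDg, hgDu]
      rw [e1, hDx, smul_smul, mul_assoc, inv_mul_cancel₀ hw1, mul_one]
    refine ⟨w (g x) * s⁻¹, hx, fun hgu => ?_⟩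
    have hwgu : w (g u) ≠ 0 := by
      rw [← hx3 hgu]
      exact hw3
    have h0 : (w (g x) * s⁻¹) * w (g u) = 0 := by
      have := hwx
      rw [hx, map_smul, smul_eq_mul] at this
      exact this
    rcases mul_eq_zero.mp h0 with h | h
    · rw [hx, h, zero_smul]
    · exact absurd h hwgu
  refine ⟨v, w, h1, h2, h3, hw2, h5, ?_, ?_, ?_, ?_⟩
  · refine ⟨u - w u • v, ?_, ?_⟩
    · rw [map_sub, map_smul, h1, smul_eq_mul, mul_one, sub_self]
    · rw [map_sub, map_smul, map_sub, map_smul, h2, smul_eq_mul, mul_one, ← map_sub, ← hDa, ← hs]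
      exact hw1
  · intro hn1
    by_cases hP : ∃ xc : V, ∃ c : K, xc ≠ 0 ∧ g xc = c • xc ∧
        ∀ α β : K, xc ≠ α • D u + β • g (D u)
    · obtain ⟨h0, ⟨c, hc⟩, hout⟩ := hx4P hP
      refine r6_of_eigen g v w h1 h2 h5 hginj x4 c hc h0 (fun α β h => ?_) hw4
      apply hout (α * s⁻¹) (β * s⁻¹)
      rw [h, hgDu, hDu, smul_smul, smul_smul, mul_assoc, mul_assoc, inv_mul_cancel₀ hw1, mul_one,
        mul_one]
    · push Not at hP
      refine r6_of_none (by omega) g v w h1 h2 hinj hvne (fun x c hx0 hgx => ?_)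
      obtain ⟨α, β, hαβ⟩ := hP x c hx0 hgx
      refine ⟨α * s, β * s, ?_⟩
      rw [hαβ, hgDu, hDu, smul_smul, smul_smul]
  · intro x hwx hTx
    obtain ⟨κ', hx, hx0⟩ := hfix x hwx hTx
    by_cases hgu : g u ∈ p
    · rw [hp, Submodule.mem_span_singleton] at hgu
      obtain ⟨μ, hμ⟩ := hgu
      refine ⟨κ' * μ * s, ?_⟩
      have : g v - v = s⁻¹ • D (D u) := by rw [← hDv, hDa]
      rw [this, hx, ← hμ, smul_smul, smul_smul, mul_assoc, mul_inv_cancel₀ hw1, mul_one]
    · exact ⟨0, by rw [hx0 hgu, zero_smul]⟩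
  · intro hn1 x hwx hTx
    obtain ⟨κ', hx, hx0⟩ := hfix x hwx hTx
    apply hx0
    intro hgu
    rw [hp, Submodule.mem_span_singleton] at hgu
    obtain ⟨μ, hμ⟩ := hgu
    refine dim3 (by omega) g hdet hinj u hune μ ?_
    have e2 : D (D u) = g (g u) - (2 : K) • g u + u := by
      rw [hDa, hDa, map_sub]
      module
    rw [← e2]
    exact hμ.symm

end Cfsg.Agent.Lib.helper14.RuD
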