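import Mathlib
import Cfsg.Agent.Lib.helper14.RuA
import Cfsg.Agent.Lib.helper14.RuB
import Cfsg.Agent.Lib.helper14.RuC
import Cfsg.Agent.Lib.helper14.RuD

set_option autoImplicit false

/-!
# Factorisations into two regular unipotent endomorphisms: choosing a good pair, second case
-/

namespace Cfsg.Agent.Lib.helper14.RuE

open Module LinearMap Cardinal Cfsg.Agent.Lib.helper14.RuA Cfsg.Agent.Lib.helper14.RuB
  Cfsg.Agent.Lib.helper14.RuC Cfsg.Agent.Lib.helper14.RuD

universe u v
variable {K : Type u} [Field K] {V : Type v} [AddCommGroup V] [Module K V]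

/-- common end of the second case -/
theorem caseS_fin [FiniteDimensional K V] (hK : (4 : Cardinal.{u}) ≤ #K) (n : ℕ)
    (g : Module.End K V) (e : V) (z0 : Dual K V)
    (hdet : LinearMap.det g = 1)
    (hfix : ∀ x, g x = x → ∃ k : K, x = k • e)
    (ℓ : Dual K V) (hℓD : ∀ x, ℓ (g x - x) = 0) (v : V) (hℓv : ℓ v ≠ 0) (hz0v : z0 v ≠ 0)
    (hv1 : ∀ κ : K, κ • (g v - v) ≠ v) (hv2 : ∀ κ : K, κ • (g v - v) ≠ e) (hv3 : g v ≠ v)
    (xc : V) (c : K) (hxc : g xc = c • xc) (hxc0 : xc ≠ 0)
    (hxcout : ∀ α β : K, xc ≠ α • v + β • g v)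
    (x5 : V) (hx5 : ∀ κ : K, κ • (g v - v) ≠ x5)
    (h6 : ∀ w : Dual K V, w (g v - v) = 0 → w e ≠ 0 → w xc ≠ 0 → w x5 ≠ 0 →
      ∃ x, w x = 0 ∧ w (g x) ≠ 0) :
    ∃ (v' : V) (w : Dual K V), Good n g e z0 v' w := by
  classical
  have hginj := ginj_of_det g hdet
  set p : Submodule K V := Submodule.span K {g v - v} with hp
  have hmem : ∀ x, x ∈ p ↔ ∃ κ : K, κ • (g v - v) = x := by
    intro x
    rw [hp, Submodule.mem_span_singleton]
  have hp1 : v ∉ p := fun h => by
    obtain ⟨κ, hκ⟩ := (hmem _).mp h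
    exact hv1 κ hκ
  have hp2 : e ∉ p := fun h => by
    obtain ⟨κ, hκ⟩ := (hmem _).mp h
    exact hv2 κ hκ
  have hp3 : xc ∉ p := fun h => by
    obtain ⟨κ, hκ⟩ := (hmem _).mp h
    apply hxcout (-κ) κ
    rw [← hκ]
    module
  have hp4 : x5 ∉ p := fun h => by
    obtain ⟨κ, hκ⟩ := (hmem _).mp h
    exact hx5 κ hκ
  obtain ⟨w, hwp, hwa⟩ := dcl hK p ![v, e, xc, x5] (by
    intro i
    fin_cases i
    · exact hp1
    · exact hp2
    · exact hp3
    · exact hp4)
  have hw0 : w (g v - v) = 0 := hwp _ (Submodule.mem_span_singleton_self _)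
  have hw1 : w v ≠ 0 := hwa 0
  have hw2 : w e ≠ 0 := hwa 1
  have hw3 : w xc ≠ 0 := hwa 2
  have hw4 : w x5 ≠ 0 := hwa 3
  have hwgv : w (g v) = w v := by
    have := hw0
    rw [map_sub] at this
    exact sub_eq_zero.mp this
  obtain ⟨s, hs⟩ : ∃ s : K, s = w v := ⟨_, rfl⟩
  rw [← hs] at hw1 hwgv
  obtain ⟨v', hv'⟩ : ∃ v' : V, v' = s⁻¹ • v := ⟨_, rfl⟩
  have hv : v = s • v' := by rw [hv', smul_smul, mul_inv_cancel₀ hw1, one_smul]
  have hgv' : g v' = s⁻¹ • g v := by rw [hv', map_smul]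
  have hgv : g v = s • g v' := by rw [hgv', smul_smul, mul_inv_cancel₀ hw1, one_smul]
  have h1 : w v' = 1 := by rw [hv', map_smul, smul_eq_mul, ← hs, inv_mul_cancel₀ hw1]
  have h2 : w (g v') = 1 := by rw [hgv', map_smul, smul_eq_mul, hwgv, inv_mul_cancel₀ hw1]
  have h3 : z0 v' ≠ 0 := by
    rw [hv', map_smul, smul_eq_mul]
    exact mul_ne_zero (inv_ne_zero hw1) hz0v
  have h5 : g v' ≠ v' := by
    intro h
    apply hv3
    rw [hgv, h, ← hv]
  have hℓgv' : ℓ (g v') ≠ 0 := by
    have e1 : ℓ (g v) = ℓ v := by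
      have := hℓD v
      rw [map_sub] at this
      exact sub_eq_zero.mp this
    rw [hgv', map_smul, smul_eq_mul, e1]
    exact mul_ne_zero (inv_ne_zero hw1) hℓv
  have hfix0 : ∀ x, w x = 0 → g x - w (g x) • g v' = x → x = 0 := by
    intro x hwx hTx
    have hDx : g x - x = w (g x) • g v' := by
      have : g x - x = (g x - w (g x) • g v') - x + w (g x) • g v' := by abel
      rw [this, hTx, sub_self, zero_add]
    have h0 : w (g x) = 0 := by
      have := hℓD x
      rw [hDx, map_smul, smul_eq_mul] at this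
      rcases mul_eq_zero.mp this with h | h
      · exact h
      · exact absurd h hℓgv'
    rw [h0, zero_smul, sub_zero] at hTx
    obtain ⟨k, hk⟩ := hfix x hTx
    rw [hk, map_smul, smul_eq_mul] at hwx
    rcases mul_eq_zero.mp hwx with h | h
    · rw [hk, h, zero_smul]
    · exact absurd h hw2
  refine ⟨v', w, h1, h2, h3, hw2, h5, h6 w hw0 hw2 hw3 hw4, ?_, ?_, ?_⟩
  · intro _
    refine r6_of_eigen g v' w h1 h2 h5 hginj xc c hxc hxc0 (fun α β h => ?_) hw3
    apply hxcout (α * s⁻¹) (β * s⁻¹)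
    rw [h, hgv, hv, smul_smul, smul_smul, mul_assoc, mul_assoc, inv_mul_cancel₀ hw1, mul_one,
      mul_one]
  · intro x hwx hTx
    exact ⟨0, by rw [hfix0 x hwx hTx, zero_smul]⟩
  · intro _ x hwx hTx
    exact hfix0 x hwx hTx

/-- second case, generic sub-case -/
theorem caseS_gen [FiniteDimensional K V] (hK : (4 : Cardinal.{u}) ≤ #K) (n : ℕ)
    (g : Module.End K V) (e : V) (z0 : Dual K V)
    (hdet : LinearMap.det g = 1) (he : e ≠ 0) (hz0 : z0 ≠ 0) (hge : g e = e)
    (hfix : ∀ x, g x = x → ∃ k : K, x = k • e)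
    (ℓ : Dual K V) (hℓ0 : ℓ ≠ 0) (hℓD : ∀ x, ℓ (g x - x) = 0) (a : V) (ha : ¬ Eg g e a) :
    ∃ (v' : V) (w : Dual K V), Good n g e z0 v' w := by
  classical
  obtain ⟨b, hb⟩ := cov (X := V) hK 2 (by norm_num) ![z0, ℓ] (by
    intro i
    fin_cases i
    · exact hz0
    · exact hℓ0)
  have hbz : z0 b ≠ 0 := hb 0
  have hbℓ : ℓ b ≠ 0 := hb 1
  obtain ⟨v, -, hEv, hv1, hv2⟩ := p5 hK a b (Eg g e) ha (eig_three g e hge a b ha)
    (LinearMap.ker z0) (LinearMap.ker ℓ) (fun h => hbz (LinearMap.mem_ker.mp h.2))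
    (fun h => hbℓ (LinearMap.mem_ker.mp h.2))
  have hz0v : z0 v ≠ 0 := fun h => hv1 (LinearMap.mem_ker.mpr h)
  have hℓv : ℓ v ≠ 0 := fun h => hv2 (LinearMap.mem_ker.mpr h)
  have hv0 : v ≠ 0 := by
    rintro rfl
    exact hEv ⟨0, 0, by simp⟩
  have divide : ∀ (κ : K) (x y : V), κ ≠ 0 → κ • x = y → x = κ⁻¹ • y := by
    intro κ x y hκ h
    rw [← h, smul_smul, inv_mul_cancel₀ hκ, one_smul]
  refine caseS_fin hK n g e z0 hdet hfix ℓ hℓD v hℓv hz0v ?_ ?_ ?_ e 1 (by rw [hge, one_smul]) he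
    ?_ (g (g v) - g v) ?_ ?_
  · intro κ hκ
    by_cases hκ0 : κ = 0
    · rw [hκ0, zero_smul] at hκ
      exact hv0 hκ.symm
    · apply hEv
      refine ⟨κ⁻¹ * (1 + κ), 0, ?_⟩
      have h2 : κ • g v = (1 + κ) • v := by
        have : κ • g v = κ • (g v - v) + κ • v := by module
        rw [this, hκ]
        module
      rw [divide κ (g v) _ hκ0 h2, smul_smul, zero_smul, add_zero]
  · intro κ hκ
    have hκ0 : κ ≠ 0 := by
      rintro rfl
      rw [zero_smul] at hκ
      exact he hκ.symm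
    apply hEv
    refine ⟨1, κ⁻¹, ?_⟩
    have h2 : κ • g v = κ • v + e := by
      have : κ • g v = κ • (g v - v) + κ • v := by module
      rw [this, hκ]
      abel
    rw [divide κ (g v) _ hκ0 h2, smul_add, smul_smul, inv_mul_cancel₀ hκ0]
  · intro h
    exact hEv ⟨1, 0, by rw [h]; simp⟩
  · intro α β h
    by_cases hβ : β = 0
    · rw [hβ, zero_smul, add_zero] at h
      have hα : α ≠ 0 := by
        rintro rfl
        rw [zero_smul] at h
        exact he h
      have hv' : v = α⁻¹ • e := divide α v e hα h.symm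
      apply hEv
      refine ⟨0, α⁻¹, ?_⟩
      rw [zero_smul, zero_add]
      conv_lhs => rw [hv']
      rw [map_smul, hge]
    · apply hEv
      refine ⟨-(β⁻¹ * α), β⁻¹, ?_⟩
      have h2 : β • g v = e - α • v := by
        rw [h]
        abel
      rw [divide β (g v) _ hβ h2]
      module
  · intro κ hκ
    have : g (g v - κ • v) = g v - κ • v := by
      have h2 : g (g v - κ • v) - (g v - κ • v) = (g (g v) - g v) - κ • (g v - v) := by
        rw [map_sub, map_smul]
        module
      rw [hκ, sub_self] at h2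
      exact sub_eq_zero.mp h2
    obtain ⟨k, hk⟩ := hfix _ this
    apply hEv
    exact ⟨κ, k, by rw [← hk]; abel⟩
  · intro w hw0 _ _ hw4
    refine ⟨g v - v, hw0, ?_⟩
    rw [map_sub]
    exact hw4

/-- second case, special sub-case: `g` is scalar modulo `e` -/
theorem caseS_spec [FiniteDimensional K V] (hK : (4 : Cardinal.{u}) ≤ #K) (n : ℕ)
    (hN : 3 ≤ finrank K V) (g : Module.End K V) (e : V) (z0 : Dual K V)
    (hdet : LinearMap.det g = 1) (he : e ≠ 0) (hz0 : z0 ≠ 0) (hge : g e = e)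
    (hfix : ∀ x, g x = x → ∃ k : K, x = k • e) (hall : ∀ x, Eg g e x) :
    ∃ (v' : V) (w : Dual K V), Good n g e z0 v' w := by
  classical
  obtain ⟨lam, hlam⟩ : ∃ lam : K, ∀ x, ∃ d : K, g x = lam • x + d • e := by
    set p : Submodule K V := Submodule.span K {e} with hp
    have hpg : p ≤ p.comap g := by
      intro x hx
      rw [Submodule.mem_comap]
      rw [hp, Submodule.mem_span_singleton] at hx ⊢
      obtain ⟨k, hk⟩ := hx
      exact ⟨k, by rw [← hk, map_smul, hge]⟩
    set gq : Module.End K (V ⧸ p) := p.mapQ p g hpg with hgq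
    have hme : (Submodule.Quotient.mk e : V ⧸ p) = 0 := by
      rw [Submodule.Quotient.mk_eq_zero]
      exact Submodule.mem_span_singleton_self e
    obtain ⟨lam, hl⟩ : ∃ lam : K, gq = lam • 1 := by
      apply LinearMap.exists_eq_smul_id_of_forall_notLinearIndependent
      intro xq hli
      obtain ⟨x, rfl⟩ := Submodule.Quotient.mk_surjective p xq
      obtain ⟨c, d, hcd⟩ := hall x
      rw [LinearIndependent.pair_iff] at hli
      have := hli (-c) 1 (by
        rw [hgq, Submodule.mapQ_apply, hcd, Submodule.Quotient.mk_add, Submodule.Quotient.mk_smul,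
          Submodule.Quotient.mk_smul, hme]
        simp)
      exact one_ne_zero this.2
    refine ⟨lam, fun x => ?_⟩
    have h1 : gq (Submodule.Quotient.mk x) = lam • Submodule.Quotient.mk x := by
      rw [hl]
      simp
    rw [hgq, Submodule.mapQ_apply, ← Submodule.Quotient.mk_smul, Submodule.Quotient.eq] at h1
    rw [hp, Submodule.mem_span_singleton] at h1
    obtain ⟨d, hd⟩ := h1
    exact ⟨d, by rw [hd]; abel⟩
  obtain ⟨ε0, hε0⟩ := exists_dual_eq_one (K := K) e he
  obtain ⟨φ, hφdef⟩ : ∃ φ : Dual K V, φ = ε0 ∘ₗ (g - lam • 1) := ⟨_, rfl⟩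
  have hφ : ∀ x, g x = lam • x + φ x • e := by
    intro x
    obtain ⟨d, hd⟩ := hlam x
    have : φ x = d := by
      rw [hφdef, LinearMap.comp_apply, LinearMap.sub_apply, LinearMap.smul_apply,
        Module.End.one_apply, hd, add_sub_cancel_left, map_smul, hε0, smul_eq_mul, mul_one]
    rw [this]
    exact hd
  have hlam1 : lam ≠ 1 := by
    intro h1
    obtain ⟨x, hx0, hφx, hεx⟩ := exists_ker2 hN φ ε0
    have : g x = x := by
      rw [hφ x, hφx, h1]
      simp
    obtain ⟨k, hk⟩ := hfix x this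
    rw [hk, map_smul, hε0, smul_eq_mul, mul_one] at hεx
    rw [hεx, zero_smul] at hk
    exact hx0 hk
  have hlam1' : lam - 1 ≠ 0 := sub_ne_zero.mpr hlam1
  have hφe : φ e = 1 - lam := by
    have h1 := hφ e
    rw [hge] at h1
    have h2 : (1 - lam - φ e) • e = 0 := by
      have : (1 - lam - φ e) • e = e - (lam • e + φ e • e) := by module
      rw [this, ← h1, sub_self]
    rcases smul_eq_zero.mp h2 with h | h
    · linear_combination -h
    · exact absurd h he
  have hφe0 : φ e ≠ 0 := by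
    rw [hφe]
    intro h
    apply hlam1
    linear_combination -h
  have hℓD : ∀ x, φ (g x - x) = 0 := by
    intro x
    rw [map_sub]
    have : φ (g x) = lam * φ x + φ x * φ e := by
      conv_lhs => rw [hφ x]
      rw [map_add, map_smul, map_smul, smul_eq_mul, smul_eq_mul]
    rw [this, hφe]
    ring
  have hφg : ∀ x, φ (g x) = φ x := by
    intro x
    have := hℓD x
    rw [map_sub] at this
    exact sub_eq_zero.mp this
  obtain ⟨x1, hx10, hx1, -⟩ := exists_ker2 hN ε0 ε0
  obtain ⟨f, hf⟩ := exists_dual_eq_one (K := K) x1 hx10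
  obtain ⟨ξ, hξdef⟩ : ∃ ξ : Dual K V, ξ = f - f e • ε0 := ⟨_, rfl⟩
  have hξe : ξ e = 0 := by
    rw [hξdef]
    simp [hε0]
  have hξ1 : ξ x1 = 1 := by
    rw [hξdef]
    simp [hf, hx1]
  have hξ0 : ξ ≠ 0 := by
    intro h
    rw [h] at hξ1
    simp at hξ1
  have hφ0 : φ ≠ 0 := by
    intro h
    rw [h] at hφe0
    simp at hφe0
  have hξg : ∀ x, ξ (g x) = lam * ξ x := by
    intro x
    conv_lhs => rw [hφ x]
    rw [map_add, map_smul, map_smul, hξe, smul_zero, add_zero, smul_eq_mul]
  obtain ⟨v, hv⟩ := cov (X := V) hK 3 (by norm_num) ![φ, z0, ξ] (by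
    intro i
    fin_cases i
    · exact hφ0
    · exact hz0
    · exact hξ0)
  have hφv : φ v ≠ 0 := hv 0
  have hz0v : z0 v ≠ 0 := hv 1
  have hξv : ξ v ≠ 0 := hv 2
  obtain ⟨xc, hxc0, hφxc, hξxc⟩ := exists_ker2 hN φ ξ
  have hxcout : ∀ α β : K, xc ≠ α • v + β • g v := by
    intro α β h
    have e1 : (α + β * lam) * ξ v = 0 := by
      have := hξxc
      rw [h, map_add, map_smul, map_smul, hξg, smul_eq_mul, smul_eq_mul] at this
      linear_combination this
    have e2 : (α + β) * φ v = 0 := by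
      have := hφxc
      rw [h, map_add, map_smul, map_smul, hφg, smul_eq_mul, smul_eq_mul] at this
      linear_combination this
    have e1' : α + β * lam = 0 := (mul_eq_zero.mp e1).resolve_right hξv
    have e2' : α + β = 0 := (mul_eq_zero.mp e2).resolve_right hφv
    have hβ : β = 0 := by
      have : β * (lam - 1) = 0 := by linear_combination e1' - e2'
      exact (mul_eq_zero.mp this).resolve_right hlam1'
    have hα : α = 0 := by
      rw [hβ, add_zero] at e2'
      exact e2'
    rw [hα, hβ, zero_smul, zero_smul, add_zero] at h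
    exact hxc0 h
  refine caseS_fin hK n g e z0 hdet hfix φ hℓD v hφv hz0v ?_ ?_ ?_ xc lam ?_ hxc0 hxcout xc ?_ ?_
  · intro κ hκ
    have := congrArg φ hκ
    rw [map_smul, hℓD, smul_zero] at this
    exact hφv this.symm
  · intro κ hκ
    have := congrArg φ hκ
    rw [map_smul, hℓD, smul_zero] at this
    exact hφe0 this.symm
  · intro h
    have := congrArg ξ h
    rw [hξg] at this
    have h2 : (lam - 1) * ξ v = 0 := by linear_combination this
    rcases mul_eq_zero.mp h2 with h3 | h3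
    · exact hlam1' h3
    · exact hξv h3
  · rw [hφ xc, hφxc, zero_smul, add_zero]
  · intro κ hκ
    apply hxcout (-κ) κ
    rw [← hκ]
    module
  · intro w _ hwe hwxc _
    refine ⟨xc - (w xc * (w e)⁻¹) • e, ?_, ?_⟩
    · rw [map_sub, map_smul, smul_eq_mul, mul_assoc, inv_mul_cancel₀ hwe, mul_one, sub_self]
    · have hgxc : g xc = lam • xc := by rw [hφ xc, hφxc, zero_smul, add_zero]
      rw [map_sub, map_smul, hge, hgxc, map_sub, map_smul, map_smul, smul_eq_mul, smul_eq_mul,
        mul_assoc, inv_mul_cancel₀ hwe, mul_one]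
      have : lam * w xc - w xc = (lam - 1) * w xc := by ring
      rw [this]
      exact mul_ne_zero hlam1' hwxc

/-- Case S: `g` has a nonzero fixed vector `e`, and all fixed vectors are multiples of `e` -/
theorem caseS [FiniteDimensional K V] (hK : (4 : Cardinal.{u}) ≤ #K) (n : ℕ)
    (hN : 3 ≤ finrank K V) (g : Module.End K V) (e : V) (z0 : Dual K V)
    (hdet : LinearMap.det g = 1) (he : e ≠ 0) (hz0 : z0 ≠ 0) (hge : g e = e)
    (hfix : ∀ x, g x = x → ∃ k : K, x = k • e) :
    ∃ (v' : V) (w : Dual K V), Good n g e z0 v' w := by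
  classical
  by_cases hall : ∀ x, Eg g e x
  · exact caseS_spec hK n hN g e z0 hdet he hz0 hge hfix hall
  · push Not at hall
    obtain ⟨a, ha⟩ := hall
    set D : Module.End K V := g - 1 with hD
    have hDa : ∀ x, D x = g x - x := fun x => by simp [hD]
    have hrange : LinearMap.range D < ⊤ := by
      rw [lt_top_iff_ne_top]
      intro htop
      have hsurj : Function.Surjective D := LinearMap.range_eq_top.mp htop
      have hinj : Function.Injective D := LinearMap.injective_iff_surjective.mpr hsurj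
      apply he
      apply hinj
      rw [hDa, hge, sub_self, map_zero]
    obtain ⟨ℓ, hℓ0, hℓ⟩ := Submodule.exists_dual_map_eq_bot_of_lt_top hrange inferInstance
    have hℓD : ∀ x, ℓ (g x - x) = 0 := by
      intro x
      have h1 : ℓ (D x) ∈ (LinearMap.range D).map ℓ :=
        Submodule.mem_map_of_mem (LinearMap.mem_range_self D x)
      rw [hℓ, Submodule.mem_bot, hDa] at h1
      exact h1
    exact caseS_gen hK n g e z0 hdet he hz0 hge hfix ℓ hℓ0 hℓD a ha

end Cfsg.Agent.Lib.helper14.RuE
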