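import Mathlib
import Cfsg.Agent.Lib.helper14.RuA
import Cfsg.Agent.Lib.helper14.RuB
import Cfsg.Agent.Lib.helper14.RuC
import Cfsg.Agent.Lib.helper14.RuD
import Cfsg.Agent.Lib.helper14.RuE

set_option autoImplicit false

/-!
# Factorisations into two regular unipotent endomorphisms: the induction
-/

namespace Cfsg.Agent.Lib.helper14.RuF

open Module LinearMap Cardinal Cfsg.Agent.Lib.helper14.RuA Cfsg.Agent.Lib.helper14.RuB
  Cfsg.Agent.Lib.helper14.RuC Cfsg.Agent.Lib.helper14.RuD Cfsg.Agent.Lib.helper14.RuE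

universe u v
variable {K : Type u} [Field K] {V : Type v} [AddCommGroup V] [Module K V]

theorem eq_one_of_finrank_one [FiniteDimensional K V] (h1 : finrank K V = 1) (g : Module.End K V)
    (hdet : LinearMap.det g = 1) : g = 1 := by
  obtain ⟨c, hc⟩ : ∃ c : K, g = c • 1 := by
    apply LinearMap.exists_eq_smul_id_of_forall_notLinearIndependent
    intro x hli
    have := hli.fintype_card_le_finrank
    rw [h1] at this
    simp at this
  rw [hc, LinearMap.det_smul, h1, pow_one, map_one, mul_one] at hdet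
  rw [hc, hdet, one_smul]

theorem main_Q (hK : (4 : Cardinal.{u}) ≤ #K) : ∀ (n : ℕ) (V : Type v) [AddCommGroup V]
    [Module K V] [FiniteDimensional K V], finrank K V = n → ∀ (g : Module.End K V) (y : V)
    (z : Dual K V), Cls g y z → Fact g y z := by
  intro n
  induction n with
  | zero =>
    intro V _ _ _ hn g y z hC
    exfalso
    have : Subsingleton V := Module.finrank_zero_iff.mp hn
    exact hC.2.1 (Subsingleton.elim _ _)
  | succ n ih =>
    intro V _ _ _ hn g y z hC
    obtain ⟨hdet, hy, hz, hns, hfixy, hcl2⟩ := hC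
    rcases Nat.eq_zero_or_pos n with h0 | hpos
    · subst h0
      have hn1 : finrank K V = 1 := hn
      have hg := eq_one_of_finrank_one hn1 g hdet
      refine ⟨1, 1, by rw [hg, mul_one], by rw [sub_self, hn1, pow_one],
        by rw [sub_self, hn1, pow_one], ?_, ?_⟩
      · rw [hn1]
        simpa using hy
      · rw [hn1, Nat.sub_self, pow_zero, Module.End.one_eq_id, LinearMap.comp_id]
        exact hz
    · obtain ⟨m, rfl⟩ : ∃ m, n = m + 1 := ⟨n - 1, by omega⟩
      have hn2 : finrank K V = m + 2 := hn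
      by_cases hfix0 : ∀ x, g x = x → x = 0
      · obtain ⟨v, w, hG⟩ := caseI hK m hn2 g y z hdet hy hz (hns (by omega)) hfix0
        exact step_good m hn2 ih g y z v w hdet hG
      · push Not at hfix0
        obtain ⟨x, hx, hx0⟩ := hfix0
        obtain ⟨k, hk⟩ := hfixy x hx
        have hk0 : k ≠ 0 := by
          rintro rfl
          rw [zero_smul] at hk
          exact hx0 hk
        have hgy : g y = y := by
          rw [hk, map_smul] at hx
          exact smul_right_injective V hk0 hx
        have hm : m ≠ 0 := by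
          rintro rfl
          exact hx0 (hcl2 hn2 x hx)
        obtain ⟨v, w, hG⟩ := caseS hK m (by omega) g y z hdet hy hz hgy hfixy
        exact step_good m hn2 ih g y z v w hdet hG

/-- regular unipotent endomorphisms -/
def RegU (A : Module.End K V) : Prop :=
  (A - 1) ^ (finrank K V) = 0 ∧ (A - 1) ^ (finrank K V - 1) ≠ 0

theorem regU_of_fact (g : Module.End K V) (y : V) (z : Dual K V) (h : Fact g y z) :
    ∃ A B : Module.End K V, g = A * B ∧ RegU A ∧ RegU B := by
  obtain ⟨A, B, hAB, hA, hB, hy, hz⟩ := h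
  refine ⟨A, B, hAB, ⟨hA, fun h0 => hy ?_⟩, ⟨hB, fun h0 => hz ?_⟩⟩
  · rw [h0, LinearMap.zero_apply]
  · rw [h0, LinearMap.comp_zero]

theorem exists_dual_two {W : Type v} [AddCommGroup W] [Module K W]
    (hK : (4 : Cardinal.{u}) ≤ #K) (p1 q1 : W) (hp1 : p1 ≠ 0)
    (hq1 : q1 ≠ 0) (ρ : K) : ∃ a : Dual K W, a p1 ≠ 0 ∧ a q1 ≠ ρ := by
  classical
  obtain ⟨f, hf⟩ := cov (X := Dual K W) hK 2 (by norm_num)
    ![Dual.eval K W p1, Dual.eval K W q1] (by
      intro i
      fin_cases i
      · intro h0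
        obtain ⟨f, hf⟩ := exists_dual_eq_one (K := K) p1 hp1
        have := congrArg (fun φ : Dual K (Dual K W) => φ f) h0
        simp [hf] at this
      · intro h0
        obtain ⟨f, hf⟩ := exists_dual_eq_one (K := K) q1 hq1
        have := congrArg (fun φ : Dual K (Dual K W) => φ f) h0
        simp [hf] at this)
  have hfp : f p1 ≠ 0 := hf 0
  have hfq : f q1 ≠ 0 := hf 1
  obtain ⟨t, ht⟩ := exists_avoid hK ({0, ρ * (f q1)⁻¹} : Finset K) (by
    refine le_trans (Finset.card_insert_le _ _) ?_
    simp)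
  rw [Finset.mem_insert, Finset.mem_singleton] at ht
  push Not at ht
  refine ⟨t • f, ?_, ?_⟩
  · rw [LinearMap.smul_apply, smul_eq_mul]
    exact mul_ne_zero ht.1 hfp
  · rw [LinearMap.smul_apply, smul_eq_mul]
    intro h
    apply ht.2
    rw [← h, mul_assoc, mul_inv_cancel₀ hfq, mul_one]

/-- gluing along a fixed vector -/
theorem glue [FiniteDimensional K V] (hK : (4 : Cardinal.{u}) ≤ #K) (m : ℕ)
    (hn : finrank K V = m + 2)
    (IH : ∀ (W : Type v) [AddCommGroup W] [Module K W] [FiniteDimensional K W],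
      finrank K W = m + 1 → ∀ g2 : Module.End K W, LinearMap.det g2 = 1 →
      (1 ≤ m → ¬ ∃ c : K, g2 = c • 1) → ∃ A B : Module.End K W, g2 = A * B ∧ RegU A ∧ RegU B)
    (g : Module.End K V) (e : V) (he : e ≠ 0) (hge : g e = e) (hdet : LinearMap.det g = 1)
    (hnsq : 1 ≤ m → ¬ ∃ c : K, ∀ x, ∃ d : K, g x = c • x + d • e) :
    ∃ A B : Module.End K V, g = A * B ∧ RegU A ∧ RegU B := by
  classical
  obtain ⟨ε0, hε0⟩ := exists_dual_eq_one (K := K) e he
  have hw : ε0 ≠ 0 := by
    intro h0
    rw [h0] at hε0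
    simp at hε0
  have hfr : finrank K (LinearMap.ker ε0) + 1 = finrank K V :=
    Module.Dual.finrank_ker_add_one_of_ne_zero hw
  have hfr' : finrank K (LinearMap.ker ε0) = m + 1 := by omega
  set Tm : V →ₗ[K] V := g - (ε0 ∘ₗ g).smulRight e with hTm
  have hTm_apply : ∀ x, Tm x = g x - ε0 (g x) • e := by
    intro x
    simp [hTm]
  have hmem : ∀ x, Tm x ∈ LinearMap.ker ε0 := by
    intro x
    rw [LinearMap.mem_ker, hTm_apply, map_sub, map_smul, hε0, smul_eq_mul, mul_one, sub_self]
  set g2 : Module.End K (LinearMap.ker ε0) :=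
    (Tm.codRestrict (LinearMap.ker ε0) hmem) ∘ₗ (LinearMap.ker ε0).subtype with hg2def
  have hg2 : ∀ x : LinearMap.ker ε0, ((g2 x : LinearMap.ker ε0) : V) = g x - ε0 (g x) • e := by
    intro x
    rw [hg2def, LinearMap.comp_apply, LinearMap.codRestrict_apply, Submodule.subtype_apply,
      hTm_apply]
  have hdet2 : LinearMap.det g2 = 1 := by
    rw [det_quot e ε0 hε0 g hge g2 hg2, hdet]
  have hns2 : 1 ≤ m → ¬ ∃ c : K, g2 = c • 1 := by
    rintro hm ⟨c, hc⟩
    apply hnsq hm
    refine ⟨c, fun x => ⟨ε0 (g (x - ε0 x • e)) + ε0 x - c * ε0 x, ?_⟩⟩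
    have h1 := hg2 (pW e ε0 hε0 x)
    rw [hc, LinearMap.smul_apply, Module.End.one_apply, Submodule.coe_smul, pW_coe] at h1
    have h2 : g (x - ε0 x • e) = g x - ε0 x • e := by rw [map_sub, map_smul, hge]
    have h3 : g x = g (x - ε0 x • e) + ε0 x • e := by
      rw [h2]
      abel
    have h4 : g (x - ε0 x • e) = c • (x - ε0 x • e) + ε0 (g (x - ε0 x • e)) • e :=
      sub_eq_iff_eq_add.mp h1.symm
    calc g x = g (x - ε0 x • e) + ε0 x • e := h3
      _ = (c • (x - ε0 x • e) + ε0 (g (x - ε0 x • e)) • e) + ε0 x • e :=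
        congrArg (· + ε0 x • e) h4
      _ = c • x + (ε0 (g (x - ε0 x • e)) + ε0 x - c * ε0 x) • e := by module
  obtain ⟨A2, B2, hAB, ⟨hA2, hA2'⟩, ⟨hB2, hB2'⟩⟩ := IH (LinearMap.ker ε0) hfr' g2 hdet2 hns2
  rw [hfr'] at hA2 hB2 hA2' hB2'
  simp only [Nat.add_sub_cancel] at hA2' hB2'
  have hA3 : (A2 - 1) ^ (m + 1 + 1) = 0 := by rw [pow_succ, hA2, zero_mul]
  have hB3 : (B2 - 1) ^ (m + 1 + 1) = 0 := by rw [pow_succ, hB2, zero_mul]
  obtain ⟨r, hrdef⟩ : ∃ r : Dual K (LinearMap.ker ε0),
      r = (ε0 ∘ₗ g) ∘ₗ (LinearMap.ker ε0).subtype := ⟨_, rfl⟩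
  have hr : ∀ x : LinearMap.ker ε0, r x = ε0 (g x) := by
    intro x
    rw [hrdef]
    simp
  obtain ⟨xP, hxP⟩ : ∃ xP, ((A2 - 1) ^ m) xP ≠ 0 := by
    by_contra hcon
    push Not at hcon
    exact hA2' (LinearMap.ext hcon)
  obtain ⟨xQ, hxQ⟩ : ∃ xQ, ((B2 - 1) ^ m) xQ ≠ 0 := by
    by_contra hcon
    push Not at hcon
    exact hB2' (LinearMap.ext hcon)
  obtain ⟨a, ha1, ha2⟩ := exists_dual_two hK _ _ hxP hxQ (r (((B2 - 1) ^ m) xQ))
  obtain ⟨b, hbdef⟩ : ∃ b : Dual K (LinearMap.ker ε0), b = r - a ∘ₗ B2 := ⟨_, rfl⟩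
  have hb : ∀ x, b x = r x - a (B2 x) := by
    intro x
    rw [hbdef]
    simp
  have hBq : B2 (((B2 - 1) ^ m) xQ) = ((B2 - 1) ^ m) xQ := by
    have h1 : (B2 - 1) (((B2 - 1) ^ m) xQ) = 0 := by
      rw [← Module.End.mul_apply, ← pow_succ', hB2, LinearMap.zero_apply]
    rw [LinearMap.sub_apply, Module.End.one_apply] at h1
    exact sub_eq_zero.mp h1
  refine ⟨Um e ε0 hε0 a A2, Um e ε0 hε0 b B2, ?_, ⟨?_, ?_⟩, ⟨?_, ?_⟩⟩
  · refine Um_mul_Um e ε0 hε0 g hge A2 B2 a b (fun x => ?_) (fun x => ?_)
    · rw [← Module.End.mul_apply, ← hAB]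
      exact hg2 x
    · rw [hb, hr]
      ring
  · ext x
    rw [hn, Um_pow, hA2, hA3]
    simp
  · rw [hn, show m + 2 - 1 = m + 1 by omega]
    intro h0
    have := congrArg (fun f : Module.End K V => f (xP : V)) h0
    simp only [LinearMap.zero_apply] at this
    rw [Um_pow, pW_mem, hA2] at this
    simp only [LinearMap.zero_apply, Submodule.coe_zero, add_zero] at this
    rcases smul_eq_zero.mp this with h | h
    · exact ha1 h
    · exact he h
  · ext x
    rw [hn, Um_pow, hB2, hB3]
    simp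
  · rw [hn, show m + 2 - 1 = m + 1 by omega]
    intro h0
    have := congrArg (fun f : Module.End K V => f (xQ : V)) h0
    simp only [LinearMap.zero_apply] at this
    rw [Um_pow, pW_mem, hB2] at this
    simp only [LinearMap.zero_apply, Submodule.coe_zero, add_zero] at this
    rcases smul_eq_zero.mp this with h | h
    · rw [hb, hBq] at h
      exact ha2 (sub_eq_zero.mp h).symm
    · exact he h

theorem indep_fixed (g : Module.End K V) (e e' : V) (hne' : ∀ k : K, e' ≠ k • e)
    (hge' : g e' = e') (c : K) (hc : ∀ x, ∃ d : K, g x = c • x + d • e) : c = 1 := by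
  by_contra hc1
  obtain ⟨d, hd⟩ := hc e'
  rw [hge'] at hd
  have h1 : (1 - c) • e' = d • e := by
    have : (1 - c) • e' = e' - c • e' := by module
    rw [this]
    nth_rewrite 1 [hd]
    abel
  have h2 : 1 - c ≠ 0 := sub_ne_zero.mpr (Ne.symm hc1)
  apply hne' ((1 - c)⁻¹ * d)
  rw [← smul_smul, ← h1, smul_smul, inv_mul_cancel₀ h2, one_smul]

theorem main_T (hK : (4 : Cardinal.{u}) ≤ #K) : ∀ (n : ℕ) (V : Type v) [AddCommGroup V]
    [Module K V] [FiniteDimensional K V], finrank K V = n + 1 → ∀ g : Module.End K V,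
    LinearMap.det g = 1 → (1 ≤ n → ¬ ∃ c : K, g = c • 1) →
    ∃ A B : Module.End K V, g = A * B ∧ RegU A ∧ RegU B := by
  intro n
  induction n with
  | zero =>
    intro V _ _ _ hn g hdet _
    have hn1 : finrank K V = 1 := hn
    have hg := eq_one_of_finrank_one hn1 g hdet
    have hpos : 0 < finrank K V := by omega
    have : Nontrivial V := Module.finrank_pos_iff.mp hpos
    obtain ⟨y, hy⟩ := exists_ne (0 : V)
    have hR : RegU (1 : Module.End K V) := by
      refine ⟨by rw [sub_self, hn1, pow_one], ?_⟩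
      rw [hn1, Nat.sub_self, pow_zero]
      intro h0
      have := congrArg (fun f : Module.End K V => f y) h0
      simp at this
      exact hy this
    exact ⟨1, 1, by rw [hg, mul_one], hR, hR⟩
  | succ m ih =>
    intro V _ _ _ hn g hdet hns
    have hn2 : finrank K V = m + 2 := hn
    have hns' : ¬ ∃ c : K, g = c • 1 := hns (by omega)
    have hpos : 0 < finrank K V := by omega
    have : Nontrivial V := Module.finrank_pos_iff.mp hpos
    obtain ⟨y0, hy0⟩ := exists_ne (0 : V)
    obtain ⟨z0, hz0⟩ := exists_dual_ne_zero (K := K) y0 hy0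
    by_cases hfix0 : ∀ x, g x = x → x = 0
    · have hC : Cls g y0 z0 := ⟨hdet, hy0, hz0, fun _ => hns',
        fun x hx => ⟨0, by rw [hfix0 x hx, zero_smul]⟩, fun _ x hx => hfix0 x hx⟩
      exact regU_of_fact g y0 z0 (main_Q hK (m + 2) V hn2 g y0 z0 hC)
    · push Not at hfix0
      obtain ⟨e, hge, he⟩ := hfix0
      by_cases hm0 : m = 0
      · subst hm0
        exact glue hK 0 hn2 ih g e he hge hdet (fun h => absurd h (by norm_num))
      · by_cases hline : ∀ x, g x = x → ∃ k : K, x = k • e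
        · have hC : Cls g e z0 := ⟨hdet, he, hz0, fun _ => hns', hline,
            fun h2 => absurd (hn2.symm.trans h2) (by omega)⟩
          exact regU_of_fact g e z0 (main_Q hK (m + 2) V hn2 g e z0 hC)
        · push Not at hline
          obtain ⟨e', hge', hne'⟩ := hline
          have he' : e' ≠ 0 := by
            intro h0
            apply hne' 0
            rw [h0, zero_smul]
          have hne : ∀ k : K, e ≠ k • e' := by
            intro k hk
            have hk0 : k ≠ 0 := by
              rintro rfl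
              rw [zero_smul] at hk
              exact he hk
            apply hne' k⁻¹
            rw [hk, smul_smul, inv_mul_cancel₀ hk0, one_smul]
          by_cases hbad : ∃ c : K, ∀ x, ∃ d : K, g x = c • x + d • e
          · refine glue hK m hn2 ih g e' he' hge' hdet (fun _ => ?_)
            rintro ⟨c', hc'⟩
            obtain ⟨c, hc⟩ := hbad
            have hc1 : c = 1 := indep_fixed g e e' hne' hge' c hc
            have hc1' : c' = 1 := indep_fixed g e' e hne hge c' hc'
            apply hns'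
            refine ⟨1, ?_⟩
            ext x
            obtain ⟨d, hd⟩ := hc x
            obtain ⟨d', hd'⟩ := hc' x
            rw [hc1, one_smul] at hd
            rw [hc1', one_smul] at hd'
            have h1 : d • e = d' • e' := by
              have := hd.symm.trans hd'
              exact add_left_cancel this
            have hd0 : d = 0 := by
              by_contra hd0
              apply hne (d⁻¹ * d')
              rw [← smul_smul, ← h1, smul_smul, inv_mul_cancel₀ hd0, one_smul]
            rw [hd, hd0, zero_smul, add_zero]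
            simp
          · exact glue hK m hn2 ih g e he hge hdet (fun _ => hbad)

end Cfsg.Agent.Lib.helper14.RuF
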