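import Mathlib
import Cfsg.Agent.Lib.helper14.RuF

set_option autoImplicit false

/-!
# Regular unipotent endomorphisms of `Fin n → K` are conjugate to the Jordan block
-/

namespace Cfsg.Agent.Lib.helper14.RuG

open Module LinearMap Cardinal Cfsg.Agent.Lib.helper14.RuF

universe u v
variable {K : Type u} [Field K]

theorem li_pow {V : Type v} [AddCommGroup V] [Module K V] (N : Module.End K V) (n : ℕ) (x0 : V)
    (hN : (N ^ n) x0 = 0) (hx0 : (N ^ (n - 1)) x0 ≠ 0) :
    LinearIndependent K (fun i : Fin n => (N ^ (i : ℕ)) x0) := by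
  classical
  rw [Fintype.linearIndependent_iff]
  intro a ha
  have key : ∀ k : ℕ, ∀ i : Fin n, (i : ℕ) = k → a i = 0 := by
    intro k
    induction k using Nat.strong_induction_on with
    | _ k ih =>
      intro i hik
      have hkn : k < n := hik ▸ i.2
      have h1 := congrArg (fun y => (N ^ (n - 1 - k)) y) ha
      simp only [map_sum, map_smul, map_zero] at h1
      rw [Finset.sum_eq_single i] at h1
      · rw [← Module.End.mul_apply, ← pow_add, hik, (by omega : n - 1 - k + k = n - 1)] at h1
        exact (smul_eq_zero.mp h1).resolve_right hx0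
      · intro j _ hji
        rcases lt_or_gt_of_ne (Fin.val_ne_of_ne hji) with hlt | hgt
        · rw [ih j (hik ▸ hlt) j rfl, zero_smul]
        · rw [← Module.End.mul_apply, ← pow_add]
          have : n - 1 - k + (j : ℕ) = ((j : ℕ) - k - 1) + n := by omega
          rw [this, pow_add, Module.End.mul_apply, hN, map_zero, smul_zero]
      · intro hi
        exact absurd (Finset.mem_univ i) hi
  intro i
  exact key i i rfl

theorem conj_J (n : ℕ) (hn : 1 ≤ n) (MA : Matrix (Fin n) (Fin n) K)
    (hR : RegU (Matrix.toLin' MA)) (J : Matrix (Fin n) (Fin n) K)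
    (hJ : ∀ i j : Fin n, J i j = if i = j then 1 else if j.val = i.val + 1 then 1 else 0) :
    ∃ (P P' : Matrix (Fin n) (Fin n) K), P * P' = 1 ∧ P' * P = 1 ∧ MA = P * J * P' := by
  classical
  haveI : Nonempty (Fin n) := ⟨⟨0, by omega⟩⟩
  obtain ⟨hR1, hR2⟩ := hR
  have hfr : finrank K (Fin n → K) = n := Module.finrank_fin_fun K
  rw [hfr] at hR1 hR2
  obtain ⟨A, hAdef⟩ : ∃ A : Module.End K (Fin n → K), A = Matrix.toLin' MA := ⟨_, rfl⟩
  rw [← hAdef] at hR1 hR2
  obtain ⟨N, hNdef⟩ : ∃ N : Module.End K (Fin n → K), N = A - 1 := ⟨_, rfl⟩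
  rw [← hNdef] at hR1 hR2
  have hAN : ∀ x, A x = x + N x := by
    intro x
    rw [hNdef]
    simp
  obtain ⟨x0, hx0⟩ : ∃ x0, (N ^ (n - 1)) x0 ≠ 0 := by
    by_contra hcon
    push Not at hcon
    exact hR2 (LinearMap.ext hcon)
  have hNn : (N ^ n) x0 = 0 := by rw [hR1, LinearMap.zero_apply]
  have hli := li_pow N n x0 hNn hx0
  have hli' : LinearIndependent K (fun j : Fin n => (N ^ ((Fin.rev j : Fin n) : ℕ)) x0) :=
    hli.comp Fin.rev Fin.rev_injective
  set b : Basis (Fin n) K (Fin n → K) :=
    basisOfLinearIndependentOfCardEqFinrank hli' (by simp) with hbdef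
  have hb : ∀ j : Fin n, b j = (N ^ ((Fin.rev j : Fin n) : ℕ)) x0 := by
    intro j
    rw [hbdef, coe_basisOfLinearIndependentOfCardEqFinrank]
  have key : ∀ j : Fin n, A (b j) =
      b j + (if h : 0 < j.val then b ⟨j.val - 1, by omega⟩ else 0) := by
    intro j
    rw [hAN]
    congr 1
    rw [hb, ← Module.End.mul_apply, ← pow_succ']
    split_ifs with h
    · rw [hb]
      congr 2
      rw [Fin.val_rev, Fin.val_rev]
      have := j.2
      simp only
      omega
    · have hj : j.val = 0 := by omega
      have : ((Fin.rev j : Fin n) : ℕ) + 1 = n := by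
        rw [Fin.val_rev]
        have := j.2
        omega
      rw [this, hNn]
  have hM : LinearMap.toMatrix b b A = J := by
    ext i j
    rw [LinearMap.toMatrix_apply, key, map_add, Finsupp.add_apply, b.repr_self, hJ]
    by_cases h : 0 < j.val
    · rw [dif_pos h, b.repr_self, Finsupp.single_apply, Finsupp.single_apply]
      by_cases hij : i = j
      · have h2 : ¬ ((⟨j.val - 1, by omega⟩ : Fin n) = i) := by
          intro h2
          have h4 := congrArg Fin.val h2
          have h5 := congrArg Fin.val hij
          simp only at h4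
          omega
        rw [if_pos hij.symm, if_neg h2, if_pos hij, add_zero]
      · rw [if_neg (Ne.symm hij), if_neg hij, zero_add]
        by_cases h3 : j.val = i.val + 1
        · have h2 : ((⟨j.val - 1, by omega⟩ : Fin n) = i) := by
            rw [Fin.ext_iff]
            simp only
            omega
          rw [if_pos h2, if_pos h3]
        · have h2 : ¬ ((⟨j.val - 1, by omega⟩ : Fin n) = i) := by
            rw [Fin.ext_iff]
            simp only
            omega
          rw [if_neg h2, if_neg h3]
    · rw [dif_neg h, map_zero, Finsupp.zero_apply, add_zero, Finsupp.single_apply]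
      by_cases hij : i = j
      · rw [if_pos hij.symm, if_pos hij]
      · have h3 : ¬ (j.val = i.val + 1) := by omega
        rw [if_neg (Ne.symm hij), if_neg hij, if_neg h3]
  set e : Basis (Fin n) K (Fin n → K) := Pi.basisFun K (Fin n) with he
  refine ⟨e.toMatrix b, b.toMatrix e, Basis.toMatrix_mul_toMatrix_flip e b,
    Basis.toMatrix_mul_toMatrix_flip b e, ?_⟩
  rw [← hM, basis_toMatrix_mul_linearMap_toMatrix_mul_basis_toMatrix, he,
    LinearMap.toMatrix_eq_toMatrix', hAdef, LinearMap.toMatrix'_toLin']

end Cfsg.Agent.Lib.helper14.RuG
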