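import Mathlib
import Cfsg.Prelude.Def_Spor_Ru
import Cfsg.Agent.Lib.Helper29.RvLBasic
import Cfsg.Agent.Lib.Helper29.RvLData
import Cfsg.Agent.Lib.Helper29.RvLMain

/-!
# Project RU, piece P1 (data): a `ℤ[i]`-basis of the Rudvalis lattice and its dual basis

`ruBL` : 28 vectors, each a monomial image of a table vector (`ruBW` = table index and word in
the five generators `0 = i`, `1 = Rj`, `2 = Rk`, `3 = Sign`, `4 = Shift`, first letter applied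
first); `ruDL` : the dual basis with respect to the Hermitian form divided by 4, which lies in the
lattice again (the lattice is unimodular); `ruDA` : coefficients of the dual basis vectors on the
basis.
-/

set_option autoImplicit false
set_option maxRecDepth 100000

namespace Cfsg.Agent.Lib.helper14

open Cfsg.Spor Cfsg.Agent.Lib.Helper29

/-- the basis, as lists of 28 integer pairs -/
def ruBL : List (List (ℤ × ℤ)) := [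
  [(-1, 0), (0, 0), (0, 0), (0, 1), (0, 1), (0, 0), (1, 0), (0, 0), (0, 1), (0, -1), (1, 0), (1, 0), (-1, 0), (0, 0), (0, 0), (1, 0), (0, 1), (0, 1), (0, 0), (0, 0), (0, -1), (-1, 0), (0, 0), (0, 0), (0, 0), (-1, 0), (0, 0), (0, 1)],
  [(0, 1), (-1, 0), (0, 1), (1, 0), (1, 0), (0, 0), (0, 0), (1, 0), (0, 1), (0, 1), (0, 0), (0, 0), (0, 0), (0, 0), (0, -1), (0, 1), (0, 0), (-1, 0), (0, 0), (0, -1), (0, 0), (0, -1), (0, -1), (0, 0), (-1, 0), (0, 0), (0, -1), (0, 0)],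
  [(0, 0), (0, 0), (0, 0), (0, 0), (0, 1), (0, 1), (1, 0), (0, 1), (0, 0), (0, 0), (0, 0), (0, 0), (1, 0), (0, 1), (1, 0), (-1, 0), (1, 0), (-1, 0), (-1, 0), (0, -1), (1, 0), (0, 1), (0, 1), (0, 1), (0, 0), (0, 0), (0, 0), (0, 0)],
  [(0, 0), (0, -1), (0, 0), (0, 1), (1, 0), (1, 0), (-1, 0), (-1, 0), (1, 0), (0, 0), (0, 0), (1, 0), (0, 1), (0, -1), (0, 0), (0, 0), (0, 0), (0, 0), (1, 0), (1, 0), (0, 0), (1, 0), (0, 0), (0, -1), (0, -1), (0, 0), (0, 0), (1, 0)],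
  [(0, 0), (0, 1), (0, 0), (1, 0), (0, 0), (0, 1), (0, 1), (0, 0), (0, -1), (0, 0), (1, 0), (0, 0), (0, 1), (-1, 0), (-1, 0), (0, -1), (0, 0), (-1, 0), (0, -1), (0, 0), (0, 0), (0, 0), (1, 0), (0, -1), (0, 0), (0, 0), (1, 0), (-1, 0)],
  [(-1, 0), (0, 0), (0, 1), (0, 0), (-1, 0), (1, 0), (1, 0), (-1, 0), (1, 0), (0, 0), (0, 0), (1, 0), (0, 0), (0, 0), (-1, 0), (0, 1), (0, 0), (0, 0), (1, 0), (1, 0), (0, -1), (0, 0), (0, 1), (0, 0), (0, 0), (0, 1), (0, -1), (0, 0)],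
  [(0, -1), (1, 0), (0, 1), (1, 0), (1, 0), (0, 0), (0, 0), (-1, 0), (1, 0), (1, 0), (0, 0), (0, 0), (0, 0), (0, 0), (0, 1), (0, 1), (1, 0), (0, 0), (1, 0), (0, 0), (1, 0), (0, 0), (0, 0), (0, -1), (0, 1), (0, 0), (-1, 0), (0, 0)],
  [(0, 0), (0, -1), (0, 0), (1, 0), (0, 0), (-1, 0), (-1, 0), (0, 0), (0, 1), (0, 0), (-1, 0), (0, 0), (1, 0), (0, 1), (1, 0), (0, -1), (0, 1), (0, 0), (0, 0), (0, 1), (-1, 0), (-1, 0), (0, 0), (0, 0), (0, 0), (0, 0), (-1, 0), (1, 0)],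
  [(0, 1), (0, 0), (0, 0), (0, 1), (0, 0), (0, 0), (-1, 0), (0, -1), (-1, 0), (0, -1), (0, 0), (0, 0), (0, 0), (1, 0), (0, 0), (0, -1), (-1, 0), (0, 0), (0, 0), (0, 1), (0, 0), (-1, 0), (0, 0), (1, 0), (1, 0), (1, 0), (0, 1), (0, -1)],
  [(0, 0), (0, -1), (0, 0), (1, 0), (0, -1), (0, 0), (0, 0), (1, 0), (0, 0), (0, 1), (0, 0), (0, 1), (-1, 0), (-1, 0), (0, -1), (0, 1), (1, 0), (0, 0), (0, 0), (-1, 0), (0, 0), (0, 0), (0, 1), (1, 0), (0, -1), (-1, 0), (0, 0), (0, 0)],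
  [(0, 0), (0, -1), (0, 0), (1, 0), (0, 0), (1, 0), (1, 0), (0, 0), (0, 0), (0, -1), (0, 0), (0, 1), (-1, 0), (0, -1), (1, 0), (0, -1), (0, 0), (-1, 0), (0, -1), (0, 0), (0, 0), (0, 0), (1, 0), (0, -1), (0, -1), (-1, 0), (0, 0), (0, 0)],
  [(0, -1), (-1, 0), (-1, 0), (0, 1), (0, 0), (0, -1), (1, 0), (0, 0), (0, 1), (0, 1), (0, 0), (0, 0), (0, 0), (0, 0), (0, -1), (0, 1), (0, 0), (0, 1), (0, 0), (-1, 0), (0, 0), (0, 1), (0, -1), (0, 0), (0, 0), (-1, 0), (0, 0), (1, 0)],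
  [(0, 0), (0, -1), (0, 1), (0, 0), (0, 0), (0, 1), (0, 0), (0, 1), (0, -1), (0, -1), (-1, 0), (1, 0), (0, 1), (0, 0), (0, 0), (0, 1), (0, 0), (0, 0), (0, 1), (1, 0), (-1, 0), (0, -1), (0, 0), (0, 0), (1, 0), (0, 0), (1, 0), (0, 0)],
  [(0, 0), (1, 0), (1, 0), (0, 0), (-1, 0), (0, 0), (0, -1), (0, 0), (0, 1), (0, 1), (-1, 0), (1, 0), (0, 0), (0, 1), (1, 0), (0, 0), (1, 0), (-1, 0), (0, 0), (0, 0), (0, 0), (0, 0), (-1, 0), (1, 0), (0, -1), (0, 0), (0, 1), (0, 0)],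
  [(1, 0), (0, 1), (-1, 0), (1, 0), (0, 1), (0, -1), (0, -1), (1, 0), (-1, 0), (0, 1), (0, -1), (0, 1), (0, 0), (0, 0), (0, 0), (0, 0), (0, 0), (0, 0), (0, 0), (0, 0), (1, 0), (-1, 0), (0, -1), (-1, 0), (0, 0), (0, 0), (0, 0), (0, 0)],
  [(-1, 0), (0, 1), (1, 0), (1, 0), (0, -1), (0, -1), (0, -1), (-1, 0), (1, 0), (0, 1), (0, 1), (0, 1), (0, 0), (0, 0), (0, 0), (0, 0), (0, 0), (0, 0), (0, 0), (0, 0), (1, 0), (-1, 0), (0, 1), (1, 0), (0, 0), (0, 0), (0, 0), (0, 0)],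
  [(1, 0), (0, 1), (1, 0), (-1, 0), (-1, 0), (-1, 0), (-1, 0), (0, 1), (0, -1), (-1, 0), (-1, 0), (1, 0), (0, 0), (0, 0), (0, 0), (0, 0), (0, 0), (0, 0), (0, 0), (0, 0), (-1, 0), (1, 0), (0, 1), (1, 0), (0, 0), (0, 0), (0, 0), (0, 0)],
  [(1, 0), (0, 1), (0, 0), (0, 0), (0, 0), (0, -1), (0, 0), (1, 0), (0, 1), (0, 0), (0, 0), (-1, 0), (1, 0), (0, 0), (0, 1), (0, 0), (0, -1), (0, 1), (-1, 0), (-1, 0), (0, -1), (0, 0), (0, 0), (0, -1), (1, 0), (-1, 0), (0, 0), (0, 0)],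
  [(0, 1), (1, 0), (0, 0), (0, 0), (0, 0), (0, 1), (0, 0), (1, 0), (-1, 0), (0, 0), (0, 0), (0, -1), (0, 0), (0, 1), (0, 0), (0, 1), (1, 0), (-1, 0), (-1, 0), (1, 0), (0, 0), (0, -1), (-1, 0), (0, 0), (0, 1), (0, 1), (0, 0), (0, 0)],
  [(-1, 0), (1, 0), (0, 0), (0, 0), (-1, 0), (0, 1), (0, 0), (0, 0), (-1, 0), (0, 0), (-1, 0), (0, 0), (0, 1), (0, 0), (0, 0), (-1, 0), (0, 0), (0, 1), (0, 0), (0, 1), (0, 1), (-1, 0), (-1, 0), (0, -1), (1, 0), (0, 0), (0, 0), (1, 0)],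
  [(0, 1), (1, 0), (0, 0), (0, 0), (0, 0), (0, 1), (0, 0), (1, 0), (1, 0), (0, 0), (0, 0), (0, 1), (0, 0), (0, 1), (0, 0), (0, 1), (-1, 0), (1, 0), (1, 0), (-1, 0), (0, 0), (0, 1), (1, 0), (0, 0), (0, -1), (0, -1), (0, 0), (0, 0)],
  [(-1, 0), (0, -1), (1, 0), (0, -1), (0, -1), (0, 0), (0, 0), (0, 1), (0, -1), (0, -1), (0, 0), (0, 0), (0, 0), (0, 0), (-1, 0), (-1, 0), (0, 1), (0, 0), (0, 1), (0, 0), (0, -1), (0, 0), (0, 0), (-1, 0), (-1, 0), (0, 0), (0, -1), (0, 0)],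
  [(0, -1), (0, -1), (0, 0), (0, 0), (1, 0), (0, -1), (0, 0), (0, 0), (0, 0), (0, 1), (0, 0), (1, 0), (0, 0), (1, 0), (-1, 0), (0, 0), (-1, 0), (0, 0), (0, -1), (0, 0), (-1, 0), (0, 1), (-1, 0), (0, -1), (0, 0), (0, -1), (1, 0), (0, 0)],
  [(1, 0), (0, 1), (0, 0), (0, 0), (0, 1), (0, 0), (0, 1), (0, 0), (1, 0), (0, 0), (0, 0), (0, 1), (0, -1), (0, 0), (1, 0), (0, 0), (0, 1), (1, 0), (1, 0), (0, -1), (-1, 0), (0, 0), (0, 0), (1, 0), (0, 0), (0, 0), (1, 0), (0, -1)],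
  [(-1, 0), (1, 0), (0, 0), (0, 0), (0, 0), (0, 0), (-1, 0), (-1, 0), (0, 0), (0, 1), (0, 0), (1, 0), (0, 0), (-1, 0), (1, 0), (0, 0), (0, -1), (0, 0), (-1, 0), (0, 0), (0, -1), (1, 0), (0, -1), (-1, 0), (0, -1), (0, 0), (0, 0), (0, 1)],
  [(0, 1), (0, 1), (0, 0), (0, 0), (0, 0), (0, 0), (0, -1), (0, 1), (0, 0), (0, 1), (0, 0), (-1, 0), (0, 0), (0, 1), (0, -1), (0, 0), (0, 0), (-1, 0), (0, 0), (1, 0), (0, -1), (-1, 0), (-1, 0), (0, 1), (0, 0), (0, -1), (1, 0), (0, 0)],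
  [(0, 1), (0, 0), (0, 0), (0, 1), (0, 0), (0, 0), (0, -1), (1, 0), (0, 0), (0, 0), (1, 0), (-1, 0), (-1, 0), (0, 0), (-1, 0), (0, 0), (1, 0), (0, 0), (0, 0), (0, -1), (0, 0), (1, 0), (0, 0), (1, 0), (-1, 0), (0, 1), (-1, 0), (0, -1)],
  [(0, -1), (0, 0), (0, 0), (-1, 0), (0, 0), (0, -1), (0, 0), (0, 1), (-1, 0), (0, -1), (0, -1), (1, 0), (-1, 0), (0, 0), (0, 0), (1, 0), (1, 0), (1, 0), (0, 0), (0, 0), (-1, 0), (0, -1), (0, 0), (0, 0), (1, 0), (0, 0), (-1, 0), (0, 0)]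
]

/-- the dual basis -/
def ruDL : List (List (ℤ × ℤ)) := [
  [(32, -1), (-7, 15), (-69, 80), (-65, 35), (11, -87), (74, 36), (-10, 18), (60, 130), (6, 32), (44, 45), (-4, 59), (7, 17), (-15, 9), (18, -64), (53, 60), (21, -24), (27, 36), (30, 27), (-24, -32), (-34, 76), (-13, -13), (-55, 42), (-5, 7), (2, -3), (-88, -6), (118, 79), (33, 18), (-37, 59)],
  [(-12, -28), (16, 1), (95, 37), (52, 47), (-82, 19), (7, -79), (20, 4), (98, -97), (27, -16), (26, -54), (55, -16), (13, -11), (14, 11), (-63, 4), (37, -68), (-28, -11), (24, -36), (14, -35), (-21, 32), (80, 6), (-7, 16), (56, 35), (8, 2), (-3, -1), (23, 81), (33, -133), (5, -36), (65, 14)],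
  [(-9, -25), (12, 2), (75, 33), (41, 41), (-68, 12), (11, -64), (16, 5), (86, -74), (24, -13), (24, -43), (45, -11), (11, -9), (10, 11), (-52, 1), (35, -53), (-22, -10), (20, -28), (13, -28), (-20, 26), (66, 9), (-6, 12), (44, 33), (5, 2), (-1, -1), (15, 67), (34, -107), (4, -30), (51, 14)],
  [(31, 18), (-16, 10), (-113, 31), (-82, -7), (64, -75), (48, 79), (-21, 11), (-23, 159), (-13, 34), (14, 69), (-40, 52), (-4, 20), (-20, 0), (56, -49), (13, 89), (34, -9), (3, 50), (11, 43), (-3, -45), (-78, 51), (-4, -20), (-77, 6), (-9, 3), (4, -1), (-78, -60), (63, 147), (20, 36), (-70, 32)],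
  [(-77, 22), (10, -39), (124, -226), (138, -118), (20, 216), (-200, -49), (17, -49), (-214, -285), (-34, -75), (-130, -86), (-20, -142), (-25, -36), (34, -30), (-9, 164), (-161, -119), (-38, 67), (-81, -71), (-86, -48), (77, 65), (41, -203), (37, 24), (112, -132), (9, -17), (-6, 7), (215, -32), (-327, -130), (-88, -22), (60, -158)],
  [(-5, 19), (-8, -7), (-34, -56), (-8, -45), (49, 23), (-35, 38), (-9, -10), (-89, 11), (-20, -2), (-35, 18), (-34, -14), (-11, 0), (-3, -11), (35, 23), (-46, 20), (9, 17), (-27, 9), (-21, 12), (24, -9), (-39, -35), (10, -6), (-15, -41), (-3, -4), (1, 2), (21, -51), (-70, 56), (-17, 16), (-28, -33)],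
  [(6, -21), (8, 7), (34, 63), (6, 49), (-52, -27), (41, -39), (8, 12), (97, -6), (23, 3), (38, -16), (36, 15), (12, -1), (1, 12), (-37, -26), (52, -18), (-9, -19), (28, -9), (23, -11), (-26, 9), (41, 41), (-10, 6), (13, 46), (3, 4), (0, -2), (-25, 55), (77, -56), (18, -18), (26, 35)],
  [(-24, 30), (-8, -18), (-16, -123), (21, -84), (68, 78), (-91, 37), (-7, -24), (-162, -51), (-34, -20), (-74, 3), (-49, -49), (-20, -7), (5, -21), (42, 67), (-95, -2), (4, 36), (-52, -4), (-46, 5), (48, 4), (-40, -91), (21, -2), (7, -82), (-2, -9), (0, 3), (75, -72), (-163, 41), (-42, 16), (-22, -77)],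
  [(20, -21), (4, 13), (5, 93), (-21, 63), (-46, -63), (71, -22), (3, 19), (119, 49), (25, 17), (56, 3), (33, 39), (15, 6), (-6, 15), (-28, -52), (72, 8), (-1, -28), (38, 6), (35, 0), (-36, -6), (25, 72), (-15, 0), (-11, 62), (1, 6), (1, -2), (-60, 50), (125, -20), (32, -11), (10, 58)],
  [(37, 10), (-14, 13), (-108, 63), (-87, 14), (46, -94), (71, 70), (-20, 17), (18, 172), (-4, 39), (32, 69), (-27, 63), (1, 21), (-22, 4), (44, -66), (37, 90), (33, -18), (16, 50), (23, 42), (-16, -46), (-68, 75), (-9, -19), (-80, 27), (-8, 5), (5, -1), (-97, -41), (103, 136), (31, 31), (-65, 50)],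
  [(19, 24), (-15, 2), (-99, -14), (-61, -34), (75, -37), (11, 80), (-21, 0), (-74, 118), (-22, 24), (-14, 58), (-48, 27), (-9, 14), (-17, -9), (60, -20), (-21, 76), (30, 5), (-15, 38), (-7, 37), (12, -37), (-80, 14), (3, -16), (-64, -22), (-7, -1), (3, 2), (-42, -73), (-2, 136), (5, 34), (-64, -2)],
  [(7, 53), (-25, -10), (-138, -107), (-64, -104), (146, 9), (-53, 129), (-32, -17), (-214, 114), (-54, 16), (-71, 77), (-97, -1), (-27, 13), (-17, -26), (109, 23), (-97, 95), (41, 34), (-56, 47), (-42, 51), (51, -45), (-133, -49), (19, -22), (-77, -88), (-10, -8), (3, 5), (1, -147), (-121, 206), (-23, 57), (-98, -57)],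
  [(-30, 12), (2, -17), (43, -98), (53, -53), (16, 88), (-85, -12), (6, -22), (-99, -110), (-17, -30), (-56, -31), (-14, -57), (-11, -14), (13, -14), (2, 68), (-71, -43), (-14, 29), (-36, -27), (-36, -17), (34, 24), (10, -86), (16, 8), (41, -59), (3, -8), (-2, 3), (88, -21), (-140, -42), (-37, -6), (19, -67)],
  [(-13, -45), (24, 5), (137, 73), (71, 82), (-129, 13), (27, -120), (30, 9), (168, -130), (44, -20), (51, -78), (85, -13), (22, -15), (19, 19), (-98, -4), (69, -97), (-41, -23), (43, -49), (28, -51), (-37, 46), (121, 23), (-14, 23), (80, 65), (11, 5), (-5, -3), (21, 128), (75, -196), (14, -52), (95, 35)],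
  [(-48, -4), (13, -20), (120, -102), (105, -36), (-36, 127), (-103, -72), (21, -24), (-58, -209), (-3, -51), (-54, -77), (18, -85), (-6, -26), (25, -10), (-41, 92), (-65, -103), (-37, 29), (-31, -58), (-37, -46), (30, 54), (69, -107), (17, 21), (93, -50), (8, -8), (-5, 2), (130, 29), (-157, -145), (-46, -32), (68, -75)],
  [(-40, 25), (-1, -23), (33, -150), (60, -90), (47, 119), (-122, 5), (2, -31), (-169, -127), (-32, -37), (-88, -28), (-35, -76), (-20, -16), (14, -22), (23, 95), (-111, -41), (-11, 45), (-58, -27), (-56, -14), (54, 24), (-10, -123), (25, 7), (42, -94), (2, -11), (-2, 5), (117, -54), (-207, -20), (-54, 2), (9, -99)],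
  [(13, 42), (-21, -5), (-123, -65), (-65, -74), (117, -12), (-26, 109), (-27, -9), (-154, 118), (-41, 19), (-47, 71), (-77, 12), (-19, 14), (-17, -19), (89, 4), (-64, 88), (37, 20), (-38, 44), (-26, 47), (35, -42), (-111, -21), (13, -20), (-72, -60), (-9, -4), (3, 3), (-19, -116), (-69, 178), (-11, 48), (-85, -32)],
  [(2, -15), (6, 5), (31, 39), (11, 33), (-40, -12), (23, -33), (8, 7), (67, -18), (16, -1), (25, -17), (27, 8), (8, -2), (3, 9), (-28, -13), (33, -20), (-10, -12), (19, -9), (15, -12), (-17, 9), (33, 22), (-7, 4), (16, 29), (2, 3), (-1, -2), (-9, 40), (47, -49), (10, -14), (24, 23)],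
  [(1, 13), (-6, -2), (-35, -29), (-15, -27), (37, 3), (-13, 32), (-9, -4), (-54, 28), (-13, 4), (-19, 18), (-25, -1), (-7, 3), (-5, -7), (27, 7), (-25, 24), (11, 10), (-15, 12), (-12, 12), (12, -11), (-33, -13), (5, -5), (-19, -22), (-3, -2), (1, 1), (1, -37), (-31, 52), (-6, 14), (-24, -15)],
  [(-25, -15), (13, -6), (89, -20), (64, 8), (-53, 57), (-35, -65), (18, -7), (25, -126), (11, -28), (-8, -55), (33, -39), (3, -15), (17, 3), (-45, 36), (-6, -72), (-27, 6), (0, -38), (-7, -34), (1, 36), (64, -38), (2, 15), (62, -2), (6, -1), (-3, -1), (59, 49), (-43, -119), (-16, -28), (57, -21)],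
  [(-10, -13), (8, -1), (52, 4), (34, 16), (-39, 21), (-7, -41), (10, -1), (36, -63), (12, -12), (5, -32), (25, -15), (5, -8), (7, 4), (-31, 13), (9, -39), (-16, -1), (6, -21), (2, -20), (-6, 19), (41, -9), (-1, 9), (34, 10), (4, 0), (-2, 0), (24, 37), (-2, -72), (-3, -19), (35, -2)],
  [(17, -14), (2, 11), (-7, 71), (-23, 45), (-28, -53), (57, -9), (0, 15), (85, 51), (17, 16), (42, 8), (20, 34), (10, 7), (-6, 11), (-15, -43), (53, 14), (3, -21), (29, 10), (26, 3), (-27, -8), (10, 57), (-12, -2), (-15, 46), (0, 5), (0, -2), (-52, 31), (98, -1), (26, -4), (2, 46)],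
  [(-21, -12), (10, -7), (74, -22), (54, 4), (-41, 50), (-32, -52), (14, -7), (15, -105), (9, -23), (-10, -45), (26, -35), (3, -13), (13, 0), (-37, 33), (-9, -58), (-22, 6), (-3, -33), (-8, -28), (2, 30), (52, -34), (3, 13), (51, -4), (5, -2), (-2, 0), (52, 39), (-42, -97), (-14, -24), (46, -22)],
  [(-5, 17), (-7, -6), (-31, -48), (-9, -39), (44, 19), (-29, 33), (-8, -7), (-76, 12), (-17, -2), (-30, 17), (-31, -12), (-10, 1), (-3, -9), (30, 19), (-38, 19), (10, 14), (-23, 9), (-18, 12), (20, -7), (-34, -29), (9, -5), (-14, -34), (-3, -4), (2, 1), (16, -44), (-59, 50), (-14, 14), (-26, -29)],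
  [(-13, -19), (11, -1), (72, 14), (44, 28), (-57, 24), (-3, -58), (14, 1), (59, -82), (18, -16), (12, -42), (36, -18), (8, -10), (10, 6), (-46, 12), (19, -53), (-21, -5), (12, -29), (6, -27), (-12, 27), (59, -6), (-3, 12), (45, 20), (5, 0), (-2, -1), (27, 56), (7, -100), (-2, -27), (47, 2)],
  [(59, 30), (-28, 19), (-205, 68), (-152, -7), (111, -143), (95, 144), (-39, 20), (-32, 296), (-22, 65), (30, 127), (-68, 98), (-6, 36), (-38, 0), (99, -95), (31, 164), (62, -19), (9, 90), (24, 78), (-10, -83), (-141, 101), (-10, -36), (-144, 17), (-15, 6), (7, -1), (-150, -103), (125, 265), (41, 64), (-127, 61)],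
  [(-60, 50), (-8, -39), (22, -253), (78, -160), (103, 186), (-200, 36), (-3, -52), (-305, -173), (-61, -55), (-150, -26), (-75, -119), (-37, -23), (18, -40), (57, 152), (-191, -44), (-9, 75), (-102, -32), (-94, -10), (95, 28), (-42, -201), (43, 5), (49, -163), (0, -19), (-2, 7), (181, -114), (-346, 12), (-90, 15), (-9, -165)],
  [(-39, 3), (8, -18), (79, -101), (77, -47), (-8, 107), (-93, -39), (11, -23), (-82, -155), (-10, -38), (-57, -53), (3, -72), (-9, -20), (18, -12), (-17, 79), (-69, -70), (-24, 31), (-34, -42), (-38, -31), (31, 37), (36, -95), (16, 15), (64, -56), (6, -8), (-3, 4), (107, 1), (-149, -90), (-41, -19), (43, -74)]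
]

/-- table index and word of each basis vector -/
def ruBW : List (ℕ × List (Fin 5)) := [
  (14, [0, 0, 1, 4, 4, 4, 3, 4, 4]),
  (6, [0, 0, 2, 3]),
  (2, [0, 2, 3, 4, 3, 4]),
  (10, [4, 4, 4, 4, 4, 4, 3]),
  (14, [2, 1, 3, 4, 3, 4, 4, 4]),
  (19, [0, 0, 4, 4, 4, 4, 4, 3, 4]),
  (8, [2, 4, 4, 4, 3, 4, 4, 4, 4]),
  (6, [0, 0, 0, 2, 4, 4, 4, 4]),
  (9, [0, 0, 0, 1, 3, 4, 3]),
  (8, [0, 1, 3, 4, 3, 4, 4, 4]),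
  (11, [0, 2, 4, 4, 3, 4, 4]),
  (8, [1, 2, 4, 4, 4, 4, 4, 3, 4, 4]),
  (6, [1, 4, 3, 4, 4, 4, 4]),
  (10, [0, 0, 1, 4, 3, 4, 4, 4, 4]),
  (1, [0, 2, 1, 4, 4, 4, 4, 3, 4]),
  (3, [0, 1, 2, 4, 4, 4, 4, 4, 3]),
  (4, [4, 4, 4, 3, 4, 4]),
  (15, [0, 0, 1, 3, 4, 4, 4]),
  (16, [4, 4, 4, 3]),
  (12, [1, 2, 3, 4, 4]),
  (16, [3, 4, 4, 4]),
  (8, [0, 2, 3]),
  (13, [0, 0, 0, 2, 4, 3, 4]),
  (11, [2, 1, 3, 4, 3, 4, 4]),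
  (7, [0, 0, 2, 3, 4, 4, 3]),
  (8, [1, 2, 3, 4, 3, 4]),
  (15, [0, 0, 0, 2, 4, 3]),
  (13, [0, 1, 2, 3, 4, 4, 4, 4, 4])
]

/-- coefficients of the dual basis vectors on the basis -/
def ruDA : List (List GaussianInt) := [
  [⟨31478, 0⟩, ⟨-10315, 28423⟩, ⟨-7012, 23763⟩, ⟨29485, -19258⟩, ⟨-76060, -16482⟩, ⟨-5999, -18751⟩, ⟨7492, 19868⟩, ⟨-24903, -27622⟩, ⟨20474, 19200⟩, ⟨35707, -12221⟩, ⟨16507, -25262⟩, ⟨3104, -52642⟩, ⟨-30818, -9572⟩, ⟨-10417, 45282⟩, ⟨-46826, 7356⟩, ⟨-40555, -21927⟩, ⟨9363, -41192⟩, ⟨2576, 14802⟩, ⟨521, -13314⟩, ⟨-22523, 16372⟩, ⟨-9313, 12840⟩, ⟨17786, 12271⟩, ⟨-19588, 12538⟩, ⟨-4649, -16357⟩, ⟨-10950, 19232⟩, ⟨55843, -33298⟩, ⟨-62024, -44871⟩, ⟨-38409, -1979⟩],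
  [⟨-10315, -28423⟩, ⟨29048, 0⟩, ⟨23756, -1457⟩, ⟨-27052, -20314⟩, ⟨10045, 74082⟩, ⟨-14967, 11562⟩, ⟨15486, -13277⟩, ⟨-16781, 31540⟩, ⟨10627, -24780⟩, ⟨-22737, -28238⟩, ⟨-28223, -6627⟩, ⟨-48554, 14449⟩, ⟨1456, 30967⟩, ⟨44303, -5433⟩, ⟨21988, 39873⟩, ⟨-6509, 43806⟩, ⟨-40264, 5046⟩, ⟨12522, -7178⟩, ⟨-12195, 3891⟩, ⟨22167, 14972⟩, ⟨14645, 4200⟩, ⟨5251, -20083⟩, ⟨17741, 13579⟩, ⟨-13246, 9558⟩, ⟨20954, 3585⟩, ⟨-48369, -39513⟩, ⟨-20191, 70714⟩, ⟨10800, 35330⟩],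
  [⟨-7012, -23763⟩, ⟨23756, 1457⟩, ⟨19512, 0⟩, ⟨-21104, -17973⟩, ⟨4489, 61105⟩, ⟨-12821, 8704⟩, ⟨13338, -10085⟩, ⟨-15310, 24959⟩, ⟨9941, -19742⟩, ⟨-17176, -24244⟩, ⟨-22753, -6847⟩, ⟨-40446, 9374⟩, ⟨-368, 25403⟩, ⟨36507, -2216⟩, ⟨15983, 33724⟩, ⟨-7528, 35507⟩, ⟨-33193, 2101⟩, ⟨10604, -5239⟩, ⟨-10168, 2568⟩, ⟨17379, 13368⟩, ⟨11770, 4170⟩, ⟨5305, -16166⟩, ⟨13831, 11997⟩, ⟨-11309, 7153⟩, ⟨16964, 3984⟩, ⟨-37577, -34754⟩, ⟨-20071, 56831⟩, ⟨7058, 29437⟩],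
  [⟨29485, 19258⟩, ⟨-27052, 20314⟩, ⟨-21104, 17973⟩, ⟨39404, 0⟩, ⟨-61170, -61973⟩, ⟨5853, -21236⟩, ⟨-5136, 23196⟩, ⟨-6431, -41110⟩, ⟨7436, 30511⟩, ⟨40928, 10397⟩, ⟨30921, -13568⟩, ⟨35115, -47418⟩, ⟨-23015, -27822⟩, ⟨-37463, 36045⟩, ⟨-48367, -21756⟩, ⟨-24577, -45352⟩, ⟨33971, -32862⟩, ⟨-6643, 15443⟩, ⟨8636, -12153⟩, ⟨-31118, 1560⟩, ⟨-16578, 6331⟩, ⟨9156, 22376⟩, ⟨-26020, -238⟩, ⟨5653, -18165⟩, ⟨-22023, 11318⟩, ⟨72685, 2971⟩, ⟨-30654, -79980⟩, ⟨-34768, -25353⟩],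
  [⟨-76060, 16482⟩, ⟨10045, -74082⟩, ⟨4489, -61105⟩, ⟨-61170, 61973⟩, ⟨192454, 0⟩, ⟨24312, 42172⟩, ⟨-28521, -44092⟩, ⟨74651, 53704⟩, ⟨-59547, -35673⟩, ⟨-79901, 48234⟩, ⟨-26673, 69708⟩, ⟨20066, 128857⟩, ⟨79495, 6997⟩, ⟨1469, -114884⟩, ⟨109316, -42308⟩, ⟨109498, 31753⟩, ⟨-1052, 104461⟩, ⟨-13973, -34428⟩, ⟨5706, 32448⟩, ⟨45867, -51370⟩, ⟨15778, -35907⟩, ⟨-49414, -20338⟩, ⟨40767, -40558⟩, ⟨19792, 37085⟩, ⟨16383, -52216⟩, ⟨-117523, 109718⟩, ⟨173400, 75954⟩, ⟨93852, -15323⟩],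
  [⟨-5999, 18751⟩, ⟨-14967, -11562⟩, ⟨-12821, -8704⟩, ⟨5853, 21236⟩, ⟨24312, -42172⟩, ⟨12316, 0⟩, ⟨-13265, 677⟩, ⟨21201, -9573⟩, ⟨-15339, 8539⟩, ⟨476, 23602⟩, ⟨11905, 14649⟩, ⟨30771, 11882⟩, ⟨11576, -16537⟩, ⟨-24991, -14836⟩, ⟨4541, -29299⟩, ⟨20791, -19982⟩, ⟨22756, 13426⟩, ⟨-9309, -1286⟩, ⟨7832, 2850⟩, ⟨-5463, -16538⟩, ⟨-5874, -7994⟩, ⟨-10700, 8259⟩, ⟨-3737, -14059⟩, ⟨10629, 348⟩, ⟨-9371, -10188⟩, ⟨9196, 39614⟩, ⟨38552, -28402⟩, ⟨8499, -22503⟩],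
  [⟨7492, -19868⟩, ⟨15486, 13277⟩, ⟨13338, 10085⟩, ⟨-5136, -23196⟩, ⟨-28521, 44092⟩, ⟨-13265, -677⟩, ⟨14338, 0⟩, ⟨-23369, 9149⟩, ⟨17004, -8356⟩, ⟨794, -25454⟩, ⟨-12015, -16448⟩, ⟨-32498, -14503⟩, ⟨-13386, 17177⟩, ⟨26102, 17361⟩, ⟨-6509, 31321⟩, ⟨-23506, 20381⟩, ⟨-23776, -15724⟩, ⟨9956, 1902⟩, ⟨-8280, -3504⟩, ⟨4969, 18122⟩, ⟨5888, 8935⟩, ⟨11984, -8310⟩, ⟨3254, 15350⟩, ⟨-11425, -957⟩, ⟨9539, 11493⟩, ⟨-7719, -43187⟩, ⟨-43103, 28477⟩, ⟨-10396, 23768⟩],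
  [⟨-24903, 27622⟩, ⟨-16781, -31540⟩, ⟨-15310, -24959⟩, ⟨-6431, 41110⟩, ⟨74651, -53704⟩, ⟨21201, 9573⟩, ⟨-23369, -9149⟩, ⟨43948, 0⟩, ⟨-33055, 2775⟩, ⟨-17534, 41004⟩, ⟨9102, 34481⟩, ⟨43739, 44385⟩, ⟨32789, -19469⟩, ⟨-31491, -44971⟩, ⟨30601, -46916⟩, ⟨51335, -18237⟩, ⟨28740, 40814⟩, ⟨-15026, -9453⟩, ⟨11268, 10994⟩, ⟨3458, -32723⟩, ⟨-3900, -18331⟩, ⟨-24845, 5900⟩, ⟨4495, -27111⟩, ⟨18029, 8858⟩, ⟨-8215, -24829⟩, ⟨-14970, 75354⟩, ⟨88461, -18925⟩, ⟨32125, -32135⟩],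
  [⟨20474, -19200⟩, ⟨10627, 24780⟩, ⟨9941, 19742⟩, ⟨7436, -30511⟩, ⟨-59547, 35673⟩, ⟨-15339, -8539⟩, ⟨17004, 8356⟩, ⟨-33055, -2775⟩, ⟨25044, 0⟩, ⟨15784, -29734⟩, ⟨-4665, -26516⟩, ⟨-30094, -36153⟩, ⟨-25894, 12571⟩, ⟨20841, 35815⟩, ⟨-25982, 33358⟩, ⟨-39768, 10473⟩, ⟨-19037, -32519⟩, ⟨10703, 8063⟩, ⟨-7780, -8982⟩, ⟨-4674, 24397⟩, ⟨1775, 14035⟩, ⟨19061, -2869⟩, ⟨-5093, 20106⟩, ⟨-12996, -7801⟩, ⟨4613, 19195⟩, ⟨16025, -55733⟩, ⟨-67734, 8646⟩, ⟨-26195, 22136⟩],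
  [⟨35707, 12221⟩, ⟨-22737, 28238⟩, ⟨-17176, 24244⟩, ⟨40928, -10397⟩, ⟨-79901, -48234⟩, ⟨476, -23602⟩, ⟨794, 25454⟩, ⟨-17534, -41004⟩, ⟨15784, 29734⟩, ⟨45264, 0⟩, ⟨28545, -22259⟩, ⟨23963, -58529⟩, ⟨-31252, -22828⟩, ⟨-29404, 47328⟩, ⟨-55989, -9830⟩, ⟨-37504, -40626⟩, ⟨26617, -43106⟩, ⟨-2828, 17796⟩, ⟨5764, -14903⟩, ⟨-31918, 9833⟩, ⟨-15550, 10952⟩, ⟨15419, 20827⟩, ⟨-27089, 6621⟩, ⟨1080, -20355⟩, ⟨-19887, 17573⟩, ⟨76291, -16098⟩, ⟨-52957, -74990⟩, ⟨-42804, -17163⟩],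
  [⟨16507, 25262⟩, ⟨-28223, 6627⟩, ⟨-22753, 6847⟩, ⟨30921, 13568⟩, ⟨-26673, -69708⟩, ⟨11905, -14649⟩, ⟨-12015, 16448⟩, ⟨9102, -34481⟩, ⟨-4665, 26516⟩, ⟨28545, 22259⟩, ⟨28954, 0⟩, ⟨43896, -25130⟩, ⟨-8484, -29766⟩, ⟨-41816, 15387⟩, ⟨-30479, -33731⟩, ⟨-3675, -44064⟩, ⟨37984, -14098⟩, ⟨-10536, 9832⟩, ⟨10966, -6563⟩, ⟨-24967, -9495⟩, ⟨-15190, -738⟩, ⟨-515, 20717⟩, ⟨-20338, -9143⟩, ⟨10688, -12302⟩, ⟨-21182, 1306⟩, ⟨56030, 27363⟩, ⟨3474, -73335⟩, ⟨-18551, -31870⟩],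
  [⟨3104, 52642⟩, ⟨-48554, -14449⟩, ⟨-40446, -9374⟩, ⟨35115, 47418⟩, ⟨20066, -128857⟩, ⟨30771, -11882⟩, ⟨-32498, 14503⟩, ⟨43739, -44385⟩, ⟨-30094, 36153⟩, ⟨23963, 58529⟩, ⟨43896, 25130⟩, ⟨88374, 0⟩, ⟨12973, -52499⟩, ⟨-76767, -12963⟩, ⟨-16932, -77606⟩, ⟨32678, -70005⟩, ⟨69833, 11596⟩, ⟨-24509, 5765⟩, ⟨22324, -435⟩, ⟨-29614, -36068⟩, ⟨-22395, -14307⟩, ⟨-18767, 30967⟩, ⟨-22906, -31523⟩, ⟨26891, -9383⟩, ⟨-33254, -16412⟩, ⟨61209, 90128⟩, ⟨68932, -108186⟩, ⟨-471, -64434⟩],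
  [⟨-30818, 9572⟩, ⟨1456, -30967⟩, ⟨-368, -25403⟩, ⟨-23015, 27822⟩, ⟨79495, -6997⟩, ⟨11576, 16537⟩, ⟨-13386, -17177⟩, ⟨32789, 19469⟩, ⟨-25894, -12571⟩, ⟨-31252, 22828⟩, ⟨-8484, 29766⟩, ⟨12973, 52499⟩, ⟨33094, 0⟩, ⟨-3569, -47509⟩, ⟨43618, -21451⟩, ⟨46385, 9136⟩, ⟨3363, 43187⟩, ⟨-7023, -13713⟩, ⟨3535, 13198⟩, ⟨17078, -22887⟩, ⟨5212, -15404⟩, ⟨-21152, -6604⟩, ⟨15365, -18235⟩, ⟨9522, 14598⟩, ⟨4869, -22164⟩, ⟨-44557, 49594⟩, ⟨74390, 25070⟩, ⟨38209, -9739⟩],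
  [⟨-10417, -45282⟩, ⟨44303, 5433⟩, ⟨36507, 2216⟩, ⟨-37463, -36045⟩, ⟨1469, 114884⟩, ⟨-24991, 14836⟩, ⟨26102, -17361⟩, ⟨-31491, 44971⟩, ⟨20841, -35815⟩, ⟨-29404, -47328⟩, ⟨-41816, -15387⟩, ⟨-76767, 12963⟩, ⟨-3569, 47509⟩, ⟨68596, 0⟩, ⟨26089, 64933⟩, ⟨-18120, 65607⟩, ⟨-62364, 169⟩, ⟨20445, -8605⟩, ⟨-19329, 3655⟩, ⟨31014, 26985⟩, ⟨21554, 9147⟩, ⟨11764, -29652⟩, ⟨24521, 24028⟩, ⟨-21991, 12097⟩, ⟨31293, 9383⟩, ⟨-66394, -69319⟩, ⟨-44019, 104090⟩, ⟨9862, 55912⟩],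
  [⟨-46826, -7356⟩, ⟨21988, -39873⟩, ⟨15983, -33724⟩, ⟨-48367, 21756⟩, ⟨109316, 42308⟩, ⟨4541, 29299⟩, ⟨-6509, -31321⟩, ⟨30601, 46916⟩, ⟨-25982, -33358⟩, ⟨-55989, 9830⟩, ⟨-30479, 33731⟩, ⟨-16932, 77606⟩, ⟨43618, 21451⟩, ⟨26089, -64933⟩, ⟨71400, 0⟩, ⟨55217, 42111⟩, ⟨-23563, 59104⟩, ⟨-367, -22625⟩, ⟨-3893, 19686⟩, ⟨37346, -19093⟩, ⟨16856, -16926⟩, ⟨-23599, -22416⟩, ⟨32072, -14078⟩, ⟨3092, 25412⟩, ⟨20786, -26061⟩, ⟨-90877, 36486⟩, ⟨81802, 81265⟩, ⟨56674, 11928⟩],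
  [⟨-40555, 21927⟩, ⟨-6509, -43806⟩, ⟨-7528, -35507⟩, ⟨-24577, 45352⟩, ⟨109498, -31753⟩, ⟨20791, 19982⟩, ⟨-23506, -20381⟩, ⟨51335, 18237⟩, ⟨-39768, -10473⟩, ⟨-37504, 40626⟩, ⟨-3675, 44064⟩, ⟨32678, 70005⟩, ⟨46385, -9136⟩, ⟨-18120, -65607⟩, ⟨55217, -42111⟩, ⟨67542, 0⟩, ⟨16636, 59608⟩, ⟨-13629, -17283⟩, ⟨8601, 17521⟩, ⟨17622, -36794⟩, ⟨3054, -23033⟩, ⟨-31471, -3418⟩, ⟨16502, -29802⟩, ⟨17378, 17833⟩, ⟨705, -32413⟩, ⟨-48764, 81817⟩, ⟨111192, 14603⟩, ⟨50870, -24201⟩],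
  [⟨9363, 41192⟩, ⟨-40264, -5046⟩, ⟨-33193, -2101⟩, ⟨33971, 32862⟩, ⟨-1052, -104461⟩, ⟨22756, -13426⟩, ⟨-23776, 15724⟩, ⟨28740, -40814⟩, ⟨-19037, 32519⟩, ⟨26617, 43106⟩, ⟨37984, 14098⟩, ⟨69833, -11596⟩, ⟨3363, -43187⟩, ⟨-62364, -169⟩, ⟨-23563, -59104⟩, ⟨16636, -59608⟩, ⟨56708, 0⟩, ⟨-18611, 7772⟩, ⟨17581, -3275⟩, ⟨-28134, -24617⟩, ⟨-19576, -8367⟩, ⟨-10768, 26933⟩, ⟨-22237, -21905⟩, ⟨20019, -10945⟩, ⟨-28432, -8606⟩, ⟨60196, 63190⟩, ⟨40277, -94535⟩, ⟨-8830, -50856⟩],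
  [⟨2576, -14802⟩, ⟨12522, 7178⟩, ⟨10604, 5239⟩, ⟨-6643, -15443⟩, ⟨-13973, 34428⟩, ⟨-9309, 1286⟩, ⟨9956, -1902⟩, ⟨-15026, 9453⟩, ⟨10703, -8063⟩, ⟨-2828, -17796⟩, ⟨-10536, -9832⟩, ⟨-24509, -5765⟩, ⟨-7023, 13713⟩, ⟨20445, 8605⟩, ⟨-367, 22625⟩, ⟨-13629, 17283⟩, ⟨-18611, -7772⟩, ⟨7176, 0⟩, ⟨-6220, -1336⟩, ⟨5861, 11936⟩, ⟨5278, 5429⟩, ⟨7225, -7363⟩, ⟨4294, 10237⟩, ⟨-8072, 845⟩, ⟨8150, 6720⟩, ⟨-11095, -28989⟩, ⟨-26175, 25504⟩, ⟨-4075, 17903⟩],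
  [⟨521, 13314⟩, ⟨-12195, -3891⟩, ⟨-10168, -2568⟩, ⟨8636, 12153⟩, ⟨5706, -32448⟩, ⟨7832, -2850⟩, ⟨-8280, 3504⟩, ⟨11268, -10994⟩, ⟨-7780, 8982⟩, ⟨5764, 14903⟩, ⟨10966, 6563⟩, ⟨22324, 435⟩, ⟨3535, -13198⟩, ⟨-19329, -3655⟩, ⟨-3893, -19686⟩, ⟨8601, -17521⟩, ⟨17581, 3275⟩, ⟨-6220, 1336⟩, ⟨5646, 0⟩, ⟨-7303, -9255⟩, ⟨-5584, -3725⟩, ⟨-4892, 7729⟩, ⟨-5629, -8076⟩, ⟨6841, -2235⟩, ⟨-8317, -4310⟩, ⟨15015, 23069⟩, ⟨17945, -26986⟩, ⟨202, -16280⟩],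
  [⟨-22523, -16372⟩, ⟨22167, -14972⟩, ⟨17379, -13368⟩, ⟨-31118, -1560⟩, ⟨45867, 51370⟩, ⟨-5463, 16538⟩, ⟨4969, -18122⟩, ⟨3458, 32723⟩, ⟨-4674, -24397⟩, ⟨-31918, -9833⟩, ⟨-24967, 9495⟩, ⟨-29614, 36068⟩, ⟨17078, 22887⟩, ⟨31014, -26985⟩, ⟨37346, 19093⟩, ⟨17622, 36794⟩, ⟨-28134, 24617⟩, ⟨5861, -11936⟩, ⟨-7303, 9255⟩, ⟨24648, 0⟩, ⟨13343, -4348⟩, ⟨-6350, -18036⟩, ⟨20540, 1215⟩, ⟨-5182, 14118⟩, ⟨17840, -8073⟩, ⟨-57294, -5220⟩, ⟨21055, 64384⟩, ⟨26455, 21399⟩],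
  [⟨-9313, -12840⟩, ⟨14645, -4200⟩, ⟨11770, -4170⟩, ⟨-16578, -6331⟩, ⟨15778, 35907⟩, ⟨-5874, 7994⟩, ⟨5888, -8935⟩, ⟨-3900, 18331⟩, ⟨1775, -14035⟩, ⟨-15550, -10952⟩, ⟨-15190, 738⟩, ⟨-22395, 14307⟩, ⟨5212, 15404⟩, ⟨21554, -9147⟩, ⟨16856, 16926⟩, ⟨3054, 23033⟩, ⟨-19576, 8367⟩, ⟨5278, -5429⟩, ⟨-5584, 3725⟩, ⟨13343, 4348⟩, ⟨7996, 0⟩, ⟨-256, -10887⟩, ⟨10910, 4281⟩, ⟨-5297, 6735⟩, ⟨11086, -1224⟩, ⟨-30106, -12930⟩, ⟨45, 38579⟩, ⟨10556, 16255⟩],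
  [⟨17786, -12271⟩, ⟨5251, 20083⟩, ⟨5305, 16166⟩, ⟨9156, -22376⟩, ⟨-49414, 20338⟩, ⟨-10700, -8259⟩, ⟨11984, 8310⟩, ⟨-24845, -5900⟩, ⟨19061, 2869⟩, ⟨15419, -20827⟩, ⟨-515, -20717⟩, ⟨-18767, -30967⟩, ⟨-21152, 6604⟩, ⟨11764, 29652⟩, ⟨-23599, 22416⟩, ⟨-31471, 3418⟩, ⟨-10768, -26933⟩, ⟨7225, 7363⟩, ⟨-4892, -7729⟩, ⟨-6350, 18036⟩, ⟨-256, 10887⟩, ⟨14840, 0⟩, ⟨-6181, 14723⟩, ⟨-9001, -7428⟩, ⟨1312, 15140⟩, ⟨18581, -40591⟩, ⟨-52553, -1178⟩, ⟨-22476, 13852⟩],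
  [⟨-19588, -12538⟩, ⟨17741, -13579⟩, ⟨13831, -11997⟩, ⟨-26020, 238⟩, ⟨40767, 40558⟩, ⟨-3737, 14059⟩, ⟨3254, -15350⟩, ⟨4495, 27111⟩, ⟨-5093, -20106⟩, ⟨-27089, -6621⟩, ⟨-20338, 9143⟩, ⟨-22906, 31523⟩, ⟨15365, 18235⟩, ⟨24521, -24028⟩, ⟨32072, 14078⟩, ⟨16502, 29802⟩, ⟨-22237, 21905⟩, ⟨4294, -10237⟩, ⟨-5629, 8076⟩, ⟨20540, -1215⟩, ⟨10910, -4281⟩, ⟨-6181, -14723⟩, ⟨17186, 0⟩, ⟨-3621, 12030⟩, ⟨14477, -7607⟩, ⟨-48017, -1525⟩, ⟨20724, 52635⟩, ⟨23112, 16531⟩],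
  [⟨-4649, 16357⟩, ⟨-13246, -9558⟩, ⟨-11309, -7153⟩, ⟨5653, 18165⟩, ⟨19792, -37085⟩, ⟨10629, -348⟩, ⟨-11425, 957⟩, ⟨18029, -8858⟩, ⟨-12996, 7801⟩, ⟨1080, 20355⟩, ⟨10688, 12302⟩, ⟨26891, 9383⟩, ⟨9522, -14598⟩, ⟨-21991, -12097⟩, ⟨3092, -25412⟩, ⟨17378, -17833⟩, ⟨20019, 10945⟩, ⟨-8072, -845⟩, ⟨6841, 2235⟩, ⟨-5182, -14118⟩, ⟨-5297, -6735⟩, ⟨-9001, 7428⟩, ⟨-3621, -12030⟩, ⟨9190, 0⟩, ⟨-8373, -8529⟩, ⟨9057, 33929⟩, ⟨32470, -25598⟩, ⟨6698, -19668⟩],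
  [⟨-10950, -19232⟩, ⟨20954, -3585⟩, ⟨16964, -3984⟩, ⟨-22023, -11318⟩, ⟨16383, 52216⟩, ⟨-9371, 10188⟩, ⟨9539, -11493⟩, ⟨-8215, 24829⟩, ⟨4613, -19195⟩, ⟨-19887, -17573⟩, ⟨-21182, -1306⟩, ⟨-33254, 16412⟩, ⟨4869, 22164⟩, ⟨31293, -9383⟩, ⟨20786, 26061⟩, ⟨705, 32413⟩, ⟨-28432, 8606⟩, ⟨8150, -6720⟩, ⟨-8317, 4310⟩, ⟨17840, 8073⟩, ⟨11086, 1224⟩, ⟨1312, -15140⟩, ⟨14477, 7607⟩, ⟨-8373, 8529⟩, ⟨15566, 0⟩, ⟨-39773, -22546⟩, ⟨-5846, 53516⟩, ⟨12148, 24156⟩],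
  [⟨55843, 33298⟩, ⟨-48369, 39513⟩, ⟨-37577, 34754⟩, ⟨72685, -2971⟩, ⟨-117523, -109718⟩, ⟨9196, -39614⟩, ⟨-7719, 43187⟩, ⟨-14970, -75354⟩, ⟨16025, 55733⟩, ⟨76291, 16098⟩, ⟨56030, -27363⟩, ⟨61209, -90128⟩, ⟨-44557, -49594⟩, ⟨-66394, 69319⟩, ⟨-90877, -36486⟩, ⟨-48764, -81817⟩, ⟨60196, -63190⟩, ⟨-11095, 28989⟩, ⟨15015, -23069⟩, ⟨-57294, 5220⟩, ⟨-30106, 12930⟩, ⟨18581, 40591⟩, ⟨-48017, 1525⟩, ⟨9057, -33929⟩, ⟨-39773, 22546⟩, ⟨134320, 0⟩, ⟨-62588, -145240⟩, ⟨-66046, -44150⟩],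
  [⟨-62024, 44871⟩, ⟨-20191, -70714⟩, ⟨-20071, -56831⟩, ⟨-30654, 79980⟩, ⟨173400, -75954⟩, ⟨38552, 28402⟩, ⟨-43103, -28477⟩, ⟨88461, 18925⟩, ⟨-67734, -8646⟩, ⟨-52957, 74990⟩, ⟨3474, 73335⟩, ⟨68932, 108186⟩, ⟨74390, -25070⟩, ⟨-44019, -104090⟩, ⟨81802, -81265⟩, ⟨111192, -14603⟩, ⟨40277, 94535⟩, ⟨-26175, -25504⟩, ⟨17945, 26986⟩, ⟨21055, -64384⟩, ⟨45, -38579⟩, ⟨-52553, 1178⟩, ⟨20724, -52635⟩, ⟨32470, 25598⟩, ⟨-5846, -53516⟩, ⟨-62588, 145240⟩, ⟨186220, 0⟩, ⟨78510, -50845⟩],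
  [⟨-38409, 1979⟩, ⟨10800, -35330⟩, ⟨7058, -29437⟩, ⟨-34768, 25353⟩, ⟨93852, 15323⟩, ⟨8499, 22503⟩, ⟨-10396, -23768⟩, ⟨32125, 32135⟩, ⟨-26195, -22136⟩, ⟨-42804, 17163⟩, ⟨-18551, 31870⟩, ⟨-471, 64434⟩, ⟨38209, 9739⟩, ⟨9862, -55912⟩, ⟨56674, -11928⟩, ⟨50870, 24201⟩, ⟨-8830, 50856⟩, ⟨-4075, -17903⟩, ⟨202, 16280⟩, ⟨26455, -21399⟩, ⟨10556, -16255⟩, ⟨-22476, -13852⟩, ⟨23112, -16531⟩, ⟨6698, 19668⟩, ⟨12148, -24156⟩, ⟨-66046, 44150⟩, ⟨78510, 50845⟩, ⟨46996, 0⟩]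
]

end Cfsg.Agent.Lib.helper14
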