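import Mathlib
import Cfsg.Prelude.Def_Spor_Ru
import Cfsg.Agent.Lib.Helper29.RvLBasic
import Cfsg.Agent.Lib.Helper29.RvLData
import Cfsg.Agent.Lib.Helper29.RvLMain
import Cfsg.Agent.Lib.helper14.RuSpanData

/-!
# Project RU, piece P1: the Rudvalis lattice is the `ℤ[i]`-span of an explicit basis

`ruB t`, `ruD t` (`t : Fin 28`) are dual bases inside the lattice:
`ru_expand : 4 • x = ∑ t, rvlHerm x (ruD t) • ruB t` for every `x : RuVec`, hence
`ru_span` (every lattice vector is an integral combination of the `ruB t`) and the decidable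
membership test `ru_mem_iff : x ∈ ruLattice ↔ ∀ t, 4 ∣ rvlHerm x (ruD t)`.
-/

set_option autoImplicit false
set_option maxRecDepth 100000

namespace Cfsg.Agent.Lib.helper14

open Cfsg.Spor Cfsg.Agent.Lib.Helper29

/-- one of the five generating operations: `0 = i`, `1 = Rj`, `2 = Rk`, `3 = Sign`, `4 = Shift` -/
def ruOp (k : Fin 5) (v : RuVec) : RuVec :=
  match k with
  | 0 => gI • v
  | 1 => ruRj v
  | 2 => ruRk v
  | 3 => ruSign v
  | 4 => ruShift v

/-- apply a word, first letter first -/
def ruWord : List (Fin 5) → RuVec → RuVec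
  | [], v => v
  | k :: w, v => ruWord w (ruOp k v)

theorem ruOp_mem (k : Fin 5) {v : RuVec} (hv : v ∈ ruLattice) : ruOp k v ∈ ruLattice := by
  fin_cases k
  · exact gI_smul_mem_ruLattice hv
  · exact rvl_Rj_mem hv
  · exact rvl_Rk_mem hv
  · exact rvl_Sign_mem hv
  · exact rvl_Shift_mem hv

theorem ruWord_mem (w : List (Fin 5)) : ∀ {v : RuVec}, v ∈ ruLattice → ruWord w v ∈ ruLattice := by
  induction w with
  | nil => intro v hv; exact hv
  | cons k w ih => intro v hv; exact ih (ruOp_mem k hv)

theorem ruTableD_mem (j : ℕ) : ruTable.getD j 0 ∈ ruLattice := by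
  by_cases h : j < ruTable.length
  · rw [List.getD_eq_getElem _ _ h]
    exact rvl_lattice_mem_ruClosed.1 _ (List.getElem_mem h)
  · rw [List.getD_eq_default _ _ (not_lt.mp h)]
    exact zero_mem _

/-- the lattice is a `ℤ[i]`-module -/
theorem ru_smul_mem (a : GaussianInt) {v : RuVec} (hv : v ∈ ruLattice) : a • v ∈ ruLattice := by
  have h : a • v = a.re • v + a.im • (gI • v) := by
    funext p
    simp only [Pi.add_apply, Pi.smul_apply, smul_eq_mul, zsmul_eq_mul]
    apply Zsqrtd.ext <;> simp [gI]
  rw [h]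
  exact add_mem (zsmul_mem hv _) (zsmul_mem (gI_smul_mem_ruLattice hv) _)

theorem rvlComb_nil_left (L : List RuVec) : rvlComb [] L = 0 := by
  funext p; simp [rvlComb]

theorem rvlComb_nil_right (A : List GaussianInt) : rvlComb A [] = 0 := by
  funext p; simp [rvlComb]

theorem rvlComb_cons (a : GaussianInt) (A : List GaussianInt) (r : RuVec) (L : List RuVec) :
    rvlComb (a :: A) (r :: L) = a • r + rvlComb A L := by
  funext p; simp [rvlComb]

theorem ru_comb_mem (A : List GaussianInt) : ∀ (L : List RuVec), (∀ r ∈ L, r ∈ ruLattice) →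
    rvlComb A L ∈ ruLattice := by
  induction A with
  | nil => intro L _; rw [rvlComb_nil_left]; exact zero_mem _
  | cons a A ih =>
    intro L hL
    cases L with
    | nil => rw [rvlComb_nil_right]; exact zero_mem _
    | cons r L =>
      rw [rvlComb_cons]
      exact add_mem (ru_smul_mem a (hL r (by simp))) (ih L fun s hs => hL s (by simp [hs]))

/-- the basis -/
def ruB (t : Fin 28) : RuVec := rvlMk (ruBL.getD t.val [])

/-- the dual basis -/
def ruD (t : Fin 28) : RuVec := rvlMk (ruDL.getD t.val [])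

theorem ruB_word : ∀ t : Fin 28, ∀ p : RuIdx,
    ruB t p = ruWord (ruBW.getD t.val (0, [])).2 (ruTable.getD (ruBW.getD t.val (0, [])).1 0) p := by
  decide +kernel

theorem ruB_mem (t : Fin 28) : ruB t ∈ ruLattice := by
  have h : ruB t = ruWord (ruBW.getD t.val (0, [])).2 (ruTable.getD (ruBW.getD t.val (0, [])).1 0) :=
    funext (ruB_word t)
  rw [h]
  exact ruWord_mem _ (ruTableD_mem _)

theorem ruD_comb : ∀ t : Fin 28, ∀ p : RuIdx,
    ruD t p = rvlComb (ruDA.getD t.val []) (ruBL.map rvlMk) p := by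
  decide +kernel

theorem ruBL_mem : ∀ r ∈ ruBL.map rvlMk, r ∈ ruLattice := by
  intro r hr
  obtain ⟨l, hl, rfl⟩ := List.mem_map.1 hr
  obtain ⟨n, hn, rfl⟩ := List.getElem_of_mem hl
  have h28 : ruBL.length = 28 := rfl
  have : rvlMk ruBL[n] = ruB ⟨n, h28 ▸ hn⟩ := by
    simp only [ruB]
    rw [List.getD_eq_getElem _ _ hn]
  rw [this]
  exact ruB_mem _

theorem ruD_mem (t : Fin 28) : ruD t ∈ ruLattice := by
  have h : ruD t = rvlComb (ruDA.getD t.val []) (ruBL.map rvlMk) := funext (ruD_comb t)
  rw [h]
  exact ru_comb_mem _ _ ruBL_mem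

theorem ru_dual_list : ∀ p q : RuIdx,
    ((List.finRange 28).map fun t => ruB t p * star (ruD t q)).sum = if p = q then 4 else 0 := by
  decide +kernel

theorem ru_dual (p q : RuIdx) : ∑ t, ruB t p * star (ruD t q) = if p = q then 4 else 0 := by
  rw [Fin.sum_univ_def]; exact ru_dual_list p q

/-- the expansion of an arbitrary vector on the basis -/
theorem ru_expand (x : RuVec) : (4 : GaussianInt) • x = ∑ t, rvlHerm x (ruD t) • ruB t := by
  funext p
  simp only [Pi.smul_apply, smul_eq_mul, Finset.sum_apply, rvlHerm, Finset.sum_mul]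
  rw [Finset.sum_comm]
  have : ∀ q : RuIdx, ∑ t, x q * star (ruD t q) * ruB t p = x q * (if p = q then 4 else 0) := by
    intro q
    rw [← ru_dual p q, Finset.mul_sum]
    exact Finset.sum_congr rfl fun t _ => by ring
  rw [Finset.sum_congr rfl fun q _ => this q]
  simp [mul_comm]

/-- every lattice vector is an integral combination of the basis; the coefficients are the
Hermitian products with the dual basis divided by four -/
theorem ru_span {x : RuVec} (hx : x ∈ ruLattice) :
    ∃ c : Fin 28 → GaussianInt, (∀ t, rvlHerm x (ruD t) = 4 * c t) ∧ x = ∑ t, c t • ruB t := by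
  have h : ∀ t, ∃ c : GaussianInt, rvlHerm x (ruD t) = 4 * c := fun t => rvl_bil hx (ruD_mem t)
  choose c hc using h
  refine ⟨c, hc, ?_⟩
  have h4 : (4 : GaussianInt) • x = (4 : GaussianInt) • ∑ t, c t • ruB t := by
    rw [ru_expand x, Finset.smul_sum]
    exact Finset.sum_congr rfl fun t _ => by rw [hc t, mul_smul]
  funext p
  have := congrFun h4 p
  simp only [Pi.smul_apply, smul_eq_mul] at this
  exact mul_left_cancel₀ (by norm_num : (4 : GaussianInt) ≠ 0) this

theorem ru_sum_mem (c : Fin 28 → GaussianInt) : ∑ t, c t • ruB t ∈ ruLattice :=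
  sum_mem fun t _ => ru_smul_mem _ (ruB_mem t)

/-- membership test: the lattice is its own dual -/
theorem ru_mem_iff (x : RuVec) : x ∈ ruLattice ↔ ∀ t, (4 : GaussianInt) ∣ rvlHerm x (ruD t) := by
  constructor
  · intro hx t; exact rvl_bil hx (ruD_mem t)
  · intro h
    choose c hc using h
    have h4 : (4 : GaussianInt) • x = (4 : GaussianInt) • ∑ t, c t • ruB t := by
      rw [ru_expand x, Finset.smul_sum]
      exact Finset.sum_congr rfl fun t _ => by rw [hc t, mul_smul]
    have hx : x = ∑ t, c t • ruB t := by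
      funext p
      have := congrFun h4 p
      simp only [Pi.smul_apply, smul_eq_mul] at this
      exact mul_left_cancel₀ (by norm_num : (4 : GaussianInt) ≠ 0) this
    rw [hx]; exact ru_sum_mem c

/-- the lattice is its own dual (for the Hermitian form divided by four) -/
theorem ru_mem_of_dual {x : RuVec} (h : ∀ y ∈ ruLattice, (4 : GaussianInt) ∣ rvlHerm x y) :
    x ∈ ruLattice :=
  (ru_mem_iff x).2 fun t => h _ (ruD_mem t)

end Cfsg.Agent.Lib.helper14
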