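import Mathlib
import Cfsg.Prelude.Def_Spor_Ru
import Cfsg.Agent.Lib.Helper29.RvLBasic
import Cfsg.Agent.Lib.Helper29.RvLData
import Cfsg.Agent.Lib.Helper29.RvLMain
import Cfsg.Agent.Lib.helper14.RuSpan

/-!
# Project RU, piece P5 (generic part): elements of `fourRu`

* `ru_polar` : elements of `fourRu` preserve the Hermitian form;
* `ru_ext_of_total` : an element of `fourRu` is determined by its values on a total family;
* `ru_expand'`, `ru_mem_of_basis`, `ruB_total`.
(The constructors of elements of `fourRu` are in `RuAutMat`.)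
-/

set_option autoImplicit false
set_option maxRecDepth 100000

namespace Cfsg.Agent.Lib.helper14

open Cfsg.Spor Cfsg.Agent.Lib.Helper29 Matrix

/-! ### polarisation -/

theorem rvlHerm_gI_left (x y : RuVec) : rvlHerm (gI • x) y = gI * rvlHerm x y :=
  rvlHerm_smul_left gI x y

theorem rvlHerm_sub_left (x x' y : RuVec) : rvlHerm (x - x') y = rvlHerm x y - rvlHerm x' y := by
  rw [sub_eq_add_neg, rvlHerm_add_left, rvlHerm_neg_left, sub_eq_add_neg]

theorem rvlHerm_self (x : RuVec) : rvlHerm x x = ((ruNorm x : ℤ) : GaussianInt) := by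
  simp only [rvlHerm, ruNorm, Int.cast_sum]
  refine Finset.sum_congr rfl fun p _ => ?_
  apply Zsqrtd.ext <;> simp [Zsqrtd.norm_def] <;> ring

theorem rvlHerm_self_eq_zero {x : RuVec} (h : rvlHerm x x = 0) : x = 0 := by
  by_contra hx
  have := ruNorm_pos hx
  rw [rvlHerm_self] at h
  have h0 : ruNorm x = 0 := by exact_mod_cast h
  omega

theorem ru_polar_re {f : Equiv.Perm ruLattice} (hf : f ∈ fourRu) (x y : ruLattice) :
    (rvlHerm (f x : RuVec) (f y : RuVec)).re = (rvlHerm (x : RuVec) (y : RuVec)).re := by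
  have h1 := hf.2.2 (x + y)
  rw [hf.1 x y] at h1
  simp only [AddSubgroup.coe_add] at h1
  rw [ruNorm_add, ruNorm_add, hf.2.2 x, hf.2.2 y] at h1
  omega

/-- elements of `fourRu` preserve the Hermitian form -/
theorem ru_polar {f : Equiv.Perm ruLattice} (hf : f ∈ fourRu) (x y : ruLattice) :
    rvlHerm (f x : RuVec) (f y : RuVec) = rvlHerm (x : RuVec) (y : RuVec) := by
  apply Zsqrtd.ext
  · exact ru_polar_re hf x y
  · have h := ru_polar_re hf (ruI x) y
    rw [hf.2.1 x] at h
    have e1 : ((ruI (f x) : ruLattice) : RuVec) = gI • ((f x : ruLattice) : RuVec) := rfl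
    have e2 : ((ruI x : ruLattice) : RuVec) = gI • (x : RuVec) := rfl
    rw [e1, e2, rvlHerm_gI_left, rvlHerm_gI_left] at h
    simp only [gI, Zsqrtd.re_mul, zero_mul, one_mul, zero_add] at h
    omega

/-! ### the second expansion, totality -/

theorem ru_dual' (p q : RuIdx) : ∑ t, ruD t p * star (ruB t q) = if p = q then 4 else 0 := by
  have h := congrArg star (ru_dual q p)
  simp only [star_sum, star_mul', star_star] at h
  rw [Finset.sum_congr rfl fun t _ => mul_comm (ruD t p) (star (ruB t q))]
  rw [h]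
  split_ifs with h1 h2 h2
  · rfl
  · exact absurd h1.symm h2
  · exact absurd h2.symm h1
  · simp

theorem ru_expand' (x : RuVec) : (4 : GaussianInt) • x = ∑ t, rvlHerm x (ruB t) • ruD t := by
  funext p
  simp only [Pi.smul_apply, smul_eq_mul, Finset.sum_apply, rvlHerm, Finset.sum_mul]
  rw [Finset.sum_comm]
  have : ∀ q : RuIdx, ∑ t, x q * star (ruB t q) * ruD t p = x q * (if p = q then 4 else 0) := by
    intro q
    rw [← ru_dual' p q, Finset.mul_sum]
    exact Finset.sum_congr rfl fun t _ => by ring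
  rw [Finset.sum_congr rfl fun q _ => this q]
  simp [mul_comm]

theorem ru_sum_mem' (c : Fin 28 → GaussianInt) : ∑ t, c t • ruD t ∈ ruLattice :=
  sum_mem fun t _ => ru_smul_mem _ (ruD_mem t)

theorem ru_smul_four_cancel {x y : RuVec} (h : (4 : GaussianInt) • x = (4 : GaussianInt) • y) :
    x = y := by
  funext p
  have := congrFun h p
  simp only [Pi.smul_apply, smul_eq_mul] at this
  exact mul_left_cancel₀ (by norm_num : (4 : GaussianInt) ≠ 0) this

/-- membership test against the basis of minimal vectors -/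
theorem ru_mem_of_basis {x : RuVec} (h : ∀ t, (4 : GaussianInt) ∣ rvlHerm x (ruB t)) :
    x ∈ ruLattice := by
  choose c hc using h
  have h4 : (4 : GaussianInt) • x = (4 : GaussianInt) • ∑ t, c t • ruD t := by
    rw [ru_expand' x, Finset.smul_sum]
    exact Finset.sum_congr rfl fun t _ => by rw [hc t, mul_smul]
  rw [ru_smul_four_cancel h4]; exact ru_sum_mem' c

theorem ru_mem_iff' (x : RuVec) : x ∈ ruLattice ↔ ∀ t, (4 : GaussianInt) ∣ rvlHerm x (ruB t) :=
  ⟨fun hx t => rvl_bil hx (ruB_mem t), ru_mem_of_basis⟩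

/-- the basis is total -/
theorem ruB_total {z : RuVec} (h : ∀ t, rvlHerm z (ruB t) = 0) : z = 0 := by
  have h4 : (4 : GaussianInt) • z = (4 : GaussianInt) • (0 : RuVec) := by
    rw [ru_expand' z, smul_zero]
    exact Finset.sum_eq_zero fun t _ => by rw [h t, zero_smul]
  exact ru_smul_four_cancel h4

theorem ruD_total {z : RuVec} (h : ∀ t, rvlHerm z (ruD t) = 0) : z = 0 := by
  have h4 : (4 : GaussianInt) • z = (4 : GaussianInt) • (0 : RuVec) := by
    rw [ru_expand z, smul_zero]
    exact Finset.sum_eq_zero fun t _ => by rw [h t, zero_smul]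
  exact ru_smul_four_cancel h4

/-- an element of `fourRu` fixing a total family is the identity -/
theorem ru_eq_one_of_total {ι : Type*} (b : ι → ruLattice)
    (htot : ∀ z : RuVec, (∀ i, rvlHerm z (b i : RuVec) = 0) → z = 0)
    {f : Equiv.Perm ruLattice} (hf : f ∈ fourRu) (h : ∀ i, f (b i) = b i) : f = 1 := by
  refine Equiv.ext fun x => Subtype.ext ?_
  have hz : ((f x : ruLattice) : RuVec) - (x : RuVec) = 0 := by
    apply htot
    intro i
    rw [rvlHerm_sub_left]
    have := ru_polar hf x (b i)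
    rw [h i] at this
    rw [this, sub_self]
  exact sub_eq_zero.1 hz

/-- an element of `fourRu` is determined by its values on a total family -/
theorem ru_ext_of_total {ι : Type*} (b : ι → ruLattice)
    (htot : ∀ z : RuVec, (∀ i, rvlHerm z (b i : RuVec) = 0) → z = 0)
    {f g : Equiv.Perm ruLattice} (hf : f ∈ fourRu) (hg : g ∈ fourRu)
    (h : ∀ i, f (b i) = g (b i)) : f = g := by
  have h1 : g⁻¹ * f = 1 := by
    apply ru_eq_one_of_total b htot (fourRu.mul_mem (fourRu.inv_mem hg) hf)
    intro i
    simp [Equiv.Perm.mul_apply, h i]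
  calc f = g * (g⁻¹ * f) := by group
    _ = g := by rw [h1, mul_one]

/-- the basis vectors as elements of the lattice -/
def ruBv (t : Fin 28) : ruLattice := ⟨ruB t, ruB_mem t⟩

theorem ru_ext_of_basis {f g : Equiv.Perm ruLattice} (hf : f ∈ fourRu) (hg : g ∈ fourRu)
    (h : ∀ t, f (ruBv t) = g (ruBv t)) : f = g :=
  ru_ext_of_total ruBv (fun _ hz => ruB_total hz) hf hg h

end Cfsg.Agent.Lib.helper14
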