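import Cfsg.Agent.Lib.Helper28.TOO.Defs
import Cfsg.Agent.Lib.helper6.TSSIEG

/-!
# Project TOO, row WG9 (`w1_skew_span`), written by helper14.

`Nw J x y = (x yᵀ - y xᵀ) J`; a skew-adjoint `ξ` is `(T - Tᵀ) J` with `T = ½ ξ J⁻¹`.
-/

set_option autoImplicit false
set_option linter.unusedVariables false
set_option linter.unusedSectionVars false

namespace Cfsg.Agent.Lib.Helper28.TOO

open Matrix
open scoped Kronecker
open Cfsg.Agent.Lib.helper7.TP Cfsg.Agent.Lib.Helper21.TS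

section generic

variable {ι : Type*} [Fintype ι] [DecidableEq ι] {F : Type*} [Field F] {J : Matrix ι ι F}

theorem toowg9_opm_eq (v w : ι → F) : opm J v w = Matrix.vecMulVec v w * J := by
  ext k l
  rw [opm_apply, Matrix.mul_apply]
  simp only [Matrix.vecMulVec_apply, Matrix.vecMul, dotProduct, Finset.mul_sum, mul_assoc]

theorem toowg9_single (i j : ι) (c : F) :
    (Matrix.single i j c - (Matrix.single i j c)ᵀ) * J = Nw J (Pi.single i c) (Pi.single j 1) := by
  rw [Nw, toowg9_opm_eq, toowg9_opm_eq, ← Matrix.sub_mul]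
  congr 1
  ext k l
  simp only [Matrix.sub_apply, Matrix.transpose_apply, Matrix.single_apply, Matrix.vecMulVec_apply,
    Pi.single_apply]
  by_cases h1 : i = k <;> by_cases h2 : j = l <;> by_cases h3 : i = l <;> by_cases h4 : j = k <;>
    (try simp [h1, h2, h3, h4, eq_comm]) <;> (try tauto)

theorem toowg9_all (Ξ : Submodule F (Matrix ι ι F)) (h : ∀ x y : ι → F, Nw J x y ∈ Ξ)
    (T : Matrix ι ι F) : (T - Tᵀ) * J ∈ Ξ := by
  have hT := Matrix.matrix_eq_sum_single T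
  let L : Matrix ι ι F →ₗ[F] Matrix ι ι F :=
    { toFun := fun T => (T - Tᵀ) * J
      map_add' := by
        intro A B
        rw [Matrix.transpose_add, ← Matrix.add_mul]
        congr 1
        abel
      map_smul' := by
        intro c A
        simp only [Matrix.transpose_smul, ← smul_sub, Matrix.smul_mul, RingHom.id_apply] }
  show L T ∈ Ξ
  have hLT := congrArg L hT
  rw [hLT, map_sum]
  refine Submodule.sum_mem _ (fun i _ => ?_)
  rw [map_sum]
  refine Submodule.sum_mem _ (fun j _ => ?_)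
  show (Matrix.single i j (T i j) - (Matrix.single i j (T i j))ᵀ) * J ∈ Ξ
  rw [toowg9_single]
  exact h _ _

/-- WG9 -/
theorem w1_skew_span (h2 : (2 : F) ≠ 0) (hJ : Jᵀ = J) (hdet : J.det ≠ 0) (Ξ : Submodule F (Matrix ι ι F))
    (h : ∀ x y : ι → F, Nw J x y ∈ Ξ) (ξ : Matrix ι ι F) (hξ : SkewAdj J ξ) : ξ ∈ Ξ := by
  have hu : IsUnit J.det := isUnit_iff_ne_zero.2 hdet
  have hJJ : J * J⁻¹ = 1 := Matrix.mul_nonsing_inv J hu
  have hJJ' : J⁻¹ * J = 1 := Matrix.nonsing_inv_mul J hu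
  have hJinvT : (J⁻¹)ᵀ = J⁻¹ := by rw [Matrix.transpose_nonsing_inv, hJ]
  have h1 : ξᵀ = -(J * ξ * J⁻¹) := by
    have h3 : ξᵀ * J * J⁻¹ = -(J * ξ) * J⁻¹ := by
      unfold SkewAdj at hξ
      rw [hξ]
    rw [Matrix.mul_assoc, hJJ, Matrix.mul_one, Matrix.neg_mul] at h3
    exact h3
  have hST : (ξ * J⁻¹)ᵀ = -(ξ * J⁻¹) := by
    rw [Matrix.transpose_mul, hJinvT, h1, Matrix.mul_neg, ← Matrix.mul_assoc, ← Matrix.mul_assoc, hJJ',
      Matrix.one_mul]
  have key := toowg9_all Ξ h ((1 / 2 : F) • (ξ * J⁻¹))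
  have hhalf : (1 / 2 : F) + 1 / 2 = 1 := by
    field_simp
    norm_num
  have hfin : ((1 / 2 : F) • (ξ * J⁻¹) - ((1 / 2 : F) • (ξ * J⁻¹))ᵀ) * J = ξ := by
    rw [Matrix.transpose_smul, hST, smul_neg, sub_neg_eq_add, ← add_smul, hhalf, one_smul,
      Matrix.mul_assoc, hJJ', Matrix.mul_one]
  rwa [hfin] at key

end generic

end Cfsg.Agent.Lib.Helper28.TOO
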