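import Cfsg.Agent.Lib.Helper28.TOO.Defs
import Cfsg.Agent.Lib.helper6.TSSIEG
import Cfsg.Agent.Lib.helper7.TOOWG1
import Cfsg.Agent.Lib.helper4.TOOWG2
import Cfsg.Agent.Lib.helper14.TOOWG10

/-!
# Project TOO, row WI1 (`w1_irr_noneig`), written by helper14 (uses WG1, WG2, WG10).
-/

set_option autoImplicit false
set_option linter.unusedVariables false
set_option linter.unusedSectionVars false

namespace Cfsg.Agent.Lib.Helper28.TOO

open Matrix
open scoped Kronecker
open Cfsg.Agent.Lib.helper7.TP Cfsg.Agent.Lib.Helper21.TS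

section generic

variable {ι : Type*} [Fintype ι] [DecidableEq ι] {F : Type*} [Field F] {J : Matrix ι ι F}

/-- a skew-adjoint matrix having every singular vector as an eigenvector kills the singular vectors -/
theorem toowi1_kill (h2 : (2 : F) ≠ 0) (hJ : Jᵀ = J) (hdet : J.det ≠ 0) (hn : 3 ≤ Fintype.card ι)
    (ξ : Matrix ι ι F) (hξ : SkewAdj J ξ)
    (hcon : ∀ u : ι → F, u ≠ 0 → bf J u u = 0 → ∃ c : F, ξ *ᵥ u = c • u)
    (u : ι → F) (hu : bf J u u = 0) : ξ *ᵥ u = 0 := by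
  have hsk := (skewAdj_iff_bf J ξ).1 hξ
  by_cases hu0 : u = 0
  · rw [hu0, Matrix.mulVec_zero]
  obtain ⟨u', hu', huu'⟩ := w1_hyp_partner h2 hJ hdet u hu0 hu
  have hu'u : bf J u' u = 1 := by rw [bf_symm hJ]; exact huu'
  have hu'0 : u' ≠ 0 := by
    rintro rfl
    rw [bf_zero_right] at huu'
    exact zero_ne_one huu'
  obtain ⟨lam, hlam⟩ := hcon u hu0 hu
  obtain ⟨lam', hlam'⟩ := hcon u' hu'0 hu'
  have h1 : lam = -lam' := by
    have := hsk u u'
    rw [hlam, hlam', bf_smul_left, bf_smul_right, huu'] at this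
    linear_combination this
  obtain ⟨y, hyu, hyu', hyy⟩ := w1_nonsing_perp h2 hJ hdet hn u u' hu hu' huu'
  have hyu_ : bf J y u = 0 := by rw [bf_symm hJ]; exact hyu
  have hyu'_ : bf J y u' = 0 := by rw [bf_symm hJ]; exact hyu'
  obtain ⟨c, hc⟩ : ∃ c : F, c = bf J y y / 2 := ⟨_, rfl⟩
  have hc0 : c ≠ 0 := by rw [hc]; exact div_ne_zero hyy h2
  have hv : bf J (u - c • u' + y) (u - c • u' + y) = 0 := by
    simp only [bf_add_left, bf_sub_left, bf_add_right, bf_sub_right, bf_smul_left, bf_smul_right, hu, hu',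
      huu', hu'u, hyu, hyu', hyu_, hyu'_]
    rw [hc]
    field_simp
    ring
  have hv0 : u - c • u' + y ≠ 0 := by
    intro h0
    have h3 : bf J (u - c • u' + y) u' = 0 := by rw [h0, bf_zero_left]
    simp only [bf_add_left, bf_sub_left, bf_smul_left, huu', hu', hyu'_] at h3
    apply one_ne_zero (α := F)
    linear_combination h3
  obtain ⟨mu, hmu⟩ := hcon _ hv0 hv
  have hξv : ξ *ᵥ (u - c • u' + y) = lam • u - (c * lam') • u' + ξ *ᵥ y := by
    rw [Matrix.mulVec_add, Matrix.mulVec_sub, Matrix.mulVec_smul, hlam, hlam', smul_smul]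
  have e1 : bf J (ξ *ᵥ y) u' = 0 := by
    rw [hsk, hlam', bf_smul_right, hyu'_]
    ring
  have e2 : bf J (ξ *ᵥ y) u = 0 := by
    rw [hsk, hlam, bf_smul_right, hyu_]
    ring
  have p1 : bf J (ξ *ᵥ (u - c • u' + y)) u' = bf J (mu • (u - c • u' + y)) u' := by rw [hmu]
  have p2 : bf J (ξ *ᵥ (u - c • u' + y)) u = bf J (mu • (u - c • u' + y)) u := by rw [hmu]
  rw [hξv] at p1 p2
  simp only [bf_add_left, bf_sub_left, bf_smul_left, huu', hu', hu, e1, e2, hyu_, hyu'_, hu'u] at p1 p2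
  have q1 : lam = mu := by linear_combination p1
  have q2 : c * (lam' - mu) = 0 := by linear_combination -p2
  have q3 : lam' = mu := by
    have := (mul_eq_zero.1 q2).resolve_left hc0
    linear_combination this
  have hl0 : lam = 0 := by
    have h4 : (2 : F) * lam = 0 := by linear_combination h1 - q3 + q1
    exact (mul_eq_zero.1 h4).resolve_left h2
  rw [hlam, hl0, zero_smul]

/-- WI1 -/
theorem w1_irr_noneig (h2 : (2 : F) ≠ 0) (hJ : Jᵀ = J) (hdet : J.det ≠ 0) (hn : 3 ≤ Fintype.card ι)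
    (hs : ∃ u : ι → F, u ≠ 0 ∧ bf J u u = 0) (ξ : Matrix ι ι F) (hξ : SkewAdj J ξ) (hξ0 : ξ ≠ 0) :
    ∃ u : ι → F, u ≠ 0 ∧ bf J u u = 0 ∧ ∀ c : F, ξ *ᵥ u ≠ c • u := by
  by_contra hcon
  push Not at hcon
  apply hξ0
  have hkill := toowi1_kill h2 hJ hdet hn ξ hξ hcon
  obtain ⟨u, hu0, hu⟩ := hs
  have htop := w1_sing_span h2 hJ hdet u hu0 hu (LinearMap.ker (Matrix.toLin' ξ))
    (fun s hs => by rw [LinearMap.mem_ker, Matrix.toLin'_apply]; exact hkill s hs)
  rw [Matrix.ext_iff_mulVec]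
  intro x
  have hx : x ∈ LinearMap.ker (Matrix.toLin' ξ) := by rw [htop]; exact Submodule.mem_top
  rw [LinearMap.mem_ker, Matrix.toLin'_apply] at hx
  rw [hx, Matrix.zero_mulVec]

end generic

end Cfsg.Agent.Lib.Helper28.TOO
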