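import Mathlib
import Cfsg.Prelude.Def_GeometricClasses
import Cfsg.Agent.Lib.helper14.SpSLb

set_option autoImplicit false

/-!
# Elements of `SL_n` that are similitudes of no symplectic form: unipotent and diagonal cases
-/

namespace Cfsg.Agent.Lib.helper14.SpSLc

open Cfsg.Agent.Lib.Helper28.SympAbs Matrix

variable {F : Type*} [Field F] {n : ℕ}

/-- `M` is a similitude of `f` -/
def IsSim (f : (Fin n → F) → (Fin n → F) → F) (M : Matrix (Fin n) (Fin n) F) : Prop :=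
  ∃ c : Fˣ, ∀ u v, f (M *ᵥ u) (M *ᵥ v) = (c : F) * f u v

theorem transport (f : (Fin n → F) → (Fin n → F) → F) (hf : Cfsg.Geo.IsSymplecticForm f)
    (x P : Matrix.SpecialLinearGroup (Fin n) F) (h : P⁻¹ * x * P ∈ SpSLb.HH f) :
    ∃ f' : (Fin n → F) → (Fin n → F) → F, Cfsg.Geo.IsSymplecticForm f' ∧
      IsSim f' (x : Matrix (Fin n) (Fin n) F) := by
  set A : Matrix (Fin n) (Fin n) F := ((P⁻¹ : Matrix.SpecialLinearGroup (Fin n) F) :
    Matrix (Fin n) (Fin n) F) with hA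
  set B : Matrix (Fin n) (Fin n) F := (P : Matrix (Fin n) (Fin n) F) with hB
  have hAB : A * B = 1 := by
    rw [hA, hB, ← Matrix.SpecialLinearGroup.coe_mul, inv_mul_cancel,
      Matrix.SpecialLinearGroup.coe_one]
  have hBA : B * A = 1 := by
    rw [hA, hB, ← Matrix.SpecialLinearGroup.coe_mul, mul_inv_cancel,
      Matrix.SpecialLinearGroup.coe_one]
  rw [SpSLb.mem_HH] at h
  obtain ⟨c, hc⟩ := h
  have hval : ((P⁻¹ * x * P : Matrix.SpecialLinearGroup (Fin n) F) : Matrix (Fin n) (Fin n) F) =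
      A * (x : Matrix (Fin n) (Fin n) F) * B := by
    rw [Matrix.SpecialLinearGroup.coe_mul, Matrix.SpecialLinearGroup.coe_mul]
  rw [hval] at hc
  have hBAv : ∀ v : Fin n → F, B *ᵥ (A *ᵥ v) = v := fun v => by
    rw [Matrix.mulVec_mulVec, hBA, Matrix.one_mulVec]
  have hABv : ∀ v : Fin n → F, A *ᵥ (B *ᵥ v) = v := fun v => by
    rw [Matrix.mulVec_mulVec, hAB, Matrix.one_mulVec]
  refine ⟨fun u v => f (A *ᵥ u) (A *ᵥ v), ⟨⟨?_, ?_, ?_, ?_⟩, ?_, ?_, ?_⟩, c, ?_⟩
  · intro x y v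
    show f (A *ᵥ (x + y)) (A *ᵥ v) = _
    rw [Matrix.mulVec_add, hf.bilinear.add_left]
  · intro a x v
    show f (A *ᵥ (a • x)) (A *ᵥ v) = _
    rw [Matrix.mulVec_smul, hf.bilinear.smul_left]
  · intro v x y
    show f (A *ᵥ v) (A *ᵥ (x + y)) = _
    rw [Matrix.mulVec_add, hf.bilinear.add_right]
  · intro a v x
    show f (A *ᵥ v) (A *ᵥ (a • x)) = _
    rw [Matrix.mulVec_smul, hf.bilinear.smul_right]
  · intro v w
    exact hf.skew _ _
  · intro v
    exact hf.alternating _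
  · intro v hv
    have hAv : A *ᵥ v ≠ 0 := by
      intro h0
      apply hv
      rw [← hBAv v, h0, Matrix.mulVec_zero]
    obtain ⟨⟨x1, hx1⟩, ⟨x2, hx2⟩⟩ := hf.nondegenerate _ hAv
    refine ⟨⟨B *ᵥ x1, ?_⟩, ⟨B *ᵥ x2, ?_⟩⟩
    · show f (A *ᵥ (B *ᵥ x1)) (A *ᵥ v) ≠ 0
      rw [hABv]
      exact hx1
    · show f (A *ᵥ v) (A *ᵥ (B *ᵥ x2)) ≠ 0
      rw [hABv]
      exact hx2
  · intro u v
    show f (A *ᵥ ((x : Matrix (Fin n) (Fin n) F) *ᵥ u)) (A *ᵥ ((x : Matrix (Fin n) (Fin n) F) *ᵥ v))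
      = (c : F) * f (A *ᵥ u) (A *ᵥ v)
    rw [← hc (A *ᵥ u) (A *ᵥ v)]
    have e : ∀ w : Fin n → F, (A * (x : Matrix (Fin n) (Fin n) F) * B) *ᵥ (A *ᵥ w) =
        A *ᵥ ((x : Matrix (Fin n) (Fin n) F) *ᵥ w) := by
      intro w
      rw [← Matrix.mulVec_mulVec, ← Matrix.mulVec_mulVec, hBAv]
    rw [e, e]

section basics
variable (f : (Fin n → F) → (Fin n → F) → F) (hf : Cfsg.Geo.IsSymplecticForm f)

/-- basis vectors -/
def ee (i : Fin n) : Fin n → F := Pi.single i 1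

omit [Field F] in
theorem ee_ne_zero [Nontrivial F] [Zero F] [One F] [NeZero (1 : F)] (i : Fin n) :
    (Pi.single i 1 : Fin n → F) ≠ 0 := by
  intro h
  have := congrFun h i
  simp at this

include hf in
theorem left_zero_of_basis (u : Fin n → F) (h : ∀ j, f u (ee j) = 0) : ∀ v, f u v = 0 := by
  intro v
  rw [hf.skew, f_eq_dot hf v u]
  have : rho f u = 0 := by
    funext j
    show f (Pi.single j 1) u = 0
    rw [hf.skew]
    have := h j
    unfold ee at this
    rw [this, neg_zero]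
  rw [this, zero_dotProduct, neg_zero]

include hf in
theorem row_contra (i : Fin n) (h : ∀ j, f (ee i) (ee j) = 0) : False := by
  have hne : (ee i : Fin n → F) ≠ 0 := by
    intro h0
    have := congrFun h0 i
    simp [ee] at this
  obtain ⟨_, ⟨x, hx⟩⟩ := hf.nondegenerate _ hne
  exact hx (left_zero_of_basis f hf _ h x)

include hf in
theorem sim_pow (M : Matrix (Fin n) (Fin n) F) (c : F)
    (h : ∀ u v, f (M *ᵥ u) (M *ᵥ v) = c * f u v) (m : ℕ) :
    ∀ u v, f ((M ^ m) *ᵥ u) ((M ^ m) *ᵥ v) = c ^ m * f u v := by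
  induction m with
  | zero =>
    intro u v
    rw [pow_zero, pow_zero, Matrix.one_mulVec, Matrix.one_mulVec, one_mul]
  | succ m ih =>
    intro u v
    rw [pow_succ, ← Matrix.mulVec_mulVec, ← Matrix.mulVec_mulVec, ih, h, pow_succ, mul_assoc]

include hf in
theorem mult_pow_eq_one (hn : 1 ≤ n) (M : Matrix (Fin n) (Fin n) F) (c : F)
    (h : ∀ u v, f (M *ᵥ u) (M *ᵥ v) = c * f u v) (m : ℕ) (hM : M ^ m = 1) : c ^ m = 1 := by
  have hne : (ee (⟨0, hn⟩ : Fin n) : Fin n → F) ≠ 0 := by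
    intro h0
    have := congrFun h0 ⟨0, hn⟩
    simp [ee] at this
  obtain ⟨_, ⟨x, hx⟩⟩ := hf.nondegenerate _ hne
  have h1 := sim_pow f hf M c h m (ee ⟨0, hn⟩) x
  rw [hM, Matrix.one_mulVec, Matrix.one_mulVec] at h1
  have h2 : (c ^ m - 1) * f (ee ⟨0, hn⟩) x = 0 := by linear_combination -h1
  rcases mul_eq_zero.mp h2 with h3 | h3
  · exact sub_eq_zero.mp h3
  · exact absurd h3 hx

end basics

/-! ### the unipotent case -/

section unip

/-- the nilpotent part -/
def NN (hn : 3 ≤ n) : (Fin n → F) →ₗ[F] (Fin n → F) :=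
  (LinearMap.proj (⟨1, by omega⟩ : Fin n)).smulRight (ee (⟨0, by omega⟩ : Fin n)) +
    (LinearMap.proj (⟨2, by omega⟩ : Fin n)).smulRight (ee (⟨1, by omega⟩ : Fin n))

theorem NN_apply (hn : 3 ≤ n) (v : Fin n → F) : NN hn v =
    v ⟨1, by omega⟩ • ee (⟨0, by omega⟩ : Fin n) + v ⟨2, by omega⟩ • ee (⟨1, by omega⟩ : Fin n) :=
  rfl

theorem NN_ee (hn : 3 ≤ n) (j : Fin n) : NN (F := F) hn (ee j) =
    (if j.val = 1 then ee (⟨0, by omega⟩ : Fin n) else 0) +
      (if j.val = 2 then ee (⟨1, by omega⟩ : Fin n) else 0) := by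
  rw [NN_apply]
  congr 1
  · by_cases h : j.val = 1
    · have : j = ⟨1, by omega⟩ := Fin.ext h
      rw [this]
      simp [ee]
    · have : (⟨1, by omega⟩ : Fin n) ≠ j := fun h' => h (by rw [← h'])
      simp [ee, h, this]
  · by_cases h : j.val = 2
    · have : j = ⟨2, by omega⟩ := Fin.ext h
      rw [this]
      simp [ee]
    · have : (⟨2, by omega⟩ : Fin n) ≠ j := fun h' => h (by rw [← h'])
      simp [ee, h, this]

theorem NN_cube (hn : 3 ≤ n) : (NN (F := F) hn) * NN hn * NN hn = 0 := by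
  apply LinearMap.ext
  intro v
  rw [Module.End.mul_apply, Module.End.mul_apply, LinearMap.zero_apply]
  have h1 : ∀ w : Fin n → F, (NN hn w) ⟨2, by omega⟩ = 0 := by
    intro w
    rw [NN_apply]
    simp [ee]
  have h2 : ∀ w : Fin n → F, (NN hn w) ⟨1, by omega⟩ = w ⟨2, by omega⟩ := by
    intro w
    rw [NN_apply]
    simp [ee]
  rw [NN_apply hn (NN hn (NN hn v)), h1, h2, h1]
  simp

/-- the unipotent element -/
noncomputable def xU (hn : 3 ≤ n) : Matrix (Fin n) (Fin n) F := 1 + LinearMap.toMatrix' (NN hn)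

theorem xU_mulVec (hn : 3 ≤ n) (v : Fin n → F) : xU hn *ᵥ v = v + NN hn v := by
  unfold xU
  rw [Matrix.add_mulVec, Matrix.one_mulVec, LinearMap.toMatrix'_mulVec]

theorem xU_pow (hn : 3 ≤ n) {p : ℕ} [hp : Fact p.Prime] [CharP F p] (hp2 : p ≠ 2) : xU (F := F) hn ^ p = 1 := by
  have : Nonempty (Fin n) := ⟨⟨0, by omega⟩⟩
  have : CharP (Matrix (Fin n) (Fin n) F) p := Matrix.charP p
  unfold xU
  rw [add_pow_char_of_commute p (Commute.one_left _), one_pow]
  have h3 : LinearMap.toMatrix' (NN (F := F) hn) ^ 3 = 0 := by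
    rw [pow_succ, pow_two, ← LinearMap.toMatrix'_mul, ← LinearMap.toMatrix'_mul, NN_cube]
    exact map_zero _
  have hp3 : 3 ≤ p := by
    have := hp.out.two_le
    omega
  obtain ⟨t, ht⟩ := Nat.exists_eq_add_of_le hp3
  rw [ht, pow_add, h3, zero_mul, add_zero]

theorem xU_det (hn : 3 ≤ n) {p : ℕ} [hp : Fact p.Prime] [CharP F p] (hp2 : p ≠ 2) : (xU (F := F) hn).det = 1 := by
  have h1 : (xU (F := F) hn).det ^ p = 1 := by
    rw [← Matrix.det_pow, xU_pow hn hp2, Matrix.det_one]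
  have h2 : ((xU (F := F) hn).det - 1) ^ p = 0 := by
    rw [sub_pow_char, h1, one_pow, sub_self]
  exact sub_eq_zero.mp (pow_eq_zero_iff hp.out.ne_zero |>.mp h2)

theorem xU_not_scalar (hn : 3 ≤ n) (z : F) : xU (F := F) hn ≠ z • (1 : Matrix (Fin n) (Fin n) F) := by
  intro h
  have h1 : xU (F := F) hn *ᵥ ee (⟨1, by omega⟩ : Fin n) =
      (z • (1 : Matrix (Fin n) (Fin n) F)) *ᵥ ee (⟨1, by omega⟩ : Fin n) := by rw [h]
  rw [xU_mulVec, NN_ee, Matrix.smul_mulVec, Matrix.one_mulVec] at h1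
  simp only [if_true] at h1
  have h2 := congrFun h1 ⟨0, by omega⟩
  simp [ee] at h2

theorem xU_not_sim (hn : 3 ≤ n) {p : ℕ} [hp : Fact p.Prime] [CharP F p] (hp2 : p ≠ 2)
    (f : (Fin n → F) → (Fin n → F) → F) (hf : Cfsg.Geo.IsSymplecticForm f) :
    ¬ IsSim f (xU (F := F) hn) := by
  rintro ⟨c, hc⟩
  have hc1 : (c : F) = 1 := by
    have h1 := mult_pow_eq_one f hf (by omega) _ _ hc p (xU_pow hn hp2)
    have h2 : ((c : F) - 1) ^ p = 0 := by
      rw [sub_pow_char, h1, one_pow, sub_self]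
    exact sub_eq_zero.mp (pow_eq_zero_iff hp.out.ne_zero |>.mp h2)
  rw [hc1] at hc
  simp only [one_mul] at hc
  set e0 : Fin n → F := ee ⟨0, by omega⟩ with he0
  set e1 : Fin n → F := ee ⟨1, by omega⟩ with he1
  set e2 : Fin n → F := ee ⟨2, by omega⟩ with he2
  have hx1 : xU hn *ᵥ e1 = e1 + e0 := by
    rw [xU_mulVec, he1, NN_ee]
    simp
    rfl
  have hx2 : xU hn *ᵥ e2 = e2 + e1 := by
    rw [xU_mulVec, he2, NN_ee]
    simp
    rfl
  have hxj : ∀ j : Fin n, j.val ≠ 1 → j.val ≠ 2 → xU hn *ᵥ (ee j : Fin n → F) = ee j := by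
    intro j h1 h2
    rw [xU_mulVec, NN_ee]
    simp [h1, h2]
  -- (c)
  have hc' : ∀ j : Fin n, j.val ≠ 1 → j.val ≠ 2 → f e0 (ee j) = 0 := by
    intro j h1 h2
    have := hc (ee j) e1
    rw [hxj j h1 h2, hx1, hf.bilinear.add_right] at this
    have h3 : f (ee j) e0 = 0 := by linear_combination this
    rw [hf.skew, h3, neg_zero]
  have ha : f e0 e1 = 0 := by
    have := hc e0 e2
    rw [he0, hxj ⟨0, by omega⟩ (by simp) (by simp), hx2, hf.bilinear.add_right] at this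
    linear_combination this
  have hb : f e0 e2 = 0 := by
    have := hc e1 e2
    rw [hx1, hx2, hf.bilinear.add_left, hf.bilinear.add_right, hf.bilinear.add_right,
      hf.alternating, ha] at this
    linear_combination this
  apply row_contra f hf (⟨0, by omega⟩ : Fin n)
  intro j
  by_cases h1 : j.val = 1
  · have : j = ⟨1, by omega⟩ := Fin.ext h1
    rw [this]
    exact ha
  · by_cases h2 : j.val = 2
    · have : j = ⟨2, by omega⟩ := Fin.ext h2
      rw [this]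
      exact hb
    · exact hc' j h1 h2

end unip

/-! ### the diagonal case -/

section diag
variable (μ : Fin n → F) (f : (Fin n → F) → (Fin n → F) → F) (hf : Cfsg.Geo.IsSymplecticForm f)
  (c : F) (hc : ∀ u v, f (Matrix.diagonal μ *ᵥ u) (Matrix.diagonal μ *ᵥ v) = c * f u v)

theorem diag_ee (j : Fin n) : Matrix.diagonal μ *ᵥ (ee j : Fin n → F) = μ j • ee j := by
  funext i
  rw [Matrix.mulVec_diagonal]
  by_cases h : i = j
  · subst h
    simp [ee]
  · simp [ee, h]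

include hc hf in
theorem entry_zero (i j : Fin n) (h : μ i * μ j ≠ c) : f (ee i) (ee j) = 0 := by
  have h1 := hc (ee i) (ee j)
  rw [diag_ee, diag_ee, hf.bilinear.smul_left, hf.bilinear.smul_right] at h1
  have h2 : (μ i * μ j - c) * f (ee i) (ee j) = 0 := by linear_combination h1
  rcases mul_eq_zero.mp h2 with h3 | h3
  · exact absurd (sub_eq_zero.mp h3) h
  · exact h3

include hc hf in
theorem exists_partner (i : Fin n) : ∃ j, j ≠ i ∧ μ i * μ j = c := by
  by_contra hcon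
  push Not at hcon
  apply row_contra f hf i
  intro j
  by_cases hj : j = i
  · rw [hj]
    exact hf.alternating _
  · exact entry_zero μ f hf c hc i j (hcon j hj)

include hc hf in
theorem two_rows (i₀ i₁ j₀ : Fin n) (hne : i₀ ≠ i₁)
    (h : ∀ j, j ≠ j₀ → μ i₀ * μ j ≠ c ∧ μ i₁ * μ j ≠ c) : False := by
  set a := f (ee i₀) (ee j₀) with ha
  set b := f (ee i₁) (ee j₀) with hb
  have hw : ∀ j, f (b • ee i₀ - a • ee i₁) (ee j) = 0 := by
    intro j
    rw [f_sub_left hf, hf.bilinear.smul_left, hf.bilinear.smul_left]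
    by_cases hj : j = j₀
    · rw [hj, ← ha, ← hb]
      ring
    · rw [entry_zero μ f hf c hc i₀ j (h j hj).1, entry_zero μ f hf c hc i₁ j (h j hj).2]
      ring
  have hw0 : b • (ee i₀ : Fin n → F) - a • ee i₁ = 0 := by
    by_contra hne0
    obtain ⟨_, ⟨x, hx⟩⟩ := hf.nondegenerate _ hne0
    exact hx (left_zero_of_basis f hf _ hw x)
  have hb0 : b = 0 := by
    have := congrFun hw0 i₀
    simpa [ee, hne] using this
  have ha0 : a = 0 := by
    have := congrFun hw0 i₁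
    simpa [ee, hne.symm] using this
  apply row_contra f hf i₀
  intro j
  by_cases hj : j = j₀
  · rw [hj, ← ha, ha0]
  · exact entry_zero μ f hf c hc i₀ j (h j hj).1

end diag

end Cfsg.Agent.Lib.helper14.SpSLc
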