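import Mathlib
import Cfsg.Prelude.Def_GeometricClasses
import Cfsg.Agent.Lib.helper14.SpSLa
import Cfsg.Agent.Lib.helper14.SpSLb
import Cfsg.Agent.Lib.helper14.SpSLc

set_option autoImplicit false

/-!
# Plane decompositions: matrices that are block diagonal with 2×2 blocks of constant determinant
are similitudes of a symplectic form; conjugating into the symplectic-type subgroup of `SL_n`.
-/

namespace Cfsg.Agent.Lib.helper14.InvA

open Matrix

section planes
variable {F : Type*} [Field F] {n : ℕ} {κ : Type*} [Fintype κ] [DecidableEq κ]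

/-- the standard alternating form in plane coordinates -/
def BB (a b : Fin 2 × κ → F) : F := ∑ i, (a (0, i) * b (1, i) - a (1, i) * b (0, i))

theorem bd_mulVec (m : κ → Matrix (Fin 2) (Fin 2) F) (a : Fin 2 × κ → F) (p : Fin 2) (i : κ) :
    (blockDiagonal m *ᵥ a) (p, i) = m i p 0 * a (0, i) + m i p 1 * a (1, i) := by
  simp only [mulVec, dotProduct, Fintype.sum_prod_type, Fin.sum_univ_two, blockDiagonal_apply]
  rw [Finset.sum_eq_single i, Finset.sum_eq_single i]
  · simp
  · intro j _ hj
    simp [Ne.symm hj]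
  · intro h; exact absurd (Finset.mem_univ i) h
  · intro j _ hj
    simp [Ne.symm hj]
  · intro h; exact absurd (Finset.mem_univ i) h

theorem BB_sim (m : κ → Matrix (Fin 2) (Fin 2) F) (δ : F) (hdet : ∀ i, (m i).det = δ)
    (a b : Fin 2 × κ → F) :
    BB (blockDiagonal m *ᵥ a) (blockDiagonal m *ᵥ b) = δ * BB a b := by
  unfold BB
  rw [Finset.mul_sum]
  apply Finset.sum_congr rfl
  intro i _
  rw [bd_mulVec, bd_mulVec, bd_mulVec, bd_mulVec]
  have h := hdet i
  rw [Matrix.det_fin_two] at h
  linear_combination (a (0, i) * b (1, i) - a (1, i) * b (0, i)) * h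

theorem BB_add_left (a a' b : Fin 2 × κ → F) : BB (a + a') b = BB a b + BB a' b := by
  unfold BB
  rw [← Finset.sum_add_distrib]
  apply Finset.sum_congr rfl
  intro i _
  simp only [Pi.add_apply]
  ring

theorem BB_smul_left (c : F) (a b : Fin 2 × κ → F) : BB (c • a) b = c * BB a b := by
  unfold BB
  rw [Finset.mul_sum]
  apply Finset.sum_congr rfl
  intro i _
  simp only [Pi.smul_apply, smul_eq_mul]
  ring

theorem BB_skew (a b : Fin 2 × κ → F) : BB a b = - BB b a := by
  unfold BB
  rw [← Finset.sum_neg_distrib]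
  apply Finset.sum_congr rfl
  intro i _
  ring

theorem BB_self (a : Fin 2 × κ → F) : BB a a = 0 := by
  unfold BB
  apply Finset.sum_eq_zero
  intro i _
  ring

theorem BB_single_right (a : Fin 2 × κ → F) (i : κ) :
    BB a (Pi.single ((1 : Fin 2), i) 1) = a (0, i) := by
  unfold BB
  rw [Finset.sum_eq_single i]
  · have h10 : ((0 : Fin 2), i) ≠ ((1 : Fin 2), i) := by
      intro h; have h' : (0 : Fin 2) = 1 := congrArg Prod.fst h; exact absurd h' (by decide)
    rw [Pi.single_eq_same, Pi.single_eq_of_ne h10]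
    ring
  · intro j _ hj
    have h1 : ((1 : Fin 2), j) ≠ ((1 : Fin 2), i) := by
      intro h; exact hj (congrArg Prod.snd h)
    have h0 : ((0 : Fin 2), j) ≠ ((1 : Fin 2), i) := by
      intro h; exact hj (congrArg Prod.snd h)
    rw [Pi.single_eq_of_ne h1, Pi.single_eq_of_ne h0]
    ring
  · intro h; exact absurd (Finset.mem_univ i) h

theorem BB_single_right' (a : Fin 2 × κ → F) (i : κ) :
    BB a (Pi.single ((0 : Fin 2), i) 1) = - a (1, i) := by
  unfold BB
  rw [Finset.sum_eq_single i]
  · have h10 : ((1 : Fin 2), i) ≠ ((0 : Fin 2), i) := by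
      intro h; have h' : (1 : Fin 2) = 0 := congrArg Prod.fst h; exact absurd h' (by decide)
    rw [Pi.single_eq_same, Pi.single_eq_of_ne h10]
    ring
  · intro j _ hj
    have h1 : ((1 : Fin 2), j) ≠ ((0 : Fin 2), i) := by
      intro h; exact hj (congrArg Prod.snd h)
    have h0 : ((0 : Fin 2), j) ≠ ((0 : Fin 2), i) := by
      intro h; exact hj (congrArg Prod.snd h)
    rw [Pi.single_eq_of_ne h1, Pi.single_eq_of_ne h0]
    ring
  · intro h; exact absurd (Finset.mem_univ i) h

variable (g : Matrix (Fin n) (Fin 2 × κ) F) (g' : Matrix (Fin 2 × κ) (Fin n) F)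

/-- the alternating form transported to `F^n` -/
def planeForm (u v : Fin n → F) : F := BB (g' *ᵥ u) (g' *ᵥ v)

theorem planeForm_symp (hgg' : g * g' = 1) (hg'g : g' * g = 1) :
    Cfsg.Geo.IsSymplecticForm (planeForm g') := by
  have hskew : ∀ v w, planeForm g' v w = - planeForm g' w v := fun v w => BB_skew _ _
  have hne : ∀ v : Fin n → F, v ≠ 0 → ∃ x, planeForm g' v x ≠ 0 := by
    intro v hv
    have hw : g' *ᵥ v ≠ 0 := by
      intro h0
      apply hv
      have : g *ᵥ (g' *ᵥ v) = v := by rw [Matrix.mulVec_mulVec, hgg', Matrix.one_mulVec]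
      rw [← this, h0, Matrix.mulVec_zero]
    obtain ⟨⟨p, i⟩, hpi⟩ : ∃ j, (g' *ᵥ v) j ≠ 0 := by
      by_contra hcon
      push Not at hcon
      exact hw (funext hcon)
    have hback : ∀ b : Fin 2 × κ → F, g' *ᵥ (g *ᵥ b) = b := fun b => by
      rw [Matrix.mulVec_mulVec, hg'g, Matrix.one_mulVec]
    fin_cases p
    · refine ⟨g *ᵥ (Pi.single ((1 : Fin 2), i) 1), ?_⟩
      unfold planeForm
      rw [hback, BB_single_right]
      exact hpi
    · refine ⟨g *ᵥ (Pi.single ((0 : Fin 2), i) 1), ?_⟩
      unfold planeForm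
      rw [hback, BB_single_right']
      exact neg_ne_zero.mpr hpi
  refine ⟨⟨?_, ?_, ?_, ?_⟩, hskew, fun v => BB_self _, ?_⟩
  · intro x y v
    unfold planeForm
    rw [Matrix.mulVec_add, BB_add_left]
  · intro c x v
    unfold planeForm
    rw [Matrix.mulVec_smul, BB_smul_left]
  · intro v x y
    rw [hskew, hskew v x, hskew v y]
    unfold planeForm
    rw [Matrix.mulVec_add, BB_add_left]
    ring
  · intro c v x
    rw [hskew, hskew v x]
    unfold planeForm
    rw [Matrix.mulVec_smul, BB_smul_left]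
    ring
  · intro v hv
    obtain ⟨x, hx⟩ := hne v hv
    refine ⟨⟨x, ?_⟩, ⟨x, hx⟩⟩
    rw [hskew]
    exact neg_ne_zero.mpr hx

theorem planeForm_sim (hg'g : g' * g = 1) (m : κ → Matrix (Fin 2) (Fin 2) F) (δ : F)
    (hdet : ∀ i, (m i).det = δ) (u v : Fin n → F) :
    planeForm g' ((g * blockDiagonal m * g') *ᵥ u) ((g * blockDiagonal m * g') *ᵥ v) =
      δ * planeForm g' u v := by
  unfold planeForm
  have e : ∀ w : Fin n → F, g' *ᵥ ((g * blockDiagonal m * g') *ᵥ w) =
      blockDiagonal m *ᵥ (g' *ᵥ w) := by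
    intro w
    rw [Matrix.mulVec_mulVec, Matrix.mulVec_mulVec]
    congr 1
    rw [← Matrix.mul_assoc, ← Matrix.mul_assoc, hg'g, Matrix.one_mul]
  rw [e, e, BB_sim m δ hdet]

/-- centralizer elements with prescribed determinant -/
theorem exists_centralizer (hgg' : g * g' = 1) (hg'g : g' * g = 1)
    (m : κ → Matrix (Fin 2) (Fin 2) F) (i₀ : κ) (m' : Matrix (Fin 2) (Fin 2) F)
    (hcomm : m' * m i₀ = m i₀ * m') :
    ∃ s : Matrix (Fin n) (Fin n) F, s * (g * blockDiagonal m * g') = (g * blockDiagonal m * g') * s ∧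
      s.det = m'.det := by
  set M' : κ → Matrix (Fin 2) (Fin 2) F := Function.update (fun _ => 1) i₀ m' with hM'
  refine ⟨g * blockDiagonal M' * g', ?_, ?_⟩
  · have h1 : blockDiagonal M' * blockDiagonal m = blockDiagonal m * blockDiagonal M' := by
      rw [← blockDiagonal_mul, ← blockDiagonal_mul]
      congr 1
      funext i
      show M' i * m i = m i * M' i
      by_cases hi : i = i₀
      · subst hi
        rw [hM', Function.update_self]
        exact hcomm
      · rw [hM', Function.update_of_ne hi, Matrix.one_mul, Matrix.mul_one]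
    calc g * blockDiagonal M' * g' * (g * blockDiagonal m * g')
        = g * blockDiagonal M' * (g' * g) * blockDiagonal m * g' := by
          simp only [Matrix.mul_assoc]
      _ = g * (blockDiagonal M' * blockDiagonal m) * g' := by
          rw [hg'g, Matrix.mul_one, Matrix.mul_assoc g]
      _ = g * (blockDiagonal m * blockDiagonal M') * g' := by rw [h1]
      _ = g * blockDiagonal m * (g' * g) * blockDiagonal M' * g' := by
          rw [hg'g, Matrix.mul_one, ← Matrix.mul_assoc g]
      _ = g * blockDiagonal m * g' * (g * blockDiagonal M' * g') := by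
          simp only [Matrix.mul_assoc]
  · rw [Matrix.det_conj_of_mul_eq_one hgg' hg'g, Matrix.det_blockDiagonal]
    rw [Finset.prod_eq_single i₀]
    · rw [hM', Function.update_self]
    · intro j _ hj
      rw [hM', Function.update_of_ne hj, Matrix.det_one]
    · intro h; exact absurd (Finset.mem_univ i₀) h

end planes

end Cfsg.Agent.Lib.helper14.InvA
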