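import Mathlib
import Cfsg.Prelude.Def_GeometricClasses
import Cfsg.Agent.Lib.helper14.InvA

set_option autoImplicit false

/-!
# Conjugating a similitude of some symplectic form into the symplectic-type subgroup of `SL_n`
-/

namespace Cfsg.Agent.Lib.helper14.InvB

open Matrix Cfsg.Agent.Lib.helper14

variable {F : Type*} [Field F] {n : ℕ}

theorem finish (f f' : (Fin n → F) → (Fin n → F) → F) (hf : Cfsg.Geo.IsSymplecticForm f)
    (hf' : Cfsg.Geo.IsSymplecticForm f') (x : Matrix.SpecialLinearGroup (Fin n) F)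
    (hsim : SpSLc.IsSim f' (x : Matrix (Fin n) (Fin n) F))
    (hC : ∀ c : F, c ≠ 0 → ∃ s : Matrix (Fin n) (Fin n) F,
      s * (x : Matrix (Fin n) (Fin n) F) = (x : Matrix (Fin n) (Fin n) F) * s ∧ s.det = c) :
    ∃ P : Matrix.SpecialLinearGroup (Fin n) F, P⁻¹ * x * P ∈ SpSLb.HH f := by
  obtain ⟨k, φ, hn, hφ⟩ := SpSLa.exists_std f hf
  obtain ⟨k', φ', hn', hφ'⟩ := SpSLa.exists_std f' hf'
  have hkk : k' = k := by omega
  subst hkk
  set A : Matrix (Fin n) (Fin n) F := SpSLb.Pm φ * SpSLb.Qm φ' with hA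
  set A' : Matrix (Fin n) (Fin n) F := SpSLb.Pm φ' * SpSLb.Qm φ with hA'
  have hAA' : A * A' = 1 := by
    rw [hA, hA']
    calc SpSLb.Pm φ * SpSLb.Qm φ' * (SpSLb.Pm φ' * SpSLb.Qm φ)
        = SpSLb.Pm φ * (SpSLb.Qm φ' * SpSLb.Pm φ') * SpSLb.Qm φ := by
          simp only [Matrix.mul_assoc]
      _ = 1 := by rw [SpSLb.Qm_Pm, Matrix.mul_one, SpSLb.Pm_Qm]
  have hA'A : A' * A = 1 := by
    rw [hA, hA']
    calc SpSLb.Pm φ' * SpSLb.Qm φ * (SpSLb.Pm φ * SpSLb.Qm φ')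
        = SpSLb.Pm φ' * (SpSLb.Qm φ * SpSLb.Pm φ) * SpSLb.Qm φ' := by
          simp only [Matrix.mul_assoc]
      _ = 1 := by rw [SpSLb.Qm_Pm, Matrix.mul_one, SpSLb.Pm_Qm]
  have hAv : ∀ u : Fin n → F, A *ᵥ u = φ (φ'.symm u) := by
    intro u
    rw [hA, ← Matrix.mulVec_mulVec, SpSLb.Qm_mulVec, SpSLb.Pm_mulVec]
  have hfA : ∀ u v : Fin n → F, f (A *ᵥ u) (A *ᵥ v) = f' u v := by
    intro u v
    rw [hAv, hAv, hφ, ← hφ', LinearEquiv.apply_symm_apply, LinearEquiv.apply_symm_apply]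
  have hdet : A.det * A'.det = 1 := by rw [← Matrix.det_mul, hAA', Matrix.det_one]
  have hdetA : A.det ≠ 0 := by
    intro h0
    rw [h0, zero_mul] at hdet
    exact zero_ne_one hdet
  obtain ⟨s, hsx, hsdet⟩ := hC A.det hdetA
  have hsu : IsUnit s := by
    rw [Matrix.isUnit_iff_isUnit_det, hsdet]
    exact isUnit_iff_ne_zero.mpr hdetA
  let P : Matrix.SpecialLinearGroup (Fin n) F := ⟨s * A', by
    rw [Matrix.det_mul, hsdet, hdet]⟩
  refine ⟨P, ?_⟩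
  set Y : Matrix (Fin n) (Fin n) F :=
    ((P⁻¹ * x * P : Matrix.SpecialLinearGroup (Fin n) F) : Matrix (Fin n) (Fin n) F) with hY
  have hPY : (P : Matrix (Fin n) (Fin n) F) * Y = (x : Matrix (Fin n) (Fin n) F) *
      (P : Matrix (Fin n) (Fin n) F) := by
    rw [hY, ← Matrix.SpecialLinearGroup.coe_mul, ← Matrix.SpecialLinearGroup.coe_mul]
    congr 1
    rw [mul_assoc, mul_inv_cancel_left]
  have hPc : (P : Matrix (Fin n) (Fin n) F) = s * A' := rfl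
  rw [hPc] at hPY
  have h1 : s * (A' * Y) = s * ((x : Matrix (Fin n) (Fin n) F) * A') := by
    rw [← Matrix.mul_assoc, hPY, ← Matrix.mul_assoc, ← hsx, Matrix.mul_assoc]
  have h2 : A' * Y = (x : Matrix (Fin n) (Fin n) F) * A' := hsu.mul_left_cancel h1
  have h3 : Y = A * (x : Matrix (Fin n) (Fin n) F) * A' := by
    calc Y = (A * A') * Y := by rw [hAA', Matrix.one_mul]
      _ = A * (A' * Y) := by rw [Matrix.mul_assoc]
      _ = A * (x : Matrix (Fin n) (Fin n) F) * A' := by rw [h2, ← Matrix.mul_assoc]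
  rw [SpSLb.mem_HH]
  obtain ⟨c, hc⟩ := hsim
  refine ⟨c, fun u v => ?_⟩
  rw [← hY, h3]
  have e : ∀ w : Fin n → F, (A * (x : Matrix (Fin n) (Fin n) F) * A') *ᵥ w =
      A *ᵥ ((x : Matrix (Fin n) (Fin n) F) *ᵥ (A' *ᵥ w)) := by
    intro w
    rw [Matrix.mulVec_mulVec, Matrix.mulVec_mulVec, Matrix.mul_assoc]
  rw [e, e, hfA, hc, ← hfA (A' *ᵥ u) (A' *ᵥ v), Matrix.mulVec_mulVec, Matrix.mulVec_mulVec, hAA',
    Matrix.one_mulVec, Matrix.one_mulVec]

/-- the same with the data of a plane decomposition -/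
theorem finish_planes {κ : Type*} [Fintype κ] [DecidableEq κ]
    (f : (Fin n → F) → (Fin n → F) → F) (hf : Cfsg.Geo.IsSymplecticForm f)
    (x : Matrix.SpecialLinearGroup (Fin n) F)
    (g : Matrix (Fin n) (Fin 2 × κ) F) (g' : Matrix (Fin 2 × κ) (Fin n) F)
    (hgg' : g * g' = 1) (hg'g : g' * g = 1) (m : κ → Matrix (Fin 2) (Fin 2) F)
    (hx : (x : Matrix (Fin n) (Fin n) F) = g * blockDiagonal m * g')
    (δ : F) (hδ : δ ≠ 0) (hdet : ∀ i, (m i).det = δ)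
    (hC : ∀ c : F, c ≠ 0 → ∃ (i₀ : κ) (m' : Matrix (Fin 2) (Fin 2) F),
      m' * m i₀ = m i₀ * m' ∧ m'.det = c) :
    ∃ P : Matrix.SpecialLinearGroup (Fin n) F, P⁻¹ * x * P ∈ SpSLb.HH f := by
  apply finish f (InvA.planeForm g') hf (InvA.planeForm_symp g g' hgg' hg'g) x
  · refine ⟨Units.mk0 δ hδ, fun u v => ?_⟩
    rw [hx, Units.val_mk0]
    exact InvA.planeForm_sim g g' hg'g m δ hdet u v
  · intro c hc
    obtain ⟨i₀, m', hcomm, hm'⟩ := hC c hc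
    obtain ⟨s, hs1, hs2⟩ := InvA.exists_centralizer g g' hgg' hg'g m i₀ m' hcomm
    refine ⟨s, ?_, by rw [hs2, hm']⟩
    rw [hx]
    exact hs1

end Cfsg.Agent.Lib.helper14.InvB
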