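import Mathlib
import Cfsg.Agent.Lib.helper14.InvB

set_option autoImplicit false

/-!
# From an adapted basis to a plane decomposition in matrix form
-/

namespace Cfsg.Agent.Lib.helper14.InvC

open Matrix Module

variable {F : Type*} [Field F] {n : ℕ} {κ : Type*} [Fintype κ] [DecidableEq κ]

theorem of_basis (x : Matrix (Fin n) (Fin n) F) (b : Basis (Fin 2 × κ) F (Fin n → F))
    (m : κ → Matrix (Fin 2) (Fin 2) F)
    (h : ∀ i p, x *ᵥ (b (p, i)) = m i 0 p • b (0, i) + m i 1 p • b (1, i)) :
    ∃ (g : Matrix (Fin n) (Fin 2 × κ) F) (g' : Matrix (Fin 2 × κ) (Fin n) F),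
      g * g' = 1 ∧ g' * g = 1 ∧ x = g * blockDiagonal m * g' := by
  set e : Basis (Fin n) F (Fin n → F) := Pi.basisFun F (Fin n) with he
  refine ⟨e.toMatrix b, b.toMatrix e, Basis.toMatrix_mul_toMatrix_flip e b,
    Basis.toMatrix_mul_toMatrix_flip b e, ?_⟩
  have hM : LinearMap.toMatrix b b (Matrix.toLin' x) = blockDiagonal m := by
    ext ⟨p', i'⟩ ⟨p, i⟩
    rw [LinearMap.toMatrix_apply, Matrix.toLin'_apply, h i p, map_add, map_smul, map_smul,
      Basis.repr_self, Basis.repr_self, blockDiagonal_apply]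
    simp only [Finsupp.coe_add, Finsupp.coe_smul, Pi.add_apply, Pi.smul_apply, smul_eq_mul]
    by_cases hi : i' = i
    · subst hi
      rw [if_pos rfl]
      fin_cases p'
      · simp [Finsupp.single_apply]
      · simp [Finsupp.single_apply]
    · rw [if_neg hi]
      have h0 : ((0 : Fin 2), i) ≠ (p', i') := fun hh => hi (congrArg Prod.snd hh).symm
      have h1 : ((1 : Fin 2), i) ≠ (p', i') := fun hh => hi (congrArg Prod.snd hh).symm
      rw [Finsupp.single_eq_of_ne' h0, Finsupp.single_eq_of_ne' h1]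
      ring
  rw [← hM, basis_toMatrix_mul_linearMap_toMatrix_mul_basis_toMatrix, he,
    LinearMap.toMatrix_eq_toMatrix', LinearMap.toMatrix'_toLin']

end Cfsg.Agent.Lib.helper14.InvC
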