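import Mathlib
import Cfsg.Agent.Lib.helper14.InvC

set_option autoImplicit false

/-!
# Case (ii): `x² = z` with `z` a non-square: a basis of the form `(v_i, x v_i)`
-/

namespace Cfsg.Agent.Lib.helper14.InvE

open Matrix Module

section abstract
variable {F : Type*} [Field F] {V : Type*} [AddCommGroup V] [Module F V] [FiniteDimensional F V]
  (X : Module.End F V) (z : F)

/-- the family `(v_i, X v_i)` -/
def fam {k : ℕ} (v : Fin k → V) : Fin 2 × Fin k → V :=
  fun pi => if pi.1 = 0 then v pi.2 else X (v pi.2)

theorem fam_zero {k : ℕ} (v : Fin k → V) (i : Fin k) : fam X v (0, i) = v i := by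
  simp [fam]

theorem fam_one {k : ℕ} (v : Fin k → V) (i : Fin k) : fam X v (1, i) = X (v i) := by
  simp [fam]

theorem span_invariant (hXX : ∀ v, X (X v) = z • v) {k : ℕ} (v : Fin k → V) :
    ∀ w ∈ Submodule.span F (Set.range (fam X v)), X w ∈ Submodule.span F (Set.range (fam X v)) := by
  intro w hw
  induction hw using Submodule.span_induction with
  | mem y hy =>
    obtain ⟨⟨p, i⟩, rfl⟩ := hy
    fin_cases p
    · have : X (fam X v (0, i)) = fam X v (1, i) := by rw [fam_zero, fam_one]
      show X (fam X v (0, i)) ∈ _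
      rw [this]
      exact Submodule.subset_span ⟨_, rfl⟩
    · have : X (fam X v (1, i)) = z • fam X v (0, i) := by rw [fam_zero, fam_one, hXX]
      show X (fam X v (1, i)) ∈ _
      rw [this]
      exact Submodule.smul_mem _ _ (Submodule.subset_span ⟨_, rfl⟩)
  | zero => rw [map_zero]; exact Submodule.zero_mem _
  | add a b _ _ ha hb => rw [map_add]; exact Submodule.add_mem _ ha hb
  | smul c a _ ha => rw [map_smul]; exact Submodule.smul_mem _ _ ha

theorem sum_cons {k : ℕ} (u : V) (v : Fin k → V) (g : Fin 2 × Fin (k + 1) → F) :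
    ∑ x, g x • fam X (Fin.cons u v : Fin (k + 1) → V) x =
      (g (0, 0) • u + g (1, 0) • X u) + ∑ y : Fin 2 × Fin k, g (y.1, y.2.succ) • fam X v y := by
  rw [Fintype.sum_prod_type, Fintype.sum_prod_type, Fin.sum_univ_two, Fin.sum_univ_two,
    Fin.sum_univ_succ, Fin.sum_univ_succ]
  simp only [fam_zero, fam_one, Fin.cons_zero, Fin.cons_succ]
  abel

theorem exists_family (hXX : ∀ v, X (X v) = z • v) (hns : ∀ a : F, a * a ≠ z) :
    ∀ k : ℕ, 2 * k ≤ finrank F V → ∃ v : Fin k → V, LinearIndependent F (fam X v) := by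
  intro k
  induction k with
  | zero =>
    intro _
    refine ⟨fun i => i.elim0, ?_⟩
    haveI : IsEmpty (Fin 2 × Fin 0) := ⟨fun x => x.2.elim0⟩
    exact linearIndependent_empty_type
  | succ k ih =>
    intro hk
    obtain ⟨v, hv⟩ := ih (by omega)
    set W : Submodule F V := Submodule.span F (Set.range (fam X v)) with hW
    have hWdim : finrank F W = 2 * k := by
      rw [hW, finrank_span_eq_card hv, Fintype.card_prod, Fintype.card_fin, Fintype.card_fin]
    have hWne : W ≠ ⊤ := by
      intro h
      rw [h, finrank_top] at hWdim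
      omega
    obtain ⟨u, hu⟩ : ∃ u : V, u ∉ W := by
      by_contra hcon
      push Not at hcon
      exact hWne (eq_top_iff.mpr (fun x _ => hcon x))
    have hinv := span_invariant X z hXX v
    refine ⟨Fin.cons u v, ?_⟩
    rw [Fintype.linearIndependent_iff]
    intro g hg
    rw [sum_cons] at hg
    set w : V := ∑ y : Fin 2 × Fin k, g (y.1, y.2.succ) • fam X v y with hw
    have hwW : w ∈ W := by
      rw [hw]
      apply Submodule.sum_mem
      intro y _
      exact Submodule.smul_mem _ _ (Submodule.subset_span ⟨y, rfl⟩)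
    set α := g (0, 0) with hα
    set β := g (1, 0) with hβ
    have h1 : α • u + β • X u ∈ W := by
      have : α • u + β • X u = -w := eq_neg_of_add_eq_zero_left hg
      rw [this]
      exact W.neg_mem hwW
    have h2 : α • X u + (β * z) • u ∈ W := by
      have := hinv _ h1
      rw [map_add, map_smul, map_smul, hXX, smul_smul] at this
      exact this
    have h3 : (α * α - β * β * z) • u ∈ W := by
      have : (α * α - β * β * z) • u = α • (α • u + β • X u) - β • (α • X u + (β * z) • u) := by
        rw [smul_add, smul_add, smul_smul, smul_smul, smul_smul, smul_smul, sub_smul]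
        rw [mul_comm β α, mul_assoc]
        abel
      rw [this]
      exact W.sub_mem (W.smul_mem _ h1) (W.smul_mem _ h2)
    have h4 : α * α - β * β * z = 0 := by
      by_contra hne
      apply hu
      have : u = (α * α - β * β * z)⁻¹ • ((α * α - β * β * z) • u) := by
        rw [smul_smul, inv_mul_cancel₀ hne, one_smul]
      rw [this]
      exact W.smul_mem _ h3
    have hβ0 : β = 0 := by
      by_contra hne
      apply hns (α / β)
      field_simp
      linear_combination h4
    have hα0 : α = 0 := by
      rw [hβ0] at h4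
      simpa using h4
    have hw0 : w = 0 := by
      rw [hα0, hβ0, zero_smul, zero_smul, zero_add, zero_add] at hg
      exact hg
    have hall := (Fintype.linearIndependent_iff.mp hv) (fun y => g (y.1, y.2.succ)) hw0
    rintro ⟨p, j⟩
    refine Fin.cases ?_ (fun i => ?_) j
    · fin_cases p
      · exact hα0
      · exact hβ0
    · exact hall (p, i)

end abstract

section concrete
variable {F : Type*} [Field F] {n : ℕ}

/-- the 2×2 block of case (ii) -/
def mNS (z : F) : Matrix (Fin 2) (Fin 2) F := !![0, z; 1, 0]

theorem mNS_det (z : F) : (mNS z).det = -z := by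
  simp [mNS, Matrix.det_fin_two]

theorem planes_nonsquare (x : Matrix (Fin n) (Fin n) F) (z : F) (k : ℕ) (hn : n = 2 * k)
    (hx : x * x = z • (1 : Matrix (Fin n) (Fin n) F)) (hns : ∀ a : F, a * a ≠ z) :
    ∃ (g : Matrix (Fin n) (Fin 2 × Fin k) F) (g' : Matrix (Fin 2 × Fin k) (Fin n) F),
      g * g' = 1 ∧ g' * g = 1 ∧ x = g * blockDiagonal (fun _ : Fin k => mNS z) * g' := by
  set X : Module.End F (Fin n → F) := Matrix.toLin' x with hX
  have hXX : ∀ v, X (X v) = z • v := by
    intro v
    rw [hX, Matrix.toLin'_apply, Matrix.toLin'_apply, Matrix.mulVec_mulVec, hx,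
      Matrix.smul_mulVec, Matrix.one_mulVec]
  obtain ⟨v, hv⟩ := exists_family X z hXX hns k (by rw [Module.finrank_fin_fun, hn])
  have hcard : Fintype.card (Fin 2 × Fin k) = finrank F (Fin n → F) := by
    rw [Module.finrank_fin_fun, Fintype.card_prod, Fintype.card_fin, Fintype.card_fin, hn]
  let B : Basis (Fin 2 × Fin k) F (Fin n → F) :=
    basisOfLinearIndependentOfCardEqFinrank' (fam X v) hv hcard
  have hB : ∀ y, B y = fam X v y := fun y => by
    rw [coe_basisOfLinearIndependentOfCardEqFinrank']
  apply InvC.of_basis x B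
  intro i p
  rw [hB, hB, hB]
  fin_cases p
  · show x *ᵥ fam X v (0, i) = mNS z 0 0 • fam X v (0, i) + mNS z 1 0 • fam X v (1, i)
    rw [fam_zero, fam_one, hX, Matrix.toLin'_apply]
    simp [mNS]
  · show x *ᵥ fam X v (1, i) = mNS z 0 1 • fam X v (0, i) + mNS z 1 1 • fam X v (1, i)
    rw [fam_zero, fam_one]
    have := hXX (v i)
    rw [hX, Matrix.toLin'_apply, Matrix.toLin'_apply] at this
    rw [hX, Matrix.toLin'_apply, this]
    simp [mNS]

/-- centralizing blocks of every determinant, over a finite field of odd order -/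
theorem centralizer_nonsquare [Fintype F] (hodd : Fintype.card F % 2 = 1) (z : F) (hz : z ≠ 0)
    (c : F) : ∃ m' : Matrix (Fin 2) (Fin 2) F, m' * mNS z = mNS z * m' ∧ m'.det = c := by
  open Polynomial in
  have hf2 : (X ^ 2 - C c : F[X]).degree = 2 := degree_X_pow_sub_C (by decide) c
  open Polynomial in
  have hg2 : (C (-z) * X ^ 2 : F[X]).degree = 2 := by
    rw [degree_C_mul (neg_ne_zero.mpr hz), degree_X_pow]
    rfl
  obtain ⟨a, b, hab⟩ := FiniteField.exists_root_sum_quadratic hf2 hg2 hodd
  simp only [Polynomial.eval_sub, Polynomial.eval_pow, Polynomial.eval_X, Polynomial.eval_C,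
    Polynomial.eval_mul] at hab
  refine ⟨!![a, b * z; b, a], ?_, ?_⟩
  · ext i j
    fin_cases i <;> fin_cases j <;> simp [mNS, Matrix.mul_apply, Fin.sum_univ_two] <;> ring
  · rw [Matrix.det_fin_two]
    simp only [Matrix.of_apply, Matrix.cons_val', Matrix.cons_val_zero, Matrix.cons_val_one,
      Matrix.empty_val', Matrix.cons_val_fin_one]
    linear_combination hab

end concrete

end Cfsg.Agent.Lib.helper14.InvE
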