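import Mathlib
import Cfsg.Prelude.Def_GeometricClasses
import Cfsg.Agent.Lib.helper14.SubA
import Cfsg.Agent.Lib.helper14.InvE

set_option autoImplicit false

/-!
# Squares and non-squares in a finite field of odd order; the block-diagonal element with `x² = z`
-/

namespace Cfsg.Agent.Lib.helper14.SubD

open Matrix Module

section arith
variable {F : Type*} [Field F] [Fintype F]

/-- every element of the subfield of index 2 is a square -/
theorem sq_of_mem_subfield (F₀ : Subfield F) (q₀ : ℕ) (hF₀ : Nat.card F₀ = q₀)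
    (hq : Fintype.card F = q₀ ^ 2) (hF : ringChar F ≠ 2) (a : F) (ha : a ∈ F₀) :
    ∃ b : F, b * b = a := by
  classical
  by_cases ha0 : a = 0
  · exact ⟨0, by rw [ha0, mul_zero]⟩
  haveI : Fintype F₀ := Fintype.ofFinite F₀
  have hq₀c : Fintype.card F₀ = q₀ := by rw [← hF₀, Nat.card_eq_fintype_card]
  have h1 : a ^ (q₀ - 1) = 1 := by
    have ha0' : (⟨a, ha⟩ : F₀) ≠ 0 := fun h => ha0 (congrArg Subtype.val h)
    have := FiniteField.pow_card_sub_one_eq_one (⟨a, ha⟩ : F₀) ha0'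
    rw [hq₀c] at this
    have h' := congrArg Subtype.val this
    simpa using h'
  have hodd := FiniteField.odd_card_of_char_ne_two hF
  rw [hq] at hodd
  have hq₀odd : q₀ % 2 = 1 := by
    rcases Nat.mod_two_eq_zero_or_one q₀ with h | h
    · exfalso
      have : q₀ ^ 2 % 2 = 0 := by
        rw [Nat.pow_mod, h]
      omega
    · exact h
  obtain ⟨m, hm⟩ : ∃ m, q₀ = 2 * m + 1 := ⟨q₀ / 2, by omega⟩
  have hhalf : q₀ ^ 2 / 2 = (q₀ - 1) * (m + 1) := by
    have e : q₀ ^ 2 = 2 * ((q₀ - 1) * (m + 1)) + 1 := by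
      rw [hm]
      have : 2 * m + 1 - 1 = 2 * m := by omega
      rw [this]
      ring
    omega
  have h2 := (FiniteField.isSquare_iff hF ha0).mpr (by rw [hq, hhalf, pow_mul, h1, one_pow])
  obtain ⟨b, hb⟩ := h2
  exact ⟨b, hb.symm⟩

/-- Euler: a non-square raised to `(q-1)/2` is `-1` -/
theorem nonsquare_pow (hF : ringChar F ≠ 2) (w : F) (hw : ∀ a : F, a * a ≠ w) :
    w ^ (Fintype.card F / 2) = -1 := by
  have hw0 : w ≠ 0 := fun h => hw 0 (by rw [h, mul_zero])
  have h1 : ¬ IsSquare w := by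
    rintro ⟨a, ha⟩
    exact hw a ha.symm
  rw [FiniteField.isSquare_iff hF hw0] at h1
  have hodd := FiniteField.odd_card_of_char_ne_two hF
  have h2 : (w ^ (Fintype.card F / 2)) * (w ^ (Fintype.card F / 2)) = 1 := by
    rw [← pow_add]
    have : Fintype.card F / 2 + Fintype.card F / 2 = Fintype.card F - 1 := by omega
    rw [this]
    exact FiniteField.pow_card_sub_one_eq_one w hw0
  have h0 : (w ^ (Fintype.card F / 2) - 1) * (w ^ (Fintype.card F / 2) + 1) = 0 := by
    linear_combination h2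
  rcases mul_eq_zero.mp h0 with h | h
  · exact absurd (sub_eq_zero.mp h) h1
  · exact eq_neg_of_add_eq_zero_left h

/-- no non-square `z` with `(-z)^{n/2} = 1` when `v₂(n) ≤ v₂(q-1)` and `-1` is a square -/
theorem no_nonsquare (hF : ringChar F ≠ 2) (q : ℕ) (hq : Fintype.card F = q)
    (hneg1 : ∃ i : F, i * i = -1) (z : F) (hz : ∀ a : F, a * a ≠ z) (n k₂ : ℕ) (hn : n = 2 * k₂)
    (hk₂ : k₂ ≠ 0) (hdet : (-z) ^ k₂ = 1)
    (hv : padicValNat 2 n ≤ padicValNat 2 (q - 1)) : False := by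
  obtain ⟨i, hi⟩ := hneg1
  have h2 : (2 : F) ≠ 0 := Ring.two_ne_zero hF
  have hw : ∀ a : F, a * a ≠ -z := by
    intro a ha
    apply hz (i * a)
    linear_combination (a * a) * hi - ha
  have hE := nonsquare_pow hF (-z) hw
  rw [hq] at hE
  have hodd := FiniteField.odd_card_of_char_ne_two hF
  rw [hq] at hodd
  have hq2 : 2 ≤ q := by
    rw [← hq]
    exact Fintype.one_lt_card
  have hq1 : q - 1 ≠ 0 := by omega
  obtain ⟨s, k₁, hk₁, hk⟩ := Nat.exists_eq_two_pow_mul_odd hk₂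
  have hn0 : n ≠ 0 := by omega
  have hdvd : 2 ^ (s + 1) ∣ n := ⟨k₁, by rw [hn, hk]; ring⟩
  have hle : s + 1 ≤ padicValNat 2 (q - 1) := ((padicValNat_dvd_iff_le hn0).mp hdvd).trans hv
  obtain ⟨m', hm'⟩ := (padicValNat_dvd_iff_le hq1).mpr hle
  have hhalf : q / 2 = 2 ^ s * m' := by
    have : q - 1 = 2 * (2 ^ s * m') := by rw [hm']; ring
    omega
  have h3 : (-z) ^ (k₂ * m') = 1 := by rw [pow_mul, hdet, one_pow]
  have h4 : k₂ * m' = q / 2 * k₁ := by rw [hhalf, hk]; ring
  rw [h4, pow_mul, hE, hk₁.neg_one_pow] at h3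
  apply h2
  linear_combination -h3

/-- a non-square `z` with `(-z)^{n/2} = 1` when `v₂(q-1) < v₂(n)` -/
theorem exists_nonsquare (hF : ringChar F ≠ 2) (q : ℕ) (hq : Fintype.card F = q)
    (hneg1 : ∃ i : F, i * i = -1) (n k₂ : ℕ) (hn : n = 2 * k₂) (hn0 : n ≠ 0)
    (hv : padicValNat 2 (q - 1) < padicValNat 2 n) :
    ∃ z : F, (∀ a : F, a * a ≠ z) ∧ (-z) ^ k₂ = 1 := by
  classical
  obtain ⟨i, hi⟩ := hneg1
  have hodd := FiniteField.odd_card_of_char_ne_two hF
  rw [hq] at hodd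
  have hq2 : 2 ≤ q := by
    rw [← hq]
    exact Fintype.one_lt_card
  have hq1 : q - 1 ≠ 0 := by omega
  set t := padicValNat 2 (q - 1) with ht
  have hdvd : 2 ^ t ∣ Fintype.card Fˣ := by
    rw [Fintype.card_units, hq]
    exact pow_padicValNat_dvd
  have hcard := IsCyclic.card_orderOf_eq_totient (α := Fˣ) hdvd
  have hpos : 0 < Nat.totient (2 ^ t) := Nat.totient_pos.mpr (by positivity)
  rw [← hcard, Finset.card_pos] at hpos
  obtain ⟨ζ, hζ⟩ := hpos
  rw [Finset.mem_filter] at hζ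
  have hζo : orderOf ζ = 2 ^ t := hζ.2
  have hk₂dvd : 2 ^ t ∣ k₂ := by
    have h1 : 2 ^ (t + 1) ∣ n := (padicValNat_dvd_iff_le hn0).mpr hv
    rw [hn, pow_succ'] at h1
    exact (Nat.mul_dvd_mul_iff_left (by norm_num)).mp h1
  have hζk : ζ ^ k₂ = 1 := by
    rw [← orderOf_dvd_iff_pow_eq_one, hζo]
    exact hk₂dvd
  have hζns : ∀ b : F, b * b ≠ (ζ : F) := by
    intro b hb
    have hb0 : b ≠ 0 := by
      rintro rfl
      rw [mul_zero] at hb
      exact ζ.ne_zero hb.symm
    have h1 : b ^ (q - 1) = 1 := by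
      rw [← hq]
      exact FiniteField.pow_card_sub_one_eq_one b hb0
    have h2 : (ζ : F) ^ (q / 2) = 1 := by
      rw [← hb, ← pow_two, ← pow_mul]
      have : 2 * (q / 2) = q - 1 := by omega
      rw [this, h1]
    have h3 : ζ ^ (q / 2) = 1 := by
      apply Units.ext
      rw [Units.val_pow_eq_pow_val, h2, Units.val_one]
    rw [← orderOf_dvd_iff_pow_eq_one, hζo] at h3
    obtain ⟨m, hm⟩ := h3
    have hnd : ¬ 2 ^ (t + 1) ∣ q - 1 := pow_succ_padicValNat_not_dvd hq1
    apply hnd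
    refine ⟨m, ?_⟩
    have : q - 1 = 2 * (q / 2) := by omega
    rw [this, hm]
    ring
  refine ⟨-(ζ : F), ?_, ?_⟩
  · intro a ha
    apply hζns (i * a)
    linear_combination (a * a) * hi - ha
  · rw [neg_neg, ← Units.val_pow_eq_pow_val, hζk, Units.val_one]

end arith

section block
variable {F : Type*} [Field F]

theorem mNS_sq (z : F) : InvE.mNS z * InvE.mNS z = z • (1 : Matrix (Fin 2) (Fin 2) F) := by
  ext i j
  fin_cases i <;> fin_cases j <;> simp [InvE.mNS, Matrix.mul_apply, Fin.sum_univ_two]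

/-- the element of `SL_{2k}` with square `z` -/
theorem exists_block_elt (z : F) (n k₂ : ℕ) (hn : n = 2 * k₂) (hk₂ : k₂ ≠ 0)
    (hdet : (-z) ^ k₂ = 1) :
    ∃ x : Matrix.SpecialLinearGroup (Fin n) F,
      (x : Matrix (Fin n) (Fin n) F) * (x : Matrix (Fin n) (Fin n) F) =
        z • (1 : Matrix (Fin n) (Fin n) F) ∧
      ∀ c : F, (x : Matrix (Fin n) (Fin n) F) ≠ c • (1 : Matrix (Fin n) (Fin n) F) := by
  classical
  have hcard : Fintype.card (Fin 2 × Fin k₂) = Fintype.card (Fin n) := by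
    rw [Fintype.card_prod, Fintype.card_fin, Fintype.card_fin, Fintype.card_fin, hn]
  let e : Fin 2 × Fin k₂ ≃ Fin n := Fintype.equivOfCardEq hcard
  set D : Matrix (Fin 2 × Fin k₂) (Fin 2 × Fin k₂) F :=
    blockDiagonal (fun _ : Fin k₂ => InvE.mNS z) with hD
  set X : Matrix (Fin n) (Fin n) F := D.submatrix e.symm e.symm with hX
  have hXdet : X.det = 1 := by
    rw [hX, Matrix.det_submatrix_equiv_self, hD, Matrix.det_blockDiagonal]
    simp only [InvE.mNS_det, Finset.prod_const, Finset.card_univ, Fintype.card_fin]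
    exact hdet
  have hDD : D * D = z • (1 : Matrix (Fin 2 × Fin k₂) (Fin 2 × Fin k₂) F) := by
    rw [hD, ← blockDiagonal_mul]
    have : (fun k : Fin k₂ => InvE.mNS z * InvE.mNS z) =
        z • (1 : Fin k₂ → Matrix (Fin 2) (Fin 2) F) := by
      funext k
      rw [mNS_sq]
      rfl
    rw [this, blockDiagonal_smul, blockDiagonal_one]
  refine ⟨⟨X, hXdet⟩, ?_, ?_⟩
  · show X * X = _
    rw [hX, Matrix.submatrix_mul_equiv, hDD, Matrix.submatrix_smul, Pi.smul_apply, Pi.smul_apply,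
      Matrix.submatrix_one_equiv]
  · intro c hc
    have hXc : X = c • (1 : Matrix (Fin n) (Fin n) F) := hc
    have i₀ : Fin k₂ := ⟨0, Nat.pos_of_ne_zero hk₂⟩
    have h1 := congrFun (congrFun hXc (e (1, i₀))) (e (0, i₀))
    rw [hX, Matrix.submatrix_apply, Equiv.symm_apply_apply, Equiv.symm_apply_apply, hD,
      blockDiagonal_apply, if_pos rfl, Matrix.smul_apply, Matrix.one_apply_ne] at h1
    · simp [InvE.mNS] at h1
    · intro h
      have := e.injective h
      simp at this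

end block

end Cfsg.Agent.Lib.helper14.SubD
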