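import Mathlib
import Cfsg.Agent.Lib.helper14.InvC

set_option autoImplicit false

/-!
# Case (i): `x² = μ²`, odd characteristic: eigenbasis, determinant, plane basis
-/

namespace Cfsg.Agent.Lib.helper14.InvD

open Matrix Module

variable {F : Type*} [Field F] {n : ℕ}

theorem eigen_basis (x : Matrix (Fin n) (Fin n) F) (μ : F) (hμ : μ ≠ 0) (h2 : (2 : F) ≠ 0)
    (hx : x * x = (μ * μ) • (1 : Matrix (Fin n) (Fin n) F)) :
    ∃ (a b : ℕ) (B : Basis (Fin a ⊕ Fin b) F (Fin n → F)),
      (∀ i, x *ᵥ B (Sum.inl i) = μ • B (Sum.inl i)) ∧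
      (∀ j, x *ᵥ B (Sum.inr j) = (-μ) • B (Sum.inr j)) := by
  set X : Module.End F (Fin n → F) := Matrix.toLin' x with hX
  have hXX : ∀ v, X (X v) = (μ * μ) • v := by
    intro v
    rw [hX, Matrix.toLin'_apply, Matrix.toLin'_apply, Matrix.mulVec_mulVec, hx,
      Matrix.smul_mulVec, Matrix.one_mulVec]
  set Ep : Submodule F (Fin n → F) := LinearMap.ker (X - μ • LinearMap.id) with hEp
  set Em : Submodule F (Fin n → F) := LinearMap.ker (X + μ • LinearMap.id) with hEm
  have memp : ∀ v, v ∈ Ep ↔ X v = μ • v := by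
    intro v
    rw [hEp, LinearMap.mem_ker, LinearMap.sub_apply, LinearMap.smul_apply, LinearMap.id_apply,
      sub_eq_zero]
  have memm : ∀ v, v ∈ Em ↔ X v = (-μ) • v := by
    intro v
    rw [hEm, LinearMap.mem_ker, LinearMap.add_apply, LinearMap.smul_apply, LinearMap.id_apply,
      neg_smul, add_eq_zero_iff_eq_neg]
  have h2μ : (2 : F) * μ ≠ 0 := mul_ne_zero h2 hμ
  have hcompl : IsCompl Ep Em := by
    constructor
    · rw [Submodule.disjoint_def]
      intro v hp hm
      rw [memp] at hp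
      rw [memm] at hm
      have : ((2 : F) * μ) • v = 0 := by
        have h3 : μ • v = (-μ) • v := by rw [← hp, hm]
        rw [neg_smul] at h3
        rw [mul_smul, two_smul]
        nth_rewrite 1 [h3]
        rw [neg_add_cancel]
      exact (smul_eq_zero.mp this).resolve_left h2μ
    · rw [codisjoint_iff, eq_top_iff]
      intro v _
      have hp : X v + μ • v ∈ Ep := by
        rw [memp, map_add, hXX, map_smul, mul_smul, smul_add, add_comm]
      have hm : X v - μ • v ∈ Em := by
        rw [memm, map_sub, hXX, map_smul, mul_smul, smul_sub, neg_smul, neg_smul, neg_sub_neg]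
      have : v = ((2 : F) * μ)⁻¹ • (X v + μ • v) + (-((2 : F) * μ)⁻¹) • (X v - μ • v) := by
        rw [neg_smul, ← sub_eq_add_neg, ← smul_sub]
        have : X v + μ • v - (X v - μ • v) = ((2 : F) * μ) • v := by
          rw [mul_smul, two_smul]; abel
        rw [this, smul_smul, inv_mul_cancel₀ h2μ, one_smul]
      rw [this]
      exact Submodule.add_mem_sup (Ep.smul_mem _ hp) (Em.smul_mem _ hm)
  let bp : Basis (Fin (finrank F Ep)) F Ep := Module.finBasis F Ep
  let bm : Basis (Fin (finrank F Em)) F Em := Module.finBasis F Em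
  let B : Basis (Fin (finrank F Ep) ⊕ Fin (finrank F Em)) F (Fin n → F) :=
    (bp.prod bm).map (Submodule.prodEquivOfIsCompl Ep Em hcompl)
  refine ⟨finrank F Ep, finrank F Em, B, ?_, ?_⟩
  · intro i
    have hB : B (Sum.inl i) = (bp i : Fin n → F) := by
      simp [B, Submodule.coe_prodEquivOfIsCompl']
    rw [hB]
    have := (memp _).mp (bp i).2
    rw [hX, Matrix.toLin'_apply] at this
    exact this
  · intro j
    have hB : B (Sum.inr j) = (bm j : Fin n → F) := by
      simp [B, Submodule.coe_prodEquivOfIsCompl']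
    rw [hB]
    have := (memm _).mp (bm j).2
    rw [hX, Matrix.toLin'_apply] at this
    exact this

theorem det_of_eigen (x : Matrix (Fin n) (Fin n) F) (μ : F) (a b : ℕ)
    (B : Basis (Fin a ⊕ Fin b) F (Fin n → F))
    (h1 : ∀ i, x *ᵥ B (Sum.inl i) = μ • B (Sum.inl i))
    (h2 : ∀ j, x *ᵥ B (Sum.inr j) = (-μ) • B (Sum.inr j)) :
    x.det = μ ^ a * (-μ) ^ b ∧ a + b = n := by
  have hM : LinearMap.toMatrix B B (Matrix.toLin' x) =
      Matrix.diagonal (Sum.elim (fun _ => μ) (fun _ => -μ)) := by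
    ext i j
    rw [LinearMap.toMatrix_apply, Matrix.toLin'_apply]
    rcases j with j | j
    · rw [h1, map_smul, Basis.repr_self, Matrix.diagonal_apply]
      by_cases hij : i = Sum.inl j
      · subst hij; simp
      · rw [if_neg hij]
        simp [Finsupp.single_apply, Ne.symm hij]
    · rw [h2, map_smul, Basis.repr_self, Matrix.diagonal_apply]
      by_cases hij : i = Sum.inr j
      · subst hij; simp
      · rw [if_neg hij]
        simp [Finsupp.single_apply, Ne.symm hij]
  constructor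
  · rw [← LinearMap.det_toLin', ← LinearMap.det_toMatrix B, hM, Matrix.det_diagonal,
      Fintype.prod_sum_type]
    simp
  · have := Module.finrank_eq_card_basis B
    rw [Module.finrank_fin_fun, Fintype.card_sum, Fintype.card_fin, Fintype.card_fin] at this
    omega

/-- the blocks in the eigen case -/
def mEig (μ : F) (a' b' : ℕ) : Fin a' ⊕ Fin b' → Matrix (Fin 2) (Fin 2) F :=
  Sum.elim (fun _ => μ • (1 : Matrix (Fin 2) (Fin 2) F))
    (fun _ => (-μ) • (1 : Matrix (Fin 2) (Fin 2) F))

/-- the plane decomposition in the even–even case -/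
theorem planes_of_eigen (x : Matrix (Fin n) (Fin n) F) (μ : F) (a' b' : ℕ)
    (B : Basis (Fin (2 * a') ⊕ Fin (2 * b')) F (Fin n → F))
    (h1 : ∀ i, x *ᵥ B (Sum.inl i) = μ • B (Sum.inl i))
    (h2 : ∀ j, x *ᵥ B (Sum.inr j) = (-μ) • B (Sum.inr j)) :
    ∃ (g : Matrix (Fin n) (Fin 2 × (Fin a' ⊕ Fin b')) F)
      (g' : Matrix (Fin 2 × (Fin a' ⊕ Fin b')) (Fin n) F),
      g * g' = 1 ∧ g' * g = 1 ∧ x = g * blockDiagonal (mEig μ a' b') * g' := by
  let e : (Fin (2 * a') ⊕ Fin (2 * b')) ≃ Fin 2 × (Fin a' ⊕ Fin b') :=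
    ((Equiv.sumCongr finProdFinEquiv.symm finProdFinEquiv.symm).trans
      (Equiv.prodSumDistrib (Fin 2) (Fin a') (Fin b')).symm)
  let B' : Basis (Fin 2 × (Fin a' ⊕ Fin b')) F (Fin n → F) := B.reindex e
  apply InvC.of_basis x B'
  intro i p
  unfold mEig
  rcases i with i | i
  · have hB0 : ∀ p' : Fin 2, ∃ j, B' (p', Sum.inl i) = B (Sum.inl j) := by
      intro p'
      refine ⟨finProdFinEquiv (p', i), ?_⟩
      simp [B', e, Basis.reindex_apply]
    obtain ⟨j, hj⟩ := hB0 p
    rw [hj, h1, ← hj]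
    fin_cases p
    · simp
    · simp
  · have hB0 : ∀ p' : Fin 2, ∃ j, B' (p', Sum.inr i) = B (Sum.inr j) := by
      intro p'
      refine ⟨finProdFinEquiv (p', i), ?_⟩
      simp [B', e, Basis.reindex_apply]
    obtain ⟨j, hj⟩ := hB0 p
    rw [hj, h2, ← hj]
    fin_cases p
    · simp
    · simp

end Cfsg.Agent.Lib.helper14.InvD
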