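import Mathlib
import Cfsg.Prelude.Def_GeometricClasses
import Cfsg.Agent.Lib.helper14.SubA
import Cfsg.Agent.Lib.helper14.InvD

set_option autoImplicit false

/-!
# Conjugating "involutions" `x² = μ²` into the subfield subgroup
-/

namespace Cfsg.Agent.Lib.helper14.SubC

open Matrix Module

section abstract
variable {F : Type*} [Field F] {V : Type*} [AddCommGroup V] [Module F V] [FiniteDimensional F V]

/-- Jordan basis of an endomorphism of square zero -/
theorem exists_jordan_sq_zero (N : Module.End F V) (hNN : ∀ v, N (N v) = 0) :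
    ∃ (r d : ℕ) (B : Basis (Fin r ⊕ (Fin r ⊕ Fin d)) F V),
      (∀ i, N (B (Sum.inl i)) = B (Sum.inr (Sum.inl i))) ∧
      (∀ i, N (B (Sum.inr (Sum.inl i))) = 0) ∧
      (∀ j, N (B (Sum.inr (Sum.inr j))) = 0) := by
  set R : Submodule F V := LinearMap.range N with hR
  set K : Submodule F V := LinearMap.ker N with hK
  have hRK : R ≤ K := by
    rintro _ ⟨v, rfl⟩
    exact LinearMap.mem_ker.mpr (hNN v)
  set r := finrank F R with hr
  let bR : Basis (Fin r) F R := Module.finBasis F R
  have hbRmem : ∀ i, ∃ v, N v = (bR i : V) := fun i => LinearMap.mem_range.mp (bR i).2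
  choose v hv using hbRmem
  obtain ⟨C', hC'⟩ := Submodule.exists_isCompl R
  set C : Submodule F V := C' ⊓ K with hC
  have hRC : Disjoint R C := hC'.disjoint.mono_right inf_le_left
  have hsup : R ⊔ C = K := by
    rw [hC, ← sup_inf_assoc_of_le C' hRK, hC'.sup_eq_top, top_inf_eq]
  have hrank : r + finrank F K = finrank F V := LinearMap.finrank_range_add_finrank_ker N
  have hdimC : finrank F C + r = finrank F K := by
    have e := Submodule.finrank_sup_add_finrank_inf_eq R C
    rw [hsup, hRC.eq_bot, finrank_bot] at e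
    omega
  set d := finrank F C with hd
  let bC : Basis (Fin d) F C := Module.finBasis F C
  have hbCK : ∀ y, N (bC y : V) = 0 := fun y => by
    have : (bC y : V) ∈ K := (inf_le_right : C ≤ K) (bC y).2
    exact LinearMap.mem_ker.mp this
  have hliR : LinearIndependent F (fun i => (bR i : V)) :=
    bR.linearIndependent.map' R.subtype (Submodule.ker_subtype R)
  have hliC : LinearIndependent F (fun y => (bC y : V)) :=
    bC.linearIndependent.map' C.subtype (Submodule.ker_subtype C)
  let b : Fin r ⊕ (Fin r ⊕ Fin d) → V :=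
    Sum.elim v (Sum.elim (fun i => (bR i : V)) (fun j => (bC j : V)))
  have hb0 : ∀ i, b (Sum.inl i) = v i := fun i => rfl
  have hb1 : ∀ i, b (Sum.inr (Sum.inl i)) = (bR i : V) := fun i => rfl
  have hb2 : ∀ j, b (Sum.inr (Sum.inr j)) = (bC j : V) := fun j => rfl
  have hsum : ∀ g : Fin r ⊕ (Fin r ⊕ Fin d) → F, ∑ x, g x • b x =
      (∑ i, g (Sum.inl i) • v i) + ((∑ i, g (Sum.inr (Sum.inl i)) • (bR i : V)) +
        ∑ j, g (Sum.inr (Sum.inr j)) • (bC j : V)) := by
    intro g
    rw [Fintype.sum_sum_type, Fintype.sum_sum_type]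
    simp only [hb0, hb1, hb2]
  have hli : LinearIndependent F b := by
    rw [Fintype.linearIndependent_iff]
    intro g hg
    rw [hsum] at hg
    have hN := congrArg N hg
    rw [map_add, map_add, map_sum, map_sum, map_sum, map_zero] at hN
    have e1 : ∑ i, N (g (Sum.inl i) • v i) = ∑ i, g (Sum.inl i) • (bR i : V) := by
      apply Finset.sum_congr rfl
      intro i _
      rw [map_smul, hv]
    have e2 : ∑ i, N (g (Sum.inr (Sum.inl i)) • (bR i : V)) = 0 := by
      apply Finset.sum_eq_zero
      intro i _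
      rw [map_smul, ← hv i, hNN, smul_zero]
    have e3 : ∑ j, N (g (Sum.inr (Sum.inr j)) • (bC j : V)) = 0 := by
      apply Finset.sum_eq_zero
      intro y _
      rw [map_smul, hbCK, smul_zero]
    rw [e1, e2, e3, add_zero, add_zero] at hN
    have h0 := (Fintype.linearIndependent_iff.mp hliR) (fun i => g (Sum.inl i)) hN
    have hz : ∑ i, g (Sum.inl i) • v i = 0 := by
      apply Finset.sum_eq_zero
      intro i _
      rw [h0 i, zero_smul]
    rw [hz, zero_add] at hg
    set A : V := ∑ i, g (Sum.inr (Sum.inl i)) • (bR i : V) with hA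
    set Bc : V := ∑ j, g (Sum.inr (Sum.inr j)) • (bC j : V) with hBc
    have hAR : A ∈ R := Submodule.sum_mem _ (fun i _ => R.smul_mem _ (bR i).2)
    have hBC : Bc ∈ C := Submodule.sum_mem _ (fun y _ => C.smul_mem _ (bC y).2)
    have hAC : A ∈ C := by
      have : A = -Bc := eq_neg_of_add_eq_zero_left hg
      rw [this]
      exact C.neg_mem hBC
    have hA0 : A = 0 := (Submodule.disjoint_def.mp hRC) A hAR hAC
    have hB0 : Bc = 0 := by rw [hA0, zero_add] at hg; exact hg
    have h1 := (Fintype.linearIndependent_iff.mp hliR) (fun i => g (Sum.inr (Sum.inl i))) hA0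
    have h2 := (Fintype.linearIndependent_iff.mp hliC) (fun y => g (Sum.inr (Sum.inr y))) hB0
    rintro (i | i | j)
    · exact h0 i
    · exact h1 i
    · exact h2 j
  have hcard : Fintype.card (Fin r ⊕ (Fin r ⊕ Fin d)) = finrank F V := by
    rw [Fintype.card_sum, Fintype.card_sum, Fintype.card_fin, Fintype.card_fin]
    omega
  let B : Basis (Fin r ⊕ (Fin r ⊕ Fin d)) F V := basisOfLinearIndependentOfCardEqFinrank' b hli hcard
  have hB : ∀ y, B y = b y := fun y => by
    rw [coe_basisOfLinearIndependentOfCardEqFinrank']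
  refine ⟨r, d, B, ?_, ?_, ?_⟩
  · intro i
    rw [hB, hB, hb0, hb1, hv]
  · intro i
    rw [hB, hb1, ← hv i, hNN]
  · intro j
    rw [hB, hb2, hbCK]

end abstract

section concrete
variable {F : Type*} [Field F] {n : ℕ}

theorem diag_comm {ι : Type*} [Fintype ι] [DecidableEq ι] (M : Matrix ι ι F) (w : ι → F)
    (h : ∀ i j, M i j ≠ 0 → w i = w j) : Matrix.diagonal w * M = M * Matrix.diagonal w := by
  ext i j
  rw [Matrix.diagonal_mul, Matrix.mul_diagonal]
  by_cases h0 : M i j = 0
  · rw [h0, mul_zero, zero_mul]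
  · rw [h i j h0, mul_comm]

theorem det_diag_update {ι : Type*} [Fintype ι] [DecidableEq ι] (j₀ : ι) (d : F) :
    (Matrix.diagonal (Function.update (fun _ => (1 : F)) j₀ d)).det = d := by
  rw [Matrix.det_diagonal, Finset.prod_eq_single j₀]
  · rw [Function.update_self]
  · intro j _ hj
    rw [Function.update_of_ne hj]
  · intro h
    exact absurd (Finset.mem_univ j₀) h

theorem single_mem (F₀ : Subfield F) {ι : Type*} [DecidableEq ι] (a b : ι) :
    (Finsupp.single a (1 : F) b) ∈ F₀ := by
  rw [Finsupp.single_apply]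
  split_ifs
  · exact F₀.one_mem
  · exact F₀.zero_mem

/-- odd characteristic, `x² = μ²`: diagonalizable with eigenvalues `±μ` -/
theorem conj_eigen (F₀ : Subfield F) (x : Matrix.SpecialLinearGroup (Fin n) F) (μ : F)
    (hμ : μ ≠ 0) (h2 : (2 : F) ≠ 0) (hn : 1 ≤ n)
    (hx : (x : Matrix (Fin n) (Fin n) F) * (x : Matrix (Fin n) (Fin n) F) =
      (μ * μ) • (1 : Matrix (Fin n) (Fin n) F)) :
    ∃ P : Matrix.SpecialLinearGroup (Fin n) F, P⁻¹ * x * P ∈ SubA.HS n F₀ := by
  classical
  obtain ⟨a, b, B, hB1, hB2⟩ := InvD.eigen_basis (x : Matrix (Fin n) (Fin n) F) μ hμ h2 hx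
  obtain ⟨_, hab⟩ := InvD.det_of_eigen (x : Matrix (Fin n) (Fin n) F) μ a b B hB1 hB2
  obtain ⟨g, g', hgg', hg'g, hxg⟩ := SubA.of_basis_gen (x : Matrix (Fin n) (Fin n) F) B
  set M := LinearMap.toMatrix B B (Matrix.toLin' (x : Matrix (Fin n) (Fin n) F)) with hMdef
  have hM : ∀ i j, M i j = (Sum.elim (fun _ => μ) (fun _ => -μ) j : F) * Finsupp.single j (1 : F) i := by
    intro i j
    rw [hMdef, LinearMap.toMatrix_apply, Matrix.toLin'_apply]
    rcases j with j | j
    · rw [hB1, map_smul, Basis.repr_self]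
      rfl
    · rw [hB2, map_smul, Basis.repr_self]
      rfl
  apply SubA.finish_sub F₀ x g g' hgg' hg'g M hxg μ hμ
  · intro i j
    rw [hM]
    rcases j with j | j
    · simp only [Sum.elim_inl]
      rw [← mul_assoc, inv_mul_cancel₀ hμ, one_mul]
      exact single_mem F₀ _ _
    · simp only [Sum.elim_inr]
      rw [← mul_assoc, mul_neg, inv_mul_cancel₀ hμ, neg_one_mul]
      exact F₀.neg_mem (single_mem F₀ _ _)
  · intro d _
    have hne : Nonempty (Fin a ⊕ Fin b) := by
      by_cases ha : 0 < a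
      · exact ⟨Sum.inl ⟨0, ha⟩⟩
      · exact ⟨Sum.inr ⟨0, by omega⟩⟩
    obtain ⟨j₀⟩ := hne
    refine ⟨Matrix.diagonal (Function.update (fun _ => (1 : F)) j₀ d), ?_, det_diag_update j₀ d⟩
    apply diag_comm
    intro i j hij
    rw [hM, Finsupp.single_apply] at hij
    by_cases hji : j = i
    · rw [hji]
    · rw [if_neg hji, mul_zero] at hij
      exact absurd rfl hij

/-- characteristic 2, `x² = μ²`: `x = μ(1+N)` with `N² = 0` -/
theorem conj_char_two (F₀ : Subfield F) (x : Matrix.SpecialLinearGroup (Fin n) F) (μ : F)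
    (hμ : μ ≠ 0) (h2 : (2 : F) = 0) (hn : 1 ≤ n) (hsq : ∀ c : F, ∃ a : F, a * a = c)
    (hx : (x : Matrix (Fin n) (Fin n) F) * (x : Matrix (Fin n) (Fin n) F) =
      (μ * μ) • (1 : Matrix (Fin n) (Fin n) F)) :
    ∃ P : Matrix.SpecialLinearGroup (Fin n) F, P⁻¹ * x * P ∈ SubA.HS n F₀ := by
  classical
  set X : Module.End F (Fin n → F) := Matrix.toLin' (x : Matrix (Fin n) (Fin n) F) with hX
  have hXX : ∀ v, X (X v) = (μ * μ) • v := by
    intro v
    rw [hX, Matrix.toLin'_apply, Matrix.toLin'_apply, Matrix.mulVec_mulVec, hx,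
      Matrix.smul_mulVec, Matrix.one_mulVec]
  have hneg : ∀ v : Fin n → F, v + v = 0 := by
    intro v
    rw [← two_smul F v, h2, zero_smul]
  set N : Module.End F (Fin n → F) := μ⁻¹ • X + LinearMap.id with hN
  have hNv : ∀ v, N v = μ⁻¹ • X v + v := fun v => by
    rw [hN, LinearMap.add_apply, LinearMap.smul_apply, LinearMap.id_apply]
  have hXN : ∀ v, X v = μ • v + μ • N v := by
    intro v
    rw [hNv, smul_add, smul_smul, mul_inv_cancel₀ hμ, one_smul, add_comm (X v), ← add_assoc,
      ← smul_add, hneg, smul_zero, zero_add]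
  have hNN : ∀ v, N (N v) = 0 := by
    intro v
    rw [hNv (N v), hNv v, map_add, map_smul, hXX, smul_add, smul_smul, smul_smul]
    have : μ⁻¹ * μ⁻¹ * (μ * μ) = 1 := by field_simp
    rw [this, one_smul]
    have e : v + μ⁻¹ • X v + (μ⁻¹ • X v + v) = (v + v) + (μ⁻¹ • X v + μ⁻¹ • X v) := by abel
    rw [e, hneg, hneg, add_zero]
  obtain ⟨r, d, B, hB0, hB1, hB2⟩ := exists_jordan_sq_zero N hNN
  have hcard : r + (r + d) = n := by
    have := Module.finrank_eq_card_basis B
    rw [Module.finrank_fin_fun, Fintype.card_sum, Fintype.card_sum, Fintype.card_fin,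
      Fintype.card_fin] at this
    omega
  obtain ⟨g, g', hgg', hg'g, hxg⟩ := SubA.of_basis_gen (x : Matrix (Fin n) (Fin n) F) B
  set M := LinearMap.toMatrix B B (Matrix.toLin' (x : Matrix (Fin n) (Fin n) F)) with hMdef
  have hM : ∀ i j, M i j = μ * (Finsupp.single j (1 : F) i + B.repr (N (B j)) i) := by
    intro i j
    rw [hMdef, LinearMap.toMatrix_apply, ← hX, hXN, map_add, map_smul, map_smul, Basis.repr_self]
    simp only [Finsupp.coe_add, Finsupp.coe_smul, Pi.add_apply, Pi.smul_apply, smul_eq_mul]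
    ring
  have hE : ∀ i j, B.repr (N (B j)) i ≠ 0 → ∃ t, j = Sum.inl t ∧ i = Sum.inr (Sum.inl t) := by
    intro i j h
    rcases j with t | t | t
    · refine ⟨t, rfl, ?_⟩
      rw [hB0, Basis.repr_self, Finsupp.single_apply] at h
      by_contra hne
      rw [if_neg (fun h' => hne h'.symm)] at h
      exact h rfl
    · rw [hB1, map_zero] at h
      exact absurd rfl h
    · rw [hB2, map_zero] at h
      exact absurd rfl h
  have hEmem : ∀ i j, B.repr (N (B j)) i ∈ F₀ := by
    intro i j
    rcases j with t | t | t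
    · rw [hB0, Basis.repr_self]
      exact single_mem F₀ _ _
    · rw [hB1, map_zero]
      exact F₀.zero_mem
    · rw [hB2, map_zero]
      exact F₀.zero_mem
  have hcomm : ∀ w : Fin r ⊕ (Fin r ⊕ Fin d) → F,
      (∀ t, w (Sum.inr (Sum.inl t)) = w (Sum.inl t)) →
      Matrix.diagonal w * M = M * Matrix.diagonal w := by
    intro w hw
    apply diag_comm
    intro i j hij
    by_cases hji : j = i
    · rw [hji]
    · rw [hM, Finsupp.single_apply, if_neg hji, zero_add] at hij
      have h' : B.repr (N (B j)) i ≠ 0 := fun h0 => hij (by rw [h0, mul_zero])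
      obtain ⟨t, rfl, rfl⟩ := hE i j h'
      exact hw t
  apply SubA.finish_sub F₀ x g g' hgg' hg'g M hxg μ hμ
  · intro i j
    rw [hM, ← mul_assoc, inv_mul_cancel₀ hμ, one_mul]
    exact F₀.add_mem (single_mem F₀ _ _) (hEmem i j)
  · intro c _
    by_cases hd : 0 < d
    · refine ⟨Matrix.diagonal (Function.update (fun _ => (1 : F)) (Sum.inr (Sum.inr ⟨0, hd⟩)) c),
        hcomm _ ?_, det_diag_update _ c⟩
      intro t
      rw [Function.update_of_ne (by simp), Function.update_of_ne (by simp)]
    · have hr : 0 < r := by omega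
      obtain ⟨a, ha⟩ := hsq c
      set w : Fin r ⊕ (Fin r ⊕ Fin d) → F :=
        Sum.elim (fun t => if t = ⟨0, hr⟩ then a else 1)
          (Sum.elim (fun t => if t = ⟨0, hr⟩ then a else 1) (fun _ => 1)) with hw
      refine ⟨Matrix.diagonal w, hcomm w (fun t => rfl), ?_⟩
      rw [Matrix.det_diagonal, Fintype.prod_sum_type, Fintype.prod_sum_type]
      simp only [hw, Sum.elim_inl, Sum.elim_inr, Finset.prod_ite_eq', Finset.mem_univ, if_true,
        Finset.prod_const_one, mul_one]
      exact ha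

end concrete

end Cfsg.Agent.Lib.helper14.SubC
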