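import Mathlib
import Cfsg.Agent.Lib.helper6.CEB.Defs
import Cfsg.Agent.Lib.Helper24.STCI1
import Cfsg.Agent.Lib.Helper21.CEBZ1
import Cfsg.Agent.Lib.helper6.CEBG4

/-!
# Project CEB (helper6, S2094), row Z4 (`Ds_cj`), by helper14 (port of `helper14.CECL4` `Dl_cj`).
-/

set_option autoImplicit false

namespace Cfsg.Agent.Lib.helper6.CEB

open Cfsg.Agent.Lib.helper15.St2 Cfsg.Agent.Lib.helper7.Ce Cfsg.Agent.Lib.helper3.STC Cfsg.Agent.Lib.Lead.STD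
  Cfsg.Agent.Lib.helper7.CED Cfsg.Agent.Lib.Lead.STB
open Cfsg.Agent.Lib.helper7.CEC (I2 I3 I4 U3)

section Z

variable {K : Type*} [Field K] {ι : Type*} {Γ G : Type*} [Group Γ] [Group G] {S : SysB K ι G} {σ : Γ →* G}

/-- Z4 [S-M]  model CEC L4 `Dl_cj`. -/
theorem Ds_cj (h : IsCE σ) (h3 : I3 ι) (P : SysD K ι Γ) (hP : ∀ a b t, σ (P.x a b t) = S.x a b t)
    {g : G} {π : Equiv.Perm (ι ⊕ ι)} {d : ι ⊕ ι → K} {d0 : K} (hg : S.IsMon g π d d0) {e : Γ} (he : σ e = g)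
    {a b : ι ⊕ ι} (hab : ab a ≠ ab b) (t u : K) :
    cj e (Ds S h P a b t u) = Ds S h P (π a) (π b) (d a * (d b)⁻¹ * t) (d b * d0 * u) := by
  obtain ⟨h1, h2⟩ := cebz1_unpack hab
  have habn : ab a ≠ ab (ng b) := by rw [ab_ng]; exact hab
  unfold Ds
  rw [cj_mul, cj_inv, Zs_cj h hg he h1, sys_eqv h h3 P hP hg.1 hg.2.1 he habn, hg.2.1 b]
  have hdb : d b ≠ 0 := hg.1.1 b
  have hdnb : d (ng b) ≠ 0 := hg.1.1 (ng b)
  have hbb : d b * d (ng b) = 1 := hg.2.2.1 b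
  have h00 : d0 * d0 = 1 := hg.2.2.2.1
  have e1 : d a * (d (ng b))⁻¹ * (t * u ^ 2) = d a * (d b)⁻¹ * t * (d b * d0 * u) ^ 2 := by
    have e2 : (d (ng b))⁻¹ = d b := inv_eq_of_mul_eq_one_left hbb
    have e3 : (d b)⁻¹ * d b = 1 := inv_mul_cancel₀ hdb
    have e4 : d a * (d b)⁻¹ * t * (d b * d0 * u) ^ 2 = d a * d b * (t * u ^ 2) * ((d b)⁻¹ * d b) * (d0 * d0) := by ring
    rw [e2, e4, e3, h00, mul_one, mul_one]
  rw [e1]

end Z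

end Cfsg.Agent.Lib.helper6.CEB
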