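import Mathlib
import Cfsg.Agent.Lib.helper7.CED.Defs
import Cfsg.Agent.Lib.Helper24.STCI1
import Cfsg.Agent.Lib.helper14.CEDT3

/-!
# Project CED (helper7, S2096 + S2097), row Y2 (`Ys_add_left`, `Ys_add_right`, `Ys_zero_left`, `Ys_neg_left`), by helper14.
Port of `Helper11.CECY2`; the three Y1 statements are reproved under the own names `cedy2_Ys_map`, `cedy2_Ys_eq`.
-/

set_option autoImplicit false

namespace Cfsg.Agent.Lib.helper7.CED

open Cfsg.Agent.Lib.helper15.St2 Cfsg.Agent.Lib.helper7.Ce Cfsg.Agent.Lib.helper3.STC Cfsg.Agent.Lib.Lead.STD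
  Cfsg.Agent.Lib.helper7.CEC

section Y

variable {K : Type*} [Field K] {ι : Type*} {Γ G : Type*} [Group Γ] [Group G] {S : SysD K ι G} {σ : Γ →* G}

/-- the relation `comm3` in the form `cm`. -/
theorem cedy2_cm_x (S : SysD K ι G) {a c b : ι ⊕ ι} (hac : ab a ≠ ab c) (hcb : ab c ≠ ab b) (hab : ab a ≠ ab b) (t u : K) :
    cm (S.x a c t) (S.x c b u) = S.x a b (t * u) :=
  S.comm3 a c b (cedt3_unpack hac).1 (cedt3_unpack hac).2.1 (cedt3_unpack hcb).1 (cedt3_unpack hcb).2.1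
    (cedt3_unpack hab).1 (cedt3_unpack hab).2.1 t u

/-- own-name copy of Y1 `Ys_map` -/
theorem cedy2_Ys_map (h : IsCE σ) {a c b : ι ⊕ ι} (hac : ab a ≠ ab c) (hcb : ab c ≠ ab b) (hab : ab a ≠ ab b) (t u : K) :
    σ (Ys S h a c b t u) = S.x a b (t * u) := by
  unfold Ys
  rw [map_cm, map_lf, map_lf, cedy2_cm_x S hac hcb hab]

/-- own-name copy of Y1 `Ys_eq` -/
theorem cedy2_Ys_eq (h : IsCE σ) {a c b : ι ⊕ ι} {t u : K} {p q : Γ} (hp : σ p = S.x a c t) (hq : σ q = S.x c b u) :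
    cm p q = Ys S h a c b t u := by
  unfold Ys
  exact h.cm_congr (by rw [hp, map_lf]) (by rw [hq, map_lf])

/-- `hC` for the same root. -/
theorem cedy2_same (hC : HC S σ) {a b : ι ⊕ ι} (hab : ab a ≠ ab b) (t u : K) :
    CL σ (S.x a b t) (S.x a b u) :=
  hC a b a b (cedt3_unpack hab).1 (cedt3_unpack hab).2.1 (cedt3_unpack hab).1 (cedt3_unpack hab).2.1
    (cedt3_unpack hab).2.2.1 (cedt3_unpack hab).1 (ne_ng b) (ne_ng a) t u

/-- `hC` for two roots in a row. -/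
theorem cedy2_row (hC : HC S σ) {a c b : ι ⊕ ι} (hac : ab a ≠ ab c) (hcb : ab c ≠ ab b) (hab : ab a ≠ ab b) (t u : K) :
    CL σ (S.x a c t) (S.x a b u) :=
  hC a c a b (cedt3_unpack hac).1 (cedt3_unpack hac).2.1 (cedt3_unpack hab).1 (cedt3_unpack hab).2.1
    (cedt3_unpack hac).2.2.1 (cedt3_unpack hab).1 (cedt3_unpack hcb).2.1 (ne_ng a) t u

/-- `hC` for two roots in a column. -/
theorem cedy2_col (hC : HC S σ) {a c b : ι ⊕ ι} (hac : ab a ≠ ab c) (hcb : ab c ≠ ab b) (hab : ab a ≠ ab b) (t u : K) :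
    CL σ (S.x a b t) (S.x c b u) :=
  hC a b c b (cedt3_unpack hab).1 (cedt3_unpack hab).2.1 (cedt3_unpack hcb).1 (cedt3_unpack hcb).2.1
    (cedt3_unpack hcb).2.2.1 (cedt3_unpack hab).1 (ne_ng b) (cedt3_unpack hac).2.1 t u

theorem cedy2_comm (h : IsCE σ) (hC : HC S σ) {a c c' b : ι ⊕ ι} (hac : ab a ≠ ab c) (hcb : ab c ≠ ab b)
    (hab : ab a ≠ ab b) (hac' : ab a ≠ ab c') (hcb' : ab c' ≠ ab b) (s t s' t' : K) :
    Ys S h a c b s t * Ys S h a c' b s' t' = Ys S h a c' b s' t' * Ys S h a c b s t :=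
  cedy2_same hC hab _ _ _ _ (cedy2_Ys_map h hac hcb hab s t) (cedy2_Ys_map h hac' hcb' hab s' t')

/-- Y2 -/
theorem Ys_add_left (h : IsCE σ) (hC : HC S σ) {a c b : ι ⊕ ι} (hac : ab a ≠ ab c) (hcb : ab c ≠ ab b) (hab : ab a ≠ ab b) (s s' t : K) :
    Ys S h a c b (s + s') t = Ys S h a c b s t * Ys S h a c b s' t := by
  have e1 : σ (lf h (S.x a c s) * lf h (S.x a c s')) = S.x a c (s + s') := by
    rw [map_mul, map_lf, map_lf, S.add a c (cedt3_unpack hac).1 (cedt3_unpack hac).2.1]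
  rw [← cedy2_Ys_eq h e1 (map_lf h (S.x c b t)), cm_mul_left]
  have e2 : lf h (S.x a c s) * cm (lf h (S.x a c s')) (lf h (S.x c b t)) =
      cm (lf h (S.x a c s')) (lf h (S.x c b t)) * lf h (S.x a c s) :=
    cedy2_row hC hac hcb hab s (s' * t) _ _ (map_lf h _)
      (by rw [map_cm, map_lf, map_lf, cedy2_cm_x S hac hcb hab])
  rw [e2, mul_inv_cancel_right]
  exact cedy2_comm h hC hac hcb hab hac hcb _ _ _ _

theorem Ys_add_right (h : IsCE σ) (hC : HC S σ) {a c b : ι ⊕ ι} (hac : ab a ≠ ab c) (hcb : ab c ≠ ab b) (hab : ab a ≠ ab b) (s t t' : K) :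
    Ys S h a c b s (t + t') = Ys S h a c b s t * Ys S h a c b s t' := by
  have e1 : σ (lf h (S.x c b t) * lf h (S.x c b t')) = S.x c b (t + t') := by
    rw [map_mul, map_lf, map_lf, S.add c b (cedt3_unpack hcb).1 (cedt3_unpack hcb).2.1]
  rw [← cedy2_Ys_eq h (map_lf h (S.x a c s)) e1, cm_mul_right]
  have e2 : cm (lf h (S.x a c s)) (lf h (S.x c b t')) * lf h (S.x c b t) =
      lf h (S.x c b t) * cm (lf h (S.x a c s)) (lf h (S.x c b t')) :=
    cedy2_col hC hac hcb hab (s * t') t _ _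
      (by rw [map_cm, map_lf, map_lf, cedy2_cm_x S hac hcb hab]) (map_lf h _)
  rw [← e2, mul_inv_cancel_right]
  rfl

theorem Ys_zero_left (h : IsCE σ) (hC : HC S σ) {a c b : ι ⊕ ι} (hac : ab a ≠ ab c) (hcb : ab c ≠ ab b) (hab : ab a ≠ ab b) (t : K) :
    Ys S h a c b 0 t = 1 := by
  have := Ys_add_left h hC hac hcb hab 0 0 t
  rw [add_zero] at this
  exact mul_eq_left.1 this.symm

theorem Ys_neg_left (h : IsCE σ) (hC : HC S σ) {a c b : ι ⊕ ι} (hac : ab a ≠ ab c) (hcb : ab c ≠ ab b) (hab : ab a ≠ ab b) (s t : K) :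
    Ys S h a c b (-s) t = (Ys S h a c b s t)⁻¹ := by
  have := Ys_add_left h hC hac hcb hab (-s) s t
  rw [neg_add_cancel, Ys_zero_left h hC hac hcb hab] at this
  exact eq_inv_of_mul_eq_one_left this.symm

end Y

end Cfsg.Agent.Lib.helper7.CED
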