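import Mathlib
import Cfsg.Agent.Lib.helper14.CEDY2

/-!
# Project CED (helper7, S2096 + S2097), rows Y4 (`Ys_milnor`) and Y5 (`Ys_BI_four`), by helper14.
Ports of `Helper16.CECY4` and `Helper5.CECY5`.
-/

set_option autoImplicit false

namespace Cfsg.Agent.Lib.helper7.CED

open Cfsg.Agent.Lib.helper15.St2 Cfsg.Agent.Lib.helper7.Ce Cfsg.Agent.Lib.helper3.STC Cfsg.Agent.Lib.Lead.STD
  Cfsg.Agent.Lib.helper7.CEC

section Y

variable {K : Type*} [Field K] {ι : Type*} {Γ G : Type*} [Group Γ] [Group G] {S : SysD K ι G} {σ : Γ →* G}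

/-- `hC` with the hypotheses in the `ab` form: two orthogonal roots on four indices -/
theorem cedy4_orth (hC : HC S σ) {a b c d : ι ⊕ ι} (hab : ab a ≠ ab b) (hcd : ab c ≠ ab d) (hbc : ab b ≠ ab c)
    (had : ab a ≠ ab d) (hbd : ab b ≠ ab d) (hac : ab a ≠ ab c) (t u : K) :
    CL σ (S.x a b t) (S.x c d u) :=
  hC a b c d (cedt3_unpack hab).1 (cedt3_unpack hab).2.1 (cedt3_unpack hcd).1 (cedt3_unpack hcd).2.1
    (cedt3_unpack hbc).1 (cedt3_unpack had).1 (cedt3_unpack hbd).2.1 (cedt3_unpack hac).2.1 t u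

/-- Y4 [M] -/
theorem Ys_milnor (h : IsCE σ) (hC : HC S σ) {a c e b : ι ⊕ ι} (hac : ab a ≠ ab c) (hae : ab a ≠ ab e) (hab : ab a ≠ ab b)
    (hce : ab c ≠ ab e) (hcb : ab c ≠ ab b) (heb : ab e ≠ ab b) (s t : K) :
    Ys S h a c b s t = Ys S h a e b (s * t) 1 := by
  set A := lf h (S.x a c s) with hA
  set v := lf h (S.x c e t) with hv
  set w := lf h (S.x e b 1) with hw
  have sa : σ A = S.x a c s := map_lf h _
  have sv : σ v = S.x c e t := map_lf h _
  have sw : σ w = S.x e b 1 := map_lf h _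
  have sr : σ (cm v w) = S.x c b t := by
    rw [map_cm, sv, sw, cedy2_cm_x S hce heb hcb, mul_one]
  have sp : σ (cm A v) = S.x a e (s * t) := by
    rw [map_cm, sa, sv, cedy2_cm_x S hac hce hae]
  rw [← cedy2_Ys_eq h sa sr, ← cedy2_Ys_eq h sp sw]
  have hec : ab e ≠ ab c := fun x => hce x.symm
  have e1 : A * w = w * A :=
    cedy4_orth hC hac heb hce hab hcb hae s 1 A w sa sw
  have e2 : cm A v * cm v w = cm v w * cm A v :=
    cedy4_orth hC hae hcb hec hab heb hac (s * t) t _ _ sp sr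
  have e3 : cm (cm A v) w * cm v w = cm v w * cm (cm A v) w :=
    cedy2_col hC hac hcb hab (s * t * 1) t _ _
      (by rw [map_cm, sp, sw, cedy2_cm_x S hae heb hab]) sr
  have e4 : cm A (cm v w) = cm A v * cm v w * (cm A v)⁻¹ * cm (cm A v) w * (cm v w)⁻¹ := by
    have e5 : cm A (cm v w) = cm (cm A v * v) (A * w * A⁻¹) * (cm v w)⁻¹ := by
      unfold cm; group
    rw [e5, e1, mul_inv_cancel_right, cm_mul_left]
  rw [e4, e2, mul_inv_cancel_right, ← e3, mul_inv_cancel_right]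

/-- Y5 [S-M] -/
theorem Ys_BI_four (h : IsCE σ) (hC : HC S σ) (h4 : I4 ι) : PB S h ∧ PI S h := by
  constructor
  · intro a c b hac hcb hab t u
    obtain ⟨e, hea, hec, heb⟩ := h4 a c b
    have h1 := Ys_milnor h hC hac hea.symm hab hec.symm hcb heb t u
    have h2 := Ys_milnor h hC hac hea.symm hab hec.symm hcb heb (t * u) 1
    rw [mul_one] at h2
    rw [h1, h2]
  · intro a c c' b hac hcb hac' hc'b hab t
    by_cases hcc : ab c = ab c'
    · obtain ⟨e, hea, hec, heb⟩ := h4 a c b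
      have hec' : ab e ≠ ab c' := by rw [← hcc]; exact hec
      have h1 := Ys_milnor h hC hac hea.symm hab hec.symm hcb heb t 1
      have h2 := Ys_milnor h hC hac' hea.symm hab hec'.symm hc'b heb t 1
      rw [h1, h2]
    · have h1 := Ys_milnor h hC hac hac' hab hcc hcb hc'b t 1
      rw [mul_one] at h1
      exact h1

end Y

end Cfsg.Agent.Lib.helper7.CED
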