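import Mathlib
import Cfsg.Agent.Lib.helper8.RSM.Defs

/-!
# Project RSM (helper8), row B3: `invol_kill_right`
-/

set_option autoImplicit false

namespace Cfsg.Agent.Lib.helper8.RSM

universe u v w

variable {G : Type u} [Group G] {K : Type v} [Field K] [Fintype K] {m : ℕ}

/-- `3 = 0` in a field with `3 ^ (2 m + 1)` elements -/
theorem rsmb3_three (hK : Fintype.card K = 3 ^ (2 * m + 1)) : (3 : K) = 0 := by
  have h : ((Fintype.card K : ℕ) : K) = 0 := Nat.cast_card_eq_zero K
  rw [hK] at h
  push_cast at h
  exact pow_eq_zero_iff (by omega) |>.mp h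

/-- an additive map to a group that is even is trivial (characteristic 3) -/
theorem rsmb3_core (hK : Fintype.card K = 3 ^ (2 * m + 1)) {A : Type*} [Group A]
    (f : K → A) (hadd : ∀ w w', f (w + w') = f w * f w') (hneg : ∀ w, f (-w) = f w) :
    ∀ w, f w = 1 := by
  intro w
  have h0 : f 0 = 1 := by
    have h := hadd 0 0
    rw [add_zero] at h
    exact (mul_eq_left (a := f 0)).mp h.symm |> fun h => h
  have h2 : f w * f w = 1 := by
    have h := hadd w (-w)
    rw [add_neg_cancel, h0, hneg] at h
    exact h.symm
  have h3 : f w * f w * f w = 1 := by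
    have h := hadd (w + w) w
    rw [hadd w w] at h
    have hz : w + w + w = 0 := by
      have : w + w + w = 3 * w := by ring
      rw [this, rsmb3_three hK, zero_mul]
    rw [hz, h0] at h
    exact h.symm
  rw [h2, one_mul] at h3
  exact h3

/-- B3 [S]. The same in the second variable. -/
theorem invol_kill_right (hK : Fintype.card K = 3 ^ (2 * m + 1)) {A : Type*} [Group A]
    (B : K → K → A) (hr : ∀ u w w', B u (w + w') = B u w * B u w')
    (hneg : ∀ u w, B u (-w) = B u w) : ∀ u w, B u w = 1 := by
  intro u w
  exact rsmb3_core hK (B u) (hr u) (hneg u) w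

end Cfsg.Agent.Lib.helper8.RSM
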