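import Mathlib
import Cfsg.Agent.Lib.helper8.RSM.Defs
import Cfsg.Agent.Lib.Helper5.StemQ
import Cfsg.Agent.Lib.helper14.RSMB3

/-!
# Project RSM (helper8), row D2: `bet_uv`
-/

set_option autoImplicit false

namespace Cfsg.Agent.Lib.helper8.RSM

open Cfsg.Agent.Lib.Helper5.Stem
open scoped commutatorElement

universe u v w

variable {G : Type u} [Group G] {K : Type v} [Field K] [Fintype K] {m : ℕ}
variable {Γ : Type w} [Group Γ] {σ : Γ →* G}

/-- multiplication in `U₂` -/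
theorem rsmd2_mul0 (RU : ReeU G K m) (u v u' v' : K) :
    RU.x 0 u v * RU.x 0 u' v' = RU.x 0 (u + u') (v + v') := by
  rw [RU.x_mul]
  have h3 : (3 : ℕ) ^ m ≠ 0 := pow_ne_zero _ (by norm_num)
  have h0 : ((0 : K) ^ 3 ^ m) ^ 3 = 0 := by rw [zero_pow h3, zero_pow (by norm_num)]
  congr 1
  · ring
  · rw [h0]; ring
  · rw [h0]; ring

omit [Fintype K] in
/-- `N` is multiplicative -/
theorem rsmd2_nrm_mul (a b : K) : nrm m (a * b) = nrm m a * nrm m b := by
  unfold nrm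
  rw [mul_pow, mul_pow]
  ring

/-- the powers of `h0` act with the weights of the powers of `a0` -/
theorem rsmd2_h0_pow (RU : ReeU G K m) (i : ℕ) (t u v : K) :
    RU.h0 ^ i * RU.x t u v * (RU.h0 ^ i)⁻¹ =
      RU.x (RU.a0 ^ i * t) (nrm m (RU.a0 ^ i) * u) (RU.a0 ^ i * nrm m (RU.a0 ^ i) * v) := by
  induction i generalizing t u v with
  | zero =>
    have h1 : nrm m (1 : K) = 1 := by unfold nrm; simp
    simp [h1]
  | succ i ih =>
    have e : RU.h0 ^ (i + 1) * RU.x t u v * (RU.h0 ^ (i + 1))⁻¹ =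
        RU.h0 ^ i * (RU.h0 * RU.x t u v * RU.h0⁻¹) * (RU.h0 ^ i)⁻¹ := by
      rw [pow_succ]; group
    rw [e, RU.h0_conj, ih, pow_succ, rsmd2_nrm_mul]
    congr 1 <;> ring

/-- `q ≡ 3 mod 4` -/
theorem rsmd2_mod4 (m : ℕ) : 3 ^ (2 * m + 1) % 4 = 3 := by
  have e : 3 ^ (2 * m + 1) = 9 ^ m * 3 := by
    rw [pow_succ, pow_mul]; norm_num
  rw [e]
  norm_num [Nat.pow_mod, Nat.mul_mod]

/-- `(q - 1) / 2` is odd -/
theorem rsmd2_odd (m : ℕ) : Odd ((3 ^ (2 * m + 1) - 1) / 2) := by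
  have h : 3 ^ (2 * m + 1) % 4 = 3 := rsmd2_mod4 m
  rw [Nat.odd_iff]
  generalize 3 ^ (2 * m + 1) = q at h ⊢
  omega

/-- `a0 ^ ((q - 1) / 2) = -1` for a generator `a0` -/
theorem rsmd2_gen (RU : ReeU G K m) : RU.a0 ^ ((3 ^ (2 * m + 1) - 1) / 2) = -1 := by
  have hK := RU.hK
  have h3 : (3 : K) = 0 := rsmb3_three hK
  have hodd := rsmd2_odd m
  set n := (3 ^ (2 * m + 1) - 1) / 2 with hn
  have h2n : 2 * n = 3 ^ (2 * m + 1) - 1 := by
    have h : 3 ^ (2 * m + 1) % 4 = 3 := rsmd2_mod4 m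
    rw [hn]
    generalize 3 ^ (2 * m + 1) = q at h ⊢
    omega
  have ha0 : RU.a0 ≠ 0 := by
    intro h0
    obtain ⟨i, hi⟩ := RU.a0_gen 1 one_ne_zero
    rw [h0] at hi
    rcases Nat.eq_zero_or_pos i with hi0 | hi0
    · obtain ⟨j, hj⟩ := RU.a0_gen (-1) (by simp)
      rw [h0] at hj
      rcases Nat.eq_zero_or_pos j with hj0 | hj0
      · rw [hj0, pow_zero] at hj
        have h2 : (2 : K) = 0 := by linear_combination (-1 : K) * hj
        have : (1 : K) = 0 := by linear_combination h3 - h2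
        exact one_ne_zero this
      · rw [zero_pow (by omega)] at hj
        simp at hj
    · rw [zero_pow (by omega)] at hi
      exact one_ne_zero hi
  have hsq : (RU.a0 ^ n) ^ 2 = 1 := by
    rw [← pow_mul, mul_comm, h2n, ← hK]
    exact FiniteField.pow_card_sub_one_eq_one RU.a0 ha0
  have hcases : RU.a0 ^ n = 1 ∨ RU.a0 ^ n = -1 := by
    have : (RU.a0 ^ n - 1) * (RU.a0 ^ n + 1) = 0 := by linear_combination hsq
    rcases mul_eq_zero.mp this with h | h
    · left; linear_combination h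
    · right; linear_combination h
  rcases hcases with h1 | h1
  · exfalso
    obtain ⟨i, hi⟩ := RU.a0_gen (-1) (by simp)
    have e1 : ((-1 : K)) ^ n = 1 := by
      rw [hi, ← pow_mul, mul_comm, pow_mul, h1, one_pow]
    rw [hodd.neg_one_pow] at e1
    have h2 : (2 : K) = 0 := by linear_combination (-1 : K) * e1
    have : (1 : K) = 0 := by linear_combination h3 - h2
    exact one_ne_zero this
  · exact h1

omit [Fintype K] in
/-- `N (-1) = 1` -/
theorem rsmd2_nrm_neg_one : nrm m (-1 : K) = 1 := by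
  unfold nrm
  have h : Odd (3 ^ m) := Odd.pow (by decide)
  rw [h.neg_one_pow]
  ring

/-- D2 [M]. `B u v := bet hs (x 0 u 0) (x 0 0 v)` is additive in `v`; the involution
`k = h0 ^ ((q-1)/2)` (A9: `a = -1`, `N (-1) = 1`) fixes `x 0 u 0` and maps `x 0 0 v` to
`x 0 0 (-v)`, so `B u (-v) = B u v` by `bet_conj`; B3. -/
theorem bet_uv (RU : ReeU G K m) (hs : Function.Surjective σ) (hcen : σ.ker ≤ Subgroup.center Γ)
    (u v : K) : bet hs (RU.x 0 u 0) (RU.x 0 0 v) = 1 := by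
  have hcomm : ∀ a b c d : K, RU.x 0 a b * RU.x 0 c d = RU.x 0 c d * RU.x 0 a b := by
    intro a b c d
    rw [rsmd2_mul0, rsmd2_mul0, add_comm a c, add_comm b d]
  refine invol_kill_right RU.hK (fun u v => bet hs (RU.x 0 u 0) (RU.x 0 0 v)) ?_ ?_ u v
  · intro u w w'
    have e : RU.x 0 0 (w + w') = RU.x 0 0 w * RU.x 0 0 w' := by
      rw [rsmd2_mul0, add_zero]
    show bet hs (RU.x 0 u 0) (RU.x 0 0 (w + w')) = _
    rw [e]
    exact bet_mul_right hs hcen (hcomm _ _ _ _) (hcomm _ _ _ _)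
  · intro u w
    show bet hs (RU.x 0 u 0) (RU.x 0 0 (-w)) = bet hs (RU.x 0 u 0) (RU.x 0 0 w)
    have hk := bet_conj hs hcen (RU.h0 ^ ((3 ^ (2 * m + 1) - 1) / 2)) (hcomm u 0 0 w)
    rw [rsmd2_h0_pow, rsmd2_h0_pow, rsmd2_gen, rsmd2_nrm_neg_one] at hk
    have e1 : RU.x ((-1 : K) * 0) (1 * u) (-1 * 1 * 0) = RU.x 0 u 0 := by
      congr 1 <;> ring
    have e2 : RU.x ((-1 : K) * 0) (1 * 0) (-1 * 1 * w) = RU.x 0 0 (-w) := by
      congr 1 <;> ring
    rw [e1, e2] at hk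
    exact hk

end Cfsg.Agent.Lib.helper8.RSM
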