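import Mathlib

/-!
# Pairs of complementary totally singular subspaces of a unitary space: the σ-hermitian dot form,
hyperbolic frames
-/

set_option autoImplicit false

namespace Cfsg.Agent.Lib.helper14.UPolA

open Matrix

variable {F : Type*} [Field F] {ι : Type*} [Fintype ι]

/-- the standard `σ`-hermitian form `∑ uᵢ σ(vᵢ)` -/
def hs (σ : F →+* F) (u v : ι → F) : F := ∑ i, u i * σ (v i)

theorem hs_add_left (σ : F →+* F) (u u' v : ι → F) : hs σ (u + u') v = hs σ u v + hs σ u' v := by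
  simp only [hs, Pi.add_apply, add_mul, Finset.sum_add_distrib]

theorem hs_add_right (σ : F →+* F) (u v v' : ι → F) : hs σ u (v + v') = hs σ u v + hs σ u v' := by
  simp only [hs, Pi.add_apply, map_add, mul_add, Finset.sum_add_distrib]

theorem hs_smul_left (σ : F →+* F) (c : F) (u v : ι → F) : hs σ (c • u) v = c * hs σ u v := by
  simp only [hs, Pi.smul_apply, smul_eq_mul, Finset.mul_sum, mul_assoc]

theorem hs_smul_right (σ : F →+* F) (c : F) (u v : ι → F) : hs σ u (c • v) = σ c * hs σ u v := by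
  simp only [hs, Pi.smul_apply, smul_eq_mul, map_mul, Finset.mul_sum]
  exact Finset.sum_congr rfl (fun i _ => by ring)

theorem hs_zero_left (σ : F →+* F) (v : ι → F) : hs σ 0 v = 0 := by
  simp [hs]

theorem hs_zero_right (σ : F →+* F) (u : ι → F) : hs σ u 0 = 0 := by
  simp [hs]

theorem hs_neg_left (σ : F →+* F) (u v : ι → F) : hs σ (-u) v = -hs σ u v := by
  simp [hs]

theorem hs_neg_right (σ : F →+* F) (u v : ι → F) : hs σ u (-v) = -hs σ u v := by
  simp [hs]

theorem hs_sub_left (σ : F →+* F) (u u' v : ι → F) : hs σ (u - u') v = hs σ u v - hs σ u' v := by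
  rw [sub_eq_add_neg, hs_add_left, hs_neg_left, sub_eq_add_neg]

theorem hs_sub_right (σ : F →+* F) (u v v' : ι → F) : hs σ u (v - v') = hs σ u v - hs σ u v' := by
  rw [sub_eq_add_neg, hs_add_right, hs_neg_right, sub_eq_add_neg]

theorem hs_sum_left {κ : Type*} (σ : F →+* F) (s : Finset κ) (u : κ → ι → F) (v : ι → F) :
    hs σ (∑ k ∈ s, u k) v = ∑ k ∈ s, hs σ (u k) v := by
  classical
  induction s using Finset.induction_on with
  | empty => simp [hs_zero_left]
  | insert a s ha ih => rw [Finset.sum_insert ha, Finset.sum_insert ha, hs_add_left, ih]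

theorem hs_sum_right {κ : Type*} (σ : F →+* F) (s : Finset κ) (u : ι → F) (v : κ → ι → F) :
    hs σ u (∑ k ∈ s, v k) = ∑ k ∈ s, hs σ u (v k) := by
  classical
  induction s using Finset.induction_on with
  | empty => simp [hs_zero_right]
  | insert a s ha ih => rw [Finset.sum_insert ha, Finset.sum_insert ha, hs_add_right, ih]

theorem hs_symm (σ : F →+* F) (hσσ : ∀ x, σ (σ x) = x) (u v : ι → F) :
    hs σ u v = σ (hs σ v u) := by
  simp only [hs, map_sum, map_mul, hσσ]
  exact Finset.sum_congr rfl (fun i _ => mul_comm _ _)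

theorem hs_single_right [DecidableEq ι] (σ : F →+* F) (u : ι → F) (j : ι) :
    hs σ u (Pi.single j 1) = u j := by
  simp only [hs]
  rw [Finset.sum_eq_single j]
  · rw [Pi.single_eq_same, map_one, mul_one]
  · intro i _ hij
    rw [Pi.single_eq_of_ne hij, map_zero, mul_zero]
  · intro h; exact absurd (Finset.mem_univ j) h

theorem hs_nondeg [DecidableEq ι] (σ : F →+* F) (u : ι → F) (h : ∀ v, hs σ u v = 0) : u = 0 := by
  funext j
  have := h (Pi.single j 1)
  rwa [hs_single_right] at this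

theorem hs_eq_zero_symm (σ : F →+* F) (hσσ : ∀ x, σ (σ x) = x) {u v : ι → F} (h : hs σ u v = 0) :
    hs σ v u = 0 := by
  rw [hs_symm σ hσσ, h, map_zero]

/-- the form with the isometry `M` applied -/
theorem hs_mulVec_mem_span (σ : F →+* F) (W : Submodule F (ι → F)) (u : ι → F)
    {κ : Type*} [Fintype κ] (b : κ → ι → F) (hb : ∀ w ∈ W, ∃ c : κ → F, w = ∑ k, c k • b k)
    (h : ∀ k, hs σ u (b k) = 0) : ∀ w ∈ W, hs σ u w = 0 := by
  intro w hw
  obtain ⟨c, rfl⟩ := hb w hw
  rw [hs_sum_right]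
  apply Finset.sum_eq_zero
  intro k _
  rw [hs_smul_right, h k, mul_zero]

/-- the hyperbolic form on `F^(m ⊕ m)` -/
def hyp {m : ℕ} (σ : F →+* F) (x y : Fin m ⊕ Fin m → F) : F :=
  ∑ i, (x (Sum.inl i) * σ (y (Sum.inr i)) + x (Sum.inr i) * σ (y (Sum.inl i)))


/-- a hyperbolic frame of a pair of complementary totally singular subspaces of the same dimension -/
theorem exists_frame {n m : ℕ} (σ : F →+* F)
    (U W : Submodule F (Fin n → F)) (hc : IsCompl U W)
    (hU : ∀ u ∈ U, ∀ v ∈ U, hs σ u v = 0)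
    (hdU : Module.finrank F U = m) (hdW : Module.finrank F W = m) :
    ∃ (a : Fin m → Fin n → F) (b : Fin m → Fin n → F),
      (∀ i, a i ∈ U) ∧ (∀ j, b j ∈ W) ∧ (∀ i j, hs σ (a i) (b j) = if i = j then 1 else 0) := by
  classical
  let bW : Module.Basis (Fin m) F W := Module.finBasisOfFinrankEq F W hdW
  let Φ : U →ₗ[F] (Fin m → F) :=
    { toFun := fun u j => hs σ (u : Fin n → F) (bW j : Fin n → F)
      map_add' := by
        intro u u'
        funext j
        simp only [Submodule.coe_add, Pi.add_apply, hs_add_left]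
      map_smul' := by
        intro c u
        funext j
        simp only [Submodule.coe_smul, Pi.smul_apply, hs_smul_left, RingHom.id_apply, smul_eq_mul] }
  have hinj : Function.Injective Φ := by
    rw [← LinearMap.ker_eq_bot, LinearMap.ker_eq_bot']
    intro u hu
    have hj : ∀ j, hs σ (u : Fin n → F) (bW j : Fin n → F) = 0 := fun j => congrFun hu j
    have hw : ∀ w ∈ W, hs σ (u : Fin n → F) w = 0 := by
      intro w hw
      have hrepr := bW.sum_repr ⟨w, hw⟩
      have hw' : w = ∑ j, (bW.repr ⟨w, hw⟩ j) • (bW j : Fin n → F) := by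
        have := congrArg (fun x : W => (x : Fin n → F)) hrepr
        simp only [Submodule.coe_sum, Submodule.coe_smul] at this
        exact this.symm
      rw [hw', hs_sum_right]
      apply Finset.sum_eq_zero
      intro j _
      rw [hs_smul_right, hj j, mul_zero]
    have h0 : (u : Fin n → F) = 0 := by
      apply hs_nondeg σ
      intro v
      have hv : v ∈ U ⊔ W := by rw [hc.sup_eq_top]; exact Submodule.mem_top
      obtain ⟨u', hu', w', hw', rfl⟩ := Submodule.mem_sup.mp hv
      rw [hs_add_right, hU _ u.2 _ hu', hw _ hw', add_zero]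
    exact Subtype.ext h0
  have hfr : Module.finrank F U = Module.finrank F (Fin m → F) := by
    rw [hdU, Module.finrank_fintype_fun_eq_card, Fintype.card_fin]
  have hsurj : Function.Surjective Φ :=
    (LinearMap.injective_iff_surjective_of_finrank_eq_finrank hfr).mp hinj
  choose a ha using fun i : Fin m => hsurj (Pi.single i 1)
  refine ⟨fun i => (a i : Fin n → F), fun j => (bW j : Fin n → F), fun i => (a i).2, fun j => (bW j).2, ?_⟩
  intro i j
  have := congrFun (ha i) j
  simp only [Pi.single_apply] at this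
  show Φ (a i) j = _
  rw [this]
  by_cases hij : i = j
  · rw [if_pos hij, if_pos hij.symm]
  · rw [if_neg hij, if_neg (Ne.symm hij)]


theorem hyp_single_inl {m : ℕ} (σ : F →+* F) (x : Fin m ⊕ Fin m → F) (i : Fin m) :
    hyp σ x (Pi.single (Sum.inl i) 1) = x (Sum.inr i) := by
  classical
  simp only [hyp]
  rw [Finset.sum_eq_single i]
  · simp
  · intro k _ hk
    have h1 : (Sum.inl k : Fin m ⊕ Fin m) ≠ Sum.inl i := fun h => hk (Sum.inl.inj h)
    simp [Pi.single_eq_of_ne h1]
  · intro h; exact absurd (Finset.mem_univ i) h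

theorem hyp_single_inr {m : ℕ} (σ : F →+* F) (x : Fin m ⊕ Fin m → F) (i : Fin m) :
    hyp σ x (Pi.single (Sum.inr i) 1) = x (Sum.inl i) := by
  classical
  simp only [hyp]
  rw [Finset.sum_eq_single i]
  · simp
  · intro k _ hk
    have h1 : (Sum.inr k : Fin m ⊕ Fin m) ≠ Sum.inr i := fun h => hk (Sum.inr.inj h)
    simp [Pi.single_eq_of_ne h1]
  · intro h; exact absurd (Finset.mem_univ i) h

theorem hyp_nondeg {m : ℕ} (σ : F →+* F) (x : Fin m ⊕ Fin m → F) (h : ∀ y, hyp σ x y = 0) : x = 0 := by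
  funext s
  rcases s with i | i
  · have := h (Pi.single (Sum.inr i) 1)
    rwa [hyp_single_inr] at this
  · have := h (Pi.single (Sum.inl i) 1)
    rwa [hyp_single_inl] at this

/-- the matrix whose columns are the vectors `c s` -/
def colMat {n : ℕ} {κ : Type*} (c : κ → Fin n → F) : Matrix (Fin n) κ F := Matrix.of fun k s => c s k

theorem colMat_mulVec {n : ℕ} {κ : Type*} [Fintype κ] (c : κ → Fin n → F) (x : κ → F) :
    colMat c *ᵥ x = ∑ s, x s • c s := by
  funext k
  simp only [colMat, Matrix.mulVec, dotProduct, Matrix.of_apply, Finset.sum_apply, Pi.smul_apply,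
    smul_eq_mul]
  exact Finset.sum_congr rfl (fun s _ => mul_comm _ _)

theorem colMat_single {n : ℕ} {κ : Type*} [Fintype κ] [DecidableEq κ] (c : κ → Fin n → F) (s : κ) :
    colMat c *ᵥ Pi.single s 1 = c s := by
  rw [colMat_mulVec, Finset.sum_eq_single s]
  · rw [Pi.single_eq_same, one_smul]
  · intro t _ hts
    rw [Pi.single_eq_of_ne hts, zero_smul]
  · intro h; exact absurd (Finset.mem_univ s) h

/-- a hyperbolic frame gives an isometry from the hyperbolic model -/
theorem frame_isometry {n m : ℕ} (σ : F →+* F) (hσσ : ∀ x, σ (σ x) = x) (a b : Fin m → Fin n → F)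
    (haa : ∀ i j, hs σ (a i) (a j) = 0) (hbb : ∀ i j, hs σ (b i) (b j) = 0)
    (hab : ∀ i j, hs σ (a i) (b j) = if i = j then 1 else 0) (x y : Fin m ⊕ Fin m → F) :
    hs σ (colMat (Sum.elim a b) *ᵥ x) (colMat (Sum.elim a b) *ᵥ y) = hyp σ x y := by
  classical
  have hba : ∀ i j, hs σ (b i) (a j) = if i = j then 1 else 0 := by
    intro i j
    rw [hs_symm σ hσσ, hab j i]
    by_cases hij : i = j
    · rw [if_pos hij, if_pos hij.symm, map_one]
    · rw [if_neg hij, if_neg (Ne.symm hij), map_zero]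
  have hR : ∀ v : Fin n → F, hs σ v (colMat (Sum.elim a b) *ᵥ y) =
      ∑ t, σ (y t) * hs σ v (Sum.elim a b t) := by
    intro v
    rw [colMat_mulVec, hs_sum_right]
    exact Finset.sum_congr rfl (fun t _ => hs_smul_right σ _ _ _)
  have hL : ∀ v : Fin n → F, hs σ (colMat (Sum.elim a b) *ᵥ x) v =
      ∑ s, x s * hs σ (Sum.elim a b s) v := by
    intro v
    rw [colMat_mulVec, hs_sum_left]
    exact Finset.sum_congr rfl (fun t _ => hs_smul_left σ _ _ _)
  rw [hL]
  simp only [hR, Fintype.sum_sum_type, Sum.elim_inl, Sum.elim_inr, haa, hbb, hab, hba, mul_zero,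
    Finset.sum_const_zero, zero_add, add_zero, mul_ite, mul_one, Finset.sum_ite_eq, Finset.mem_univ,
    if_true]
  simp only [hyp]
  rw [← Finset.sum_add_distrib]


/-- the data of a hyperbolic coordinate system adapted to the pair `(U, W)` -/
structure Coord {n m : ℕ} (σ : F →+* F) (U W : Submodule F (Fin n → F))
    (P : Matrix (Fin n) (Fin m ⊕ Fin m) F) (P' : Matrix (Fin m ⊕ Fin m) (Fin n) F) : Prop where
  mul : P * P' = 1
  mul' : P' * P = 1
  iso : ∀ x y, hs σ (P *ᵥ x) (P *ᵥ y) = hyp σ x y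
  memU : ∀ v, v ∈ U ↔ ∀ j, (P' *ᵥ v) (Sum.inr j) = 0
  memW : ∀ v, v ∈ W ↔ ∀ i, (P' *ᵥ v) (Sum.inl i) = 0

theorem exists_coord {n m : ℕ} (hn : n = m + m) (σ : F →+* F) (hσσ : ∀ x, σ (σ x) = x)
    (U W : Submodule F (Fin n → F)) (hc : IsCompl U W)
    (hU : ∀ u ∈ U, ∀ v ∈ U, hs σ u v = 0) (hW : ∀ u ∈ W, ∀ v ∈ W, hs σ u v = 0)
    (hdU : Module.finrank F U = m) (hdW : Module.finrank F W = m) :
    ∃ (P : Matrix (Fin n) (Fin m ⊕ Fin m) F) (P' : Matrix (Fin m ⊕ Fin m) (Fin n) F),
      Coord σ U W P P' := by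
  classical
  obtain ⟨a, b, haU, hbW, hab⟩ := exists_frame σ U W hc hU hdU hdW
  have haa : ∀ i j, hs σ (a i) (a j) = 0 := fun i j => hU _ (haU i) _ (haU j)
  have hbb : ∀ i j, hs σ (b i) (b j) = 0 := fun i j => hW _ (hbW i) _ (hbW j)
  set P : Matrix (Fin n) (Fin m ⊕ Fin m) F := colMat (Sum.elim a b) with hP
  have hiso := frame_isometry σ hσσ a b haa hbb hab
  let β : (Fin m ⊕ Fin m → F) →ₗ[F] (Fin n → F) := Matrix.toLin' P
  have hβ : ∀ x, β x = P *ᵥ x := fun x => Matrix.toLin'_apply P x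
  have hinj : Function.Injective β := by
    rw [← LinearMap.ker_eq_bot, LinearMap.ker_eq_bot']
    intro x hx
    apply hyp_nondeg σ
    intro y
    rw [← hiso, ← hβ, hx, hs_zero_left]
  have hfr : Module.finrank F (Fin m ⊕ Fin m → F) = Module.finrank F (Fin n → F) := by
    rw [Module.finrank_fintype_fun_eq_card, Module.finrank_fintype_fun_eq_card, Fintype.card_sum,
      Fintype.card_fin, Fintype.card_fin, hn]
  let βe : (Fin m ⊕ Fin m → F) ≃ₗ[F] (Fin n → F) := LinearEquiv.ofInjectiveOfFinrankEq β hinj hfr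
  have hβe : ∀ x, βe x = P *ᵥ x := fun x => hβ x
  set P' : Matrix (Fin m ⊕ Fin m) (Fin n) F :=
    LinearMap.toMatrix' (βe.symm : (Fin n → F) →ₗ[F] (Fin m ⊕ Fin m → F)) with hP'
  have hP'v : ∀ v, P' *ᵥ v = βe.symm v := fun v => by
    rw [hP', LinearMap.toMatrix'_mulVec]; rfl
  have h1 : ∀ v, P *ᵥ (P' *ᵥ v) = v := by
    intro v
    rw [hP'v, ← hβe, LinearEquiv.apply_symm_apply]
  have h2 : ∀ x, P' *ᵥ (P *ᵥ x) = x := by
    intro x
    rw [hP'v, ← hβe, LinearEquiv.symm_apply_apply]
  have hmul : P * P' = 1 := by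
    rw [Matrix.ext_iff_mulVec]
    intro v
    rw [← Matrix.mulVec_mulVec, h1, Matrix.one_mulVec]
  have hmul' : P' * P = 1 := by
    rw [Matrix.ext_iff_mulVec]
    intro v
    rw [← Matrix.mulVec_mulVec, h2, Matrix.one_mulVec]
  have hPa : ∀ i, P *ᵥ Pi.single (Sum.inl i) 1 = a i := fun i => by
    rw [hP, colMat_single]; rfl
  have hPb : ∀ j, P *ᵥ Pi.single (Sum.inr j) 1 = b j := fun j => by
    rw [hP, colMat_single]; rfl
  have hcoordR : ∀ v j, (P' *ᵥ v) (Sum.inr j) = hs σ v (a j) := by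
    intro v j
    conv_rhs => rw [← h1 v, ← hPa j, hiso, hyp_single_inl]
  have hcoordL : ∀ v i, (P' *ᵥ v) (Sum.inl i) = hs σ v (b i) := by
    intro v i
    conv_rhs => rw [← h1 v, ← hPb i, hiso, hyp_single_inr]
  have hexp : ∀ v, v = ∑ i, (P' *ᵥ v) (Sum.inl i) • a i + ∑ j, (P' *ᵥ v) (Sum.inr j) • b j := by
    intro v
    conv_lhs => rw [← h1 v, hP, colMat_mulVec, Fintype.sum_sum_type]
    rfl
  refine ⟨P, P', hmul, hmul', hiso, fun v => ⟨fun hv j => ?_, fun hv => ?_⟩,
    fun v => ⟨fun hv i => ?_, fun hv => ?_⟩⟩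
  · rw [hcoordR]
    exact hU _ hv _ (haU j)
  · rw [hexp v]
    simp only [hv, zero_smul, Finset.sum_const_zero, add_zero]
    exact Submodule.sum_mem _ (fun i _ => Submodule.smul_mem _ _ (haU i))
  · rw [hcoordL]
    exact hW _ hv _ (hbW i)
  · rw [hexp v]
    simp only [hv, zero_smul, Finset.sum_const_zero, zero_add]
    exact Submodule.sum_mem _ (fun i _ => Submodule.smul_mem _ _ (hbW i))

end Cfsg.Agent.Lib.helper14.UPolA
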