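import Mathlib
import Cfsg.Agent.Lib.helper15.St2
import Cfsg.Agent.Lib.helper7.StA
import Cfsg.Agent.Lib.helper7.StC
import Cfsg.Agent.Lib.Helper24.STCI1
import Cfsg.Agent.Lib.helper23.STCX2
import Cfsg.Agent.Lib.Helper27.STU.Defs
import Cfsg.Agent.Lib.Helper27.STU.Defs2

/-! Project STU (designer helper27; S2291), rows LA3 (`Lam.eq_one_of_c Lam.star_c_ne`) and LA4 (`Lam.mu_c_ne Lam.mu_act Lam.nu_act`), helper14, VERBATIM. -/

set_option autoImplicit false

namespace Cfsg.Agent.Lib.Helper27.STU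

open Cfsg.Agent.Lib.helper15.St2 Cfsg.Agent.Lib.helper7.St Cfsg.Agent.Lib.helper3.STC

namespace Lam

variable {F : Type*} [Field F] [StarRing F] {od : Prop}

/-- Λ3 [S]  anisotropy -/
theorem eq_one_of_c (ξ : Lam F od) (hc : ξ.c = 0) : ξ = 1 := by
  have h1 := ξ.h
  rw [hc, star_zero, add_zero, zero_add] at h1
  have hv : ξ.v = 0 := by
    rcases mul_eq_zero.1 h1 with h | h
    · exact h
    · exact star_eq_zero.1 h
  exact Lam.ext hv hc

theorem star_c_ne {ξ : Lam F od} (hc : ξ.c ≠ 0) : star ξ.c ≠ 0 := by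
  intro h
  exact hc (star_eq_zero.1 h)

/-- Λ4 [S-M] -/
theorem mu_c_ne {ξ : Lam F od} (hc : ξ.c ≠ 0) : (mu ξ).c ≠ 0 := by
  rw [mu_c]
  exact inv_ne_zero (star_c_ne hc)

theorem mu_act (s : F) (hs : s ≠ 0) (ξ : Lam F od) : mu (act s ξ) = act (star s)⁻¹ (mu ξ) := by
  have hs' : star s ≠ 0 := fun h => hs (star_eq_zero.1 h)
  by_cases hc : ξ.c = 0
  · have h1 : ξ = 1 := eq_one_of_c ξ hc
    subst h1
    apply Lam.ext
    · simp
    · simp
  · have hc' : star ξ.c ≠ 0 := star_c_ne hc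
    apply Lam.ext
    · simp only [mu_v, act_v, act_c, star_inv₀, star_star]
      field_simp
    · simp only [mu_c, act_c, star_mul', star_star, star_inv₀]
      field_simp

theorem nu_act (s : F) (hs : s ≠ 0) (ξ : Lam F od) : nu (act s ξ) = act s (nu ξ) := by
  have hs' : star s ≠ 0 := fun h => hs (star_eq_zero.1 h)
  by_cases hc : ξ.c = 0
  · have h1 : ξ = 1 := eq_one_of_c ξ hc
    subst h1
    apply Lam.ext
    · simp
    · simp
  · have hc' : star ξ.c ≠ 0 := star_c_ne hc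
    apply Lam.ext
    · simp only [nu_v, act_v, act_c, star_mul', star_star]
      field_simp
    · simp only [nu_c, act_c]

end Lam

end Cfsg.Agent.Lib.Helper27.STU
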