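import Mathlib
import Cfsg.Agent.Lib.Lead.B3P.Defs
import Cfsg.Agent.Lib.helper2.CharNat
import Cfsg.Agent.Lib.helper2.PModular2
import Cfsg.Agent.S0139

/-!
# Project B3P (S4427), piece VFOUR: Fourier inversion over the `m`-th roots of unity
-/

set_option autoImplicit false
set_option linter.unusedVariables false
set_option linter.unusedSectionVars false
set_option linter.style.haveILetI false
open scoped ComplexConjugate
open Classical

namespace Cfsg.Agent.Lib.Lead.B3P

open Cfsg.Agent.Lib.helper7 Cfsg.Agent.Lib.helper7.Br Polynomial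

/-- the geometric sum of the `e`-th powers of the `m`-th roots of unity -/
theorem b3pvfour_geom {O : Type*} [CommRing O] [IsDomain O] (m : ℕ) (ζ : O)
    (hζ : IsPrimitiveRoot ζ m) (e : ℕ) :
    ∑ j ∈ Finset.range m, (ζ ^ j) ^ e = if m ∣ e then (m : O) else 0 := by
  have h1 : ∀ j, (ζ ^ j) ^ e = (ζ ^ e) ^ j := fun j => by rw [← pow_mul, ← pow_mul, mul_comm]
  simp_rw [h1]
  split_ifs with hd
  · rw [(hζ.pow_eq_one_iff_dvd e).mpr hd]
    simp
  · have hne : ζ ^ e ≠ 1 := fun h => hd ((hζ.pow_eq_one_iff_dvd e).mp h)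
    have := geom_sum_mul (ζ ^ e) m
    rw [← pow_mul, mul_comm e m, pow_mul, hζ.pow_eq_one, one_pow, sub_self] at this
    rcases mul_eq_zero.mp this with h | h
    · exact h
    · exact absurd (sub_eq_zero.mp h) hne

variable {G : Type*} [Group G]

/-- piece VFOUR : Fourier inversion over the `m`-th roots of unity -/
theorem fourier_extract {O : Type*} [CommRing O] [IsDomain O] [CharZero O] (P m : ℕ) (hP : 1 < P)
    (hm : 0 < m) (hcop : P.Coprime m) (ζ : O) (hζ : IsPrimitiveRoot ζ m) (c : ℕ → O)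
    (h : ∀ j : ℕ, j < m →
      ∑ k ∈ (Finset.range (P * m)).filter (fun k => k % P = 1), c k * (ζ ^ j) ^ k = 0) :
    c 1 = 0 := by
  set S := (Finset.range (P * m)).filter (fun k => k % P = 1) with hS
  have h0 : ∑ j ∈ Finset.range m, (ζ ^ j) ^ (m - 1) * ∑ k ∈ S, c k * (ζ ^ j) ^ k = 0 := by
    apply Finset.sum_eq_zero
    intro j hj
    rw [h j (Finset.mem_range.mp hj), mul_zero]
  have h1 : ∑ j ∈ Finset.range m, (ζ ^ j) ^ (m - 1) * ∑ k ∈ S, c k * (ζ ^ j) ^ k
      = ∑ k ∈ S, c k * ∑ j ∈ Finset.range m, (ζ ^ j) ^ (k + (m - 1)) := by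
    simp_rw [Finset.mul_sum]
    rw [Finset.sum_comm]
    apply Finset.sum_congr rfl
    intro k _
    apply Finset.sum_congr rfl
    intro j _
    rw [pow_add]
    ring
  rw [h1] at h0
  simp_rw [b3pvfour_geom m ζ hζ] at h0
  have h2 : ∀ k ∈ S, (m ∣ k + (m - 1)) ↔ k = 1 := by
    intro k hk
    rw [hS, Finset.mem_filter, Finset.mem_range] at hk
    obtain ⟨hk1, hk2⟩ := hk
    constructor
    · intro hd
      have hk0 : 1 ≤ k := by
        rcases Nat.eq_zero_or_pos k with h0 | h0
        · rw [h0, Nat.zero_mod] at hk2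
          omega
        · exact h0
      have hd1 : m ∣ k - 1 := by
        have : k + (m - 1) = (k - 1) + m := by omega
        rw [this] at hd
        exact (Nat.dvd_add_left (dvd_refl m)).mp hd
      have hd2 : P ∣ k - 1 := (Nat.modEq_iff_dvd' hk0).mp (by
        show 1 % P = k % P
        rw [hk2, Nat.mod_eq_of_lt hP])
      have hd3 : P * m ∣ k - 1 := hcop.mul_dvd_of_dvd_of_dvd hd2 hd1
      have : k - 1 = 0 := Nat.eq_zero_of_dvd_of_lt hd3 (by omega)
      omega
    · rintro rfl
      have : 1 + (m - 1) = m := by omega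
      rw [this]
  have h3 : ∑ k ∈ S, c k * (if m ∣ k + (m - 1) then (m : O) else 0)
      = ∑ k ∈ S, if k = 1 then c 1 * (m : O) else 0 := by
    apply Finset.sum_congr rfl
    intro k hk
    by_cases hk1 : k = 1
    · rw [if_pos ((h2 k hk).mpr hk1), if_pos hk1, hk1]
    · rw [if_neg (fun hd => hk1 ((h2 k hk).mp hd)), if_neg hk1, mul_zero]
  rw [h3, Finset.sum_ite_eq'] at h0
  have h1S : 1 ∈ S := by
    rw [hS, Finset.mem_filter, Finset.mem_range]
    refine ⟨?_, Nat.mod_eq_of_lt hP⟩
    calc 1 < P := hP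
      _ = P * 1 := (mul_one P).symm
      _ ≤ P * m := Nat.mul_le_mul_left P hm
  rw [if_pos h1S] at h0
  rcases mul_eq_zero.mp h0 with h | h
  · exact h
  · exfalso
    have : (m : O) ≠ 0 := Nat.cast_ne_zero.mpr hm.ne'
    exact this h

end Cfsg.Agent.Lib.Lead.B3P
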