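import Mathlib
import Cfsg.Agent.Lib.Lead.B3P.Defs
import Cfsg.Agent.Lib.helper2.CharNat
import Cfsg.Agent.Lib.helper2.PModular2
import Cfsg.Agent.S0139

/-!
# Project B3P (S4427), piece VIND: the induced monomial representation
-/

set_option autoImplicit false
set_option linter.unusedVariables false
set_option linter.unusedSectionVars false
set_option linter.style.haveILetI false
open scoped ComplexConjugate
open Classical

namespace Cfsg.Agent.Lib.Lead.B3P

open Cfsg.Agent.Lib.helper7 Cfsg.Agent.Lib.helper7.Br Polynomial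

variable {G : Type*} [Group G]

/-- `(ρ, h) ↦ s h ρ̂⁻¹` is a bijection from `(G ⧸ H) × H` to `G` -/
theorem b3pvind_bij (H : Subgroup G) (s : G) :
    Function.Bijective (fun q : (G ⧸ H) × H => s * (q.2 : G) * q.1.out⁻¹) := by
  constructor
  · rintro ⟨ρ, h⟩ ⟨ρ', h'⟩ heq
    simp only at heq
    have h0 : (h : G) * ρ.out⁻¹ = (h' : G) * ρ'.out⁻¹ := by
      rw [mul_assoc, mul_assoc] at heq
      exact mul_left_cancel heq
    have h1 : ρ.out * (h : G)⁻¹ = ρ'.out * (h' : G)⁻¹ := by
      have := congrArg Inv.inv h0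
      rwa [mul_inv_rev, mul_inv_rev, inv_inv, inv_inv] at this
    have e1 : ∀ (r : G ⧸ H) (k : H), ((r.out * (k : G)⁻¹ : G) : G ⧸ H) = r := by
      intro r k
      rw [QuotientGroup.mk_mul_of_mem _ (H.inv_mem k.2), QuotientGroup.out_eq']
    have h2 : ρ = ρ' := by
      rw [← e1 ρ h, ← e1 ρ' h', h1]
    subst h2
    have h3 : (h : G) = (h' : G) := by
      have := mul_left_cancel h1
      exact inv_injective this
    rw [Subtype.ext h3]
  · intro g
    obtain ⟨h0, hh0⟩ := QuotientGroup.mk_out_eq_mul H (g⁻¹ * s)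
    refine ⟨(((g⁻¹ * s : G) : G ⧸ H), h0), ?_⟩
    show s * (h0 : G) * ((g⁻¹ * s : G) : G ⧸ H).out⁻¹ = g
    rw [hh0]
    group

/-- piece VIND : the induced monomial representation is multiplicative -/
theorem indMat_mul {O B : Type*} [CommRing O] [CommRing B] [Algebra O B] [Fintype G]
    (H : Subgroup G) [Fintype H] (φ : H →* B) (x y : GA O G) :
    indMat H φ (x * y) = indMat H φ x * indMat H φ y := by
  ext σ τ
  rw [Matrix.mul_apply, indMat_apply]
  simp_rw [indMat_apply, GA.mul_apply, map_sum, map_mul]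
  -- reindex the inner sum over `G` by `(ρ, h)`
  have hre : ∀ l : H, ∑ g : G, algebraMap O B (x g) * algebraMap O B (y (g⁻¹ * (σ.out * (l : G) * τ.out⁻¹)))
      = ∑ ρ : G ⧸ H, ∑ h : H, algebraMap O B (x (σ.out * (h : G) * ρ.out⁻¹)) *
          algebraMap O B (y (ρ.out * ((h⁻¹ * l : H) : G) * τ.out⁻¹)) := by
    intro l
    rw [← Fintype.sum_prod_type']
    symm
    refine Fintype.sum_bijective _ (b3pvind_bij H σ.out) _ _ ?_
    rintro ⟨ρ, h⟩
    show _ = algebraMap O B (x (σ.out * (h : G) * ρ.out⁻¹)) *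
      algebraMap O B (y ((σ.out * (h : G) * ρ.out⁻¹)⁻¹ * (σ.out * (l : G) * τ.out⁻¹)))
    congr 3
    rw [Subgroup.coe_mul, Subgroup.coe_inv]
    group
  simp_rw [hre, Finset.sum_mul]
  rw [Finset.sum_comm]
  apply Finset.sum_congr rfl
  intro ρ _
  rw [Finset.sum_comm]
  apply Finset.sum_congr rfl
  intro h _
  rw [Finset.mul_sum, ← Equiv.sum_comp (Equiv.mulLeft h)]
  apply Finset.sum_congr rfl
  intro k _
  rw [Equiv.coe_mulLeft, inv_mul_cancel_left, map_mul]
  ring

/-- piece VIND -/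
theorem indMat_trace {O B : Type*} [CommRing O] [CommRing B] [Algebra O B] [Fintype G]
    (H : Subgroup G) [Fintype H] (φ : H →* B) (x : GA O G) :
    (indMat H φ x).trace =
      ∑ h : H, algebraMap O B (∑ σ : G ⧸ H, x (σ.out * (h : G) * σ.out⁻¹)) * φ h := by
  rw [Matrix.trace]
  simp_rw [Matrix.diag_apply, indMat_apply, map_sum, Finset.sum_mul]
  rw [Finset.sum_comm]

end Cfsg.Agent.Lib.Lead.B3P
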