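import Mathlib
import Cfsg.Agent.Lib.Lead.B3P.Defs
import Cfsg.Agent.Lib.helper2.CharNat
import Cfsg.Agent.Lib.helper2.PModular2
import Cfsg.Agent.S0139
import Cfsg.Agent.Lib.Helper11.B3PVLOC
import Cfsg.Agent.Lib.Helper21.B3PVPHI
import Cfsg.Agent.Lib.helper23.B3PVKL
import Cfsg.Agent.Lib.helper23.B3PVSUM
import Cfsg.Agent.Lib.helper14.B3PVFOUR
import Cfsg.Agent.Lib.helper14.B3PVIND

/-!
# Project B3P (S4427), piece VMAIN: the class sums of the coefficients of an idempotent vanish on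
`p`-singular classes
-/

set_option autoImplicit false
set_option linter.unusedVariables false
set_option linter.unusedSectionVars false
set_option linter.style.haveILetI false
open scoped ComplexConjugate
open Classical

namespace Cfsg.Agent.Lib.Lead.B3P

open Cfsg.Agent.Lib.helper7 Cfsg.Agent.Lib.helper7.Br Polynomial

/-- the `p`-part and the `p'`-part of a number divisible by `p` -/
theorem b3pvmain_arith (p n : ℕ) (hp : p.Prime) (hn0 : n ≠ 0) (hy : p ∣ n) :
    ∃ s m : ℕ, 1 < p ^ s ∧ 0 < m ∧ n = p ^ s * m ∧ (p ^ s).Coprime m := by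
  refine ⟨n.factorization p, n / p ^ n.factorization p, ?_, ?_, ?_, ?_⟩
  · exact Nat.one_lt_pow (hp.factorization_pos_of_dvd hn0 hy).ne' hp.one_lt
  · exact Nat.pos_of_ne_zero (Nat.div_ne_zero_iff_of_dvd (Nat.ordProj_dvd n p) |>.mpr
      ⟨hn0, (pow_pos hp.pos _).ne'⟩)
  · exact (Nat.ordProj_mul_ordCompl_eq_self n p).symm
  · exact (Nat.coprime_ordCompl hp hn0).pow_left _

variable {G : Type*} [Group G]

/-- a sum over the cyclic group `⟨y⟩` as a sum over the exponents -/
theorem b3pvmain_sum_zpowers [Finite G] {M : Type*} [AddCommMonoid M] (y : G)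
    [Fintype (Subgroup.zpowers y)] (g : Subgroup.zpowers y → M) :
    ∑ h : Subgroup.zpowers y, g h =
      ∑ k ∈ Finset.range (orderOf y), g ⟨y ^ k, Subgroup.npow_mem_zpowers y k⟩ := by
  rw [← Fin.sum_univ_eq_sum_range (fun k => g ⟨y ^ k, Subgroup.npow_mem_zpowers y k⟩)]
  symm
  apply Fintype.sum_equiv (finEquivZPowers (isOfFinOrder_of_finite y))
  intro i
  rfl

/-- piece VMAIN : the class sums of the coefficients of an idempotent vanish on `p`-singular classes -/
theorem vanish_core {O : Type*} [CommRing O] [IsDomain O] [IsLocalRing O] [CharZero O] (p : ℕ)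
    [Fact p.Prime] (hp : ((p : ℕ) : O) ∈ IsLocalRing.maximalIdeal O)
    (hroots : ∀ m : ℕ, 0 < m → ∃ ζ : O, IsPrimitiveRoot ζ m)
    [Fintype G] (f : GA O G) (hf : f * f = f) (y : G) (hy : p ∣ orderOf y) :
    ∑ z : G, f (z⁻¹ * y * z) = 0 := by
  have hpP : p.Prime := Fact.out
  obtain ⟨s, m, hP1, hm0, hnPm, hcop⟩ :=
    b3pvmain_arith p (orderOf y) hpP (orderOf_pos y).ne' hy
  obtain ⟨ζ, hζ⟩ := hroots m hm0
  haveI : Fintype (Subgroup.zpowers y) := Fintype.ofFinite _
  haveI : IsLocalRing (MonoidAlgebra O (Multiplicative (ZMod (p ^ s)))) :=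
    isLocalRing_monoidAlgebra_zmod p s hp
  have hone : ((1 : ℕ) : ZMod (p ^ s)) ≠ 0 := by
    rw [Ne, ZMod.natCast_eq_zero_iff]
    intro hd
    have := Nat.le_of_dvd one_pos hd
    omega
  -- the coefficients
  have key : ∀ j : ℕ, j < m →
      ∑ k ∈ (Finset.range (p ^ s * m)).filter (fun k => k % p ^ s = 1),
        (∑ σ : G ⧸ Subgroup.zpowers y, f (σ.out * y ^ k * σ.out⁻¹)) * (ζ ^ j) ^ k = 0 := by
    intro j hj
    have h1 : (ζ ^ j) ^ m = 1 := by rw [← pow_mul, mul_comm, pow_mul, hζ.pow_eq_one, one_pow]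
    obtain ⟨φ, hφ⟩ := exists_phi_zeta p s m y hnPm (Nat.mul_pos (by omega) hm0) (ζ ^ j) h1
    have hF : indMat (Subgroup.zpowers y) φ f * indMat (Subgroup.zpowers y) φ f
        = indMat (Subgroup.zpowers y) φ f := by rw [← indMat_mul, hf]
    obtain ⟨r, hr⟩ := trace_idem_matrix (indMat (Subgroup.zpowers y) φ f) hF
    rw [indMat_trace, b3pvmain_sum_zpowers] at hr
    have hr' := congrArg
      (fun b => b.coeff (Multiplicative.ofAdd (((1 : ℕ) : ZMod (p ^ s))))) hr
    simp only at hr'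
    rw [MonoidAlgebra.coeff_sum, Finsupp.finsetSum_apply, MonoidAlgebra.coeff_natCast,
      Finsupp.single_apply, if_neg (by
        intro h0
        apply hone
        have := congrArg Multiplicative.toAdd h0
        simpa using this.symm)] at hr'
    rw [Finset.sum_filter, ← hnPm]
    refine Eq.trans (Finset.sum_congr rfl ?_) hr'
    intro k _
    rw [hφ k, ← Algebra.smul_def, MonoidAlgebra.smul_single, MonoidAlgebra.coeff_single,
      Finsupp.single_apply, smul_eq_mul]
    have hiff : (Multiplicative.ofAdd ((k : ℕ) : ZMod (p ^ s))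
        = Multiplicative.ofAdd (((1 : ℕ) : ZMod (p ^ s)))) ↔ k % p ^ s = 1 := by
      rw [Multiplicative.ofAdd.apply_eq_iff_eq, ZMod.natCast_eq_natCast_iff',
        Nat.mod_eq_of_lt hP1]
    by_cases hk : k % p ^ s = 1
    · rw [if_pos hk, if_pos (hiff.mpr hk)]
    · rw [if_neg hk, if_neg (fun h => hk (hiff.mp h))]
  have hc1 := fourier_extract (p ^ s) m hP1 hm0 hcop ζ hζ
    (fun k => ∑ σ : G ⧸ Subgroup.zpowers y, f (σ.out * y ^ k * σ.out⁻¹)) key
  simp only [pow_one] at hc1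
  have hab : ∀ a b : Subgroup.zpowers y, a * b = b * a := by
    intro a b
    obtain ⟨a, ha⟩ := a
    obtain ⟨b, hb⟩ := b
    obtain ⟨i, rfl⟩ := Subgroup.mem_zpowers_iff.mp ha
    obtain ⟨j, rfl⟩ := Subgroup.mem_zpowers_iff.mp hb
    apply Subtype.ext
    show y ^ i * y ^ j = y ^ j * y ^ i
    rw [← zpow_add, ← zpow_add, add_comm]
  have hsum := sum_conj_eq_card_mul (Subgroup.zpowers y) hab f ⟨y, Subgroup.mem_zpowers y⟩
  simp only at hsum
  rw [hc1, mul_zero] at hsum
  rw [← hsum]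
  apply Fintype.sum_equiv (Equiv.inv G)
  intro z
  rw [Equiv.inv_apply, inv_inv]

end Cfsg.Agent.Lib.Lead.B3P
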