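import Mathlib
import Cfsg.Agent.Lib.Helper21.BSQ.Defs

/-!
# BSQ row K2 (conj_of_coprime): core with the cited rows A2 A3 A4 A8 K1 as hypotheses.
-/

set_option autoImplicit false

namespace Cfsg.Agent.Lib.Helper21.BSQ

universe u

variable {G : Type u} [Group G]

theorem bsqk2_normal_map_conj (N : Subgroup G) [hN : N.Normal] (g : G) :
    N = N.map (MulAut.conj g).toMonoidHom := by
  ext x
  constructor
  · intro hx
    refine ⟨g⁻¹ * x * g, ?_, ?_⟩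
    · have := hN.conj_mem x hx g⁻¹
      simpa using this
    · simp [MulAut.conj_apply, mul_assoc]
  · rintro ⟨y, hy, rfl⟩
    have := hN.conj_mem y hy g
    simpa [MulAut.conj_apply] using this

theorem bsqk2_core [Finite G] (hB : IsBStar G) (N : Subgroup G) [N.Normal]
    (hA2 : ∀ (A' B' : Subgroup (G ⧸ N)) (g : G),
      B'.comap (QuotientGroup.mk' N) =
        (A'.comap (QuotientGroup.mk' N)).map (MulAut.conj g).toMonoidHom →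
      B' = A'.map (MulAut.conj (QuotientGroup.mk' N g)).toMonoidHom)
    (hA3 : ∀ (A' : Subgroup (G ⧸ N)), IsMulCommutative ↥A' →
      N ≤ A'.comap (QuotientGroup.mk' N) ∧
      Nat.card ↥(A'.comap (QuotientGroup.mk' N)) = Nat.card ↥N * Nat.card ↥A' ∧
      ∀ x ∈ A'.comap (QuotientGroup.mk' N), ∀ y ∈ A'.comap (QuotientGroup.mk' N),
        x * y * x⁻¹ * y⁻¹ ∈ N)
    (hA4 : ∀ (A S : Subgroup G), S ≤ A → (∀ a ∈ A, ∀ s ∈ S, a * s * a⁻¹ ∈ S) →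
      ∀ {m : ℕ}, Nat.card ↥A = Nat.card ↥S * m → (Nat.card ↥S).Coprime m →
      ∃ H : Subgroup G, H ≤ A ∧ H ⊓ S = ⊥ ∧ Nat.card ↥H = m ∧
        ∀ a ∈ A, ∃ s ∈ S, ∃ h ∈ H, a = s * h)
    (hA8 : ∀ (A B S H S' H' : Subgroup G), S ≤ A → H ≤ A →
      (∀ a ∈ A, ∃ s ∈ S, ∃ h ∈ H, a = s * h) → S' ≤ B → H' ≤ B →
      (∀ b ∈ B, ∃ s ∈ S', ∃ h ∈ H', b = s * h) → ∀ (g : G),
      S' = S.map (MulAut.conj g).toMonoidHom → H' = H.map (MulAut.conj g).toMonoidHom →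
      B = A.map (MulAut.conj g).toMonoidHom)
    (hK1 : ∀ (N H A : Subgroup G), H ≤ A → (∀ x ∈ A, ∀ y ∈ A, x * y * x⁻¹ * y⁻¹ ∈ N) →
      H ⊓ N = ⊥ → IsMulCommutative ↥H)
    (A' B' : Subgroup (G ⧸ N)) (hA' : IsMulCommutative ↥A') (hB' : IsMulCommutative ↥B')
    (hc : Nat.card ↥A' = Nat.card ↥B') (hcop : (Nat.card ↥N).Coprime (Nat.card ↥A')) :
    ∃ g : G ⧸ N, B' = A'.map (MulAut.conj g).toMonoidHom := by
  obtain ⟨hNA, hcA, hcomA⟩ := hA3 A' hA'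
  obtain ⟨hNB, hcB, hcomB⟩ := hA3 B' hB'
  have hnorm : ∀ (A : Subgroup G), ∀ a ∈ A, ∀ s ∈ N, a * s * a⁻¹ ∈ N :=
    fun A a _ s hs => Subgroup.Normal.conj_mem inferInstance s hs a
  obtain ⟨H, hHA, hHN, hHc, hAeq⟩ := hA4 _ N hNA (hnorm _) hcA hcop
  obtain ⟨H', hHB, hHN', hHc', hBeq⟩ := hA4 _ N hNB (hnorm _) hcB (hc ▸ hcop)
  have hHcomm : IsMulCommutative ↥H := hK1 N H _ hHA hcomA hHN
  have hHcomm' : IsMulCommutative ↥H' := hK1 N H' _ hHB hcomB hHN'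
  obtain ⟨g, hg⟩ := hB H H' hHcomm hHcomm' (by rw [hHc, hHc', hc])
  refine ⟨QuotientGroup.mk' N g, ?_⟩
  apply hA2
  exact hA8 _ _ N H N H' hNA hHA hAeq hNB hHB hBeq g (bsqk2_normal_map_conj N g) hg

end Cfsg.Agent.Lib.Helper21.BSQ
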