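import Mathlib
import Cfsg.Agent.Lib.helper3.SPM.Defs
import Cfsg.Agent.Lib.helper3.SPM.Defs2

/-! Project SPM (designer helper3; S2292/S2296), rows I1 (`xr_diag`) and
I2 (`xr_add xr_zero xr_neg`), by helper14.  Direct from the definition of `xr` (no `Glue` needed). -/

set_option autoImplicit false

namespace Cfsg.Agent.Lib.helper3.SPM

open Cfsg.Agent.Lib.helper3.STC Cfsg.Agent.Lib.helper3.STC.Mat Cfsg.Agent.Lib.helper17.SLP

universe u v w v'

/-- `tm_add` without the hypothesis `a ≠ b`. -/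
theorem spmi1_tm_add {F : Type u} [Field F] {ι : Type w} [Fintype ι] [DecidableEq ι] (a b : ι ⊕ ι) (t u : F) :
    (tm a b t : Matrix.symplecticGroup ι F) * tm a b u = tm a b (t + u) := by
  by_cases hab : a = b
  · subst hab; rw [tm_self, tm_self, tm_self, mul_one]
  · exact tm_add hab t u

theorem spmi1_tm_zero {F : Type u} [Field F] {ι : Type w} [Fintype ι] [DecidableEq ι] (a b : ι ⊕ ι) :
    (tm a b (0 : F) : Matrix.symplecticGroup ι F) = 1 := by
  have h := spmi1_tm_add a b (0 : F) 0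
  rw [add_zero] at h
  exact mul_left_cancel (a := tm a b (0 : F)) (by rw [h, mul_one])

section main
variable {F : Type u} [Field F] {ι : Type w} [Fintype ι] [DecidableEq ι] {G : Type v} [Group G]
  (p : Pts ι) (ν : Equiv.Perm ι →* G) (lam : Sp4 F →* G)

/-- I1 [S] -/
theorem xr_diag (a : ι ⊕ ι) (t : F) : xr p ν lam a a t = 1 := by
  unfold xr; rw [if_pos rfl]

/-- additivity of `xr` without hypotheses. -/
theorem spmi1_xr_add (a b : ι ⊕ ι) (t u : F) :
    xr p ν lam a b t * xr p ν lam a b u = xr p ν lam a b (t + u) := by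
  unfold xr
  split_ifs with h1 h2
  · rw [mul_one]
  · rw [← map_mul, spmi1_tm_add]
  · rw [← map_mul, spmi1_tm_add]

theorem spmi1_xr_zero (a b : ι ⊕ ι) : xr p ν lam a b (0 : F) = 1 := by
  have h := spmi1_xr_add p ν lam a b (0 : F) 0
  rw [add_zero] at h
  exact mul_left_cancel (a := xr p ν lam a b (0 : F)) (by rw [h, mul_one])

theorem spmi1_xr_neg (a b : ι ⊕ ι) (t : F) : xr p ν lam a b (-t) = (xr p ν lam a b t)⁻¹ := by
  rw [eq_inv_iff_mul_eq_one, spmi1_xr_add, neg_add_cancel, spmi1_xr_zero]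

/-- I2 [S-M]  `(matSys (Fin 2) F).add` = `tm_add`. -/
theorem xr_add (H : Glue p ν lam) (hS : SpFacts F) {a b : ι ⊕ ι} (hab : a ≠ b) (t u : F) :
    xr p ν lam a b t * xr p ν lam a b u = xr p ν lam a b (t + u) :=
  spmi1_xr_add p ν lam a b t u

theorem xr_zero (H : Glue p ν lam) (hS : SpFacts F) (a b : ι ⊕ ι) : xr p ν lam a b (0 : F) = 1 :=
  spmi1_xr_zero p ν lam a b

theorem xr_neg (H : Glue p ν lam) (hS : SpFacts F) (a b : ι ⊕ ι) (t : F) : xr p ν lam a b (-t) = (xr p ν lam a b t)⁻¹ :=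
  spmi1_xr_neg p ν lam a b t

end main

end Cfsg.Agent.Lib.helper3.SPM
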