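import Mathlib
import Cfsg.Agent.Lib.helper3.SPM.Defs
import Cfsg.Agent.Lib.helper3.SPM.Defs2

/-! Project SPM (designer helper3; S2292/S2296), rows E1 (`lamC_apply lamC_one lamC_mul`) and
E2 (`stab01_full`), by helper14. -/

set_option autoImplicit false

namespace Cfsg.Agent.Lib.helper3.SPM

open Cfsg.Agent.Lib.helper3.STC Cfsg.Agent.Lib.helper3.STC.Mat Cfsg.Agent.Lib.helper17.SLP

universe u v w v'

section main
variable {F : Type u} [Field F] {ι : Type w} [Fintype ι] [DecidableEq ι] {G : Type v} [Group G]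
  (p : Pts ι) (ν : Equiv.Perm ι →* G) (lam : Sp4 F →* G)

/-- E1 -/
theorem lamC_apply (σ : Equiv.Perm ι) (g : Sp4 F) : lamC ν lam σ g = ν σ * lam g * (ν σ)⁻¹ := by
  rfl

theorem lamC_one (g : Sp4 F) : lamC ν lam 1 g = lam g := by
  rw [lamC_apply, map_one, one_mul, inv_one, mul_one]

theorem lamC_mul (σ τ : Equiv.Perm ι) (g : Sp4 F) : lamC ν lam (σ * τ) g = ν σ * lamC ν lam τ g * (ν σ)⁻¹ := by
  rw [lamC_apply, lamC_apply, map_mul, mul_inv_rev]
  group

/-- E2 -/
theorem stab01_full (H : Glue p ν lam) (hS : SpFacts F) {σ : Equiv.Perm ι} (h0 : σ p.o0 = p.o0) (h1 : σ p.o1 = p.o1) (g : Sp4 F) :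
    ν σ * lam g * (ν σ)⁻¹ = lam g := by
  have hg : g ∈ Subgroup.closure ({uA F, swS} ∪ (B1 F : Set (Sp4 F))) := by
    rw [hS.gen4]; exact Subgroup.mem_top g
  have hsw : σ * Equiv.swap p.o0 p.o1 * σ⁻¹ = Equiv.swap p.o0 p.o1 := by
    have := Equiv.swap_apply_apply σ p.o0 p.o1
    rw [h0, h1] at this
    exact this.symm
  induction hg using Subgroup.closure_induction with
  | mem x hx =>
    rcases hx with hx | hx
    · rcases hx with rfl | hx
      · exact H.stab01 σ h0 h1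
      · rw [Set.mem_singleton_iff] at hx
        subst hx
        rw [← H.sw, ← map_inv, ← map_mul, ← map_mul, hsw]
    · exact H.stab1 σ h1 x hx
  | one => rw [map_one, mul_one, mul_inv_cancel]
  | mul x y _ _ hx hy =>
    rw [map_mul]
    calc ν σ * (lam x * lam y) * (ν σ)⁻¹ = (ν σ * lam x * (ν σ)⁻¹) * (ν σ * lam y * (ν σ)⁻¹) := by group
      _ = lam x * lam y := by rw [hx, hy]
  | inv x _ hx =>
    rw [map_inv]
    calc ν σ * (lam x)⁻¹ * (ν σ)⁻¹ = (ν σ * lam x * (ν σ)⁻¹)⁻¹ := by group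
      _ = (lam x)⁻¹ := by rw [hx]

end main

end Cfsg.Agent.Lib.helper3.SPM
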