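import Mathlib
import Cfsg.Agent.Lib.helper3.SPM.Defs
import Cfsg.Agent.Lib.helper3.SPM.Defs2
import Cfsg.Agent.Lib.helper14.SPME1
import Cfsg.Agent.Lib.Helper25.SPME3
import Cfsg.Agent.Lib.Helper20.SPMA1

/-! Project SPM (designer helper3; S2292/S2296), rows T1 (`LB_conj lamP_mem_LB_snd lamP_mem_LB_fst`) and
T3 (`LB_comm`), by helper14. -/

set_option autoImplicit false

namespace Cfsg.Agent.Lib.helper3.SPM

open Cfsg.Agent.Lib.helper3.STC Cfsg.Agent.Lib.helper3.STC.Mat Cfsg.Agent.Lib.helper17.SLP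

universe u v w v'

section main
variable {F : Type u} [Field F] {ι : Type w} [Fintype ι] [DecidableEq ι] {G : Type v} [Group G]
  (p : Pts ι) (ν : Equiv.Perm ι →* G) (lam : Sp4 F →* G)

/-- own-name copy of E4 `lamC_swap`. -/
theorem spmt1_lamC_swap (H : Glue p ν lam) (σ : Equiv.Perm ι) (g : Sp4 F) :
    lamC ν lam (σ * Equiv.swap p.o0 p.o1) g = lamC ν lam σ (swS * g * (swS : Sp4 F)⁻¹) := by
  rw [lamC_apply, lamC_apply, map_mul, map_mul, map_mul, map_inv, H.sw, mul_inv_rev]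
  group

/-- membership in `LB k` through any permutation with `σ o1 = k`. -/
theorem spmt1_mem_LB (H : Glue p ν lam) {σ : Equiv.Perm ι} {k : ι} (hσ : σ p.o1 = k) {g : Sp4 F} (hg : g ∈ B1 F) :
    lamC ν lam σ g ∈ LB p ν lam k := by
  unfold LB
  refine Subgroup.mem_map.2 ⟨g, hg, ?_⟩
  refine lamC_congr1 p ν lam H ?_ hg
  rw [Equiv.swap_apply_left, hσ]

/-- T1 -/
theorem LB_conj (H : Glue p ν lam) (σ : Equiv.Perm ι) (k : ι) {g : G} (hg : g ∈ LB p ν lam k) :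
    ν σ * g * (ν σ)⁻¹ ∈ LB p ν lam (σ k) := by
  unfold LB at hg
  obtain ⟨b, hb, rfl⟩ := Subgroup.mem_map.1 hg
  rw [← lamC_mul]
  refine spmt1_mem_LB p ν lam H ?_ hb
  rw [Equiv.Perm.mul_apply, Equiv.swap_apply_left]

theorem lamP_mem_LB_snd (H : Glue p ν lam) {i j : ι} (hij : i ≠ j) {g : Sp4 F} (hg : g ∈ B1 F) :
    lamP p ν lam i j g ∈ LB p ν lam j := by
  unfold lamP
  exact spmt1_mem_LB p ν lam H (sig2_o1 p hij) hg

theorem lamP_mem_LB_fst (H : Glue p ν lam) {i j : ι} (hij : i ≠ j) {g : Sp4 F} (hg : g ∈ B1 F) :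
    lamP p ν lam i j (swS * g * (swS : Sp4 F)⁻¹) ∈ LB p ν lam i := by
  unfold lamP
  rw [← spmt1_lamC_swap p ν lam H]
  refine spmt1_mem_LB p ν lam H ?_ hg
  rw [Equiv.Perm.mul_apply, Equiv.swap_apply_right, sig2_o0 p hij]

/-- every element of `LB j` is `lamP i j g` with `g ∈ B1 F`. -/
theorem spmt1_LB_snd_surj (H : Glue p ν lam) {i j : ι} (hij : i ≠ j) {g : G} (hg : g ∈ LB p ν lam j) :
    ∃ b ∈ B1 F, g = lamP p ν lam i j b := by
  unfold LB at hg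
  obtain ⟨b, hb, rfl⟩ := Subgroup.mem_map.1 hg
  refine ⟨b, hb, ?_⟩
  unfold lamP
  refine lamC_congr1 p ν lam H ?_ hb
  rw [Equiv.swap_apply_left, sig2_o1 p hij]

/-- every element of `LB i` is `lamP i j (swS * g * swS⁻¹)` with `g ∈ B1 F`. -/
theorem spmt1_LB_fst_surj (H : Glue p ν lam) {i j : ι} (hij : i ≠ j) {g : G} (hg : g ∈ LB p ν lam i) :
    ∃ b ∈ B1 F, g = lamP p ν lam i j (swS * b * (swS : Sp4 F)⁻¹) := by
  unfold LB at hg
  obtain ⟨b, hb, rfl⟩ := Subgroup.mem_map.1 hg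
  refine ⟨b, hb, ?_⟩
  unfold lamP
  rw [← spmt1_lamC_swap p ν lam H]
  refine lamC_congr1 p ν lam H ?_ hb
  rw [Equiv.swap_apply_left, Equiv.Perm.mul_apply, Equiv.swap_apply_right, sig2_o0 p hij]

/-- T3 -/
theorem LB_comm (H : Glue p ν lam) (hS : SpFacts F) {i k : ι} (hik : i ≠ k) {g g' : G} (hg : g ∈ LB p ν lam i) (hg' : g' ∈ LB p ν lam k) :
    Commute g g' := by
  obtain ⟨b, hb, rfl⟩ := spmt1_LB_fst_surj p ν lam H hik hg
  obtain ⟨b', hb', rfl⟩ := spmt1_LB_snd_surj p ν lam H hik hg'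
  exact (hS.comm01 b hb b' hb').map (lamP p ν lam i k)

end main

end Cfsg.Agent.Lib.helper3.SPM
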