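import Mathlib
import Cfsg.Agent.Lib.helper6.CEB.Defs
import Cfsg.Agent.Lib.Helper24.STCI1
import Cfsg.Agent.Lib.Helper26.CEDY1
import Cfsg.Agent.Lib.helper14.CEDY2
import Cfsg.Agent.Lib.Helper20.STBH2
import Cfsg.Agent.Lib.helper6.STBW9
import Cfsg.Agent.Lib.helper6.STBW13

/-!
# Project CEB (helper6, S2094), rows A3 (`Ys_B_hs`), A4 (`Ys_flip_ws`), A5 (`Ys_I_three`), by helper14
(ports of `Helper5.CECY3`, `Helper24.CECY6`, `Helper24.CECY7`; twins of `helper14.CEUY3`, `helper14.CEUY6`).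
-/

set_option autoImplicit false

namespace Cfsg.Agent.Lib.helper6.CEB

open Cfsg.Agent.Lib.helper15.St2 Cfsg.Agent.Lib.helper7.Ce Cfsg.Agent.Lib.helper3.STC Cfsg.Agent.Lib.Lead.STD
  Cfsg.Agent.Lib.helper7.CED Cfsg.Agent.Lib.Lead.STB
open Cfsg.Agent.Lib.helper7.CEC (I2 I3 I4 U3)

section A

variable {K : Type*} [Field K] {ι : Type*} {Γ G : Type*} [Group Γ] [Group G] {S : SysB K ι G} {σ : Γ →* G}

/-- A3 [M]  model CEC Y3 `Ys_B_torus` with `g := S.hs a v`. -/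
theorem Ys_B_hs [DecidableEq ι] [Finite K] (h : IsCE σ) (hC : HC S.toSysD σ) (v : K) (hv0 : v ≠ 0) (hv2 : v ^ 2 ≠ 1) :
    PB S.toSysD h := by
  intro a c b hac hcb hab s t
  have hv' : v ^ 2 - 1 ≠ 0 := sub_ne_zero.2 hv2
  obtain ⟨hac1, hac2⟩ := cedy1_ne hac
  obtain ⟨hcb1, hcb2⟩ := cedy1_ne hcb
  obtain ⟨hab1, hab2⟩ := cedy1_ne hab
  have hg : S.toSysD.IsMon (S.hs a v) 1 (dhb a v) := (S.isMon_hs a v hv0).1
  have hca : c ≠ a := fun e => hac1 e.symm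
  have hcna : c ≠ ng a := by
    intro e
    apply hac2
    rw [e, ng_ng]
  have hba : b ≠ a := fun e => hab1 e.symm
  have hbna : b ≠ ng a := by
    intro e
    apply hab2
    rw [e, ng_ng]
  have da : dhb a v a = v ^ 2 := stbw9_dhb_a a v
  have dc : dhb a v c = 1 := stbw9_dhb_of_ne hca hcna v
  have db : dhb a v b = 1 := stbw9_dhb_of_ne hba hbna v
  set e := lf h (S.hs a v) with he
  have hme : σ e = S.hs a v := map_lf h _
  have key : ∀ s' t', cm e (Ys S.toSysD h a c b s' t') = Ys S.toSysD h a c b ((v ^ 2 - 1) * s') t' := by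
    intro s' t'
    have e1 : cm e (Ys S.toSysD h a c b s' t') = cj e (Ys S.toSysD h a c b s' t') * (Ys S.toSysD h a c b s' t')⁻¹ := by
      unfold cm cj; group
    have e2 : cj e (Ys S.toSysD h a c b s' t') = Ys S.toSysD h a c b (v ^ 2 * s') t' := by
      rw [Ys_cj h hg hme hac1 hcb1 s' t', da, dc, db]
      simp
    have e3 : v ^ 2 * s' = (v ^ 2 - 1) * s' + s' := by ring
    rw [e1, e2, e3, Ys_add_left h hC hac hcb hab, mul_inv_cancel_right]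
  have e4 : cm e (Ys S.toSysD h a c b ((v ^ 2 - 1)⁻¹ * s) t) = cm e (Ys S.toSysD h a c b ((v ^ 2 - 1)⁻¹ * s * t) 1) := by
    refine h.cm_congr rfl ?_
    rw [Ys_map h hac hcb hab, Ys_map h hac hcb hab, mul_one]
  rw [key, key] at e4
  have e5 : (v ^ 2 - 1) * ((v ^ 2 - 1)⁻¹ * s) = s := by
    rw [← mul_assoc, mul_inv_cancel₀ hv', one_mul]
  have e6 : (v ^ 2 - 1) * ((v ^ 2 - 1)⁻¹ * s * t) = s * t := by
    rw [← mul_assoc, ← mul_assoc, mul_inv_cancel₀ hv', one_mul]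
  rw [e5, e6] at e4
  exact e4

theorem ceba4_cj_eq_of_CL {g y : G} (hgy : CL σ g y) {e X : Γ} (he : σ e = g) (hX : σ X = y) :
    cj e X = X := by
  unfold cj
  rw [hgy e X he hX, mul_inv_cancel_right]

/-- own-name copy of G1 `CL_ws` -/
theorem ceba4_CL_ws (h : IsCE σ) {a : ι ⊕ ι} {y : G} (hp : ∀ t, CL σ (S.xs a t) y) (hn : ∀ t, CL σ (S.xs (ng a) t) y) (u : K) :
    CL σ (S.ws a u) y := by
  unfold SysB.ws
  exact h.CL_mul_left (h.CL_mul_left (hp u) (hn _)) (hp u)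

/-- A4 [M]  model CEC Y6 `Ys_flip`: conjugate by `e := lf h (S.ws c 1)`. -/
theorem Ys_flip_ws [DecidableEq ι] (h : IsCE σ) (hCs : HCs S σ) (hB : PB S.toSysD h) {a c b : ι ⊕ ι} (hac : ab a ≠ ab c) (hcb : ab c ≠ ab b)
    (hab : ab a ≠ ab b) (t : K) : Ys S.toSysD h a c b t 1 = Ys S.toSysD h a (ng c) b t 1 := by
  obtain ⟨h1, h2⟩ := cedy1_ne hac
  obtain ⟨h3, h4⟩ := cedy1_ne hcb
  obtain ⟨h5, h6⟩ := cedy1_ne hab
  have h3' : b ≠ c := Ne.symm h3
  have h4' : b ≠ ng c := fun e => h4 (by rw [e, ng_ng])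
  have hmon : S.toSysD.IsMon (S.ws c 1) (swb c) (dwb c 1) := (S.isMon_ws c 1 one_ne_zero).1
  set e : Γ := lf h (S.ws c 1) with he
  have hσe : σ e = S.ws c 1 := map_lf h _
  have hy : σ (Ys S.toSysD h a c b t 1) = S.x a b (t * 1) := Ys_map h hac hcb hab t 1
  have hCL : CL σ (S.ws c 1) (S.x a b (t * 1)) := by
    apply ceba4_CL_ws h
    · intro s
      exact hCs c a b h5 h6 h3' h2 s _
    · intro s
      refine hCs (ng c) a b h5 h6 h4' ?_ s _
      rw [ng_ng]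
      exact h1
  have e1 : cj e (Ys S.toSysD h a c b t 1) = Ys S.toSysD h a c b t 1 := ceba4_cj_eq_of_CL hCL hσe hy
  have e2 := Ys_cj h hmon hσe h1 h3 t (1 : K)
  rw [e1, SysB.swb_of_ne h1 h2, SysB.swb_self, SysB.swb_of_ne h3' h4', stbw9_dwb_of_ne h1 h2, stbw9_dwb_a,
    stbw9_dwb_of_ne h3' h4'] at e2
  have hac' : ab a ≠ ab (ng c) := by rw [ab_ng]; exact hac
  have hcb' : ab (ng c) ≠ ab b := by rw [ab_ng]; exact hcb
  rw [e2, hB a (ng c) b hac' hcb' hab]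
  congr 1
  simp

/-- A5 [S]  model CEC Y7. -/
theorem Ys_I_three [DecidableEq ι] (h : IsCE σ) (hCs : HCs S σ) (u3 : U3 ι) (hB : PB S.toSysD h) : PI S.toSysD h := by
  intro a c c' b hac hcb hac' hcb' hab t
  have hcc : ab c = ab c' := u3 a b c c' hab (Ne.symm hac) hcb (Ne.symm hac') hcb'
  rcases ab_eq_iff.1 hcc with e | e
  · rw [e]
  · rw [e]
    exact (Ys_flip_ws h hCs hB hac' hcb' hab t).symm

end A

end Cfsg.Agent.Lib.helper6.CEB
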