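import Mathlib
import Cfsg.Agent.Lib.Helper12.G24.Vec

/-!
# The 6-dimensional representation of `G₂(4)`: data and packed arithmetic (generated, helper14)

The matrices `A_r(t)` (`r < 12` a root index of the Prelude's datum `chevG2`, `t` in the field with four
elements) of the root elements in the natural 6-dimensional module in characteristic two (the Weyl
module of dimension 7 modulo its fixed vector), packed two bits an entry; vectors of `K⁶` packed two bits a
coordinate; the product of a matrix and a vector on the packed forms, and its correctness.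
-/

set_option autoImplicit false
set_option maxRecDepth 100000

namespace Cfsg.Agent.Lib.helper14.G2M

open Matrix Cfsg.Agent.Lib.Lead.F4 Cfsg.Agent.Lib.Helper12.G24

/-- the table of the matrices `A_r(t)`: index `4 r + t`; the identity out of range -/
def g2T : ℕ → ℕ
  | 0 => 1180663682709764194305
  | 1 => 1185275650203168292865
  | 2 => 1189887617696572391425
  | 3 => 1194499585189976489985
  | 4 => 1180663682709764194305
  | 5 => 1199110426852193222657
  | 6 => 1217557170994622251009
  | 7 => 1236003915137051279361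
  | 8 => 1180663682709764194305
  | 9 => 1181821108088876318721
  | 10 => 1184131454972595290113
  | 11 => 1182983037342493720577
  | 12 => 1180663682709764194305
  | 13 => 1254451784904526020609
  | 14 => 1328241012999194689537
  | 15 => 1402026863394142830593
  | 16 => 1180663682709764194305
  | 17 => 1475811588988628652033
  | 18 => 1770959496367004737537
  | 19 => 2066107400446845939713
  | 20 => 1180663682709764194305
  | 21 => 1180681697108340785153
  | 22 => 1180699711506917376001
  | 23 => 1180717725905493966849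
  | 24 => 1180663682709764194305
  | 25 => 1180663700301950304257
  | 26 => 1180663717894136414209
  | 27 => 1180663735486322524161
  | 28 => 1180663682709764194305
  | 29 => 1180951913086989647877
  | 30 => 1181240143465288843273
  | 31 => 1181528373840366813197
  | 32 => 1180663682709764194305
  | 33 => 1180663753078509420561
  | 34 => 1180663823447255695393
  | 35 => 1180663893815998824497
  | 36 => 1180663682709764194305
  | 37 => 1180663682714059424769
  | 38 => 1180663682718354656257
  | 39 => 1180663682722649884673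
  | 40 => 1180663682709764194305
  | 41 => 1180663682726944063553
  | 42 => 1180663682744123932801
  | 43 => 1180663682761303802049
  | 44 => 1180663682709764194305
  | 45 => 1180663682709768388865
  | 46 => 1180663682709772583425
  | 47 => 1180663682709776777985
  | _ => 1180663682709764194305

/-- the entry `(i, j)` of a packed matrix, as a number -/
def entA (E i j : ℕ) : ℕ := Nat.land (Nat.shiftRight E (Nat.mul 2 (Nat.add (Nat.mul 6 i) j))) 3

/-- the coordinate `j` of a packed vector, as a number -/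
def decN6 (v j : ℕ) : ℕ := Nat.land (Nat.shiftRight v (Nat.mul 2 j)) 3

/-- a sum of six terms on numbers -/
def xor6 (f : ℕ → ℕ) : ℕ :=
  Nat.xor (f 0) (Nat.xor (f 1) (Nat.xor (f 2) (Nat.xor (f 3) (Nat.xor (f 4) (f 5)))))

/-- the coordinate `i` of the product of a packed matrix and a packed vector -/
def rowN6 (E v i : ℕ) : ℕ := xor6 (fun j => mulN (entA E i j) (decN6 v j))

/-- the product of a packed matrix and a packed vector -/
def mvN (E v : ℕ) : ℕ :=
  Nat.add (rowN6 E v 0) (Nat.add (Nat.mul 4 (rowN6 E v 1)) (Nat.add (Nat.mul 16 (rowN6 E v 2))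
    (Nat.add (Nat.mul 64 (rowN6 E v 3)) (Nat.add (Nat.mul 256 (rowN6 E v 4))
      (Nat.mul 1024 (rowN6 E v 5))))))

/-- the matrix of a packed matrix -/
def matOf (E : ℕ) : Matrix (Fin 6) (Fin 6) K := Matrix.of fun i j => kOfN (entA E i.val j.val)

/-- the vector of a packed vector -/
def decV (v : ℕ) : Fin 6 → K := fun j => kOfN (decN6 v j.val)

theorem entA_lt (E i j : ℕ) : entA E i j < 4 := land3_lt _

theorem decN6_lt (v j : ℕ) : decN6 v j < 4 := land3_lt _

theorem kOfN_xor6 (f : ℕ → ℕ) (hf : ∀ k, f k < 4) :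
    kOfN (xor6 f) = kOfN (f 0) + (kOfN (f 1) + (kOfN (f 2) + (kOfN (f 3) + (kOfN (f 4) + kOfN (f 5))))) ∧
      xor6 f < 4 := by
  unfold xor6
  have h4 := kOfN_xor (hf 4) (hf 5)
  have h3 := kOfN_xor (hf 3) h4.2
  have h2 := kOfN_xor (hf 2) h3.2
  have h1 := kOfN_xor (hf 1) h2.2
  have h0 := kOfN_xor (hf 0) h1.2
  refine ⟨?_, h0.2⟩
  rw [h0.1, h1.1, h2.1, h3.1, h4.1]

theorem rowN6_lt (E v i : ℕ) : rowN6 E v i < 4 := (kOfN_xor6 _ (fun _ => mulN_lt _ _)).2

theorem kOfN_rowN6 (E v i : ℕ) : kOfN (rowN6 E v i) =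
    kOfN (entA E i 0) * kOfN (decN6 v 0) + (kOfN (entA E i 1) * kOfN (decN6 v 1) +
      (kOfN (entA E i 2) * kOfN (decN6 v 2) + (kOfN (entA E i 3) * kOfN (decN6 v 3) +
        (kOfN (entA E i 4) * kOfN (decN6 v 4) + kOfN (entA E i 5) * kOfN (decN6 v 5))))) := by
  unfold rowN6
  rw [(kOfN_xor6 _ (fun _ => mulN_lt _ _)).1]
  simp only [kOfN_mulN (entA_lt _ _ _) (decN6_lt _ _)]

theorem land3_eq (x : ℕ) : Nat.land x 3 = x % 4 := by
  show x &&& 3 = x % 4
  exact Nat.and_two_pow_sub_one_eq_mod x 2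

theorem decN6_eq (v j : ℕ) : decN6 v j = v / 4 ^ j % 4 := by
  unfold decN6
  rw [land3_eq]
  show v >>> (2 * j) % 4 = _
  rw [Nat.shiftRight_eq_div_pow, pow_mul]
  norm_num

theorem decN6_pack (a0 a1 a2 a3 a4 a5 : ℕ) (h0 : a0 < 4) (h1 : a1 < 4) (h2 : a2 < 4) (h3 : a3 < 4)
    (h4 : a4 < 4) (h5 : a5 < 4) :
    decN6 (a0 + 4 * a1 + 16 * a2 + 64 * a3 + 256 * a4 + 1024 * a5) 0 = a0 ∧
    decN6 (a0 + 4 * a1 + 16 * a2 + 64 * a3 + 256 * a4 + 1024 * a5) 1 = a1 ∧
    decN6 (a0 + 4 * a1 + 16 * a2 + 64 * a3 + 256 * a4 + 1024 * a5) 2 = a2 ∧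
    decN6 (a0 + 4 * a1 + 16 * a2 + 64 * a3 + 256 * a4 + 1024 * a5) 3 = a3 ∧
    decN6 (a0 + 4 * a1 + 16 * a2 + 64 * a3 + 256 * a4 + 1024 * a5) 4 = a4 ∧
    decN6 (a0 + 4 * a1 + 16 * a2 + 64 * a3 + 256 * a4 + 1024 * a5) 5 = a5 := by
  simp only [decN6_eq]
  norm_num
  omega

theorem mvN_eq (E v : ℕ) : mvN E v = rowN6 E v 0 + 4 * rowN6 E v 1 + 16 * rowN6 E v 2 +
    64 * rowN6 E v 3 + 256 * rowN6 E v 4 + 1024 * rowN6 E v 5 := by
  show rowN6 E v 0 + (4 * rowN6 E v 1 + (16 * rowN6 E v 2 + (64 * rowN6 E v 3 +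
    (256 * rowN6 E v 4 + 1024 * rowN6 E v 5)))) = _
  ring

theorem decN6_mvN (E v : ℕ) {i : ℕ} (hi : i < 6) : decN6 (mvN E v) i = rowN6 E v i := by
  rw [mvN_eq]
  obtain ⟨e0, e1, e2, e3, e4, e5⟩ := decN6_pack _ _ _ _ _ _ (rowN6_lt E v 0) (rowN6_lt E v 1)
    (rowN6_lt E v 2) (rowN6_lt E v 3) (rowN6_lt E v 4) (rowN6_lt E v 5)
  interval_cases i
  · exact e0
  · exact e1
  · exact e2
  · exact e3
  · exact e4
  · exact e5

/-- correctness of the packed product -/
theorem decV_mvN (E v : ℕ) : decV (mvN E v) = matOf E *ᵥ decV v := by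
  funext i
  show kOfN (decN6 (mvN E v) i.val) = _
  rw [decN6_mvN E v i.isLt, kOfN_rowN6]
  simp only [Matrix.mulVec, dotProduct, Fin.sum_univ_six, matOf, decV, Matrix.of_apply, add_assoc]
  rfl

/-- the action of a word on a packed vector -/
def actW (w : List (ℕ × ℕ)) (v : ℕ) : ℕ :=
  w.foldr (fun p acc => mvN (g2T (Nat.add (Nat.mul 4 p.1) p.2)) acc) v

/-- the matrix of a word -/
def wordM (w : List (ℕ × ℕ)) : Matrix (Fin 6) (Fin 6) K :=
  (w.map fun p => matOf (g2T (4 * p.1 + p.2))).prod

theorem decV_actW (w : List (ℕ × ℕ)) (v : ℕ) : decV (actW w v) = wordM w *ᵥ decV v := by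
  induction w with
  | nil => simp [actW, wordM]
  | cons p w ih =>
    show decV (mvN (g2T (4 * p.1 + p.2)) (actW w v)) = _
    rw [decV_mvN, ih]
    show _ = (matOf (g2T (4 * p.1 + p.2)) * wordM w) *ᵥ decV v
    rw [Matrix.mulVec_mulVec]

theorem wordM_append (w w' : List (ℕ × ℕ)) : wordM (w ++ w') = wordM w * wordM w' := by
  unfold wordM
  rw [List.map_append, List.prod_append]

theorem decV_basis (j : Fin 6) : decV (4 ^ j.val) = Pi.single j 1 := by
  revert j
  decide

/-- two matrices which agree on the basis vectors are equal -/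
theorem mat_ext_basis (M N : Matrix (Fin 6) (Fin 6) K)
    (h : ∀ j : Fin 6, M *ᵥ decV (4 ^ j.val) = N *ᵥ decV (4 ^ j.val)) : M = N := by
  ext i j
  have := congrFun (h j) i
  rw [decV_basis, Matrix.mulVec_single_one, Matrix.mulVec_single_one] at this
  exact this

/-- all numbers below a bound satisfy a Boolean predicate -/
def allN : ℕ → (ℕ → Bool) → Bool
  | 0, _ => true
  | n + 1, p => allN n p && p n

theorem allN_iff (n : ℕ) (p : ℕ → Bool) : allN n p = true ↔ ∀ i, i < n → p i = true := by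
  induction n with
  | zero => simp [allN]
  | succ n ih =>
    simp only [allN, Bool.and_eq_true, ih]
    constructor
    · rintro ⟨h1, h2⟩ i hi
      rcases Nat.lt_succ_iff_lt_or_eq.1 hi with h | rfl
      · exact h1 i h
      · exact h2
    · intro h
      exact ⟨fun i hi => h i (Nat.lt_succ_of_lt hi), h n (Nat.lt_succ_self n)⟩

/-- two words with the same action on the packed basis vectors have the same matrix -/
theorem wordM_eq_of_act (w w' : List (ℕ × ℕ))
    (h : allN 6 (fun j => Nat.beq (actW w (4 ^ j)) (actW w' (4 ^ j))) = true) :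
    wordM w = wordM w' := by
  apply mat_ext_basis
  intro j
  have := (allN_iff _ _).1 h j.val j.isLt
  rw [← decV_actW, ← decV_actW, Nat.eq_of_beq_eq_true this]

end Cfsg.Agent.Lib.helper14.G2M
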