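import Mathlib
import Cfsg.Agent.Lib.helper14.SGUDefs
import Cfsg.Agent.Lib.helper6.Symp
import Cfsg.Agent.S5646

set_option autoImplicit false
set_option linter.unusedVariables false
set_option linter.unusedSectionVars false

namespace Cfsg.Agent.Lib.helper14.SGU

open Polynomial Module Cfsg.Agent.Lib.Lead.SPU Cfsg.Agent.Lib.Helper19.SPD

variable {F : Type*} [Field F] {d : ℕ}

/-- the sign vector. -/
def sguinv14_w (d k : ℕ) (F : Type*) [Field F] : Fin d ⊕ Fin d → F :=
  Sum.elim (fun i => if i.val < k then (1 : F) else -1) (fun i => if i.val < k then (1 : F) else -1)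

theorem sguinv14_w_sq (k : ℕ) (a : Fin d ⊕ Fin d) : sguinv14_w d k F a * sguinv14_w d k F a = 1 := by
  unfold sguinv14_w
  rcases a with i | i <;> simp only [Sum.elim_inl, Sum.elim_inr] <;> split_ifs <;> simp

theorem sguinv14_w_inl_inr (k : ℕ) (i : Fin d) : sguinv14_w d k F (Sum.inl i) = sguinv14_w d k F (Sum.inr i) := rfl

theorem sguinv14_card (h2 : (2 : F) ≠ 0) (k : ℕ) (hk : k ≤ d) [DecidableEq F] :
    Fintype.card {a : Fin d ⊕ Fin d // sguinv14_w d k F a - 1 ≠ 0} = 2 * (d - k) := by
  classical
  have hiff : ∀ a : Fin d ⊕ Fin d, sguinv14_w d k F a - 1 ≠ 0 ↔ ¬ (Sum.elim (fun i : Fin d => i.val) (fun i : Fin d => i.val) a < k) := by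
    intro a
    unfold sguinv14_w
    rcases a with i | i <;> simp only [Sum.elim_inl, Sum.elim_inr] <;> split_ifs with h <;> simp [h]
    · intro h'
      apply h2
      have : (2 : F) = -(-1 - 1) := by ring
      rw [this, h', neg_zero]
    · intro h'
      apply h2
      have : (2 : F) = -(-1 - 1) := by ring
      rw [this, h', neg_zero]
  rw [Fintype.card_congr (Equiv.subtypeEquivRight hiff), Fintype.card_congr (Equiv.subtypeSum),
    Fintype.card_sum]
  have hc : Fintype.card {i : Fin d // ¬ (i.val < k)} = d - k := by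
    rw [Fintype.card_subtype_compl, Fintype.card_fin, Fintype.card_subtype]
    have : (Finset.univ.filter (fun i : Fin d => i.val < k)).card = k := by
      have := Fin.card_filter_val_lt (n := d) (m := k)
      rw [min_eq_right hk] at this
      exact this
    rw [this]
  have e1 : Fintype.card {a : Fin d // ¬ (Sum.elim (fun i : Fin d => i.val) (fun i : Fin d => i.val)
      (Sum.inl a : Fin d ⊕ Fin d) < k)} = d - k := by
    rw [← hc]
    exact Fintype.card_congr (Equiv.refl _)
  have e2 : Fintype.card {a : Fin d // ¬ (Sum.elim (fun i : Fin d => i.val) (fun i : Fin d => i.val)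
      (Sum.inr a : Fin d ⊕ Fin d) < k)} = d - k := by
    rw [← hc]
    exact Fintype.card_congr (Equiv.refl _)
  rw [e1, e2]
  ring

theorem sguinv14_inv_ex (h2 : (2 : F) ≠ 0) (c0 : F) (k : ℕ) (hk : k ≤ d) :
    ∃ y : Matrix.GeneralLinearGroup (Fin d ⊕ Fin d) F, y ∈ Cfsg.spGL d F ∧
      (y : Matrix (Fin d ⊕ Fin d) (Fin d ⊕ Fin d) F) * (y : Matrix (Fin d ⊕ Fin d) (Fin d ⊕ Fin d) F) = 1 ∧
      (y : Matrix (Fin d ⊕ Fin d) (Fin d ⊕ Fin d) F) * j0 d c0 = j0 d c0 * (y : Matrix (Fin d ⊕ Fin d) (Fin d ⊕ Fin d) F) ∧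
      finrank F (LinearMap.ker ((y : Matrix (Fin d ⊕ Fin d) (Fin d ⊕ Fin d) F).mulVecLin - LinearMap.id)) = 2 * k := by
  classical
  set w : Fin d ⊕ Fin d → F := sguinv14_w d k F with hw
  set Y : Matrix (Fin d ⊕ Fin d) (Fin d ⊕ Fin d) F := Matrix.diagonal w with hY
  have hYY : Y * Y = 1 := by
    rw [hY, Matrix.diagonal_mul_diagonal, ← Matrix.diagonal_one]
    congr 1
    funext a
    exact sguinv14_w_sq k a
  refine ⟨⟨Y, Y, hYY, hYY⟩, ?_, hYY, ?_, ?_⟩
  · rw [Cfsg.Agent.S5646.mem_spGL_iff]
    apply (Cfsg.Agent.Lib.helper6.mem_symplecticGroup_iff_sympForm d _).1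
    rw [SymplecticGroup.mem_iff']
    show Y.transpose * Matrix.J (Fin d) F * Y = Matrix.J (Fin d) F
    rw [hY, Matrix.diagonal_transpose]
    ext a b
    rw [Matrix.mul_diagonal, Matrix.diagonal_mul]
    unfold Matrix.J
    rcases a with i | i <;> rcases b with l | l
    · simp
    · simp only [Matrix.fromBlocks_apply₁₂, Matrix.neg_apply, Matrix.one_apply]
      by_cases h : i = l
      · subst h
        rw [if_pos rfl, hw, sguinv14_w_inl_inr]
        have := sguinv14_w_sq (F := F) k (Sum.inr i)
        linear_combination -this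
      · rw [if_neg h]; ring
    · simp only [Matrix.fromBlocks_apply₂₁, Matrix.one_apply]
      by_cases h : i = l
      · subst h
        rw [if_pos rfl, hw, sguinv14_w_inl_inr]
        have := sguinv14_w_sq (F := F) k (Sum.inr i)
        linear_combination this
      · rw [if_neg h]; ring
    · simp
  · show Y * j0 d c0 = j0 d c0 * Y
    rw [hY]
    ext a b
    rw [Matrix.mul_diagonal, Matrix.diagonal_mul]
    unfold j0
    rcases a with i | i <;> rcases b with l | l
    · simp
    · simp only [Matrix.fromBlocks_apply₁₂, Matrix.smul_apply, Matrix.one_apply, smul_eq_mul]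
      by_cases h : i = l
      · subst h
        rw [hw, sguinv14_w_inl_inr]
        ring
      · rw [if_neg h]; ring
    · simp only [Matrix.fromBlocks_apply₂₁, Matrix.one_apply]
      by_cases h : i = l
      · subst h
        rw [hw, sguinv14_w_inl_inr]
        ring
      · rw [if_neg h]; ring
    · simp
  · show finrank F (LinearMap.ker (Y.mulVecLin - LinearMap.id)) = 2 * k
    have h1 : Y.mulVecLin - LinearMap.id = (Matrix.diagonal (fun a => w a - 1)).mulVecLin := by
      apply LinearMap.ext
      intro u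
      funext a
      simp only [LinearMap.sub_apply, Matrix.mulVecLin_apply, LinearMap.id_apply, Pi.sub_apply, hY,
        Matrix.mulVec_diagonal]
      ring
    rw [h1]
    have h3 := LinearMap.finrank_range_add_finrank_ker (Matrix.diagonal (fun a => w a - 1)).mulVecLin
    have h4 : finrank F (LinearMap.range (Matrix.diagonal (fun a => w a - 1)).mulVecLin) =
        (Matrix.diagonal (fun a => w a - 1)).rank := rfl
    have hcard : Fintype.card {a : Fin d ⊕ Fin d // w a - 1 ≠ 0} = 2 * (d - k) := sguinv14_card h2 k hk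
    rw [h4, Matrix.rank_diagonal, hcard, Module.finrank_fintype_fun_eq_card,
      Fintype.card_sum, Fintype.card_fin] at h3
    omega

end Cfsg.Agent.Lib.helper14.SGU
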