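import Mathlib
import Cfsg.Agent.Lib.helper14.SGUDefs
import Cfsg.Agent.Lib.Helper20.SGUNORM
import Cfsg.Agent.Lib.helper6.Symp
import Cfsg.Agent.S5646

set_option autoImplicit false
set_option linter.unusedVariables false
set_option linter.unusedSectionVars false

namespace Cfsg.Agent.Lib.helper14.SGU

open Polynomial Module Cfsg.Agent.Lib.Lead.SPU Cfsg.Agent.Lib.Helper19.SPD

variable {F : Type*} [Field F] {d : ℕ}

/-- a block matrix with scalar blocks. -/
def sgusq14_B (d : ℕ) (a b c e : F) : Matrix (Fin d ⊕ Fin d) (Fin d ⊕ Fin d) F :=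
  Matrix.fromBlocks (a • (1 : Matrix (Fin d) (Fin d) F)) (b • 1) (c • 1) (e • 1)

theorem sgusq14_B_mul (a b c e a' b' c' e' : F) :
    sgusq14_B d a b c e * sgusq14_B d a' b' c' e' =
      sgusq14_B d (a * a' + b * c') (a * b' + b * e') (c * a' + e * c') (c * b' + e * e') := by
  unfold sgusq14_B
  rw [Matrix.fromBlocks_multiply]
  simp only [Matrix.smul_mul, Matrix.mul_smul, Matrix.one_mul, smul_smul, ← add_smul]
  congr 2 <;> ring

theorem sgusq14_B_transpose (a b c e : F) : (sgusq14_B d a b c e).transpose = sgusq14_B d a c b e := by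
  unfold sgusq14_B
  rw [Matrix.fromBlocks_transpose]
  simp only [Matrix.transpose_smul, Matrix.transpose_one]

theorem sgusq14_J : Matrix.J (Fin d) F = sgusq14_B d 0 (-1) 1 0 := by
  unfold sgusq14_B Matrix.J
  simp

theorem sgusq14_j0 (c0 : F) : j0 d c0 = sgusq14_B d 0 c0 1 0 := by
  unfold sgusq14_B j0
  simp

theorem sgusq14_one : (1 : Matrix (Fin d ⊕ Fin d) (Fin d ⊕ Fin d) F) = sgusq14_B d 1 0 0 1 := by
  unfold sgusq14_B
  simp [Matrix.fromBlocks_one]

theorem sgusq14_neg (a b c e : F) : -(sgusq14_B d a b c e) = sgusq14_B d (-a) (-b) (-c) (-e) := by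
  unfold sgusq14_B
  rw [Matrix.fromBlocks_neg]
  simp only [neg_smul]

theorem sgusq14_sqneg_ex [Fintype F] (hodd : Odd (Fintype.card F)) (c0 : F) (hc : c0 ≠ 0) :
    ∃ y : Matrix.GeneralLinearGroup (Fin d ⊕ Fin d) F, y ∈ Cfsg.spGL d F ∧
      (y : Matrix (Fin d ⊕ Fin d) (Fin d ⊕ Fin d) F) * (y : Matrix (Fin d ⊕ Fin d) (Fin d ⊕ Fin d) F) = -1 ∧
      (y : Matrix (Fin d ⊕ Fin d) (Fin d ⊕ Fin d) F) * j0 d c0 = -(j0 d c0 * (y : Matrix (Fin d ⊕ Fin d) (Fin d ⊕ Fin d) F)) := by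
  obtain ⟨α, β, hαβ⟩ := norm_surj hodd c0 (-1) hc
  set Y : Matrix (Fin d ⊕ Fin d) (Fin d ⊕ Fin d) F := sgusq14_B d α (-(c0 * β)) β (-α) with hY
  have hYY : Y * Y = -1 := by
    rw [hY, sgusq14_B_mul, sgusq14_one, sgusq14_neg]
    congr 1
    · linear_combination hαβ
    · ring
    · ring
    · linear_combination hαβ
  have h1 : Y * (-Y) = 1 := by rw [Matrix.mul_neg, hYY, neg_neg]
  have h2 : (-Y) * Y = 1 := by rw [Matrix.neg_mul, hYY, neg_neg]
  refine ⟨⟨Y, -Y, h1, h2⟩, ?_, hYY, ?_⟩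
  · rw [Cfsg.Agent.S5646.mem_spGL_iff]
    apply (Cfsg.Agent.Lib.helper6.mem_symplecticGroup_iff_sympForm d _).1
    rw [SymplecticGroup.mem_iff']
    show Y.transpose * Matrix.J (Fin d) F * Y = Matrix.J (Fin d) F
    rw [hY, sgusq14_B_transpose, sgusq14_J, sgusq14_B_mul, sgusq14_B_mul]
    congr 1
    · ring
    · linear_combination hαβ
    · linear_combination -hαβ
    · ring
  · show Y * j0 d c0 = -(j0 d c0 * Y)
    rw [hY, sgusq14_j0, sgusq14_B_mul, sgusq14_B_mul, sgusq14_neg]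
    congr 1 <;> ring

end Cfsg.Agent.Lib.helper14.SGU
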