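import Mathlib
import Cfsg.Prelude.Def_ChevStructure
import Cfsg.Agent.Lib.helper14.TWI.Defs
import Cfsg.Agent.Lib.helper14.INVFUSEb

/-!
# Project TWI, piece FUSES: the move checker of `INVFUSEb` with the conjugating element made explicit
-/

set_option autoImplicit false

namespace Cfsg.Agent.Lib.helper14.TWI

open Cfsg.Lie Cfsg.Lie.ChevalleyDatum Cfsg.Agent.Lib.helper8 Cfsg.Agent.Lib.helper14
  Cfsg.Agent.Lib.helper14.INV

universe u

variable {K : Type u} [Field K]

/-- the conjugating element of a move -/
def fuseElt (D : ChevalleyDatum) (hB : H8Base.{u} D) (m : Bool × ℕ) : GL D.Idx K :=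
  if m.1 then h8xU D hB m.2 (1 : K) else h8nU D hB (D.simple m.2) (1 : K)

/-- one move, with its conjugating element -/
theorem fuseb_step_elt [CharP K 2] (D : ChevalleyDatum) (hB : H8Base.{u} D) (hA : H8ReflAll D)
    (hC : H8CommAll.{u} D) (hBN : H8BN D) (hO : H8Ord D) (fuel : ℕ) (m : Bool × ℕ) (w : List ℕ)
    (h : fuseb_ok1 D m w = true) :
    (fuseElt D hB m : GL D.Idx K) * w1 D hB w * (fuseElt D hB m : GL D.Idx K)⁻¹ =
      w1 D hB (fuseb_step D fuel m w) := by
  obtain ⟨b, k⟩ := m
  unfold fuseb_ok1 at h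
  rw [Bool.and_eq_true, List.all_eq_true] at h
  obtain ⟨hw, h2⟩ := h
  have hw' : ∀ r ∈ w, D.IsPosRoot r := fun r hr => of_decide_eq_true (hw r hr)
  cases b with
  | true =>
    have hk : D.IsPosRoot k := by simpa using h2
    have hinv : (h8xU D hB k (1 : K))⁻¹ = h8xU D hB k 1 := by
      rw [inv_eq_iff_mul_eq_one]
      exact invcoll_xx D hB k hk.1
    unfold fuseb_step fuseElt
    rw [if_pos rfl, if_pos rfl, ← coll_sound D hB hC hBN hO fuel _ (by
      intro r hr
      rcases List.mem_cons.mp hr with rfl | hr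
      · exact hk
      · rcases List.mem_append.mp hr with hr | hr
        · exact hw' r hr
        · rw [List.mem_singleton] at hr; rw [hr]; exact hk)]
    rw [w1_cons, invcoll_w1_append, w1_cons, w1_nil, mul_one, hinv, mul_assoc]
  | false =>
    simp only [Bool.false_eq_true, if_false, Bool.and_eq_true, decide_eq_true_eq,
      List.all_eq_true] at h2
    obtain ⟨hk, h3⟩ := h2
    unfold fuseb_step fuseElt
    rw [if_neg (by simp), if_neg (by simp), ← coll_sound D hB hC hBN hO fuel _ (fun r hr => h3 r hr)]
    exact conj_nU_w1_b D hB hA k hk w (fun r hr => (hw' r hr).1)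

/-- FUSES : a list of moves, with its conjugating element -/
theorem fuseb_run_elt [CharP K 2] (D : ChevalleyDatum) (hB : H8Base.{u} D) (hA : H8ReflAll D)
    (hC : H8CommAll.{u} D) (hBN : H8BN D) (hO : H8Ord D) (fuel : ℕ) (ms : List (Bool × ℕ))
    (w : List ℕ) (h : fuseb_ok D fuel ms w = true) :
    ((ms.reverse.map fun m => if m.1 then h8xU D hB m.2 (1 : K)
        else h8nU D hB (D.simple m.2) (1 : K)).prod) * w1 D hB w *
      ((ms.reverse.map fun m => if m.1 then h8xU D hB m.2 (1 : K)
        else h8nU D hB (D.simple m.2) (1 : K)).prod)⁻¹ = w1 D hB (fuseb_run D fuel ms w) := by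
  induction ms generalizing w with
  | nil =>
    simp only [List.reverse_nil, List.map_nil, List.prod_nil, one_mul, inv_one, mul_one]
    rfl
  | cons m ms ih =>
    unfold fuseb_ok at h
    rw [Bool.and_eq_true] at h
    have h1 := fuseb_step_elt (K := K) D hB hA hC hBN hO fuel m w h.1
    have h2 := ih (fuseb_step D fuel m w) h.2
    unfold fuseb_run
    rw [← h2, ← h1]
    rw [List.reverse_cons, List.map_append, List.prod_append]
    simp only [List.map_cons, List.map_nil, List.prod_cons, List.prod_nil, mul_one]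
    unfold fuseElt
    group

end Cfsg.Agent.Lib.helper14.TWI
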