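import Mathlib
import Cfsg.Agent.Lib.helper14.StChev

/-!
The Steinberg character of a Chevalley group restricted to `B`: main assembly.
-/

set_option autoImplicit false

namespace Cfsg.Agent.Lib.helper14

open Cfsg.Lie Cfsg.Lie.ChevalleyDatum Cfsg.Agent.Lib.helper8 Cfsg.Agent.Lib.helper3

universe u

variable {F : Type u} [Field F]

theorem st_chev_main [Finite F] (D : ChevalleyDatum) (hB : H8Base.{u} D) (hA : H8ReflAll D)
    (hC : H8CommAll.{u} D) (hBN : H8BN D) (hW : H8BN2 D) (hO2 : H8Ord2 D)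
    (b : ↥((D.borelSubgroup F).subgroupOf (D.group F))) :
    D.steinbergCharacter F ((((D.borelSubgroup F).subgroupOf (D.group F)).subtype) b) =
      Cfsg.fixedPointCharacter (((D.diagonalSubgroup F).subgroupOf (D.group F)).subgroupOf
        ((D.borelSubgroup F).subgroupOf (D.group F))) b := by
  classical
  obtain ⟨P, hPB, hPN, hPS⟩ := h8bnpair (F := F) D hB hA hC hBN hW
  obtain ⟨w, hw⟩ := hW.w0
  obtain ⟨hwr, hpos, hneg, hne⟩ := h8w0Chk_spec D hA w hw
  obtain ⟨dep, par, horb⟩ := hBN.orb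
  have hBG := h8_B_le_group (F := F) D hB
  have hNG := h8_N_le_group (F := F) D hB
  have hnorm := h8N_le_normalizer_H (F := F) D hB hA dep par horb
  have hsN : ∀ i, i < D.rank → h8nU D hB (D.simple i) (1 : F) ∈ D.monomialSubgroup F :=
    fun i hi => h8nU_mem_N D hB _ (h8simple_pos D hBN i hi).1
  let σ : ℕ → ↥(D.group F) := fun i =>
    if h : i < D.rank then ⟨h8nU D hB (D.simple i) 1, hNG (hsN i h)⟩ else 1
  have hσv : ∀ i, i < D.rank → ((σ i : ↥(D.group F)) : GL D.Idx F) = h8nU D hB (D.simple i) 1 := by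
    intro i hi
    simp only [σ, dif_pos hi]
  have hn₀N : (h8nWU D hB w : GL D.Idx F) ∈ D.monomialSubgroup F := h8nWU_mem_N D hB hA w hwr
  let n₀ : ↥(D.group F) := ⟨h8nWU D hB w, hNG hn₀N⟩
  have hSeq : ∀ s : ↥(D.group F), ∀ i, ((s : GL D.Idx F) : Matrix D.Idx D.Idx F) =
      D.nMat F (D.simple i) 1 → (s : GL D.Idx F) = h8nU D hB (D.simple i) 1 := by
    intro s i hs
    apply Units.ext
    rw [hs, h8nU_val]
  have hσ : ∀ i < D.rank, σ i ∈ P.S := by
    intro i hi
    rw [hPS]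
    refine ⟨i, hi, ?_⟩
    rw [hσv i hi, h8nU_val]
  have hσ' : ∀ s ∈ P.S, ∃ i < D.rank, σ i = s := by
    intro s hs
    rw [hPS] at hs
    obtain ⟨i, hi, hs⟩ := hs
    refine ⟨i, hi, Subtype.ext ?_⟩
    rw [hσv i hi, hSeq s i hs]
  have hn₀ : n₀ ∈ P.N := by
    rw [hPN, Subgroup.mem_subgroupOf]
    exact hn₀N
  have hQ : ∀ J ∈ (Finset.range D.rank).powerset,
      D.parabolicIn F J = P.parabolic (σ '' (J : Set ℕ)) := by
    intro J hJ
    rw [Finset.mem_powerset] at hJ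
    have hJr : ∀ j ∈ J, j < D.rank := fun j hj => Finset.mem_range.1 (hJ hj)
    unfold ChevalleyDatum.parabolicIn ChevalleyDatum.parabolicSubgroup Cfsg.BNPair.parabolic
    have hset : {g : GL D.Idx F | ∃ j ∈ (J : Set ℕ), j < D.rank ∧
        (g : Matrix D.Idx D.Idx F) = D.nMat F (D.simple j) 1} =
        (D.group F).subtype '' (σ '' (J : Set ℕ)) := by
      ext g
      constructor
      · rintro ⟨j, hj, hjr, hg⟩
        refine ⟨σ j, ⟨j, hj, rfl⟩, ?_⟩
        rw [Subgroup.coe_subtype, hσv j hjr]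
        apply Units.ext
        rw [hg, h8nU_val]
      · rintro ⟨_, ⟨j, hj, rfl⟩, rfl⟩
        have hjr := hJr j (Finset.mem_coe.1 hj)
        refine ⟨j, hj, hjr, ?_⟩
        rw [Subgroup.coe_subtype, hσv j hjr, h8nU_val]
    have hcl_le : Subgroup.closure {g : GL D.Idx F | ∃ j ∈ (J : Set ℕ), j < D.rank ∧
        (g : Matrix D.Idx D.Idx F) = D.nMat F (D.simple j) 1} ≤ D.group F := by
      rw [Subgroup.closure_le]
      rintro g ⟨j, _, hjr, hg⟩
      have : g = h8nU D hB (D.simple j) 1 := by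
        apply Units.ext
        rw [hg, h8nU_val]
      rw [this]
      exact hNG (hsN j hjr)
    rw [Subgroup.subgroupOf_sup hBG hcl_le, hPB]
    congr 1
    rw [hset, ← MonoidHom.map_closure]
    unfold Subgroup.subgroupOf
    exact Subgroup.comap_map_eq_self_of_injective (Subgroup.subtype_injective _) _
  have h1 : ∀ s ∈ P.S, ¬ Pp P s n₀⁻¹ := by
    intro s hs
    have hs' := hs
    rw [hPS] at hs'
    obtain ⟨i, hi, hsv⟩ := hs'
    have hpi := h8simple_pos D hBN i hi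
    have hnegρ := hpos (D.simple i) hpi
    refine st_not_Pp_of_neg D hB P hPB hA hBN hW hO2 hPN hs i hi (hSeq s i hsv)
      (P.N.inv_mem hn₀) (h8sW D w (D.simple i)) hnegρ.1 ?_ (h8pos_of_neg D hB hBN hO2 _ hnegρ)
    have e : ((n₀⁻¹ : ↥(D.group F)) : GL D.Idx F)⁻¹ = h8nWU D hB w := by
      rw [Subgroup.coe_inv, inv_inv]
    rw [e]
    exact h8actN_act D hB _ _ _ (h8actN_word D hB hA w hwr (D.simple i) hpi.1)
  have h2 : ∀ m ∈ P.N, (∀ s ∈ P.S, ¬ Pp P s m) → LAsc P P.S (m * n₀) := by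
    intro m hm hall s hs
    have hs' := hs
    rw [hPS] at hs'
    obtain ⟨i, hi, hsv⟩ := hs'
    have hm' := hm
    rw [hPN, Subgroup.mem_subgroupOf] at hm'
    obtain ⟨ρ, hρlt, hact, hpn⟩ := st_dich D hB hA hBN hW i hi (m : GL D.Idx F) hm'
    rcases hpn with hp | hn'
    · exact absurd (st_Pp_of_pos D hB P hPB hA hC hBN hPN i hi (hSeq s i hsv) hm ρ hact hp)
        (hall s hs)
    · have hρneg : D.IsNegRoot ρ := by
        have := h8neg_of_pos D hB hO2 _ hn'
        rwa [(hO2.negneg ρ hρlt).2] at this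
      have hact2 : H8Act D hB ((m * n₀ : ↥(D.group F)) : GL D.Idx F)⁻¹ (D.simple i)
          (h8sW D w.reverse ρ) := by
        have e : ((m * n₀ : ↥(D.group F)) : GL D.Idx F)⁻¹ =
            (h8nWU D hB w : GL D.Idx F)⁻¹ * (m : GL D.Idx F)⁻¹ := by
          rw [Subgroup.coe_mul, mul_inv_rev]
        rw [e]
        exact h8act_mul D hB _ _ _ _ _ hact
          (h8actN_act D hB _ _ _ (h8actN_word_inv D hB hA w hwr ρ hρlt))
      exact st_Pp_of_pos D hB P hPB hA hC hBN hPN i hi (hSeq s i hsv) (P.N.mul_mem hm hn₀) _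
        hact2 (hneg ρ hρneg)
  have c1 : ∀ h ∈ (D.diagonalSubgroup F).subgroupOf (D.group F),
      h ∈ (D.borelSubgroup F).subgroupOf (D.group F) →
      n₀⁻¹ * h * n₀ ∈ (D.borelSubgroup F).subgroupOf (D.group F) := by
    intro h hh _
    rw [Subgroup.mem_subgroupOf] at hh ⊢
    have hninv : (h8nWU D hB w : GL D.Idx F)⁻¹ ∈
        Subgroup.normalizer (D.diagonalSubgroup F : Set (GL D.Idx F)) :=
      hnorm (Subgroup.inv_mem _ hn₀N)
    have := (Subgroup.mem_normalizer_iff.mp hninv (h : GL D.Idx F)).mp hh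
    rw [inv_inv] at this
    exact h8H_le_B D this
  have c2 : ∀ β ∈ (D.borelSubgroup F).subgroupOf (D.group F),
      n₀⁻¹ * β * n₀ ∈ (D.borelSubgroup F).subgroupOf (D.group F) →
      β ∈ (D.diagonalSubgroup F).subgroupOf (D.group F) := by
    intro β hβ hγ
    rw [Subgroup.mem_subgroupOf] at hβ hγ ⊢
    have hγ' : (h8nWU D hB w : GL D.Idx F)⁻¹ * (β : GL D.Idx F) * h8nWU D hB w ∈
        D.borelSubgroup F := hγ
    have hmemB : (h8nWU D hB w : GL D.Idx F)⁻¹ * (β : GL D.Idx F) * h8nWU D hB w ∈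
        ((D.posUnipotent F ⊔ D.diagonalSubgroup F : Subgroup (GL D.Idx F)) :
          Set (GL D.Idx F)) := hγ'
    rw [Subgroup.coe_mul_of_right_le_normalizer_left _ _ (h8_H_le_normalizer_U D hB)] at hmemB
    obtain ⟨u, hu, h, hh, e⟩ := hmemB
    have hconj := h8_conj_U_eq_V (F := F) D hB hA w hw
    have hv : (h8nWU D hB w : GL D.Idx F) * u * (h8nWU D hB w : GL D.Idx F)⁻¹ ∈
        D.negUnipotent F := by
      rw [← hconj]
      exact ⟨u, hu, rfl⟩
    have hh2 : (h8nWU D hB w : GL D.Idx F) * h * (h8nWU D hB w : GL D.Idx F)⁻¹ ∈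
        D.diagonalSubgroup F :=
      (Subgroup.mem_normalizer_iff.mp (hnorm hn₀N) h).mp hh
    have hβe : (β : GL D.Idx F) = ((h8nWU D hB w : GL D.Idx F) * u * (h8nWU D hB w : GL D.Idx F)⁻¹) *
        ((h8nWU D hB w : GL D.Idx F) * h * (h8nWU D hB w : GL D.Idx F)⁻¹) := by
      have : (h8nWU D hB w : GL D.Idx F) * u * (h8nWU D hB w : GL D.Idx F)⁻¹ *
          ((h8nWU D hB w : GL D.Idx F) * h * (h8nWU D hB w : GL D.Idx F)⁻¹) =
          (h8nWU D hB w : GL D.Idx F) * (u * h) * (h8nWU D hB w : GL D.Idx F)⁻¹ := by group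
      rw [this]
      have e' : u * h = (h8nWU D hB w : GL D.Idx F)⁻¹ * (β : GL D.Idx F) * h8nWU D hB w := e
      rw [e']
      group
    have hmem : (β : GL D.Idx F) ∈ D.borelSubgroup F ⊓
        (D.negUnipotent F ⊔ D.diagonalSubgroup F) := by
      rw [Subgroup.mem_inf]
      refine ⟨hβ, ?_⟩
      rw [hβe]
      exact Subgroup.mul_mem _ (Subgroup.mem_sup_left hv) (Subgroup.mem_sup_right hh2)
    rw [h8_B_inf_VH D hB hBN.negOK] at hmem
    exact hmem
  have hfin : Finite ↥(D.group F) := inferInstance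
  exact st_value P _ hPB (fun J => D.parabolicIn F J) σ D.rank hσ hσ' hQ hn₀ h1 h2
    ((D.diagonalSubgroup F).subgroupOf (D.group F)) c1 c2 b

end Cfsg.Agent.Lib.helper14
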