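import Mathlib
import Cfsg.Agent.Lib.helper14.StChevMain
import Cfsg.Agent.Lib.helper8.ChevCnt6
import Cfsg.Agent.Lib.helper8.ChevOrd4

/-!
The degree of the Steinberg character of a Chevalley group.
-/

set_option autoImplicit false

namespace Cfsg.Agent.Lib.helper14

open Cfsg.Lie Cfsg.Lie.ChevalleyDatum Cfsg.Agent.Lib.helper8 Cfsg.Agent.Lib.helper3

universe u

variable {F : Type u} [Field F]

theorem st_chev_deg [Fintype F] (D : ChevalleyDatum) (hB : H8Base.{u} D) (hA : H8ReflAll D)
    (hC : H8CommAll.{u} D) (hBN : H8BN D) (hW : H8BN2 D) (hO : H8Ord D) (hO2 : H8Ord2 D)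
    (hlen : D.posRoots.length = D.nroots / 2) :
    D.steinbergCharacter F 1 = (Fintype.card F : ℂ) ^ (D.nroots / 2) := by
  classical
  have hBG := h8_B_le_group (F := F) D hB
  have hmain := st_chev_main D hB hA hC hBN hW hO2
    (1 : ↥((D.borelSubgroup F).subgroupOf (D.group F)))
  rw [map_one] at hmain
  rw [hmain]
  unfold Cfsg.fixedPointCharacter
  rw [MulAction.fixedBy_one_eq_univ, Nat.card_congr (Equiv.Set.univ _)]
  have hHB : (D.diagonalSubgroup F).subgroupOf (D.group F) ≤
      (D.borelSubgroup F).subgroupOf (D.group F) := by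
    intro x hx
    rw [Subgroup.mem_subgroupOf] at hx ⊢
    exact h8H_le_B D hx
  have hHG : D.diagonalSubgroup F ≤ D.group F := le_trans (h8H_le_B D) hBG
  have e1 : Nat.card ↥((D.borelSubgroup F).subgroupOf (D.group F)) =
      Nat.card ↥(D.borelSubgroup F) :=
    Nat.card_congr (Subgroup.subgroupOfEquivOfLe hBG).toEquiv
  have e2 : Nat.card ↥(((D.diagonalSubgroup F).subgroupOf (D.group F)).subgroupOf
      ((D.borelSubgroup F).subgroupOf (D.group F))) = Nat.card ↥(D.diagonalSubgroup F) := by
    rw [Nat.card_congr (Subgroup.subgroupOfEquivOfLe hHB).toEquiv,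
      Nat.card_congr (Subgroup.subgroupOfEquivOfLe hHG).toEquiv]
  have e3 := Subgroup.card_eq_card_quotient_mul_card_subgroup
    (((D.diagonalSubgroup F).subgroupOf (D.group F)).subgroupOf
      ((D.borelSubgroup F).subgroupOf (D.group F)))
  rw [e1, e2, h8borel_card D hB] at e3
  have hpos : 0 < Nat.card ↥(D.diagonalSubgroup F) := Nat.card_pos
  have e4 := Nat.eq_of_mul_eq_mul_right hpos e3
  rw [← e4, h8card_U D hB hC hO hO2 hlen]
  push_cast
  rfl

end Cfsg.Agent.Lib.helper14
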