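import Mathlib
import Cfsg.Agent.Lib.helper7.CEU.Defs
import Cfsg.Agent.Lib.Helper24.STCI1

/-!
# Project CEU (helper7, S2089), row Y1 (`Ys_map`, `Ys_eq`, `Ys_cj`), by helper14 (port of `Helper11.CECY1`).
-/

set_option autoImplicit false

namespace Cfsg.Agent.Lib.helper7.CEU

open Cfsg.Agent.Lib.helper15.St2 Cfsg.Agent.Lib.helper7.Ce Cfsg.Agent.Lib.helper3.STC Cfsg.Agent.Lib.Helper27.STU

open Cfsg.Agent.Lib.helper7.CEC (I2 I3 I4 U2 U3)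

section Y

variable {F : Type*} [Field F] [StarRing F] {od : Prop} {ι : Type*} {Γ G : Type*} [Group Γ] [Group G] {S : SysU F od ι G} {σ : Γ →* G}

/-- `ab a ≠ ab b` unpacked. -/
theorem ceuy1_ne {a b : ι ⊕ ι} (hab : ab a ≠ ab b) : a ≠ b ∧ a ≠ ng b := by
  constructor
  · intro e
    exact hab (ab_eq_iff.2 (Or.inl e))
  · intro e
    exact hab (ab_eq_iff.2 (Or.inr e))

/-- the relation short + short = short in the form `cm`. -/
theorem ceuy1_cm_xs (S : SysU F od ι G) {a c b : ι ⊕ ι} (hac : ab a ≠ ab c) (hcb : ab c ≠ ab b) (hab : ab a ≠ ab b) (t u : F) :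
    cm (S.xs a c t) (S.xs c b u) = S.xs a b (t * u) :=
  S.comm3 a c b (ceuy1_ne hac).1 (ceuy1_ne hac).2 (ceuy1_ne hcb).1 (ceuy1_ne hcb).2 (ceuy1_ne hab).1
    (ceuy1_ne hab).2 t u

/-- Y1 [S]  `map_cm`, `map_lf`, `S.comm3`. -/
theorem Ys_map (h : IsCE σ) {a c b : ι ⊕ ι} (hac : ab a ≠ ab c) (hcb : ab c ≠ ab b) (hab : ab a ≠ ab b) (t u : F) :
    σ (Ys S h a c b t u) = S.xs a b (t * u) := by
  unfold Ys
  rw [map_cm, map_lf, map_lf, ceuy1_cm_xs S hac hcb hab]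

/-- Y1 [S]  `IsCE.cm_congr`. -/
theorem Ys_eq (h : IsCE σ) {a c b : ι ⊕ ι} {t u : F} {p q : Γ} (hp : σ p = S.xs a c t) (hq : σ q = S.xs c b u) :
    cm p q = Ys S h a c b t u := by
  unfold Ys
  exact h.cm_congr (by rw [hp, map_lf]) (by rw [hq, map_lf])

/-- Y1 [S]  `cj_cm`, `Ys_eq`, `hg.2.1`. -/
theorem Ys_cj (h : IsCE σ) {g : G} {π : Equiv.Perm (ι ⊕ ι)} {d : ι ⊕ ι → F} {d0 : F} (hg : S.IsMon g π d d0) {e : Γ} (he : σ e = g)
    {a c b : ι ⊕ ι} (hac : ab a ≠ ab c) (hcb : ab c ≠ ab b) (t u : F) :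
    cj e (Ys S h a c b t u) = Ys S h (π a) (π c) (π b) (d a * (d c)⁻¹ * t) (d c * (d b)⁻¹ * u) := by
  have e1 : cj e (Ys S h a c b t u) = cm (cj e (lf h (S.xs a c t))) (cj e (lf h (S.xs c b u))) :=
    cj_cm e _ _
  rw [e1]
  apply Ys_eq h
  · rw [map_cj, he, map_lf]
    exact hg.2.1 a c (ceuy1_ne hac).1 (ceuy1_ne hac).2 t
  · rw [map_cj, he, map_lf]
    exact hg.2.1 c b (ceuy1_ne hcb).1 (ceuy1_ne hcb).2 u

end Y

end Cfsg.Agent.Lib.helper7.CEU
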