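import Mathlib
import Cfsg.Agent.Lib.helper7.CEU.Defs
import Cfsg.Agent.Lib.Helper24.STCI1
import Cfsg.Agent.Lib.helper14.CEUY1

/-!
# Project CEU (helper7, S2089), row Y2 (`Ys_add_left`, `Ys_add_right`, `Ys_zero_left`, `Ys_neg_left`), by helper14
(port of `Helper11.CECY2` / `helper14.CEDY2`).
-/

set_option autoImplicit false

namespace Cfsg.Agent.Lib.helper7.CEU

open Cfsg.Agent.Lib.helper15.St2 Cfsg.Agent.Lib.helper7.Ce Cfsg.Agent.Lib.helper3.STC Cfsg.Agent.Lib.Helper27.STU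

open Cfsg.Agent.Lib.helper7.CEC (I2 I3 I4 U2 U3)

section Y

variable {F : Type*} [Field F] [StarRing F] {od : Prop} {ι : Type*} {Γ G : Type*} [Group Γ] [Group G] {S : SysU F od ι G} {σ : Γ →* G}

/-- `hC` for the same short root. -/
theorem ceuy2_same (hC : HCs S σ) {a b : ι ⊕ ι} (hab : ab a ≠ ab b) (t u : F) :
    CL σ (S.xs a b t) (S.xs a b u) :=
  hC a b a b (ceuy1_ne hab).1 (ceuy1_ne hab).2 (ceuy1_ne hab).1 (ceuy1_ne hab).2 (ceuy1_ne hab).1.symm (ceuy1_ne hab).1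
    (ne_ng b) (ne_ng a) t u

/-- `hC` for two short roots in a row. -/
theorem ceuy2_row (hC : HCs S σ) {a c b : ι ⊕ ι} (hac : ab a ≠ ab c) (hcb : ab c ≠ ab b) (hab : ab a ≠ ab b) (t u : F) :
    CL σ (S.xs a c t) (S.xs a b u) :=
  hC a c a b (ceuy1_ne hac).1 (ceuy1_ne hac).2 (ceuy1_ne hab).1 (ceuy1_ne hab).2 (ceuy1_ne hac).1.symm (ceuy1_ne hab).1
    (ceuy1_ne hcb).2 (ne_ng a) t u

/-- `hC` for two short roots in a column. -/
theorem ceuy2_col (hC : HCs S σ) {a c b : ι ⊕ ι} (hac : ab a ≠ ab c) (hcb : ab c ≠ ab b) (hab : ab a ≠ ab b) (t u : F) :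
    CL σ (S.xs a b t) (S.xs c b u) :=
  hC a b c b (ceuy1_ne hab).1 (ceuy1_ne hab).2 (ceuy1_ne hcb).1 (ceuy1_ne hcb).2 (ceuy1_ne hcb).1.symm (ceuy1_ne hab).1
    (ne_ng b) (ceuy1_ne hac).2 t u

theorem ceuy2_comm (h : IsCE σ) (hC : HCs S σ) {a c c' b : ι ⊕ ι} (hac : ab a ≠ ab c) (hcb : ab c ≠ ab b)
    (hab : ab a ≠ ab b) (hac' : ab a ≠ ab c') (hcb' : ab c' ≠ ab b) (s t s' t' : F) :
    Ys S h a c b s t * Ys S h a c' b s' t' = Ys S h a c' b s' t' * Ys S h a c b s t :=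
  ceuy2_same hC hab _ _ _ _ (Ys_map h hac hcb hab s t) (Ys_map h hac' hcb' hab s' t')

/-- Y2 [M]  model `Helper11.CECY2` (the instances of `hC` are: same root, row, column). -/
theorem Ys_add_left (h : IsCE σ) (hC : HCs S σ) {a c b : ι ⊕ ι} (hac : ab a ≠ ab c) (hcb : ab c ≠ ab b) (hab : ab a ≠ ab b) (s s' t : F) :
    Ys S h a c b (s + s') t = Ys S h a c b s t * Ys S h a c b s' t := by
  have e1 : σ (lf h (S.xs a c s) * lf h (S.xs a c s')) = S.xs a c (s + s') := by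
    rw [map_mul, map_lf, map_lf, S.adds a c (ceuy1_ne hac).1 (ceuy1_ne hac).2]
  rw [← Ys_eq h e1 (map_lf h (S.xs c b t)), cm_mul_left]
  have e2 : lf h (S.xs a c s) * cm (lf h (S.xs a c s')) (lf h (S.xs c b t)) =
      cm (lf h (S.xs a c s')) (lf h (S.xs c b t)) * lf h (S.xs a c s) :=
    ceuy2_row hC hac hcb hab s (s' * t) _ _ (map_lf h _)
      (by rw [map_cm, map_lf, map_lf, ceuy1_cm_xs S hac hcb hab])
  rw [e2, mul_inv_cancel_right]
  exact ceuy2_comm h hC hac hcb hab hac hcb _ _ _ _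

theorem Ys_add_right (h : IsCE σ) (hC : HCs S σ) {a c b : ι ⊕ ι} (hac : ab a ≠ ab c) (hcb : ab c ≠ ab b) (hab : ab a ≠ ab b) (s t t' : F) :
    Ys S h a c b s (t + t') = Ys S h a c b s t * Ys S h a c b s t' := by
  have e1 : σ (lf h (S.xs c b t) * lf h (S.xs c b t')) = S.xs c b (t + t') := by
    rw [map_mul, map_lf, map_lf, S.adds c b (ceuy1_ne hcb).1 (ceuy1_ne hcb).2]
  rw [← Ys_eq h (map_lf h (S.xs a c s)) e1, cm_mul_right]
  have e2 : cm (lf h (S.xs a c s)) (lf h (S.xs c b t')) * lf h (S.xs c b t) =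
      lf h (S.xs c b t) * cm (lf h (S.xs a c s)) (lf h (S.xs c b t')) :=
    ceuy2_col hC hac hcb hab (s * t') t _ _
      (by rw [map_cm, map_lf, map_lf, ceuy1_cm_xs S hac hcb hab]) (map_lf h _)
  rw [← e2, mul_inv_cancel_right]
  rfl

theorem Ys_zero_left (h : IsCE σ) (hC : HCs S σ) {a c b : ι ⊕ ι} (hac : ab a ≠ ab c) (hcb : ab c ≠ ab b) (hab : ab a ≠ ab b) (t : F) :
    Ys S h a c b 0 t = 1 := by
  have := Ys_add_left h hC hac hcb hab 0 0 t
  rw [add_zero] at this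
  exact mul_eq_left.1 this.symm

theorem Ys_neg_left (h : IsCE σ) (hC : HCs S σ) {a c b : ι ⊕ ι} (hac : ab a ≠ ab c) (hcb : ab c ≠ ab b) (hab : ab a ≠ ab b) (s t : F) :
    Ys S h a c b (-s) t = (Ys S h a c b s t)⁻¹ := by
  have := Ys_add_left h hC hac hcb hab (-s) s t
  rw [neg_add_cancel, Ys_zero_left h hC hac hcb hab] at this
  exact eq_inv_of_mul_eq_one_left this.symm

end Y

end Cfsg.Agent.Lib.helper7.CEU
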