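import Mathlib
import Cfsg.Agent.Lib.helper7.CEU.Defs
import Cfsg.Agent.Lib.Helper24.STCI1
import Cfsg.Agent.Lib.helper14.CEUY2

/-!
# Project CEU (helper7, S2089), rows Y8 (`Xs_eq`) and Y9 (`Xs_sym`), by helper14 (ports of `Helper16.CECY8`, `Helper25.CECY9`).
-/

set_option autoImplicit false

namespace Cfsg.Agent.Lib.helper7.CEU

open Cfsg.Agent.Lib.helper15.St2 Cfsg.Agent.Lib.helper7.Ce Cfsg.Agent.Lib.helper3.STC Cfsg.Agent.Lib.Helper27.STU

open Cfsg.Agent.Lib.helper7.CEC (I2 I3 I4 U2 U3)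

section Y

variable {F : Type*} [Field F] [StarRing F] {od : Prop} {ι : Type*} {Γ G : Type*} [Group Γ] [Group G] {S : SysU F od ι G} {σ : Γ →* G}

/-- the chosen middle index of `Xs` -/
theorem ceuy8_choose (h3 : I3 ι) (a b : ι ⊕ ι) :
    ab (Classical.choose (h3 a b)) ≠ ab a ∧ ab (Classical.choose (h3 a b)) ≠ ab b :=
  Classical.choose_spec (h3 a b)

/-- Y8 [S]  `hB`, `hI`, `Classical.choose_spec`. -/
theorem Xs_eq (h : IsCE σ) (h3 : I3 ι) (hB : PB S h) (hI : PI S h) {a c b : ι ⊕ ι} (hac : ab a ≠ ab c) (hcb : ab c ≠ ab b) (hab : ab a ≠ ab b) (t u : F) :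
    Ys S h a c b t u = Xs S h h3 a b (t * u) := by
  obtain ⟨h1, h2⟩ := ceuy8_choose h3 a b
  unfold Xs
  rw [hB a c b hac hcb hab t u]
  exact hI a c _ b hac hcb (fun x => h1 x.symm) h2 hab (t * u)

/-- Y9 [M]  `Xs (ng b) (ng a) s = Ys (ng b) c' (ng a) s 1`; rewrite the two root elements by `S.sym`. -/
theorem Xs_sym (h : IsCE σ) (hC : HCs S σ) (h3 : I3 ι) (hB : PB S h) (hI : PI S h) {a b : ι ⊕ ι} (hab : ab a ≠ ab b) (t : F) :
    Xs S h h3 a b t = Xs S h h3 (ng b) (ng a) (-(star t)) := by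
  classical
  set s : F := -(star t) with hs
  obtain ⟨h1, h2⟩ := ceuy8_choose h3 (ng b) (ng a)
  set c' := Classical.choose (h3 (ng b) (ng a)) with hc'
  rw [ab_ng] at h1 h2
  -- `h1 : ab c' ≠ ab b`, `h2 : ab c' ≠ ab a`
  obtain ⟨hcb1, hcb2⟩ := ceuy1_ne h1
  obtain ⟨hca1, hca2⟩ := ceuy1_ne h2
  have hnbc : ng b ≠ c' := fun hh => hcb2 hh.symm
  have hnbc' : ng b ≠ ng c' := fun hh => hcb1 (ng_inj.1 hh).symm
  have hcna : c' ≠ ng a := hca2
  have hcna' : c' ≠ ng (ng a) := by rw [ng_ng]; exact hca1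
  have e1 : S.xs (ng b) c' s = S.xs (ng c') b (-(star s)) := by
    rw [S.sym (ng b) c' hnbc hnbc' s, ng_ng]
  have e2 : S.xs c' (ng a) 1 = S.xs a (ng c') (-1) := by
    rw [S.sym c' (ng a) hcna hcna' 1, ng_ng, star_one]
  have hp : σ (lf h (S.xs (ng b) c' s)) = S.xs (ng c') b (-(star s)) := by
    rw [map_lf, e1]
  have hq : σ (lf h (S.xs c' (ng a) 1)) = S.xs a (ng c') (-1) := by
    rw [map_lf, e2]
  have hR : Xs S h h3 (ng b) (ng a) s =
      cm (lf h (S.xs (ng b) c' s)) (lf h (S.xs c' (ng a) 1)) := rfl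
  rw [hR, ← inv_inv (cm (lf h (S.xs (ng b) c' s)) (lf h (S.xs c' (ng a) 1))), cm_inv_swap,
    Ys_eq h hq hp]
  have hanc : ab a ≠ ab (ng c') := by rw [ab_ng]; exact Ne.symm h2
  have hncb : ab (ng c') ≠ ab b := by rw [ab_ng]; exact h1
  rw [Xs_eq h h3 hB hI hanc hncb hab]
  have hval : (-1 * -(star s) : F) = -t := by
    rw [hs, star_neg, star_star]
    ring
  rw [hval]
  -- `Xs a b t = (Xs a b (-t))⁻¹`
  obtain ⟨k1, k2⟩ := ceuy8_choose h3 a b
  have hac0 : ab a ≠ ab (Classical.choose (h3 a b)) := fun x => k1 x.symm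
  have : Xs S h h3 a b (-t) = (Xs S h h3 a b t)⁻¹ := by
    unfold Xs
    exact Ys_neg_left h hC hac0 k2 hab t 1
  rw [this, inv_inv]

end Y

end Cfsg.Agent.Lib.helper7.CEU
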