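import Mathlib
import Cfsg.Agent.Lib.helper7.CEU.Defs
import Cfsg.Agent.Lib.Helper24.STCI1
import Cfsg.Agent.Lib.Helper24.STUM0
import Cfsg.Agent.Lib.helper14.CEUY8

/-!
# Project CEU (helper7, S2089), row Y10 (`shortLift_A2`), by helper14 (port of `Helper16.CECY10core` / `CECY10`).
-/

set_option autoImplicit false

namespace Cfsg.Agent.Lib.helper7.CEU

open Cfsg.Agent.Lib.helper15.St2 Cfsg.Agent.Lib.helper7.Ce Cfsg.Agent.Lib.helper3.STC Cfsg.Agent.Lib.Helper27.STU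

open Cfsg.Agent.Lib.helper7.CEC (I2 I3 I4 U2 U3)

section Y

variable {F : Type*} [Field F] [StarRing F] {od : Prop} {ι : Type*} {Γ G : Type*} [Group Γ] [Group G] {S : SysU F od ι G} {σ : Γ →* G}

/-- a permutation commuting with `ng` preserves `ab a ≠ ab b` -/
theorem ceuy10_ab_perm {π : Equiv.Perm (ι ⊕ ι)} (hπ : ∀ k, π (ng k) = ng (π k)) {x y : ι ⊕ ι} (hxy : ab x ≠ ab y) :
    ab (π x) ≠ ab (π y) := by
  intro e
  rcases ab_eq_iff.1 e with e1 | e1
  · exact hxy (by rw [π.injective e1])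
  · rw [← hπ] at e1
    exact hxy (by rw [π.injective e1, ab_ng])

theorem ceuy10_Xs_map (h : IsCE σ) (h3 : I3 ι) {a b : ι ⊕ ι} (hab : ab a ≠ ab b) (t : F) :
    σ (Xs S h h3 a b t) = S.xs a b t := by
  obtain ⟨h1, h2⟩ := ceuy8_choose h3 a b
  unfold Xs
  rw [Ys_map h (fun x => h1 x.symm) h2 hab, mul_one]

/-- Y10 [M]  the structure (model `CECY10`). -/
theorem shortLift_A2 (h : IsCE σ) (hC : HCs S σ) (h3 : I3 ι) (hB : PB S h) (hI : PI S h) :
    ∃ L : ShortLift S h, ∀ a b t, L.X a b t = Xs S h h3 a b t := by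
  refine ⟨{ X := Xs S h h3, map := ?_, add := ?_, sym := ?_, eqv := ?_, c3 := ?_ }, fun _ _ _ => rfl⟩
  · intro a b hab t
    exact ceuy10_Xs_map h h3 hab t
  · intro a b hab t u
    obtain ⟨h1, h2⟩ := ceuy8_choose h3 a b
    unfold Xs
    exact Ys_add_left h hC (fun x => h1 x.symm) h2 hab t u 1
  · intro a b hab t
    exact Xs_sym h hC h3 hB hI hab t
  · intro g π d d0 hg e he a b hab t
    obtain ⟨h1, h2⟩ := ceuy8_choose h3 a b
    have hac : ab a ≠ ab (Classical.choose (h3 a b)) := fun x => h1 x.symm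
    have hπ := hg.1.pi_ng
    have e1 : Xs S h h3 a b t = Ys S h a (Classical.choose (h3 a b)) b t 1 := rfl
    rw [e1, Ys_cj h hg he hac h2 t 1,
      Xs_eq h h3 hB hI (ceuy10_ab_perm hπ hac) (ceuy10_ab_perm hπ h2) (ceuy10_ab_perm hπ hab)]
    congr 1
    have hc := SysU.MonData.d_ne hg.1 (Classical.choose (h3 a b))
    field_simp
  · intro a c b hac hcb hab t u
    rw [Ys_eq h (ceuy10_Xs_map h h3 hac t) (ceuy10_Xs_map h h3 hcb u)]
    exact Xs_eq h h3 hB hI hac hcb hab t u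

end Y

end Cfsg.Agent.Lib.helper7.CEU
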