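import Mathlib
import Cfsg.Agent.Lib.helper7.CEU.Defs
import Cfsg.Agent.Lib.Helper24.STCI1
import Cfsg.Agent.Lib.helper14.CEUY2

/-!
# Project CEU (helper7, S2089), row Y3 (`Ys_B_torus`), by helper14 (port of `Helper5.CECY3`): the relation `PB` from the long torus
element `hl a ξ₁ ξ₂`, which scales `xs a c` by `r = ξ₁.c / ξ₂.c ≠ 1` and fixes `xs c b`.
-/

set_option autoImplicit false

namespace Cfsg.Agent.Lib.helper7.CEU

open Cfsg.Agent.Lib.helper15.St2 Cfsg.Agent.Lib.helper7.Ce Cfsg.Agent.Lib.helper3.STC Cfsg.Agent.Lib.Helper27.STU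

open Cfsg.Agent.Lib.helper7.CEC (I2 I3 I4 U2 U3)

section Y

variable {F : Type*} [Field F] [StarRing F] {od : Prop} {ι : Type*} {Γ G : Type*} [Group Γ] [Group G] {S : SysU F od ι G} {σ : Γ →* G}

/-- Y3 [M]  model `CECY3` (`Ys_B_torus`) with `g := S.hl a ξ₁ ξ₂` (`hH.2`). -/
theorem Ys_B_torus [DecidableEq ι] (h : IsCE σ) (hC : HCs S σ) (hH : S.HH) {ξ₁ ξ₂ : Lam F od} (h1 : ξ₁.c ≠ 0) (h2 : ξ₂.c ≠ 0)
    (hr : ξ₁.c ≠ ξ₂.c) : PB S h := by
  intro a c b hac hcb hab s t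
  set v : F := ξ₁.c / ξ₂.c with hvdef
  have hv0 : v ≠ 0 := div_ne_zero h1 h2
  have hv1 : v ≠ 1 := by
    intro e
    apply hr
    rw [hvdef, div_eq_iff h2, one_mul] at e
    exact e
  have hv' : v - 1 ≠ 0 := sub_ne_zero.2 hv1
  obtain ⟨hac1, hac2⟩ := ceuy1_ne hac
  obtain ⟨hcb1, hcb2⟩ := ceuy1_ne hcb
  obtain ⟨hab1, hab2⟩ := ceuy1_ne hab
  have hg : S.IsMon (S.hl a ξ₁ ξ₂) 1 (Cfsg.Agent.Lib.Helper27.STU.dhl a v) (d0h v) := hH.2 a ξ₁ ξ₂ h1 h2
  have hca : c ≠ a := fun e => hac1 e.symm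
  have hcna : c ≠ ng a := by
    intro e
    apply hac2
    rw [e, ng_ng]
  have hba : b ≠ a := fun e => hab1 e.symm
  have hbna : b ≠ ng a := by
    intro e
    apply hab2
    rw [e, ng_ng]
  have da : Cfsg.Agent.Lib.Helper27.STU.dhl a v a = v := by simp [Cfsg.Agent.Lib.Helper27.STU.dhl]
  have dc : Cfsg.Agent.Lib.Helper27.STU.dhl a v c = 1 := by simp [Cfsg.Agent.Lib.Helper27.STU.dhl, hca, hcna]
  have db : Cfsg.Agent.Lib.Helper27.STU.dhl a v b = 1 := by simp [Cfsg.Agent.Lib.Helper27.STU.dhl, hba, hbna]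
  set e := lf h (S.hl a ξ₁ ξ₂) with he
  have hme : σ e = S.hl a ξ₁ ξ₂ := map_lf h _
  have key : ∀ s' t', cm e (Ys S h a c b s' t') = Ys S h a c b ((v - 1) * s') t' := by
    intro s' t'
    have e1 : cm e (Ys S h a c b s' t') = cj e (Ys S h a c b s' t') * (Ys S h a c b s' t')⁻¹ := by
      unfold cm cj; group
    have e2 : cj e (Ys S h a c b s' t') = Ys S h a c b (v * s') t' := by
      rw [Ys_cj h hg hme hac hcb s' t', da, dc, db]
      simp
    have e3 : v * s' = (v - 1) * s' + s' := by ring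
    rw [e1, e2, e3, Ys_add_left h hC hac hcb hab, mul_inv_cancel_right]
  have e4 : cm e (Ys S h a c b ((v - 1)⁻¹ * s) t) = cm e (Ys S h a c b ((v - 1)⁻¹ * s * t) 1) := by
    refine h.cm_congr rfl ?_
    rw [Ys_map h hac hcb hab, Ys_map h hac hcb hab, mul_one]
  rw [key, key] at e4
  have e5 : (v - 1) * ((v - 1)⁻¹ * s) = s := by
    rw [← mul_assoc, mul_inv_cancel₀ hv', one_mul]
  have e6 : (v - 1) * ((v - 1)⁻¹ * s * t) = s * t := by
    rw [← mul_assoc, ← mul_assoc, mul_inv_cancel₀ hv', one_mul]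
  rw [e5, e6] at e4
  exact e4

end Y

end Cfsg.Agent.Lib.helper7.CEU
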