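import Mathlib
import Cfsg.Agent.Lib.helper7.CEU.Defs
import Cfsg.Agent.Lib.Helper24.STCI1
import Cfsg.Agent.Lib.helper14.CEUY1

/-!
# Project CEU (helper7, S2089), row Y4 (`Ys_milnor`), by helper14 (port of `Helper16.CECY4` / `helper14.CEDY4`):
Milnor's argument for the commutators `Ys` of lifts of short root elements.
-/

set_option autoImplicit false

namespace Cfsg.Agent.Lib.helper7.CEU

open Cfsg.Agent.Lib.helper15.St2 Cfsg.Agent.Lib.helper7.Ce Cfsg.Agent.Lib.helper3.STC Cfsg.Agent.Lib.Helper27.STU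

open Cfsg.Agent.Lib.helper7.CEC (I2 I3 I4 U2 U3)

section Y

variable {F : Type*} [Field F] [StarRing F] {od : Prop} {ι : Type*} {Γ G : Type*} [Group Γ] [Group G] {S : SysU F od ι G} {σ : Γ →* G}

/-- Y4 [M]  model `Helper16.CECY4` (`a, c, e, b` pairwise with different `ab`). -/
theorem Ys_milnor (h : IsCE σ) (hC : HCs S σ) {a c e b : ι ⊕ ι} (hac : ab a ≠ ab c) (hae : ab a ≠ ab e) (hab : ab a ≠ ab b)
    (hce : ab c ≠ ab e) (hcb : ab c ≠ ab b) (heb : ab e ≠ ab b) (s t : F) :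
    Ys S h a c b s t = Ys S h a e b (s * t) 1 := by
  set A := lf h (S.xs a c s) with hA
  set v := lf h (S.xs c e t) with hv
  set w := lf h (S.xs e b 1) with hw
  have sa : σ A = S.xs a c s := map_lf h _
  have sv : σ v = S.xs c e t := map_lf h _
  have sw : σ w = S.xs e b 1 := map_lf h _
  have sr : σ (cm v w) = S.xs c b t := by
    rw [map_cm, sv, sw, ceuy1_cm_xs S hce heb hcb, mul_one]
  have sp : σ (cm A v) = S.xs a e (s * t) := by
    rw [map_cm, sa, sv, ceuy1_cm_xs S hac hce hae]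
  rw [← Ys_eq h sa sr, ← Ys_eq h sp sw]
  have hec : ab e ≠ ab c := fun x => hce x.symm
  have e1 : A * w = w * A :=
    hC a c e b (ceuy1_ne hac).1 (ceuy1_ne hac).2 (ceuy1_ne heb).1 (ceuy1_ne heb).2 (ceuy1_ne hce).1 (ceuy1_ne hab).1
      (ceuy1_ne hcb).2 (ceuy1_ne hae).2 s 1 A w sa sw
  have e2 : cm A v * cm v w = cm v w * cm A v :=
    hC a e c b (ceuy1_ne hae).1 (ceuy1_ne hae).2 (ceuy1_ne hcb).1 (ceuy1_ne hcb).2 (ceuy1_ne hec).1 (ceuy1_ne hab).1
      (ceuy1_ne heb).2 (ceuy1_ne hac).2 (s * t) t _ _ sp sr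
  have e3 : cm (cm A v) w * cm v w = cm v w * cm (cm A v) w :=
    hC a b c b (ceuy1_ne hab).1 (ceuy1_ne hab).2 (ceuy1_ne hcb).1 (ceuy1_ne hcb).2 (ceuy1_ne hcb).1.symm (ceuy1_ne hab).1
      (ne_ng b) (ceuy1_ne hac).2 (s * t * 1) t _ _
      (by rw [map_cm, sp, sw, ceuy1_cm_xs S hae heb hab]) sr
  have e4 : cm A (cm v w) = cm A v * cm v w * (cm A v)⁻¹ * cm (cm A v) w * (cm v w)⁻¹ := by
    have e5 : cm A (cm v w) = cm (cm A v * v) (A * w * A⁻¹) * (cm v w)⁻¹ := by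
      unfold cm; group
    rw [e5, e1, mul_inv_cancel_right, cm_mul_left]
  rw [e4, e2, mul_inv_cancel_right, ← e3, mul_inv_cancel_right]

end Y

end Cfsg.Agent.Lib.helper7.CEU
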