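import Mathlib
import Cfsg.Agent.Lib.helper7.CEU.Defs
import Cfsg.Agent.Lib.helper14.CEUY4

/-!
# Project CEU (helper7, S2089), row Y5 (`Ys_BI_four`), by helper14 (port of `Helper5.CECY5`), on Y4 `Ys_milnor`.
-/

set_option autoImplicit false

namespace Cfsg.Agent.Lib.helper7.CEU

open Cfsg.Agent.Lib.helper15.St2 Cfsg.Agent.Lib.helper7.Ce Cfsg.Agent.Lib.helper3.STC Cfsg.Agent.Lib.Helper27.STU

open Cfsg.Agent.Lib.helper7.CEC (I2 I3 I4 U2 U3)

section Y

variable {F : Type*} [Field F] [StarRing F] {od : Prop} {ι : Type*} {Γ G : Type*} [Group Γ] [Group G] {S : SysU F od ι G} {σ : Γ →* G}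

/-- Y5 [S-M]  `m ≥ 4`: model `Helper5.CECY5`. -/
theorem Ys_BI_four (h : IsCE σ) (hC : HCs S σ) (h4 : I4 ι) : PB S h ∧ PI S h := by
  constructor
  · intro a c b hac hcb hab t u
    obtain ⟨e, hea, hec, heb⟩ := h4 a c b
    have h1 := Ys_milnor h hC hac hea.symm hab hec.symm hcb heb t u
    have h2 := Ys_milnor h hC hac hea.symm hab hec.symm hcb heb (t * u) 1
    rw [mul_one] at h2
    rw [h1, h2]
  · intro a c c' b hac hcb hac' hc'b hab t
    by_cases hcc : ab c = ab c'
    · obtain ⟨e, hea, hec, heb⟩ := h4 a c b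
      have hec' : ab e ≠ ab c' := by rw [← hcc]; exact hec
      have h1 := Ys_milnor h hC hac hea.symm hab hec.symm hcb heb t 1
      have h2 := Ys_milnor h hC hac' hea.symm hab hec'.symm hc'b heb t 1
      rw [h1, h2]
    · have h1 := Ys_milnor h hC hac hac' hab hcc hcb hc'b t 1
      rw [mul_one] at h1
      exact h1

end Y

end Cfsg.Agent.Lib.helper7.CEU
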