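import Mathlib
import Cfsg.Agent.Lib.helper7.CEU.Defs
import Cfsg.Agent.Lib.Helper24.STCI1
import Cfsg.Agent.Lib.helper4.CEUG2
import Cfsg.Agent.Lib.helper14.CEUY1

/-!
# Project CEU (helper7, S2089), rows Y6 (`Ys_flip`) and Y7 (`Ys_I_three`), by helper14 (ports of `Helper24.CECY6`, `Helper24.CECY7`).
-/

set_option autoImplicit false

namespace Cfsg.Agent.Lib.helper7.CEU

open Cfsg.Agent.Lib.helper15.St2 Cfsg.Agent.Lib.helper7.Ce Cfsg.Agent.Lib.helper3.STC Cfsg.Agent.Lib.Helper27.STU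

open Cfsg.Agent.Lib.helper7.CEC (I2 I3 I4 U2 U3)

section Y

variable {F : Type*} [Field F] [StarRing F] {od : Prop} {ι : Type*} {Γ G : Type*} [Group Γ] [Group G] {S : SysU F od ι G} {σ : Γ →* G}

theorem ceuy6_cj_eq_of_CL {g y : G} (hgy : CL σ g y) {e X : Γ} (he : σ e = g) (hX : σ X = y) :
    cj e X = X := by
  unfold cj
  rw [hgy e X he hX, mul_inv_cancel_right]

/-- Y6 [M]  conjugate by `e := lf h (S.wl c ξ₀)`. -/
theorem Ys_flip [DecidableEq ι] (h : IsCE σ) (hC : HCs S σ) (hCl : HCl S σ) (hW : S.HW) (hB : PB S h) {ξ₀ : Lam F od} (hξ₀ : ξ₀.c ≠ 0)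
    {a c b : ι ⊕ ι} (hac : ab a ≠ ab c) (hcb : ab c ≠ ab b) (hab : ab a ≠ ab b) (t : F) :
    Ys S h a c b t 1 = Ys S h a (ng c) b t 1 := by
  obtain ⟨h1, h2⟩ := ceuy1_ne hac
  obtain ⟨h3, h4⟩ := ceuy1_ne hcb
  obtain ⟨h5, h6⟩ := ceuy1_ne hab
  have h3' : b ≠ c := Ne.symm h3
  have h4' : b ≠ ng c := fun e => h4 (by rw [e, ng_ng])
  have h2' : c ≠ ng a := fun e => h2 (by rw [e, ng_ng])
  have hmon := hW.2 c ξ₀ hξ₀
  set e : Γ := lf h (S.wl c ξ₀) with he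
  have hσe : σ e = S.wl c ξ₀ := map_lf h _
  have hy : σ (Ys S h a c b t 1) = S.xs a b (t * 1) := Ys_map h hac hcb hab t 1
  have hCL : CL σ (S.wl c ξ₀) (S.xs a b (t * 1)) := by
    apply CL_wl h
    · intro ξ
      exact hCl c a b h5 h6 h2 h3' ξ _
    · intro ξ
      refine hCl (ng c) a b h5 h6 ?_ h4' ξ _
      rw [ng_ng]
      exact h1
  have e1 : cj e (Ys S h a c b t 1) = Ys S h a c b t 1 := ceuy6_cj_eq_of_CL hCL hσe hy
  have e2 := Ys_cj h hmon hσe hac hcb t (1 : F)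
  rw [e1, Equiv.swap_apply_of_ne_of_ne h1 h2, Equiv.swap_apply_left,
    Equiv.swap_apply_of_ne_of_ne h3' h4'] at e2
  have da : Cfsg.Agent.Lib.Helper27.STU.dwl c ξ₀ a = 1 := by
    unfold Cfsg.Agent.Lib.Helper27.STU.dwl
    rw [if_neg h1, if_neg h2]
  have dc : Cfsg.Agent.Lib.Helper27.STU.dwl c ξ₀ c = (star ξ₀.c)⁻¹ := by
    unfold Cfsg.Agent.Lib.Helper27.STU.dwl
    rw [if_pos rfl]
  have db : Cfsg.Agent.Lib.Helper27.STU.dwl c ξ₀ b = 1 := by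
    unfold Cfsg.Agent.Lib.Helper27.STU.dwl
    rw [if_neg h3', if_neg h4']
  rw [da, dc, db] at e2
  have hac' : ab a ≠ ab (ng c) := by rw [ab_ng]; exact hac
  have hcb' : ab (ng c) ≠ ab b := by rw [ab_ng]; exact hcb
  have hs : star ξ₀.c ≠ 0 := fun e0 => hξ₀ (by simpa using congrArg star e0)
  rw [e2, hB a (ng c) b hac' hcb' hab]
  congr 1
  field_simp

/-- Y7 [S]  `m = 3`: `ab c = ab c'` by `u3`, so `c' = c` or `c' = ng c` (`ab_eq_iff`); `Ys_flip`. -/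
theorem Ys_I_three [DecidableEq ι] (h : IsCE σ) (hC : HCs S σ) (hCl : HCl S σ) (hW : S.HW) (u3 : U3 ι) (hB : PB S h)
    {ξ₀ : Lam F od} (hξ₀ : ξ₀.c ≠ 0) : PI S h := by
  intro a c c' b hac hcb hac' hcb' hab t
  have hcc : ab c = ab c' := u3 a b c c' hab (Ne.symm hac) hcb (Ne.symm hac') hcb'
  rcases ab_eq_iff.1 hcc with e | e
  · rw [e]
  · rw [e]
    exact (Ys_flip h hC hCl hW hB hξ₀ hac' hcb' hab t).symm

end Y

end Cfsg.Agent.Lib.helper7.CEU
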