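import Mathlib
import Cfsg.Agent.Lib.helper14.ODNSQc
import Cfsg.Agent.Lib.helper14.ODNEXPLUSODD
import Cfsg.Agent.Lib.helper15.SQM.Defs
import Cfsg.Agent.Lib.helper15.SQMB3
import Cfsg.Agent.Lib.Lead.WittIndex

/-!
# Block ODNSQ (helper14), part d: NECESSITY for the `r = 2` clauses of S5989 / S5991 (cores against SQM rows).

`x ∈ Ω⁺_{2d}(q)`, `x * x = -1` ⟹ `Even d ∨ q % 8 = 1`;  `x ∈ Ω⁻_{2d}(q)`, `x * x = -1` ⟹ `Odd d ∧ q % 8 = 7`.
-/

set_option autoImplicit false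
set_option linter.unusedVariables false
set_option linter.unusedSectionVars false

namespace Cfsg.Agent.Lib.helper14.ODNSQ

open Module Matrix Cfsg.Agent.Lib.helper15.SQM

theorem odnsq_omegaGL_le {ι : Type} [Fintype ι] [DecidableEq ι] {F : Type*} [Field F] (Q : (ι → F) → F)
    (x : GL ι F) (hx : x ∈ Cfsg.Geo.omegaGL Q) : x ∈ Cfsg.isometryGroup F Q := by
  unfold Cfsg.Geo.omegaGL at hx
  rw [Subgroup.mem_map] at hx
  obtain ⟨g, -, rfl⟩ := hx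
  exact g.2

/-- the standard totally singular `d`-space of the plus form -/
def odnsq_xEmb (d : ℕ) (F : Type*) [Field F] : (Fin d → F) →ₗ[F] (Fin d ⊕ Fin d → F) :=
  LinearMap.pi (Sum.elim (fun i => LinearMap.proj i) (fun _ => 0))

theorem odnsq_xEmb_inj (d : ℕ) (F : Type*) [Field F] : Function.Injective (odnsq_xEmb d F) := by
  intro c c' h
  funext i
  have := congrFun h (.inl i)
  simpa [odnsq_xEmb] using this

theorem odnsq_plus_ts (d : ℕ) (F : Type*) [Field F] :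
    ∃ T : Submodule F (Fin d ⊕ Fin d → F), finrank F T = d ∧ ∀ w ∈ T, Cfsg.quadFormPlus d F w = 0 := by
  refine ⟨LinearMap.range (odnsq_xEmb d F), ?_, ?_⟩
  · rw [LinearMap.finrank_range_of_inj (odnsq_xEmb_inj d F), Module.finrank_fin_fun]
  · rintro w ⟨c, rfl⟩
    unfold Cfsg.quadFormPlus
    apply Finset.sum_eq_zero
    intro i _
    simp [odnsq_xEmb]

theorem odnsq_mod8_of_sq {F : Type*} [Field F] [Fintype F] (h2 : (2 : F) ≠ 0) (d : ℕ) (hd : Odd d)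
    (h : IsSquare ((2 : F) ^ d)) : Fintype.card F % 8 = 1 ∨ Fintype.card F % 8 = 7 := by
  rw [odnsq_two_pow h2] at h
  rcases h with h | h
  · exact absurd h (Nat.not_even_iff_odd.2 hd)
  · rw [FiniteField.isSquare_two_iff] at h
    have hodd : Fintype.card F % 2 = 1 := by
      by_contra hcon
      have h0 : Fintype.card F % 2 = 0 := by omega
      rw [← FiniteField.even_card_iff_char_two] at h0
      apply h2
      have := ringChar.Nat.cast_ringChar (R := F)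
      rw [h0] at this
      exact_mod_cast this
    omega

/-- PLUS necessity, from the statement of SQM row E3 (`sqm_ts_even`) for the standard plus form. -/
theorem odnsq_plus_nec_core {F : Type*} [Field F] [Fintype F] (h2 : (2 : F) ≠ 0) (d : ℕ)
    (hE3 : ∀ (x : Matrix.GeneralLinearGroup (Fin d ⊕ Fin d) F),
      x ∈ Cfsg.isometryGroup F ⇑(Cfsg.Agent.Lib.Helper16.qfPlus d F) →
      (x : Matrix (Fin d ⊕ Fin d) (Fin d ⊕ Fin d) F) * (x : Matrix (Fin d ⊕ Fin d) (Fin d ⊕ Fin d) F) = -1 →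
      ¬ IsSquare (-1 : F) → ∀ T : Submodule F (Fin d ⊕ Fin d → F),
      (∀ w ∈ T, Cfsg.Agent.Lib.Helper16.qfPlus d F w = 0) →
      2 * finrank F ↥T = Fintype.card (Fin d ⊕ Fin d) → Even (finrank F ↥T))
    (x : GL (Fin d ⊕ Fin d) F) (hx : x ∈ Cfsg.Geo.omegaGL (Cfsg.quadFormPlus d F))
    (hxx : (x : Matrix (Fin d ⊕ Fin d) (Fin d ⊕ Fin d) F) * (x : Matrix (Fin d ⊕ Fin d) (Fin d ⊕ Fin d) F) = -1) :
    Even d ∨ Fintype.card F % 8 = 1 := by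
  have hxO := odnsq_omegaGL_le _ x hx
  have hsq := (Cfsg.Agent.Lib.Helper1.ODN.odnexplusodd_plus_mem h2 d x hxO hxx).1 hx
  rcases Nat.even_or_odd d with hd | hd
  · exact Or.inl hd
  right
  rcases odnsq_mod8_of_sq h2 d hd hsq with h8 | h8
  · exact h8
  exfalso
  have hns : ¬ IsSquare (-1 : F) := by
    rw [FiniteField.isSquare_neg_one_iff]
    omega
  obtain ⟨T, hT, hTs⟩ := odnsq_plus_ts d F
  have hcard : Fintype.card (Fin d ⊕ Fin d) = 2 * d := by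
    rw [Fintype.card_sum, Fintype.card_fin]
    ring
  have := hE3 x hxO hxx hns T hTs (by rw [hT, hcard])
  rw [hT] at this
  exact (Nat.not_even_iff_odd.2 hd) this

/-- MINUS necessity, from the statements of SQM rows B1 (`sqm_frame1`) and C4 (`sqm_fix3`) for the standard minus form. -/
theorem odnsq_minus_nec_core {F : Type*} [Field F] [Fintype F] (h2 : (2 : F) ≠ 0) (k : ℕ) (a b : F)
    (hab : ∀ x y : F, x ^ 2 + a * x * y + b * y ^ 2 = 0 → x = 0 ∧ y = 0)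
    (hB1 : ∀ (x : Matrix.GeneralLinearGroup ((Fin k ⊕ Fin k) ⊕ Fin 2) F),
      x ∈ Cfsg.isometryGroup F ⇑(Cfsg.Agent.Lib.Helper16.qfMinus k F a b) →
      (x : Matrix ((Fin k ⊕ Fin k) ⊕ Fin 2) ((Fin k ⊕ Fin k) ⊕ Fin 2) F) *
        (x : Matrix ((Fin k ⊕ Fin k) ⊕ Fin 2) ((Fin k ⊕ Fin k) ⊕ Fin 2) F) = -1 →
      ∀ i0 : F, i0 * i0 = -1 → ∃ (d : ℕ) (e f : Fin d → (((Fin k ⊕ Fin k) ⊕ Fin 2) → F)),
        Frame1 (Cfsg.Agent.Lib.Helper16.qfMinus k F a b)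
          (x : Matrix ((Fin k ⊕ Fin k) ⊕ Fin 2) ((Fin k ⊕ Fin k) ⊕ Fin 2) F) i0 d e f)
    (hC4 : ∀ (x : Matrix.GeneralLinearGroup ((Fin k ⊕ Fin k) ⊕ Fin 2) F),
      x ∈ Cfsg.isometryGroup F ⇑(Cfsg.Agent.Lib.Helper16.qfMinus k F a b) →
      (x : Matrix ((Fin k ⊕ Fin k) ⊕ Fin 2) ((Fin k ⊕ Fin k) ⊕ Fin 2) F) *
        (x : Matrix ((Fin k ⊕ Fin k) ⊕ Fin 2) ((Fin k ⊕ Fin k) ⊕ Fin 2) F) = -1 →
      ∀ (d : ℕ) (v : Fin d → (((Fin k ⊕ Fin k) ⊕ Fin 2) → F)),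
        Frame3 (Cfsg.Agent.Lib.Helper16.qfMinus k F a b)
          (x : Matrix ((Fin k ⊕ Fin k) ⊕ Fin 2) ((Fin k ⊕ Fin k) ⊕ Fin 2) F) d v →
        ∀ j : ℕ, 2 * j ≤ d → ∃ W : Submodule F (((Fin k ⊕ Fin k) ⊕ Fin 2) → F), finrank F ↥W = 2 * j ∧
          (∀ w ∈ W, Cfsg.Agent.Lib.Helper16.qfMinus k F a b w = 0) ∧
          W.map (Matrix.toLin' (x : Matrix ((Fin k ⊕ Fin k) ⊕ Fin 2) ((Fin k ⊕ Fin k) ⊕ Fin 2) F)) ≤ W)
    (x : GL ((Fin k ⊕ Fin k) ⊕ Fin 2) F) (hx : x ∈ Cfsg.Geo.omegaGL (Cfsg.quadFormMinus k F a b))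
    (hxx : (x : Matrix ((Fin k ⊕ Fin k) ⊕ Fin 2) ((Fin k ⊕ Fin k) ⊕ Fin 2) F) *
      (x : Matrix ((Fin k ⊕ Fin k) ⊕ Fin 2) ((Fin k ⊕ Fin k) ⊕ Fin 2) F) = -1) :
    Odd (k + 1) ∧ Fintype.card F % 8 = 7 := by
  have hxO := odnsq_omegaGL_le _ x hx
  have hsq := (Cfsg.Agent.Lib.Helper1.ODN.odnexplusodd_minus_mem h2 k a b hab x hxO hxx).1 hx
  have hcard : Fintype.card ((Fin k ⊕ Fin k) ⊕ Fin 2) = 2 * (k + 1) := by
    rw [Fintype.card_sum, Fintype.card_sum, Fintype.card_fin, Fintype.card_fin]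
    ring
  have hnd := Cfsg.Agent.Lib.Helper16.OSemi.qfMinus_nondeg k a b hab
  -- `-1` is not a square
  have hns : ¬ IsSquare (-1 : F) := by
    rintro ⟨i0, hi0⟩
    obtain ⟨d, e, f, hfr⟩ := hB1 x hxO hxx i0 hi0.symm
    obtain ⟨W, hW, hWs, -⟩ := sqm_fix1 (Cfsg.Agent.Lib.Helper16.qfMinus k F a b) _ i0 d e f hfr d le_rfl
    have hle : d ≤ k := by
      rw [← hW]
      exact Cfsg.Agent.Lib.Lead.WI.minus_ts_le (k := k) (a := a) (b := b) hab W hWs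
    have hc := hfr.card
    rw [hcard] at hc
    omega
  have hq4 : Fintype.card F % 4 = 3 := by
    by_contra hcon
    exact hns (FiniteField.isSquare_neg_one_iff.2 hcon)
  -- `k + 1` is odd
  have hodd : Odd (k + 1) := by
    rw [← Nat.not_even_iff_odd]
    rintro ⟨j, hj⟩
    set X : Matrix ((Fin k ⊕ Fin k) ⊕ Fin 2) ((Fin k ⊕ Fin k) ⊕ Fin 2) F := ((x : GL ((Fin k ⊕ Fin k) ⊕ Fin 2) F) : Matrix ((Fin k ⊕ Fin k) ⊕ Fin 2) ((Fin k ⊕ Fin k) ⊕ Fin 2) F) with hX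
    have hXX : ∀ v, X *ᵥ (X *ᵥ v) = -v := by
      intro v
      rw [Matrix.mulVec_mulVec, hxx, Matrix.neg_mulVec, Matrix.one_mulVec]
    have hXQ : ∀ v, Cfsg.Agent.Lib.Helper16.qfMinus k F a b (X *ᵥ v) = Cfsg.Agent.Lib.Helper16.qfMinus k F a b v :=
      fun v => hxO v v
    obtain ⟨k', e, hk', he, h3, h4⟩ := odnsq_frame h2 _ hnd X hXX hXQ
    have hfr : Frame3 (Cfsg.Agent.Lib.Helper16.qfMinus k F a b) X k' e :=
      ⟨he, h3, fun j l _ => h4 j l, hk'⟩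
    obtain ⟨W, hW, hWs, -⟩ := hC4 x hxO hxx k' e hfr j (by omega)
    have hle : 2 * j ≤ k := by
      rw [← hW]
      exact Cfsg.Agent.Lib.Lead.WI.minus_ts_le (k := k) (a := a) (b := b) hab W hWs
    omega
  refine ⟨hodd, ?_⟩
  rcases odnsq_mod8_of_sq h2 (k + 1) hodd hsq with h8 | h8
  · omega
  · exact h8

end Cfsg.Agent.Lib.helper14.ODNSQ
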