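import Mathlib
import Cfsg.Agent.Lib.Helper19.S5954.Defs

/-!
# Project S5954 (designer helper19), row UCAYLEY (`h_cayley`), written by helper14.

Hermitian twin of helper6's `s5956ublkeven_cayley`: the Cayley transform `y = (1 + A)(1 - A)⁻¹` of a `B`-skew nilpotent `A`.
-/

set_option autoImplicit false
set_option linter.unusedVariables false
set_option linter.unusedSectionVars false

namespace Cfsg.Agent.Lib.Helper19.S5954

open Polynomial Module Cfsg.Agent.Lib.Helper13.S5955 Cfsg.Agent.Lib.helper14.JTa Cfsg.Agent.Lib.Helper11.S5956U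

variable {F : Type*} [Field F] {V : Type*} [AddCommGroup V] [Module F V]

/-- UCAYLEY -/
theorem h_cayley {p : ℕ} [Fact p.Prime] [CharP F p] (hp2 : 2 < p) {σ : F →+* F}
    (B : V →ₛₗ[σ] V →ₗ[F] F) (hσσ : ∀ a, σ (σ a) = a) (hne : ∃ a, σ a ≠ a)
    (hsymm : ∀ u v, σ (B u v) = B v u) (hnd : ∀ u, (∀ v, B u v = 0) → u = 0)
    (A : Module.End F V) (hskew : ∀ u v, B (A u) v = - B u (A v)) (hA : A ^ p = 0) :
    ∃ y : Module.End F V, HCtx p σ B y ∧ ∀ j, dk (y - 1) j = dk A j := by
  classical
  set G : Module.End F V := ∑ i ∈ Finset.range p, A ^ i with hG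
  have h1 : (1 - A) * G = 1 := by
    rw [hG, mul_neg_geom_sum, hA, sub_zero]
  have h2 : G * (1 - A) = 1 := by
    rw [hG, geom_sum_mul_neg, hA, sub_zero]
  have hcAG : Commute A G := by
    rw [hG]
    exact Commute.sum_right _ _ _ (fun i _ => (Commute.refl A).pow_right i)
  have h2F : (2 : F) ≠ 0 := by
    intro h
    have : ((2 : ℕ) : F) = 0 := by exact_mod_cast h
    rw [CharP.cast_eq_zero_iff F p] at this
    have := Nat.le_of_dvd (by norm_num) this
    omega
  have hy1 : (1 + A) * G - 1 = (2 : F) • (A * G) := by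
    have : (1 + A) * G - 1 = (1 + A) * G - (1 - A) * G := by rw [h1]
    rw [this, ← sub_mul, two_smul, ← add_mul]
    congr 1
    abel
  refine ⟨(1 + A) * G, ⟨hσσ, hne, hsymm, hnd, ?_, ?_⟩, ?_⟩
  · -- isometry
    intro u v
    have hu : u = (1 - A) (G u) := by
      rw [← Module.End.mul_apply, h1, Module.End.one_apply]
    have hv : v = (1 - A) (G v) := by
      rw [← Module.End.mul_apply, h1, Module.End.one_apply]
    obtain ⟨u', hu'⟩ : ∃ u', u' = G u := ⟨_, rfl⟩
    obtain ⟨v', hv'⟩ : ∃ v', v' = G v := ⟨_, rfl⟩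
    rw [← hu'] at hu
    rw [← hv'] at hv
    rw [Module.End.mul_apply, Module.End.mul_apply, ← hu', ← hv']
    conv_rhs => rw [hu, hv]
    simp only [LinearMap.add_apply, LinearMap.sub_apply, Module.End.one_apply, map_add, map_sub]
    rw [hskew u' v']
    ring
  · -- order
    have hpow : ((1 + A) * G - 1) ^ p = 0 := by
      rw [hy1, _root_.smul_pow, hcAG.mul_pow, hA, zero_mul, smul_zero]
    have hpoly : ((X : F[X]) - 1) ^ p = X ^ p - 1 := by
      rw [sub_pow_char, one_pow]
    have := congrArg (aeval ((1 + A) * G)) hpoly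
    simp only [map_pow, map_sub, aeval_X, map_one] at this
    rw [hpow] at this
    exact (sub_eq_zero.mp this.symm)
  · intro j
    have hpj : ((1 + A) * G - 1) ^ j = (2 : F) ^ j • (G ^ j * A ^ j) := by
      rw [hy1, _root_.smul_pow, hcAG.mul_pow, ((hcAG.pow_left j).pow_right j).eq]
    have hc1 : Commute (1 - A) G := (Commute.one_left G).sub_left hcAG
    have hinv : (1 - A) ^ j * G ^ j = 1 := by
      rw [← hc1.mul_pow, h1, one_pow]
    unfold dk
    have hker : LinearMap.ker (((1 + A) * G - 1) ^ j) = LinearMap.ker (A ^ j) := by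
      ext v
      rw [LinearMap.mem_ker, LinearMap.mem_ker, hpj, LinearMap.smul_apply, Module.End.mul_apply]
      constructor
      · intro h
        have h3 : (G ^ j) ((A ^ j) v) = 0 := by
          rcases smul_eq_zero.mp h with h | h
          · exact absurd h (pow_ne_zero _ h2F)
          · exact h
        have := congrArg (fun w => ((1 - A) ^ j : Module.End F V) w) h3
        rw [← Module.End.mul_apply, hinv, Module.End.one_apply, map_zero] at this
        exact this
      · intro h
        rw [h, map_zero, smul_zero]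
    rw [hker]

end Cfsg.Agent.Lib.Helper19.S5954
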