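import Mathlib
import Cfsg.Agent.Lib.Helper19.S5954.Defs
import Cfsg.Agent.Lib.helper14.S5954UCAYLEY
import Cfsg.Agent.Lib.helper14.JTb

/-!
# Project S5954 (designer helper19), row UBLK (`h_blk`), CORE, written by helper14.

The antidiagonal `ε`-hermitian form `B' u v = Σ_i ε (-1)^i σ(u_i) v_(m-i)` on `Fin (m + 1) → F`, for which the shift is skew; Cayley transform (`p > 2`)
or `1 + shift` (`s ≤ 2`); the transport to the standard space (row UTRANSPORT) is a hypothesis here.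
-/

set_option autoImplicit false
set_option linter.unusedVariables false
set_option linter.unusedSectionVars false

namespace Cfsg.Agent.Lib.Helper19.S5954

open Polynomial Module Cfsg.Agent.Lib.Helper13.S5955 Cfsg.Agent.Lib.helper14.JTa Cfsg.Agent.Lib.helper14.JTb
  Cfsg.Agent.Lib.Helper11.S5956U

variable {F : Type*} [Field F]

/-- the antidiagonal form `B' u v = Σ_i ε (-1)^i σ(u_i) v_(m-i)` -/
noncomputable def s5954ublk_B (σ : F →+* F) (ε : F) (m : ℕ) :
    (Fin (m + 1) → F) →ₛₗ[σ] (Fin (m + 1) → F) →ₗ[F] F :=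
  LinearMap.mk₂'ₛₗ σ (RingHom.id F)
    (fun u v => ∑ i : Fin (m + 1), ε * (-1 : F) ^ (i : ℕ) * σ (u i) * v (Fin.rev i))
    (by intro a b c; simp only [Pi.add_apply, map_add, mul_add, add_mul, Finset.sum_add_distrib])
    (by
      intro c a b
      simp only [Pi.smul_apply, smul_eq_mul, map_mul, Finset.mul_sum]
      exact Finset.sum_congr rfl (fun i _ => by ring))
    (by intro a b c; simp only [Pi.add_apply, mul_add, Finset.sum_add_distrib])
    (by
      intro c a b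
      simp only [Pi.smul_apply, smul_eq_mul, RingHom.id_apply, Finset.mul_sum]
      exact Finset.sum_congr rfl (fun i _ => by ring))

theorem s5954ublk_B_apply (σ : F →+* F) (ε : F) (m : ℕ) (u v : Fin (m + 1) → F) :
    s5954ublk_B σ ε m u v = ∑ i : Fin (m + 1), ε * (-1 : F) ^ (i : ℕ) * σ (u i) * v (Fin.rev i) := rfl

theorem s5954ublk_B_skew (σ : F →+* F) (ε : F) (m : ℕ) (u v : Fin (m + 1) → F) :
    s5954ublk_B σ ε m (shift F (m + 1) u) v = - s5954ublk_B σ ε m u (shift F (m + 1) v) := by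
  rw [s5954ublk_B_apply, s5954ublk_B_apply]
  rw [Fin.sum_univ_castSucc, Fin.sum_univ_succ (fun i : Fin (m + 1) =>
    ε * (-1 : F) ^ (i : ℕ) * σ (u i) * (shift F (m + 1) v) (Fin.rev i))]
  have h1 : shift F (m + 1) u (Fin.last m) = 0 := by
    rw [shift_apply, dif_neg]
    simp
  have h2 : shift F (m + 1) v (Fin.rev 0) = 0 := by
    rw [shift_apply, dif_neg]
    simp [Fin.rev]
  rw [h1, h2, map_zero, mul_zero, zero_mul, add_zero, mul_zero, zero_add, ← Finset.sum_neg_distrib]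
  refine Finset.sum_congr rfl (fun i _ => ?_)
  have h3 : shift F (m + 1) u (Fin.castSucc i) = u i.succ := by
    rw [shift_apply, dif_pos (by simp)]
    rfl
  have h4 : shift F (m + 1) v (Fin.rev i.succ) = v (Fin.rev (Fin.castSucc i)) := by
    rw [Fin.rev_succ, shift_apply, dif_pos (by have := (Fin.rev i).isLt; simp only [Fin.val_castSucc]; omega),
      Fin.rev_castSucc]
    rfl
  rw [h3, h4, Fin.val_castSucc, Fin.val_succ, pow_succ]
  ring

theorem s5954ublk_B_symm (σ : F →+* F) (hσσ : ∀ a, σ (σ a) = a) (ε : F) (m : ℕ)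
    (hε : σ ε * (-1) ^ m = ε) (u v : Fin (m + 1) → F) :
    σ (s5954ublk_B σ ε m u v) = s5954ublk_B σ ε m v u := by
  rw [s5954ublk_B_apply, s5954ublk_B_apply, map_sum]
  conv_rhs => rw [← Equiv.sum_comp Fin.revPerm]
  refine Finset.sum_congr rfl (fun i _ => ?_)
  simp only [Fin.revPerm_apply, Fin.rev_rev, map_mul, map_pow, map_neg, map_one, hσσ]
  have hs : (-1 : F) ^ ((Fin.rev i : Fin (m + 1)) : ℕ) * (-1) ^ (i : ℕ) = (-1) ^ m := by
    rw [← pow_add]
    congr 1
    rw [Fin.val_rev]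
    have := i.isLt
    omega
  have hb : (-1 : F) ^ ((Fin.rev i : Fin (m + 1)) : ℕ) * (-1 : F) ^ ((Fin.rev i : Fin (m + 1)) : ℕ) = 1 := by
    rw [← mul_pow]
    simp
  linear_combination ((-1 : F) ^ ((Fin.rev i : Fin (m + 1)) : ℕ) * σ (v (Fin.rev i)) * u i) * hε +
    (σ ε * (-1 : F) ^ ((Fin.rev i : Fin (m + 1)) : ℕ) * σ (v (Fin.rev i)) * u i) * hs +
    (-(σ ε * (-1 : F) ^ (i : ℕ) * σ (v (Fin.rev i)) * u i)) * hb

theorem s5954ublk_B_nd (σ : F →+* F) (hσσ : ∀ a, σ (σ a) = a) (ε : F) (hε0 : ε ≠ 0) (m : ℕ)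
    (u : Fin (m + 1) → F) (hu : ∀ v, s5954ublk_B σ ε m u v = 0) : u = 0 := by
  funext i
  have := hu (Pi.single (Fin.rev i) 1)
  rw [s5954ublk_B_apply, Finset.sum_eq_single i] at this
  · rw [Pi.single_eq_same, mul_one] at this
    have h3 : σ (u i) = 0 := by
      rcases mul_eq_zero.1 this with h | h
      · rcases mul_eq_zero.1 h with h | h
        · exact absurd h hε0
        · exact absurd h (pow_ne_zero _ (neg_ne_zero.2 one_ne_zero))
      · exact h
    have h4 := congrArg σ h3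
    rwa [hσσ, map_zero] at h4
  · intro b _ hb
    have : Fin.rev b ≠ Fin.rev i := fun h => hb (Fin.rev_injective h)
    rw [Pi.single_apply, if_neg this, mul_zero]
  · intro h
    exact absurd (Finset.mem_univ i) h

theorem s5954ublk_shift_pow (b n : ℕ) (hbn : b ≤ n) : (shift F b) ^ n = 0 := by
  apply LinearMap.ext
  intro v
  funext i
  rw [shift_pow_apply, dif_neg (by have := i.isLt; omega)]
  rfl

/-- `1 + A` for a skew `A` with `A ^ 2 = 0` (any characteristic `p`) -/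
theorem s5954ublk_sq_zero {V : Type*} [AddCommGroup V] [Module F V] {p : ℕ} [Fact p.Prime] [CharP F p]
    {σ : F →+* F} (B : V →ₛₗ[σ] V →ₗ[F] F) (hσσ : ∀ a, σ (σ a) = a) (hne : ∃ a, σ a ≠ a)
    (hsymm : ∀ u v, σ (B u v) = B v u) (hnd : ∀ u, (∀ v, B u v = 0) → u = 0)
    (A : Module.End F V) (hskew : ∀ u v, B (A u) v = - B u (A v)) (hA : A ^ 2 = 0) :
    ∃ y : Module.End F V, HCtx p σ B y ∧ ∀ j, dk (y - 1) j = dk A j := by
  refine ⟨1 + A, ⟨hσσ, hne, hsymm, hnd, ?_, ?_⟩, ?_⟩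
  · intro u v
    have h1 : B (A u) (A v) = 0 := by
      rw [hskew, ← Module.End.mul_apply, ← pow_two, hA]
      simp
    simp only [LinearMap.add_apply, Module.End.one_apply, map_add]
    rw [hskew u v, h1]
    ring
  · have hpow : ((1 + A) - 1) ^ p = 0 := by
      rw [add_sub_cancel_left]
      exact pow_eq_zero_of_le (Nat.Prime.two_le Fact.out) hA
    have hpoly : ((X : F[X]) - 1) ^ p = X ^ p - 1 := by
      rw [sub_pow_char, one_pow]
    have := congrArg (aeval (1 + A)) hpoly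
    simp only [map_pow, map_sub, aeval_X, map_one] at this
    rw [hpow] at this
    exact (sub_eq_zero.mp this.symm)
  · intro j
    rw [add_sub_cancel_left]

/-- UBLK, with the instance of UTRANSPORT as a hypothesis -/
theorem s5954ublk_core {p : ℕ} [Fact p.Prime] [CharP F p] (σ : F →+* F) (hσσ : ∀ a, σ (σ a) = a)
    (hne : ∃ a, σ a ≠ a) (s : ℕ) (hs : 1 ≤ s) (hsp : s ≤ p)
    (htr : ∀ (B' : (Fin s → F) →ₛₗ[σ] (Fin s → F) →ₗ[F] F) (y' : Module.End F (Fin s → F)),
      HCtx p σ B' y' →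
        ∃ y : Module.End F (Fin s → F), HCtx p σ (stdH s σ) y ∧ ∀ j, dk (y - 1) j = dk (y' - 1) j) :
    ∃ y : Module.End F (Fin s → F), HCtx p σ (stdH s σ) y ∧ ∀ j, dk (y - 1) j = tyf {s} j := by
  obtain ⟨m, rfl⟩ : ∃ m, s = m + 1 := ⟨s - 1, by omega⟩
  obtain ⟨a, ha⟩ := hne
  -- the coefficient ε
  obtain ⟨ε, hε0, hε⟩ : ∃ ε : F, ε ≠ 0 ∧ σ ε * (-1) ^ m = ε := by
    rcases Nat.even_or_odd m with hm | hm
    · exact ⟨1, one_ne_zero, by rw [map_one, hm.neg_one_pow, mul_one]⟩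
    · refine ⟨a - σ a, ?_, ?_⟩
      · intro h
        exact ha (sub_eq_zero.1 h).symm
      · rw [map_sub, hσσ, hm.neg_one_pow]
        ring
  have hy' : ∃ y' : Module.End F (Fin (m + 1) → F), HCtx p σ (s5954ublk_B σ ε m) y' ∧
      ∀ j, dk (y' - 1) j = dk (shift F (m + 1)) j := by
    by_cases hp2 : 2 < p
    · exact h_cayley hp2 (s5954ublk_B σ ε m) hσσ ⟨a, ha⟩ (s5954ublk_B_symm σ hσσ ε m hε)
        (s5954ublk_B_nd σ hσσ ε hε0 m) (shift F (m + 1)) (s5954ublk_B_skew σ ε m)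
        (s5954ublk_shift_pow (m + 1) p hsp)
    · have hp : p = 2 := by
        have := Nat.Prime.two_le (Fact.out : p.Prime)
        omega
      exact s5954ublk_sq_zero (s5954ublk_B σ ε m) hσσ ⟨a, ha⟩ (s5954ublk_B_symm σ hσσ ε m hε)
        (s5954ublk_B_nd σ hσσ ε hε0 m) (shift F (m + 1)) (s5954ublk_B_skew σ ε m)
        (s5954ublk_shift_pow (m + 1) 2 (by omega))
  obtain ⟨y', hctx, hdk⟩ := hy'
  obtain ⟨y, hy, hdk'⟩ := htr _ y' hctx
  refine ⟨y, hy, fun j => ?_⟩
  rw [hdk', hdk, dk_shift]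
  simp [tyf]

end Cfsg.Agent.Lib.Helper19.S5954
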