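import Mathlib
import Cfsg.Agent.Lib.Helper19.S5954.Defs
import Cfsg.Agent.Lib.helper14.S5954UBLKcore
import Cfsg.Agent.Lib.Lead.S5954UTRANSPORT

/-!
# Project S5954 (designer helper19), row UBLK (`h_blk`), verbatim wrapper, written by helper14
(`s5954ublk_core` + lead's `h_transport`).
-/

set_option autoImplicit false
set_option linter.unusedVariables false
set_option linter.unusedSectionVars false

namespace Cfsg.Agent.Lib.Helper19.S5954

open Polynomial Module Cfsg.Agent.Lib.Helper13.S5955 Cfsg.Agent.Lib.helper14.JTa Cfsg.Agent.Lib.Helper11.S5956U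

variable {F : Type*} [Field F] {V : Type*} [AddCommGroup V] [Module F V]

/-- UBLK -/
theorem h_blk [Finite F] {p : ℕ} [Fact p.Prime] [CharP F p] (σ : F →+* F) (hσσ : ∀ a, σ (σ a) = a)
    (hne : ∃ a, σ a ≠ a) (s : ℕ) (hs : 1 ≤ s) (hsp : s ≤ p) :
    ∃ y : Module.End F (Fin s → F), HCtx p σ (stdH s σ) y ∧ ∀ j, dk (y - 1) j = tyf {s} j :=
  s5954ublk_core σ hσσ hne s hs hsp
    (fun B' y' h => h_transport B' y' h s (Module.finrank_fin_fun F))

end Cfsg.Agent.Lib.Helper19.S5954
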