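import Mathlib
import Cfsg.Agent.Lib.helper7.CEC.Defs
import Cfsg.Agent.Lib.Helper24.STCI1

/-! Project CEC (designer helper7; S2092), row L4 (`Dl_cj`), by helper14; with own-name copies of the
L1 facts `Zl_eq`, `Zl_cj`. -/

set_option autoImplicit false

namespace Cfsg.Agent.Lib.helper7.CEC

open Cfsg.Agent.Lib.helper15.St2 Cfsg.Agent.Lib.helper7.Ce Cfsg.Agent.Lib.helper3.STC

section L

variable {K : Type*} [Field K] {ι : Type*} {Γ G : Type*} [Group Γ] [Group G] {S : SysC K ι G} {σ : Γ →* G} {h : IsCE σ}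

/-- own-name copy of L1 `Zl_eq` -/
theorem cecl4_Zl_eq (h : IsCE σ) {a b : ι ⊕ ι} {t u : K} {p q : Γ} (hp : σ p = S.x a (ng a) t) (hq : σ q = S.x (ng a) b u) :
    cm p q = Zl S h a b t u := by
  unfold Zl
  exact h.cm_congr (by rw [hp, map_lf]) (by rw [hq, map_lf])

/-- own-name copy of L1 `Zl_cj` -/
theorem cecl4_Zl_cj (h : IsCE σ) {g : G} {π : Equiv.Perm (ι ⊕ ι)} {d : ι ⊕ ι → K} (hg : S.IsMon g π d) (hπ : ∀ k, π (ng k) = ng (π k))
    {e : Γ} (he : σ e = g) {a b : ι ⊕ ι} (hab : ab a ≠ ab b) (t u : K) :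
    cj e (Zl S h a b t u) = Zl S h (π a) (π b) (d a * (d (ng a))⁻¹ * t) (d (ng a) * (d b)⁻¹ * u) := by
  have hnab : ng a ≠ b := by
    intro x
    apply hab
    rw [← x, ab_ng]
  unfold Zl
  rw [cj_cm]
  apply cecl4_Zl_eq h
  · rw [map_cj, he, map_lf, hg.2 a (ng a) (ne_ng a) t, hπ]
  · rw [map_cj, he, map_lf, hg.2 (ng a) b hnab u, hπ]

/-- L4 -/
theorem Dl_cj (L : ShortLift S h) {g : G} {π : Equiv.Perm (ι ⊕ ι)} {d : ι ⊕ ι → K} (hg : S.IsMon g π d) (hπ : ∀ k, π (ng k) = ng (π k))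
    {e : Γ} (he : σ e = g) {a b : ι ⊕ ι} (hab : ab a ≠ ab b) (t u : K) :
    cj e (Dl L a b t u) = Dl L (π a) (π b) (d a * (d (ng a))⁻¹ * t) (d (ng a) * (d b)⁻¹ * u) := by
  unfold Dl
  rw [cj_mul, cj_inv, cecl4_Zl_cj h hg hπ he hab, L.eqv g π d hg hπ e he a b hab]
  have hd : d (ng a) ≠ 0 := hg.1 (ng a)
  have e1 : d a * (d b)⁻¹ * (t * u) = d a * (d (ng a))⁻¹ * t * (d (ng a) * (d b)⁻¹ * u) := by
    field_simp
  rw [e1]

end L

end Cfsg.Agent.Lib.helper7.CEC
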