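import Cfsg.Agent.Lib.helper14.PgV

set_option autoImplicit false

/-!
# Centralisers in a stabiliser chain whose base is an orbit segment

If the base of a stabiliser chain is `b, v b, v² b, …` then an element `h` of the group commuting
with `v` is determined by the image `y` of `b`: the images of the base points are `y, v y, …`.
For every `y` the unique candidate is constructed by descending the chain (one transversal
element per level, found with the inverse of the product so far: no search), and the candidates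
for `y` outside the `v`-cycle of `b` are shown not to commute with `v` at a sample point.
Consequence: the centraliser of `v` consists of the powers of `v`.
-/

namespace Cfsg.Agent.Lib.helper14.PV

open Cfsg.Agent.Lib.helper23 Subgroup MulAction

/-- the base point of the first level (if any) is the image of `b` under `vf` -/
def pgHeadOk (vf : ℕ → ℕ) (b : ℕ) : List PgLvlW → Bool
  | [] => true
  | L' :: _ => Nat.beq L'.b (vf b)

/-- consecutive base points are mapped to each other by `vf` -/
def pgAdaptedW (vf : ℕ → ℕ) : List PgLvlW → Bool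
  | [] => true
  | L :: C => pgHeadOk vf L.b C && pgAdaptedW vf C

theorem pgAdaptedW_cons (vf : ℕ → ℕ) (L : PgLvlW) (C : List PgLvlW) :
    pgAdaptedW vf (L :: C) = (pgHeadOk vf L.b C && pgAdaptedW vf C) := rfl

theorem pgHeadOk_cons (vf : ℕ → ℕ) (b : ℕ) (L' : PgLvlW) (C : List PgLvlW) :
    pgHeadOk vf b (L' :: C) = Nat.beq L'.b (vf b) := rfl

/-- the descent: `pre` is the product of the transversal elements so far, `preinv` its inverse,
`y` the required image of the base point of the first level -/
def pgDescV (n : ℕ) (vf : ℕ → ℕ) (final : (ℕ → ℕ) → Bool) :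
    List PgLvlW → (ℕ → ℕ) → (ℕ → ℕ) → ℕ → Bool
  | [], pre, _, _ => final pre
  | L :: C, pre, preinv, y =>
      pgForce (preinv y) (fun z => cond (L.inO z)
        (pgDescV n vf final C (fun p => pre (pgEvalW L.own (L.path z) p))
          (fun p => pgEvalW L.own (pgInvW L.own.length (L.path z)) (preinv p)) (vf y))
        true)

theorem pgDescV_sound {n : ℕ} (vf : ℕ → ℕ) (v : Equiv.Perm (Fin n)) (hv : PgRep vf v)
    (final : (ℕ → ℕ) → Bool) (h : Equiv.Perm (Fin n)) (hc : ∀ p : Fin n, h (v p) = v (h p)) :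
    ∀ C : List PgLvlW, PgValidW n C → pgAdaptedW vf C = true →
    ∀ (pre preinv : ℕ → ℕ) (W : Equiv.Perm (Fin n)) (y : ℕ),
      (∀ p : Fin n, pre p.1 = (W p).1) → (∀ p : Fin n, preinv p.1 = (W⁻¹ p).1) →
      (∀ L ∈ C.head?, ∀ hb : L.b < n, (h ⟨L.b, hb⟩).1 = y) →
      pgDescV n vf final C pre preinv y = true →
      ∀ h' ∈ pgGrpW n C, h = W * h' →
      ∃ f : ℕ → ℕ, (∀ p : Fin n, f p.1 = (h p).1) ∧ final f = true := by
  intro C
  induction C with
  | nil =>
    intro _ _ pre preinv W y hpre _ _ hen h' hh' hW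
    rw [pgGrpW_nil, Subgroup.mem_bot] at hh'
    rw [hh', mul_one] at hW
    refine ⟨pre, ?_, hen⟩
    intro p
    rw [hW]
    exact hpre p
  | cons L C ih =>
    intro hval hadapt pre preinv W y hpre hpreinv hhead hen h' hh' hW
    obtain ⟨h0, horbAll, hstabAll, hvalC⟩ := hval
    obtain ⟨hb, -, hok, -, -, hU, -⟩ := pgChkLvlW0_spec h0
    have horb := horbAll h' hh' hb
    set z : Fin n := h' ⟨L.b, hb⟩ with hz
    have hy : (h ⟨L.b, hb⟩).1 = y := hhead L (by simp) hb
    have hpz : preinv y = z.1 := by
      rw [← hy, hpreinv, hW, Equiv.Perm.mul_apply]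
      simp [hz]
    have hen' : pgDescV n vf final C (fun p => pre (pgEvalW L.own (L.path z.1) p))
        (fun p => pgEvalW L.own (pgInvW L.own.length (L.path z.1)) (preinv p)) (vf y) = true := by
      have e : pgDescV n vf final (L :: C) pre preinv y =
          pgForce (preinv y) (fun z => cond (L.inO z)
            (pgDescV n vf final C (fun p => pre (pgEvalW L.own (L.path z) p))
              (fun p => pgEvalW L.own (pgInvW L.own.length (L.path z)) (preinv p)) (vf y))
            true) := rfl
      rw [e, pgForce_eq, hpz, horb] at hen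
      exact hen
    set u := pgWordPerm n L.own (L.path z.1) with hu
    have humem : u ∈ pgGrpW n (L :: C) := pgWordPerm_mem hok _
    obtain ⟨hlet, hUz⟩ := hU z.1 z.2 horb
    have hub : u ⟨L.b, hb⟩ = z := by
      apply Fin.ext
      rw [hu, pgWordPerm_apply hok]
      exact hUz
    have hinv := pgInvW_perm hok (L.path z.1) hlet
    have hh'' : u⁻¹ * h' ∈ pgGrpW n C := by
      apply hstabAll _ (mul_mem (inv_mem humem) hh') hb
      rw [Equiv.Perm.mul_apply, ← hz, ← hub]
      simp
    refine ih hvalC ?_ _ _ (W * u) (vf y) ?_ ?_ ?_ hen' _ hh'' ?_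
    · -- adaptedness of the tail
      rw [pgAdaptedW_cons, Bool.and_eq_true] at hadapt
      exact hadapt.2
    · intro p
      show pre (pgEvalW L.own (L.path z.1) p.1) = _
      rw [Equiv.Perm.mul_apply, ← hpre, hu, pgWordPerm_apply hok]
    · intro p
      show pgEvalW L.own (pgInvW L.own.length (L.path z.1)) (preinv p.1) = _
      rw [mul_inv_rev, Equiv.Perm.mul_apply, hpreinv p, ← pgWordPerm_apply hok, hinv]
    · -- the image of the next base point
      intro L' hL' hb'
      cases C with
      | nil => simp at hL'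
      | cons L'' C' =>
        simp only [List.head?_cons, Option.mem_def, Option.some.injEq] at hL'
        subst hL'
        rw [pgAdaptedW_cons, pgHeadOk_cons, Bool.and_eq_true, Nat.beq_eq] at hadapt
        have hbb : (⟨L''.b, hb'⟩ : Fin n) = v ⟨L.b, hb⟩ := by
          apply Fin.ext
          rw [← hv]
          exact hadapt.1
        rw [hbb, hc, ← hv, hy]
    · rw [hW]
      group

/-- an element of the group of a stabiliser chain fixing all base points is the identity -/
theorem pgFixBase_one {n : ℕ} : ∀ C : List PgLvlW, PgValidW n C → ∀ g ∈ pgGrpW n C,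
    (∀ L ∈ C, ∀ hb : L.b < n, g ⟨L.b, hb⟩ = ⟨L.b, hb⟩) → g = 1 := by
  intro C
  induction C with
  | nil =>
    intro _ g hg _
    rw [pgGrpW_nil, Subgroup.mem_bot] at hg
    exact hg
  | cons L C ih =>
    intro hval g hg hfix
    obtain ⟨h0, -, hstabAll, hvalC⟩ := hval
    obtain ⟨hb, -⟩ := pgChkLvlW0_spec h0
    have hgC := hstabAll g hg hb (hfix L List.mem_cons_self hb)
    exact ih hvalC g hgC (fun L' hL' hb' => hfix L' (List.mem_cons_of_mem _ hL') hb')

theorem PgValidW.base_lt {n : ℕ} : ∀ {C : List PgLvlW}, PgValidW n C → ∀ L ∈ C, L.b < n := by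
  intro C
  induction C with
  | nil => intro _ L hL; exact absurd hL List.not_mem_nil
  | cons L C ih =>
    intro hval L' hL'
    rcases List.mem_cons.1 hL' with rfl | hL'
    · exact (pgChkLvlW0_spec hval.1).1
    · exact ih hval.2.2.2 L' hL'

/-- an element commuting with `v` and fixing the first base point fixes all base points -/
theorem pgAdapted_fix {n : ℕ} (vf : ℕ → ℕ) (v : Equiv.Perm (Fin n)) (hv : PgRep vf v)
    (g : Equiv.Perm (Fin n)) (hc : ∀ p : Fin n, g (v p) = v (g p)) :
    ∀ C : List PgLvlW, pgAdaptedW vf C = true → (∀ L ∈ C, L.b < n) →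
    (∀ L ∈ C.head?, ∀ hb : L.b < n, g ⟨L.b, hb⟩ = ⟨L.b, hb⟩) →
    ∀ L ∈ C, ∀ hb : L.b < n, g ⟨L.b, hb⟩ = ⟨L.b, hb⟩ := by
  intro C
  induction C with
  | nil => intro _ _ _ L hL; exact absurd hL List.not_mem_nil
  | cons L C ih =>
    intro hadapt hlt hhead L' hL' hb'
    rcases List.mem_cons.1 hL' with rfl | hL'
    · exact hhead _ (by simp) hb'
    · rw [pgAdaptedW_cons, Bool.and_eq_true] at hadapt
      apply ih hadapt.2 (fun L0 hL0 => hlt L0 (List.mem_cons_of_mem _ hL0)) _ L' hL' hb'
      intro L'' hL'' hb''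
      cases C with
      | nil => simp at hL''
      | cons L3 C' =>
        simp only [List.head?_cons, Option.mem_def, Option.some.injEq] at hL''
        subst hL''
        have h1 := hadapt.1
        rw [pgHeadOk_cons, Nat.beq_eq] at h1
        have hb : L.b < n := hlt L List.mem_cons_self
        have hbb : (⟨L3.b, hb''⟩ : Fin n) = v ⟨L.b, hb⟩ := by
          apply Fin.ext
          rw [← hv]
          exact h1
        rw [hbb, hc, hhead L (by simp) hb]

/-- the candidate does not commute with `v` at one of the sample points -/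
def pgNonComm (n : ℕ) (vf : ℕ → ℕ) (samples : List ℕ) (f : ℕ → ℕ) : Bool :=
  pgAnyL samples (fun s => Nat.blt s n && !(Nat.beq (f (vf s)) (vf (f s))))

/-- the check for the centraliser: for the images `y` of the first base point outside the
`v`-cycle, the candidate does not commute with `v` -/
def pgCentCycChk (n : ℕ) (vf : ℕ → ℕ) (samples : List ℕ) (m b1 : ℕ) (C : List PgLvlW)
    (lo cnt : ℕ) : Bool :=
  pgAll cnt (fun k => pgForce (Nat.add lo k) (fun y =>
    cond (pgAnyL (List.range m) (fun j => Nat.beq (pgIter vf j b1) y)) true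
      (pgDescV n vf (pgNonComm n vf samples) C (fun p => p) (fun p => p) y)))

theorem pgCentCycChk_append {n : ℕ} {vf : ℕ → ℕ} {samples : List ℕ} {m b1 : ℕ}
    {C : List PgLvlW} {lo c1 c2 : ℕ} (h1 : pgCentCycChk n vf samples m b1 C lo c1 = true)
    (h2 : pgCentCycChk n vf samples m b1 C (lo + c1) c2 = true) :
    pgCentCycChk n vf samples m b1 C lo (c1 + c2) = true := by
  unfold pgCentCycChk at h1 h2 ⊢
  rw [pgAll_add, Bool.and_eq_true]
  refine ⟨h1, ?_⟩
  rw [pgAll_iff] at h2 ⊢
  intro k hk
  have := h2 k hk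
  simp only [Nat.add_eq] at this ⊢
  rwa [Nat.add_assoc] at this

/-- the centraliser of `v` in the group of a stabiliser chain whose base is an orbit segment of
`v` consists of the powers of `v` -/
theorem pgCentCyc {n : ℕ} {L : PgLvlW} {C : List PgLvlW} (hval : PgValidW n (L :: C))
    (vf : ℕ → ℕ) (v : Equiv.Perm (Fin n)) (hv : PgRep vf v) (hvG : v ∈ pgGrpW n (L :: C))
    (hadapt : pgAdaptedW vf (L :: C) = true) (samples : List ℕ) (m : ℕ)
    (hen : pgCentCycChk n vf samples m L.b (L :: C) 0 n = true) :
    ∀ h ∈ pgGrpW n (L :: C), h * v = v * h → h ∈ zpowers v := by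
  intro h hh hcomm
  have hc : ∀ p : Fin n, h (v p) = v (h p) := by
    intro p
    rw [← Equiv.Perm.mul_apply, ← Equiv.Perm.mul_apply, hcomm]
  obtain ⟨hb, -⟩ := pgChkLvlW0_spec hval.1
  set y : Fin n := h ⟨L.b, hb⟩ with hy
  unfold pgCentCycChk at hen
  have hen1 := (pgAll_iff _ _).1 hen y.1 y.2
  rw [pgForce_eq] at hen1
  have e0 : Nat.add 0 y.1 = y.1 := Nat.zero_add _
  rw [e0] at hen1
  cases hcyc : pgAnyL (List.range m) (fun j => Nat.beq (pgIter vf j L.b) y.1) with
  | true =>
    obtain ⟨k, -, hk⟩ := (pgAnyL_iff _ _).1 hcyc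
    rw [Nat.beq_eq] at hk
    have hvk : (v ^ k) ⟨L.b, hb⟩ = y := by
      apply Fin.ext
      rw [← pgIter_perm v vf hv k ⟨L.b, hb⟩]
      exact hk
    set g := (v ^ k)⁻¹ * h with hg
    have hgG : g ∈ pgGrpW n (L :: C) := mul_mem (inv_mem (pow_mem hvG k)) hh
    have hgc : ∀ p : Fin n, g (v p) = v (g p) := by
      intro p
      have hcg : g * v = v * g := by
        rw [hg]
        have h1 : (v ^ k)⁻¹ * v = v * (v ^ k)⁻¹ := by
          rw [← zpow_natCast, ← zpow_neg]
          exact ((Commute.refl v).zpow_left _).eq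
        calc (v ^ k)⁻¹ * h * v = (v ^ k)⁻¹ * (h * v) := by group
          _ = (v ^ k)⁻¹ * (v * h) := by rw [hcomm]
          _ = ((v ^ k)⁻¹ * v) * h := by group
          _ = (v * (v ^ k)⁻¹) * h := by rw [h1]
          _ = v * ((v ^ k)⁻¹ * h) := by group
      rw [← Equiv.Perm.mul_apply, ← Equiv.Perm.mul_apply, hcg]
    have hgb : g ⟨L.b, hb⟩ = ⟨L.b, hb⟩ := by
      rw [hg, Equiv.Perm.mul_apply, ← hy, ← hvk]
      simp
    have hfixall := pgAdapted_fix vf v hv g hgc (L :: C) hadapt hval.base_lt
      (by
        intro L' hL' hb'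
        simp only [List.head?_cons, Option.mem_def, Option.some.injEq] at hL'
        subst hL'
        exact hgb)
    have hg1 := pgFixBase_one (L :: C) hval g hgG hfixall
    have : h = v ^ k := by
      have : h = v ^ k * g := by rw [hg]; group
      rw [this, hg1, mul_one]
    rw [this]
    exact Subgroup.pow_mem _ (mem_zpowers v) k
  | false =>
    exfalso
    rw [hcyc] at hen1
    simp only [cond_false] at hen1
    obtain ⟨f, hf, hfin⟩ := pgDescV_sound vf v hv (pgNonComm n vf samples) h hc (L :: C) hval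
      hadapt (fun p => p) (fun p => p) 1 y.1 (fun _ => rfl) (fun _ => rfl)
      (by
        intro L' hL' hb'
        simp only [List.head?_cons, Option.mem_def, Option.some.injEq] at hL'
        subst hL'
        rfl)
      hen1 h hh (one_mul h).symm
    unfold pgNonComm at hfin
    obtain ⟨s, -, hs⟩ := (pgAnyL_iff _ _).1 hfin
    rw [Bool.and_eq_true, Nat.blt_eq] at hs
    obtain ⟨hsn, hs2⟩ := hs
    have : f (vf s) = vf (f s) := by
      have e1 : vf s = (v ⟨s, hsn⟩).1 := hv ⟨s, hsn⟩
      have e2 : f s = (h ⟨s, hsn⟩).1 := hf ⟨s, hsn⟩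
      rw [e1, e2, hf, hv, hc]
    have hbeq : Nat.beq (vf (f s)) (vf (f s)) = true := by rw [Nat.beq_eq]
    rw [this, hbeq] at hs2
    exact absurd hs2 (by decide)

end Cfsg.Agent.Lib.helper14.PV
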