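import Cfsg.Agent.Lib.helper14.MSf
import Cfsg.Agent.Lib.helper14.MSi
import Cfsg.Agent.Lib.helper14.PgV2

set_option autoImplicit false
set_option maxRecDepth 1000000

/-!
# The Conway group `Co₂` on 4600 points: elements of order 23 and 11 and their centralisers

`moSc` of order 23, `moSu` of order 11 with `u c u⁻¹ = c²`, the involution `moSt` inverting `u`;
`c` and `t` generate the group; two stabiliser chains with top generators `c, t` whose bases are
orbit segments of `c` resp. `u`, certified by the order; the centralisers of `c` and `u` are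
`⟨c⟩` and `⟨u⟩`.
-/

namespace Cfsg.Agent.Lib.helper14.MS

open Cfsg.Agent.Lib.helper23 Cfsg.Agent.Lib.helper14.PV Subgroup MulAction

/-- the element of order 23 -/
def moPc : PFun := mdgen moTc moIc

/-- the involution -/
def moPt : PFun := mdgen moTt moIt

/-- the element of order 11 -/
def moPu : PFun := mdgen moTu moIu

theorem moPc_ok : moPc.ok 4600 = true := by decide +kernel

theorem moPt_ok : moPt.ok 4600 = true := by decide +kernel

theorem moPu_ok : moPu.ok 4600 = true := by decide +kernel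

/-- the element of order 23 -/
def moSc : Equiv.Perm (Fin 4600) := moPc.perm 4600

/-- the involution -/
def moSt : Equiv.Perm (Fin 4600) := moPt.perm 4600

/-- the element of order 11 -/
def moSu : Equiv.Perm (Fin 4600) := moPu.perm 4600

theorem moRc : PgRep moPc.f moSc := PgRep.perm moPc_ok

theorem moRt : PgRep moPt.f moSt := PgRep.perm moPt_ok

theorem moRu : PgRep moPu.f moSu := PgRep.perm moPu_ok

theorem moRci : PgRep moPc.g moSc⁻¹ := PgRep.perm_inv moPc_ok

theorem moRep_pow {n : ℕ} {f : ℕ → ℕ} {a : Equiv.Perm (Fin n)} (h : PgRep f a) (k : ℕ) :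
    PgRep (fun p => pgIter f k p) (a ^ k) := fun p => pgIter_perm a f h k p

/-! ### Orders and relations -/

theorem moSc_pow : moSc ^ 23 = 1 :=
  (pgEq_iff (moRep_pow moRc 23) PgRep.one).1 (by decide +kernel)

theorem moSc_ne : moSc ≠ 1 := (pgEq_false_iff moRc PgRep.one).1 (by decide +kernel)

theorem moSc_order : orderOf moSc = 23 := by
  have : Fact (Nat.Prime 23) := ⟨by norm_num⟩
  exact orderOf_eq_prime moSc_pow moSc_ne

theorem moSu_pow : moSu ^ 11 = 1 :=
  (pgEq_iff (moRep_pow moRu 11) PgRep.one).1 (by decide +kernel)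

theorem moSu_ne : moSu ≠ 1 := (pgEq_false_iff moRu PgRep.one).1 (by decide +kernel)

theorem moSu_order : orderOf moSu = 11 := by
  have : Fact (Nat.Prime 11) := ⟨by norm_num⟩
  exact orderOf_eq_prime moSu_pow moSu_ne

theorem moSu_c : moSu * moSc * moSu⁻¹ = moSc ^ 2 := by
  have h1 := PgRep.mul moRu moRc
  have h2 := PgRep.mul (PgRep.mul moRc moRc) moRu
  have h : moSu * moSc = moSc * moSc * moSu := (pgEq_iff h1 h2).1 (by decide +kernel)
  rw [h, pow_two]
  group

theorem moSt_u : moSt * moSu * moSt⁻¹ = moSu⁻¹ := by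
  have h1 := PgRep.mul (PgRep.mul moRu moRt) moRu
  have h : moSu * moSt * moSu = moSt := (pgEq_iff h1 moRt).1 (by decide +kernel)
  calc moSt * moSu * moSt⁻¹ = moSu⁻¹ * (moSu * moSt * moSu) * moSt⁻¹ := by group
    _ = moSu⁻¹ * moSt * moSt⁻¹ := by rw [h]
    _ = moSu⁻¹ := by group

/-- a word in two elements -/
def moW {G : Type*} [Group G] (x y : G) : G := x * y * x * x * x * x * y * x * x * y

theorem moW_map {G : Type*} [Group G] (γ : MulAut G) (x y : G) :
    γ (moW x y) = moW (γ x) (γ y) := by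
  unfold moW
  simp only [map_mul]

theorem moW_rep {n : ℕ} {f g : ℕ → ℕ} {a b : Equiv.Perm (Fin n)} (hf : PgRep f a)
    (hg : PgRep g b) :
    PgRep (fun p => f (g (f (f (f (f (g (f (f (g p)))))))))) (moW a b) :=
  ((((((((hf.mul hg).mul hf).mul hf).mul hf).mul hf).mul hg).mul hf).mul hf).mul hg

theorem moW_pos : (moW moSc moSt) ^ 12 = 1 :=
  (pgEq_iff (moRep_pow (moW_rep moRc moRt) 12) PgRep.one).1 (by decide +kernel)

theorem mobad_neg : ∀ i : ℕ, i < 11 → (moW moSc⁻¹ (moSt * moSu ^ i)) ^ 12 ≠ 1 := by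
  intro i hi
  have h := moRep_pow (moW_rep moRci (moRt.mul (moRep_pow moRu i))) 12
  refine (pgEq_false_iff h PgRep.one).1 ?_
  interval_cases i <;> decide +kernel

theorem mobad_pos : ∀ i : ℕ, i < 11 → i ≠ 0 → (moW moSc (moSt * moSu ^ i)) ^ 12 ≠ 1 := by
  intro i hi h0
  have h := moRep_pow (moW_rep moRc (moRt.mul (moRep_pow moRu i))) 12
  refine (pgEq_false_iff h PgRep.one).1 ?_
  interval_cases i
  · exact absurd rfl h0
  all_goals decide +kernel

/-! ### Membership and generation -/

theorem moSc_mem : moSc ∈ M4600 := by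
  rw [M4600_eq]
  exact pgSiftW_sound' msC mschk0 moPc.f moSc moRc (by decide +kernel)

theorem moSt_mem : moSt ∈ M4600 := by
  rw [M4600_eq]
  exact pgSiftW_sound' msC mschk0 moPt.f moSt moRt (by decide +kernel)

theorem moSu_mem : moSu ∈ M4600 := by
  rw [M4600_eq]
  exact pgSiftW_sound' msC mschk0 moPu.f moSu moRu (by decide +kernel)

/-! ### The two chains -/

theorem mdcchk0x6 : pgChkLvlW0 4600 mdcL6 [] = true := by decide +kernel

theorem mdcchk0x5 : pgChkLvlW0 4600 mdcL5 [mdcL6] = true := by decide +kernel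

theorem mdcchk0x4 : pgChkLvlW0 4600 mdcL4 [mdcL5, mdcL6] = true := by decide +kernel

theorem mdcchk0x3 : pgChkLvlW0 4600 mdcL3 [mdcL4, mdcL5, mdcL6] = true := by decide +kernel

theorem mdcchk0x2 : pgChkLvlW0 4600 mdcL2 [mdcL3, mdcL4, mdcL5, mdcL6] = true := by decide +kernel

theorem mdcchk0x1 : pgChkLvlW0 4600 mdcL1 [mdcL2, mdcL3, mdcL4, mdcL5, mdcL6] = true := by decide +kernel

theorem mdchk0 : pgChk0W 4600 mdC = true := by
  unfold mdC
  rw [pgChk0W_cons, pgChk0W_cons, pgChk0W_cons, pgChk0W_cons, pgChk0W_cons, pgChk0W_cons, mdcchk0x1, mdcchk0x2, mdcchk0x3, mdcchk0x4, mdcchk0x5, mdcchk0x6]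
  rfl

theorem mecchk0x6 : pgChkLvlW0 4600 mecL6 [] = true := by decide +kernel

theorem mecchk0x5 : pgChkLvlW0 4600 mecL5 [mecL6] = true := by decide +kernel

theorem mecchk0x4 : pgChkLvlW0 4600 mecL4 [mecL5, mecL6] = true := by decide +kernel

theorem mecchk0x3 : pgChkLvlW0 4600 mecL3 [mecL4, mecL5, mecL6] = true := by decide +kernel

theorem mecchk0x2 : pgChkLvlW0 4600 mecL2 [mecL3, mecL4, mecL5, mecL6] = true := by decide +kernel

theorem mecchk0x1 : pgChkLvlW0 4600 mecL1 [mecL2, mecL3, mecL4, mecL5, mecL6] = true := by decide +kernel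

theorem mechk0 : pgChk0W 4600 meC = true := by
  unfold meC
  rw [pgChk0W_cons, pgChk0W_cons, pgChk0W_cons, pgChk0W_cons, pgChk0W_cons, pgChk0W_cons, mecchk0x1, mecchk0x2, mecchk0x3, mecchk0x4, mecchk0x5, mecchk0x6]
  rfl

theorem mdord : pgOrdW 4600 mdC = 42305421312000 := by decide +kernel

theorem meord : pgOrdW 4600 meC = 42305421312000 := by decide +kernel

theorem moset_eq : pgSet 4600 mdcL1.own = {moSc, moSt} := by
  ext x
  constructor
  · rintro ⟨P, hP, rfl⟩
    change P ∈ [moPc, moPt] at hP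
    simp only [List.mem_cons, List.not_mem_nil, or_false] at hP
    rcases hP with rfl | rfl
    · exact Or.inl rfl
    · exact Or.inr rfl
  · rintro (rfl | rfl)
    · exact ⟨moPc, List.mem_cons_self, rfl⟩
    · exact ⟨moPt, List.mem_cons_of_mem _ List.mem_cons_self, rfl⟩

theorem mdgrp_eq : pgGrpW 4600 mdC = closure {moSc, moSt} := by
  rw [← moset_eq]
  rfl

theorem megrp_eq : pgGrpW 4600 meC = closure {moSc, moSt} := by
  rw [← moset_eq]
  rfl

instance M4600_finite : Finite ↥M4600 :=
  Nat.finite_of_card_ne_zero (by rw [M4600_card]; norm_num)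

/-- the two elements generate the group -/
theorem moclosure : closure {moSc, moSt} = M4600 := by
  have hle : closure {moSc, moSt} ≤ M4600 := by
    rw [closure_le]
    rintro x (rfl | rfl)
    · exact moSc_mem
    · exact moSt_mem
  apply Subgroup.eq_of_le_of_card_ge hle
  rw [M4600_card, ← mdgrp_eq]
  have := pgCardW_ge mdC mdchk0
  rw [mdord] at this
  exact this

theorem mdgrp : pgGrpW 4600 mdC = M4600 := by rw [mdgrp_eq, moclosure]

theorem megrp : pgGrpW 4600 meC = M4600 := by rw [megrp_eq, moclosure]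

theorem mdvalid : PgValidW 4600 mdC := by
  apply (pgValid_of_card mdC mdchk0 _).1
  rw [mdgrp, M4600_card, mdord]

theorem mevalid : PgValidW 4600 meC := by
  apply (pgValid_of_card meC mechk0 _).1
  rw [megrp, M4600_card, meord]

/-! ### The centralisers -/

theorem mdadapt : pgAdaptedW moPc.f mdC = true := by decide +kernel

theorem meadapt : pgAdaptedW moPu.f meC = true := by decide +kernel

theorem mdcentchk : pgCentCycChk 4600 moPc.f [] 23 mdcL1.b (mdcL1 :: [mdcL2, mdcL3, mdcL4, mdcL5, mdcL6]) 0 4600 = true := by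
  decide +kernel

theorem mecentchk : pgCentCycChk 4600 moPu.f [] 11 mecL1.b (mecL1 :: [mecL2, mecL3, mecL4, mecL5, mecL6]) 0 4600 = true := by
  decide +kernel

/-- the centraliser of the element of order 23 -/
theorem mocent_c : ∀ h ∈ M4600, h * moSc = moSc * h → h ∈ zpowers moSc := by
  intro h hh
  rw [← mdgrp] at hh
  have hc : moSc ∈ pgGrpW 4600 mdC := by rw [mdgrp]; exact moSc_mem
  exact pgCentCyc (L := mdcL1) (C := [mdcL2, mdcL3, mdcL4, mdcL5, mdcL6]) mdvalid moPc.f moSc moRc hc mdadapt [] 23 mdcentchk h hh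

/-- the centraliser of the element of order 11 -/
theorem mocent_u : ∀ h ∈ M4600, h * moSu = moSu * h → h ∈ zpowers moSu := by
  intro h hh
  rw [← megrp] at hh
  have hu : moSu ∈ pgGrpW 4600 meC := by rw [megrp]; exact moSu_mem
  exact pgCentCyc (L := mecL1) (C := [mecL2, mecL3, mecL4, mecL5, mecL6]) mevalid moPu.f moSu moRu hu meadapt [] 11 mecentchk h hh

end Cfsg.Agent.Lib.helper14.MS
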