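import Mathlib
import Cfsg.Agent.Lib.helper14.ODNEXPLUSODD
import Cfsg.Agent.Lib.Helper25.SQMD4

/-!
# ODN row EXMINUS (`odn_ex_minus`, helper14): SQM D4 + `odnsq_omegaGL`.
-/

set_option autoImplicit false

namespace Cfsg.Agent.Lib.Helper1.ODN

theorem odn_ex_minus {F : Type*} [Field F] [Fintype F] (hq : Fintype.card F % 8 = 7) (d : ℕ) (hd : Odd d)
    (a b : F) (hab : ∀ x y : F, x ^ 2 + a * x * y + b * y ^ 2 = 0 → x = 0 ∧ y = 0) :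
    ∃ x : GL ((Fin (d - 1) ⊕ Fin (d - 1)) ⊕ Fin 2) F, x ∈ Cfsg.Geo.omegaGL (Cfsg.quadFormMinus (d - 1) F a b) ∧
      (x : Matrix ((Fin (d - 1) ⊕ Fin (d - 1)) ⊕ Fin 2) ((Fin (d - 1) ⊕ Fin (d - 1)) ⊕ Fin 2) F) *
        (x : Matrix ((Fin (d - 1) ⊕ Fin (d - 1)) ⊕ Fin 2) ((Fin (d - 1) ⊕ Fin (d - 1)) ⊕ Fin 2) F) = -1 :=
  odnexminus_core (fun h2 hns k a b hab => Cfsg.Agent.Lib.helper15.SQM.sqm_ex_minus3 h2 hns k a b hab) hq d hd a b hab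

end Cfsg.Agent.Lib.Helper1.ODN
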