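import Mathlib
import Cfsg.Agent.Lib.helper8.TDM.Defs
import Cfsg.Agent.Lib.helper15.TD4VM1
import Cfsg.Agent.Lib.Helper9.TD4VM2
import Cfsg.Agent.Lib.Helper10.TD4VE4b
import Cfsg.Agent.Lib.Helper27.TD4VU6
import Cfsg.Agent.Lib.helper8.ChevTwD4O

/-!
# Project TDM (helper8, S2192), row U7 (`mem_G`), by helper14: memberships in `G = ³D₄(q)` and in `U¹`.
-/

set_option autoImplicit false

namespace Cfsg.Agent.Lib.helper8.TDM

open Cfsg.Lie Cfsg.Lie.ChevalleyDatum Matrix
open Cfsg.Agent.Lib.helper8 Cfsg.Agent.Lib.helper8.TD4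
open Cfsg.Agent.Lib.helper23.TD4V

universe u

section U

variable {K : Type u} [Field K] [Fintype K] (q : ℕ)

/-- `Q K q ≤ U1 K q` -/
theorem tdmu7_Q_le : Q K q ≤ U1 K q := by
  intro g hg
  exact ⟨td4vu6_QK_le hg.1, hg.2⟩

/-- the twelve Weyl representatives lie in `G` -/
theorem tdmu7_nk_mem (hq : IsPrimePow q) (hK : Fintype.card K = q ^ 3) (k : ℕ) :
    (h8nWU chevD4 hB (h8odW k) : GG K) ∈ twistedD4 K q := by
  have hD : chevD4 ∈ [chevG2, chevB2, chevD4, chevF4, chevE6, chevE7, chevE8] := by simp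
  have hC := h8commAll.{u} chevD4 hD
  obtain ⟨f, hf, hfff3, hneg⟩ := h8frob_exists hq 3 (by norm_num) hK
  have hnJ := h8twD4_nJ (K := K) hB hC q hneg
  have hsJ1 : ∀ j, (h8nWU chevD4 hB (h8wD4 j) : GL chevD4.Idx K) ∈ twistedD4 K q := by
    intro j
    by_cases hj : j < 2
    · exact hnJ _ (h8uD4_wlt j hj).1
    · have : h8wD4 j = [] := by
        unfold h8wD4
        rw [List.getD_eq_default _ _ (by simp only [h8orbsD4, List.length_cons, List.length_nil]; omega)]
        rfl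
      rw [this]
      unfold h8nWU
      simp
  induction k using Nat.strong_induction_on with
  | _ k ih =>
    by_cases hk : k < 12
    · by_cases hk1 : 1 ≤ k
      · obtain ⟨h1, _, h3, _, _⟩ := h8od_F1 k hk hk1
        rw [h3, h8nWU_append]
        exact Subgroup.mul_mem _ (hsJ1 _) (ih _ h1)
      · have : k = 0 := by omega
        subst this
        have : h8odW 0 = [] := rfl
        rw [this]
        unfold h8nWU
        simp
    · have : h8odW k = [] := by
        unfold h8odW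
        exact List.getD_eq_default _ _ (by simpa using hk)
      rw [this]
      unfold h8nWU
      simp

/-- **U7** [S] (memberships in `G`; all from TD4V rows M1 M2, E4). -/
theorem mem_G (hq : IsPrimePow q) (hK : Fintype.card K = q ^ 3) :
    (∀ t : K, Xa q t ∈ U1 K q ∧ Xab q t ∈ U1 K q ∧ X2ab q t ∈ U1 K q ∧ Xma q t ∈ twistedD4 K q) ∧
      (∀ r ∈ [14, 22, 23], ∀ c : K, c ^ q = c → X r c ∈ U1 K q) ∧
      (∀ r ∈ [9, 1, 0], ∀ c : K, c ^ q = c → X r c ∈ twistedD4 K q) ∧
      (nb : GG K) ∈ twistedD4 K q ∧ (nJ : GG K) ∈ twistedD4 K q ∧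
      ∀ k < 12, (h8nWU chevD4 hB (h8odW k) : GG K) ∈ twistedD4 K q := by
  refine ⟨?_, ?_, ?_, td4ve4_nb_mem q hq hK, td4ve4_nJ_mem q hq hK, fun k _ => tdmu7_nk_mem q hq hK k⟩
  · intro t
    exact ⟨tdmu7_Q_le q (Xa_mem q hq hK t), tdmu7_Q_le q (Xab_mem q hq hK t), tdmu7_Q_le q (X2ab_mem q hq hK t),
      (Xma_mem q hq hK t).2⟩
  · intro r hr c hc
    simp only [List.mem_cons, List.mem_nil_iff, or_false] at hr
    rcases hr with rfl | rfl | rfl
    · refine ⟨?_, (Xlevi_mem q hq hK 14 (by simp) c hc).1⟩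
      exact td4vm1_X_mem_U 14 (by decide) c
    · exact tdmu7_Q_le q (Xlong_mem_Q q hq hK 22 (by simp) c hc)
    · exact tdmu7_Q_le q (Xlong_mem_Q q hq hK 23 (by simp) c hc)
  · intro r hr c hc
    simp only [List.mem_cons, List.mem_nil_iff, or_false] at hr
    rcases hr with rfl | rfl | rfl
    · exact (Xlevi_mem q hq hK 9 (by simp) c hc).1
    · exact (Xlong_mem_Qm q hq hK 1 (by simp) c hc).2
    · exact (Xlong_mem_Qm q hq hK 0 (by simp) c hc).2

end U

end Cfsg.Agent.Lib.helper8.TDM
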