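import Mathlib
import Cfsg.Agent.Lib.helper14.DBN.Defs
import Cfsg.Agent.Lib.Helper25.DBNQBASIC
import Cfsg.Agent.Lib.Helper24.DBNNUOQ

/-!
Project DBN (S2548), row XL3: in characteristic 2, if `x₁ * n₁ * x₂` preserves the quadratic form
`Qh` (with `x₁, x₂` products of positive long root elements and `n₁` monomial) then
`x₁ * n₁ * x₂ = n₁`.
-/

set_option autoImplicit false

namespace Cfsg.Agent.Lib.helper14.DBN

open Matrix DoubleCoset
open Cfsg.Agent.Lib.helper3 Cfsg.Agent.Lib.helper14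
open Cfsg.Agent.Lib.helper14.UBN Cfsg.Agent.Lib.helper14.OBN

universe u
variable {F : Type u} [Field F] {n : ℕ}

/-- matrices `1 + Σ_i d_i E_{i, rv i}` -/
def dbnxl3_IsXG (g : GS n F) (d : Fin n → F) : Prop :=
  ∀ i j, mt g i j = (if i = j then 1 else 0) + (if j = rv i then d i else 0)

theorem dbnxl3_mulVec_bV (g : GS n F) (d : Fin n → F) (hg : dbnxl3_IsXG g d) (b : Fin n) :
    mt g *ᵥ bV b = bV b + d (rv b) • bV (rv b) := by
  funext i
  rw [mulVec_bV, hg, Pi.add_apply, Pi.smul_apply, bV_apply, bV_apply, smul_eq_mul]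
  congr 1
  by_cases h : b = rv i
  · have h' : i = rv b := by rw [h, rv_rv]
    rw [if_pos h, if_pos h', mul_one, h']
  · have h' : ¬ i = rv b := fun e => h (by rw [e, rv_rv])
    rw [if_neg h, if_neg h', mul_zero]

/-- `Qh (α e_b + β e_{rv b}) = α β` -/
theorem dbnxl3_Qh_pair (hn : n % 2 = 0) (b : Fin n) (α β : F) :
    Qh n (α • (bV b : Fin n → F) + β • bV (rv b)) = α * β := by
  rw [Qh_add hn, Qh_smul, Qh_smul, Qh_bV, Qh_bV, mul_zero, mul_zero, zero_add, zero_add,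
    hJ_smul_left, hJ_smul_right, hJ_bV_bV, rv_rv, if_pos rfl, mul_one]
  rfl

/-- conjugating a long root product by a monomial matrix -/
theorem dbnxl3_conj (hn : n % 2 = 0) (x₁ n₁ : GS n F) (h1 : IsXL x₁) {π : Equiv.Perm (Fin n)}
    (hπ : RvC π) (hm : IsMono (mt n₁) π) :
    ∃ d : Fin n → F, dbnxl3_IsXG (n₁⁻¹ * x₁ * n₁) d := by
  obtain ⟨c, _, hc⟩ := h1
  refine ⟨fun x => mt n₁⁻¹ x (π x) * c (π x) * mt n₁ (rv (π x)) (rv x), ?_⟩
  intro x y
  rw [mt_mul, mt_mul, mono_conj_apply n₁ hπ hm, hc]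
  by_cases hxy : x = y
  · subst hxy
    have hne : ¬ π x = rv (π x) := by
      intro e
      have h3 := rk_add_rv (π x)
      rw [← e] at h3
      omega
    have hne' : ¬ x = rv x := by
      intro e
      have h3 := rk_add_rv x
      rw [← e] at h3
      omega
    rw [if_pos rfl, if_neg hne, if_pos rfl, if_neg hne', add_zero, mul_one]
    exact mono_pivot_mul_inv n₁ hm x
  · have hxy' : ¬ π x = π y := fun e => hxy (π.injective e)
    rw [if_neg hxy', if_neg hxy, zero_add, zero_add]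
    by_cases hy : y = rv x
    · subst hy
      rw [hπ x, if_pos rfl, if_pos rfl]
    · have hy' : ¬ π y = rv (π x) := by
        intro e
        rw [← hπ x] at e
        exact hy (π.injective e)
      rw [if_neg hy', if_neg hy, mul_zero, zero_mul]

set_option linter.unusedVariables false in
theorem xl_mono_xl (hn : n % 2 = 0) (h2 : (2 : F) = 0) (x₁ x₂ n₁ : GS n F) (h1 : IsXL x₁)
    (h2' : IsXL x₂) (hn₁ : n₁ ∈ NU n (Sid F)) (h : x₁ * n₁ * x₂ ∈ OQ n F) :
    x₁ * n₁ * x₂ = n₁ := by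
  obtain ⟨π, hπ, hm⟩ := hn₁
  have hn₁O : n₁ ∈ OQ n F := NU_le_OQ hn ⟨π, hπ, hm⟩
  obtain ⟨d, hd⟩ := dbnxl3_conj hn x₁ n₁ h1 hπ hm
  obtain ⟨c, hc0, hc⟩ := h2'
  have hx₂ : dbnxl3_IsXG x₂ c := hc
  -- the element `z`
  have hzO : n₁⁻¹ * x₁ * n₁ * x₂ ∈ OQ n F := by
    have e : n₁⁻¹ * x₁ * n₁ * x₂ = n₁⁻¹ * (x₁ * n₁ * x₂) := by group
    rw [e]
    exact (OQ n F).mul_mem ((OQ n F).inv_mem hn₁O) h
  have hzb : ∀ b : Fin n, mt (n₁⁻¹ * x₁ * n₁ * x₂) *ᵥ bV b =
      (1 + c (rv b) * d b) • (bV b : Fin n → F) + (d (rv b) + c (rv b)) • bV (rv b) := by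
    intro b
    rw [mt_mul_mulVec, dbnxl3_mulVec_bV x₂ c hx₂, Matrix.mulVec_add, Matrix.mulVec_smul,
      dbnxl3_mulVec_bV _ d hd, dbnxl3_mulVec_bV _ d hd, rv_rv]
    module
  have hQ : ∀ b : Fin n, (1 + c (rv b) * d b) * (d (rv b) + c (rv b)) = 0 := by
    intro b
    have := hzO (bV b)
    rw [hzb, dbnxl3_Qh_pair hn, Qh_bV] at this
    exact this
  -- `d` vanishes on the upper half
  have hdu : ∀ b : Fin n, n / 2 ≤ rk b → d b = 0 := by
    intro b hb
    have h3 := hQ (rv b)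
    rw [rv_rv, hc0 b hb, zero_mul, add_zero, one_mul, add_zero] at h3
    exact h3
  have hsum : ∀ b : Fin n, d (rv b) + c (rv b) = 0 := by
    intro b
    by_cases hb : n / 2 ≤ rk b
    · have h3 := hQ b
      rw [hdu b hb, mul_zero, add_zero, one_mul] at h3
      exact h3
    · have hb' : n / 2 ≤ rk (rv b) := by
        have := rk_add_rv b
        omega
      rw [hdu _ hb', hc0 _ hb', add_zero]
  have hz1 : n₁⁻¹ * x₁ * n₁ * x₂ = 1 := by
    apply mt_ext_bV
    intro b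
    rw [hzb, hsum, zero_smul, add_zero, mt_one_mulVec]
    by_cases hb : n / 2 ≤ rk b
    · rw [hdu b hb, mul_zero, add_zero, one_smul]
    · have hb' : n / 2 ≤ rk (rv b) := by
        have := rk_add_rv b
        omega
      rw [hc0 _ hb', zero_mul, add_zero, one_smul]
  calc x₁ * n₁ * x₂ = n₁ * (n₁⁻¹ * x₁ * n₁ * x₂) := by group
    _ = n₁ := by rw [hz1, mul_one]

end Cfsg.Agent.Lib.helper14.DBN
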