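import Cfsg.Agent.Lib.Helper28.TOO.Defs
import Cfsg.Agent.Lib.helper6.TSSIEG

/-!
# Project TOO, row WG5b (`w1_sieg_conj`), written by helper14.
-/

set_option autoImplicit false
set_option linter.unusedVariables false
set_option linter.unusedSectionVars false

namespace Cfsg.Agent.Lib.Helper28.TOO

open Matrix
open scoped Kronecker
open Cfsg.Agent.Lib.helper7.TP Cfsg.Agent.Lib.Helper21.TS

section generic

variable {ι : Type*} [Fintype ι] [DecidableEq ι] {F : Type*} [Field F] {J : Matrix ι ι F}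

/-- WG5b -/
theorem w1_sieg_conj (hJ : Jᵀ = J) (g : Matrix.GeneralLinearGroup ι F) (hg : g ∈ Iso J) (p v : ι → F) :
    (g : Matrix ι ι F) * sieg J p v * ((g⁻¹ : Matrix.GeneralLinearGroup ι F) : Matrix ι ι F) =
      sieg J ((g : Matrix ι ι F) *ᵥ p) ((g : Matrix ι ι F) *ᵥ v) := by
  have hgg : (g : Matrix ι ι F) * ((g⁻¹ : Matrix.GeneralLinearGroup ι F) : Matrix ι ι F) = 1 := by
    rw [← Units.val_mul, mul_inv_cancel, Units.val_one]
  rw [sieg, sieg, Matrix.mul_sub, Matrix.mul_sub, Matrix.mul_add, Matrix.sub_mul, Matrix.sub_mul,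
    Matrix.add_mul, Matrix.mul_one, hgg, Matrix.mul_smul, Matrix.smul_mul, opm_conj g hg,
    opm_conj g hg, opm_conj g hg, (mem_Iso_iff_bf J g).1 hg]

end generic

end Cfsg.Agent.Lib.Helper28.TOO
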