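import Cfsg.Agent.Lib.Helper27.TS2.Defs
import Cfsg.Agent.Lib.Lead.SYLTRICK

/-!
# Project TS2, piece RN2: `M ∩ R_N ≤ T0` for `N = A ⊗ w`, `w` singular (`a = 2`)
-/

set_option autoImplicit false
set_option linter.unusedSectionVars false
set_option linter.unusedVariables false

namespace Cfsg.Agent.Lib.Helper21.TS

open Matrix
open scoped Kronecker
open Cfsg.Agent.Lib.helper7.TP

variable {a b : ℕ} {F : Type*} [Field F]

/-- every vector is the sum of the pure tensors `e_i ⊗ (row i)`. -/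
theorem ts2rn2_eq_sum_ten (X : Fin a × Fin b → F) :
    X = ∑ i : Fin a, ten (Pi.single i (1 : F)) (fun j => X (i, j)) := by
  funext p
  obtain ⟨i, j⟩ := p
  rw [Finset.sum_apply]
  simp only [ten, Pi.single_apply]
  rw [Finset.sum_eq_single i]
  · simp
  · intro k _ hk
    simp [Ne.symm hk]
  · intro h
    exact absurd (Finset.mem_univ i) h

theorem ts2rn2_ten_neg_left (x : Fin a → F) (w : Fin b → F) : ten (-x) w = - ten x w := by
  funext p; simp [ten]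

theorem ts2rn2_ten_zero_left (w : Fin b → F) : ten (0 : Fin a → F) w = 0 := by
  funext p; simp [ten]

/-- the form against a pure tensor, through the rows. -/
theorem ts2rn2_bf_rows (J1 : Matrix (Fin a) (Fin a) F) (J2 : Matrix (Fin b) (Fin b) F)
    (v : Fin a × Fin b → F) (x : Fin a → F) (w : Fin b → F) :
    bf (JV J1 J2) v (ten x w) = bf J1 (fun i => bf J2 (fun j => v (i, j)) w) x := by
  have h1 : (fun i => bf J2 (fun j => v (i, j)) w) =
      ∑ i : Fin a, (bf J2 (fun j => v (i, j)) w) • (Pi.single i (1 : F) : Fin a → F) := by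
    funext k
    rw [Finset.sum_apply]
    simp only [Pi.smul_apply, Pi.single_apply, smul_eq_mul, mul_ite, mul_one, mul_zero]
    rw [Finset.sum_ite_eq]
    simp
  conv_lhs => rw [ts2rn2_eq_sum_ten v]
  rw [h1, bf_sum_left, bf_sum_left]
  apply Finset.sum_congr rfl
  intro i _
  rw [bf_JV_ten, bf_smul_left]
  ring

/-- the predicate "`k` is trivial on `N = A ⊗ w` and on `N^⊥ / N`". -/
def ts2rn2_RN (J2 : Matrix (Fin b) (Fin b) F) (w : Fin b → F)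
    (k : Matrix (Fin a × Fin b) (Fin a × Fin b) F) : Prop :=
  (∀ x : Fin a → F, k *ᵥ ten x w = ten x w) ∧
  (∀ (x : Fin a → F) (y : Fin b → F), bf J2 w y = 0 → ∃ x' : Fin a → F,
      k *ᵥ ten x y = ten x y + ten x' w)


/-- an isometry fixing `A ⊗ w` pointwise moves every vector by a vector with rows `⊥ w`. -/
theorem ts2rn2_rows_perp {J1 : Matrix (Fin a) (Fin a) F} {J2 : Matrix (Fin b) (Fin b) F}
    (hdet : J1.det ≠ 0) (k : Matrix.GeneralLinearGroup (Fin a × Fin b) F) (hk : k ∈ SpV J1 J2)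
    {w : Fin b → F}
    (h1 : ∀ x : Fin a → F, (k : Matrix (Fin a × Fin b) (Fin a × Fin b) F) *ᵥ ten x w = ten x w)
    (v : Fin a × Fin b → F) (i : Fin a) :
    bf J2 (fun j => ((k : Matrix (Fin a × Fin b) (Fin a × Fin b) F) *ᵥ v - v) (i, j)) w = 0 := by
  by_contra hne
  have hr : (fun i => bf J2 (fun j => ((k : Matrix (Fin a × Fin b) (Fin a × Fin b) F) *ᵥ v - v) (i, j)) w) ≠ 0 := by
    intro h0
    exact hne (congrFun h0 i)
  obtain ⟨x0, hx0⟩ := bf_nondeg hdet hr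
  apply hx0
  rw [← ts2rn2_bf_rows, bf_sub_left]
  have hiso := (mem_Iso_iff_bf (JV J1 J2) k).mp hk v (ten x0 w)
  rw [h1] at hiso
  rw [hiso, sub_self]

/-- `(k - 1)³ = 0` for `k ∈ R_N ∩ Sp(V)`. -/
theorem ts2rn2_cube {J1 : Matrix (Fin a) (Fin a) F} {J2 : Matrix (Fin b) (Fin b) F}
    (hdet : J1.det ≠ 0) (hsym : J2ᵀ = J2)
    (k : Matrix.GeneralLinearGroup (Fin a × Fin b) F) (hk : k ∈ SpV J1 J2)
    {w : Fin b → F} (hR : ts2rn2_RN J2 w (k : Matrix (Fin a × Fin b) (Fin a × Fin b) F)) :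
    ((k : Matrix (Fin a × Fin b) (Fin a × Fin b) F) - 1) *
      (((k : Matrix (Fin a × Fin b) (Fin a × Fin b) F) - 1) *
        ((k : Matrix (Fin a × Fin b) (Fin a × Fin b) F) - 1)) = 0 := by
  obtain ⟨h1, h2⟩ := hR
  have hD : ∀ v, ((k : Matrix (Fin a × Fin b) (Fin a × Fin b) F) - 1) *ᵥ v =
      (k : Matrix (Fin a × Fin b) (Fin a × Fin b) F) *ᵥ v - v := by
    intro v
    rw [Matrix.sub_mulVec, Matrix.one_mulVec]
  have hDw : ∀ x : Fin a → F, ((k : Matrix (Fin a × Fin b) (Fin a × Fin b) F) - 1) *ᵥ ten x w = 0 := by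
    intro x
    rw [hD, h1, sub_self]
  rw [Matrix.ext_iff_mulVec]
  intro v
  rw [← Matrix.mulVec_mulVec, ← Matrix.mulVec_mulVec, Matrix.zero_mulVec]
  have hrows := ts2rn2_rows_perp hdet k hk h1 v
  rw [← hD] at hrows
  set v' := ((k : Matrix (Fin a × Fin b) (Fin a × Fin b) F) - 1) *ᵥ v with hv'
  have hsum : ((k : Matrix (Fin a × Fin b) (Fin a × Fin b) F) - 1) *ᵥ
      (((k : Matrix (Fin a × Fin b) (Fin a × Fin b) F) - 1) *ᵥ v') = 0 := by
    conv_lhs => rw [ts2rn2_eq_sum_ten v']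
    rw [Matrix.mulVec_sum, Matrix.mulVec_sum]
    apply Finset.sum_eq_zero
    intro i _
    have hperp : bf J2 w (fun j => v' (i, j)) = 0 := by
      rw [bf_symm hsym]
      exact hrows i
    obtain ⟨x', hx'⟩ := h2 (Pi.single i (1 : F)) (fun j => v' (i, j)) hperp
    rw [hD (ten _ _), hx', add_sub_cancel_left, hDw]
  exact hsum


/-- `k ^ p = 1` for `k ∈ R_N ∩ Sp(V)` in characteristic `p ≥ 3`. -/
theorem ts2rn2_pow (p : ℕ) [Fact p.Prime] [CharP F p] (hp3 : 3 ≤ p) (ha : 1 ≤ a) (hb : 1 ≤ b)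
    {J1 : Matrix (Fin a) (Fin a) F} {J2 : Matrix (Fin b) (Fin b) F}
    (hdet : J1.det ≠ 0) (hsym : J2ᵀ = J2)
    (k : Matrix.GeneralLinearGroup (Fin a × Fin b) F) (hk : k ∈ SpV J1 J2)
    {w : Fin b → F} (hR : ts2rn2_RN J2 w (k : Matrix (Fin a × Fin b) (Fin a × Fin b) F)) :
    k ^ p = 1 := by
  have hcube := ts2rn2_cube hdet hsym k hk hR
  have : Nonempty (Fin a × Fin b) := ⟨(⟨0, ha⟩, ⟨0, hb⟩)⟩
  set D : Matrix (Fin a × Fin b) (Fin a × Fin b) F :=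
    (k : Matrix (Fin a × Fin b) (Fin a × Fin b) F) - 1 with hD
  have hk1 : (k : Matrix (Fin a × Fin b) (Fin a × Fin b) F) = D + 1 := by
    rw [hD, sub_add_cancel]
  have hDp : D ^ p = 0 := by
    have h3 : D ^ 3 = 0 := by
      rw [pow_succ, pow_two, Matrix.mul_assoc]
      exact hcube
    obtain ⟨m, rfl⟩ := Nat.exists_eq_add_of_le hp3
    rw [pow_add, h3, zero_mul]
  apply Units.ext
  rw [Units.val_pow_eq_pow_val, Units.val_one, hk1, add_pow_char_of_commute p (Commute.one_right D), hDp,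
    one_pow, zero_add]


theorem ts2rn2_RN_one (J2 : Matrix (Fin b) (Fin b) F) (w : Fin b → F) :
    ts2rn2_RN (a := a) J2 w (1 : Matrix (Fin a × Fin b) (Fin a × Fin b) F) := by
  refine ⟨fun x => Matrix.one_mulVec _, fun x y _ => ⟨0, ?_⟩⟩
  rw [Matrix.one_mulVec, ts2rn2_ten_zero_left, add_zero]

theorem ts2rn2_RN_mul {J2 : Matrix (Fin b) (Fin b) F} {w : Fin b → F}
    {k k' : Matrix (Fin a × Fin b) (Fin a × Fin b) F} (hk : ts2rn2_RN J2 w k)
    (hk' : ts2rn2_RN J2 w k') : ts2rn2_RN J2 w (k * k') := by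
  refine ⟨fun x => ?_, fun x y hy => ?_⟩
  · rw [← Matrix.mulVec_mulVec, hk'.1, hk.1]
  · obtain ⟨x', hx'⟩ := hk'.2 x y hy
    obtain ⟨x'', hx''⟩ := hk.2 x y hy
    refine ⟨x'' + x', ?_⟩
    rw [← Matrix.mulVec_mulVec, hx', Matrix.mulVec_add, hx'', hk.1, ten_add_left, add_assoc]

theorem ts2rn2_RN_inv {J2 : Matrix (Fin b) (Fin b) F} {w : Fin b → F}
    (k : Matrix.GeneralLinearGroup (Fin a × Fin b) F)
    (hk : ts2rn2_RN J2 w (k : Matrix (Fin a × Fin b) (Fin a × Fin b) F)) :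
    ts2rn2_RN J2 w ((k⁻¹ : Matrix.GeneralLinearGroup (Fin a × Fin b) F) :
      Matrix (Fin a × Fin b) (Fin a × Fin b) F) := by
  have hinv : ∀ v, ((k⁻¹ : Matrix.GeneralLinearGroup (Fin a × Fin b) F) :
      Matrix (Fin a × Fin b) (Fin a × Fin b) F) *ᵥ
        ((k : Matrix (Fin a × Fin b) (Fin a × Fin b) F) *ᵥ v) = v := by
    intro v
    rw [Matrix.mulVec_mulVec, ← Units.val_mul, inv_mul_cancel, Units.val_one, Matrix.one_mulVec]
  have h1 : ∀ x : Fin a → F, ((k⁻¹ : Matrix.GeneralLinearGroup (Fin a × Fin b) F) :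
      Matrix (Fin a × Fin b) (Fin a × Fin b) F) *ᵥ ten x w = ten x w := by
    intro x
    conv_lhs => rw [← hk.1 x]
    exact hinv _
  refine ⟨h1, fun x y hy => ?_⟩
  obtain ⟨x', hx'⟩ := hk.2 x y hy
  refine ⟨-x', ?_⟩
  have h3 := hinv (ten x y)
  rw [hx', Matrix.mulVec_add, h1] at h3
  rw [ts2rn2_ten_neg_left, ← sub_eq_add_neg, eq_sub_iff_add_eq]
  exact h3

/-- `R_N ∩ Sp(V)` as a subgroup. -/
def ts2rn2_U (J1 : Matrix (Fin a) (Fin a) F) (J2 : Matrix (Fin b) (Fin b) F) (w : Fin b → F) :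
    Subgroup (Matrix.GeneralLinearGroup (Fin a × Fin b) F) where
  carrier := {k | k ∈ SpV J1 J2 ∧ ts2rn2_RN J2 w (k : Matrix (Fin a × Fin b) (Fin a × Fin b) F)}
  one_mem' := ⟨one_mem _, by rw [Units.val_one]; exact ts2rn2_RN_one J2 w⟩
  mul_mem' := by
    rintro k k' ⟨hk, hkR⟩ ⟨hk', hkR'⟩
    exact ⟨mul_mem hk hk', by rw [Units.val_mul]; exact ts2rn2_RN_mul hkR hkR'⟩
  inv_mem' := by
    rintro k ⟨hk, hkR⟩
    exact ⟨inv_mem hk, ts2rn2_RN_inv k hkR⟩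

theorem ts2rn2_mem_U (J1 : Matrix (Fin a) (Fin a) F) (J2 : Matrix (Fin b) (Fin b) F) (w : Fin b → F)
    (k : Matrix.GeneralLinearGroup (Fin a × Fin b) F) :
    k ∈ ts2rn2_U J1 J2 w ↔
      k ∈ SpV J1 J2 ∧ ts2rn2_RN J2 w (k : Matrix (Fin a × Fin b) (Fin a × Fin b) F) := Iff.rfl

/-- `U` is a `p`-group. -/
theorem ts2rn2_U_pgroup (p : ℕ) [Fact p.Prime] [CharP F p] (hp3 : 3 ≤ p) (ha : 1 ≤ a) (hb : 1 ≤ b)
    {J1 : Matrix (Fin a) (Fin a) F} {J2 : Matrix (Fin b) (Fin b) F}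
    (hdet : J1.det ≠ 0) (hsym : J2ᵀ = J2) (w : Fin b → F) : IsPGroup p (ts2rn2_U J1 J2 w) := by
  rintro ⟨k, hk⟩
  refine ⟨1, ?_⟩
  apply Subtype.ext
  rw [pow_one, Subgroup.coe_pow, Subgroup.coe_one]
  exact ts2rn2_pow p hp3 ha hb hdet hsym k hk.1 hk.2

/-- conjugation by an element acting as `α ⊗ 1` preserves `U`. -/
theorem ts2rn2_conj {J1 : Matrix (Fin a) (Fin a) F} {J2 : Matrix (Fin b) (Fin b) F} {w : Fin b → F}
    (g : Matrix.GeneralLinearGroup (Fin a × Fin b) F) (hg : g ∈ SpV J1 J2)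
    (α α' : Matrix (Fin a) (Fin a) F)
    (hα : ∀ (x : Fin a → F) (y : Fin b → F),
      (g : Matrix (Fin a × Fin b) (Fin a × Fin b) F) *ᵥ ten x y = ten (α *ᵥ x) y)
    (hα' : ∀ (x : Fin a → F) (y : Fin b → F),
      ((g⁻¹ : Matrix.GeneralLinearGroup (Fin a × Fin b) F) :
        Matrix (Fin a × Fin b) (Fin a × Fin b) F) *ᵥ ten x y = ten (α' *ᵥ x) y)
    (k : Matrix.GeneralLinearGroup (Fin a × Fin b) F) (hk : k ∈ ts2rn2_U J1 J2 w) :
    g * k * g⁻¹ ∈ ts2rn2_U J1 J2 w := by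
  obtain ⟨hkS, hk1, hk2⟩ := hk
  have hgg : ∀ v, (g : Matrix (Fin a × Fin b) (Fin a × Fin b) F) *ᵥ
      (((g⁻¹ : Matrix.GeneralLinearGroup (Fin a × Fin b) F) :
        Matrix (Fin a × Fin b) (Fin a × Fin b) F) *ᵥ v) = v := by
    intro v
    rw [Matrix.mulVec_mulVec, ← Units.val_mul, mul_inv_cancel, Units.val_one, Matrix.one_mulVec]
  refine ⟨mul_mem (mul_mem hg hkS) (inv_mem hg), fun x => ?_, fun x y hy => ?_⟩
  · rw [Units.val_mul, Units.val_mul, ← Matrix.mulVec_mulVec, ← Matrix.mulVec_mulVec, hα', hk1, ← hα', hgg]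
  · obtain ⟨x', hx'⟩ := hk2 (α' *ᵥ x) y hy
    refine ⟨α *ᵥ x', ?_⟩
    rw [Units.val_mul, Units.val_mul, ← Matrix.mulVec_mulVec, ← Matrix.mulVec_mulVec, hα', hx',
      Matrix.mulVec_add, ← hα', hgg, hα]


/-- `X_u(η) ^ p = 1` in characteristic `p`. -/
theorem ts2rn2_XAG_pow (p : ℕ) [Fact p.Prime] [CharP F p] (ha : 1 ≤ a) (hb : 1 ≤ b)
    (J1 : Matrix (Fin a) (Fin a) F) (u : Fin a → F) (hu : bf J1 u u = 0)
    (η : Matrix (Fin b) (Fin b) F) : (XAG J1 u hu η) ^ p = 1 := by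
  have : Nonempty (Fin a × Fin b) := ⟨(⟨0, ha⟩, ⟨0, hb⟩)⟩
  have hN : opm J1 u u * opm J1 u u = 0 := by rw [opm_mul_opm, hu, zero_smul]
  have hDD : (opm J1 u u ⊗ₖ η) * (opm J1 u u ⊗ₖ η) = 0 := by
    rw [← Matrix.mul_kronecker_mul, hN, Matrix.zero_kronecker]
  have hDp : (opm J1 u u ⊗ₖ η) ^ p = 0 := by
    have h2 : 2 ≤ p := (Fact.out : p.Prime).two_le
    obtain ⟨m, rfl⟩ := Nat.exists_eq_add_of_le h2
    rw [pow_add, pow_two, hDD, zero_mul]
  apply Units.ext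
  rw [Units.val_pow_eq_pow_val, Units.val_one, XAG_coe, XAm,
    add_pow_char_of_commute p (Commute.one_left _), hDp, one_pow, add_zero]


variable {J1 : Matrix (Fin 2) (Fin 2) F} {J2 : Matrix (Fin b) (Fin b) F}
  {M : Subgroup (Matrix.GeneralLinearGroup (Fin 2 × Fin b) F)}

/-- RN2 [L]. `a = 2`: `M ∩ R_N ≤ T0` for `N = A ⊗ w`, `w` singular. -/
theorem rn_two [Fintype F] (p : ℕ) [Fact p.Prime] [CharP F p] (C : Ctx J1 J2) (hb : 3 ≤ b)
    (hT0 : T0 J1 J2 ≤ M) (hMS : M ≤ SpV J1 J2) (ufA : UfpA J1 J2 M)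
    {w : Fin b → F} (hw : w ≠ 0) (hw0 : bf J2 w w = 0)
    (h : Matrix.GeneralLinearGroup (Fin 2 × Fin b) F) (hh : h ∈ M)
    (h1 : ∀ x : Fin 2 → F, (h : Matrix (Fin 2 × Fin b) (Fin 2 × Fin b) F) *ᵥ ten x w = ten x w)
    (h2 : ∀ (x : Fin 2 → F) (y : Fin b → F), bf J2 w y = 0 → ∃ x' : Fin 2 → F,
      (h : Matrix (Fin 2 × Fin b) (Fin 2 × Fin b) F) *ᵥ ten x y = ten x y + ten x' w) :
    h ∈ T0 J1 J2 := by
  classical
  have hp3 : 3 ≤ p := by
    have hp := (Fact.out : p.Prime)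
    have h2 : 2 ≤ p := hp.two_le
    rcases Nat.lt_or_ge 2 p with h | h
    · exact h
    · exfalso
      have hp2 : p = 2 := le_antisymm h h2
      apply C.two
      have := CharP.cast_eq_zero F p
      rw [hp2] at this
      exact_mod_cast this
  have hb1 : 1 ≤ b := by omega
  -- the root element x
  set u : Fin 2 → F := Pi.single 0 1 with hu
  have hu0 : u ≠ 0 := by
    intro h0
    have := congrFun h0 0
    simp [hu] at this
  have huu : bf J1 u u = 0 := bf_self_alt C.alt C.two u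
  set x : Matrix.GeneralLinearGroup (Fin 2 × Fin b) F :=
    XAG J1 u huu ((1 : F) • (1 : Matrix (Fin b) (Fin b) F)) with hx
  have hxS : x ∈ SpV J1 J2 := XAG_mem_SpV C.alt u huu ((selfAdj_one J2).smul 1)
  have hxK : x ∈ K0 2 b F := by
    rw [mem_K0]
    refine ⟨tvG J1 u huu 1, 1, ?_⟩
    rw [hx, XAG_coe, XAm_scalar, tvG_coe, Units.val_one]
  have hxT : x ∈ T0 J1 J2 := Subgroup.mem_inf.mpr ⟨hxK, hxS⟩
  have hα : ∀ (x' : Fin 2 → F) (y : Fin b → F),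
      (x : Matrix (Fin 2 × Fin b) (Fin 2 × Fin b) F) *ᵥ ten x' y = ten (tvm J1 u 1 *ᵥ x') y := by
    intro x' y
    rw [hx, XAG_coe, XAm_scalar, kron_mulVec_ten, Matrix.one_mulVec]
  have hα' : ∀ (x' : Fin 2 → F) (y : Fin b → F),
      ((x⁻¹ : Matrix.GeneralLinearGroup (Fin 2 × Fin b) F) :
        Matrix (Fin 2 × Fin b) (Fin 2 × Fin b) F) *ᵥ ten x' y = ten (tvm J1 u (-1) *ᵥ x') y := by
    intro x' y
    have hinv : ((x⁻¹ : Matrix.GeneralLinearGroup (Fin 2 × Fin b) F) :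
        Matrix (Fin 2 × Fin b) (Fin 2 × Fin b) F) =
        XAm J1 u (-((1 : F) • (1 : Matrix (Fin b) (Fin b) F))) := rfl
    rw [hinv, ← neg_smul, XAm_scalar, kron_mulVec_ten, Matrix.one_mulVec]
  -- x normalises U
  have hnorm : x ∈ Subgroup.normalizer (ts2rn2_U J1 J2 w : Set _) := by
    rw [Subgroup.mem_normalizer_iff]
    intro k
    constructor
    · intro hk
      exact ts2rn2_conj x hxS _ _ hα hα' k hk
    · intro hk
      have := ts2rn2_conj x⁻¹ (inv_mem hxS) _ _ hα' (by rw [inv_inv]; exact hα) _ hk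
      have e : x⁻¹ * (x * k * x⁻¹) * x⁻¹⁻¹ = k := by group
      rwa [e] at this
  have hUp : IsPGroup p (ts2rn2_U J1 J2 w) :=
    ts2rn2_U_pgroup p hp3 (by norm_num) hb1 C.det1 C.sym w
  have hxp : x ^ p = 1 := ts2rn2_XAG_pow p (by norm_num) hb1 J1 u huu _
  have hZp : IsPGroup p (Subgroup.zpowers x) := by
    rintro ⟨y, hy⟩
    obtain ⟨n, rfl⟩ := Subgroup.mem_zpowers_iff.mp hy
    refine ⟨1, ?_⟩
    apply Subtype.ext
    rw [pow_one, Subgroup.coe_pow, Subgroup.coe_one, ← zpow_natCast, ← _root_.zpow_mul, mul_comm, _root_.zpow_mul,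
      zpow_natCast, hxp, _root_.one_zpow]
  have hPp : IsPGroup p (Subgroup.zpowers x ⊔ ts2rn2_U J1 J2 w : Subgroup _) :=
    IsPGroup.to_sup_of_normal_right' hZp hUp (Subgroup.zpowers_le.mpr hnorm)
  set Q : Subgroup (Matrix.GeneralLinearGroup (Fin 2 × Fin b) F) :=
    (Subgroup.zpowers x ⊔ ts2rn2_U J1 J2 w) ⊓ M with hQ
  have hQp : IsPGroup p Q := hPp.to_le inf_le_left
  have hxQ : x ∈ Q :=
    Subgroup.mem_inf.mpr ⟨(le_sup_left : Subgroup.zpowers x ≤ _) (Subgroup.mem_zpowers x), hT0 hxT⟩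
  have hhQ : h ∈ Q :=
    Subgroup.mem_inf.mpr ⟨(le_sup_right : ts2rn2_U J1 J2 w ≤ _) ⟨hMS hh, h1, h2⟩, hh⟩
  have hfin : Finite Q := inferInstance
  have hle : Q ≤ T0 J1 J2 := by
    apply Cfsg.Agent.Lib.Lead.SylTrick.syltrick_pgrp p (T0 J1 J2) Q hQp x hxQ hxT
    intro k hk hkT
    have hkM : k ∈ M := (Subgroup.mem_inf.mp hk).2
    have := ufA u 1 x hu0 one_ne_zero rfl k⁻¹ (inv_mem hkM) (by rw [inv_inv]; exact hkT)
    exact inv_mem_iff.mp this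
  exact hle hhQ

end Cfsg.Agent.Lib.Helper21.TS
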