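import Mathlib
import Cfsg.Agent.Lib.helper14.OBNd
import Cfsg.Agent.Lib.helper14.DBN.Defs
import Cfsg.Agent.Lib.Helper25.DBNQBASIC
import Cfsg.Agent.Lib.Helper24.DBNNUOQ
import Cfsg.Agent.Lib.helper17.DBNSDBASIC
import Cfsg.Agent.Lib.Helper27.DBNGENcore
import Cfsg.Agent.Lib.helper6.DBNTNORM
import Cfsg.Agent.Lib.Helper28.DBNDCOQ
import Cfsg.Agent.Lib.Helper27.DBNBN3core
import Cfsg.Agent.Lib.Helper13.DBNROOT

/-!
Project DBN (S2548), row WEAK: the weak `(B,N)`-pair of type `D_{n/2}` on `BO ⊔ NE`.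
-/

set_option autoImplicit false

namespace Cfsg.Agent.Lib.helper14.DBN

open Matrix DoubleCoset
open Cfsg.Agent.Lib.helper3 Cfsg.Agent.Lib.helper14
open Cfsg.Agent.Lib.helper14.UBN Cfsg.Agent.Lib.helper14.OBN

universe u
variable {F : Type u} [Field F] {n : ℕ}

theorem weakBN_D (hn4 : 4 ≤ n) (hn : n % 2 = 0) : WeakBN (BO n F) (NE n F) (SD F hn4) where
  subset := SD_subset_NE hn4
  conj_mem := by
    intro m hm t ht
    have htT : t ∈ TO n F := by rw [← BO_inf_NE hn]; exact ht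
    have hmN : m ∈ NU n (Sid F) := NE_le_NU hm
    refine ⟨conj_torus_mem m t hmN htT, ?_⟩
    have h1 : m ∈ OQ n F := NU_le_OQ hn hmN
    have h2 : t ∈ OQ n F := ht.1.2
    exact (OQ n F).mul_mem ((OQ n F).mul_mem h1 h2) ((OQ n F).inv_mem h1)
  sq_mem := fun s hs => by rw [SD_sq hn4 s hs]; exact (BO n F).one_mem
  inj := fun s hs s' hs' h => SD_inj hn4 s hs s' hs' h.1
  closure_sup := by
    rw [BO_inf_NE hn]
    exact dbngen_closure_core hn4 hn (SD_subset_NE hn4) (tL_conj_SD hn4)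
  mul_mem_union := by
    intro s hs m hm b hb
    rcases hs with ⟨k, hk, rfl⟩ | hs
    · exact dbnbn3_sRef_core (fun g hg n₁ hn₁ h => dc_OQ hn g hg n₁ hn₁ h) (NU_le_OQ hn) k m
        (NE_le_NU hm) b hb
    · rw [Set.mem_singleton_iff] at hs
      subst hs
      exact dbnbn3_sD_core hn4 (fun g hg n₁ hn₁ h => dc_OQ hn g hg n₁ hn₁ h) (NU_le_OQ hn)
        (fun b hb => tL_conj_BO _ hn b hb) m (NE_le_NU hm) b hb

/-- the `(B,N)`-pair of type `D_{n/2}` on `BO ⊔ NE` -/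
noncomputable def bnD (hn4 : 4 ≤ n) (hn : n % 2 = 0) : Cfsg.BNPair ↥(BO n F ⊔ NE n F) :=
  bnSub (weakBN_D hn4 hn) (conj_ne_SD hn4 hn)

end Cfsg.Agent.Lib.helper14.DBN
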