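import Mathlib
import Cfsg.Agent.Lib.Helper29.S5981.Defs

set_option autoImplicit false
set_option linter.unusedVariables false
set_option linter.unusedSectionVars false

/-!
# Project S5981, row E2 (`e_charpoly_ns`), written by helper14.

`x² = z` with `z` a non-square: `(X - x)(X + x) = X² - z`, so the characteristic polynomial of `x` divides `(X² - z)^n`; `X² - z` is irreducible.
-/

namespace Cfsg.Agent.Lib.Helper29.S5981

open scoped MatrixGroups Matrix
open Polynomial

variable {F : Type*} [Field F]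

theorem s5981e2_irr (z : F) (hns : ∀ a : F, a * a ≠ z) : Irreducible (X ^ 2 - C z : F[X]) := by
  have hm : (X ^ 2 - C z : F[X]).Monic := monic_X_pow_sub_C z (by norm_num)
  have hd : (X ^ 2 - C z : F[X]).natDegree = 2 := natDegree_X_pow_sub_C
  rw [hm.irreducible_iff_roots_eq_zero_of_degree_le_three (by omega) (by omega)]
  rw [Multiset.eq_zero_iff_forall_notMem]
  intro a ha
  rw [mem_roots hm.ne_zero] at ha
  simp only [IsRoot, eval_sub, eval_pow, eval_X, eval_C] at ha
  exact hns a (by linear_combination ha)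

theorem s5981e2_dvd (n : ℕ) (x : Matrix (Fin n) (Fin n) F) (z : F)
    (hx : x * x = z • (1 : Matrix (Fin n) (Fin n) F)) : x.charpoly ∣ (X ^ 2 - C z) ^ n := by
  have hcomm : Commute (Matrix.scalar (Fin n) (X : F[X])) ((C : F →+* F[X]).mapMatrix x) :=
    Matrix.scalar_commute _ (fun r' => Commute.all _ _) _
  have h1 : Matrix.charmatrix x * (Matrix.scalar (Fin n) (X : F[X]) + (C : F →+* F[X]).mapMatrix x) =
      (X ^ 2 - C z : F[X]) • (1 : Matrix (Fin n) (Fin n) F[X]) := by
    rw [Matrix.charmatrix, ← hcomm.mul_self_sub_mul_self_eq', ← map_mul, ← map_mul, hx]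
    ext i j
    by_cases hij : i = j
    · subst hij
      simp [Matrix.smul_apply, pow_two]
    · simp [Matrix.smul_apply, hij, Matrix.one_apply]
  have h2 := congrArg Matrix.det h1
  rw [Matrix.det_mul, Matrix.det_smul, Matrix.det_one, mul_one, Fintype.card_fin] at h2
  exact ⟨_, h2.symm⟩

/-- E2 -/
theorem e_charpoly_ns (n : ℕ) (x : Matrix (Fin n) (Fin n) F) (z : F)
    (hx : x * x = z • (1 : Matrix (Fin n) (Fin n) F)) (hns : ∀ a : F, a * a ≠ z) :
    ∃ k : ℕ, n = 2 * k ∧ x.charpoly = (X ^ 2 - C z) ^ k := by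
  have hirr := s5981e2_irr z hns
  obtain ⟨k, hk, hass⟩ := (dvd_prime_pow hirr.prime n).1 (s5981e2_dvd n x z hx)
  have heq : x.charpoly = (X ^ 2 - C z) ^ k :=
    eq_of_monic_of_associated (Matrix.charpoly_monic x) ((monic_X_pow_sub_C z (by norm_num)).pow k) hass
  refine ⟨k, ?_, heq⟩
  have h3 := congrArg natDegree heq
  rw [Matrix.charpoly_natDegree_eq_dim, Fintype.card_fin, natDegree_pow, natDegree_X_pow_sub_C] at h3
  omega

end Cfsg.Agent.Lib.Helper29.S5981
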