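import Mathlib
import Cfsg.Prelude.Def_GeometricClasses
import Cfsg.Agent.Lib.helper14.SpSLc

set_option autoImplicit false

/-!
# Diagonal elements that are similitudes of no symplectic form
-/

namespace Cfsg.Agent.Lib.helper14.SpSLd

open Cfsg.Agent.Lib.Helper28.SympAbs Matrix SpSLc

variable {F : Type*} [Field F]

/-- the goal for an element of `SL_n` -/
def Good {n : ℕ} (r : ℕ) (x : Matrix.SpecialLinearGroup (Fin n) F) : Prop :=
  (∃ z : F, ((x ^ r : Matrix.SpecialLinearGroup (Fin n) F) : Matrix (Fin n) (Fin n) F) =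
      z • (1 : Matrix (Fin n) (Fin n) F)) ∧
    (∀ z : F, (x : Matrix (Fin n) (Fin n) F) ≠ z • (1 : Matrix (Fin n) (Fin n) F)) ∧
    ∀ f' : (Fin n → F) → (Fin n → F) → F, Cfsg.Geo.IsSymplecticForm f' →
      ¬ IsSim f' (x : Matrix (Fin n) (Fin n) F)

theorem good_diag {n : ℕ} (r : ℕ) (μ : Fin n → F) (hdet : ∏ i, μ i = 1) (hμr : ∀ i, μ i ^ r = 1)
    (hns : ∃ i j, μ i ≠ μ j)
    (hnot : ∀ f : (Fin n → F) → (Fin n → F) → F, Cfsg.Geo.IsSymplecticForm f → ∀ c : F,
      (∀ u v, f (Matrix.diagonal μ *ᵥ u) (Matrix.diagonal μ *ᵥ v) = c * f u v) → False) :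
    ∃ x : Matrix.SpecialLinearGroup (Fin n) F, Good r x := by
  let x : Matrix.SpecialLinearGroup (Fin n) F :=
    ⟨Matrix.diagonal μ, by rw [Matrix.det_diagonal, hdet]⟩
  refine ⟨x, ⟨1, ?_⟩, ?_, ?_⟩
  · rw [Matrix.SpecialLinearGroup.coe_pow, one_smul]
    show Matrix.diagonal μ ^ r = 1
    rw [Matrix.diagonal_pow]
    have : μ ^ r = 1 := funext hμr
    rw [this]
    exact Matrix.diagonal_one
  · intro z hz
    have hz' : Matrix.diagonal μ = z • (1 : Matrix (Fin n) (Fin n) F) := hz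
    obtain ⟨i, j, hij⟩ := hns
    apply hij
    have hi := congrFun (congrFun hz' i) i
    have hj := congrFun (congrFun hz' j) j
    simp at hi hj
    rw [hi, hj]
  · intro f' hf' ⟨c, hc⟩
    exact hnot f' hf' c hc

/-! ### pattern 1: `(ζ, ζ, η, 1, …, 1)` with `ζ² η = 1` -/

section p1
variable {m : ℕ} (ζ η : F)

/-- the eigenvalues -/
def mu1 (m : ℕ) (ζ η : F) : Fin (m + 3) → F := Fin.cons ζ (Fin.cons ζ (Fin.cons η (fun _ => 1)))

theorem mu1_0 : mu1 m ζ η 0 = ζ := rfl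
theorem mu1_1 : mu1 m ζ η (Fin.succ 0) = ζ := rfl
theorem mu1_2 : mu1 m ζ η (Fin.succ (Fin.succ 0)) = η := rfl

theorem mu1_all (j : Fin (m + 3)) : mu1 m ζ η j = ζ ∨ mu1 m ζ η j = η ∨ mu1 m ζ η j = 1 := by
  induction j using Fin.cases with
  | zero => left; rfl
  | succ j =>
    induction j using Fin.cases with
    | zero => left; rfl
    | succ j =>
      induction j using Fin.cases with
      | zero => right; left; rfl
      | succ j => right; right; rfl

theorem mu1_ne2 (j : Fin (m + 3)) (hj : j ≠ Fin.succ (Fin.succ 0)) :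
    mu1 m ζ η j = ζ ∨ mu1 m ζ η j = 1 := by
  induction j using Fin.cases with
  | zero => left; rfl
  | succ j =>
    induction j using Fin.cases with
    | zero => left; rfl
    | succ j =>
      induction j using Fin.cases with
      | zero => exact absurd rfl hj
      | succ j => right; rfl

theorem mu1_prod (h : ζ * ζ * η = 1) : ∏ i, mu1 m ζ η i = 1 := by
  unfold mu1
  rw [Fin.prod_cons, Fin.prod_cons, Fin.prod_cons, Finset.prod_const_one, mul_one, ← mul_assoc, h]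

theorem p1_not (h : ζ * ζ * η = 1) (h1 : ζ ≠ 1) (h2 : ζ ^ 2 ≠ 1) (h3 : ζ ^ 3 ≠ 1) (h4 : ζ ^ 4 ≠ 1)
    (f : (Fin (m + 3) → F) → (Fin (m + 3) → F) → F) (hf : Cfsg.Geo.IsSymplecticForm f) (c : F)
    (hc : ∀ u v, f (Matrix.diagonal (mu1 m ζ η) *ᵥ u) (Matrix.diagonal (mu1 m ζ η) *ᵥ v) =
      c * f u v) : False := by
  have hζ0 : ζ ≠ 0 := by
    intro h0
    rw [h0] at h
    simp at h
  have hη0 : η ≠ 0 := by
    intro h0
    rw [h0] at h
    simp at h
  obtain ⟨j, hj, hjc⟩ := exists_partner (mu1 m ζ η) f hf c hc (Fin.succ (Fin.succ 0))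
  rw [mu1_2] at hjc
  rcases mu1_ne2 ζ η j hj with hμ | hμ
  · -- c = η ζ
    rw [hμ] at hjc
    apply two_rows (mu1 m ζ η) f hf c hc 0 (Fin.succ 0) (Fin.succ (Fin.succ 0))
      (by simp [Fin.ext_iff])
    intro j' hj'
    rw [mu1_0, mu1_1]
    have key : ζ * mu1 m ζ η j' ≠ c := by
      rw [← hjc]
      rcases mu1_ne2 ζ η j' hj' with hμ' | hμ'
      · rw [hμ']
        intro h'
        apply h3
        have : ζ = η := by
          have h5 : ζ * (ζ - η) = 0 := by linear_combination h'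
          rcases mul_eq_zero.mp h5 with h6 | h6
          · exact absurd h6 hζ0
          · exact sub_eq_zero.mp h6
        rw [← this] at h
        rw [← h]
        ring
      · rw [hμ']
        intro h'
        apply h2
        have : η = 1 := by
          have h5 : ζ * (1 - η) = 0 := by linear_combination h'
          rcases mul_eq_zero.mp h5 with h6 | h6
          · exact absurd h6 hζ0
          · exact (sub_eq_zero.mp h6).symm
        rw [this] at h
        rw [← h]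
        ring
    exact ⟨key, key⟩
  · -- c = η
    rw [hμ, mul_one] at hjc
    obtain ⟨j', _, hj'c⟩ := exists_partner (mu1 m ζ η) f hf c hc 0
    rw [mu1_0, ← hjc] at hj'c
    rcases mu1_all ζ η j' with hμ' | hμ' | hμ'
    · rw [hμ'] at hj'c
      apply h4
      rw [← h, ← hj'c]
      ring
    · rw [hμ'] at hj'c
      apply h1
      have h5 : η * (ζ - 1) = 0 := by linear_combination hj'c
      rcases mul_eq_zero.mp h5 with h6 | h6
      · exact absurd h6 hη0
      · exact sub_eq_zero.mp h6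
    · rw [hμ', mul_one] at hj'c
      apply h3
      rw [← h, ← hj'c]
      ring

end p1

/-! ### pattern 2: `(ζ, ζ, ζ, 1)` with `ζ³ = 1` -/

section p2
variable (ζ : F)

/-- the eigenvalues -/
def mu2 (ζ : F) : Fin 4 → F := Fin.cons ζ (Fin.cons ζ (Fin.cons ζ (fun _ => 1)))

theorem mu2_prod (h : ζ ^ 3 = 1) : ∏ i, mu2 ζ i = 1 := by
  unfold mu2
  rw [Fin.prod_cons, Fin.prod_cons, Fin.prod_cons, Finset.prod_const_one, mul_one, ← h]
  ring

theorem mu2_ne3 (j : Fin 4) (hj : j ≠ 3) : mu2 ζ j = ζ := by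
  fin_cases j
  · rfl
  · rfl
  · rfl
  · exact absurd rfl hj

theorem p2_not (h1 : ζ ≠ 1) (h0 : ζ ≠ 0)
    (f : (Fin 4 → F) → (Fin 4 → F) → F) (hf : Cfsg.Geo.IsSymplecticForm f) (c : F)
    (hc : ∀ u v, f (Matrix.diagonal (mu2 ζ) *ᵥ u) (Matrix.diagonal (mu2 ζ) *ᵥ v) =
      c * f u v) : False := by
  obtain ⟨j, hj, hjc⟩ := exists_partner (mu2 ζ) f hf c hc 3
  rw [mu2_ne3 ζ j hj] at hjc
  have h33 : mu2 ζ 3 = 1 := rfl
  rw [h33, one_mul] at hjc
  apply two_rows (mu2 ζ) f hf c hc 0 1 3 (by decide)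
  intro j' hj'
  have h00 : mu2 ζ 0 = ζ := rfl
  have h11 : mu2 ζ 1 = ζ := rfl
  rw [h00, h11, mu2_ne3 ζ j' hj', ← hjc]
  have key : ζ * ζ ≠ ζ := by
    intro h'
    apply h1
    have h5 : ζ * (ζ - 1) = 0 := by linear_combination h'
    rcases mul_eq_zero.mp h5 with h6 | h6
    · exact absurd h6 h0
    · exact sub_eq_zero.mp h6
  exact ⟨key, key⟩

end p2

/-! ### pattern 3: `(ζ, ζ, ζ, ζ, ζ², 1, …, 1)` with `ζ³ = 1` -/

section p3
variable {m : ℕ} (ζ : F)

/-- the eigenvalues -/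
def mu3 (m : ℕ) (ζ : F) : Fin (m + 2 + 5) → F :=
  Fin.cons ζ (Fin.cons ζ (Fin.cons ζ (Fin.cons ζ (Fin.cons (ζ ^ 2) (fun _ => 1)))))

theorem mu3_prod (h : ζ ^ 3 = 1) : ∏ i, mu3 m ζ i = 1 := by
  unfold mu3
  rw [Fin.prod_cons, Fin.prod_cons, Fin.prod_cons, Fin.prod_cons, Fin.prod_cons,
    Finset.prod_const_one, mul_one]
  have : ζ * (ζ * (ζ * (ζ * ζ ^ 2))) = ζ ^ 3 * ζ ^ 3 := by ring
  rw [this, h, one_mul]

/-- index 4 -/
def i4 (m : ℕ) : Fin (m + 2 + 5) := Fin.succ (Fin.succ (Fin.succ (Fin.succ 0)))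
/-- index 5 -/
def i5 (m : ℕ) : Fin (m + 2 + 5) := Fin.succ (Fin.succ (Fin.succ (Fin.succ (Fin.succ 0))))
/-- index 6 -/
def i6 (m : ℕ) : Fin (m + 2 + 5) :=
  Fin.succ (Fin.succ (Fin.succ (Fin.succ (Fin.succ (Fin.succ 0)))))

theorem mu3_ne4 (j : Fin (m + 2 + 5)) (hj : j ≠ i4 m) : mu3 m ζ j = ζ ∨ mu3 m ζ j = 1 := by
  induction j using Fin.cases with
  | zero => left; rfl
  | succ j =>
    induction j using Fin.cases with
    | zero => left; rfl
    | succ j =>
      induction j using Fin.cases with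
      | zero => left; rfl
      | succ j =>
        induction j using Fin.cases with
        | zero => left; rfl
        | succ j =>
          induction j using Fin.cases with
          | zero => exact absurd rfl hj
          | succ j => right; rfl

theorem p3_not (h3 : ζ ^ 3 = 1) (h1 : ζ ≠ 1)
    (f : (Fin (m + 2 + 5) → F) → (Fin (m + 2 + 5) → F) → F) (hf : Cfsg.Geo.IsSymplecticForm f)
    (c : F)
    (hc : ∀ u v, f (Matrix.diagonal (mu3 m ζ) *ᵥ u) (Matrix.diagonal (mu3 m ζ) *ᵥ v) =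
      c * f u v) : False := by
  have hζ0 : ζ ≠ 0 := by
    intro h0
    rw [h0] at h3
    simp at h3
  have h2 : ζ ^ 2 ≠ 1 := by
    intro h2
    apply h1
    have : ζ ^ 3 = ζ := by rw [pow_succ, h2, one_mul]
    rw [← this, h3]
  obtain ⟨j, hj, hjc⟩ := exists_partner (mu3 m ζ) f hf c hc (i4 m)
  have h44 : mu3 m ζ (i4 m) = ζ ^ 2 := rfl
  have h00 : mu3 m ζ 0 = ζ := rfl
  have h11 : mu3 m ζ (Fin.succ 0) = ζ := rfl
  have h55 : mu3 m ζ (i5 m) = 1 := rfl
  have h66 : mu3 m ζ (i6 m) = 1 := rfl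
  rw [h44] at hjc
  rcases mu3_ne4 ζ j hj with hμ | hμ
  · -- c = 1
    rw [hμ] at hjc
    have hc1 : c = 1 := by rw [← hjc, ← h3]; ring
    apply two_rows (mu3 m ζ) f hf c hc 0 (Fin.succ 0) (i4 m) (by simp [Fin.ext_iff])
    intro j' hj'
    rw [h00, h11, hc1]
    have key : ζ * mu3 m ζ j' ≠ 1 := by
      rcases mu3_ne4 ζ j' hj' with hμ' | hμ'
      · rw [hμ', ← pow_two]
        exact h2
      · rw [hμ', mul_one]
        exact h1
    exact ⟨key, key⟩
  · -- c = ζ²
    rw [hμ, mul_one] at hjc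
    apply two_rows (mu3 m ζ) f hf c hc (i5 m) (i6 m) (i4 m)
      (by simp only [i5, i6, ne_eq, Fin.succ_inj]; exact (Fin.succ_ne_zero _).symm)
    intro j' hj'
    rw [h55, h66, one_mul, ← hjc]
    have key : mu3 m ζ j' ≠ ζ ^ 2 := by
      rcases mu3_ne4 ζ j' hj' with hμ' | hμ'
      · rw [hμ']
        intro h'
        apply h1
        have h5 : ζ * (1 - ζ) = 0 := by linear_combination h'
        rcases mul_eq_zero.mp h5 with h6 | h6
        · exact absurd h6 hζ0
        · exact (sub_eq_zero.mp h6).symm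
      · rw [hμ']
        exact fun h' => h2 h'.symm
    exact ⟨key, key⟩

end p3

end Cfsg.Agent.Lib.helper14.SpSLd
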