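import Mathlib
import Cfsg.Prelude.Def_GeometricClasses
import Cfsg.Agent.Lib.helper14.SpSLd

set_option autoImplicit false

/-!
# Block elements that are similitudes of no symplectic form
-/

namespace Cfsg.Agent.Lib.helper14.SpSLe

open Cfsg.Agent.Lib.Helper28.SympAbs Matrix SpSLc

variable {F : Type*} [Field F] (c k : ℕ)

/-- extension by zero -/
noncomputable def io : (Fin c → F) →ₗ[F] (Fin (c + k) → F) :=
  Function.ExtendByZero.linearMap F (Fin.castAdd k)

/-- restriction -/
def pr : (Fin (c + k) → F) →ₗ[F] (Fin c → F) :=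
  LinearMap.funLeft F F (Fin.castAdd k)

theorem pr_io (y : Fin c → F) : pr c k (io c k y) = y := by
  ext s
  show Function.extend (Fin.castAdd k) y 0 (Fin.castAdd k s) = y s
  exact (Fin.castAdd_injective c k).extend_apply y 0 s

theorem io_natAdd (y : Fin c → F) (i : Fin k) : io c k y (Fin.natAdd c i) = 0 := by
  show Function.extend (Fin.castAdd k) y 0 (Fin.natAdd c i) = 0
  rw [Function.extend_apply']
  · rfl
  · rintro ⟨s, hs⟩
    have h1 := congrArg Fin.val hs
    simp at h1
    omega

/-- the embedding of endomorphisms -/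
noncomputable def emb (a : Module.End F (Fin c → F)) : Module.End F (Fin (c + k) → F) :=
  1 + io c k ∘ₗ (a - 1) ∘ₗ pr c k

theorem emb_apply (a : Module.End F (Fin c → F)) (v : Fin (c + k) → F) :
    emb c k a v = v + io c k (a (pr c k v) - pr c k v) := rfl

theorem pr_emb (a : Module.End F (Fin c → F)) (v : Fin (c + k) → F) :
    pr c k (emb c k a v) = a (pr c k v) := by
  rw [emb_apply, map_add, pr_io]
  abel

theorem emb_io (a : Module.End F (Fin c → F)) (y : Fin c → F) :
    emb c k a (io c k y) = io c k (a y) := by
  rw [emb_apply, pr_io, map_sub]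
  abel

theorem emb_one : emb c k (1 : Module.End F (Fin c → F)) = 1 := by
  apply LinearMap.ext
  intro v
  rw [emb_apply, Module.End.one_apply, Module.End.one_apply, sub_self, map_zero, add_zero]

theorem emb_mul (a b : Module.End F (Fin c → F)) :
    emb c k (a * b) = emb c k a * emb c k b := by
  apply LinearMap.ext
  intro v
  rw [Module.End.mul_apply, emb_apply c k a, pr_emb, emb_apply c k b, emb_apply,
    Module.End.mul_apply, map_sub, map_sub, map_sub]
  abel

theorem emb_pow (a : Module.End F (Fin c → F)) (n : ℕ) :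
    emb c k (a ^ n) = emb c k a ^ n := by
  induction n with
  | zero => rw [pow_zero, pow_zero, emb_one]
  | succ n ih => rw [pow_succ, pow_succ, emb_mul, ih]

theorem emb_fix (a : Module.End F (Fin c → F)) (v : Fin (c + k) → F) (hv : pr c k v = 0) :
    emb c k a v = v := by
  rw [emb_apply, hv, map_zero, sub_zero, map_zero, add_zero]

theorem toMatrix_pow {n : ℕ} (X : Module.End F (Fin n → F)) (m : ℕ) :
    LinearMap.toMatrix' (X ^ m) = (LinearMap.toMatrix' X) ^ m := by
  induction m with
  | zero => rw [pow_zero, pow_zero]; exact LinearMap.toMatrix'_id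
  | succ m ih => rw [pow_succ, pow_succ, LinearMap.toMatrix'_mul, ih]

/-- the block element is a similitude of no symplectic form -/
theorem block_not_sim (hc : Odd c) (a : Module.End F (Fin c → F)) (r : ℕ)
    (har : a ^ r = 1) (hr : r ≠ 0)
    (hfix : ∀ y, a y = y → y = 0)
    (hirr : ∀ U' : Submodule F (Fin c → F), (∀ u ∈ U', a u ∈ U') → U' = ⊥ ∨ U' = ⊤)
    (hmult : ∀ z : F, z ^ r = 1 → z = 1)
    (f : (Fin (c + k) → F) → (Fin (c + k) → F) → F) (hf : Cfsg.Geo.IsSymplecticForm f) :
    ¬ IsSim f (LinearMap.toMatrix' (emb c k a)) := by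
  rintro ⟨c₀, hc₀⟩
  have hc1 : 1 ≤ c := by
    obtain ⟨t, ht⟩ := hc
    omega
  have hXr : (LinearMap.toMatrix' (emb c k a)) ^ r = 1 := by
    rw [← toMatrix_pow, ← emb_pow, har, emb_one]
    exact LinearMap.toMatrix'_id
  have hc01 : (c₀ : F) = 1 :=
    hmult _ (mult_pow_eq_one f hf (by omega) _ _ hc₀ r hXr)
  have hX : ∀ u v, f (emb c k a u) (emb c k a v) = f u v := by
    intro u v
    have := hc₀ u v
    rw [LinearMap.toMatrix'_mulVec, LinearMap.toMatrix'_mulVec, hc01, one_mul] at this
    exact this
  -- `a - 1` is surjective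
  have hbv : ∀ y, (a - 1 : Module.End F (Fin c → F)) y = a y - y := fun y => by
    rw [LinearMap.sub_apply, Module.End.one_apply]
  have hinj : Function.Injective (a - 1 : Module.End F (Fin c → F)) := by
    rw [injective_iff_map_eq_zero]
    intro y hy
    apply hfix
    rw [hbv] at hy
    exact sub_eq_zero.mp hy
  have hsurj : Function.Surjective (a - 1 : Module.End F (Fin c → F)) :=
    LinearMap.injective_iff_surjective.mp hinj
  have hasurj : Function.Surjective a := by
    intro y
    obtain ⟨t, ht⟩ := Nat.exists_eq_succ_of_ne_zero hr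
    refine ⟨(a ^ t) y, ?_⟩
    rw [← Module.End.mul_apply, ← pow_succ']
    have : t + 1 = r := ht.symm
    rw [this, har, Module.End.one_apply]
  -- (i)
  have h_i : ∀ u, pr c k u = 0 → ∀ y, f u (io c k y) = 0 := by
    intro u hu y
    obtain ⟨y₀, hy₀⟩ := hsurj y
    rw [hbv] at hy₀
    have h1 := hX u (io c k y₀)
    rw [emb_fix c k a u hu, emb_io] at h1
    have h2 : a y₀ = y₀ + y := by rw [← hy₀]; abel
    rw [h2, map_add, hf.bilinear.add_right] at h1
    linear_combination h1
  -- the radical
  let R : Submodule F (Fin c → F) :=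
    { carrier := {y | ∀ y', f (io c k y) (io c k y') = 0}
      add_mem' := by
        intro y1 y2 h1 h2 y'
        rw [map_add, hf.bilinear.add_left, h1 y', h2 y', add_zero]
      zero_mem' := by
        intro y'
        rw [map_zero, f_zero_left hf]
      smul_mem' := by
        intro t y h1 y'
        rw [map_smul, hf.bilinear.smul_left, h1 y', mul_zero] }
  have hRinv : ∀ y ∈ R, a y ∈ R := by
    intro y hy y'
    obtain ⟨y'', rfl⟩ := hasurj y'
    rw [← emb_io, ← emb_io c k a y'', hX]
    exact hy y''
  rcases hirr R hRinv with hbot | htop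
  · -- nondegenerate on the block: contradiction with odd dimension
    have hf1 : Cfsg.Geo.IsSymplecticForm (fun y y' : Fin c → F => f (io c k y) (io c k y')) := by
      refine ⟨⟨?_, ?_, ?_, ?_⟩, ?_, ?_, ?_⟩
      · intro x y v
        show f (io c k (x + y)) _ = _
        rw [map_add, hf.bilinear.add_left]
      · intro t x v
        show f (io c k (t • x)) _ = _
        rw [map_smul, hf.bilinear.smul_left]
      · intro v x y
        show f _ (io c k (x + y)) = _
        rw [map_add, hf.bilinear.add_right]
      · intro t v x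
        show f _ (io c k (t • x)) = _
        rw [map_smul, hf.bilinear.smul_right]
      · intro v w
        exact hf.skew _ _
      · intro v
        exact hf.alternating _
      · intro v hv
        have hvR : v ∉ R := by
          intro h
          rw [hbot, Submodule.mem_bot] at h
          exact hv h
        have : ∃ y', f (io c k v) (io c k y') ≠ 0 := by
          by_contra hcon
          push Not at hcon
          exact hvR hcon
        obtain ⟨y', hy'⟩ := this
        refine ⟨⟨y', ?_⟩, ⟨y', hy'⟩⟩
        show f (io c k y') (io c k v) ≠ 0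
        rw [hf.skew]
        exact neg_ne_zero.mpr hy'
    obtain ⟨k', _, hk', _⟩ := SpSLa.exists_std _ hf1
    obtain ⟨t, ht⟩ := hc
    omega
  · -- totally isotropic block: contradiction with nondegeneracy
    let y₁ : Fin c → F := Pi.single ⟨0, hc1⟩ 1
    have hy₁ : y₁ ≠ 0 := by
      intro h0
      have := congrFun h0 ⟨0, hc1⟩
      simp [y₁] at this
    have hio : io c k y₁ ≠ 0 := by
      intro h0
      apply hy₁
      rw [← pr_io c k y₁, h0, map_zero]
    obtain ⟨_, ⟨v, hv⟩⟩ := hf.nondegenerate _ hio
    apply hv
    have hy₁R : y₁ ∈ R := htop ▸ Submodule.mem_top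
    have e : v = (v - io c k (pr c k v)) + io c k (pr c k v) := by abel
    rw [e, hf.bilinear.add_right, hy₁R (pr c k v), add_zero, hf.skew,
      h_i (v - io c k (pr c k v)) (by rw [map_sub, pr_io, sub_self]) y₁, neg_zero]

end Cfsg.Agent.Lib.helper14.SpSLe
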