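import Cfsg.Agent.Lib.helper23.PgW

set_option autoImplicit false

/-!
# Stabiliser chains certified by the order of the group

For a chain in helper23's format the basic checks of the levels (the transversal words reach the
points of the listed orbit, the generators of the next level are words in the generators of this
level and fix the base point) give a lower bound for the order of the group of the chain: the
product of the lengths of the listed orbits.  If the order of the group is known to be at most this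
product, the chain is a stabiliser chain: the listed orbits are the orbits and the group of the
next level is the stabiliser.  No Schreier generator has to be sifted.  The enumeration of the
elements of the group (with pruning) and the centraliser tests of helper23 are proved again
for such chains.
-/

namespace Cfsg.Agent.Lib.helper14.PV

open Cfsg.Agent.Lib.helper23 Subgroup MulAction

/-- the basic checks of all levels -/
def pgChk0W (n : ℕ) (C : List PgLvlW) : Bool :=
  @List.rec PgLvlW (fun _ => Bool) true (fun L Ls ih => pgChkLvlW0 n L Ls && ih) C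

theorem pgChk0W_cons (n : ℕ) (L : PgLvlW) (C : List PgLvlW) :
    pgChk0W n (L :: C) = (pgChkLvlW0 n L C && pgChk0W n C) := rfl

theorem pgChk0W_ok {n : ℕ} : ∀ C : List PgLvlW, pgChk0W n C = true →
    ∀ P ∈ pgOwnW C, P.ok n = true := by
  intro C
  cases C with
  | nil => intro _ P hP; exact absurd hP List.not_mem_nil
  | cons L C =>
    intro h P hP
    rw [pgChk0W_cons, Bool.and_eq_true] at h
    exact (pgChkLvlW0_spec h.1).2.2.1 P hP

/-- the facts of one level: the subgroup of the next level fixes the base point, the listed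
points are in the orbit -/
theorem pgLvl_facts {n : ℕ} {L : PgLvlW} {C : List PgLvlW} (h : pgChk0W n (L :: C) = true) :
    ∃ hb : L.b < n, pgGrpW n C ≤ pgGrpW n (L :: C) ∧
      (∀ k ∈ pgGrpW n C, k ⟨L.b, hb⟩ = ⟨L.b, hb⟩) ∧
      (∀ z : Fin n, L.inO z.1 = true → ∃ g ∈ pgGrpW n (L :: C), g ⟨L.b, hb⟩ = z) := by
  rw [pgChk0W_cons, Bool.and_eq_true] at h
  have hCok := pgChk0W_ok C h.2
  obtain ⟨hb, hfix, hok, -, -, hU, -⟩ := pgChkLvlW0_spec h.1
  refine ⟨hb, pgGrpW_mono h.1 hCok, pgGrpW_fix (b := ⟨L.b, hb⟩) hfix hCok, ?_⟩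
  intro z hz
  refine ⟨pgWordPerm n L.own (L.path z.1), pgWordPerm_mem hok _, ?_⟩
  apply Fin.ext
  rw [pgWordPerm_apply hok]
  exact (hU z.1 z.2 hz).2

/-- the set of listed points -/
def lvlSet (n : ℕ) (L : PgLvlW) : Set (Fin n) := {z | L.inO z.1 = true}

theorem lvlSet_ncard (n : ℕ) (L : PgLvlW) : (lvlSet n L).ncard = pgCount n L.inO := by
  rw [← pgCount_fin, ← Set.ncard_coe_finset]
  congr 1
  ext z
  simp [lvlSet]

/-- the inclusion of the group of the next level in the stabiliser -/
def toStab {n : ℕ} {G H : Subgroup (Equiv.Perm (Fin n))} (b : Fin n) (hle : H ≤ G)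
    (hfix : ∀ k ∈ H, k b = b) (k : ↥H) : ↥(stabilizer ↥G b) :=
  ⟨⟨k.1, hle k.2⟩, by
    rw [mem_stabilizer_iff]
    exact hfix k.1 k.2⟩

theorem toStab_injective {n : ℕ} {G H : Subgroup (Equiv.Perm (Fin n))} (b : Fin n) (hle : H ≤ G)
    (hfix : ∀ k ∈ H, k b = b) : Function.Injective (toStab b hle hfix) := by
  intro k k' h
  apply Subtype.ext
  exact congrArg (fun x : ↥(stabilizer ↥G b) => x.1.1) h

theorem card_eq_stab_mul_orbit {n : ℕ} (G : Subgroup (Equiv.Perm (Fin n))) (b : Fin n) :
    Nat.card ↥G = Nat.card ↥(stabilizer ↥G b) * (orbit ↥G b).ncard := by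
  rw [← index_stabilizer]
  exact (Subgroup.card_mul_index _).symm

theorem lvlSet_subset {n : ℕ} {L : PgLvlW} {C : List PgLvlW} {hb : L.b < n}
    (horb : ∀ z : Fin n, L.inO z.1 = true → ∃ g ∈ pgGrpW n (L :: C), g ⟨L.b, hb⟩ = z) :
    lvlSet n L ⊆ orbit ↥(pgGrpW n (L :: C)) (⟨L.b, hb⟩ : Fin n) := by
  intro z hz
  obtain ⟨g, hg, hgz⟩ := horb z hz
  exact ⟨⟨g, hg⟩, hgz⟩

/-- the lower bound for the order -/
theorem pgCardW_ge {n : ℕ} : ∀ C : List PgLvlW, pgChk0W n C = true →
    pgOrdW n C ≤ Nat.card (pgGrpW n C) := by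
  intro C
  induction C with
  | nil =>
    intro _
    rw [pgGrpW_nil, Subgroup.card_bot]
    exact le_refl 1
  | cons L C ih =>
    intro h
    obtain ⟨hb, hle, hfix, horb⟩ := pgLvl_facts h
    have hC : pgChk0W n C = true := by
      rw [pgChk0W_cons, Bool.and_eq_true] at h
      exact h.2
    rw [pgOrdW_cons, card_eq_stab_mul_orbit _ (⟨L.b, hb⟩ : Fin n), mul_comm]
    apply Nat.mul_le_mul
    · exact le_trans (ih hC)
        (Nat.card_le_card_of_injective _ (toStab_injective (⟨L.b, hb⟩ : Fin n) hle hfix))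
    · rw [← lvlSet_ncard]
      exact Set.ncard_le_ncard (lvlSet_subset horb) (Set.toFinite _)

/-- a chain which is a stabiliser chain -/
def PgValidW (n : ℕ) : List PgLvlW → Prop
  | [] => True
  | L :: C => pgChkLvlW0 n L C = true ∧
      (∀ h ∈ pgGrpW n (L :: C), ∀ hb : L.b < n, L.inO (h ⟨L.b, hb⟩).1 = true) ∧
      (∀ h ∈ pgGrpW n (L :: C), ∀ hb : L.b < n, h ⟨L.b, hb⟩ = ⟨L.b, hb⟩ → h ∈ pgGrpW n C) ∧
      PgValidW n C

theorem nat_mul_tight {a b c d : ℕ} (hc : 0 < c) (hd : 0 < d) (ha : c ≤ a) (hb : d ≤ b)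
    (h : a * b ≤ c * d) : a = c ∧ b = d := by
  have h1 : c * d ≤ a * b := Nat.mul_le_mul ha hb
  have h2 : a * b = c * d := le_antisymm h h1
  constructor
  · by_contra hne
    have hlt : c < a := lt_of_le_of_ne ha (Ne.symm hne)
    have : c * d < a * b := by
      calc c * d < a * d := Nat.mul_lt_mul_of_pos_right hlt hd
        _ ≤ a * b := Nat.mul_le_mul_left a hb
    omega
  · by_contra hne
    have hlt : d < b := lt_of_le_of_ne hb (Ne.symm hne)
    have : c * d < a * b := by
      calc c * d < c * b := Nat.mul_lt_mul_of_pos_left hlt hc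
        _ ≤ a * b := Nat.mul_le_mul_right b ha
    omega

theorem pgOrdW_pos {n : ℕ} : ∀ C : List PgLvlW, pgChk0W n C = true → 0 < pgOrdW n C := by
  intro C
  induction C with
  | nil => intro _; exact Nat.one_pos
  | cons L C ih =>
    intro h
    rw [pgChk0W_cons, Bool.and_eq_true] at h
    obtain ⟨hb, -, -, hOb, -, -, -⟩ := pgChkLvlW0_spec h.1
    rw [pgOrdW_cons]
    apply Nat.mul_pos _ (ih h.2)
    rw [← lvlSet_ncard, Set.ncard_pos (Set.toFinite _)]
    exact ⟨⟨L.b, hb⟩, hOb⟩

/-- a chain passing the basic checks, whose group has at most the expected order, is a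
stabiliser chain, and the order is the expected one -/
theorem pgValid_of_card {n : ℕ} : ∀ C : List PgLvlW, pgChk0W n C = true →
    Nat.card (pgGrpW n C) ≤ pgOrdW n C → PgValidW n C ∧ Nat.card (pgGrpW n C) = pgOrdW n C := by
  intro C
  induction C with
  | nil =>
    intro _ _
    refine ⟨trivial, ?_⟩
    rw [pgGrpW_nil, Subgroup.card_bot]
    rfl
  | cons L C ih =>
    intro h hcard
    obtain ⟨hb, hle, hfix, horb⟩ := pgLvl_facts h
    have hC : pgChk0W n C = true := by
      rw [pgChk0W_cons, Bool.and_eq_true] at h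
      exact h.2
    have h0 : pgChkLvlW0 n L C = true := by
      rw [pgChk0W_cons, Bool.and_eq_true] at h
      exact h.1
    set b : Fin n := ⟨L.b, hb⟩ with hbdef
    set G := pgGrpW n (L :: C) with hG
    set H := pgGrpW n C with hH
    have hinj := toStab_injective b hle hfix
    have e1 := card_eq_stab_mul_orbit G b
    have hS : Nat.card ↥H ≤ Nat.card ↥(stabilizer ↥G b) := Nat.card_le_card_of_injective _ hinj
    have hHge : pgOrdW n C ≤ Nat.card ↥H := pgCardW_ge C hC
    have hO : pgCount n L.inO ≤ (orbit ↥G b).ncard := by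
      rw [← lvlSet_ncard]
      exact Set.ncard_le_ncard (lvlSet_subset horb) (Set.toFinite _)
    have hcpos : 0 < pgCount n L.inO := by
      have := pgOrdW_pos (L :: C) h
      rw [pgOrdW_cons] at this
      exact Nat.pos_of_mul_pos_right this
    have hdpos : 0 < pgOrdW n C := pgOrdW_pos C hC
    rw [pgOrdW_cons, e1, mul_comm (pgCount n L.inO)] at hcard
    obtain ⟨t1, t2⟩ := nat_mul_tight hdpos hcpos (le_trans hHge hS) hO hcard
    have hHcard : Nat.card ↥H ≤ pgOrdW n C := by rw [← t1]; exact hS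
    obtain ⟨hvalC, hcardC⟩ := ih hC hHcard
    refine ⟨⟨h0, ?_, ?_, hvalC⟩, ?_⟩
    · -- the orbit is the listed set
      intro g hg hb'
      have hsub := lvlSet_subset horb
      have heq : lvlSet n L = orbit ↥G b := by
        apply Set.eq_of_subset_of_ncard_le hsub _ (Set.toFinite _)
        rw [lvlSet_ncard, t2]
      have : g b ∈ orbit ↥G b := ⟨⟨g, hg⟩, rfl⟩
      rw [← heq] at this
      exact this
    · -- the stabiliser is the group of the next level
      intro g hg hb' hgb
      have hbij : Function.Bijective (toStab b hle hfix) := by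
        haveI : Finite ↥(stabilizer ↥G b) := inferInstance
        apply Function.Injective.bijective_of_nat_card_le hinj
        rw [t1, hcardC]
      obtain ⟨k, hk⟩ := hbij.2 ⟨⟨g, hg⟩, by rw [mem_stabilizer_iff]; exact hgb⟩
      have : k.1 = g := congrArg (fun x : ↥(stabilizer ↥G b) => x.1.1) hk
      rw [← this]
      exact k.2
    · rw [e1, t1, t2, pgOrdW_cons, mul_comm]

theorem PgValidW.ok {n : ℕ} : ∀ {C : List PgLvlW}, PgValidW n C → ∀ P ∈ pgOwnW C, P.ok n = true := by
  intro C
  cases C with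
  | nil => intro _ P hP; exact absurd hP List.not_mem_nil
  | cons L C =>
    intro h P hP
    exact (pgChkLvlW0_spec h.1).2.2.1 P hP

/-! ### enumeration with pruning -/

theorem pgEnumM_sound' {n w : ℕ} (hw : n ≤ 2 ^ w) (prune : List (ℕ × ℕ) → Bool)
    (test : (ℕ → ℕ) → Bool) (h : Equiv.Perm (Fin n))
    (hprune : ∀ l : List (ℕ × ℕ), (∀ q ∈ l, ∃ hq : q.1 < n, (h ⟨q.1, hq⟩).1 = q.2) →
      prune l = true) :
    ∀ C : List PgLvlW, PgValidW n C →
    ∀ (md : ℕ) (pre : ℕ → ℕ) (W : Equiv.Perm (Fin n)) (imgs : List (ℕ × ℕ)),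
      (∀ p : Fin n, pre p.1 = (W p).1) →
      (∀ q ∈ imgs, ∃ hq : q.1 < n, (h ⟨q.1, hq⟩).1 = q.2) →
      pgEnumM n w prune test C md pre imgs = true →
      ∀ h' ∈ pgGrpW n C, h = W * h' →
      ∃ f : ℕ → ℕ, (∀ p : Fin n, f p.1 = (h p).1) ∧ test f = true := by
  intro C
  induction C with
  | nil =>
    intro _ md pre W imgs hpre _ hen h' hh' hW
    rw [pgGrpW_nil, Subgroup.mem_bot] at hh'
    rw [hh', mul_one] at hW
    rw [pgEnumM_nil] at hen
    refine ⟨pre, ?_, hen⟩
    intro p
    rw [hW]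
    exact hpre p
  | cons L C ih =>
    intro hval md pre W imgs hpre himgs hen h' hh' hW
    obtain ⟨h0, horbAll, hstabAll, hvalC⟩ := hval
    obtain ⟨hb, -, hok, -, -, hU, -⟩ := pgChkLvlW0_spec h0
    have hmono := pgGrpW_mono h0 hvalC.ok
    have horb := horbAll h' hh' hb
    set z : Fin n := h' ⟨L.b, hb⟩ with hz
    rw [pgEnumM_cons] at hen
    have hen1 := (pgAll_iff _ _).1 hen z.1 z.2
    have hy : pre z.1 = (h ⟨L.b, hb⟩).1 := by
      rw [hpre z, hW, Equiv.Perm.mul_apply]
    have himgs' : ∀ q ∈ (L.b, pre z.1) :: imgs, ∃ hq : q.1 < n, (h ⟨q.1, hq⟩).1 = q.2 := by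
      intro q hq
      rcases List.mem_cons.1 hq with rfl | hq
      · exact ⟨hb, hy.symm⟩
      · exact himgs q hq
    obtain ⟨md', pre', hen2, hpre'⟩ := pgEnumStep_spec hen1 horb (hprune _ himgs')
    set u := pgWordPerm n L.own (L.path z.1) with hu
    have humem : u ∈ pgGrpW n (L :: C) := pgWordPerm_mem hok _
    have hub : u ⟨L.b, hb⟩ = z := by
      apply Fin.ext
      rw [hu, pgWordPerm_apply hok]
      exact (hU z.1 z.2 horb).2
    have hh'' : u⁻¹ * h' ∈ pgGrpW n C := by
      apply hstabAll _ (mul_mem (inv_mem humem) hh') hb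
      rw [Equiv.Perm.mul_apply, ← hz, ← hub]
      simp
    have hcomp : ∀ p : Fin n, pre (pgEvalW L.own (L.path z.1) p.1) = ((W * u) p).1 := by
      intro p
      rw [Equiv.Perm.mul_apply, ← hpre, hu, pgWordPerm_apply hok]
    refine ih hvalC md' pre' (W * u) _ ?_ himgs' hen2 _ hh'' ?_
    · intro p
      rcases hpre' with rfl | rfl
      · exact hcomp p
      · show pgLk w (pgMk w n fun p => pre (pgEvalW L.own (L.path z.1) p)) p.1 = _
        rw [pgMk_lk w n _ ?_ p.1 p.2]
        · exact hcomp p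
        · intro k hk
          have := hcomp ⟨k, hk⟩
          simp only at this
          rw [this]
          exact lt_of_lt_of_le ((W * u) ⟨k, hk⟩).2 hw
    · rw [hW]
      group

/-- the elements commuting with `v` satisfy the test -/
theorem pgCent_gen' {n w : ℕ} (hw : n ≤ 2 ^ w) {C : List PgLvlW} (hval : PgValidW n C)
    (vf : ℕ → ℕ) (test : (ℕ → ℕ) → Bool) (md : ℕ)
    (v : Equiv.Perm (Fin n)) (hv : PgRep vf v)
    (hen : pgEnumM n w (pgCentPrune vf)
      (fun f => cond (pgAll n (fun p => Nat.beq (f (vf p)) (vf (f p)))) (test f) true)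
      C md (fun p => p) [] = true) :
    ∀ h ∈ pgGrpW n C, h * v = v * h → ∃ f : ℕ → ℕ, PgRep f h ∧ test f = true := by
  intro h hh hcomm
  have hc : ∀ p : Fin n, h (v p) = v (h p) := by
    intro p
    rw [← Equiv.Perm.mul_apply, ← Equiv.Perm.mul_apply, hcomm]
  obtain ⟨f, hf, ht⟩ := pgEnumM_sound' hw (pgCentPrune vf) _ h
    (pgCentPrune_sound hv hc) C hval md (fun p => p) 1 [] (fun _ => rfl)
    (fun _ hq => absurd hq List.not_mem_nil) hen h hh (one_mul h).symm
  refine ⟨f, hf, ?_⟩
  have hcm : pgAll n (fun p => Nat.beq (f (vf p)) (vf (f p))) = true := by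
    rw [pgAll_iff]
    intro p hp
    rw [Nat.beq_eq]
    have e1 : vf p = (v ⟨p, hp⟩).1 := hv ⟨p, hp⟩
    have e2 : f p = (h ⟨p, hp⟩).1 := hf ⟨p, hp⟩
    rw [e1, e2, hf, hv, hc]
  simp only [hcm, cond_true] at ht
  exact ht

/-- the elements commuting with `v` have one of the listed exponents -/
theorem pgCent_main' {n w : ℕ} (hw : n ≤ 2 ^ w) {C : List PgLvlW} (hval : PgValidW n C)
    (vf : ℕ → ℕ) (Ks : List ℕ) (md : ℕ)
    (v : Equiv.Perm (Fin n)) (hv : ∀ p : Fin n, vf p.1 = (v p).1)
    (hen : pgEnumM n w (pgCentPrune vf) (pgCentTest n w vf Ks) C md (fun p => p) [] = true) :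
    ∀ h ∈ pgGrpW n C, h * v = v * h → ∃ K ∈ Ks, h ^ K = 1 := by
  intro h hh hcomm
  have hc : ∀ p : Fin n, h (v p) = v (h p) := by
    intro p
    rw [← Equiv.Perm.mul_apply, ← Equiv.Perm.mul_apply, hcomm]
  obtain ⟨f, hf, ht⟩ := pgEnumM_sound' hw (pgCentPrune vf) (pgCentTest n w vf Ks) h
    (pgCentPrune_sound hv hc) C hval md (fun p => p) 1 [] (fun _ => rfl)
    (fun _ hq => absurd hq List.not_mem_nil) hen h hh (one_mul h).symm
  unfold pgCentTest at ht
  have hcm : pgAll n (fun p => Nat.beq (f (vf p)) (vf (f p))) = true := by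
    rw [pgAll_iff]
    intro p hp
    rw [Nat.beq_eq]
    have e1 : vf p = (v ⟨p, hp⟩).1 := hv ⟨p, hp⟩
    have e2 : f p = (h ⟨p, hp⟩).1 := hf ⟨p, hp⟩
    rw [e1, e2, hf, hv, hc]
  rw [hcm] at ht
  exact pgExpTest_sound hw hf ht

/-- all elements of the group satisfy the test -/
theorem pgEnumM_all' {n w : ℕ} (hw : n ≤ 2 ^ w) {C : List PgLvlW} (hval : PgValidW n C)
    (test : (ℕ → ℕ) → Bool) (md : ℕ)
    (hen : pgEnumM n w pgNoPrune test C md (fun p => p) [] = true) :
    ∀ h ∈ pgGrpW n C, ∃ f : ℕ → ℕ, (∀ p : Fin n, f p.1 = (h p).1) ∧ test f = true := by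
  intro h hh
  exact pgEnumM_sound' hw pgNoPrune test h (fun _ _ => rfl) C hval md (fun p => p) 1 []
    (fun _ => rfl) (fun _ hq => absurd hq List.not_mem_nil) hen h hh (one_mul h).symm

/-! ### membership by sifting, the final test on all points -/

theorem pgSiftW_sound' {n : ℕ} : ∀ C : List PgLvlW, pgChk0W n C = true →
    ∀ (f : ℕ → ℕ) (g : Equiv.Perm (Fin n)), (∀ p : Fin n, f p.1 = (g p).1) →
      pgSiftW n (List.range n) C f = true → g ∈ pgGrpW n C := by
  intro C
  induction C with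
  | nil =>
    intro _ f g hfg hs
    rw [pgSiftW_nil, pgAllL_iff] at hs
    have : g = 1 := by
      ext p
      have := hs p.1 (List.mem_range.2 p.2)
      rw [Nat.beq_eq, hfg p] at this
      exact this
    rw [this]
    exact one_mem _
  | cons L C ih =>
    intro h f g hfg hs
    rw [pgChk0W_cons, Bool.and_eq_true] at h
    obtain ⟨hb, -, hok, -, -, hU, -⟩ := pgChkLvlW0_spec h.1
    have hmono := pgGrpW_mono h.1 (pgChk0W_ok C h.2)
    rw [pgSiftW_cons] at hs
    have hO : L.inO (f L.b) = true := by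
      cases hh : L.inO (f L.b) with
      | true => rfl
      | false => rw [hh] at hs; exact absurd hs (by simp)
    rw [hO] at hs
    simp only [cond_true] at hs
    have hfb : f L.b = (g ⟨L.b, hb⟩).1 := hfg ⟨L.b, hb⟩
    have hzn : f L.b < n := by rw [hfb]; exact (g ⟨L.b, hb⟩).2
    obtain ⟨hlet, -⟩ := hU (f L.b) hzn hO
    have hv : pgWordPerm n L.own (L.path (f L.b)) ∈ pgGrpW n (L :: C) := pgWordPerm_mem hok _
    have hinv := pgInvW_perm hok (L.path (f L.b)) hlet
    have h2 : (pgWordPerm n L.own (L.path (f L.b)))⁻¹ * g ∈ pgGrpW n C := by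
      apply ih h.2 _ _ _ hs
      intro p
      rw [Equiv.Perm.mul_apply, ← hinv, pgWordPerm_apply hok, ← hfg]
    have : g = pgWordPerm n L.own (L.path (f L.b)) *
        ((pgWordPerm n L.own (L.path (f L.b)))⁻¹ * g) := by simp
    rw [this]
    exact mul_mem hv (hmono h2)

end Cfsg.Agent.Lib.helper14.PV
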