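import Cfsg.Agent.Lib.helper14.MSd
import Cfsg.Agent.Lib.helper14.MSe
import Cfsg.Agent.Lib.helper14.PgV

set_option autoImplicit false
set_option maxRecDepth 1000000

/-!
# The Conway group `Co₂` on 4600 points: the stabiliser chain, the order, the isomorphism

The chain passes the basic checks; the order of its group is at most the order of `Co₂` because the
group is contained in the image of the permutation representation; hence it is a stabiliser chain.
-/

namespace Cfsg.Agent.Lib.helper14.MS

open Cfsg.Agent.Lib.helper23 Cfsg.Agent.Lib.helper14.PV Subgroup MulAction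

theorem mscchk0x5 : pgChkLvlW0 4600 mscL5 [] = true := by decide +kernel

theorem mscchk0x4 : pgChkLvlW0 4600 mscL4 [mscL5] = true := by decide +kernel

theorem mscchk0x3 : pgChkLvlW0 4600 mscL3 [mscL4, mscL5] = true := by decide +kernel

theorem mscchk0x2 : pgChkLvlW0 4600 mscL2 [mscL3, mscL4, mscL5] = true := by decide +kernel

theorem mscchk0x1 : pgChkLvlW0 4600 mscL1 [mscL2, mscL3, mscL4, mscL5] = true := by decide +kernel

theorem mschk0 : pgChk0W 4600 msC = true := by
  unfold msC
  rw [pgChk0W_cons, pgChk0W_cons, pgChk0W_cons, pgChk0W_cons, pgChk0W_cons, mscchk0x1, mscchk0x2, mscchk0x3, mscchk0x4, mscchk0x5]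
  rfl

theorem msord : pgOrdW 4600 msC = 42305421312000 := by decide +kernel

theorem msset_eq : pgSet 4600 mscL1.own = {msSa, msSg} := by
  ext x
  constructor
  · rintro ⟨P, hP, rfl⟩
    change P ∈ [msPA, msPG] at hP
    simp only [List.mem_cons, List.not_mem_nil, or_false] at hP
    rcases hP with rfl | rfl
    · exact Or.inl rfl
    · exact Or.inr rfl
  · rintro (rfl | rfl)
    · exact ⟨msPA, List.mem_cons_self, rfl⟩
    · exact ⟨msPG, List.mem_cons_of_mem _ List.mem_cons_self, rfl⟩

/-- the concrete group is the group of the chain -/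
theorem M4600_eq : M4600 = pgGrpW 4600 msC := by
  unfold M4600
  rw [← msset_eq]
  rfl

theorem M4600_card_le : Nat.card ↥M4600 ≤ 42305421312000 := by
  rw [← range_card]
  have : Finite ↥msRho.range := Nat.finite_of_card_ne_zero (by rw [range_card]; norm_num)
  exact Subgroup.card_le_of_le M4600_le

theorem msvalid_card : PgValidW 4600 msC ∧ Nat.card (pgGrpW 4600 msC) = pgOrdW 4600 msC := by
  apply pgValid_of_card msC mschk0
  rw [← M4600_eq, msord]
  exact M4600_card_le

/-- the chain is a stabiliser chain -/
theorem msvalid : PgValidW 4600 msC := msvalid_card.1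

/-- the order of the concrete group -/
theorem M4600_card : Nat.card ↥M4600 = 42305421312000 := by
  rw [M4600_eq, msvalid_card.2, msord]

/-- the Conway group `Co₂` is isomorphic to the concrete group on 4600 points -/
theorem M4600_equiv : Nonempty (↥Cfsg.Spor.Co2 ≃* ↥M4600) := co2_4600_iso M4600_card

end Cfsg.Agent.Lib.helper14.MS
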