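import Cfsg.Agent.Lib.helper14.MQd

set_option autoImplicit false
set_option maxRecDepth 1000000

/-!
# The Conway group `Co₃` on 276 points: the checks of the stabiliser chain
-/

namespace Cfsg.Agent.Lib.helper14.MQ

open Cfsg.Agent.Lib.helper23 Subgroup MulAction

/-- the trivial rigid ambient group: all permutations, every point in the base -/
def mqRigidTop (n : ℕ) : PgRigid n where
  A := ⊤
  base := List.range n
  rigid := by
    intro g _ h
    apply Equiv.ext
    intro i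
    exact h i.1 (List.mem_range.2 i.2) i.2

theorem mqChkLvlW_ofAll {n : ℕ} {base : List ℕ} {L : PgLvlW} {Ls : List PgLvlW}
    (h0 : pgChkLvlW0 n L Ls = true)
    (h1 : ∀ s ∈ L.own, pgChkGenW n base L Ls s 0 n = true) :
    pgChkLvlW n base L Ls = true := by
  unfold pgChkLvlW
  rw [h0, Bool.true_and, pgAllL_iff]
  exact h1

theorem mqcchk0x6 : pgChkLvlW0 276 mqcL6 [] = true := by decide +kernel

theorem mqcchk0x5 : pgChkLvlW0 276 mqcL5 [mqcL6] = true := by decide +kernel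

theorem mqcchk0x4 : pgChkLvlW0 276 mqcL4 [mqcL5, mqcL6] = true := by decide +kernel

theorem mqcchk0x3 : pgChkLvlW0 276 mqcL3 [mqcL4, mqcL5, mqcL6] = true := by decide +kernel

theorem mqcchk0x2 : pgChkLvlW0 276 mqcL2 [mqcL3, mqcL4, mqcL5, mqcL6] = true := by decide +kernel

theorem mqcchk0x1 : pgChkLvlW0 276 mqcL1 [mqcL2, mqcL3, mqcL4, mqcL5, mqcL6] = true := by decide +kernel

theorem mqccl6x0 : pgChkGenW 276 (List.range 276) mqcL6 []
    (mqgen mqcT6x0 mqcI6x0) 0 276 = true := by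
  decide +kernel

theorem mqccl6x1 : pgChkGenW 276 (List.range 276) mqcL6 []
    (mqgen mqcT6x1 mqcI6x1) 0 276 = true := by
  decide +kernel

theorem mqccl5x0 : pgChkGenW 276 (List.range 276) mqcL5 [mqcL6]
    (mqgen mqcT5x0 mqcI5x0) 0 276 = true := by
  decide +kernel

theorem mqccl5x1 : pgChkGenW 276 (List.range 276) mqcL5 [mqcL6]
    (mqgen mqcT5x1 mqcI5x1) 0 276 = true := by
  decide +kernel

theorem mqccl4x0 : pgChkGenW 276 (List.range 276) mqcL4 [mqcL5, mqcL6]
    (mqgen mqcT4x0 mqcI4x0) 0 276 = true := by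
  decide +kernel

theorem mqccl4x1 : pgChkGenW 276 (List.range 276) mqcL4 [mqcL5, mqcL6]
    (mqgen mqcT4x1 mqcI4x1) 0 276 = true := by
  decide +kernel

theorem mqccl3x0 : pgChkGenW 276 (List.range 276) mqcL3 [mqcL4, mqcL5, mqcL6]
    (mqgen mqcT3x0 mqcI3x0) 0 276 = true := by
  decide +kernel

theorem mqccl3x1 : pgChkGenW 276 (List.range 276) mqcL3 [mqcL4, mqcL5, mqcL6]
    (mqgen mqcT3x1 mqcI3x1) 0 276 = true := by
  decide +kernel

theorem mqccl2x0 : pgChkGenW 276 (List.range 276) mqcL2 [mqcL3, mqcL4, mqcL5, mqcL6]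
    (mqgen mqcT2x0 mqcI2x0) 0 276 = true := by
  decide +kernel

theorem mqccl2x1 : pgChkGenW 276 (List.range 276) mqcL2 [mqcL3, mqcL4, mqcL5, mqcL6]
    (mqgen mqcT2x1 mqcI2x1) 0 276 = true := by
  decide +kernel

theorem mqccl1x0 : pgChkGenW 276 (List.range 276) mqcL1 [mqcL2, mqcL3, mqcL4, mqcL5, mqcL6]
    (mqgen mqcT1x0 mqcI1x0) 0 276 = true := by
  decide +kernel

theorem mqccl1x1 : pgChkGenW 276 (List.range 276) mqcL1 [mqcL2, mqcL3, mqcL4, mqcL5, mqcL6]
    (mqgen mqcT1x1 mqcI1x1) 0 276 = true := by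
  decide +kernel

theorem mqcchkL6 : pgChkLvlW 276 (List.range 276) mqcL6 [] = true := by
  apply mqChkLvlW_ofAll mqcchk0x6
  intro s hs
  change s ∈ [mqgen mqcT6x0 mqcI6x0, mqgen mqcT6x1 mqcI6x1] at hs
  simp only [List.mem_cons, List.not_mem_nil, or_false] at hs
  rcases hs with rfl | rfl
  · exact mqccl6x0
  · exact mqccl6x1

theorem mqcchkL5 : pgChkLvlW 276 (List.range 276) mqcL5 [mqcL6] = true := by
  apply mqChkLvlW_ofAll mqcchk0x5
  intro s hs
  change s ∈ [mqgen mqcT5x0 mqcI5x0, mqgen mqcT5x1 mqcI5x1] at hs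
  simp only [List.mem_cons, List.not_mem_nil, or_false] at hs
  rcases hs with rfl | rfl
  · exact mqccl5x0
  · exact mqccl5x1

theorem mqcchkL4 : pgChkLvlW 276 (List.range 276) mqcL4 [mqcL5, mqcL6] = true := by
  apply mqChkLvlW_ofAll mqcchk0x4
  intro s hs
  change s ∈ [mqgen mqcT4x0 mqcI4x0, mqgen mqcT4x1 mqcI4x1] at hs
  simp only [List.mem_cons, List.not_mem_nil, or_false] at hs
  rcases hs with rfl | rfl
  · exact mqccl4x0
  · exact mqccl4x1

theorem mqcchkL3 : pgChkLvlW 276 (List.range 276) mqcL3 [mqcL4, mqcL5, mqcL6] = true := by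
  apply mqChkLvlW_ofAll mqcchk0x3
  intro s hs
  change s ∈ [mqgen mqcT3x0 mqcI3x0, mqgen mqcT3x1 mqcI3x1] at hs
  simp only [List.mem_cons, List.not_mem_nil, or_false] at hs
  rcases hs with rfl | rfl
  · exact mqccl3x0
  · exact mqccl3x1

theorem mqcchkL2 : pgChkLvlW 276 (List.range 276) mqcL2 [mqcL3, mqcL4, mqcL5, mqcL6] = true := by
  apply mqChkLvlW_ofAll mqcchk0x2
  intro s hs
  change s ∈ [mqgen mqcT2x0 mqcI2x0, mqgen mqcT2x1 mqcI2x1] at hs
  simp only [List.mem_cons, List.not_mem_nil, or_false] at hs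
  rcases hs with rfl | rfl
  · exact mqccl2x0
  · exact mqccl2x1

theorem mqcchkL1 : pgChkLvlW 276 (List.range 276) mqcL1 [mqcL2, mqcL3, mqcL4, mqcL5, mqcL6] = true := by
  apply mqChkLvlW_ofAll mqcchk0x1
  intro s hs
  change s ∈ [mqgen mqcT1x0 mqcI1x0, mqgen mqcT1x1 mqcI1x1] at hs
  simp only [List.mem_cons, List.not_mem_nil, or_false] at hs
  rcases hs with rfl | rfl
  · exact mqccl1x0
  · exact mqccl1x1

/-- the stabiliser chain -/
def mqC : List PgLvlW := [mqcL1, mqcL2, mqcL3, mqcL4, mqcL5, mqcL6]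

theorem mqchkC : pgChkW 276 (mqRigidTop 276).base mqC = true := by
  change pgChkW 276 (List.range 276) [mqcL1, mqcL2, mqcL3, mqcL4, mqcL5, mqcL6] = true
  rw [pgChkW_cons, pgChkW_cons, pgChkW_cons, pgChkW_cons, pgChkW_cons, pgChkW_cons, mqcchkL1, mqcchkL2, mqcchkL3, mqcchkL4, mqcchkL5, mqcchkL6]
  rfl

theorem mqok : ∀ P ∈ pgOwnW mqC, P.ok 276 = true :=
  pgChkW_own_ok 276 (mqRigidTop 276).base mqC mqchkC

theorem mqord : pgOrdW 276 mqC = 495766656000 := by decide +kernel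

theorem mqcard : Nat.card (pgGrpW 276 mqC) = 495766656000 := by
  rw [pgCardW (mqRigidTop 276) mqC mqchkC le_top, mqord]

theorem mqtabA : ∀ i : Fin 276, mqlk mqcT1x0 i.1 = mqA.getD i.1 0 := by decide +kernel

theorem mqtabG : ∀ i : Fin 276, mqlk mqcT1x1 i.1 = mqG.getD i.1 0 := by decide +kernel

theorem mqmem0 : mqgen mqcT1x0 mqcI1x0 ∈ pgOwnW mqC := List.mem_cons_self

theorem mqmem1 : mqgen mqcT1x1 mqcI1x1 ∈ pgOwnW mqC := List.mem_cons_of_mem _ List.mem_cons_self

theorem mqgen_eq0 : (mqgen mqcT1x0 mqcI1x0).perm 276 = mqSa := by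
  ext i
  rw [PFun.perm_apply (mqok _ mqmem0)]
  exact mqtabA i

theorem mqgen_eq1 : (mqgen mqcT1x1 mqcI1x1).perm 276 = mqSg := by
  ext i
  rw [PFun.perm_apply (mqok _ mqmem1)]
  exact mqtabG i

theorem mqset_eq : pgSet 276 mqcL1.own = {mqSa, mqSg} := by
  ext x
  constructor
  · rintro ⟨P, hP, rfl⟩
    change P ∈ [mqgen mqcT1x0 mqcI1x0, mqgen mqcT1x1 mqcI1x1] at hP
    simp only [List.mem_cons, List.not_mem_nil, or_false] at hP
    rcases hP with rfl | rfl
    · exact Or.inl mqgen_eq0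
    · exact Or.inr mqgen_eq1
  · rintro (rfl | rfl)
    · exact ⟨_, List.mem_cons_self, mqgen_eq0.symm⟩
    · exact ⟨_, List.mem_cons_of_mem _ List.mem_cons_self, mqgen_eq1.symm⟩

/-- the concrete group is the group of the chain -/
theorem M276_eq : M276 = pgGrpW 276 mqC := by
  unfold M276
  rw [← mqset_eq]
  rfl

/-- the order of the concrete group -/
theorem M276_card : Nat.card ↥M276 = 495766656000 := by
  rw [M276_eq]
  exact mqcard

/-- the Conway group `Co₃` is isomorphic to the concrete group on 276 points -/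
theorem M276_equiv : Nonempty (↥Cfsg.Spor.Co3 ≃* ↥M276) := co3_276_iso M276_card

end Cfsg.Agent.Lib.helper14.MQ
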