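import Mathlib
import Cfsg.Agent.Lib.Helper5.S1906.Defs
import Cfsg.Agent.Lib.Helper25.S1906L5

set_option autoImplicit false

/-!
# Project S1906, row L12 (`exists_X0`), written by helper14.

`H` a finite non-abelian 2-group embedded in `GL₂(F) × Fˣ`: take `k` in the second centre, not central; `x ↦ [k, x]` is a
homomorphism onto `{1, c}` with kernel `C_H(k)`, which is abelian since `(φ k).1` is not scalar (L5).
-/

namespace Cfsg.Agent.Lib.Helper5.S1906

open Matrix

section A

variable {H : Type*} [Group H] {F : Type*} [Field F] {φ : H →* GL (Fin 2) F × Fˣ} {c : H}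

/-- elements commuting with `k`, `(φ k).1` not scalar, commute with each other -/
theorem s1906l12_comm_of_nonscalar (hinj : Function.Injective φ) (k a b : H)
    (hk : ∀ s : F, ((φ k).1 : Matrix (Fin 2) (Fin 2) F) ≠ s • (1 : Matrix (Fin 2) (Fin 2) F))
    (ha : a * k = k * a) (hb : b * k = k * b) : a * b = b * a := by
  apply hinj
  rw [map_mul, map_mul]
  refine Prod.ext ?_ (mul_comm _ _)
  apply Units.ext
  show ((φ a).1 : Matrix (Fin 2) (Fin 2) F) * ((φ b).1 : Matrix (Fin 2) (Fin 2) F) =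
    ((φ b).1 : Matrix (Fin 2) (Fin 2) F) * ((φ a).1 : Matrix (Fin 2) (Fin 2) F)
  apply comm_of_comm_nonscalar _ _ _ hk
  · have h1 := congrArg φ ha
    rw [map_mul, map_mul] at h1
    exact congrArg (fun u : GL (Fin 2) F × Fˣ => ((u.1 : GL (Fin 2) F) : Matrix (Fin 2) (Fin 2) F)) h1
  · have h1 := congrArg φ hb
    rw [map_mul, map_mul] at h1
    exact congrArg (fun u : GL (Fin 2) F × Fˣ => ((u.1 : GL (Fin 2) F) : Matrix (Fin 2) (Fin 2) F)) h1

/-- if `(φ k).1` is scalar then `k` is central -/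
theorem s1906l12_central_of_scalar (hinj : Function.Injective φ) (k : H) (s : F)
    (hs : ((φ k).1 : Matrix (Fin 2) (Fin 2) F) = s • (1 : Matrix (Fin 2) (Fin 2) F)) (x : H) :
    x * k = k * x := by
  apply hinj
  rw [map_mul, map_mul]
  refine Prod.ext ?_ (mul_comm _ _)
  apply Units.ext
  show ((φ x).1 : Matrix (Fin 2) (Fin 2) F) * ((φ k).1 : Matrix (Fin 2) (Fin 2) F) =
    ((φ k).1 : Matrix (Fin 2) (Fin 2) F) * ((φ x).1 : Matrix (Fin 2) (Fin 2) F)
  rw [hs, Matrix.mul_smul, Matrix.smul_mul, Matrix.mul_one, Matrix.one_mul]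

/-- elements of the commutator subgroup: second component `1`, determinant of the first `1` -/
theorem s1906l12_comm_facts (w : H) (hw : w ∈ commutator H) :
    (φ w).2 = 1 ∧ ((φ w).1 : Matrix (Fin 2) (Fin 2) F).det = 1 := by
  constructor
  · have hker : w ∈ ((MonoidHom.snd (GL (Fin 2) F) Fˣ).comp φ).ker :=
      Abelianization.commutator_subset_ker _ hw
    rw [MonoidHom.mem_ker, MonoidHom.comp_apply] at hker
    exact hker
  · have hker : w ∈ (((Matrix.GeneralLinearGroup.det : GL (Fin 2) F →* Fˣ).comp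
        (MonoidHom.fst (GL (Fin 2) F) Fˣ)).comp φ).ker :=
      Abelianization.commutator_subset_ker _ hw
    rw [MonoidHom.mem_ker, MonoidHom.comp_apply, MonoidHom.comp_apply] at hker
    have := congrArg Units.val hker
    rwa [Matrix.GeneralLinearGroup.val_det_apply, Units.val_one] at this

theorem s1906l12_c_facts (h : LCtx φ c) : c ≠ 1 ∧ c * c = 1 := by
  constructor
  · intro hc1
    have h1 := h.hc
    rw [hc1, map_one] at h1
    have h2 := congrArg (fun u : GL (Fin 2) F × Fˣ => ((u.1 : GL (Fin 2) F) : Matrix (Fin 2) (Fin 2) F) 0 0) h1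
    simp only [Prod.fst_one, Units.val_one, Matrix.one_apply_eq, Units.val_neg, Matrix.neg_apply] at h2
    apply h.two
    linear_combination h2
  · apply h.inj
    rw [map_mul, h.hc, map_one, Prod.mk_mul_mk, neg_mul_neg, one_mul, one_mul]
    rfl

/-- a central element of the commutator subgroup is `1` or `c` -/
theorem s1906l12_central_comm (h : LCtx φ c) (ζ : H) (hζ : ∀ x : H, x * ζ = ζ * x)
    (hζD : ζ ∈ commutator H) : ζ = 1 ∨ ζ = c := by
  obtain ⟨hsnd, hdet⟩ := s1906l12_comm_facts (φ := φ) ζ hζD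
  have hsc : ∃ s : F, ((φ ζ).1 : Matrix (Fin 2) (Fin 2) F) = s • (1 : Matrix (Fin 2) (Fin 2) F) := by
    by_contra hne
    push Not at hne
    obtain ⟨a, b, hab⟩ := h.na
    exact hab (s1906l12_comm_of_nonscalar h.inj ζ a b hne (hζ a) (hζ b))
  obtain ⟨s, hs⟩ := hsc
  rw [hs, Matrix.det_smul, Matrix.det_one, mul_one, Fintype.card_fin] at hdet
  have hs2 : (s - 1) * (s + 1) = 0 := by linear_combination hdet
  rcases mul_eq_zero.1 hs2 with h1 | h1
  · left
    have hs1 : s = 1 := by linear_combination h1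
    apply h.inj
    rw [map_one]
    refine Prod.ext ?_ hsnd
    apply Units.ext
    show ((φ ζ).1 : Matrix (Fin 2) (Fin 2) F) = 1
    rw [hs, hs1, one_smul]
  · right
    have hs1 : s = -1 := by linear_combination h1
    apply h.inj
    rw [h.hc]
    refine Prod.ext ?_ hsnd
    apply Units.ext
    show ((φ ζ).1 : Matrix (Fin 2) (Fin 2) F) = ((-1 : GL (Fin 2) F) : Matrix (Fin 2) (Fin 2) F)
    rw [hs, hs1, Units.val_neg, Units.val_one, neg_smul, one_smul]

end A

section B

variable {H : Type*} [Group H] [Finite H] {F : Type*} [Field F] {φ : H →* GL (Fin 2) F × Fˣ} {c : H}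

/-- an element of the second centre which is not central -/
theorem s1906l12_exists_k (h : LCtx φ c) :
    ∃ k : H, k ∉ Subgroup.center H ∧ ∀ x : H, k * x * k⁻¹ * x⁻¹ ∈ Subgroup.center H := by
  obtain ⟨a, b, hab⟩ := h.na
  haveI : Nontrivial (H ⧸ Subgroup.center H) := by
    refine ⟨⟨(a : H ⧸ Subgroup.center H), 1, ?_⟩⟩
    intro h1
    rw [QuotientGroup.eq_one_iff] at h1
    exact hab (Subgroup.mem_center_iff.1 h1 b).symm
  haveI : Fact (Nat.Prime 2) := ⟨Nat.prime_two⟩
  have hpq : IsPGroup 2 (H ⧸ Subgroup.center H) := h.pg.to_quotient (Subgroup.center H)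
  haveI := hpq.center_nontrivial
  obtain ⟨⟨q, hq⟩, hne⟩ := exists_ne (1 : Subgroup.center (H ⧸ Subgroup.center H))
  obtain ⟨k, rfl⟩ := QuotientGroup.mk_surjective q
  refine ⟨k, ?_, ?_⟩
  · intro hk
    apply hne
    apply Subtype.ext
    show (k : H ⧸ Subgroup.center H) = 1
    rw [QuotientGroup.eq_one_iff]
    exact hk
  · intro x
    rw [← QuotientGroup.eq_one_iff]
    have hc := Subgroup.mem_center_iff.1 hq (x : H ⧸ Subgroup.center H)
    show ((k : H ⧸ Subgroup.center H) * (x : H ⧸ Subgroup.center H) * (k : H ⧸ Subgroup.center H)⁻¹ *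
      (x : H ⧸ Subgroup.center H)⁻¹) = 1
    rw [← hc]
    group

/-- L12 -/
theorem exists_X0 (h : LCtx φ c) :
    ∃ X0 : Subgroup H, X0.index = 2 ∧ ∀ a ∈ X0, ∀ b ∈ X0, a * b = b * a := by
  obtain ⟨hc1, hc2⟩ := s1906l12_c_facts h
  obtain ⟨k, hk, hkc⟩ := s1906l12_exists_k h
  have hval : ∀ x : H, k * x * k⁻¹ * x⁻¹ = 1 ∨ k * x * k⁻¹ * x⁻¹ = c := by
    intro x
    apply s1906l12_central_comm h _ (fun y => Subgroup.mem_center_iff.1 (hkc x) y)
    rw [commutator_def]
    have := Subgroup.commutator_mem_commutator (Subgroup.mem_top k) (Subgroup.mem_top x)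
    rwa [commutatorElement_def] at this
  let θ : H →* H := MonoidHom.mk' (fun x => k * x * k⁻¹ * x⁻¹) (by
    intro x y
    have hcy := Subgroup.mem_center_iff.1 (hkc y) x⁻¹
    calc k * (x * y) * k⁻¹ * (x * y)⁻¹ = k * x * k⁻¹ * ((k * y * k⁻¹ * y⁻¹) * x⁻¹) := by group
      _ = k * x * k⁻¹ * (x⁻¹ * (k * y * k⁻¹ * y⁻¹)) := by rw [hcy]
      _ = k * x * k⁻¹ * x⁻¹ * (k * y * k⁻¹ * y⁻¹) := by group)
  have hθ : ∀ x, θ x = k * x * k⁻¹ * x⁻¹ := fun x => rfl
  have hker : ∀ x, x ∈ θ.ker ↔ x * k = k * x := by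
    intro x
    rw [MonoidHom.mem_ker, hθ, mul_inv_eq_one, mul_inv_eq_iff_eq_mul]
    exact eq_comm
  have hrange : θ.range = Subgroup.zpowers c := by
    apply le_antisymm
    · rintro _ ⟨x, rfl⟩
      rcases hval x with h1 | h1
      · rw [hθ, h1]
        exact Subgroup.one_mem _
      · rw [hθ, h1]
        exact Subgroup.mem_zpowers c
    · rw [Subgroup.zpowers_le]
      have hex : ∃ x : H, x * k ≠ k * x := by
        by_contra hno
        push Not at hno
        exact hk (Subgroup.mem_center_iff.2 hno)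
      obtain ⟨x, hx⟩ := hex
      refine ⟨x, ?_⟩
      rcases hval x with h1 | h1
      · exfalso
        apply hx
        rw [← hker, MonoidHom.mem_ker, hθ, h1]
      · rw [hθ, h1]
  have hord : orderOf c = 2 := orderOf_eq_prime (by rw [pow_two, hc2]) hc1
  refine ⟨θ.ker, ?_, ?_⟩
  · rw [Subgroup.index_ker, hrange, Nat.card_zpowers, hord]
  · intro a ha b hb
    rw [hker] at ha hb
    apply s1906l12_comm_of_nonscalar h.inj k a b _ ha hb
    intro s hs
    exact hk (Subgroup.mem_center_iff.2 (s1906l12_central_of_scalar h.inj k s hs))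

end B

end Cfsg.Agent.Lib.Helper5.S1906
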