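import Mathlib
import Cfsg.Agent.Lib.Helper19.ORE.Defs
import Cfsg.Agent.Lib.Helper19.ORE.X2

/-!
# Project ORE (S2444), row E3 (`two_all`): core on the statements of the cited rows.

`oree3_core` is the induction over the cyclic pieces for `q = 2`; its hypotheses are the statements
of `solP_conj` (A1), `solP_prod` (A2), `rep_prod` (D3), `solP_of_msol` (D4), `exists_cyc_summand`
(D1) and `two_piece` (E2) over `ZMod 2`; the small `Conj` lemmas are proved here under own names.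
-/

set_option autoImplicit false

namespace Cfsg.Agent.Lib.Helper19.ORE

open Polynomial Module

section conj

variable {F : Type*} [Field F]

theorem oree3_conj_refl {V : Type*} [AddCommGroup V] [Module F V] (g : V ≃ₗ[F] V) :
    Conj (LinearEquiv.refl F V) g g := fun _ => rfl

theorem oree3_conj_symm {V V' : Type*} [AddCommGroup V] [Module F V] [AddCommGroup V']
    [Module F V'] {e : V ≃ₗ[F] V'} {g : V ≃ₗ[F] V} {g' : V' ≃ₗ[F] V'} (h : Conj e g g') :
    Conj e.symm g' g := by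
  intro y
  apply e.injective
  rw [h, LinearEquiv.apply_symm_apply, LinearEquiv.apply_symm_apply]

theorem oree3_conj_trans {V V' V'' : Type*} [AddCommGroup V] [Module F V]
    [AddCommGroup V'] [Module F V'] [AddCommGroup V''] [Module F V'']
    {e : V ≃ₗ[F] V'} {e' : V' ≃ₗ[F] V''} {g : V ≃ₗ[F] V} {g' : V' ≃ₗ[F] V'} {g'' : V'' ≃ₗ[F] V''}
    (h : Conj e g g') (h' : Conj e' g' g'') : Conj (e.trans e') g g'' := by
  intro x
  show e' (e (g x)) = g'' (e' (e x))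
  rw [h, h']

theorem oree3_conj_prod {V V' W W' : Type*}
    [AddCommGroup V] [Module F V] [AddCommGroup V'] [Module F V']
    [AddCommGroup W] [Module F W] [AddCommGroup W'] [Module F W']
    {e : V ≃ₗ[F] V'} {f : W ≃ₗ[F] W'} {g : V ≃ₗ[F] V} {g' : V' ≃ₗ[F] V'}
    {h : W ≃ₗ[F] W} {h' : W' ≃ₗ[F] W'} (hg : Conj e g g') (hh : Conj f h h') :
    Conj (e.prodCongr f) (g.prodCongr h) (g'.prodCongr h') := by
  rintro ⟨x, y⟩
  show (e (g x), f (h y)) = (g' (e x), h' (f y))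
  rw [hg, hh]

theorem oree3_conj_prodComm {V W : Type*} [AddCommGroup V] [Module F V]
    [AddCommGroup W] [Module F W] (g : V ≃ₗ[F] V) (h : W ≃ₗ[F] W) :
    Conj (LinearEquiv.prodComm F V W) (g.prodCongr h) (h.prodCongr g) := by
  rintro ⟨x, y⟩
  rfl

theorem oree3_conj_prodAssoc {V W U : Type*} [AddCommGroup V] [Module F V]
    [AddCommGroup W] [Module F W] [AddCommGroup U] [Module F U]
    (g : V ≃ₗ[F] V) (h : W ≃ₗ[F] W) (k : U ≃ₗ[F] U) :
    Conj (LinearEquiv.prodAssoc F V W U) ((g.prodCongr h).prodCongr k)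
      (g.prodCongr (h.prodCongr k)) := by
  rintro ⟨⟨x, y⟩, z⟩
  rfl

theorem oree3_conj_prodUnique {V W : Type*} [AddCommGroup V] [Module F V]
    [AddCommGroup W] [Module F W] [Unique W] (g : V ≃ₗ[F] V) (h : W ≃ₗ[F] W) :
    Conj (LinearEquiv.prodUnique (R := F) (M := V) (M₂ := W)) (g.prodCongr h) g := by
  rintro ⟨x, y⟩
  rfl

theorem oree3_rep_conj {V V' : Type*} [AddCommGroup V] [Module F V] [AddCommGroup V']
    [Module F V'] {e : V ≃ₗ[F] V'} {g : V ≃ₗ[F] V} {g' : V' ≃ₗ[F] V'} (h : Conj e g g')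
    {k : ℕ} {M : Matrix (Fin k) (Fin k) F} (hr : Rep g' M) : Rep g M := by
  obtain ⟨e', he'⟩ := hr
  refine ⟨e.trans e', fun x => ?_⟩
  show e' (e (g x)) = M.mulVec (e' (e x))
  rw [h, he']

end conj

section two

/-- own-name copy of `IsB` of the skeleton -/
def oree3_IsB {V : Type} [AddCommGroup V] [Module (ZMod 2) V] (g : V ≃ₗ[ZMod 2] V) : Prop :=
  Rep g (comp2 (0 : ZMod 2) 1)

/-- own-name copy of `Good2` of the skeleton -/
def oree3_Good2 {V : Type} [AddCommGroup V] [Module (ZMod 2) V] (g : V ≃ₗ[ZMod 2] V) : Prop :=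
  SolP g 1 1 0

/-- own-name copy of `Q2` of the skeleton -/
def oree3_Q2 {V : Type} [AddCommGroup V] [Module (ZMod 2) V] (g : V ≃ₗ[ZMod 2] V) : Prop :=
  Subsingleton V ∨ oree3_IsB g ∨
    (oree3_Good2 g ∧ ∀ (W : Type) [AddCommGroup W] [Module (ZMod 2) W]
      [FiniteDimensional (ZMod 2) W] (b : W ≃ₗ[ZMod 2] W), oree3_IsB b →
        oree3_Good2 (g.prodCongr b))

/-- the statement of `solP_conj` over `ZMod 2` -/
def Oree3SolPConj : Prop :=
  ∀ {V V' : Type} [AddCommGroup V] [Module (ZMod 2) V] [AddCommGroup V'] [Module (ZMod 2) V']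
    {e : V ≃ₗ[ZMod 2] V'} {g : V ≃ₗ[ZMod 2] V} {g' : V' ≃ₗ[ZMod 2] V'}, Conj e g g' →
    ∀ {D E : (ZMod 2)ˣ} {p : (ZMod 2)[X]}, SolP g D E p → SolP g' D E p

/-- the statement of `solP_prod` over `ZMod 2` -/
def Oree3SolPProd : Prop :=
  ∀ {V W : Type} [AddCommGroup V] [Module (ZMod 2) V] [AddCommGroup W] [Module (ZMod 2) W]
    [FiniteDimensional (ZMod 2) V] [FiniteDimensional (ZMod 2) W]
    {g : V ≃ₗ[ZMod 2] V} {h : W ≃ₗ[ZMod 2] W} {D E D' E' : (ZMod 2)ˣ} {p p' : (ZMod 2)[X]},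
    SolP g D E p → SolP h D' E' p' → SolP (g.prodCongr h) (D * D') (E * E') (p * p')

/-- the statement of `rep_prod` over `ZMod 2` -/
def Oree3RepProd : Prop :=
  ∀ {V W : Type} [AddCommGroup V] [Module (ZMod 2) V] [AddCommGroup W] [Module (ZMod 2) W]
    {k l : ℕ} {g : V ≃ₗ[ZMod 2] V} {h : W ≃ₗ[ZMod 2] W} {M : Matrix (Fin k) (Fin k) (ZMod 2)}
    {M' : Matrix (Fin l) (Fin l) (ZMod 2)}, Rep g M → Rep h M' → Rep (g.prodCongr h) (blk M M')

/-- the statement of `solP_of_msol` over `ZMod 2` -/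
def Oree3SolPOfMSol : Prop :=
  ∀ {V : Type} [AddCommGroup V] [Module (ZMod 2) V] {k : ℕ} {g : V ≃ₗ[ZMod 2] V}
    {M : Matrix (Fin k) (Fin k) (ZMod 2)}, Rep g M → ∀ {D E : (ZMod 2)ˣ} {p : (ZMod 2)[X]},
    MSol M (D : ZMod 2) (E : ZMod 2) p → SolP g D E p

/-- the statement of `exists_cyc_summand` over `ZMod 2` -/
def Oree3CycSummand : Prop :=
  ∀ {V : Type} [AddCommGroup V] [Module (ZMod 2) V] [FiniteDimensional (ZMod 2) V]
    [Nontrivial V] (g : V ≃ₗ[ZMod 2] V),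
    ∃ (V₁ V₂ : Submodule (ZMod 2) V) (g₁ : V₁ ≃ₗ[ZMod 2] V₁) (g₂ : V₂ ≃ₗ[ZMod 2] V₂)
      (e : V ≃ₗ[ZMod 2] V₁ × V₂),
      Conj e g (g₁.prodCongr g₂) ∧ IsCyc g₁ ∧ 0 < finrank (ZMod 2) V₁

/-- the statement of `two_piece` -/
def Oree3TwoPiece : Prop :=
  ∀ {V : Type} [AddCommGroup V] [Module (ZMod 2) V] [FiniteDimensional (ZMod 2) V]
    [Nontrivial V] (g : V ≃ₗ[ZMod 2] V), IsCyc g →
    oree3_IsB g ∨ (oree3_Good2 g ∧ ∀ (W : Type) [AddCommGroup W] [Module (ZMod 2) W]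
      [FiniteDimensional (ZMod 2) W] (b : W ≃ₗ[ZMod 2] W), oree3_IsB b →
        oree3_Good2 (g.prodCongr b))

/-- `Q2` is invariant under conjugation -/
theorem oree3_Q2_conj (hC : Oree3SolPConj) {V V' : Type} [AddCommGroup V] [Module (ZMod 2) V]
    [AddCommGroup V'] [Module (ZMod 2) V'] {e : V ≃ₗ[ZMod 2] V'} {g : V ≃ₗ[ZMod 2] V}
    {g' : V' ≃ₗ[ZMod 2] V'} (h : Conj e g g') (hq : oree3_Q2 g) : oree3_Q2 g' := by
  rcases hq with hs | hb | ⟨hg, hgb⟩
  · left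
    exact e.symm.toEquiv.subsingleton
  · right; left
    exact oree3_rep_conj (oree3_conj_symm h) hb
  · right; right
    refine ⟨hC h hg, fun W _ _ _ b hb => ?_⟩
    exact hC (oree3_conj_prod h (oree3_conj_refl b)) (hgb W b hb)

/-- two solved maps: the product is solved -/
theorem oree3_good_prod (hP : Oree3SolPProd) {V W : Type} [AddCommGroup V] [Module (ZMod 2) V]
    [AddCommGroup W] [Module (ZMod 2) W] [FiniteDimensional (ZMod 2) V]
    [FiniteDimensional (ZMod 2) W] {g : V ≃ₗ[ZMod 2] V} {h : W ≃ₗ[ZMod 2] W}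
    (hg : oree3_Good2 g) (hh : oree3_Good2 h) : oree3_Good2 (g.prodCongr h) := by
  have := hP hg hh
  simpa [oree3_Good2] using this

/-- `B × B` is solved -/
theorem oree3_BB (hR : Oree3RepProd) (hM : Oree3SolPOfMSol) {V W : Type} [AddCommGroup V]
    [Module (ZMod 2) V] [AddCommGroup W] [Module (ZMod 2) W] {g : V ≃ₗ[ZMod 2] V}
    {h : W ≃ₗ[ZMod 2] W} (hg : oree3_IsB g) (hh : oree3_IsB h) : oree3_Good2 (g.prodCongr h) := by
  have hr := hR hg hh
  exact hM hr (D := 1) (E := 1) (by simpa using msol2_BB)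

/-- `(B × B) × B` is solved -/
theorem oree3_BBB (hR : Oree3RepProd) (hM : Oree3SolPOfMSol) {V W U : Type} [AddCommGroup V]
    [Module (ZMod 2) V] [AddCommGroup W] [Module (ZMod 2) W] [AddCommGroup U] [Module (ZMod 2) U]
    {g : V ≃ₗ[ZMod 2] V} {h : W ≃ₗ[ZMod 2] W} {k : U ≃ₗ[ZMod 2] U}
    (hg : oree3_IsB g) (hh : oree3_IsB h) (hk : oree3_IsB k) :
    oree3_Good2 ((g.prodCongr h).prodCongr k) := by
  have hr := hR (hR hg hh) hk
  exact hM hr (D := 1) (E := 1) (by simpa using msol2_BBB)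

/-- the induction over the cyclic pieces for `q = 2` -/
theorem oree3_core (hC : Oree3SolPConj) (hP : Oree3SolPProd) (hR : Oree3RepProd)
    (hM : Oree3SolPOfMSol) (hS : Oree3CycSummand) (hT : Oree3TwoPiece) :
    ∀ (d : ℕ) (V : Type) [AddCommGroup V] [Module (ZMod 2) V]
      [FiniteDimensional (ZMod 2) V] (g : V ≃ₗ[ZMod 2] V), finrank (ZMod 2) V = d →
      oree3_Q2 g := by
  intro d
  induction d using Nat.strong_induction_on with
  | _ d ih =>
  intro V _ _ _ g hd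
  by_cases hs : Subsingleton V
  · exact Or.inl hs
  have hnt : Nontrivial V := not_subsingleton_iff_nontrivial.mp hs
  obtain ⟨V₁, V₂, g₁, g₂, e, hconj, hcyc, hpos⟩ := hS g
  have hfr : finrank (ZMod 2) V = finrank (ZMod 2) V₁ + finrank (ZMod 2) V₂ := by
    rw [LinearEquiv.finrank_eq e, Module.finrank_prod]
  have ih2 : oree3_Q2 g₂ := ih (finrank (ZMod 2) V₂) (by omega) V₂ g₂ rfl
  have hnt1 : Nontrivial V₁ := Module.finrank_pos_iff.mp hpos
  have h1 := hT g₁ hcyc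
  refine oree3_Q2_conj hC (oree3_conj_symm hconj) ?_
  rcases ih2 with hs2 | hb2 | ⟨hg2, hgb2⟩
  · -- the complement is zero
    haveI : Unique V₂ := @Unique.mk' V₂ ⟨0⟩ hs2
    have hc : Conj (LinearEquiv.prodUnique (R := ZMod 2) (M := V₁) (M₂ := V₂)).symm g₁
        (g₁.prodCongr g₂) := oree3_conj_symm (oree3_conj_prodUnique g₁ g₂)
    refine oree3_Q2_conj hC hc ?_
    rcases h1 with hb1 | hgood1
    · exact Or.inr (Or.inl hb1)
    · exact Or.inr (Or.inr hgood1)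
  · -- the complement is `B`
    right; right
    rcases h1 with hb1 | ⟨hg1, hgb1⟩
    · refine ⟨oree3_BB hR hM hb1 hb2, fun W _ _ _ b hb => ?_⟩
      exact oree3_BBB hR hM hb1 hb2 hb
    · refine ⟨hgb1 V₂ g₂ hb2, fun W _ _ _ b hb => ?_⟩
      have h3 : oree3_Good2 (g₁.prodCongr (g₂.prodCongr b)) :=
        oree3_good_prod hP hg1 (oree3_BB hR hM hb2 hb)
      exact hC (oree3_conj_symm (oree3_conj_prodAssoc g₁ g₂ b)) h3
  · -- the complement is solved
    right; right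
    rcases h1 with hb1 | ⟨hg1, hgb1⟩
    · refine ⟨hC (oree3_conj_prodComm g₂ g₁) (hgb2 V₁ g₁ hb1), fun W _ _ _ b hb => ?_⟩
      have h3 : oree3_Good2 (g₂.prodCongr (g₁.prodCongr b)) :=
        oree3_good_prod hP hg2 (oree3_BB hR hM hb1 hb)
      have h4 : oree3_Good2 ((g₂.prodCongr g₁).prodCongr b) :=
        hC (oree3_conj_symm (oree3_conj_prodAssoc g₂ g₁ b)) h3
      exact hC (oree3_conj_prod (oree3_conj_prodComm g₂ g₁) (oree3_conj_refl b)) h4
    · refine ⟨oree3_good_prod hP hg1 hg2, fun W _ _ _ b hb => ?_⟩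
      have h3 : oree3_Good2 (g₁.prodCongr (g₂.prodCongr b)) :=
        oree3_good_prod hP hg1 (hgb2 W b hb)
      exact hC (oree3_conj_symm (oree3_conj_prodAssoc g₁ g₂ b)) h3

end two

end Cfsg.Agent.Lib.Helper19.ORE
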