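import Mathlib
import Cfsg.Agent.Lib.Helper19.ORE.Defs
import Cfsg.Agent.Lib.Helper19.ORE.Defs2
import Cfsg.Agent.Lib.helper14.OREE3core
import Cfsg.Agent.Lib.Helper20.OREA1
import Cfsg.Agent.Lib.Helper20.OREA2
import Cfsg.Agent.Lib.Helper22.ORED1
import Cfsg.Agent.Lib.helper4.ORED3
import Cfsg.Agent.Lib.Helper21.ORED4
import Cfsg.Agent.Lib.Helper21.OREE2

/-!
# Project ORE (S2444), row E3 `two_all` (verbatim): the strong induction over `ZMod 2`,
one-term wrapper of `oree3_core` on the landed rows A1, A2, D1, D3, D4, E2.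
-/

set_option autoImplicit false

namespace Cfsg.Agent.Lib.Helper19.ORE

open Polynomial Module

theorem two_all : ∀ (d : ℕ) (V : Type) [AddCommGroup V] [Module (ZMod 2) V]
    [FiniteDimensional (ZMod 2) V] (g : V ≃ₗ[ZMod 2] V), finrank (ZMod 2) V = d → Q2 g :=
  oree3_core (fun h _ _ _ hs => solP_conj h hs) (fun hg hh => solP_prod hg hh)
    (fun hg hh => rep_prod hg hh) (fun hg _ _ _ hs => solP_of_msol hg hs)
    (fun g => exists_cyc_summand g) (fun g hg => two_piece g hg)

end Cfsg.Agent.Lib.Helper19.ORE
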