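import Mathlib
import Cfsg.Agent.Lib.helper8.A7R.Defs
import Cfsg.Agent.Lib.helper8.SylowBasic
import Cfsg.Agent.Lib.helper8.SylowConj
import Cfsg.Agent.Lib.helper8.CountOrder

set_option autoImplicit false

/-! Project A7R row B12, part a: the action of `N(P)` on `P \ 1`. -/

namespace Cfsg.Agent.Lib.helper8.A7R

open Cfsg.Agent.Lib.helper8
open Pointwise

universe u

variable {G : Type u} [Group G]

instance a7rb12_fact3 : Fact (Nat.Prime 3) := ⟨by norm_num⟩

theorem a7rb12_cardP (hS : Std G) (P : Sylow 3 G) : Nat.card (P : Subgroup G) = 9 := by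
  haveI := hS.finite
  have := h8_sylow_card (G := G) 3 2 280 (by rw [hS.card]; norm_num) (by norm_num) P
  rw [this]; norm_num

theorem a7rb12_cardN (hS : Std G) (h2 : St2 G) (P : Sylow 3 G) :
    Nat.card (Nz (P : Subgroup G)) = 36 := by
  haveI := hS.finite
  have := h8_card_normalizer_sylow (G := G) 3 P
  rw [h2.syl3, hS.card] at this
  show Nat.card (Subgroup.normalizer ((P : Subgroup G) : Set G)) = 36
  omega

theorem a7rb12_commP (hS : Std G) (P : Sylow 3 G) :
    ∀ a ∈ (P : Subgroup G), ∀ b ∈ (P : Subgroup G), a * b = b * a := by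
  haveI := hS.finite
  exact h8_comm_of_card_prime_sq 3 (P : Subgroup G) (by rw [a7rb12_cardP hS P]; norm_num)

theorem a7rb12_order3 (hS : Std G) (h3 : St3 G) (P : Sylow 3 G) (x : G) (hx : x ∈ (P : Subgroup G))
    (hx1 : x ≠ 1) : orderOf x = 3 :=
  orderOf_eq_prime (h3.expP P x hx) hx1

/-- an involution of `N(P)` fixes no element `≠ 1` of `P` -/
theorem a7rb12_inv_free (hS : Std G) (h3 : St3 G) (P : Sylow 3 G) (u : G)
    (huN : u ∈ Nz (P : Subgroup G)) (hu2 : orderOf u = 2) (x : G) (hxP : x ∈ (P : Subgroup G))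
    (hx1 : x ≠ 1) : u * x * u⁻¹ ≠ x := by
  haveI := hS.finite
  intro hfix
  have hx3 : orderOf x = 3 := a7rb12_order3 hS h3 P x hxP hx1
  have hcomm := a7rb12_commP hS P
  have huC : u ∈ Cz x := by
    rw [Subgroup.mem_centralizer_iff]
    intro y hy
    rw [Set.mem_singleton_iff] at hy
    subst hy
    calc y * u = u * y * u⁻¹ * u := by rw [hfix]
      _ = u * y := by group
  have hA : Is3A x := by
    rcases h3.cent3 x hx3 with hA | hB
    · exact hA
    · exfalso
      have h2 : orderOf u ∣ 9 := by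
        rw [← hB.2]
        exact Subgroup.orderOf_dvd_natCard _ huC
      rw [hu2] at h2
      omega
  obtain ⟨V, hVle, hVc, hVe, hVn, hVi⟩ := h3.cent3V x hA
  have huV : u ∈ V := hVi u huC hu2
  have hPC : ∀ y ∈ (P : Subgroup G), y ∈ Cz x := by
    intro y hy
    rw [Subgroup.mem_centralizer_iff]
    intro z hz
    rw [Set.mem_singleton_iff] at hz
    subst hz
    exact hcomm z hxP y hy
  -- `u` centralizes `P`
  have hcent : u ∈ Cs (P : Subgroup G) := by
    rw [Subgroup.mem_centralizer_iff]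
    intro y hy
    have hy' : y ∈ (P : Subgroup G) := hy
    set c := y * u * y⁻¹ * u⁻¹ with hc
    have hcV : c ∈ V := V.mul_mem (hVn y (hPC y hy') u huV) (V.inv_mem huV)
    have hcP : c ∈ (P : Subgroup G) := by
      have h1 : u * y⁻¹ * u⁻¹ ∈ (P : Subgroup G) := by
        have := (Subgroup.mem_normalizer_iff.mp huN y⁻¹).mp ((P : Subgroup G).inv_mem hy')
        exact this
      have : c = y * (u * y⁻¹ * u⁻¹) := by rw [hc]; group
      rw [this]
      exact (P : Subgroup G).mul_mem hy' h1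
    have h1 : orderOf c ∣ 4 := by
      rw [← hVc]; exact Subgroup.orderOf_dvd_natCard _ hcV
    have h2 : orderOf c ∣ 9 := by
      rw [← a7rb12_cardP hS P]; exact Subgroup.orderOf_dvd_natCard _ hcP
    have h3' : orderOf c ∣ Nat.gcd 4 9 := Nat.dvd_gcd h1 h2
    have h4 : orderOf c = 1 := by
      have : Nat.gcd 4 9 = 1 := by norm_num
      rw [this] at h3'
      exact Nat.dvd_one.mp h3'
    have hc1 : c = 1 := orderOf_eq_one_iff.mp h4
    have : y * u = c * (u * y) := by rw [hc]; group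
    rw [this, hc1, one_mul]
  rw [h3.centP P] at hcent
  have h2 : orderOf u ∣ 9 := by
    rw [← a7rb12_cardP hS P]; exact Subgroup.orderOf_dvd_natCard _ hcent
  rw [hu2] at h2
  omega

/-- `N(P) = P ⟨k⟩` -/
theorem a7rb12_prod (hS : Std G) (h2 : St2 G) (P : Sylow 3 G) (k : G)
    (hkN : k ∈ Nz (P : Subgroup G)) (hk4 : orderOf k = 4) (n : G) (hn : n ∈ Nz (P : Subgroup G)) :
    ∃ x ∈ (P : Subgroup G), ∃ c ∈ Subgroup.zpowers k, n = x * c := by
  haveI := hS.finite
  have hKN : Subgroup.zpowers k ≤ Subgroup.normalizer ((P : Subgroup G) : Set G) := by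
    rw [Subgroup.zpowers_le]; exact hkN
  have hPN : (P : Subgroup G) ≤ Subgroup.normalizer ((P : Subgroup G) : Set G) := Subgroup.le_normalizer
  have hsup : (P : Subgroup G) ⊔ Subgroup.zpowers k ≤ Subgroup.normalizer ((P : Subgroup G) : Set G) :=
    sup_le hPN hKN
  have hc1 : 9 ∣ Nat.card ((P : Subgroup G) ⊔ Subgroup.zpowers k : Subgroup G) := by
    rw [← a7rb12_cardP hS P]; exact Subgroup.card_dvd_of_le le_sup_left
  have hc2 : 4 ∣ Nat.card ((P : Subgroup G) ⊔ Subgroup.zpowers k : Subgroup G) := by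
    rw [← hk4, ← Nat.card_zpowers]; exact Subgroup.card_dvd_of_le le_sup_right
  have hc3 : Nat.card ((P : Subgroup G) ⊔ Subgroup.zpowers k : Subgroup G) ∣ 36 := by
    rw [← a7rb12_cardN hS h2 P]; exact Subgroup.card_dvd_of_le hsup
  have hc4 : Nat.card ((P : Subgroup G) ⊔ Subgroup.zpowers k : Subgroup G) = 36 := by
    have h36 : 36 ∣ Nat.card ((P : Subgroup G) ⊔ Subgroup.zpowers k : Subgroup G) := by
      have : Nat.Coprime 9 4 := by norm_num
      exact this.mul_dvd_of_dvd_of_dvd hc1 hc2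
    exact Nat.dvd_antisymm hc3 h36
  have heq : (P : Subgroup G) ⊔ Subgroup.zpowers k = Subgroup.normalizer ((P : Subgroup G) : Set G) := by
    apply Subgroup.eq_of_le_of_card_ge hsup
    rw [hc4]
    exact le_of_eq (a7rb12_cardN hS h2 P)
  have hn' : n ∈ ((P : Subgroup G) ⊔ Subgroup.zpowers k : Subgroup G) := by rw [heq]; exact hn
  have hset := Subgroup.coe_mul_of_right_le_normalizer_left (P : Subgroup G) (Subgroup.zpowers k) hKN
  have : n ∈ ((P : Subgroup G) : Set G) * (Subgroup.zpowers k : Set G) := by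
    rw [← hset]; exact hn'
  obtain ⟨x, hx, c, hc, rfl⟩ := Set.mem_mul.mp this
  exact ⟨x, hx, c, hc, rfl⟩

/-- a nontrivial power of `k` fixes no element `≠ 1` of `P` -/
theorem a7rb12_semireg (hS : Std G) (h3 : St3 G) (P : Sylow 3 G) (k : G)
    (hkN : k ∈ Nz (P : Subgroup G)) (hk4 : orderOf k = 4) (c : G) (hc : c ∈ Subgroup.zpowers k)
    (x : G) (hxP : x ∈ (P : Subgroup G)) (hx1 : x ≠ 1) (hfix : c * x * c⁻¹ = x) : c = 1 := by
  haveI := hS.finite
  by_contra hc1
  -- some power of `c` is `k ^ 2`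
  have hk44 : k ^ 4 = 1 := by rw [← hk4]; exact pow_orderOf_eq_one k
  have hpow : ∀ e : ℕ, c ^ e * x * (c ^ e)⁻¹ = x := by
    intro e
    induction e with
    | zero => simp
    | succ e ih =>
      calc c ^ (e + 1) * x * (c ^ (e + 1))⁻¹ = c ^ e * (c * x * c⁻¹) * (c ^ e)⁻¹ := by
            rw [pow_succ]; group
        _ = x := by rw [hfix, ih]
  obtain ⟨m, hm⟩ := (Subgroup.mem_zpowers_iff).mp hc
  have hk2 : ∃ e : ℕ, c ^ e = k ^ 2 := by
    -- write `c = k ^ d` with `d < 4`
    have hd : ∃ d : ℕ, d < 4 ∧ c = k ^ d := by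
      refine ⟨(m % 4).toNat, ?_, ?_⟩
      · omega
      · rw [← hm]
        have h1 : k ^ m = k ^ (m % 4) := by
          rw [← zpow_mod_orderOf, hk4]; rfl
        rw [h1]
        have h2 : (0 : ℤ) ≤ m % 4 := by omega
        conv_lhs => rw [← Int.toNat_of_nonneg h2]
        rw [zpow_natCast]
    obtain ⟨d, hd4, hcd⟩ := hd
    interval_cases d
    · exfalso; apply hc1; rw [hcd, pow_zero]
    · exact ⟨2, by rw [hcd, pow_one]⟩
    · exact ⟨1, by rw [hcd, pow_one]⟩
    · refine ⟨2, ?_⟩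
      rw [hcd, ← pow_mul]
      calc k ^ (3 * 2) = k ^ 4 * k ^ 2 := by rw [← pow_add]
        _ = k ^ 2 := by rw [hk44, one_mul]
  obtain ⟨e, he⟩ := hk2
  have hfix2 := hpow e
  rw [he] at hfix2
  have hu2 : orderOf (k ^ 2) = 2 := by
    rw [orderOf_pow' k (by norm_num : (2 : ℕ) ≠ 0), hk4]
    norm_num
  have huN : k ^ 2 ∈ Nz (P : Subgroup G) := Subgroup.pow_mem _ hkN 2
  exact a7rb12_inv_free hS h3 P (k ^ 2) huN hu2 x hxP hx1 hfix2

end Cfsg.Agent.Lib.helper8.A7R
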