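import Mathlib
import Cfsg.Agent.Lib.helper8.A7R.Defs
import Cfsg.Agent.Lib.helper14.A7RB12a
import Cfsg.Agent.S0076

set_option autoImplicit false

/-! Project A7R row B12: the sum of the centralizer orders over the elements of order 3. -/

namespace Cfsg.Agent.Lib.helper8.A7R

open Cfsg.Agent.Lib.helper8

universe u

variable {G : Type u} [Group G]

open Classical in
/-- the sum of `|C(y)|` over a conjugacy class is `|G|` -/
theorem a7rb12_class_sum [Fintype G] (x : G) :
    ∑ y ∈ Finset.univ.filter (fun y : G => ∃ g : G, g * x * g⁻¹ = y), Nat.card (Cz y) =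
      Fintype.card G := by
  have h1 : Fintype.card G = ∑ y ∈ Finset.univ.filter (fun y : G => ∃ g : G, g * x * g⁻¹ = y),
      (Finset.univ.filter (fun g : G => g * x * g⁻¹ = y)).card := by
    rw [← Finset.card_univ]
    rw [Finset.card_eq_sum_card_fiberwise (f := fun g : G => g * x * g⁻¹)
      (s := (Finset.univ : Finset G))
      (t := Finset.univ.filter (fun y : G => ∃ g : G, g * x * g⁻¹ = y))]
    intro g _
    simp only [Finset.coe_filter, Finset.mem_univ, true_and, Set.mem_setOf_eq]
    exact ⟨g, rfl⟩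
  rw [h1]
  apply Finset.sum_congr rfl
  intro y hy
  simp only [Finset.mem_filter, Finset.mem_univ, true_and] at hy
  obtain ⟨g0, hg0⟩ := hy
  rw [Nat.card_eq_fintype_card, Fintype.card_subtype]
  symm
  apply Finset.card_nbij' (fun g => g * g0⁻¹) (fun c => c * g0)
  · intro g hg
    simp only [Finset.coe_filter, Finset.mem_univ, true_and, Set.mem_setOf_eq] at hg ⊢
    rw [Subgroup.mem_centralizer_iff]
    intro z hz
    rw [Set.mem_singleton_iff] at hz
    subst hz
    rw [← hg0] at hg ⊢
    have : g * x = g0 * x * g0⁻¹ * g := by rw [← hg]; group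
    calc g0 * x * g0⁻¹ * (g * g0⁻¹) = (g0 * x * g0⁻¹ * g) * g0⁻¹ := by group
      _ = g * x * g0⁻¹ := by rw [← this]
      _ = g * g0⁻¹ * (g0 * x * g0⁻¹) := by group
  · intro c hc
    simp only [Finset.coe_filter, Finset.mem_univ, true_and, Set.mem_setOf_eq] at hc ⊢
    rw [Subgroup.mem_centralizer_iff] at hc
    have := hc y (Set.mem_singleton y)
    calc c * g0 * x * (c * g0)⁻¹ = c * (g0 * x * g0⁻¹) * c⁻¹ := by group
      _ = c * y * c⁻¹ := by rw [hg0]
      _ = y * c * c⁻¹ := by rw [this]
      _ = y := by group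
  · intro g _
    show g * g0⁻¹ * g0 = g
    group
  · intro c _
    show c * g0 * g0⁻¹ = c
    group

theorem sum_cent_three (hS : Std G) (h1 : St1 G) (h2 : St2 G) (h3 : St3 G) :
    ∑ᶠ x ∈ {x : G | orderOf x = 3}, Nat.card (Cz x) = 5040 := by
  classical
  haveI := hS.finite
  haveI : Fintype G := Fintype.ofFinite G
  obtain ⟨P⟩ : Nonempty (Sylow 3 G) := inferInstance
  obtain ⟨k, hkN, hk4⟩ := h3.frobP P
  have hcardP := a7rb12_cardP hS P
  have hcomm := a7rb12_commP hS P
  -- conjugation by an element of the normalizer preserves `P`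
  have hNP : ∀ n ∈ Nz (P : Subgroup G), ∀ y ∈ (P : Subgroup G), n * y * n⁻¹ ∈ (P : Subgroup G) := by
    intro n hn y hy
    exact (Subgroup.mem_normalizer_iff.mp hn y).mp hy
  have hKN : ∀ c ∈ Subgroup.zpowers k, c ∈ Nz (P : Subgroup G) := by
    intro c hc
    have : Subgroup.zpowers k ≤ Nz (P : Subgroup G) := by
      rw [Subgroup.zpowers_le]; exact hkN
    exact this hc
  -- the set `P \ 1`
  set Pn : Finset G := Finset.univ.filter (fun y : G => y ∈ (P : Subgroup G) ∧ y ≠ 1) with hPn
  have hPn8 : Pn.card = 8 := by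
    have := h8_card_ne_one_subgroup (P : Subgroup G)
    rw [hcardP, Nat.card_eq_fintype_card, Fintype.card_subtype] at this
    rw [hPn, this]
  -- orbits of `⟨k⟩`
  set O : G → Finset G := fun x => Finset.univ.filter (fun y : G => ∃ c ∈ Subgroup.zpowers k, c * x * c⁻¹ = y)
    with hO
  have hOsub : ∀ x ∈ Pn, O x ⊆ Pn := by
    intro x hx y hy
    simp only [hPn, hO, Finset.mem_filter, Finset.mem_univ, true_and] at hx hy ⊢
    obtain ⟨c, hc, rfl⟩ := hy
    refine ⟨hNP c (hKN c hc) x hx.1, ?_⟩
    intro h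
    apply hx.2
    have : x = c⁻¹ * (c * x * c⁻¹) * c := by group
    rw [this, h]; group
  have hO4 : ∀ x ∈ Pn, (O x).card = 4 := by
    intro x hx
    simp only [hPn, Finset.mem_filter, Finset.mem_univ, true_and] at hx
    have himg : O x = Finset.image (fun c : Subgroup.zpowers k => (c : G) * x * (c : G)⁻¹) Finset.univ := by
      ext y
      simp only [hO, Finset.mem_filter, Finset.mem_univ, true_and, Finset.mem_image]
      constructor
      · rintro ⟨c, hc, rfl⟩
        exact ⟨⟨c, hc⟩, rfl⟩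
      · rintro ⟨c, rfl⟩
        exact ⟨c.1, c.2, rfl⟩
    rw [himg, Finset.card_image_of_injective]
    · rw [Finset.card_univ, ← Nat.card_eq_fintype_card, Nat.card_zpowers, hk4]
    · intro c c' hcc
      simp only at hcc
      have hfix : ((c' : G)⁻¹ * (c : G)) * x * ((c' : G)⁻¹ * (c : G))⁻¹ = x := by
        calc ((c' : G)⁻¹ * (c : G)) * x * ((c' : G)⁻¹ * (c : G))⁻¹
            = (c' : G)⁻¹ * ((c : G) * x * (c : G)⁻¹) * (c' : G) := by group
          _ = (c' : G)⁻¹ * ((c' : G) * x * (c' : G)⁻¹) * (c' : G) := by rw [hcc]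
          _ = x := by group
      have hmem : (c' : G)⁻¹ * (c : G) ∈ Subgroup.zpowers k :=
        (Subgroup.zpowers k).mul_mem ((Subgroup.zpowers k).inv_mem c'.2) c.2
      have := a7rb12_semireg hS h3 P k hkN hk4 _ hmem x hx.1 hx.2 hfix
      apply Subtype.ext
      have h' : (c : G) = (c' : G) * ((c' : G)⁻¹ * (c : G)) := by group
      rw [h', this, mul_one]
  -- orbits are equal or disjoint
  have hOmem : ∀ x y : G, y ∈ O x → O y = O x := by
    intro x y hy
    simp only [hO, Finset.mem_filter, Finset.mem_univ, true_and] at hy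
    obtain ⟨c, hc, rfl⟩ := hy
    ext z
    simp only [hO, Finset.mem_filter, Finset.mem_univ, true_and]
    constructor
    · rintro ⟨d, hd, rfl⟩
      refine ⟨d * c, (Subgroup.zpowers k).mul_mem hd hc, ?_⟩
      group
    · rintro ⟨d, hd, rfl⟩
      refine ⟨d * c⁻¹, (Subgroup.zpowers k).mul_mem hd ((Subgroup.zpowers k).inv_mem hc), ?_⟩
      group
  have hOself : ∀ x : G, x ∈ O x := by
    intro x
    simp only [hO, Finset.mem_filter, Finset.mem_univ, true_and]
    exact ⟨1, (Subgroup.zpowers k).one_mem, by group⟩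
  -- choose the representatives
  have hne : Pn.Nonempty := by
    rw [← Finset.card_pos, hPn8]; norm_num
  obtain ⟨x1, hx1⟩ := hne
  have hex2 : ∃ x2 ∈ Pn, x2 ∉ O x1 := by
    by_contra hcon
    push_neg at hcon
    have : Pn ⊆ O x1 := fun y hy => hcon y hy
    have := Finset.card_le_card this
    rw [hPn8, hO4 x1 hx1] at this
    omega
  obtain ⟨x2, hx2, hx21⟩ := hex2
  have hdisj : Disjoint (O x1) (O x2) := by
    rw [Finset.disjoint_left]
    intro y hy1 hy2
    apply hx21
    have e1 := hOmem x1 y hy1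
    have e2 := hOmem x2 y hy2
    rw [← e1, e2]
    exact hOself x2
  have hunion : O x1 ∪ O x2 = Pn := by
    apply Finset.eq_of_subset_of_card_le
    · exact Finset.union_subset (hOsub x1 hx1) (hOsub x2 hx2)
    · rw [Finset.card_union_of_disjoint hdisj, hO4 x1 hx1, hO4 x2 hx2, hPn8]
  have hx1P : x1 ∈ (P : Subgroup G) ∧ x1 ≠ 1 := by
    simpa only [hPn, Finset.mem_filter, Finset.mem_univ, true_and] using hx1
  have hx2P : x2 ∈ (P : Subgroup G) ∧ x2 ≠ 1 := by
    simpa only [hPn, Finset.mem_filter, Finset.mem_univ, true_and] using hx2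
  -- the two classes
  set Cl : G → Finset G := fun x => Finset.univ.filter (fun y : G => ∃ g : G, g * x * g⁻¹ = y) with hCl
  -- x1 and x2 are not conjugate
  have hnot : Disjoint (Cl x1) (Cl x2) := by
    rw [Finset.disjoint_left]
    intro y hy1 hy2
    simp only [hCl, Finset.mem_filter, Finset.mem_univ, true_and] at hy1 hy2
    obtain ⟨g1, hg1⟩ := hy1
    obtain ⟨g2, hg2⟩ := hy2
    -- x2 = (g2⁻¹ g1) x1 (g2⁻¹ g1)⁻¹
    have hconj : (g2⁻¹ * g1) * x1 * (g2⁻¹ * g1)⁻¹ = x2 := by
      calc (g2⁻¹ * g1) * x1 * (g2⁻¹ * g1)⁻¹ = g2⁻¹ * (g1 * x1 * g1⁻¹) * g2 := by group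
        _ = g2⁻¹ * (g2 * x2 * g2⁻¹) * g2 := by rw [hg1, hg2]
        _ = x2 := by group
    have hinv : ∀ z : G, z ∈ (P : Subgroup G) → ∀ p ∈ (P : Subgroup G),
        (fun y => p * y * p⁻¹) '' ({z} : Set G) = {z} := by
      intro z hz p hp
      rw [Set.image_singleton]
      congr 1
      rw [hcomm p hp z hz]; group
    obtain ⟨n, hn, hnx⟩ := Cfsg.Agent.S0076.result P ({x1} : Set G) ({x2} : Set G)
      (by intro z hz; rw [Set.mem_singleton_iff] at hz; rw [hz]; exact hx1P.1)
      (by intro z hz; rw [Set.mem_singleton_iff] at hz; rw [hz]; exact hx2P.1)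
      (hinv x1 hx1P.1) (hinv x2 hx2P.1) (g2⁻¹ * g1)
      (by rw [Set.image_singleton, hconj])
    rw [Set.image_singleton] at hnx
    have hnx' : n * x1 * n⁻¹ = x2 := Set.singleton_injective hnx
    obtain ⟨p, hp, c, hc, rfl⟩ := a7rb12_prod hS h2 P k hkN hk4 n hn
    apply hx21
    simp only [hO, Finset.mem_filter, Finset.mem_univ, true_and]
    refine ⟨c, hc, ?_⟩
    have hcx : c * x1 * c⁻¹ ∈ (P : Subgroup G) := hNP c (hKN c hc) x1 hx1P.1
    rw [← hnx']
    calc c * x1 * c⁻¹ = p * (c * x1 * c⁻¹) * p⁻¹ := by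
          rw [hcomm p hp _ hcx]; group
      _ = p * c * x1 * (p * c)⁻¹ := by group
  -- every element of order 3 is in one of the classes
  have hcover : Finset.univ.filter (fun y : G => orderOf y = 3) = Cl x1 ∪ Cl x2 := by
    ext y
    simp only [Finset.mem_filter, Finset.mem_univ, true_and, Finset.mem_union, hCl]
    constructor
    · intro hy
      have hpg : IsPGroup 3 (Subgroup.zpowers y) := by
        apply IsPGroup.of_card (n := 1)
        rw [Nat.card_zpowers, hy, pow_one]
      obtain ⟨Q, hQ⟩ := hpg.exists_le_sylow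
      obtain ⟨g, hg⟩ := MulAction.exists_smul_eq G P Q
      have hyQ : y ∈ (Q : Subgroup G) := hQ (Subgroup.mem_zpowers y)
      rw [← hg, h8_mem_smul_sylow] at hyQ
      have hy1 : g⁻¹ * y * g ≠ 1 := by
        intro h
        have : y = g * (g⁻¹ * y * g) * g⁻¹ := by group
        rw [h] at this
        rw [this] at hy
        simp at hy
      have hmem : g⁻¹ * y * g ∈ Pn := by
        simp only [hPn, Finset.mem_filter, Finset.mem_univ, true_and]
        exact ⟨hyQ, hy1⟩
      rw [← hunion, Finset.mem_union] at hmem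
      rcases hmem with hm | hm
      · left
        simp only [hO, Finset.mem_filter, Finset.mem_univ, true_and] at hm
        obtain ⟨c, -, hc⟩ := hm
        refine ⟨g * c, ?_⟩
        calc g * c * x1 * (g * c)⁻¹ = g * (c * x1 * c⁻¹) * g⁻¹ := by group
          _ = y := by rw [hc]; group
      · right
        simp only [hO, Finset.mem_filter, Finset.mem_univ, true_and] at hm
        obtain ⟨c, -, hc⟩ := hm
        refine ⟨g * c, ?_⟩
        calc g * c * x2 * (g * c)⁻¹ = g * (c * x2 * c⁻¹) * g⁻¹ := by group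
          _ = y := by rw [hc]; group
    · rintro (⟨g, rfl⟩ | ⟨g, rfl⟩)
      · have : orderOf (g * x1 * g⁻¹) = orderOf x1 := by
          have := h8_orderOf_conj g⁻¹ x1
          rwa [inv_inv] at this
        rw [this]
        exact a7rb12_order3 hS h3 P x1 hx1P.1 hx1P.2
      · have : orderOf (g * x2 * g⁻¹) = orderOf x2 := by
          have := h8_orderOf_conj g⁻¹ x2
          rwa [inv_inv] at this
        rw [this]
        exact a7rb12_order3 hS h3 P x2 hx2P.1 hx2P.2
  -- the sum
  have hfs : ∑ᶠ x ∈ {x : G | orderOf x = 3}, Nat.card (Cz x) =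
      ∑ x ∈ Finset.univ.filter (fun x : G => orderOf x = 3), Nat.card (Cz x) := by
    rw [finsum_mem_eq_finite_toFinset_sum _ (Set.toFinite _)]
    apply Finset.sum_congr _ (fun _ _ => rfl)
    ext x
    simp
  rw [hfs, hcover, Finset.sum_union hnot]
  have e1 := a7rb12_class_sum x1
  have e2 := a7rb12_class_sum x2
  have hG : Fintype.card G = 2520 := by rw [← Nat.card_eq_fintype_card]; exact hS.card
  simp only [hCl]
  rw [e1, e2, hG]

end Cfsg.Agent.Lib.helper8.A7R
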