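import Mathlib
import Cfsg.Agent.Lib.helper8.A7R.Defs

set_option autoImplicit false

/-! Project A7R row B13: `cnt G 3 + cnt G 6 = 560`. -/

namespace Cfsg.Agent.Lib.helper8.A7R

universe u

variable {G : Type u} [Group G]

open Classical in
/-- the number of solutions of `u ^ 2 = 1` in `C(x)`, times 9, is `|C(x)|` -/
theorem a7rb13_fib [Fintype G] (h3 : St3 G) (x : G) (hx : orderOf x = 3) :
    9 * (Finset.univ.filter (fun u : G => u ∈ Cz x ∧ u ^ 2 = 1)).card = Nat.card (Cz x) := by
  rcases h3.cent3 x hx with hA | hB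
  · obtain ⟨V, hVle, hVc, hVe, -, hVi⟩ := h3.cent3V x hA
    have : (Finset.univ.filter (fun u : G => u ∈ Cz x ∧ u ^ 2 = 1)).card = Nat.card V := by
      rw [Nat.card_eq_fintype_card, Fintype.card_subtype]
      congr 1
      ext u
      simp only [Finset.mem_filter, Finset.mem_univ, true_and]
      constructor
      · rintro ⟨hu, hu2⟩
        by_cases h1 : u = 1
        · rw [h1]; exact V.one_mem
        · apply hVi u hu
          exact orderOf_eq_prime hu2 h1
      · intro hu
        exact ⟨hVle hu, hVe u hu⟩
    rw [this, hVc, hA.2]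
  · have : (Finset.univ.filter (fun u : G => u ∈ Cz x ∧ u ^ 2 = 1)) = {1} := by
      ext u
      simp only [Finset.mem_filter, Finset.mem_univ, true_and, Finset.mem_singleton]
      constructor
      · rintro ⟨hu, hu2⟩
        have h1 : orderOf u ∣ 2 := orderOf_dvd_of_pow_eq_one hu2
        have h2 : orderOf u ∣ 9 := by
          rw [← hB.2]
          exact Subgroup.orderOf_dvd_natCard _ hu
        have h3 : orderOf u ∣ Nat.gcd 2 9 := Nat.dvd_gcd h1 h2
        have h4 : orderOf u = 1 := by
          have : Nat.gcd 2 9 = 1 := by norm_num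
          rw [this] at h3
          exact Nat.dvd_one.mp h3
        exact orderOf_eq_one_iff.mp h4
      · rintro rfl
        exact ⟨(Cz x).one_mem, one_pow 2⟩
    rw [this, hB.2]
    simp

open Classical in
/-- the fibre of `g ↦ g ^ 4` over an element of order 3 -/
theorem a7rb13_fibre [Fintype G] (x : G) (hx : orderOf x = 3) :
    (Finset.univ.filter (fun g : G => (orderOf g = 3 ∨ orderOf g = 6) ∧ g ^ 4 = x)).card =
      (Finset.univ.filter (fun u : G => u ∈ Cz x ∧ u ^ 2 = 1)).card := by
  have hx3 : x ^ 3 = 1 := by rw [← hx]; exact pow_orderOf_eq_one x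
  have hx1 : x ≠ 1 := by
    intro h
    rw [h, orderOf_one] at hx
    omega
  apply Finset.card_nbij' (fun g => g * x⁻¹) (fun u => x * u)
  · intro g hg
    simp only [Finset.coe_filter, Finset.mem_univ, true_and, Set.mem_setOf_eq] at hg ⊢
    obtain ⟨ho, h4⟩ := hg
    have h6 : g ^ 6 = 1 := by
      rcases ho with h | h
      · have : g ^ 3 = 1 := by rw [← h]; exact pow_orderOf_eq_one g
        calc g ^ 6 = (g ^ 3) ^ 2 := by rw [← pow_mul]
          _ = 1 := by rw [this, one_pow]
      · rw [← h]; exact pow_orderOf_eq_one g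
    have hcomm : Commute g x := by
      rw [← h4]
      exact (Commute.refl g).pow_right 4
    constructor
    · rw [Subgroup.mem_centralizer_iff]
      intro y hy
      rw [Set.mem_singleton_iff] at hy
      subst hy
      have : Commute y (g * y⁻¹) := (hcomm.symm).mul_right (Commute.refl y).inv_right
      exact this.eq
    · have h8 : (g * x⁻¹) ^ 2 = g ^ 2 * (x⁻¹) ^ 2 := (hcomm.inv_right).mul_pow 2
      rw [h8, ← h4, inv_pow, ← pow_mul]
      have : g ^ (4 * 2) = g ^ 2 := by
        calc g ^ (4 * 2) = g ^ 6 * g ^ 2 := by rw [← pow_add]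
          _ = g ^ 2 := by rw [h6, one_mul]
      rw [this, mul_inv_cancel]
  · intro u hu
    simp only [Finset.coe_filter, Finset.mem_univ, true_and, Set.mem_setOf_eq] at hu ⊢
    obtain ⟨huC, hu2⟩ := hu
    have hcomm : Commute x u := by
      rw [Subgroup.mem_centralizer_iff] at huC
      exact huC x (Set.mem_singleton x)
    have h4 : (x * u) ^ 4 = x := by
      rw [hcomm.mul_pow]
      have hx4 : x ^ 4 = x := by
        calc x ^ 4 = x ^ 3 * x := by rw [pow_succ]
          _ = x := by rw [hx3, one_mul]
      have hu4 : u ^ 4 = 1 := by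
        calc u ^ 4 = (u ^ 2) ^ 2 := by rw [← pow_mul]
          _ = 1 := by rw [hu2, one_pow]
      rw [hx4, hu4, mul_one]
    have h6 : (x * u) ^ 6 = 1 := by
      rw [hcomm.mul_pow]
      have hx6 : x ^ 6 = 1 := by
        calc x ^ 6 = (x ^ 3) ^ 2 := by rw [← pow_mul]
          _ = 1 := by rw [hx3, one_pow]
      have hu6 : u ^ 6 = 1 := by
        calc u ^ 6 = (u ^ 2) ^ 3 := by rw [← pow_mul]
          _ = 1 := by rw [hu2, one_pow]
      rw [hx6, hu6, mul_one]
    refine ⟨?_, h4⟩
    have hd : orderOf (x * u) ∣ 6 := orderOf_dvd_of_pow_eq_one h6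
    have hmem : orderOf (x * u) ∈ Nat.divisors 6 := Nat.mem_divisors.mpr ⟨hd, by norm_num⟩
    have hdiv : Nat.divisors 6 = {1, 2, 3, 6} := by decide
    rw [hdiv] at hmem
    simp only [Finset.mem_insert, Finset.mem_singleton] at hmem
    rcases hmem with h | h | h | h
    · exfalso
      apply hx1
      rw [← h4, orderOf_eq_one_iff.mp h, one_pow]
    · exfalso
      apply hx1
      have : (x * u) ^ 2 = 1 := by rw [← h]; exact pow_orderOf_eq_one _
      calc x = (x * u) ^ 4 := h4.symm
        _ = ((x * u) ^ 2) ^ 2 := by rw [← pow_mul]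
        _ = 1 := by rw [this, one_pow]
    · exact Or.inl h
    · exact Or.inr h
  · intro g hg
    simp only [Finset.coe_filter, Finset.mem_univ, true_and, Set.mem_setOf_eq] at hg
    obtain ⟨ho, h4⟩ := hg
    have hcomm : Commute g x := by
      rw [← h4]
      exact (Commute.refl g).pow_right 4
    show x * (g * x⁻¹) = g
    rw [← mul_assoc, ← hcomm.eq, mul_assoc, mul_inv_cancel, mul_one]
  · intro u hu
    show x * u * x⁻¹ = u
    simp only [Finset.coe_filter, Finset.mem_univ, true_and, Set.mem_setOf_eq] at hu
    have hcomm : Commute x u := by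
      have := hu.1
      rw [Subgroup.mem_centralizer_iff] at this
      exact this x (Set.mem_singleton x)
    rw [hcomm.eq, mul_assoc, mul_inv_cancel, mul_one]

theorem cnt_three_six (hS : Std G) (h3 : St3 G)
    (hsum : ∑ᶠ x ∈ {x : G | orderOf x = 3}, Nat.card (Cz x) = 5040) : cnt G 3 + cnt G 6 = 560 := by
  classical
  haveI := hS.finite
  haveI : Fintype G := Fintype.ofFinite G
  -- the left side as a filter cardinality
  have hcnt : ∀ n : ℕ, cnt G n = (Finset.univ.filter (fun g : G => orderOf g = n)).card := by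
    intro n
    unfold cnt
    rw [Nat.card_eq_fintype_card, Fintype.card_subtype]
  have hunion : cnt G 3 + cnt G 6 =
      (Finset.univ.filter (fun g : G => orderOf g = 3 ∨ orderOf g = 6)).card := by
    rw [hcnt, hcnt, Finset.filter_or, Finset.card_union_of_disjoint]
    rw [Finset.disjoint_filter]
    intro g _ h h'
    omega
  -- fibre decomposition
  have hfib : (Finset.univ.filter (fun g : G => orderOf g = 3 ∨ orderOf g = 6)).card =
      ∑ x ∈ Finset.univ.filter (fun x : G => orderOf x = 3),
        (Finset.univ.filter (fun g : G => (orderOf g = 3 ∨ orderOf g = 6) ∧ g ^ 4 = x)).card := by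
    rw [Finset.card_eq_sum_card_fiberwise (f := fun g : G => g ^ 4)
      (t := Finset.univ.filter (fun x : G => orderOf x = 3))]
    · apply Finset.sum_congr rfl
      intro x _
      congr 1
      ext g
      simp only [Finset.mem_filter, Finset.mem_univ, true_and]
    · intro g hg
      simp only [Finset.coe_filter, Finset.mem_univ, true_and, Set.mem_setOf_eq] at hg ⊢
      rcases hg with h | h
      · have h3' : g ^ 3 = 1 := by rw [← h]; exact pow_orderOf_eq_one g
        have : g ^ 4 = g := by
          calc g ^ 4 = g ^ 3 * g := by rw [pow_succ]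
            _ = g := by rw [h3', one_mul]
        rw [this]; exact h
      · rw [orderOf_pow' g (by norm_num : (4 : ℕ) ≠ 0), h]
        norm_num
  -- the finsum as a finset sum
  have hfs : ∑ᶠ x ∈ {x : G | orderOf x = 3}, Nat.card (Cz x) =
      ∑ x ∈ Finset.univ.filter (fun x : G => orderOf x = 3), Nat.card (Cz x) := by
    rw [finsum_mem_eq_finite_toFinset_sum _ (Set.toFinite _)]
    apply Finset.sum_congr _ (fun _ _ => rfl)
    ext x
    simp
  have h9 : 9 * (cnt G 3 + cnt G 6) = 5040 := by
    rw [hunion, hfib, Finset.mul_sum, ← hsum, hfs]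
    apply Finset.sum_congr rfl
    intro x hx
    simp only [Finset.mem_filter, Finset.mem_univ, true_and] at hx
    rw [a7rb13_fibre x hx, a7rb13_fib h3 x hx]
  omega

end Cfsg.Agent.Lib.helper8.A7R
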