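import Mathlib
import Cfsg.Agent.Lib.helper8.A7R.Defs
import Cfsg.Agent.Lib.helper8.SylowBasic
import Cfsg.Agent.Lib.helper8.SylowConj
import Cfsg.Agent.Lib.helper8.SubgroupCard
import Cfsg.Agent.S0111

set_option autoImplicit false

/-! Project A7R row B22: all involutions are conjugate. -/

namespace Cfsg.Agent.Lib.helper8.A7R

open Cfsg.Agent.Lib.helper8

universe u

variable {G : Type u} [Group G]

instance a7rb22_fact2 : Fact (Nat.Prime 2) := ⟨by norm_num⟩

/-- elements of a cyclic group of order 4 -/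
theorem a7rb22_zpow4 (r : G) (hr4 : orderOf r = 4) (x : G) (hx : x ∈ Subgroup.zpowers r) :
    x = 1 ∨ x = r ∨ x = r ^ 2 ∨ x = r ^ 3 := by
  obtain ⟨m, hm⟩ := (Subgroup.mem_zpowers_iff).mp hx
  have hd : ∃ d : ℕ, d < 4 ∧ x = r ^ d := by
    refine ⟨(m % 4).toNat, ?_, ?_⟩
    · omega
    · rw [← hm]
      have h1 : r ^ m = r ^ (m % 4) := by
        rw [← zpow_mod_orderOf, hr4]; rfl
      rw [h1]
      have h2 : (0 : ℤ) ≤ m % 4 := by omega
      conv_lhs => rw [← Int.toNat_of_nonneg h2]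
      rw [zpow_natCast]
  obtain ⟨d, hd4, hxd⟩ := hd
  interval_cases d
  · left; rw [hxd, pow_zero]
  · right; left; rw [hxd, pow_one]
  · right; right; left; exact hxd
  · right; right; right; exact hxd

/-- the structure of a dihedral group of order 8 -/
theorem a7rb22_d8 [Finite G] (S : Subgroup G) (r s : G) (hS8 : Nat.card S = 8) (hrS : r ∈ S) (hsS : s ∈ S)
    (hr4 : orderOf r = 4) (hs2 : orderOf s = 2) (hsr : s * r * s⁻¹ = r⁻¹)
    (hsK : s ∉ Subgroup.zpowers r) :
    (Subgroup.zpowers r).relIndex S = 2 ∧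
    (∀ x ∈ S, orderOf x = 4 → x ^ 2 = r ^ 2) ∧
    (∀ x ∈ Subgroup.zpowers r, orderOf x = 2 → x = r ^ 2) := by
  have hKS : Subgroup.zpowers r ≤ S := by rw [Subgroup.zpowers_le]; exact hrS
  have hr44 : r ^ 4 = 1 := by rw [← hr4]; exact pow_orderOf_eq_one r
  have hs22 : s ^ 2 = 1 := by rw [← hs2]; exact pow_orderOf_eq_one s
  have hrel : (Subgroup.zpowers r).relIndex S = 2 := by
    have := h8_card_mul_relIndex hKS
    rw [Nat.card_zpowers, hr4, hS8] at this
    omega
  refine ⟨hrel, ?_, ?_⟩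
  · intro x hxS hx4
    have hx44 : x ^ 4 = 1 := by rw [← hx4]; exact pow_orderOf_eq_one x
    by_cases hxK : x ∈ Subgroup.zpowers r
    · rcases a7rb22_zpow4 r hr4 x hxK with h | h | h | h
      · rw [h, orderOf_one] at hx4; omega
      · rw [h]
      · exfalso
        have : orderOf (r ^ 2) = 2 := by
          rw [orderOf_pow' r (by norm_num : (2 : ℕ) ≠ 0), hr4]; norm_num
        rw [h, this] at hx4; omega
      · rw [h, ← pow_mul]
        calc r ^ (3 * 2) = r ^ 4 * r ^ 2 := by rw [← pow_add]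
          _ = r ^ 2 := by rw [hr44, one_mul]
    · exfalso
      -- `s⁻¹ * x ∈ ⟨r⟩`
      have hidx : ((Subgroup.zpowers r).subgroupOf S).index = 2 := hrel
      have hmem := Subgroup.mul_mem_iff_of_index_two hidx (a := (⟨s⁻¹, S.inv_mem hsS⟩ : S))
        (b := (⟨x, hxS⟩ : S))
      have h1 : (⟨s⁻¹, S.inv_mem hsS⟩ : S) ∉ (Subgroup.zpowers r).subgroupOf S := by
        rw [Subgroup.mem_subgroupOf]
        intro h
        apply hsK
        have := (Subgroup.zpowers r).inv_mem h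
        simpa using this
      have h2 : (⟨x, hxS⟩ : S) ∉ (Subgroup.zpowers r).subgroupOf S := by
        rw [Subgroup.mem_subgroupOf]
        exact hxK
      have h3 : (⟨s⁻¹, S.inv_mem hsS⟩ : S) * (⟨x, hxS⟩ : S) ∈ (Subgroup.zpowers r).subgroupOf S := by
        rw [hmem]
        exact ⟨fun h => absurd h h1, fun h => absurd h h2⟩
      rw [Subgroup.mem_subgroupOf] at h3
      have h3' : s⁻¹ * x ∈ Subgroup.zpowers r := h3
      -- `s` inverts `⟨r⟩`
      have hinv : ∀ c ∈ Subgroup.zpowers r, s * c * s⁻¹ = c⁻¹ := by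
        intro c hc
        obtain ⟨m, rfl⟩ := (Subgroup.mem_zpowers_iff).mp hc
        have : s * r ^ m * s⁻¹ = (s * r * s⁻¹) ^ m := by
          have := map_zpow (MulAut.conj s) r m
          simpa [MulAut.conj_apply] using this
        rw [this, hsr, inv_zpow]
      have hsinv : s⁻¹ = s := by
        have : s * s = 1 := by rw [← pow_two]; exact hs22
        exact inv_eq_of_mul_eq_one_left this
      set c := s⁻¹ * x with hc
      have hx : x = s * c := by rw [hc]; group
      have hx2 : x ^ 2 = 1 := by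
        rw [hx, pow_two]
        calc s * c * (s * c) = (s * c * s⁻¹) * (s * s) * c := by group
          _ = c⁻¹ * 1 * c := by rw [hinv c h3', ← pow_two, hs22]
          _ = 1 := by group
      have : orderOf x ∣ 2 := orderOf_dvd_of_pow_eq_one hx2
      rw [hx4] at this
      omega
  · intro x hxK hx2
    rcases a7rb22_zpow4 r hr4 x hxK with h | h | h | h
    · rw [h, orderOf_one] at hx2; omega
    · rw [h, hr4] at hx2; omega
    · exact h
    · exfalso
      have : orderOf (r ^ 3) = 4 := by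
        rw [orderOf_pow' r (by norm_num : (3 : ℕ) ≠ 0), hr4]; norm_num
      rw [h, this] at hx2; omega

/-- no normal subgroup of index 2 -/
theorem a7rb22_no_index_two (hS : Std G) (M : Subgroup G) (hM : M.Normal) : M.index ≠ 2 := by
  haveI := hS.finite
  haveI := hS.simple
  rcases IsSimpleGroup.eq_bot_or_eq_top_of_normal M hM with h | h
  · rw [h, Subgroup.index_bot, hS.card]; norm_num
  · rw [h, Subgroup.index_top]; norm_num

/-- every involution is conjugate to the square of an element of order 4 of a Sylow 2-subgroup containing it -/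
theorem a7rb22_to_square (hS : Std G) (hd8 : ∀ S : Sylow 2 G, IsD8 (S : Subgroup G)) (u : G)
    (hu : orderOf u = 2) :
    ∃ S : Sylow 2 G, ∃ r : G, r ∈ (S : Subgroup G) ∧ orderOf r = 4 ∧ ∃ g : G, g * u * g⁻¹ = r ^ 2 := by
  haveI := hS.finite
  have hpg : IsPGroup 2 (Subgroup.zpowers u) := by
    apply IsPGroup.of_card (n := 1)
    rw [Nat.card_zpowers, hu, pow_one]
  obtain ⟨S, hS2⟩ := hpg.exists_le_sylow
  have huS : u ∈ (S : Subgroup G) := hS2 (Subgroup.mem_zpowers u)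
  obtain ⟨hS8, r, s, hrS, hsS, hr4, hs2, hsr, hsK⟩ := hd8 S
  obtain ⟨hrel, -, hK2⟩ := a7rb22_d8 (S : Subgroup G) r s hS8 hrS hsS hr4 hs2 hsr hsK
  refine ⟨S, r, hrS, hr4, ?_⟩
  by_cases huK : u ∈ Subgroup.zpowers r
  · refine ⟨1, ?_⟩
    rw [one_mul, inv_one, mul_one]
    exact hK2 u huK hu
  · have hKS : Subgroup.zpowers r ≤ (S : Subgroup G) := by rw [Subgroup.zpowers_le]; exact hrS
    rcases Cfsg.Agent.S0111.result S (Subgroup.zpowers r) hKS hrel u hu huS huK with ⟨M, hMn, hMi, -⟩ | ⟨g, hg⟩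
    · exact absurd hMi (a7rb22_no_index_two hS M hMn)
    · refine ⟨g, hK2 _ hg ?_⟩
      have := h8_orderOf_conj g⁻¹ u
      rw [inv_inv] at this
      rw [this, hu]

theorem inv_conj (hS : Std G) (hd8 : ∀ S : Sylow 2 G, IsD8 (S : Subgroup G)) (u v : G) (hu : orderOf u = 2) (hv : orderOf v = 2) :
    ∃ g : G, g * u * g⁻¹ = v := by
  haveI := hS.finite
  obtain ⟨S, r, hrS, hr4, g, hg⟩ := a7rb22_to_square hS hd8 u hu
  obtain ⟨S', r', hrS', hr4', g', hg'⟩ := a7rb22_to_square hS hd8 v hv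
  obtain ⟨h, hh⟩ := MulAction.exists_smul_eq G S S'
  -- `h r h⁻¹ ∈ S'` has order 4
  have hmem : h * r * h⁻¹ ∈ (S' : Subgroup G) := by
    rw [← hh, h8_mem_smul_sylow]
    have : h⁻¹ * (h * r * h⁻¹) * h = r := by group
    rw [this]; exact hrS
  have hord : orderOf (h * r * h⁻¹) = 4 := by
    have := h8_orderOf_conj h⁻¹ r
    rw [inv_inv] at this
    rw [this, hr4]
  obtain ⟨hS8', r'', s'', hrS'', hsS'', hr4'', hs2'', hsr'', hsK''⟩ := hd8 S'
  obtain ⟨-, hsq, -⟩ := a7rb22_d8 (S' : Subgroup G) r'' s'' hS8' hrS'' hsS'' hr4'' hs2'' hsr'' hsK''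
  have e1 : (h * r * h⁻¹) ^ 2 = r'' ^ 2 := hsq _ hmem hord
  have e2 : r' ^ 2 = r'' ^ 2 := hsq _ hrS' hr4'
  have e3 : h * r ^ 2 * h⁻¹ = r' ^ 2 := by
    rw [e2, ← e1]
    have := map_pow (MulAut.conj h) r 2
    simpa [MulAut.conj_apply] using this.symm
  refine ⟨g'⁻¹ * h * g, ?_⟩
  calc g'⁻¹ * h * g * u * (g'⁻¹ * h * g)⁻¹ = g'⁻¹ * (h * (g * u * g⁻¹) * h⁻¹) * g' := by group
    _ = g'⁻¹ * (h * r ^ 2 * h⁻¹) * g' := by rw [hg]
    _ = g'⁻¹ * (g' * v * g'⁻¹) * g' := by rw [e3, hg']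
    _ = v := by group

end Cfsg.Agent.Lib.helper8.A7R
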