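import Mathlib
import Cfsg.Agent.Lib.helper8.A7R.Defs
import Cfsg.Agent.Lib.helper8.SylowBasic
import Cfsg.Agent.Lib.helper8.SylowConj
import Cfsg.Agent.Lib.helper8.SubgroupCard
import Cfsg.Agent.Lib.helper14.A7RB12

set_option autoImplicit false

/-! Project A7R row B23: the centralizer of an involution has order 24. -/

namespace Cfsg.Agent.Lib.helper8.A7R

open Cfsg.Agent.Lib.helper8

universe u

variable {G : Type u} [Group G]

/-- a self-centralizing prime class excludes the prime from the centralizers of involutions -/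
theorem a7rb23_not_dvd [Finite G] (p : ℕ) [hp : Fact p.Prime] (hp2 : p ≠ 2) (h : SelfC G p) (u : G)
    (hu : orderOf u = 2) : ¬ p ∣ Nat.card (Cz u) := by
  intro hdvd
  obtain ⟨y, hy⟩ := exists_prime_orderOf_dvd_card' (G := Cz u) p hdvd
  have hy' : orderOf (y : G) = p := by rw [Subgroup.orderOf_coe]; exact hy
  have hyu : (y : G) * u = u * (y : G) := by
    have := y.2
    rw [Subgroup.mem_centralizer_iff] at this
    exact (this u (Set.mem_singleton u)).symm
  have huC : u ∈ Cz (y : G) := by
    rw [Subgroup.mem_centralizer_iff]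
    intro z hz
    rw [Set.mem_singleton_iff] at hz
    subst hz
    exact hyu
  rw [h (y : G) hy'] at huC
  have h1 : orderOf u ∣ p := by
    have := Subgroup.orderOf_dvd_natCard _ huC
    rw [Nat.card_zpowers, hy'] at this
    exact this
  rw [hu] at h1
  exact hp2 ((Nat.prime_dvd_prime_iff_eq Nat.prime_two hp.out).mp h1).symm

/-- `9` does not divide the order of the centralizer of an involution -/
theorem a7rb23_not_nine (hS : Std G) (h3 : St3 G) (u : G) (hu : orderOf u = 2) :
    ¬ 9 ∣ Nat.card (Cz u) := by
  haveI := hS.finite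
  intro hdvd
  obtain ⟨K, hK⟩ := Sylow.exists_subgroup_card_pow_prime (G := Cz u) 3 (n := 2) (by norm_num; exact hdvd)
  set Q : Subgroup G := K.map (Cz u).subtype with hQ
  have hQ9 : Nat.card Q = 9 := by
    rw [hQ, Subgroup.card_map_of_injective (Subgroup.subtype_injective _), hK]; norm_num
  have hQle : Q ≤ Cz u := by
    rw [hQ]
    exact Subgroup.map_subtype_le K
  have hpg : IsPGroup 3 Q := IsPGroup.of_card (n := 2) (by rw [hQ9]; norm_num)
  obtain ⟨P, hP⟩ := hpg.exists_le_sylow
  have hQP : Q = (P : Subgroup G) := by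
    apply Subgroup.eq_of_le_of_card_ge hP
    rw [hQ9, a7rb12_cardP hS P]
  have huc : u ∈ Cs (P : Subgroup G) := by
    rw [Subgroup.mem_centralizer_iff]
    intro y hy
    have hy' : y ∈ Q := by rw [hQP]; exact hy
    have := hQle hy'
    rw [Subgroup.mem_centralizer_iff] at this
    exact (this u (Set.mem_singleton u)).symm
  rw [h3.centP P] at huc
  have h1 : orderOf u ∣ 9 := by
    rw [← a7rb12_cardP hS P]
    exact Subgroup.orderOf_dvd_natCard _ huc
  rw [hu] at h1
  omega

/-- arithmetic: the possible orders -/
theorem a7rb23_arith (n : ℕ) (h8 : 8 ∣ n) (hn : n ∣ 2520) (h5 : ¬ 5 ∣ n) (h7 : ¬ 7 ∣ n) (h9 : ¬ 9 ∣ n) :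
    n = 8 ∨ n = 24 := by
  obtain ⟨c, rfl⟩ := h8
  have hc : c ∣ 315 := by
    have : 8 * c ∣ 8 * 315 := by norm_num; exact hn
    exact (Nat.mul_dvd_mul_iff_left (by norm_num)).mp this
  have hmem : c ∈ Nat.divisors 315 := Nat.mem_divisors.mpr ⟨hc, by norm_num⟩
  have hdiv : Nat.divisors 315 = {1, 3, 5, 7, 9, 15, 21, 35, 45, 63, 105, 315} := by decide
  rw [hdiv] at hmem
  simp only [Finset.mem_insert, Finset.mem_singleton] at hmem
  rcases hmem with h | h | h | h | h | h | h | h | h | h | h | h <;> subst h <;> omega

theorem inv_cent24 (hS : Std G) (h1 : St1 G) (h2 : St2 G) (h3 : St3 G) (hinv : InvC8 G) (hno8 : NoOrd G 8)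
    (hd8 : ∀ S : Sylow 2 G, IsD8 (S : Subgroup G)) (h5 : SelfC G 5)
    (hconj : ∀ u v : G, orderOf u = 2 → orderOf v = 2 → ∃ g : G, g * u * g⁻¹ = v)
    (hT : cnt G 2 + cnt G 4 + cnt G 8 + cnt G 10 = 735) (u : G) (hu : orderOf u = 2) : Nat.card (Cz u) = 24 := by
  classical
  haveI := hS.finite
  haveI : Fintype G := Fintype.ofFinite G
  haveI : Fact (Nat.Prime 5) := ⟨by norm_num⟩
  haveI : Fact (Nat.Prime 7) := ⟨by norm_num⟩
  have hdvd : Nat.card (Cz u) ∣ 2520 := by
    rw [← hS.card]; exact Subgroup.card_subgroup_dvd_card _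
  rcases a7rb23_arith _ (hinv u hu) hdvd (a7rb23_not_dvd 5 (by norm_num) h5 u hu)
    (a7rb23_not_dvd 7 (by norm_num) h1.selfc7 u hu) (a7rb23_not_nine hS h3 u hu) with h8 | h24
  · exfalso
    have hcnt : ∀ n : ℕ, cnt G n = (Finset.univ.filter (fun g : G => orderOf g = n)).card := by
      intro n
      unfold cnt
      rw [Nat.card_eq_fintype_card, Fintype.card_subtype]
    -- centralizers of conjugate elements
    have hcardC : ∀ v : G, orderOf v = 2 → Nat.card (Cz v) = 8 := by
      intro v hv
      obtain ⟨g, hg⟩ := hconj u v hu hv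
      rw [← h8]
      apply Nat.card_congr
      refine ⟨fun c => ⟨g⁻¹ * c.1 * g, ?_⟩, fun c => ⟨g * c.1 * g⁻¹, ?_⟩, ?_, ?_⟩
      · rw [Subgroup.mem_centralizer_iff]
        intro z hz
        rw [Set.mem_singleton_iff] at hz
        subst hz
        have := c.2
        rw [Subgroup.mem_centralizer_iff] at this
        have hc0 : v * c.1 = c.1 * v := this v (Set.mem_singleton v)
        have hc : g * z * g⁻¹ * c.1 = c.1 * (g * z * g⁻¹) := by rw [hg]; exact hc0
        calc z * (g⁻¹ * c.1 * g) = g⁻¹ * (g * z * g⁻¹ * c.1) * g := by group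
          _ = g⁻¹ * (c.1 * (g * z * g⁻¹)) * g := by rw [hc]
          _ = g⁻¹ * c.1 * g * z := by group
      · rw [Subgroup.mem_centralizer_iff]
        intro z hz
        rw [Set.mem_singleton_iff] at hz
        subst hz
        have := c.2
        rw [Subgroup.mem_centralizer_iff] at this
        have hc := this u (Set.mem_singleton u)
        rw [← hg]
        calc g * u * g⁻¹ * (g * c.1 * g⁻¹) = g * (u * c.1) * g⁻¹ := by group
          _ = g * (c.1 * u) * g⁻¹ := by rw [hc]
          _ = g * c.1 * g⁻¹ * (g * u * g⁻¹) := by group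
      · intro c
        apply Subtype.ext
        show g * (g⁻¹ * c.1 * g) * g⁻¹ = c.1
        group
      · intro c
        apply Subtype.ext
        show g⁻¹ * (g * c.1 * g⁻¹) * g = c.1
        group
    -- the class of `u` is the set of involutions
    have hclass : Finset.univ.filter (fun y : G => ∃ g : G, g * u * g⁻¹ = y) =
        Finset.univ.filter (fun y : G => orderOf y = 2) := by
      ext y
      simp only [Finset.mem_filter, Finset.mem_univ, true_and]
      constructor
      · rintro ⟨g, rfl⟩
        have := h8_orderOf_conj g⁻¹ u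
        rw [inv_inv] at this
        rw [this, hu]
      · intro hy
        exact hconj u y hu hy
    have hc2 : 8 * cnt G 2 = 2520 := by
      have := a7rb12_class_sum u
      rw [hclass] at this
      have h2520 : Fintype.card G = 2520 := by rw [← Nat.card_eq_fintype_card]; exact hS.card
      rw [h2520] at this
      rw [← this, hcnt 2, Finset.card_eq_sum_ones, Finset.mul_sum]
      apply Finset.sum_congr rfl
      intro y hy
      simp only [Finset.mem_filter, Finset.mem_univ, true_and] at hy
      rw [hcardC y hy, mul_one]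
    have hc2' : cnt G 2 = 315 := by omega
    -- no elements of order 8 or 10
    have hc8 : cnt G 8 = 0 := by
      rw [hcnt, Finset.card_eq_zero, Finset.filter_eq_empty_iff]
      intro g _
      exact hno8 g
    have hc10 : cnt G 10 = 0 := by
      rw [hcnt, Finset.card_eq_zero, Finset.filter_eq_empty_iff]
      intro g _ hg
      have h52 : orderOf (g ^ 2) = 5 := by
        rw [orderOf_pow' g (by norm_num : (2 : ℕ) ≠ 0), hg]; norm_num
      have hgC : g ∈ Cz (g ^ 2) := by
        rw [Subgroup.mem_centralizer_iff]
        intro z hz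
        rw [Set.mem_singleton_iff] at hz
        subst hz
        exact ((Commute.refl g).pow_left 2).eq
      rw [h5 (g ^ 2) h52] at hgC
      have : orderOf g ∣ 5 := by
        have h' := Subgroup.orderOf_dvd_natCard _ hgC
        rw [Nat.card_zpowers, h52] at h'
        exact h'
      rw [hg] at this
      omega
    -- elements of order 4 over the involutions
    set F : G → Finset G := fun v => Finset.univ.filter (fun g : G => orderOf g = 4 ∧ g ^ 2 = v) with hF
    have hFcard : ∀ v : G, orderOf v = 2 → (F v).card = (F u).card := by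
      intro v hv
      obtain ⟨h, hh⟩ := hconj u v hu hv
      symm
      apply Finset.card_nbij' (fun g => h * g * h⁻¹) (fun g => h⁻¹ * g * h)
      · intro g hg
        simp only [hF, Finset.coe_filter, Finset.mem_univ, true_and, Set.mem_setOf_eq] at hg ⊢
        constructor
        · have := h8_orderOf_conj h⁻¹ g
          rw [inv_inv] at this
          rw [this, hg.1]
        · rw [← hh, ← hg.2]
          have := map_pow (MulAut.conj h) g 2
          simpa [MulAut.conj_apply] using this.symm
      · intro g hg
        simp only [hF, Finset.coe_filter, Finset.mem_univ, true_and, Set.mem_setOf_eq] at hg ⊢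
        constructor
        · rw [h8_orderOf_conj h g, hg.1]
        · have := map_pow (MulAut.conj h⁻¹) g 2
          simp only [MulAut.conj_apply, inv_inv] at this
          rw [← this, hg.2, ← hh]
          group
      · intro g _
        show h⁻¹ * (h * g * h⁻¹) * h = g
        group
      · intro g _
        show h * (h⁻¹ * g * h) * h⁻¹ = g
        group
    have hc4 : cnt G 4 = (F u).card * cnt G 2 := by
      rw [hcnt 4, hcnt 2]
      rw [Finset.card_eq_sum_card_fiberwise (f := fun g : G => g ^ 2)
        (t := Finset.univ.filter (fun v : G => orderOf v = 2))]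
      · rw [Finset.card_eq_sum_ones (Finset.univ.filter (fun v : G => orderOf v = 2)), Finset.mul_sum]
        apply Finset.sum_congr rfl
        intro v hv
        simp only [Finset.mem_filter, Finset.mem_univ, true_and] at hv
        rw [mul_one, ← hFcard v hv]
        congr 1
        ext g
        simp only [hF, Finset.mem_filter, Finset.mem_univ, true_and]
      · intro g hg
        simp only [Finset.coe_filter, Finset.mem_univ, true_and, Set.mem_setOf_eq] at hg ⊢
        rw [orderOf_pow' g (by norm_num : (2 : ℕ) ≠ 0), hg]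
        norm_num
    rw [hc8, hc10, hc4, hc2'] at hT
    have : 315 ∣ 735 := ⟨1 + (F u).card, by rw [← hT]; ring⟩
    omega
  · exact h24

end Cfsg.Agent.Lib.helper8.A7R
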