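import Mathlib
import Cfsg.Agent.Lib.helper2.CharNat
import Cfsg.Agent.Lib.Helper25.CharAbelian
import Cfsg.Agent.Lib.Helper25.CharOrth
import Cfsg.Agent.Lib.Helper25.CharLinear

set_option autoImplicit false
set_option linter.unusedSectionVars false

/-!
# Characters of an abelian group of even order with a prescribed central sign

A character of a finite abelian group `A` of order `2N` of degree `N - 1` and norm `N - 1` on which
an involution `z` acts by the sign `ω` is the sum of all but one of the `N` linear characters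
with value `ω` at `z`.
-/

namespace Cfsg.Agent.Lib.helper14

open Cfsg.Agent.Lib.helper2 Cfsg.Agent.Lib.Helper25
open scoped ComplexConjugate

section AbRes

variable {A : Type*} [CommGroup A] [Fintype A]

theorem ab_sum_irr_eq_zero [Fintype (Cfsg.IrrCharacter A)] (a : A) (ha : a ≠ 1) :
    ∑ μ : Cfsg.IrrCharacter A, (μ : A → ℂ) a = 0 := by
  classical
  have h := irr_column_orthogonality (G := A) a 1
  rw [if_neg (by rw [isConj_one_right]; exact ha)] at h
  rw [← h]
  apply Finset.sum_congr rfl
  intro μ _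
  rw [irr_one_of_comm μ, map_one, mul_one]

theorem ab_card_irr [Fintype (Cfsg.IrrCharacter A)] :
    (Fintype.card (Cfsg.IrrCharacter A) : ℂ) = (Fintype.card A : ℂ) := by
  classical
  have h := irr_column_orthogonality (G := A) 1 1
  rw [if_pos (IsConj.refl 1)] at h
  have hc : Subgroup.centralizer ({1} : Set A) = ⊤ := by
    rw [Subgroup.centralizer_eq_top_iff_subset]
    intro x _
    rw [CommGroup.center_eq_top]
    exact Subgroup.mem_top x
  rw [hc, Subgroup.card_top, Nat.card_eq_fintype_card] at h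
  rw [← h, Finset.card_univ.symm, Finset.card_eq_sum_ones]
  push_cast
  apply Finset.sum_congr rfl
  intro μ _
  rw [irr_one_of_comm μ, map_one, mul_one]

theorem ab_res_core (z : A) (hz1 : z ≠ 1) (hz2 : z * z = 1) (ω : ℂ) (hω : ω = 1 ∨ ω = -1)
    (ψ : A → ℂ) (hψ : Cfsg.IsCharacter A ψ) (hzψ : ∀ a, ψ (z * a) = ω * ψ a)
    (N : ℕ) (hN : Fintype.card A = 2 * N) (hd : ψ 1 = (N : ℂ) - 1)
    (hnorm : Cfsg.classInner ψ ψ = (N : ℂ) - 1) :
    ∃ θ : Cfsg.IrrCharacter A, (θ : A → ℂ) z = ω ∧
      ∀ a, a ≠ 1 → a ≠ z → ψ a = -(θ : A → ℂ) a := by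
  classical
  haveI : Fintype (Cfsg.IrrCharacter A) := Fintype.ofFinite _
  obtain ⟨m, hm, hexp⟩ := isCharacter_expansion hψ
  have hN1 : 1 ≤ N := by
    have := Fintype.card_pos (α := A)
    omega
  have hlin : ∀ μ : Cfsg.IrrCharacter A, (μ : A → ℂ) 1 = 1 := irr_one_of_comm
  have hval : ∀ a : A, ψ a = ∑ μ : Cfsg.IrrCharacter A, (m μ : ℂ) * (μ : A → ℂ) a := by
    intro a
    have := congrFun hexp a
    rw [this]
    simp only [Finset.sum_apply, Pi.smul_apply, smul_eq_mul]
  -- the sum of the multiplicities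
  have hsum : ∑ μ : Cfsg.IrrCharacter A, m μ = N - 1 := by
    have h1 := hval 1
    rw [hd] at h1
    have : ((∑ μ : Cfsg.IrrCharacter A, m μ : ℕ) : ℂ) = ((N - 1 : ℕ) : ℂ) := by
      push_cast [Nat.cast_sub hN1]
      rw [h1]
      apply Finset.sum_congr rfl
      intro μ _
      rw [hlin μ, mul_one]
    exact_mod_cast this
  -- the sum of their squares
  have hsq : ∑ μ : Cfsg.IrrCharacter A, m μ ^ 2 = N - 1 := by
    have h1 := classInner_parseval ψ (isCharacter_isClassFunction hψ)
    rw [hnorm] at h1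
    have : ((∑ μ : Cfsg.IrrCharacter A, m μ ^ 2 : ℕ) : ℂ) = ((N - 1 : ℕ) : ℂ) := by
      push_cast [Nat.cast_sub hN1]
      rw [h1]
      apply Finset.sum_congr rfl
      intro μ _
      rw [hm μ, Complex.conj_natCast]
      ring
    exact_mod_cast this
  have hle : ∀ μ : Cfsg.IrrCharacter A, m μ ^ 2 = m μ := by
    have h1 : ∀ μ ∈ (Finset.univ : Finset (Cfsg.IrrCharacter A)), m μ ≤ m μ ^ 2 :=
      fun μ _ => Nat.le_self_pow two_ne_zero _
    have := (Finset.sum_eq_sum_iff_of_le h1).mp (by rw [hsum, hsq])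
    intro μ
    exact (this μ (Finset.mem_univ _)).symm
  have hm01 : ∀ μ : Cfsg.IrrCharacter A, m μ = 0 ∨ m μ = 1 := by
    intro μ
    have := hle μ
    rcases Nat.eq_zero_or_pos (m μ) with h | h
    · left; exact h
    · right; nlinarith
  -- the values at `z`
  have hμz : ∀ μ : Cfsg.IrrCharacter A, (μ : A → ℂ) z = 1 ∨ (μ : A → ℂ) z = -1 := by
    intro μ
    have h1 := irr_linear_mul μ (hlin μ) z z
    rw [hz2, hlin μ] at h1
    have : ((μ : A → ℂ) z - 1) * ((μ : A → ℂ) z + 1) = 0 := by linear_combination -h1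
    rcases mul_eq_zero.mp this with h | h
    · left; linear_combination h
    · right; linear_combination h
  have hsupp : ∀ μ : Cfsg.IrrCharacter A, m μ ≠ 0 → (μ : A → ℂ) z = ω := by
    intro μ hne
    have h1 := hm μ
    unfold Cfsg.classInner at h1
    have hA : (Nat.card A : ℂ) ≠ 0 := by exact_mod_cast Nat.card_pos.ne'
    set T := ∑ a : A, ψ a * conj ((μ : A → ℂ) a) with hT
    have hT0 : T ≠ 0 := by
      intro h0
      rw [h0, mul_zero] at h1
      apply hne
      exact_mod_cast h1.symm
    have h2 : T = ∑ a : A, ψ (z * a) * conj ((μ : A → ℂ) (z * a)) :=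
      (Equiv.sum_comp (Equiv.mulLeft z) (fun a => ψ a * conj ((μ : A → ℂ) a))).symm
    have h3 : ∀ a : A, ψ (z * a) * conj ((μ : A → ℂ) (z * a)) =
        (ω * conj ((μ : A → ℂ) z)) * (ψ a * conj ((μ : A → ℂ) a)) := by
      intro a
      rw [hzψ, irr_linear_mul μ (hlin μ), map_mul]
      ring
    rw [Finset.sum_congr rfl (fun a _ => h3 a), ← Finset.mul_sum, ← hT] at h2
    have h4 : ω * conj ((μ : A → ℂ) z) = 1 := by
      have : T * (ω * conj ((μ : A → ℂ) z) - 1) = 0 := by linear_combination -h2
      rcases mul_eq_zero.mp this with h | h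
      · exact absurd h hT0
      · linear_combination h
    rcases hμz μ with h | h <;> rcases hω with h' | h' <;> rw [h, h'] at h4 ⊢ <;> norm_num at h4
  -- the characters with value `ω` at `z`
  have hind : ∀ μ : Cfsg.IrrCharacter A,
      (if (μ : A → ℂ) z = ω then (1 : ℂ) else 0) = (1 + ω * (μ : A → ℂ) z) / 2 := by
    intro μ
    rcases hμz μ with h | h <;> rcases hω with h' | h' <;> rw [h, h'] <;> norm_num
  set I := Finset.univ.filter (fun μ : Cfsg.IrrCharacter A => (μ : A → ℂ) z = ω) with hI
  set M := Finset.univ.filter (fun μ : Cfsg.IrrCharacter A => m μ = 1) with hM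
  have hIcard : I.card = N := by
    have : (I.card : ℂ) = (N : ℂ) := by
      rw [hI, Finset.card_filter]
      push_cast
      rw [Finset.sum_congr rfl (fun μ _ => hind μ), ← Finset.sum_div, Finset.sum_add_distrib,
        ← Finset.mul_sum, ab_sum_irr_eq_zero z hz1, Finset.sum_const, Finset.card_univ,
        nsmul_eq_mul, ab_card_irr, hN]
      push_cast
      ring
    exact_mod_cast this
  have hMcard : M.card = N - 1 := by
    rw [← hsum, hM, Finset.card_filter]
    apply Finset.sum_congr rfl
    intro μ _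
    rcases hm01 μ with h | h <;> rw [h] <;> simp
  have hMI : M ⊆ I := by
    intro μ hμ
    rw [hM, Finset.mem_filter] at hμ
    rw [hI, Finset.mem_filter]
    refine ⟨Finset.mem_univ _, hsupp μ ?_⟩
    rw [hμ.2]
    exact one_ne_zero
  have hdiff : (I \ M).card = 1 := by
    rw [Finset.card_sdiff_of_subset hMI, hIcard, hMcard]
    omega
  obtain ⟨θ, hθ⟩ := Finset.card_eq_one.mp hdiff
  have hθI : θ ∈ I ∧ θ ∉ M := by
    have : θ ∈ I \ M := by rw [hθ]; exact Finset.mem_singleton_self θ
    exact Finset.mem_sdiff.mp this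
  refine ⟨θ, ?_, ?_⟩
  · have := hθI.1
    rw [hI, Finset.mem_filter] at this
    exact this.2
  · intro a ha1 haz
    have hza : z * a ≠ 1 := by
      intro h
      apply haz
      calc a = z * z * a := by rw [hz2, one_mul]
        _ = z * (z * a) := by rw [mul_assoc]
        _ = z := by rw [h, mul_one]
    -- the sum over `I`
    have hIsum : ∑ μ ∈ I, (μ : A → ℂ) a = 0 := by
      rw [hI, Finset.sum_filter]
      have : ∀ μ : Cfsg.IrrCharacter A, (if (μ : A → ℂ) z = ω then (μ : A → ℂ) a else 0) =
          ((μ : A → ℂ) a + ω * (μ : A → ℂ) (z * a)) / 2 := by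
        intro μ
        have h1 : (if (μ : A → ℂ) z = ω then (μ : A → ℂ) a else 0) =
            (if (μ : A → ℂ) z = ω then (1 : ℂ) else 0) * (μ : A → ℂ) a := by
          split_ifs <;> simp
        rw [h1, hind μ, irr_linear_mul μ (hlin μ)]
        ring
      rw [Finset.sum_congr rfl (fun μ _ => this μ), ← Finset.sum_div, Finset.sum_add_distrib,
        ← Finset.mul_sum, ab_sum_irr_eq_zero a ha1, ab_sum_irr_eq_zero (z * a) hza]
      simp
    have hIM : I = insert θ M := by
      ext μ
      rw [Finset.mem_insert]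
      constructor
      · intro hμ
        by_cases hμM : μ ∈ M
        · right; exact hμM
        · left
          have : μ ∈ I \ M := Finset.mem_sdiff.mpr ⟨hμ, hμM⟩
          rw [hθ] at this
          exact Finset.mem_singleton.mp this
      · rintro (h | h)
        · rw [h]; exact hθI.1
        · exact hMI h
    rw [hIM, Finset.sum_insert hθI.2] at hIsum
    rw [hval a]
    have : ∑ μ : Cfsg.IrrCharacter A, (m μ : ℂ) * (μ : A → ℂ) a = ∑ μ ∈ M, (μ : A → ℂ) a := by
      rw [hM, Finset.sum_filter]
      apply Finset.sum_congr rfl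
      intro μ _
      rcases hm01 μ with h | h <;> rw [h] <;> simp
    rw [this]
    linear_combination hIsum

/-- a linear character with values `±1` and sum zero on a cyclic group of order `2N` is the
character of order two -/
theorem ab_quad_char [IsCyclic A] (N : ℕ) (hN : Fintype.card A = 2 * N)
    (θ : Cfsg.IrrCharacter A) (hθ : ∀ a : A, (θ : A → ℂ) a = 1 ∨ (θ : A → ℂ) a = -1)
    (hsum : ∑ a : A, (θ : A → ℂ) a = 0) (a : A) :
    (θ : A → ℂ) a = 1 ↔ a ^ N = 1 := by
  classical
  have hN0 : 0 < N := by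
    have := Fintype.card_pos (α := A)
    omega
  set φ : A →* ℂˣ := irrLinearHom θ (irr_one_of_comm θ) with hφ
  have memK : ∀ x : A, x ∈ φ.ker ↔ (θ : A → ℂ) x = 1 := by
    intro x
    rw [MonoidHom.mem_ker, Units.ext_iff, hφ, irrLinearHom_apply]
    rfl
  have hind : ∀ x : A, (if (θ : A → ℂ) x = 1 then (1 : ℂ) else 0) = (1 + (θ : A → ℂ) x) / 2 := by
    intro x
    rcases hθ x with h | h <;> rw [h] <;> norm_num
  have hc1 : (Finset.univ.filter (fun x : A => (θ : A → ℂ) x = 1)).card = N := by
    have : ((Finset.univ.filter (fun x : A => (θ : A → ℂ) x = 1)).card : ℂ) = (N : ℂ) := by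
      rw [Finset.card_filter]
      push_cast
      rw [Finset.sum_congr rfl (fun x _ => hind x), ← Finset.sum_div, Finset.sum_add_distrib,
        hsum, Finset.sum_const, Finset.card_univ, nsmul_eq_mul, hN]
      push_cast
      ring
    exact_mod_cast this
  have hK : Nat.card φ.ker = N := by
    rw [Nat.card_eq_fintype_card, Fintype.card_subtype, ← hc1]
    congr 1
    ext x
    simp only [Finset.mem_filter, Finset.mem_univ, true_and]
    exact memK x
  have hsub : Finset.univ.filter (fun x : A => (θ : A → ℂ) x = 1) ⊆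
      Finset.univ.filter (fun x : A => x ^ N = 1) := by
    intro x hx
    rw [Finset.mem_filter] at hx ⊢
    refine ⟨Finset.mem_univ _, ?_⟩
    have hxK : x ∈ φ.ker := (memK x).mpr hx.2
    have h1 : (⟨x, hxK⟩ : φ.ker) ^ Nat.card φ.ker = 1 := pow_card_eq_one'
    rw [hK] at h1
    exact congrArg Subtype.val h1
  have heq := Finset.eq_of_subset_of_card_le hsub
    (by rw [hc1]; exact IsCyclic.card_pow_eq_one_le hN0)
  constructor
  · intro h
    have : a ∈ Finset.univ.filter (fun x : A => x ^ N = 1) := by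
      rw [← heq, Finset.mem_filter]
      exact ⟨Finset.mem_univ _, h⟩
    exact (Finset.mem_filter.mp this).2
  · intro h
    have : a ∈ Finset.univ.filter (fun x : A => (θ : A → ℂ) x = 1) := by
      rw [heq, Finset.mem_filter]
      exact ⟨Finset.mem_univ _, h⟩
    exact (Finset.mem_filter.mp this).2

end AbRes

end Cfsg.Agent.Lib.helper14
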