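import Cfsg.Agent.Lib.helper14.AbRes
import Cfsg.Agent.Lib.Helper25.CharReal

set_option autoImplicit false
set_option linter.unusedSectionVars false

/-!
# Characters of an abelian group with a central sign, second part

A character of a finite abelian group `A` of order `2N` of degree `2N - 2` and norm `4N - 6` on which
an involution `z` acts by the sign `ω` is twice the sum of the `N` linear characters with value `ω`
at `z`, minus two of them.
-/

namespace Cfsg.Agent.Lib.helper14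

open Cfsg.Agent.Lib.helper2 Cfsg.Agent.Lib.Helper25
open scoped ComplexConjugate

section AbRes2

variable {A : Type*} [CommGroup A] [Fintype A]

theorem ab_val_z (z : A) (hz2 : z * z = 1) (μ : Cfsg.IrrCharacter A) :
    (μ : A → ℂ) z = 1 ∨ (μ : A → ℂ) z = -1 := by
  have h1 := irr_linear_mul μ (irr_one_of_comm μ) z z
  rw [hz2, irr_one_of_comm μ] at h1
  have : ((μ : A → ℂ) z - 1) * ((μ : A → ℂ) z + 1) = 0 := by linear_combination -h1
  rcases mul_eq_zero.mp this with h | h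
  · left; linear_combination h
  · right; linear_combination h

theorem ab_ind (ω : ℂ) (hω : ω = 1 ∨ ω = -1) (x : ℂ) (hx : x = 1 ∨ x = -1) :
    (if x = ω then (1 : ℂ) else 0) = (1 + ω * x) / 2 := by
  rcases hx with h | h <;> rcases hω with h' | h' <;> rw [h, h'] <;> norm_num

theorem ab_card_sign [Fintype (Cfsg.IrrCharacter A)] (z : A) (hz1 : z ≠ 1) (hz2 : z * z = 1)
    (ω : ℂ) (hω : ω = 1 ∨ ω = -1) (N : ℕ) (hN : Fintype.card A = 2 * N) :
    (Finset.univ.filter (fun μ : Cfsg.IrrCharacter A => (μ : A → ℂ) z = ω)).card = N := by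
  classical
  have : ((Finset.univ.filter (fun μ : Cfsg.IrrCharacter A => (μ : A → ℂ) z = ω)).card : ℂ) =
      (N : ℂ) := by
    rw [Finset.card_filter]
    push_cast
    rw [Finset.sum_congr rfl (fun μ _ => ab_ind ω hω _ (ab_val_z z hz2 μ)), ← Finset.sum_div,
      Finset.sum_add_distrib, ← Finset.mul_sum, ab_sum_irr_eq_zero z hz1, Finset.sum_const,
      Finset.card_univ, nsmul_eq_mul, ab_card_irr, hN]
    push_cast
    ring
  exact_mod_cast this

theorem ab_sum_sign [Fintype (Cfsg.IrrCharacter A)] (z : A) (hz2 : z * z = 1)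
    (ω : ℂ) (hω : ω = 1 ∨ ω = -1) (a : A) (ha1 : a ≠ 1) (haz : a ≠ z) :
    ∑ μ ∈ Finset.univ.filter (fun μ : Cfsg.IrrCharacter A => (μ : A → ℂ) z = ω),
      (μ : A → ℂ) a = 0 := by
  classical
  have hza : z * a ≠ 1 := by
    intro h
    apply haz
    calc a = z * z * a := by rw [hz2, one_mul]
      _ = z * (z * a) := by rw [mul_assoc]
      _ = z := by rw [h, mul_one]
  rw [Finset.sum_filter]
  have : ∀ μ : Cfsg.IrrCharacter A, (if (μ : A → ℂ) z = ω then (μ : A → ℂ) a else 0) =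
      ((μ : A → ℂ) a + ω * (μ : A → ℂ) (z * a)) / 2 := by
    intro μ
    have h1 : (if (μ : A → ℂ) z = ω then (μ : A → ℂ) a else 0) =
        (if (μ : A → ℂ) z = ω then (1 : ℂ) else 0) * (μ : A → ℂ) a := by
      split_ifs <;> simp
    rw [h1, ab_ind ω hω _ (ab_val_z z hz2 μ), irr_linear_mul μ (irr_one_of_comm μ)]
    ring
  rw [Finset.sum_congr rfl (fun μ _ => this μ), ← Finset.sum_div, Finset.sum_add_distrib,
    ← Finset.mul_sum, ab_sum_irr_eq_zero a ha1, ab_sum_irr_eq_zero (z * a) hza]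
  simp

theorem ab_supp (z : A) (hz2 : z * z = 1) (ω : ℂ) (hω : ω = 1 ∨ ω = -1) (ψ : A → ℂ)
    (hzψ : ∀ a, ψ (z * a) = ω * ψ a) (μ : Cfsg.IrrCharacter A)
    (hne : Cfsg.classInner ψ (μ : A → ℂ) ≠ 0) : (μ : A → ℂ) z = ω := by
  unfold Cfsg.classInner at hne
  set T := ∑ a : A, ψ a * conj ((μ : A → ℂ) a) with hT
  have hT0 : T ≠ 0 := by
    intro h0
    apply hne
    rw [h0, mul_zero]
  have h2 : T = ∑ a : A, ψ (z * a) * conj ((μ : A → ℂ) (z * a)) :=
    (Equiv.sum_comp (Equiv.mulLeft z) (fun a => ψ a * conj ((μ : A → ℂ) a))).symm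
  have h3 : ∀ a : A, ψ (z * a) * conj ((μ : A → ℂ) (z * a)) =
      (ω * conj ((μ : A → ℂ) z)) * (ψ a * conj ((μ : A → ℂ) a)) := by
    intro a
    rw [hzψ, irr_linear_mul μ (irr_one_of_comm μ), map_mul]
    ring
  rw [Finset.sum_congr rfl (fun a _ => h3 a), ← Finset.mul_sum, ← hT] at h2
  have h4 : ω * conj ((μ : A → ℂ) z) = 1 := by
    have : T * (ω * conj ((μ : A → ℂ) z) - 1) = 0 := by linear_combination -h2
    rcases mul_eq_zero.mp this with h | h
    · exact absurd h hT0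
    · linear_combination h
  rcases ab_val_z z hz2 μ with h | h <;> rcases hω with h' | h' <;> rw [h, h'] at h4 ⊢ <;>
    norm_num at h4

theorem ab_res_two (z : A) (hz1 : z ≠ 1) (hz2 : z * z = 1) (ω : ℂ) (hω : ω = 1 ∨ ω = -1)
    (ψ : A → ℂ) (hψ : Cfsg.IsCharacter A ψ) (hzψ : ∀ a, ψ (z * a) = ω * ψ a)
    (N : ℕ) (hN2 : 2 ≤ N) (hN : Fintype.card A = 2 * N) (hd : ψ 1 = 2 * (N : ℂ) - 2)
    (hnorm : Cfsg.classInner ψ ψ = 4 * (N : ℂ) - 6) :
    ∃ θ₁ θ₂ : Cfsg.IrrCharacter A, θ₁ ≠ θ₂ ∧ (θ₁ : A → ℂ) z = ω ∧ (θ₂ : A → ℂ) z = ω ∧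
      Cfsg.classInner ψ (θ₁ : A → ℂ) = 1 ∧ Cfsg.classInner ψ (θ₂ : A → ℂ) = 1 ∧
      (∀ μ : Cfsg.IrrCharacter A, Cfsg.classInner ψ (μ : A → ℂ) = 1 → μ = θ₁ ∨ μ = θ₂) ∧
      ∀ a, a ≠ 1 → a ≠ z → ψ a = -(θ₁ : A → ℂ) a - (θ₂ : A → ℂ) a := by
  classical
  haveI : Fintype (Cfsg.IrrCharacter A) := Fintype.ofFinite _
  obtain ⟨m, hm, hexp⟩ := isCharacter_expansion hψ
  have hlin : ∀ μ : Cfsg.IrrCharacter A, (μ : A → ℂ) 1 = 1 := irr_one_of_comm
  have hval : ∀ a : A, ψ a = ∑ μ : Cfsg.IrrCharacter A, (m μ : ℂ) * (μ : A → ℂ) a := by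
    intro a
    have := congrFun hexp a
    rw [this]
    simp only [Finset.sum_apply, Pi.smul_apply, smul_eq_mul]
  set I := Finset.univ.filter (fun μ : Cfsg.IrrCharacter A => (μ : A → ℂ) z = ω) with hI
  have hIcard : I.card = N := ab_card_sign z hz1 hz2 ω hω N hN
  have hsupp : ∀ μ : Cfsg.IrrCharacter A, μ ∉ I → m μ = 0 := by
    intro μ hμ
    by_contra h0
    apply hμ
    rw [hI, Finset.mem_filter]
    refine ⟨Finset.mem_univ _, ab_supp z hz2 ω hω ψ hzψ μ ?_⟩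
    rw [hm μ]
    exact_mod_cast h0
  have hsumI : ∀ f : Cfsg.IrrCharacter A → ℂ, (∀ μ, μ ∉ I → f μ = 0) →
      ∑ μ : Cfsg.IrrCharacter A, f μ = ∑ μ ∈ I, f μ := by
    intro f hf
    symm
    apply Finset.sum_subset (Finset.subset_univ _)
    intro μ _ hμ
    exact hf μ hμ
  -- the sum of the multiplicities
  have hsum : ∑ μ ∈ I, (m μ : ℂ) = 2 * (N : ℂ) - 2 := by
    rw [← hsumI (fun μ => (m μ : ℂ)) (fun μ hμ => by simp [hsupp μ hμ]), ← hd, hval 1]
    apply Finset.sum_congr rfl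
    intro μ _
    rw [hlin μ, mul_one]
  have hsq : ∑ μ ∈ I, (m μ : ℂ) ^ 2 = 4 * (N : ℂ) - 6 := by
    rw [← hsumI (fun μ => (m μ : ℂ) ^ 2) (fun μ hμ => by simp [hsupp μ hμ]), ← hnorm,
      classInner_parseval ψ (isCharacter_isClassFunction hψ)]
    apply Finset.sum_congr rfl
    intro μ _
    rw [hm μ, Complex.conj_natCast]
    ring
  have hzero : ∑ μ ∈ I, ((m μ : ℤ) - 1) * ((m μ : ℤ) - 2) = 0 := by
    have : ((∑ μ ∈ I, ((m μ : ℤ) - 1) * ((m μ : ℤ) - 2) : ℤ) : ℂ) = 0 := by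
      push_cast
      have e : ∀ μ ∈ I, ((m μ : ℂ) - 1) * ((m μ : ℂ) - 2) = (m μ : ℂ) ^ 2 - 3 * (m μ : ℂ) + 2 := by
        intro μ _
        ring
      rw [Finset.sum_congr rfl e, Finset.sum_add_distrib, Finset.sum_sub_distrib, hsq,
        ← Finset.mul_sum, hsum, Finset.sum_const, hIcard]
      simp
      ring
    exact_mod_cast this
  have hnn : ∀ μ ∈ I, 0 ≤ ((m μ : ℤ) - 1) * ((m μ : ℤ) - 2) := by
    intro μ _
    rcases Nat.lt_or_ge (m μ) 2 with h | h
    · interval_cases (m μ) <;> norm_num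
    · have h' : (2 : ℤ) ≤ (m μ : ℤ) := by exact_mod_cast h
      apply mul_nonneg <;> linarith
  have h12 : ∀ μ ∈ I, m μ = 1 ∨ m μ = 2 := by
    intro μ hμ
    have := (Finset.sum_eq_zero_iff_of_nonneg hnn).mp hzero μ hμ
    rcases mul_eq_zero.mp this with h | h
    · left
      have : (m μ : ℤ) = 1 := by linarith
      exact_mod_cast this
    · right
      have : (m μ : ℤ) = 2 := by linarith
      exact_mod_cast this
  set M := I.filter (fun μ => m μ = 1) with hM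
  have hmI : ∀ μ ∈ I, (m μ : ℂ) = 2 - (if m μ = 1 then (1 : ℂ) else 0) := by
    intro μ hμ
    rcases h12 μ hμ with h | h <;> rw [h] <;> norm_num
  have hMcard : M.card = 2 := by
    have : (M.card : ℂ) = 2 := by
      have h1 := hsum
      rw [Finset.sum_congr rfl hmI, Finset.sum_sub_distrib, Finset.sum_const, hIcard] at h1
      simp at h1
      rw [hM]
      linear_combination -h1
    exact_mod_cast this
  obtain ⟨θ₁, θ₂, hne, hMeq⟩ := Finset.card_eq_two.mp hMcard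
  have hθ₁M : θ₁ ∈ M := by rw [hMeq]; simp
  have hθ₂M : θ₂ ∈ M := by rw [hMeq]; simp
  have hmemM : ∀ μ, μ ∈ M ↔ μ ∈ I ∧ m μ = 1 := by
    intro μ
    rw [hM, Finset.mem_filter]
  have hmemI : ∀ μ, μ ∈ I ↔ (μ : A → ℂ) z = ω := by
    intro μ
    rw [hI, Finset.mem_filter]
    simp
  refine ⟨θ₁, θ₂, hne, (hmemI θ₁).mp ((hmemM θ₁).mp hθ₁M).1, (hmemI θ₂).mp ((hmemM θ₂).mp hθ₂M).1,
    ?_, ?_, ?_, ?_⟩
  · rw [hm θ₁, ((hmemM θ₁).mp hθ₁M).2]
    simp
  · rw [hm θ₂, ((hmemM θ₂).mp hθ₂M).2]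
    simp
  · intro μ hμ
    rw [hm μ] at hμ
    have h1 : m μ = 1 := by exact_mod_cast hμ
    have hμI : μ ∈ I := by
      by_contra h
      rw [hsupp μ h] at h1
      exact zero_ne_one h1
    have : μ ∈ M := (hmemM μ).mpr ⟨hμI, h1⟩
    rw [hMeq] at this
    simpa using this
  · intro a ha1 haz
    rw [hval a, hsumI (fun μ => (m μ : ℂ) * (μ : A → ℂ) a) (fun μ hμ => by simp [hsupp μ hμ])]
    have e : ∀ μ ∈ I, (m μ : ℂ) * (μ : A → ℂ) a =
        2 * (μ : A → ℂ) a - (if m μ = 1 then (μ : A → ℂ) a else 0) := by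
      intro μ hμ
      rw [hmI μ hμ]
      split_ifs <;> ring
    rw [Finset.sum_congr rfl e, Finset.sum_sub_distrib, ← Finset.mul_sum,
      ab_sum_sign z hz2 ω hω a ha1 haz, ← Finset.sum_filter, ← hM, hMeq, Finset.sum_pair hne]
    ring

/-- multiplicities of conjugate characters in a real-valued character -/
theorem ab_real_mult (ψ : A → ℂ) (hreal : ∀ a, conj (ψ a) = ψ a) (μ : Cfsg.IrrCharacter A)
    (k : ℕ) (hk : Cfsg.classInner ψ (μ : A → ℂ) = (k : ℂ)) :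
    Cfsg.classInner ψ (irrConj μ : A → ℂ) = (k : ℂ) := by
  have h1 : Cfsg.classInner ψ (irrConj μ : A → ℂ) = conj (Cfsg.classInner ψ (μ : A → ℂ)) := by
    unfold Cfsg.classInner
    rw [map_mul, map_inv₀, Complex.conj_natCast, map_sum]
    congr 1
    apply Finset.sum_congr rfl
    intro a _
    rw [map_mul, hreal, irrConj_apply]
  rw [h1, hk, Complex.conj_natCast]

end AbRes2

end Cfsg.Agent.Lib.helper14
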