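import Mathlib
import Cfsg.Agent.Lib.helper14.OrthSp

set_option autoImplicit false

/-! Quadratic forms with a fixed nondegenerate polar form `B` over a finite field of
characteristic two: any two differ by `x ↦ B(z,x)²`; the shifted form `Q + B(z,·)²` is equivalent
to `Q` under the symplectic group of `B` iff `Q z` lies in the Artin–Schreier subgroup. -/

namespace Cfsg.Agent.Lib.helper14.ArfShift

open Cfsg.Agent.Lib.Lead.OG Cfsg.Agent.Lib.helper14.OrthSp

variable {F : Type*} [Field F] [CharP F 2] [Fintype F] {κ : Type*} [Fintype κ] [DecidableEq κ]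
  {Q Q₁ Q₂ : (κ → F) → F} {B : LinearMap.BilinForm F (κ → F)}

/-- two quadratic forms with the same polar form differ by the square of a linear functional -/
theorem diff_eq_sq (hQ₁ : IsQP Q₁ B) (hQ₂ : IsQP Q₂ B) :
    ∃ z : κ → F, ∀ x, Q₂ x = Q₁ x + (B z x) ^ 2 := by
  classical
  have hnd := isQP_nondeg hQ₁
  have h2F : ∀ a : F, a + a = 0 := CharTwo.add_self_eq_zero
  set D : (κ → F) → F := fun x => Q₂ x + Q₁ x with hD
  have hDadd : ∀ x y, D (x + y) = D x + D y := by
    intro x y
    simp only [hD, hQ₁.add, hQ₂.add]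
    linear_combination h2F (B x y)
  have hDsmul : ∀ (c : F) x, D (c • x) = c * c * D x := by
    intro c x
    simp only [hD, hQ₁.smul, hQ₂.smul]
    ring
  haveI : Fact (Nat.Prime 2) := ⟨Nat.prime_two⟩
  set sq := frobeniusEquiv F 2 with hsq
  have hsqrt : ∀ y : F, (sq.symm y) ^ 2 = y := fun y => frobeniusEquiv_symm_pow_p F 2 y
  set lam : (κ → F) →ₗ[F] F :=
    { toFun := fun x => sq.symm (D x)
      map_add' := fun x y => by rw [hDadd, map_add]
      map_smul' := fun c x => by
        rw [hDsmul, map_mul, ← pow_two, frobeniusEquiv_symm_pow F 2 c]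
        rfl } with hlam
  have hlam2 : ∀ x, (lam x) ^ 2 = D x := fun x => hsqrt (D x)
  refine ⟨(B.toDual hnd).symm lam, fun x => ?_⟩
  have hzB : B ((B.toDual hnd).symm lam) x = lam x :=
    LinearMap.BilinForm.apply_toDual_symm_apply lam x
  rw [hzB, hlam2]
  simp only [hD]
  linear_combination -(h2F (Q₁ x))

/-- the shift of a quadratic form by `B(z,·)²` has the same polar form -/
theorem isQP_shift (hQ : IsQP Q B) (z : κ → F) : IsQP (fun x => Q x + (B z x) ^ 2) B where
  add x y := by
    have h2F : ∀ a : F, a + a = 0 := CharTwo.add_self_eq_zero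
    simp only [hQ.add, map_add]
    linear_combination (B z x * B z y) * (CharTwo.two_eq_zero : (2 : F) = 0)
  smul c x := by
    simp only [hQ.smul, map_smul, smul_eq_mul]
    ring
  symm := hQ.symm
  nondeg := hQ.nondeg

/-- Arf invariant: if the shifted form is equivalent to `Q` by a bijection then `Q z ∈ ℘(F)` -/
theorem arf_of_bij (hQ : IsQP Q B) (z : κ → F) (g : (κ → F) → (κ → F))
    (hg : Function.Bijective g) (h : ∀ x, Q (g x) = Q x + (B z x) ^ 2) :
    Q z ∈ (asRange : AddSubgroup F) := by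
  rw [← psi_eq_one_iff]
  have h1 : ∑ x : κ → F, psi (Q (g x)) = gauss Q :=
    Equiv.sum_comp (Equiv.ofBijective g hg) (fun x => psi (Q x))
  have h2 : ∑ x : κ → F, psi (Q (g x)) = psi (Q z) * gauss Q := by
    rw [← gauss_shift hQ z]
    exact Finset.sum_congr rfl (fun x _ => by rw [h])
  rw [h1] at h2
  have h3 : (psi (Q z) - 1) * gauss Q = 0 := by linear_combination -h2
  rcases mul_eq_zero.mp h3 with h | h
  · linarith
  · exact absurd h (gauss_ne_zero hQ)

/-- if `Q z ∈ ℘(F)` a transvection along `z` carries `Q` to the shifted form -/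
theorem exists_transvection (hQ : IsQP Q B) (z : κ → F)
    (hz : Q z ∈ (asRange : AddSubgroup F)) :
    ∃ τ : (κ → F) ≃ₗ[F] (κ → F), (∀ u v, B (τ u) (τ v) = B u v) ∧
      ∀ x, Q (τ x) = Q x + (B z x) ^ 2 := by
  have h2F : ∀ a : F, a + a = 0 := CharTwo.add_self_eq_zero
  obtain ⟨b, hb⟩ := (mem_asRange _).mp hz
  obtain ⟨a, ha⟩ : ∃ a : F, a * a * Q z + a + 1 = 0 := by
    by_cases h0 : Q z = 0
    · exact ⟨1, by rw [h0]; linear_combination h2F 1⟩
    · refine ⟨b / Q z, ?_⟩
      field_simp
      linear_combination hb + h2F (Q z)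
  have hBzz : B z z = 0 := by rw [hQ.self]; exact h2F _
  set τ : (κ → F) →ₗ[F] (κ → F) := LinearMap.id + (a • (B z)).smulRight z with hτ
  have hτa : ∀ x, τ x = x + (a * B z x) • z := by
    intro x
    rw [hτ, LinearMap.add_apply, LinearMap.id_apply, LinearMap.smulRight_apply,
      LinearMap.smul_apply, smul_eq_mul]
  have hBzτ : ∀ x, B z (τ x) = B z x := by
    intro x
    rw [hτa, map_add, map_smul, hBzz, smul_zero, add_zero]
  have hτinv : Function.Involutive τ := by
    intro x
    rw [hτa (τ x), hBzτ, hτa, add_assoc, ← add_smul, h2F, zero_smul, add_zero]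
  have hQτ : ∀ x, Q (τ x) = Q x + (B z x) ^ 2 := by
    intro x
    have hsym : B x z = B z x := by rw [hQ.symm x z, one_mul]
    rw [hτa, hQ.add, hQ.smul, map_smul, smul_eq_mul, hsym]
    linear_combination (B z x) ^ 2 * ha - (B z x) ^ 2 * h2F 1
  refine ⟨LinearEquiv.ofInvolutive τ hτinv, ?_, hQτ⟩
  intro u v
  show B (τ u) (τ v) = B u v
  have hsym : ∀ x, B x z = B z x := fun x => by rw [hQ.symm x z, one_mul]
  rw [hτa, hτa]
  simp only [map_add, map_smul, LinearMap.add_apply, LinearMap.smul_apply, smul_eq_mul, hBzz,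
    hsym]
  linear_combination (a * B z u * B z v) * (CharTwo.two_eq_zero : (2 : F) = 0)

/-- the shift determines `z` -/
theorem shift_injective (hQ : IsQP Q B) (z z' : κ → F)
    (h : ∀ x, Q x + (B z x) ^ 2 = Q x + (B z' x) ^ 2) : z = z' := by
  have hnd := isQP_nondeg hQ
  have h1 : z - z' = 0 := by
    apply hnd.1
    intro x
    rw [map_sub, LinearMap.sub_apply, sub_eq_zero]
    exact sq_inj _ _ (add_left_cancel (h x))
  exact sub_eq_zero.mp h1

end Cfsg.Agent.Lib.helper14.ArfShift
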