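import Mathlib

/-!
# Project BD, wave 4, piece GAL1
-/

set_option autoImplicit false

namespace Cfsg.Agent.Lib.helper7.BD

/-- `exp(2πi/g') = exp(2πi/n)^(n/g')` when `g' ∣ n`, `0 < n`. -/
theorem bd4gal1_exp_eq (n g' : ℕ) (hn : 0 < n) (hg : g' ∣ n) :
    Complex.exp (2 * Real.pi * Complex.I / (g' : ℂ)) =
      Complex.exp (2 * Real.pi * Complex.I / (n : ℂ)) ^ (n / g') := by
  have hg' : 0 < g' := Nat.pos_of_dvd_of_pos hg hn
  obtain ⟨k, rfl⟩ := hg
  have hk : 0 < k := by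
    rcases Nat.eq_zero_or_pos k with h | h
    · rw [h, mul_zero] at hn; omega
    · exact h
  rw [Nat.mul_div_cancel_left k hg', ← Complex.exp_nat_mul]
  congr 1
  have h1 : (g' : ℂ) ≠ 0 := by exact_mod_cast hg'.ne'
  have h2 : (k : ℂ) ≠ 0 := by exact_mod_cast hk.ne'
  push_cast
  field_simp

/-- GAL1 : a field automorphism of `ℂ` fixing the primitive `g'`-th root of unity `exp(2πi/g')` acts on the `n`-th roots
of unity (`g' ∣ n`) as `z ↦ z ^ m` with `m` prime to `n` and `m ≡ 1 (mod g')` -/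
theorem ringAut_pow_of_fix (σ : ℂ ≃+* ℂ) (n g' : ℕ) (hn : 0 < n) (hg : g' ∣ n)
    (hσ : σ (Complex.exp (2 * Real.pi * Complex.I / (g' : ℂ))) =
      Complex.exp (2 * Real.pi * Complex.I / (g' : ℂ))) :
    ∃ m : ℕ, m.Coprime n ∧ m ≡ 1 [MOD g'] ∧ ∀ z : ℂ, z ^ n = 1 → σ z = z ^ m := by
  have hg' : 0 < g' := Nat.pos_of_dvd_of_pos hg hn
  set ζ := Complex.exp (2 * Real.pi * Complex.I / (n : ℂ)) with hζ
  have hprim : IsPrimitiveRoot ζ n := Complex.isPrimitiveRoot_exp n hn.ne'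
  have hprim' : IsPrimitiveRoot (σ ζ) n :=
    hprim.map_of_injective (f := σ) σ.injective
  haveI : NeZero n := ⟨hn.ne'⟩
  obtain ⟨m, hmlt, hm⟩ := hprim.eq_pow_of_pow_eq_one hprim'.pow_eq_one
  have hcop : m.Coprime n := by
    rw [← hprim.pow_iff_coprime hn m, hm]; exact hprim'
  refine ⟨m, hcop, ?_, ?_⟩
  · -- m ≡ 1 mod g'
    have he := bd4gal1_exp_eq n g' hn hg
    rw [he, map_pow, ← hm, ← pow_mul] at hσ
    -- ζ^(m * (n/g')) = ζ^(n/g')
    have h1 : m * (n / g') ≡ n / g' [MOD n] := by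
      have := hprim.pow_inj (i := (m * (n / g')) % n) (j := (n / g') % n)
        (Nat.mod_lt _ hn) (Nat.mod_lt _ hn)
      apply this
      have ho : orderOf ζ = n := hprim.eq_orderOf.symm
      have e0 : ∀ j : ℕ, ζ ^ (j % n) = ζ ^ j := by
        intro j
        have := pow_mod_orderOf ζ j
        rwa [ho] at this
      have e1 : ζ ^ ((m * (n / g')) % n) = ζ ^ (m * (n / g')) := e0 _
      have e2 : ζ ^ ((n / g') % n) = ζ ^ (n / g') := e0 _
      rw [e1, e2]; exact hσ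
    obtain ⟨k, hk⟩ := hg
    have hkpos : 0 < k := by
      rcases Nat.eq_zero_or_pos k with h | h
      · rw [h, mul_zero] at hk; omega
      · exact h
    have hdiv : n / g' = k := by rw [hk, Nat.mul_div_cancel_left k hg']
    rw [hdiv, hk] at h1
    -- m * k ≡ k [MOD g' * k]
    have h2 : k * m ≡ k * 1 [MOD k * g'] := by
      rw [mul_one, mul_comm k m, mul_comm k g']; exact h1
    exact Nat.ModEq.mul_left_cancel' hkpos.ne' h2
  · intro z hz
    obtain ⟨i, -, rfl⟩ := hprim.eq_pow_of_pow_eq_one hz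
    rw [map_pow, ← hm, ← pow_mul, ← pow_mul, mul_comm]

end Cfsg.Agent.Lib.helper7.BD
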