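import Mathlib
import Cfsg.Agent.Lib.Helper11.GaloisConj

/-!
# Project BD, wave 4, piece GAL2
-/

set_option autoImplicit false

namespace Cfsg.Agent.Lib.helper7.BD

/-- `exp(2πi/g')` is a `g'`-th root of unity -/
theorem bd4gal_exp_pow (g' : ℕ) (hg : 0 < g') :
    Complex.exp (2 * Real.pi * Complex.I / (g' : ℂ)) ^ g' = 1 := by
  have h := Complex.isPrimitiveRoot_exp g' hg.ne'
  exact h.pow_eq_one

/-- GAL2 : conversely -/
theorem exists_ringAut_fix (n g' m : ℕ) (hn : 0 < n) (hg : g' ∣ n) (hm : m.Coprime n)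
    (hm1 : m ≡ 1 [MOD g']) :
    ∃ τ : ℂ ≃+* ℂ, τ (Complex.exp (2 * Real.pi * Complex.I / (g' : ℂ))) =
      Complex.exp (2 * Real.pi * Complex.I / (g' : ℂ)) ∧ ∀ z : ℂ, z ^ n = 1 → τ z = z ^ m := by
  obtain ⟨τ, hτ⟩ := Cfsg.Agent.Lib.Helper11.exists_ringAut_pow n m hn hm
  have hg' : 0 < g' := Nat.pos_of_dvd_of_pos hg hn
  refine ⟨τ, ?_, hτ⟩
  set ζ := Complex.exp (2 * Real.pi * Complex.I / (g' : ℂ)) with hζ
  have h1 : ζ ^ g' = 1 := bd4gal_exp_pow g' hg'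
  have h2 : ζ ^ n = 1 := by
    obtain ⟨k, rfl⟩ := hg
    rw [pow_mul, h1, one_pow]
  rw [hτ ζ h2]
  -- ζ^m = ζ since m ≡ 1 mod g'
  have h3 : ζ ^ m = ζ ^ 1 := by
    have h4 : m ≡ 1 [MOD orderOf ζ] := hm1.of_dvd (orderOf_dvd_of_pow_eq_one h1)
    rw [← pow_mod_orderOf ζ m, ← pow_mod_orderOf ζ 1]
    exact congrArg _ h4
  rw [h3, pow_one]

end Cfsg.Agent.Lib.helper7.BD
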