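import Mathlib
import Cfsg.Agent.Lib.Helper21.BSQ.Defs
import Cfsg.Agent.Lib.helper14.BSQK2core
import Cfsg.Agent.Lib.Helper20.BSQA2
import Cfsg.Agent.Lib.Helper22.BSQA3
import Cfsg.Agent.Lib.Helper22.BSQA4
import Cfsg.Agent.Lib.Helper9.BSQA8

/-!
# BSQ row K2 (conj_of_coprime): verbatim wrapper of `bsqk2_core` on the landed rows A2 A3 A4 A8 K1.
-/

set_option autoImplicit false

namespace Cfsg.Agent.Lib.Helper21.BSQ

universe u

variable {G : Type u} [Group G]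

theorem conj_of_coprime [Finite G] (hB : IsBStar G) (N : Subgroup G) [N.Normal]
    (A' B' : Subgroup (G ⧸ N)) (hA' : IsMulCommutative ↥A') (hB' : IsMulCommutative ↥B')
    (hc : Nat.card ↥A' = Nat.card ↥B') (hcop : (Nat.card ↥N).Coprime (Nat.card ↥A')) :
    ∃ g : G ⧸ N, B' = A'.map (MulAut.conj g).toMonoidHom :=
  bsqk2_core hB N (fun A' B' g h => descent N A' B' g h) (fun A' h => comap_facts N A' h)
    (fun A S h1 h2 _ h3 h4 => sz_in_subgroup A S h1 h2 h3 h4)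
    (fun A B S H S' H' h1 h2 h3 h4 h5 h6 g h7 h8 => prod_conj A B S H S' H' h1 h2 h3 h4 h5 h6 g h7 h8)
    (fun N H A h1 h2 h3 => abelian_of_inf_bot N H A h1 h2 h3) A' B' hA' hB' hc hcop

end Cfsg.Agent.Lib.Helper21.BSQ
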