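import Mathlib
import Cfsg.Agent.Lib.Helper10.C3Q.Defs
import Cfsg.Agent.Lib.helper4.OTSOMEGAODD

set_option autoImplicit false

/-!
# Project C3Q (designer helper10), row NPEX (helper14): the Siegel element
`x v = v + B(v,z) w - B(v,w) z - Q(w) B(v,z) z` (`z` singular, `w ⊥ z`, `Q w ≠ 0`), of order `p`, with `rank (x-1)² = 1`.
-/

namespace Cfsg.Agent.Lib.Helper10.C3Q

open Matrix Module Cfsg.Agent.Lib.Helper13.OTS

universe u

variable {F : Type u} [Field F] {ι : Type} [Fintype ι] [DecidableEq ι]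

/-- the nilpotent part of the Siegel element -/
noncomputable def c3qnpex_N (Q : QuadraticForm F (ι → F)) (z w : ι → F) : (ι → F) →ₗ[F] (ι → F) :=
  (QuadraticMap.polarBilin Q z).smulRight w +
    (-(QuadraticMap.polarBilin Q w) - Q w • (QuadraticMap.polarBilin Q z)).smulRight z

theorem c3qnpex_N_apply (Q : QuadraticForm F (ι → F)) (z w v : ι → F) :
    c3qnpex_N Q z w v = QuadraticMap.polar (⇑Q) z v • w +
      (-QuadraticMap.polar (⇑Q) w v - Q w * QuadraticMap.polar (⇑Q) z v) • z := by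
  simp [c3qnpex_N, LinearMap.smulRight_apply]

section facts
variable (Q : QuadraticForm F (ι → F)) (z w : ι → F) (hz : Q z = 0)
  (hzw : QuadraticMap.polar (⇑Q) z w = 0)
include hz hzw

theorem c3qnpex_bz (v : ι → F) : QuadraticMap.polar (⇑Q) z (c3qnpex_N Q z w v) = 0 := by
  have hzz : QuadraticMap.polar (⇑Q) z z = 0 := by rw [QuadraticMap.polar_self, hz, smul_zero]
  rw [c3qnpex_N_apply, QuadraticMap.polar_add_right, QuadraticMap.polar_smul_right,
    QuadraticMap.polar_smul_right, hzw, hzz, smul_zero, smul_zero, add_zero]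

theorem c3qnpex_bw (v : ι → F) :
    QuadraticMap.polar (⇑Q) w (c3qnpex_N Q z w v) = QuadraticMap.polar (⇑Q) z v * (2 * Q w) := by
  have hwz : QuadraticMap.polar (⇑Q) w z = 0 := by rw [QuadraticMap.polar_comm]; exact hzw
  have hww : QuadraticMap.polar (⇑Q) w w = 2 * Q w := by
    rw [QuadraticMap.polar_self]
    simp
  rw [c3qnpex_N_apply, QuadraticMap.polar_add_right, QuadraticMap.polar_smul_right,
    QuadraticMap.polar_smul_right, hwz, hww, smul_zero, add_zero, smul_eq_mul]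

theorem c3qnpex_Nz : c3qnpex_N Q z w z = 0 := by
  have hzz : QuadraticMap.polar (⇑Q) z z = 0 := by rw [QuadraticMap.polar_self, hz, smul_zero]
  have hwz : QuadraticMap.polar (⇑Q) w z = 0 := by rw [QuadraticMap.polar_comm]; exact hzw
  rw [c3qnpex_N_apply, hzz, hwz]
  simp

theorem c3qnpex_NN (v : ι → F) :
    c3qnpex_N Q z w (c3qnpex_N Q z w v) = (-(2 * Q w * QuadraticMap.polar (⇑Q) z v)) • z := by
  rw [c3qnpex_N_apply Q z w (c3qnpex_N Q z w v), c3qnpex_bz Q z w hz hzw, c3qnpex_bw Q z w hz hzw]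
  rw [zero_smul, zero_add, mul_zero, sub_zero]
  congr 1
  ring

theorem c3qnpex_NNN (v : ι → F) :
    c3qnpex_N Q z w (c3qnpex_N Q z w (c3qnpex_N Q z w v)) = 0 := by
  rw [c3qnpex_NN Q z w hz hzw, c3qnpex_bz Q z w hz hzw, mul_zero, neg_zero, zero_smul]

theorem c3qnpex_pres (v : ι → F) : Q (v + c3qnpex_N Q z w v) = Q v := by
  have hwz : QuadraticMap.polar (⇑Q) w z = 0 := by rw [QuadraticMap.polar_comm]; exact hzw
  have h1 : Q (c3qnpex_N Q z w v) = QuadraticMap.polar (⇑Q) z v * QuadraticMap.polar (⇑Q) z v * Q w := by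
    rw [c3qnpex_N_apply, QuadraticMap.map_add Q, QuadraticMap.map_smul, QuadraticMap.map_smul, hz,
      QuadraticMap.polar_smul_left, QuadraticMap.polar_smul_right, hwz]
    simp
  have h2 : QuadraticMap.polar (⇑Q) v (c3qnpex_N Q z w v) =
      -(Q w * (QuadraticMap.polar (⇑Q) z v * QuadraticMap.polar (⇑Q) z v)) := by
    rw [c3qnpex_N_apply, QuadraticMap.polar_add_right, QuadraticMap.polar_smul_right,
      QuadraticMap.polar_smul_right, QuadraticMap.polar_comm (⇑Q) v w, QuadraticMap.polar_comm (⇑Q) v z,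
      smul_eq_mul, smul_eq_mul]
    ring
  rw [QuadraticMap.map_add Q, h1, h2]
  ring

end facts

/-- NPEX -/
theorem n_p_ex [Fintype F] {p : ℕ} [Fact p.Prime] [CharP F p] (hp2 : p ≠ 2) (Q : QuadraticForm F (ι → F))
    (hQ : (QuadraticMap.polarBilin Q).Nondegenerate) (hn : 5 ≤ Fintype.card ι) (z w : ι → F)
    (hz0 : z ≠ 0) (hz : Q z = 0) (hzw : QuadraticMap.polar (⇑Q) z w = 0) (hw : Q w ≠ 0) :
    ∃ x : GL ι F, x ∈ Cfsg.Geo.omegaGL (⇑Q) ∧ x ^ p = 1 ∧
      (((x : Matrix ι ι F) - 1) * ((x : Matrix ι ι F) - 1)).rank = 1 := by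
  have hpp : p.Prime := Fact.out
  have hp3 : 3 ≤ p := by
    have := hpp.two_le
    omega
  have hpodd : Odd p := hpp.odd_of_ne_two hp2
  have h2 : (2 : F) ≠ 0 := by
    intro h0
    have h1 : ((2 : ℕ) : F) = 0 := by exact_mod_cast h0
    have h3 : p ∣ 2 := (CharP.cast_eq_zero_iff F p 2).mp h1
    exact hp2 ((Nat.prime_dvd_prime_iff_eq hpp Nat.prime_two).mp h3)
  have : Nonempty ι := by
    apply Fintype.card_pos_iff.mp
    omega
  set N : (ι → F) →ₗ[F] (ι → F) := c3qnpex_N Q z w with hN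
  set Nm : Matrix ι ι F := LinearMap.toMatrix' N with hNm
  have hNmv : ∀ v, Nm *ᵥ v = N v := fun v => LinearMap.toMatrix'_mulVec N v
  have hNN : N ∘ₗ N ∘ₗ N = 0 := by
    apply LinearMap.ext
    intro v
    exact c3qnpex_NNN Q z w hz hzw v
  have hNm3 : Nm ^ 3 = 0 := by
    rw [pow_succ, pow_two, hNm, ← LinearMap.toMatrix'_comp, ← LinearMap.toMatrix'_comp]
    have : (N ∘ₗ N) ∘ₗ N = 0 := by
      rw [LinearMap.comp_assoc]; exact hNN
    rw [this, map_zero]
  have hNmp : Nm ^ p = 0 := by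
    have : p = 3 + (p - 3) := by omega
    rw [this, pow_add, hNm3, zero_mul]
  have hXp : (1 + Nm) ^ p = 1 := by
    rw [add_pow_char_of_commute p (Commute.one_left Nm), one_pow, hNmp, add_zero]
  set x : GL ι F := Units.ofPowEqOne (1 + Nm) p hXp hpp.ne_zero with hx
  have hxval : (x : Matrix ι ι F) = 1 + Nm := rfl
  have hxp : x ^ p = 1 := Units.pow_ofPowEqOne hXp hpp.ne_zero
  have hiso : x ∈ Cfsg.isometryGroup F (⇑Q) := by
    intro u _
    show Q ((x : Matrix ι ι F) *ᵥ u) = Q u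
    rw [hxval, Matrix.add_mulVec, Matrix.one_mulVec, hNmv]
    exact c3qnpex_pres Q z w hz hzw u
  refine ⟨x, q_omega_of_odd Q hQ hn x hiso p hpodd hxp, hxp, ?_⟩
  have hsub : (x : Matrix ι ι F) - 1 = Nm := by rw [hxval]; abel
  rw [hsub, hNm, ← LinearMap.toMatrix'_comp]
  -- the rank of `N ∘ N`
  have hrank : ∀ g : (ι → F) →ₗ[F] (ι → F), (LinearMap.toMatrix' g).rank = finrank F (LinearMap.range g) := by
    intro g
    unfold Matrix.rank
    have : (LinearMap.toMatrix' g).mulVecLin = g := by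
      apply LinearMap.ext
      intro v
      rw [Matrix.mulVecLin_apply, LinearMap.toMatrix'_mulVec]
    rw [this]
  rw [hrank]
  have hex : ∃ v0, QuadraticMap.polar (⇑Q) z v0 ≠ 0 := by
    by_contra hcon
    push Not at hcon
    exact hz0 (hQ.1 z hcon)
  obtain ⟨v0, hv0⟩ := hex
  have hrange : LinearMap.range (N ∘ₗ N) = Submodule.span F {z} := by
    apply le_antisymm
    · rintro _ ⟨v, rfl⟩
      rw [LinearMap.comp_apply, hN, c3qnpex_NN Q z w hz hzw]
      exact Submodule.smul_mem _ _ (Submodule.mem_span_singleton_self z)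
    · rw [Submodule.span_singleton_le_iff_mem]
      have hc : -(2 * Q w * QuadraticMap.polar (⇑Q) z v0) ≠ 0 :=
        neg_ne_zero.mpr (mul_ne_zero (mul_ne_zero h2 hw) hv0)
      refine ⟨(-(2 * Q w * QuadraticMap.polar (⇑Q) z v0))⁻¹ • v0, ?_⟩
      rw [map_smul, LinearMap.comp_apply, hN, c3qnpex_NN Q z w hz hzw, smul_smul, inv_mul_cancel₀ hc, one_smul]
  rw [hrange]
  exact finrank_span_singleton hz0

end Cfsg.Agent.Lib.Helper10.C3Q
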