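import Mathlib
import Cfsg.Agent.Lib.helper7.CEC.Defs
import Cfsg.Agent.Lib.Helper24.STCI1
import Cfsg.Agent.Lib.Helper22.STCF1

/-! Project CEC (designer helper7; S2092), rows T1 (`t1_milnor`) and T2 (`t1_steinberg`), by helper14. -/

set_option autoImplicit false

namespace Cfsg.Agent.Lib.helper7.CEC

open Cfsg.Agent.Lib.helper15.St2 Cfsg.Agent.Lib.helper7.Ce Cfsg.Agent.Lib.helper3.STC

section T

variable {K : Type*} [Field K] {ι : Type*} {Γ G : Type*} [Group Γ] [Group G] {S : SysC K ι G} {σ : Γ →* G}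

theorem cect1_unpack {a b : ι ⊕ ι} (h : ab a ≠ ab b) : a ≠ b ∧ a ≠ ng b := by
  constructor
  · intro e; exact h (by rw [e])
  · intro e; exact h (ab_eq_iff.2 (Or.inr e))

/-- T1 -/
theorem t1_milnor (h : IsCE σ) (h3 : I3 ι) :
    ∀ a b : ι ⊕ ι, ab a ≠ ab b → ∀ t u : K, CL σ (S.x a b t) (S.x a b u) := by
  intro a b hab t u
  obtain ⟨e, hea, heb⟩ := h3 a b
  obtain ⟨hab1, hab2⟩ := cect1_unpack hab
  obtain ⟨hea1, hea2⟩ := cect1_unpack hea
  obtain ⟨heb1, heb2⟩ := cect1_unpack heb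
  have hae1 : a ≠ e := fun x => hea1 x.symm
  have hae2 : a ≠ ng e := fun x => hea2 (ng_eq_iff.1 x.symm)
  have e1 : S.x a b t = cm (S.x a e t) (S.x e b 1) := by
    have := S.comm3 a e b hae1 hae2 heb1 heb2 hab1 hab2 t 1
    rw [mul_one] at this
    rw [← this]
    rfl
  rw [e1]
  apply h.milnor
  · exact S.comm a e a b hae1 hab1 hea1 hab1 heb2 (ne_ng a) t u
  · exact S.comm e b a b heb1 hab1 hab1.symm heb1 (ne_ng b) hea2 1 u

/-- T2 -/
theorem t1_steinberg [DecidableEq ι] (h : IsCE σ) (hH : S.HH) (c : K) (hc0 : c ≠ 0) (hc1 : 1 - c ≠ 0) (hc : c * (1 - c) ≠ 1) :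
    ∀ a b : ι ⊕ ι, ab a ≠ ab b → ∀ t u : K, CL σ (S.x a b t) (S.x a b u) := by
  intro a b hab
  obtain ⟨hab1, hab2⟩ := cect1_unpack hab
  have hba : b ≠ a := fun x => hab1 x.symm
  have hbna : b ≠ ng a := fun x => hab2 (ng_eq_iff.1 x.symm)
  -- the commutator of the chosen lifts
  have hk : ∀ t u : K, σ (cm (lf h (S.x a b t)) (lf h (S.x a b u))) = 1 := by
    intro t u
    rw [map_cm, map_lf, map_lf, cm_eq_one_iff, S.add a b hab1, S.add a b hab1, add_comm]
  have hcen : ∀ (t u : K) (g : Γ), cm (lf h (S.x a b t)) (lf h (S.x a b u)) * g =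
      g * cm (lf h (S.x a b t)) (lf h (S.x a b u)) := fun t u g => h.comm_of_map_one (hk t u) g
  have hadd_l : ∀ s t u : K, cm (lf h (S.x a b (s + t))) (lf h (S.x a b u)) =
      cm (lf h (S.x a b s)) (lf h (S.x a b u)) * cm (lf h (S.x a b t)) (lf h (S.x a b u)) := by
    intro s t u
    have e1 : σ (lf h (S.x a b (s + t))) = σ (lf h (S.x a b s) * lf h (S.x a b t)) := by
      rw [map_mul, map_lf, map_lf, map_lf, S.add a b hab1]
    rw [h.cm_congr e1 rfl, cm_mul_left]
    have e2 := h.cj_of_map_one (hk t u) (lf h (S.x a b s))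
    unfold cj at e2
    rw [e2, hcen]
  have hadd_r : ∀ t u u' : K, cm (lf h (S.x a b t)) (lf h (S.x a b (u + u'))) =
      cm (lf h (S.x a b t)) (lf h (S.x a b u)) * cm (lf h (S.x a b t)) (lf h (S.x a b u')) := by
    intro t u u'
    have e1 : σ (lf h (S.x a b (u + u'))) = σ (lf h (S.x a b u) * lf h (S.x a b u')) := by
      rw [map_mul, map_lf, map_lf, map_lf, S.add a b hab1]
    rw [h.cm_congr rfl e1, cm_mul_right]
    have e2 := h.cj_of_map_one (hk t u') (lf h (S.x a b u))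
    unfold cj at e2
    rw [e2]
  have hzero_r : ∀ t : K, cm (lf h (S.x a b t)) (lf h (S.x a b 0)) = 1 := by
    intro t
    have := hadd_r t 0 0
    rw [add_zero] at this
    exact mul_eq_left.1 this.symm
  have hneg_r : ∀ t u : K, cm (lf h (S.x a b t)) (lf h (S.x a b (-u))) =
      (cm (lf h (S.x a b t)) (lf h (S.x a b u)))⁻¹ := by
    intro t u
    have := hadd_r t (-u) u
    rw [neg_add_cancel, hzero_r] at this
    exact eq_inv_of_mul_eq_one_left this.symm
  have hscale : ∀ v : K, v ≠ 0 → ∀ t u : K,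
      cm (lf h (S.x a b (v * t))) (lf h (S.x a b (v * u))) =
        cm (lf h (S.x a b t)) (lf h (S.x a b u)) := by
    intro v hv t u
    have hmon := (SysC.HH.long S hH a v hv).2 a b hab1
    have hda : dhl a v a = v := by unfold dhl; rw [if_pos rfl]
    have hdb : dhl a v b = 1 := by unfold dhl; rw [if_neg hba, if_neg hbna]
    have hact : ∀ s : K, cj (S.h a (ng a) v) (S.x a b s) = S.x a b (v * s) := by
      intro s
      rw [hmon s, Equiv.Perm.one_apply, Equiv.Perm.one_apply, hda, hdb, inv_one, mul_one]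
    have e1 : ∀ s : K, σ (lf h (S.x a b (v * s))) =
        σ (cj (lf h (S.h a (ng a) v)) (lf h (S.x a b s))) := by
      intro s
      rw [map_cj, map_lf, map_lf, map_lf, hact]
    rw [h.cm_congr (e1 t) (e1 u), ← cj_cm, h.cj_of_map_one (hk t u)]
  -- the Steinberg computation
  set w : K := (c * (1 - c))⁻¹ with hw
  have hcc : c * (1 - c) ≠ 0 := mul_ne_zero hc0 hc1
  have hw1 : 1 - w ≠ 0 := by
    intro e
    have e2 : w = 1 := by linear_combination -e
    rw [hw, inv_eq_one] at e2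
    exact hc e2
  have key : ∀ t u : K, cm (lf h (S.x a b t)) (lf h (S.x a b u)) =
      cm (lf h (S.x a b t)) (lf h (S.x a b (w * u))) := by
    intro t u
    have e1 : t = c * t + (1 - c) * t := by ring
    have e2 : cm (lf h (S.x a b (c * t))) (lf h (S.x a b u)) =
        cm (lf h (S.x a b t)) (lf h (S.x a b (c⁻¹ * u))) := by
      have := hscale c hc0 t (c⁻¹ * u)
      rw [← mul_assoc, mul_inv_cancel₀ hc0, one_mul] at this
      exact this
    have e3 : cm (lf h (S.x a b ((1 - c) * t))) (lf h (S.x a b u)) =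
        cm (lf h (S.x a b t)) (lf h (S.x a b ((1 - c)⁻¹ * u))) := by
      have := hscale (1 - c) hc1 t ((1 - c)⁻¹ * u)
      rw [← mul_assoc, mul_inv_cancel₀ hc1, one_mul] at this
      exact this
    have e4 : c⁻¹ * u + (1 - c)⁻¹ * u = w * u := by
      rw [hw]
      field_simp
      ring
    conv_lhs => rw [e1]
    rw [hadd_l, e2, e3, ← hadd_r, e4]
  have hone : ∀ t u : K, cm (lf h (S.x a b t)) (lf h (S.x a b ((1 - w) * u))) = 1 := by
    intro t u
    have e1 : (1 - w) * u = u + -(w * u) := by ring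
    rw [e1, hadd_r, hneg_r, ← key, mul_inv_cancel]
  intro t u
  have e3 : u = (1 - w) * ((1 - w)⁻¹ * u) := by
    rw [← mul_assoc, mul_inv_cancel₀ hw1, one_mul]
  have e4 := hone t ((1 - w)⁻¹ * u)
  rw [← e3, cm_eq_one_iff] at e4
  exact h.CL_of_lift' (map_lf h _) (map_lf h _) e4

end T

end Cfsg.Agent.Lib.helper7.CEC
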