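import Mathlib
import Cfsg.Agent.Lib.helper14.OBNd
import Cfsg.Agent.Lib.helper14.DBN.Defs
import Cfsg.Agent.Lib.Helper25.DBNQBASIC
import Cfsg.Agent.Lib.Helper24.DBNNUOQ
import Cfsg.Agent.Lib.helper6.DBNTNORM
import Cfsg.Agent.Lib.helper17.DBNSDBASIC
import Cfsg.Agent.Lib.Helper27.DBNGEN
import Cfsg.Agent.Lib.helper14.DBNWEAK
import Cfsg.Agent.Lib.Helper28.DBNDCOQ
import Cfsg.Agent.Lib.Helper13.DBNROOT

/-!
Project DBN (S2548), row POSNEG: ascents and descents for the `(B,N)`-pair of type `D`.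
-/

set_option autoImplicit false

namespace Cfsg.Agent.Lib.helper14.DBN

open Matrix DoubleCoset
open Cfsg.Agent.Lib.helper3 Cfsg.Agent.Lib.helper14
open Cfsg.Agent.Lib.helper14.UBN Cfsg.Agent.Lib.helper14.OBN

universe u
variable {F : Type u} [Field F] {n : ℕ}

/-- right multiplication of a `BO`-double coset by the last reflection -/
theorem dbnposneg_dc_mul_right (hn2 : 2 ≤ n) (hn : n % 2 = 0) (x y : GS n F)
    (h : x ∈ doubleCoset y (BO n F : Set (GS n F)) (BO n F)) :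
    x * tL F hn2 ∈ doubleCoset (y * tL F hn2) (BO n F : Set (GS n F)) (BO n F) := by
  obtain ⟨b1, hb1, b2, hb2, rfl⟩ := mem_doubleCoset.1 h
  refine mem_doubleCoset.2 ⟨b1, hb1, tL F hn2 * b2 * tL F hn2, tL_conj_BO hn2 hn b2 hb2, ?_⟩
  have ht : tL F hn2 * tL F hn2 = 1 := tL_mul_self hn2
  calc b1 * y * b2 * tL F hn2 = b1 * y * (1 * (b2 * tL F hn2)) := by group
    _ = b1 * y * (tL F hn2 * tL F hn2 * (b2 * tL F hn2)) := by rw [ht]
    _ = b1 * (y * tL F hn2) * (tL F hn2 * b2 * tL F hn2) := by group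

/-- left multiplication of a `BO`-double coset by the last reflection -/
theorem dbnposneg_dc_mul_left (hn2 : 2 ≤ n) (hn : n % 2 = 0) (x y : GS n F)
    (h : x ∈ doubleCoset y (BO n F : Set (GS n F)) (BO n F)) :
    tL F hn2 * x ∈ doubleCoset (tL F hn2 * y) (BO n F : Set (GS n F)) (BO n F) := by
  obtain ⟨b1, hb1, b2, hb2, rfl⟩ := mem_doubleCoset.1 h
  refine mem_doubleCoset.2 ⟨tL F hn2 * b1 * tL F hn2, tL_conj_BO hn2 hn b1 hb1, b2, hb2, ?_⟩
  have ht : tL F hn2 * tL F hn2 = 1 := tL_mul_self hn2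
  calc tL F hn2 * (b1 * y * b2) = tL F hn2 * b1 * (1 * (y * b2)) := by group
    _ = tL F hn2 * b1 * (tL F hn2 * tL F hn2 * (y * b2)) := by rw [ht]
    _ = tL F hn2 * b1 * tL F hn2 * (tL F hn2 * y) * b2 := by group

theorem PpW_of_pos (hn : n % 2 = 0) (k : Fin (n / 2)) (n₁ : GS n F) {π : Equiv.Perm (Fin n)}
    (hπ : RvC π) (hm : IsMono (mt n₁) π) (hpos : rk (π.symm (pa k)) < rk (π.symm (pc k))) :
    PpW (BO n F) (sRef k) n₁ := by
  intro b hb
  obtain ⟨b1, hb1, b2, hb2, e⟩ := bn_P1 k n₁ hπ hm hpos b hb.1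
  have hn₁ : n₁ ∈ NU n (Sid F) := ⟨π, hπ, hm⟩
  have hsN : sRef (S := Sid F) k ∈ NU n (Sid F) := sRef_mem_NU k
  have hsn : sRef (S := Sid F) k * n₁ ∈ NU n (Sid F) := (NU n (Sid F)).mul_mem hsN hn₁
  have hO : sRef (S := Sid F) k * b * n₁ ∈ OQ n F :=
    (OQ n F).mul_mem ((OQ n F).mul_mem (NU_le_OQ hn hsN) hb.2) (NU_le_OQ hn hn₁)
  exact dc_OQ hn _ hO _ hsn (mem_doubleCoset.2 ⟨b1, hb1, b2, hb2, e⟩)

theorem PpW_sD_iff (hn4 : 4 ≤ n) (hn : n % 2 = 0) (n₁ : GS n F) :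
    PpW (BO n F) (sD F hn4) n₁ ↔
      PpW (BO n F) (sRef (kP hn4)) (tL F (le_trans (by norm_num) hn4) * n₁) := by
  have hn2 : 2 ≤ n := le_trans (by norm_num) hn4
  have ht : tL F hn2 * tL F hn2 = 1 := tL_mul_self hn2
  have hsD : sD F hn4 = tL F hn2 * sRef (S := Sid F) (kP hn4) * tL F hn2 := rfl
  rw [hsD]
  set t : GS n F := tL F hn2 with htdef
  set s : GS n F := sRef (S := Sid F) (kP hn4) with hsdef
  constructor
  · intro h b hb
    have hb' : t * b * t ∈ BO n F := tL_conj_BO hn2 hn b hb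
    have h1 := dbnposneg_dc_mul_left hn2 hn _ _ (h _ hb')
    have e1 : t * (t * s * t * (t * b * t) * n₁) = s * b * (t * n₁) := by
      calc t * (t * s * t * (t * b * t) * n₁)
          = (t * t) * s * (t * t) * b * t * n₁ := by group
        _ = s * b * (t * n₁) := by rw [ht]; group
    have e2 : t * (t * s * t * n₁) = s * (t * n₁) := by
      calc t * (t * s * t * n₁) = (t * t) * s * t * n₁ := by group
        _ = s * (t * n₁) := by rw [ht]; group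
    rw [← htdef] at h1
    rw [e1, e2] at h1
    exact h1
  · intro h b hb
    have hb' : t * b * t ∈ BO n F := tL_conj_BO hn2 hn b hb
    have h1 := dbnposneg_dc_mul_left hn2 hn _ _ (h _ hb')
    have e1 : t * (s * (t * b * t) * (t * n₁)) = t * s * t * b * n₁ := by
      calc t * (s * (t * b * t) * (t * n₁))
          = t * s * t * b * (t * t) * n₁ := by group
        _ = t * s * t * b * n₁ := by rw [ht]; group
    have e2 : t * (s * (t * n₁)) = t * s * t * n₁ := by group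
    rw [← htdef] at h1
    rw [e1, e2] at h1
    exact h1

theorem dbnposneg_dc_ne_of_mem_NE (hn4 : 4 ≤ n) (hn : n % 2 = 0) (k : Fin (n / 2))
    (hk : k.val + 1 < n / 2) (n₁ : GS n F) (hn₁ : n₁ ∈ NE n F) :
    doubleCoset (sRef k * n₁) (BO n F : Set (GS n F)) (BO n F) ≠
      doubleCoset n₁ (BO n F : Set (GS n F)) (BO n F) := by
  intro h
  have hsS : sRef (S := Sid F) k ∈ SD F hn4 := Or.inl ⟨k, hk, rfl⟩
  have hsE : sRef (S := Sid F) k ∈ NE n F := SD_subset_NE hn4 hsS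
  set s' : ↥(BO n F ⊔ NE n F) := ⟨sRef (S := Sid F) k, le_sup_right (a := BO n F) hsE⟩ with hs'
  set n' : ↥(BO n F ⊔ NE n F) := ⟨n₁, le_sup_right (a := BO n F) hn₁⟩ with hn'
  have h1 : s' ∈ (bnD (F := F) hn4 hn).S := hsS
  have h2 : n' ∈ (bnD (F := F) hn4 hn).N := hn₁
  apply dc_s_mul_ne (P := bnD (F := F) hn4 hn) h1 h2
  ext x
  unfold bnD
  rw [mem_dc_bnSub, mem_dc_bnSub]
  show (x : GS n F) ∈ doubleCoset (sRef k * n₁) (BO n F : Set (GS n F)) (BO n F) ↔ _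
  rw [h]

theorem dcO_s_mul_ne (hn4 : 4 ≤ n) (hn : n % 2 = 0) (k : Fin (n / 2)) (hk : k.val + 1 < n / 2)
    (n₁ : GS n F) (hn₁ : n₁ ∈ NU n (Sid F)) :
    doubleCoset (sRef k * n₁) (BO n F : Set (GS n F)) (BO n F) ≠
      doubleCoset n₁ (BO n F : Set (GS n F)) (BO n F) := by
  have hn2 : 2 ≤ n := le_trans (by norm_num) hn4
  rcases NU_cases hn2 n₁ hn₁ with hE | hE
  · exact dbnposneg_dc_ne_of_mem_NE hn4 hn k hk n₁ hE
  · intro h
    apply dbnposneg_dc_ne_of_mem_NE hn4 hn k hk (n₁ * tL F hn2) hE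
    apply doubleCoset_eq_of_mem
    have h1 : sRef (S := Sid F) k * n₁ ∈ doubleCoset n₁ (BO n F : Set (GS n F)) (BO n F) := by
      rw [← h]
      exact mem_doubleCoset_self _ _ _
    have h2 := dbnposneg_dc_mul_right hn2 hn _ _ h1
    rwa [mul_assoc] at h2

theorem not_PpW_of_neg (hn4 : 4 ≤ n) (hn : n % 2 = 0) (k : Fin (n / 2)) (hk : k.val + 1 < n / 2)
    (n₁ : GS n F) {π : Equiv.Perm (Fin n)} (hπ : RvC π) (hm : IsMono (mt n₁) π)
    (hneg : rk (π.symm (pc k)) < rk (π.symm (pa k))) : ¬ PpW (BO n F) (sRef k) n₁ := by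
  intro hP
  obtain ⟨u, huO, hu1, hu2, _⟩ := nodeHypO (F := F) hn k hk
  have huB : u ∈ BU n (Sid F) := up_of_isUk k u hu1
  have h1 := hP u ⟨huB, huO⟩
  obtain ⟨b1, hb1, b2, hb2, e⟩ := bn_caseB k n₁ hπ hm hneg u huB hu2
  have hn₁ : n₁ ∈ NU n (Sid F) := ⟨π, hπ, hm⟩
  have hsN : sRef (S := Sid F) k ∈ NU n (Sid F) := sRef_mem_NU k
  have hO : sRef (S := Sid F) k * u * n₁ ∈ OQ n F :=
    (OQ n F).mul_mem ((OQ n F).mul_mem (NU_le_OQ hn hsN) huO) (NU_le_OQ hn hn₁)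
  have h2 : sRef (S := Sid F) k * u * n₁ ∈ doubleCoset n₁ (BO n F : Set (GS n F)) (BO n F) :=
    dc_OQ hn _ hO _ hn₁ (mem_doubleCoset.2 ⟨b1, hb1, b2, hb2, e⟩)
  exact dcO_s_mul_ne hn4 hn k hk n₁ hn₁
    ((doubleCoset_eq_of_mem h1).symm.trans (doubleCoset_eq_of_mem h2))

/-- index facts around the last two nodes -/
theorem dbnposneg_pc_kP (hn4 : 4 ≤ n) :
    pc (kP hn4) = pa (kL (le_trans (by norm_num) hn4)) := by
  apply rk_injective
  rw [pc_of_lt (kP hn4) (by rw [kP_val]; omega), rk_pa, kP_val, kL_val]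
  omega

theorem dbnposneg_tau_pa_kP (hn4 : 4 ≤ n) (hn : n % 2 = 0) :
    tauS (kL (le_trans (by norm_num) hn4)) (pa (kP hn4)) = pa (kP hn4) := by
  have hn2 : 2 ≤ n := le_trans (by norm_num) hn4
  have hpc : pc (kL hn2) = rv (pa (kL hn2)) := pc_of_not_lt _ (by rw [kL_val]; omega)
  rw [tauS_apply]
  have hrk : ∀ x y : Fin n, rk x ≠ rk y → x ≠ y := fun x y h e => h (by rw [e])
  have h1 := rk_add_rv (pa (kL hn2))
  have h1' := rk_add_rv (pc (kL hn2))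
  apply tauF_of_ne
  · apply hrk
    rw [rk_pa, rk_pa, kP_val, kL_val]
    omega
  · apply hrk
    rw [hpc, rk_pa, kP_val]
    rw [rk_pa, kL_val] at h1
    omega
  · apply hrk
    rw [rk_pa, kP_val]
    rw [rk_pa, kL_val] at h1
    omega
  · rw [hpc, rv_rv]
    apply hrk
    rw [rk_pa, rk_pa, kP_val, kL_val]
    omega

theorem dbnposneg_tau_pc_kP (hn4 : 4 ≤ n) :
    tauS (kL (le_trans (by norm_num) hn4)) (pc (kP hn4)) = rv (pc (kP hn4)) := by
  have hn2 : 2 ≤ n := le_trans (by norm_num) hn4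
  have hpc : pc (kL hn2) = rv (pa (kL hn2)) := pc_of_not_lt _ (by rw [kL_val]; omega)
  rw [dbnposneg_pc_kP hn4, tauS_pa, hpc]

/-- the `D` node: positive case -/
theorem PpW_sD_of_pos (hn4 : 4 ≤ n) (hn : n % 2 = 0) (n₁ : GS n F) {π : Equiv.Perm (Fin n)}
    (hπ : RvC π) (hm : IsMono (mt n₁) π)
    (hpos : rk (π.symm (pa (kP hn4))) < rk (π.symm (rv (pc (kP hn4))))) :
    PpW (BO n F) (sD F hn4) n₁ := by
  have hn2 : 2 ≤ n := le_trans (by norm_num) hn4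
  rw [PpW_sD_iff hn4 hn]
  have hm' : IsMono (mt (tL F hn2 * n₁)) (tauS (kL hn2) * π) := by
    rw [mt_mul]
    exact isMono_mul (isMono_sRef (kL hn2)) hm
  apply PpW_of_pos hn (kP hn4) _ (RvC_mul (RvC_tauS (kL hn2)) hπ) hm'
  show rk (π.symm ((tauS (kL hn2)).symm (pa (kP hn4)))) <
    rk (π.symm ((tauS (kL hn2)).symm (pc (kP hn4))))
  rw [tauS_symm, dbnposneg_tau_pa_kP hn4 hn, dbnposneg_tau_pc_kP hn4]
  exact hpos

/-- the `D` node: negative case -/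
theorem not_PpW_sD_of_neg (hn4 : 4 ≤ n) (hn : n % 2 = 0) (n₁ : GS n F)
    {π : Equiv.Perm (Fin n)} (hπ : RvC π) (hm : IsMono (mt n₁) π)
    (hneg : rk (π.symm (rv (pc (kP hn4)))) < rk (π.symm (pa (kP hn4)))) :
    ¬ PpW (BO n F) (sD F hn4) n₁ := by
  have hn2 : 2 ≤ n := le_trans (by norm_num) hn4
  rw [PpW_sD_iff hn4 hn]
  have hm' : IsMono (mt (tL F hn2 * n₁)) (tauS (kL hn2) * π) := by
    rw [mt_mul]
    exact isMono_mul (isMono_sRef (kL hn2)) hm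
  apply not_PpW_of_neg hn4 hn (kP hn4) (by rw [kP_val]; omega) _
    (RvC_mul (RvC_tauS (kL hn2)) hπ) hm'
  show rk (π.symm ((tauS (kL hn2)).symm (pc (kP hn4)))) <
    rk (π.symm ((tauS (kL hn2)).symm (pa (kP hn4))))
  rw [tauS_symm, dbnposneg_tau_pa_kP hn4 hn, dbnposneg_tau_pc_kP hn4]
  exact hneg

end Cfsg.Agent.Lib.helper14.DBN
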