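import Mathlib
import Cfsg.Agent.Lib.helper23.DBNCOMB
import Cfsg.Agent.Lib.helper14.DBNPOSNEG

/-!
Project DBN (S2548), row LONG: the longest element of type `D`.
-/

set_option autoImplicit false

namespace Cfsg.Agent.Lib.helper14.DBN

open Matrix DoubleCoset
open Cfsg.Agent.Lib.helper3 Cfsg.Agent.Lib.helper14
open Cfsg.Agent.Lib.helper14.UBN Cfsg.Agent.Lib.helper14.OBN

universe u
variable {F : Type u} [Field F] {n : ℕ}

theorem isMono_n0D (hn4 : 4 ≤ n) : IsMono (mt (n0D F hn4)) (w0D hn4) := by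
  unfold n0D w0D
  by_cases h : Equiv.Perm.sign (rvPerm n) = 1
  · rw [if_pos h, if_pos h]
    exact isMono_nLong
  · rw [if_neg h, if_neg h, mt_mul]
    exact isMono_mul isMono_nLong (isMono_sRef _)

theorem n0D_mem_NE (hn4 : 4 ≤ n) (hn : n % 2 = 0) : n0D F hn4 ∈ NE n F :=
  ⟨w0D hn4, RvC_w0D hn4, isMono_n0D hn4, sign_w0D hn4 hn⟩

theorem dbnlong_w0D_inv (hn4 : 4 ≤ n) : (w0D hn4 : Equiv.Perm (Fin n))⁻¹ = w0D hn4 :=
  inv_eq_of_mul_eq_one_right (w0D_mul_self hn4)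

theorem dbnlong_w0D_symm (hn4 : 4 ≤ n) : (w0D hn4 : Equiv.Perm (Fin n)).symm = w0D hn4 :=
  dbnlong_w0D_inv hn4

theorem n0D_h1' (hn4 : 4 ≤ n) (hn : n % 2 = 0) :
    ∀ s ∈ SD F hn4, ¬ PpW (BO n F) s (n0D F hn4) := by
  intro s hs
  obtain ⟨hneg, hnegD⟩ := w0D_neg hn4 hn
  rcases hs with ⟨k, hk, rfl⟩ | hs
  · apply not_PpW_of_neg hn4 hn k hk _ (RvC_w0D hn4) (isMono_n0D hn4)
    rw [dbnlong_w0D_symm]
    exact hneg k hk
  · rw [Set.mem_singleton_iff] at hs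
    subst hs
    apply not_PpW_sD_of_neg hn4 hn _ (RvC_w0D hn4) (isMono_n0D hn4)
    rw [dbnlong_w0D_symm]
    exact hnegD

theorem n0D_h1 (hn4 : 4 ≤ n) (hn : n % 2 = 0) :
    ∀ s ∈ SD F hn4, ¬ PpW (BO n F) s (n0D F hn4)⁻¹ := by
  intro s hs
  obtain ⟨hneg, hnegD⟩ := w0D_neg hn4 hn
  have hm : IsMono (mt (n0D F hn4)⁻¹) (w0D hn4) := by
    have := isMono_inv (n0D F hn4) (RvC_w0D hn4) (isMono_n0D hn4)
    rwa [dbnlong_w0D_inv] at this
  rcases hs with ⟨k, hk, rfl⟩ | hs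
  · apply not_PpW_of_neg hn4 hn k hk _ (RvC_w0D hn4) hm
    rw [dbnlong_w0D_symm]
    exact hneg k hk
  · rw [Set.mem_singleton_iff] at hs
    subst hs
    apply not_PpW_sD_of_neg hn4 hn _ (RvC_w0D hn4) hm
    rw [dbnlong_w0D_symm]
    exact hnegD

theorem dbnlong_pa_ne (hn4 : 4 ≤ n) (hn : n % 2 = 0) : pa (kP hn4) ≠ rv (pc (kP hn4)) := by
  intro e
  have h1 := rk_add_rv (pc (kP hn4))
  have h2 : rk (pc (kP hn4)) = (kP hn4).val + 1 := pc_of_lt _ (by rw [kP_val]; omega)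
  rw [← e, rk_pa, h2, kP_val] at h1
  omega

theorem n0D_h2 (hn4 : 4 ≤ n) (hn : n % 2 = 0) : ∀ m ∈ NE n F,
    (∀ s ∈ SD F hn4, ¬ PpW (BO n F) s m) → ∀ s ∈ SD F hn4, PpW (BO n F) s (m * n0D F hn4) := by
  rintro m ⟨π, hπ, hmm, hsg⟩ hnot
  have hall : ∀ k : Fin (n / 2), k.val + 1 < n / 2 →
      rk (π.symm (pc k)) < rk (π.symm (pa k)) := by
    intro k hk
    rcases rk_neg_or_pos k π with hpos | hneg
    · exact absurd (PpW_of_pos hn k m hπ hmm hpos) (hnot _ (Or.inl ⟨k, hk, rfl⟩))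
    · exact hneg
  have hD : rk (π.symm (rv (pc (kP hn4)))) < rk (π.symm (pa (kP hn4))) := by
    rcases lt_trichotomy (rk (π.symm (rv (pc (kP hn4))))) (rk (π.symm (pa (kP hn4)))) with
      h | h | h
    · exact h
    · exact absurd (π.symm.injective (rk_injective h)).symm (dbnlong_pa_ne hn4 hn)
    · exact absurd (PpW_sD_of_pos hn4 hn m hπ hmm h) (hnot _ (Or.inr rfl))
  have hsg' : Equiv.Perm.sign π.symm = 1 := by rw [Equiv.Perm.sign_symm]; exact hsg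
  have h1 : π.symm = w0D hn4 :=
    perm_eq_w0_of_simpleD hn4 hn π.symm (RvC_inv hπ) hsg' hall hD
  have h2 : π = w0D hn4 := by
    have := congrArg Equiv.symm h1
    rw [Equiv.symm_symm, dbnlong_w0D_symm] at this
    exact this
  have hmono : IsMono (mt (m * n0D F hn4)) 1 := by
    have := isMono_mul hmm (isMono_n0D (F := F) hn4)
    rw [h2, w0D_mul_self] at this
    rw [mt_mul]
    exact this
  intro s hs
  rcases hs with ⟨k, hk, rfl⟩ | hs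
  · apply PpW_of_pos hn k (m * n0D F hn4) RvC_one hmono
    show rk (pa k) < rk (pc k)
    exact rk_pa_lt_pc k
  · rw [Set.mem_singleton_iff] at hs
    subst hs
    apply PpW_sD_of_pos hn4 hn (m * n0D F hn4) RvC_one hmono
    show rk (pa (kP hn4)) < rk (rv (pc (kP hn4)))
    have h1 := rk_add_rv (pc (kP hn4))
    have h2 : rk (pc (kP hn4)) = (kP hn4).val + 1 := pc_of_lt _ (by rw [kP_val]; omega)
    rw [rk_pa]
    rw [h2, kP_val] at h1
    rw [kP_val]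
    omega

theorem dbnlong_n0D_mem_NU (hn4 : 4 ≤ n) : n0D F hn4 ∈ NU n (Sid F) :=
  ⟨w0D hn4, RvC_w0D hn4, isMono_n0D hn4⟩

theorem n0D_c1 (hn4 : 4 ≤ n) (hn : n % 2 = 0) :
    ∀ h ∈ TO n F, (n0D F hn4)⁻¹ * h * n0D F hn4 ∈ BO n F := by
  intro h hh
  have hN : (n0D F hn4)⁻¹ ∈ NU n (Sid F) := (NU n (Sid F)).inv_mem (dbnlong_n0D_mem_NU hn4)
  refine ⟨?_, ?_⟩
  · have := conj_torus_mem (n0D F hn4)⁻¹ h hN hh
    rwa [inv_inv] at this
  · have h1 : (n0D F hn4)⁻¹ ∈ OQ n F := NU_le_OQ hn hN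
    have h2 : h ∈ OQ n F := (TO_le_BO hn hh).2
    have h3 : n0D F hn4 ∈ OQ n F := NU_le_OQ hn (dbnlong_n0D_mem_NU hn4)
    exact (OQ n F).mul_mem ((OQ n F).mul_mem h1 h2) h3

theorem n0D_c2 (hn4 : 4 ≤ n) (hn : n % 2 = 0) :
    ∀ β ∈ BO n F, (n0D F hn4)⁻¹ * β * n0D F hn4 ∈ BO n F → β ∈ TO n F := by
  intro β hβ hc
  have hn2 : 2 ≤ n := le_trans (by norm_num) hn4
  unfold n0D at hc
  by_cases h : Equiv.Perm.sign (rvPerm n) = 1
  · rw [if_pos h] at hc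
    exact mem_torus_of_nLong_conj β hβ.1 hc.1
  · rw [if_neg h] at hc
    have h1 := tL_conj_BO hn2 hn _ hc
    have ht : tL F hn2 * tL F hn2 = 1 := tL_mul_self hn2
    have hti : (tL F hn2)⁻¹ = tL F hn2 := tL_inv hn2
    have e : tL F hn2 * ((nLong n (Sid F) * tL F hn2)⁻¹ * β * (nLong n (Sid F) * tL F hn2)) *
        tL F hn2 = (nLong n (Sid F))⁻¹ * β * nLong n (Sid F) := by
      rw [_root_.mul_inv_rev, hti]
      calc tL F hn2 * (tL F hn2 * (nLong n (Sid F))⁻¹ * β * (nLong n (Sid F) * tL F hn2)) *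
            tL F hn2
          = (tL F hn2 * tL F hn2) * (nLong n (Sid F))⁻¹ * β * nLong n (Sid F) *
              (tL F hn2 * tL F hn2) := by group
        _ = (nLong n (Sid F))⁻¹ * β * nLong n (Sid F) := by rw [ht]; group
    rw [e] at h1
    exact mem_torus_of_nLong_conj β hβ.1 h1.1

end Cfsg.Agent.Lib.helper14.DBN
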