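import Mathlib
import Cfsg.Agent.Lib.helper14.OBNd
import Cfsg.Agent.Lib.helper14.DBN.Defs
import Cfsg.Agent.Lib.helper14.DBNLONG
import Cfsg.Agent.Lib.helper6.DBNUNIP
import Cfsg.Agent.Lib.helper17.DBNSTABS
import Cfsg.Agent.Lib.Helper29.DBNISO
import Cfsg.Agent.Lib.Helper13.DBNSMALL1
import Cfsg.Agent.Lib.Helper13.DBNSMALL22
import Cfsg.Agent.Lib.Helper13.DBNFIXcore
import Cfsg.Agent.Lib.Helper28.DBNIDXAcore
import Cfsg.Agent.Lib.Helper28.DBNIDXCcore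
import Cfsg.Agent.Lib.helper3.DBNIDXB
import Cfsg.Statements.S2548

/-!
Project DBN (S2548): the assembly.  The Steinberg character of `BO ⊔ NE` (abstract `(B,N)`-pair
machinery, row STABS) descends to `PΩ⁺_{2m}(F)`.
-/

set_option autoImplicit false

namespace Cfsg.Agent.Lib.helper14.DBN

open Matrix DoubleCoset
open Cfsg.Agent.Lib.helper3 Cfsg.Agent.Lib.helper14
open Cfsg.Agent.Lib.helper14.UBN Cfsg.Agent.Lib.helper14.OBN

universe u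
variable {F : Type u} [Field F] {n : ℕ}

/-! ## wrappers of the cores of the rows FIX, IDXA, IDXC (helper13, helper28) -/

theorem dbnmain_mem_BO_of_fixed (hn4 : 4 ≤ n) (hn : n % 2 = 0) (g : GS n F)
    (hg : g ∈ BO n F ⊔ NE n F) (h : ∀ u ∈ UO n F, g⁻¹ * u * g ∈ BO n F) : g ∈ BO n F :=
  dbnfix_core hn4 hn (weakBN_D hn4 hn) g hg h

theorem dbnmain_OQ_cases (hn4 : 4 ≤ n) (hn : n % 2 = 0) (g : GS n F) (hg : g ∈ OQ n F) :
    g ∈ BO n F ⊔ NE n F ∨ g * tL F (le_trans (by norm_num) hn4) ∈ BO n F ⊔ NE n F :=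
  dbnidxa_cases_core (le_trans (by norm_num) hn4) (fun g hg => OQ_bruhat hn g hg)
    (fun g hg => NU_cases _ g hg) (fun b hb => tL_conj_BO _ hn b hb) g hg

theorem dbnmain_BO_sup_NE_le (hn : n % 2 = 0) : BO n F ⊔ NE n F ≤ OQ n F :=
  dbnidxa_le_core (NU_le_OQ hn)

theorem dbnmain_tL_not_mem (hn4 : 4 ≤ n) (hn : n % 2 = 0) :
    tL F (le_trans (by norm_num) hn4) ∉ BO n F ⊔ NE n F := by
  have hn2 : 2 ≤ n := le_trans (by norm_num) hn4
  exact dbnidxa_not_mem_core hn2 (weakBN_D hn4 hn) (fun b hb => tL_conj_BO _ hn b hb)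
    (sign_tauS_last (kL hn2) (by rw [kL_val]; omega)) (fun g _ _ h1 h2 => isMono_unique g h1 h2)

theorem dbnmain_OmG_le (hn4 : 4 ≤ n) (hn : n % 2 = 0) : OmG n F ≤ BO n F ⊔ NE n F := by
  have hn2 : 2 ≤ n := le_trans (by norm_num) hn4
  exact dbnidxa_OmG_core hn2 (dbnmain_OQ_cases hn4 hn) (dbnmain_BO_sup_NE_le hn)
    (dbnmain_tL_not_mem hn4 hn) (NU_le_OQ hn (tL_mem_NU hn2))

theorem dbnmain_OmG_relIndex [Fintype F] (p : ℕ) [Fact p.Prime] [CharP F p] (hn4 : 4 ≤ n)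
    (hn : n % 2 = 0) (hex : ¬ (Fintype.card F = 2 ∧ n = 4)) :
    ¬ p ∣ (OmG n F).relIndex (BO n F ⊔ NE n F) := by
  have hn2 : 2 ≤ n := le_trans (by norm_num) hn4
  exact dbnidxc_core p (dbnmain_BO_sup_NE_le hn) (dbnmain_OmG_le hn4 hn)
    ⟨tL F hn2, NU_le_OQ hn (tL_mem_NU hn2), dbnmain_tL_not_mem hn4 hn⟩
    (fun h2 => OQ_ab_odd hn4 hn h2) (fun h2 => OQ_ab_even hn4 hn h2 hex)

/-! ## MAIN (helper14) -/

theorem pelem_mem_of_index {G : Type*} [Group G] [Finite G] (N : Subgroup G) [N.Normal] (p : ℕ)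
    [Fact p.Prime] (hN : ¬ p ∣ N.index) (u : G) (k : ℕ) (hu : u ^ (p ^ k) = 1) : u ∈ N := by
  have hp : p.Prime := Fact.out
  rw [← QuotientGroup.eq_one_iff]
  have h1 : ((u : G ⧸ N)) ^ (p ^ k) = 1 := by
    rw [← QuotientGroup.mk_pow, hu, QuotientGroup.mk_one]
  have h2 : ((u : G ⧸ N)) ^ N.index = 1 := by
    rw [Subgroup.index_eq_card]
    exact pow_card_eq_one'
  have hcop : Nat.Coprime (p ^ k) N.index :=
    Nat.Coprime.pow_left _ ((Nat.Prime.coprime_iff_not_dvd hp).mpr hN)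
  exact (pow_eq_one_iff_of_coprime hcop).1 ⟨h1, h2⟩

/-- the Steinberg character of `BO ⊔ NE` -/
theorem dbn_steinberg [Fintype F] (p : ℕ) [Fact p.Prime] [CharP F p] (hn4 : 4 ≤ n)
    (hn : n % 2 = 0) :
    ∃ (θ : ↥(BO n F ⊔ NE n F) → ℂ) (a r : ℕ), Cfsg.IsIrrCharacter ↥(BO n F ⊔ NE n F) θ ∧
      θ 1 = ((p ^ a : ℕ) : ℂ) ∧ Nat.card ↥(BO n F ⊔ NE n F) = p ^ a * r ∧ ¬ p ∣ r ∧
      ∀ z : ↥(BO n F ⊔ NE n F), (∀ g : ↥(BO n F ⊔ NE n F), ((g⁻¹ * z * g : ↥(BO n F ⊔ NE n F)) :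
        GS n F) ∈ BO n F) → θ z = θ 1 := by
  classical
  haveI : Fintype ↥(BO n F ⊔ NE n F) := Fintype.ofFinite _
  have hNEK : NE n F ≤ BO n F ⊔ NE n F := le_sup_right
  have hBK : BO n F ≤ BO n F ⊔ NE n F := le_sup_left
  have hSK : ∀ s ∈ SD F hn4, s ∈ BO n F ⊔ NE n F := fun s hs => hNEK (SD_subset_NE hn4 hs)
  set P : Cfsg.BNPair ↥(BO n F ⊔ NE n F) := bnD hn4 hn with hP
  have hPB : ∀ x : ↥(BO n F ⊔ NE n F), x ∈ P.B ↔ (x : GS n F) ∈ BO n F := fun x => Iff.rfl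
  have hPN : ∀ x : ↥(BO n F ⊔ NE n F), x ∈ P.N ↔ (x : GS n F) ∈ NE n F := fun x => Iff.rfl
  have hPS : ∀ x : ↥(BO n F ⊔ NE n F), x ∈ P.S ↔ (x : GS n F) ∈ SD F hn4 := fun x => Iff.rfl
  have hPp : ∀ s m : ↥(BO n F ⊔ NE n F), Pp P s m ↔ PpW (BO n F) (s : GS n F) (m : GS n F) :=
    fun s m => Pp_bnSub (weakBN_D hn4 hn) (conj_ne_SD hn4 hn) s m
  obtain ⟨θ, a, r, h1, h2, h3, h4, h5⟩ := st_abstract p P
    ((UO n F).subgroupOf (BO n F ⊔ NE n F)) ((TO n F).subgroupOf (BO n F ⊔ NE n F))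
    (fun x hx => (hPB x).2 (UO_le_BO (Subgroup.mem_subgroupOf.1 hx)))
    (fun x hx => (hPB x).2 (TO_le_BO hn (Subgroup.mem_subgroupOf.1 hx)))
    (fun x hx hx' => Subtype.ext (UO_inf_TO _ (Subgroup.mem_subgroupOf.1 hx)
      (Subgroup.mem_subgroupOf.1 hx')))
    (by
      intro b hb
      obtain ⟨u, hu, h, hh, e⟩ := BO_eq_UO_mul_TO hn (b : GS n F) ((hPB b).1 hb)
      exact ⟨⟨u, hBK (UO_le_BO hu)⟩, Subgroup.mem_subgroupOf.2 hu,
        ⟨h, hBK (TO_le_BO hn hh)⟩, Subgroup.mem_subgroupOf.2 hh, Subtype.ext e⟩)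
    (by
      intro u hu
      obtain ⟨k, hk⟩ := UO_pow p (u : GS n F) (Subgroup.mem_subgroupOf.1 hu)
      exact ⟨k, Subtype.ext hk⟩)
    (by
      rw [Nat.card_congr (Subgroup.subgroupOfEquivOfLe ((TO_le_BO hn).trans hBK)).toEquiv]
      exact TO_card_not_dvd p)
    (fun i => ⟨sigD F hn4 i, hSK _ (sigD_mem hn4 i)⟩) (n / 2)
    (fun i _ => (hPS _).2 (sigD_mem hn4 i))
    (by
      intro s hs
      obtain ⟨i, hi, e⟩ := sigD_surj hn4 (s : GS n F) ((hPS s).1 hs)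
      exact ⟨i, hi, Subtype.ext e⟩)
    (n₀ := ⟨n0D F hn4, hNEK (n0D_mem_NE hn4 hn)⟩)
    ((hPN _).2 (n0D_mem_NE hn4 hn))
    (by
      intro s hs
      rw [hPp]
      exact n0D_h1 hn4 hn (s : GS n F) ((hPS s).1 hs))
    (by
      intro s hs
      rw [hPp]
      exact n0D_h1' hn4 hn (s : GS n F) ((hPS s).1 hs))
    (by
      intro m hm hall s hs
      rw [hPp]
      apply n0D_h2 hn4 hn (m : GS n F) ((hPN m).1 hm) _ (s : GS n F) ((hPS s).1 hs)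
      intro s' hs'
      have := hall ⟨s', hSK s' hs'⟩ ((hPS _).2 hs')
      rwa [hPp] at this)
    (by
      intro h hh
      exact (hPB _).2 (n0D_c1 hn4 hn (h : GS n F) (Subgroup.mem_subgroupOf.1 hh)))
    (by
      intro β hβ hc
      exact Subgroup.mem_subgroupOf.2 (n0D_c2 hn4 hn (β : GS n F) ((hPB β).1 hβ) ((hPB _).1 hc)))
    (by
      intro g hg
      apply (hPB g).2
      apply dbnmain_mem_BO_of_fixed hn4 hn (g : GS n F) g.2
      intro u hu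
      exact (hPB _).1 (hg ⟨u, hBK (UO_le_BO hu)⟩ (Subgroup.mem_subgroupOf.2 hu)))
  exact ⟨θ, a, r, h1, h2, h3, h4, fun z hz => h5 z (fun g => (hPB _).2 (hz g))⟩


theorem OmG_normal_in_OQ (g : GS n F) (hg : g ∈ OQ n F) (x : GS n F) (hx : x ∈ OmG n F) :
    g * x * g⁻¹ ∈ OmG n F := by
  obtain ⟨y, hy, rfl⟩ := hx
  have hnorm : (commutator ↥(OQ n F)).Normal := by rw [commutator_def]; infer_instance
  exact ⟨(⟨g, hg⟩ : ↥(OQ n F)) * y * (⟨g, hg⟩ : ↥(OQ n F))⁻¹, hnorm.conj_mem y hy _, rfl⟩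

theorem dbn_main [Fintype F] (p : ℕ) [Fact p.Prime] [CharP F p] (m : ℕ) (hm : 2 ≤ m)
    (hex : ¬ (Fintype.card F = 2 ∧ m = 2)) :
    ∃ χ : Cfsg.POmega F (Cfsg.quadFormPlus m F) → ℂ,
      Cfsg.IsIrrCharacter (Cfsg.POmega F (Cfsg.quadFormPlus m F)) χ ∧
      ∀ P : Sylow p (Cfsg.POmega F (Cfsg.quadFormPlus m F)), χ 1 = Nat.card P ∧
        ∀ x : Cfsg.POmega F (Cfsg.quadFormPlus m F), x ∈ P → x ≠ 1 → χ x = 0 := by
  classical
  have hn4 : 4 ≤ 2 * m := by omega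
  have hn : 2 * m % 2 = 0 := by omega
  have hex' : ¬ (Fintype.card F = 2 ∧ 2 * m = 4) := fun h => hex ⟨h.1, by omega⟩
  obtain ⟨f⟩ := exists_fIsoP (F := F) m
  obtain ⟨θ, a, r, hθ, hθ1, hG, hr, hθc⟩ := dbn_steinberg (F := F) p hn4 hn
  haveI : Fintype ↥(BO (2 * m) F ⊔ NE (2 * m) F) := Fintype.ofFinite _
  have hKO : BO (2 * m) F ⊔ NE (2 * m) F ≤ OQ (2 * m) F := dbnmain_BO_sup_NE_le hn
  have hOK : OmG (2 * m) F ≤ BO (2 * m) F ⊔ NE (2 * m) F := dbnmain_OmG_le hn4 hn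
  set NJ : Subgroup ↥(BO (2 * m) F ⊔ NE (2 * m) F) :=
    (OmG (2 * m) F).subgroupOf (BO (2 * m) F ⊔ NE (2 * m) F) with hNJ
  haveI hNn : NJ.Normal := by
    constructor
    intro x hx g
    rw [hNJ, Subgroup.mem_subgroupOf] at hx ⊢
    exact OmG_normal_in_OQ (g : GS (2 * m) F) (hKO g.2) _ hx
  have hidx : ¬ p ∣ NJ.index := dbnmain_OmG_relIndex p hn4 hn hex'
  -- the map from `Ω`
  have hmapf : (commutator ↥(Cfsg.isometryGroup F (Cfsg.quadFormPlus m F))).map f.toMonoidHom =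
      commutator ↥(OQ (2 * m) F) := by
    rw [commutator_def, commutator_def, Subgroup.map_commutator,
      Subgroup.map_top_of_surjective _ f.surjective]
  have hφmem : ∀ s : ↥(commutator ↥(Cfsg.isometryGroup F (Cfsg.quadFormPlus m F))),
      ((f s.1 : ↥(OQ (2 * m) F)) : GS (2 * m) F) ∈ OmG (2 * m) F := by
    intro s
    refine ⟨f s.1, ?_, rfl⟩
    rw [← hmapf]
    exact ⟨s.1, s.2, rfl⟩
  obtain ⟨ψ, hψval⟩ : ∃ ψ : ↥(commutator ↥(Cfsg.isometryGroup F (Cfsg.quadFormPlus m F))) →* ↥NJ,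
      ∀ s, (((ψ s : ↥NJ) : ↥(BO (2 * m) F ⊔ NE (2 * m) F)) : GS (2 * m) F) =
        ((f s.1 : ↥(OQ (2 * m) F)) : GS (2 * m) F) := by
    let φ₀ : ↥(commutator ↥(Cfsg.isometryGroup F (Cfsg.quadFormPlus m F))) →* GS (2 * m) F :=
      (OQ (2 * m) F).subtype.comp (f.toMonoidHom.comp
        (commutator ↥(Cfsg.isometryGroup F (Cfsg.quadFormPlus m F))).subtype)
    let φ₁ : ↥(commutator ↥(Cfsg.isometryGroup F (Cfsg.quadFormPlus m F))) →*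
        ↥(BO (2 * m) F ⊔ NE (2 * m) F) :=
      φ₀.codRestrict (BO (2 * m) F ⊔ NE (2 * m) F) (fun s => hOK (hφmem s))
    exact ⟨φ₁.codRestrict NJ (fun s => Subgroup.mem_subgroupOf.2 (hφmem s)), fun s => rfl⟩
  have hψsurj : Function.Surjective ψ := by
    rintro ⟨⟨x, hxK⟩, hx⟩
    have hx' : x ∈ OmG (2 * m) F := Subgroup.mem_subgroupOf.1 hx
    obtain ⟨y, hy, rfl⟩ := hx'
    rw [← hmapf] at hy
    obtain ⟨s, hs, rfl⟩ := hy
    refine ⟨⟨s, hs⟩, ?_⟩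
    apply Subtype.ext
    apply Subtype.ext
    rw [hψval]
    rfl
  haveI : Finite ↥(Cfsg.isometryGroup F (Cfsg.quadFormPlus m F)) :=
    Finite.of_equiv _ f.symm.toEquiv
  have hψinj : Function.Injective ψ := by
    intro s t hst
    have h1 := congrArg (fun z : ↥NJ => ((z : ↥(BO (2 * m) F ⊔ NE (2 * m) F)) : GS (2 * m) F)) hst
    simp only [hψval] at h1
    exact Subtype.ext (f.injective (Subtype.ext h1))
  have hHG : Nat.card ↥(commutator ↥(Cfsg.isometryGroup F (Cfsg.quadFormPlus m F))) ∣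
      Nat.card ↥(BO (2 * m) F ⊔ NE (2 * m) F) := by
    rw [Nat.card_congr (Equiv.ofBijective ψ ⟨hψinj, hψsurj⟩)]
    exact Subgroup.card_subgroup_dvd_card _
  have hcent : ∀ z ∈ Subgroup.center
      ↥(commutator ↥(Cfsg.isometryGroup F (Cfsg.quadFormPlus m F))),
      θ ((ψ z : ↥NJ) : ↥(BO (2 * m) F ⊔ NE (2 * m) F)) = θ 1 := by
    intro z hz
    apply hθc
    intro g
    -- notation
    obtain ⟨z', hz'⟩ : ∃ z' : ↥(BO (2 * m) F ⊔ NE (2 * m) F),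
        z' = ((ψ z : ↥NJ) : ↥(BO (2 * m) F ⊔ NE (2 * m) F)) := ⟨_, rfl⟩
    rw [← hz']
    have hcomm : ∀ y : ↥(BO (2 * m) F ⊔ NE (2 * m) F), y ∈ NJ → z' * y = y * z' := by
      intro y hy
      obtain ⟨s, hs⟩ := hψsurj ⟨y, hy⟩
      have h0 : s * z = z * s := Subgroup.mem_center_iff.mp hz s
      have h1 : ψ z * ψ s = ψ s * ψ z :=
        ((map_mul ψ z s).symm.trans (congrArg ψ h0.symm)).trans (map_mul ψ s z)
      rw [hs] at h1
      rw [hz']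
      exact congrArg (fun t : ↥NJ => (t : ↥(BO (2 * m) F ⊔ NE (2 * m) F))) h1
    apply dbnmain_mem_BO_of_fixed hn4 hn _ (g⁻¹ * z' * g).2
    intro u hu
    obtain ⟨u', hu'⟩ : ∃ u' : ↥(BO (2 * m) F ⊔ NE (2 * m) F), (u' : GS (2 * m) F) = u :=
      ⟨⟨u, (le_sup_left : BO (2 * m) F ≤ _) (UO_le_BO hu)⟩, rfl⟩
    obtain ⟨k, hk⟩ := UO_pow p u hu
    have hk' : (g * u' * g⁻¹) ^ (p ^ k) = 1 := by
      rw [conj_pow]
      have : u' ^ (p ^ k) = 1 := by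
        apply Subtype.ext
        rw [Subgroup.coe_pow, hu']
        exact hk
      rw [this, mul_one, mul_inv_cancel]
    have hy : g * u' * g⁻¹ ∈ NJ := pelem_mem_of_index NJ p hidx _ k hk'
    have h3 := hcomm _ hy
    have e : (g⁻¹ * z' * g)⁻¹ * u' * (g⁻¹ * z' * g) = u' := by
      calc (g⁻¹ * z' * g)⁻¹ * u' * (g⁻¹ * z' * g)
          = g⁻¹ * z'⁻¹ * ((g * u' * g⁻¹) * z') * g := by group
        _ = g⁻¹ * z'⁻¹ * (z' * (g * u' * g⁻¹)) * g := by rw [h3]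
        _ = u' := by group
    have e' := congrArg (fun t : ↥(BO (2 * m) F ⊔ NE (2 * m) F) => (t : GS (2 * m) F)) e
    simp only [Subgroup.coe_mul, Subgroup.coe_inv, hu'] at e'
    simp only [Subgroup.coe_mul, Subgroup.coe_inv]
    rw [e']
    exact UO_le_BO hu
  exact Cfsg.Agent.Lib.helper14.steinberg_descend p θ a r hθ hθ1 hG hr NJ hidx ψ hψsurj hHG hcent

/-- S2548 -/
theorem dbn_result {F : Type u} [Field F] [Fintype F] (p : ℕ) [Fact p.Prime] [CharP F p] (m : ℕ)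
    (hm : 1 ≤ m) :
    ∃ χ : Cfsg.POmega F (Cfsg.quadFormPlus m F) → ℂ,
      Cfsg.IsIrrCharacter (Cfsg.POmega F (Cfsg.quadFormPlus m F)) χ ∧
      ∀ P : Sylow p (Cfsg.POmega F (Cfsg.quadFormPlus m F)), χ 1 = Nat.card P ∧
        ∀ x : Cfsg.POmega F (Cfsg.quadFormPlus m F), x ∈ P → x ≠ 1 → χ x = 0 := by
  by_cases h1 : m = 1
  · subst h1
    exact small1 p
  by_cases h2 : Fintype.card F = 2 ∧ m = 2
  · obtain ⟨hF, rfl⟩ := h2
    exact small22 p hF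
  · exact dbn_main p m (by omega) h2

end Cfsg.Agent.Lib.helper14.DBN
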