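import Mathlib

/-!
# The generalized dihedral group of `(ZMod p)^3`, and reindexing of `SL`, `PSL`
-/

set_option autoImplicit false

namespace Cfsg.Agent.Lib.helper14.DihP3

/-- the sign of a unit of `ℤ` in `ZMod p` -/
def sgn (p : ℕ) : ℤˣ →* ZMod p :=
  ((Int.castRingHom (ZMod p)) : ℤ →* ZMod p).comp (Units.coeHom ℤ)

theorem sgn_apply (p : ℕ) (ε : ℤˣ) : sgn p ε = ((ε : ℤ) : ZMod p) := rfl

theorem sgn_mul_self (p : ℕ) (ε : ℤˣ) : sgn p ε * sgn p ε = 1 := by
  rw [← map_mul, Int.units_mul_self, map_one]

/-- the generalized dihedral group of `(ZMod p)^3` -/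
structure Dih (p : ℕ) where
  /-- translation part -/
  v : Fin 3 → ZMod p
  /-- sign -/
  e : ℤˣ

namespace Dih

variable {p : ℕ}

@[ext] theorem ext' {x y : Dih p} (h1 : x.v = y.v) (h2 : x.e = y.e) : x = y := by
  cases x; cases y; simp_all

instance : Mul (Dih p) := ⟨fun x y => ⟨x.v + sgn p x.e • y.v, x.e * y.e⟩⟩
instance : One (Dih p) := ⟨⟨0, 1⟩⟩
instance : Inv (Dih p) := ⟨fun x => ⟨-(sgn p x.e • x.v), x.e⟩⟩

@[simp] theorem mul_v (x y : Dih p) : (x * y).v = x.v + sgn p x.e • y.v := rfl
@[simp] theorem mul_e (x y : Dih p) : (x * y).e = x.e * y.e := rfl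
@[simp] theorem one_v : (1 : Dih p).v = 0 := rfl
@[simp] theorem one_e : (1 : Dih p).e = 1 := rfl
@[simp] theorem inv_v (x : Dih p) : (x⁻¹).v = -(sgn p x.e • x.v) := rfl
@[simp] theorem inv_e (x : Dih p) : (x⁻¹).e = x.e := rfl

instance : Group (Dih p) where
  mul_assoc x y z := by
    ext1
    · simp only [mul_v, mul_e, map_mul, smul_add, smul_smul, add_assoc]
    · simp only [mul_e, mul_assoc]
  one_mul x := by
    ext1
    · simp
    · simp
  mul_one x := by
    ext1
    · simp
    · simp
  inv_mul_cancel x := by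
    ext1
    · simp only [mul_v, inv_v, inv_e, one_v]
      exact neg_add_cancel _
    · simp only [mul_e, inv_e, one_e]
      exact Int.units_mul_self _

/-- the underlying product -/
def equivProd (p : ℕ) : Dih p ≃ (Fin 3 → ZMod p) × ℤˣ where
  toFun x := (x.v, x.e)
  invFun y := ⟨y.1, y.2⟩
  left_inv x := by cases x; rfl
  right_inv y := by cases y; rfl

theorem card (p : ℕ) [Fact p.Prime] : Nat.card (Dih p) = 2 * p ^ 3 := by
  rw [Nat.card_congr (equivProd p), Nat.card_prod, Nat.card_fun, Nat.card_zmod, Nat.card_fin,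
    Nat.card_eq_fintype_card, mul_comm]
  rfl

instance (p : ℕ) [Fact p.Prime] : Finite (Dih p) :=
  Nat.finite_of_card_ne_zero (by
    rw [card p]
    have := (Fact.out : p.Prime).pos
    positivity)

end Dih

/-! ### reindexing -/

open Matrix

section reindex

variable {m n : Type*} [Fintype m] [DecidableEq m] [Fintype n] [DecidableEq n]
variable (R : Type*) [CommRing R]

/-- reindexing `SL` -/
def slR (e : m ≃ n) : SpecialLinearGroup m R ≃* SpecialLinearGroup n R where
  toFun g := ⟨Matrix.reindex e e g.1, by rw [Matrix.det_reindex_self]; exact g.2⟩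
  invFun g := ⟨Matrix.reindex e.symm e.symm g.1, by rw [Matrix.det_reindex_self]; exact g.2⟩
  left_inv g := by
    apply Subtype.ext
    ext i j
    simp
  right_inv g := by
    apply Subtype.ext
    ext i j
    simp
  map_mul' a b := by
    apply Subtype.ext
    show Matrix.reindex e e (a.1 * b.1) = Matrix.reindex e e a.1 * Matrix.reindex e e b.1
    simp only [Matrix.reindex_apply]
    rw [Matrix.submatrix_mul_equiv]

/-- the centre is preserved by a group isomorphism -/
theorem map_center_eq {A B : Type*} [Group A] [Group B] (e : A ≃* B) :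
    (Subgroup.center A).map e.toMonoidHom = Subgroup.center B := by
  ext x
  rw [Subgroup.mem_map, Subgroup.mem_center_iff]
  constructor
  · rintro ⟨a, ha, rfl⟩ g
    rw [Subgroup.mem_center_iff] at ha
    obtain ⟨g', rfl⟩ := e.surjective g
    show e g' * e a = e a * e g'
    rw [← map_mul, ← map_mul, ha g']
  · intro hx
    refine ⟨e.symm x, ?_, by simp⟩
    rw [Subgroup.mem_center_iff]
    intro g
    apply e.injective
    rw [map_mul, map_mul, e.apply_symm_apply]
    exact hx (e g)

/-- reindexing `PSL` -/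
noncomputable def pslR (e : m ≃ n) :
    ProjectiveSpecialLinearGroup m R ≃* ProjectiveSpecialLinearGroup n R :=
  QuotientGroup.congr _ _ (slR R e) (map_center_eq (slR R e))

end reindex

/-- transfer of "injective with trivial centralizer" along an isomorphism -/
theorem transfer {H A B : Type*} [Group H] [Group A] [Group B] (e : A ≃* B) (φ : H →* A)
    (hinj : Function.Injective φ)
    (hc : Subgroup.centralizer (φ.range : Set A) = ⊥) :
    Function.Injective (e.toMonoidHom.comp φ) ∧
      Subgroup.centralizer ((e.toMonoidHom.comp φ).range : Set B) = ⊥ := by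
  refine ⟨e.injective.comp hinj, ?_⟩
  rw [eq_bot_iff]
  intro x hx
  rw [Subgroup.mem_bot]
  have : e.symm x ∈ Subgroup.centralizer (φ.range : Set A) := by
    rw [Subgroup.mem_centralizer_iff]
    rintro _ ⟨h, rfl⟩
    rw [Subgroup.mem_centralizer_iff] at hx
    have := hx (e (φ h)) ⟨h, rfl⟩
    apply e.injective
    rw [map_mul, map_mul, e.apply_symm_apply]
    exact this
  rw [hc, Subgroup.mem_bot] at this
  have h2 := congrArg e this
  rwa [e.apply_symm_apply, map_one] at h2

end Cfsg.Agent.Lib.helper14.DihP3
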