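import Cfsg.Agent.Lib.helper14.DihP3

/-!
# A faithful block-unipotent representation of `Dih (ZMod p)^3` with scalar "projective commutant"
-/

set_option autoImplicit false

namespace Cfsg.Agent.Lib.helper14.DihP3

open Matrix

section shift

variable (R : Type*) [CommRing R] (K : ℕ)

/-- lower shift matrix -/
def Nsh : Matrix (Fin K) (Fin K) R := Matrix.of fun i j => if i.val = j.val + 1 then 1 else 0

/-- corner matrix unit -/
def E00 : Matrix (Fin K) (Fin K) R := Matrix.of fun i j => if i.val = 0 ∧ j.val = 0 then 1 else 0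

variable {R K}

theorem Nsh_apply (i j : Fin K) : Nsh R K i j = if i.val = j.val + 1 then 1 else 0 := rfl

theorem E00_apply (i j : Fin K) : E00 R K i j = if i.val = 0 ∧ j.val = 0 then 1 else 0 := rfl

theorem mul_Nsh (A : Matrix (Fin K) (Fin K) R) (i j : Fin K) (h : j.val + 1 < K) :
    (A * Nsh R K) i j = A i ⟨j.val + 1, h⟩ := by
  rw [Matrix.mul_apply, Finset.sum_eq_single ⟨j.val + 1, h⟩]
  · simp [Nsh_apply]
  · intro l _ hl
    rw [Nsh_apply, if_neg, mul_zero]
    intro h'
    exact hl (Fin.ext h')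
  · intro h'
    exact absurd (Finset.mem_univ _) h'

theorem Nsh_mul_pos (A : Matrix (Fin K) (Fin K) R) (i j : Fin K) (h : 0 < i.val) :
    (Nsh R K * A) i j = A ⟨i.val - 1, by omega⟩ j := by
  rw [Matrix.mul_apply, Finset.sum_eq_single ⟨i.val - 1, by omega⟩]
  · rw [Nsh_apply, if_pos, one_mul]
    show i.val = i.val - 1 + 1
    omega
  · intro l _ hl
    rw [Nsh_apply, if_neg, zero_mul]
    intro h'
    apply hl
    apply Fin.ext
    show l.val = i.val - 1
    omega
  · intro h'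
    exact absurd (Finset.mem_univ _) h'

theorem Nsh_mul_zero (A : Matrix (Fin K) (Fin K) R) (i j : Fin K) (h : i.val = 0) :
    (Nsh R K * A) i j = 0 := by
  rw [Matrix.mul_apply]
  apply Finset.sum_eq_zero
  intro l _
  rw [Nsh_apply, if_neg, zero_mul]
  omega

theorem mul_E00 (hK : 0 < K) (A : Matrix (Fin K) (Fin K) R) (i j : Fin K) :
    (A * E00 R K) i j = if j.val = 0 then A i ⟨0, hK⟩ else 0 := by
  rw [Matrix.mul_apply, Finset.sum_eq_single ⟨0, hK⟩]
  · simp [E00_apply]
  · intro l _ hl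
    rw [E00_apply, if_neg, mul_zero]
    intro h'
    exact hl (Fin.ext h'.1)
  · intro h'
    exact absurd (Finset.mem_univ _) h'

theorem E00_mul (hK : 0 < K) (A : Matrix (Fin K) (Fin K) R) (i j : Fin K) :
    (E00 R K * A) i j = if i.val = 0 then A ⟨0, hK⟩ j else 0 := by
  rw [Matrix.mul_apply, Finset.sum_eq_single ⟨0, hK⟩]
  · simp [E00_apply]
  · intro l _ hl
    rw [E00_apply, if_neg, zero_mul]
    intro h'
    exact hl (Fin.ext h'.2)
  · intro h'
    exact absurd (Finset.mem_univ _) h'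

/-- a matrix commuting with the shift and the corner unit is scalar -/
theorem comm_scalar (hK : 0 < K) (A : Matrix (Fin K) (Fin K) R)
    (h1 : A * Nsh R K = Nsh R K * A) (h2 : A * E00 R K = E00 R K * A) :
    A = A ⟨0, hK⟩ ⟨0, hK⟩ • (1 : Matrix (Fin K) (Fin K) R) := by
  have key : ∀ (t : ℕ) (ht : t < K) (i : Fin K),
      A i ⟨t, ht⟩ = if i.val = t then A ⟨0, hK⟩ ⟨0, hK⟩ else 0 := by
    intro t
    induction t with
    | zero =>
      intro ht i
      by_cases hi : i.val = 0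
      · rw [if_pos hi]
        have : i = ⟨0, hK⟩ := Fin.ext hi
        rw [this]
      · rw [if_neg hi]
        have := congrFun (congrFun h2 i) ⟨0, hK⟩
        rw [mul_E00 hK, E00_mul hK, if_neg hi, if_pos rfl] at this
        exact this
    | succ t ih =>
      intro ht i
      have := congrFun (congrFun h1 i) ⟨t, by omega⟩
      rw [mul_Nsh A i ⟨t, by omega⟩ ht] at this
      rw [this]
      by_cases hi : 0 < i.val
      · rw [Nsh_mul_pos A i _ hi, ih (by omega)]
        by_cases h3 : i.val = t + 1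
        · rw [if_pos h3, if_pos]
          show i.val - 1 = t
          omega
        · rw [if_neg h3, if_neg]
          show ¬ (i.val - 1 = t)
          omega
      · rw [Nsh_mul_zero A i _ (by omega), if_neg (by omega)]
  ext i j
  rw [Matrix.smul_apply, Matrix.one_apply, key j.val j.2 i]
  by_cases hij : i = j
  · rw [if_pos (congrArg Fin.val hij), if_pos hij]
    simp
  · rw [if_neg (fun h => hij (Fin.ext h)), if_neg hij]
    simp

/-- the linear map `v ↦ v₀ + v₁ N + v₂ E₀₀` -/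
def Xv (v : Fin 3 → R) : Matrix (Fin K) (Fin K) R :=
  v 0 • (1 : Matrix (Fin K) (Fin K) R) + v 1 • Nsh R K + v 2 • E00 R K

theorem Xv_add (v w : Fin 3 → R) : Xv (K := K) (v + w) = Xv v + Xv w := by
  simp only [Xv, Pi.add_apply, add_smul]
  abel

theorem Xv_smul (c : R) (v : Fin 3 → R) : Xv (K := K) (c • v) = c • Xv v := by
  simp only [Xv, Pi.smul_apply, smul_eq_mul, smul_add, smul_smul]

theorem Xv_zero : Xv (R := R) (K := K) 0 = 0 := by
  simp [Xv]

theorem Xv_inj (hK : 2 ≤ K) (v : Fin 3 → R) (h : Xv (K := K) v = 0) : v = 0 := by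
  have h11 := congrFun (congrFun h ⟨1, by omega⟩) ⟨1, by omega⟩
  have h10 := congrFun (congrFun h ⟨1, by omega⟩) ⟨0, by omega⟩
  have h00 := congrFun (congrFun h ⟨0, by omega⟩) ⟨0, by omega⟩
  simp [Xv, Nsh_apply, E00_apply, Matrix.one_apply] at h11 h10 h00
  funext i
  fin_cases i
  · exact h11
  · exact h10
  · simpa [h11] using h00

theorem Xv_e0 : Xv (R := R) (K := K) (Pi.single 0 1) = 1 := by
  simp [Xv, Pi.single_apply]

theorem Xv_e1 : Xv (R := R) (K := K) (Pi.single 1 1) = Nsh R K := by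
  simp [Xv, Pi.single_apply]

theorem Xv_e2 : Xv (R := R) (K := K) (Pi.single 2 1) = E00 R K := by
  simp [Xv, Pi.single_apply]

end shift

section rep

variable {p : ℕ} {K : ℕ}

/-- the block matrix of an element of `Dih p` -/
def Mh (K : ℕ) (x : Dih p) : Matrix (Fin K ⊕ Fin K) (Fin K ⊕ Fin K) (ZMod p) :=
  Matrix.fromBlocks 1 (sgn p x.e • Xv x.v) 0 (sgn p x.e • (1 : Matrix (Fin K) (Fin K) (ZMod p)))

theorem Mh_one : Mh K (1 : Dih p) = 1 := by
  simp [Mh, Xv_zero, Matrix.fromBlocks_one]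

theorem Mh_mul (x y : Dih p) : Mh K (x * y) = Mh K x * Mh K y := by
  simp only [Mh, Matrix.fromBlocks_multiply, Dih.mul_v, Dih.mul_e, map_mul, Xv_add, Xv_smul]
  congr 1
  · simp
  · simp only [one_mul, Matrix.smul_mul, Matrix.mul_smul, mul_one, smul_add, smul_smul]
    have h := sgn_mul_self p x.e
    rw [add_comm]
    congr 1
    · rw [mul_comm (sgn p x.e) (sgn p y.e), mul_assoc, h, mul_one]
    · rw [mul_comm]
  · simp
  · simp [smul_smul, mul_comm]

theorem Mh_det (hK : Even K) (x : Dih p) : (Mh K x).det = 1 := by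
  rw [Mh, Matrix.det_fromBlocks_zero₂₁, Matrix.det_one, one_mul, Matrix.det_smul, Matrix.det_one,
    mul_one, Fintype.card_fin]
  obtain ⟨j, rfl⟩ := hK
  rw [← two_mul, pow_mul, pow_two, sgn_mul_self, one_pow]

/-- the representation into `SL` -/
def phiSL (p : ℕ) (K : ℕ) (hK : Even K) :
    Dih p →* Matrix.SpecialLinearGroup (Fin K ⊕ Fin K) (ZMod p) where
  toFun x := ⟨Mh K x, Mh_det hK x⟩
  map_one' := Subtype.ext Mh_one
  map_mul' x y := Subtype.ext (Mh_mul x y)

theorem phiSL_coe (hK : Even K) (x : Dih p) :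
    ((phiSL p K hK x : Matrix.SpecialLinearGroup (Fin K ⊕ Fin K) (ZMod p)) :
      Matrix (Fin K ⊕ Fin K) (Fin K ⊕ Fin K) (ZMod p)) = Mh K x := rfl

end rep

section commutant

variable {p : ℕ} [Fact p.Prime] {K : ℕ}

/-- unipotent step -/
theorem unip_step (hK : 0 < K) (A B C D X : Matrix (Fin K) (Fin K) (ZMod p)) (r : ZMod p)
    (hdet : (Matrix.fromBlocks A B C D).det ≠ 0)
    (h : Matrix.fromBlocks A B C D * Matrix.fromBlocks 1 X 0 1 =
      r • (Matrix.fromBlocks 1 X 0 1 * Matrix.fromBlocks A B C D)) :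
    X * C = 0 ∧ C * X = 0 ∧ A * X = X * D := by
  rw [Matrix.fromBlocks_multiply, Matrix.fromBlocks_multiply, Matrix.fromBlocks_smul,
    Matrix.fromBlocks_inj] at h
  obtain ⟨h1, h2, h3, h4⟩ := h
  simp only [mul_one, mul_zero, add_zero, one_mul, zero_mul, zero_add] at h1 h2 h3 h4
  have hr : r = 1 := by
    by_contra hr
    have hr' : (1 - r) ≠ 0 := fun h => hr (sub_eq_zero.1 h).symm
    have hC : C = 0 := by
      have : (1 - r) • C = 0 := by rw [sub_smul, one_smul, ← h3, sub_self]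
      exact (smul_eq_zero.1 this).resolve_left hr'
    have hA : A = 0 := by
      rw [hC, mul_zero, add_zero] at h1
      have : (1 - r) • A = 0 := by rw [sub_smul, one_smul, ← h1, sub_self]
      exact (smul_eq_zero.1 this).resolve_left hr'
    apply hdet
    haveI : Nonempty (Fin K) := ⟨⟨0, hK⟩⟩
    rw [hA, hC, Matrix.det_fromBlocks_zero₂₁, Matrix.det_zero, zero_mul]
  subst hr
  simp only [one_smul] at h1 h2 h4
  refine ⟨?_, ?_, ?_⟩
  · exact left_eq_add.1 h1
  · exact add_eq_right.1 h4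
  · rw [add_comm] at h2
    exact add_left_cancel h2

/-- a matrix which commutes projectively with the image of `Dih p` is scalar -/
theorem scalar_of_comm (hp : p ≠ 2) (hK : 2 ≤ K)
    (g : Matrix (Fin K ⊕ Fin K) (Fin K ⊕ Fin K) (ZMod p)) (hg : g.det ≠ 0)
    (h : ∀ x : Dih p, ∃ r : ZMod p, g * Mh K x = r • (Mh K x * g)) :
    ∃ a : ZMod p, g = a • (1 : Matrix (Fin K ⊕ Fin K) (Fin K ⊕ Fin K) (ZMod p)) := by
  obtain ⟨A, B, C, D, rfl⟩ : ∃ A B C D, g = Matrix.fromBlocks A B C D :=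
    ⟨_, _, _, _, (Matrix.fromBlocks_toBlocks g).symm⟩
  have hK0 : 0 < K := by omega
  have hu : ∀ v : Fin 3 → ZMod p, Xv v * C = 0 ∧ C * Xv v = 0 ∧ A * Xv v = Xv v * D := by
    intro v
    obtain ⟨r, hr⟩ := h ⟨v, 1⟩
    have e : Mh K (⟨v, 1⟩ : Dih p) = Matrix.fromBlocks 1 (Xv v) 0 1 := by simp [Mh]
    rw [e] at hr
    exact unip_step hK0 A B C D (Xv v) r hg hr
  have h0 := hu (Pi.single 0 1)
  rw [Xv_e0] at h0
  have hC : C = 0 := by simpa using h0.1
  have hAD : A = D := by simpa using h0.2.2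
  subst hAD
  have h1 := (hu (Pi.single 1 1)).2.2
  rw [Xv_e1] at h1
  have h2 := (hu (Pi.single 2 1)).2.2
  rw [Xv_e2] at h2
  have hA := comm_scalar hK0 A h1 h2
  set a := A ⟨0, hK0⟩ ⟨0, hK0⟩ with ha
  have ha0 : a ≠ 0 := by
    intro h0
    apply hg
    haveI : Nonempty (Fin K) := ⟨⟨0, hK0⟩⟩
    rw [hC, Matrix.det_fromBlocks_zero₂₁, hA, h0, zero_smul, Matrix.det_zero,
      zero_mul]
  -- the involution
  obtain ⟨r, hr⟩ := h ⟨0, -1⟩
  have e : Mh K (⟨0, -1⟩ : Dih p) = Matrix.fromBlocks 1 0 0 (-1) := by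
    simp [Mh, Xv_zero, sgn_apply]
  rw [e, hC, Matrix.fromBlocks_multiply, Matrix.fromBlocks_multiply, Matrix.fromBlocks_smul,
    Matrix.fromBlocks_inj] at hr
  obtain ⟨h3, h4, -, -⟩ := hr
  simp only [mul_one, mul_zero, add_zero, one_mul, zero_mul, zero_add] at h3 h4
  have hr1 : r = 1 := by
    rw [hA] at h3
    have := congrFun (congrFun h3 ⟨0, hK0⟩) ⟨0, hK0⟩
    simp only [Matrix.smul_apply, Matrix.one_apply_eq, smul_eq_mul, mul_one] at this
    have h5 : a * (1 - r) = 0 := by rw [mul_sub, mul_one, mul_comm a r]; exact sub_eq_zero.2 this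
    exact (sub_eq_zero.1 ((mul_eq_zero.1 h5).resolve_left ha0)).symm
  subst hr1
  rw [one_smul] at h4
  have hB : B = 0 := by
    have h2ne : (2 : ZMod p) ≠ 0 := by
      intro h2
      have : ((2 : ℕ) : ZMod p) = 0 := by exact_mod_cast h2
      rw [ZMod.natCast_eq_zero_iff] at this
      have hp' : p.Prime := Fact.out
      have := (Nat.prime_dvd_prime_iff_eq hp' Nat.prime_two).1 this
      exact hp this
    have : (2 : ZMod p) • B = 0 := by
      rw [two_smul]
      nth_rewrite 1 [← h4]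
      simp
    exact (smul_eq_zero.1 this).resolve_left h2ne
  refine ⟨a, ?_⟩
  rw [hC, hB, ← Matrix.fromBlocks_one, Matrix.fromBlocks_smul, smul_zero, ← hA]

end commutant

end Cfsg.Agent.Lib.helper14.DihP3
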