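import Mathlib
import Cfsg.Prelude.Def_ChevStructure
import Cfsg.Agent.Lib.helper14.F4Ch

/-!
# Project F4C (S2179): type `F₄`, the centraliser of `x_39(1) x_45(1)` in `U`
-/

set_option autoImplicit false

namespace Cfsg.Agent.Lib.helper14

open Cfsg.Lie Cfsg.Lie.ChevalleyDatum Cfsg.Agent.Lib.helper8

universe u

variable {F : Type u} [Field F]

/-- the four positive roots not centralising `x_39(1) x_45(1)` -/
def f4cE : List ℕ := [27, 25, 34, 26]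

theorem f4c_ct_eff : chevF4.commTerms 25 45 = [(46, 1, 1, 1)] ∧
    chevF4.commTerms 26 45 = [(47, 1, 1, 1)] ∧ chevF4.commTerms 27 39 = [(40, 1, 1, 1)] ∧
    chevF4.commTerms 34 39 = [(44, 1, 1, 1)] := by decide +kernel

/-- the pairs `(r, s)` with `r ∈ f4cE`, `s ∈ f4cR`, other than the four effective ones, commute
modulo `2` -/
theorem f4c_ct_triv : ∀ r ∈ f4cE, ∀ s ∈ f4cR,
    (r, s) ∉ [(25, 45), (26, 45), (27, 39), (34, 39)] →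
      s ≠ chevF4.negIdx.getD r 0 ∧ ∀ c ∈ chevF4.commTerms r s, c.2.1 % 2 = 0 := by
  decide +kernel

/-- the generators of the centraliser commute with `x_39` and `x_45` modulo `2` -/
theorem f4c_ct_cent : ∀ s < 48, (s ∈ [33, 14, 24, 23] ∨ (chevF4.IsPosRoot s ∧ s ∉ f4cE)) →
    ∀ r ∈ [39, 45], s ≠ chevF4.negIdx.getD r 0 ∧
      (s ≠ r → ∀ c ∈ chevF4.commTerms r s, c.2.1 % 2 = 0) := by decide +kernel

theorem f4c_filE : (h8Lk chevF4 0).filter (fun r => !(decide (r ∉ f4cE))) = [25, 26, 27, 34] := by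
  decide +kernel

theorem f4c_fil4 : (h8Lk chevF4 0).filter (fun r => decide (r ∈ [40, 44, 46, 47])) =
    [40, 44, 46, 47] := by decide +kernel

theorem f4c_comm_4 : f4cCommChk chevF4 [40, 44, 46, 47] 2 = true := by decide +kernel

variable (hB : H8Base.{u} chevF4)

local notation "𝔵" => h8xU chevF4 hB

/-- conjugation formula for a pair with a single commutator term `(k, 1, 1, 1)` -/
theorem f4c_conj_single (hC : H8CommAll.{u} chevF4) (r s k : ℕ) (hr : r < 48) (hs : s < 48)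
    (hsr : s ≠ r) (hsn : s ≠ chevF4.negIdx.getD r 0)
    (hct : chevF4.commTerms r s = [(k, 1, 1, 1)]) (t a : F) :
    𝔵 r t * 𝔵 s a * (𝔵 r t)⁻¹ = 𝔵 s a * 𝔵 k (t * a) := by
  have h4 : 𝔵 s a * 𝔵 r (-t) = 𝔵 r (-t) * 𝔵 s a *
      h8wordU chevF4 hB (chevF4.commWord F r s (-t) a) := by
    apply Units.ext
    rw [Units.val_mul, Units.val_mul, Units.val_mul, h8xU_val, h8xU_val, h8wordU_val]
    exact hC.all r (by rw [f4c_nroots]; exact hr) s (by rw [f4c_nroots]; exact hs) hsr hsn F (-t) a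
  rw [← h8xU_inv] at h4
  have hw : h8wordU chevF4 hB (chevF4.commWord F r s (-t) a) = 𝔵 k (t * a) := by
    unfold ChevalleyDatum.commWord
    rw [hct, List.map_cons, List.map_nil, h8wordU_cons]
    have : h8wordU chevF4 hB ([] : List (ℕ × F)) = 1 := rfl
    rw [this, mul_one]
    congr 1
    push_cast
    ring
  rw [hw] at h4
  calc 𝔵 r t * 𝔵 s a * (𝔵 r t)⁻¹ = 𝔵 r t * (𝔵 s a * (𝔵 r t)⁻¹) := by group
    _ = 𝔵 r t * ((𝔵 r t)⁻¹ * 𝔵 s a * 𝔵 k (t * a)) := by rw [h4]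
    _ = 𝔵 s a * 𝔵 k (t * a) := by group

/-- trivial conjugation for the other pairs -/
theorem f4c_conj_triv (hC : H8CommAll.{u} chevF4) (hm : (((2 : ℕ) : ℤ) : F) = 0) (r s : ℕ)
    (hr : r ∈ f4cE) (hs : s ∈ f4cR)
    (hne : (r, s) ∉ [(25, 45), (26, 45), (27, 39), (34, 39)]) (t a : F) :
    𝔵 r t * 𝔵 s a * (𝔵 r t)⁻¹ = 𝔵 s a := by
  have hr48 : r < 48 := by
    have : ∀ x ∈ f4cE, x < 48 := by decide
    exact this r hr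
  have hs48 : s < 48 := by
    have : ∀ x ∈ f4cR, x < 48 := by decide
    exact this s hs
  obtain ⟨h1, h2⟩ := f4c_ct_triv r hr s hs hne
  have := h8comm_of_zero chevF4 hB hC r s (by rw [f4c_nroots]; exact hr48)
    (by rw [f4c_nroots]; exact hs48) h1
    (fun _ c hc => f4c_coef_zero 2 hm _ (h2 c hc)) t a
  rw [mul_inv_eq_iff_eq_mul]
  exact this.symm

/-- the subgroup generated by the positive root subgroups other than `X_27, X_25, X_34, X_26` -/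
def f4cKU (F : Type u) [Field F] : Subgroup (GL chevF4.Idx F) :=
  Subgroup.closure {g : GL chevF4.Idx F | ∃ (r : ℕ) (c : F), chevF4.IsPosRoot r ∧
    r ∉ [27, 25, 34, 26] ∧ (g : Matrix chevF4.Idx chevF4.Idx F) = chevF4.x F r c}

/-- root elements commuting with `x_39(1) x_45(1)` -/
theorem f4c_gen_comm (hC : H8CommAll.{u} chevF4) (hm : (((2 : ℕ) : ℤ) : F) = 0) (s : ℕ)
    (hs : s < 48) (hs' : s ∈ [33, 14, 24, 23] ∨ (chevF4.IsPosRoot s ∧ s ∉ f4cE)) (a : F) :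
    𝔵 s a * (𝔵 39 1 * 𝔵 45 1) = (𝔵 39 1 * 𝔵 45 1) * 𝔵 s a := by
  have h := f4c_ct_cent s hs hs'
  obtain ⟨h1, h2⟩ := h 39 (by simp)
  obtain ⟨h3, h4⟩ := h 45 (by simp)
  have e1 := h8comm_of_zero chevF4 hB hC 39 s (by rw [f4c_nroots]; omega)
    (by rw [f4c_nroots]; exact hs) h1 (fun hne c hc => f4c_coef_zero 2 hm _ (h2 hne c hc)) 1 a
  have e2 := h8comm_of_zero chevF4 hB hC 45 s (by rw [f4c_nroots]; omega)
    (by rw [f4c_nroots]; exact hs) h3 (fun hne c hc => f4c_coef_zero 2 hm _ (h4 hne c hc)) 1 a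
  rw [← mul_assoc, e1, mul_assoc, e2, ← mul_assoc]

theorem f4c_KU_le_cent (hC : H8CommAll.{u} chevF4) (hm : (((2 : ℕ) : ℤ) : F) = 0) :
    f4cKU F ≤ Subgroup.centralizer {𝔵 39 (1 : F) * 𝔵 45 1} := by
  unfold f4cKU
  rw [Subgroup.closure_le]
  rintro x ⟨s, a, hs, hsE, hx⟩
  have hx' : x = 𝔵 s a := Units.ext (by rw [hx, h8xU_val])
  rw [hx', SetLike.mem_coe, Subgroup.mem_centralizer_iff]
  intro y hy
  rw [Set.mem_singleton_iff.mp hy]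
  exact (f4c_gen_comm hB hC hm s (f4c_pos_ge s hs).2 (Or.inr ⟨hs, hsE⟩) a).symm

/-- the centraliser of `x_39(1) x_45(1)` in `U` -/
theorem f4c_CU (hC : H8CommAll.{u} chevF4) (hO : H8Ord chevF4) (hO2 : H8Ord2 chevF4)
    (hm : (((2 : ℕ) : ℤ) : F) = 0) (g : GL chevF4.Idx F) (hg : g ∈ chevF4.posUnipotent F)
    (hcen : g * (𝔵 39 1 * 𝔵 45 1) * g⁻¹ = 𝔵 39 1 * 𝔵 45 1) : g ∈ f4cKU F := by
  obtain ⟨t, ht⟩ := h8split_main chevF4 hB hC hO (fun r => decide (r ∉ f4cE)) g hg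
  set p := h8wordU chevF4 hB (h8ordP chevF4 (fun r => decide (r ∉ f4cE)) 0 t) with hp
  have hpK : p ∈ f4cKU F := by
    have h1 := h8ordP_mem chevF4 hB (fun r => decide (r ∉ f4cE)) 0 t
    refine (Subgroup.closure_mono ?_) h1
    rintro x ⟨r, c, hr, hPr, rfl⟩
    exact ⟨r, c, hr, by simpa [f4cE] using hPr, h8xU_val chevF4 hB r c⟩
  have hq : h8wordU chevF4 hB (h8ordQ chevF4 (fun r => decide (r ∉ f4cE)) 0 t) =
      𝔵 34 (t 34) * 𝔵 27 (t 27) * 𝔵 26 (t 26) * 𝔵 25 (t 25) := by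
    unfold h8ordQ
    rw [f4c_filE]
    simp only [List.reverse_cons, List.reverse_nil, List.nil_append, List.cons_append,
      List.map_cons, List.map_nil]
    rw [h8wordU_cons, h8wordU_cons, h8wordU_cons, h8wordU_cons]
    have : h8wordU chevF4 hB ([] : List (ℕ × F)) = 1 := rfl
    rw [this, mul_one, mul_assoc, mul_assoc]
  rw [hq] at ht
  set a := t 34
  set b := t 27
  set c := t 26
  set d := t 25
  -- `q` centralises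
  have hpc := f4c_KU_le_cent hB hC hm hpK
  have hpc' : p * (𝔵 39 1 * 𝔵 45 1) * p⁻¹ = 𝔵 39 1 * 𝔵 45 1 := by
    rw [mul_inv_eq_iff_eq_mul]
    exact (Subgroup.mem_centralizer_iff.mp hpc _ rfl).symm
  have hqc : (𝔵 34 a * 𝔵 27 b * 𝔵 26 c * 𝔵 25 d) * (𝔵 39 1 * 𝔵 45 1) *
      (𝔵 34 a * 𝔵 27 b * 𝔵 26 c * 𝔵 25 d)⁻¹ = 𝔵 39 1 * 𝔵 45 1 := by
    have e1 : (𝔵 34 a * 𝔵 27 b * 𝔵 26 c * 𝔵 25 d) = p⁻¹ * g := by rw [ht]; group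
    rw [e1]
    have e2 : p⁻¹ * g * (𝔵 39 1 * 𝔵 45 1) * (p⁻¹ * g)⁻¹ =
        p⁻¹ * (g * (𝔵 39 1 * 𝔵 45 1) * g⁻¹) * p := by group
    rw [e2, hcen]
    have e3 : p⁻¹ * (𝔵 39 1 * 𝔵 45 1) * p = p⁻¹ * (p * (𝔵 39 1 * 𝔵 45 1) * p⁻¹) * p := by
      rw [hpc']
    rw [e3]; group
  -- the conjugation formulas
  have T : ∀ r s, r ∈ f4cE → s ∈ f4cR → (r, s) ∉ [(25, 45), (26, 45), (27, 39), (34, 39)] →
      ∀ x y : F, 𝔵 r x * 𝔵 s y * (𝔵 r x)⁻¹ = 𝔵 s y :=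
    fun r s hr hs hne x y => f4c_conj_triv hB hC hm r s hr hs hne x y
  have S1 : ∀ x y : F, 𝔵 25 x * 𝔵 45 y * (𝔵 25 x)⁻¹ = 𝔵 45 y * 𝔵 46 (x * y) := fun x y =>
    f4c_conj_single hB hC 25 45 46 (by omega) (by omega) (by omega)
      (by rw [f4c_negIdx 25 (by omega)]; omega) f4c_ct_eff.1 x y
  have S2 : ∀ x y : F, 𝔵 26 x * 𝔵 45 y * (𝔵 26 x)⁻¹ = 𝔵 45 y * 𝔵 47 (x * y) := fun x y =>
    f4c_conj_single hB hC 26 45 47 (by omega) (by omega) (by omega)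
      (by rw [f4c_negIdx 26 (by omega)]; omega) f4c_ct_eff.2.1 x y
  have S3 : ∀ x y : F, 𝔵 27 x * 𝔵 39 y * (𝔵 27 x)⁻¹ = 𝔵 39 y * 𝔵 40 (x * y) := fun x y =>
    f4c_conj_single hB hC 27 39 40 (by omega) (by omega) (by omega)
      (by rw [f4c_negIdx 27 (by omega)]; omega) f4c_ct_eff.2.2.1 x y
  have S4 : ∀ x y : F, 𝔵 34 x * 𝔵 39 y * (𝔵 34 x)⁻¹ = 𝔵 39 y * 𝔵 44 (x * y) := fun x y =>
    f4c_conj_single hB hC 34 39 44 (by omega) (by omega) (by omega)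
      (by rw [f4c_negIdx 34 (by omega)]; omega) f4c_ct_eff.2.2.2 x y
  -- step 1
  have v1 : 𝔵 25 d * (𝔵 39 1 * 𝔵 45 1) * (𝔵 25 d)⁻¹ = 𝔵 39 1 * (𝔵 45 1 * 𝔵 46 (d * 1)) := by
    have e : 𝔵 25 d * (𝔵 39 1 * 𝔵 45 1) * (𝔵 25 d)⁻¹ =
        (𝔵 25 d * 𝔵 39 1 * (𝔵 25 d)⁻¹) * (𝔵 25 d * 𝔵 45 1 * (𝔵 25 d)⁻¹) := by group
    rw [e, T 25 39 (by decide) (by decide) (by decide), S1]
  have v2 : 𝔵 26 c * (𝔵 39 1 * (𝔵 45 1 * 𝔵 46 (d * 1))) * (𝔵 26 c)⁻¹ =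
      𝔵 39 1 * (𝔵 45 1 * 𝔵 47 (c * 1) * 𝔵 46 (d * 1)) := by
    have e : 𝔵 26 c * (𝔵 39 1 * (𝔵 45 1 * 𝔵 46 (d * 1))) * (𝔵 26 c)⁻¹ =
        (𝔵 26 c * 𝔵 39 1 * (𝔵 26 c)⁻¹) * ((𝔵 26 c * 𝔵 45 1 * (𝔵 26 c)⁻¹) *
          (𝔵 26 c * 𝔵 46 (d * 1) * (𝔵 26 c)⁻¹)) := by group
    rw [e, T 26 39 (by decide) (by decide) (by decide), S2,
      T 26 46 (by decide) (by decide) (by decide)]
  have v3 : 𝔵 27 b * (𝔵 39 1 * (𝔵 45 1 * 𝔵 47 (c * 1) * 𝔵 46 (d * 1))) * (𝔵 27 b)⁻¹ =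
      𝔵 39 1 * 𝔵 40 (b * 1) * (𝔵 45 1 * 𝔵 47 (c * 1) * 𝔵 46 (d * 1)) := by
    have e : 𝔵 27 b * (𝔵 39 1 * (𝔵 45 1 * 𝔵 47 (c * 1) * 𝔵 46 (d * 1))) * (𝔵 27 b)⁻¹ =
        (𝔵 27 b * 𝔵 39 1 * (𝔵 27 b)⁻¹) * ((𝔵 27 b * 𝔵 45 1 * (𝔵 27 b)⁻¹) *
          (𝔵 27 b * 𝔵 47 (c * 1) * (𝔵 27 b)⁻¹) * (𝔵 27 b * 𝔵 46 (d * 1) * (𝔵 27 b)⁻¹)) := by
      group
    rw [e, S3, T 27 45 (by decide) (by decide) (by decide),
      T 27 47 (by decide) (by decide) (by decide), T 27 46 (by decide) (by decide) (by decide)]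
  have v4 : 𝔵 34 a * (𝔵 39 1 * 𝔵 40 (b * 1) * (𝔵 45 1 * 𝔵 47 (c * 1) * 𝔵 46 (d * 1))) *
      (𝔵 34 a)⁻¹ =
      𝔵 39 1 * 𝔵 44 (a * 1) * 𝔵 40 (b * 1) * (𝔵 45 1 * 𝔵 47 (c * 1) * 𝔵 46 (d * 1)) := by
    have e : 𝔵 34 a * (𝔵 39 1 * 𝔵 40 (b * 1) * (𝔵 45 1 * 𝔵 47 (c * 1) * 𝔵 46 (d * 1))) *
        (𝔵 34 a)⁻¹ =
        (𝔵 34 a * 𝔵 39 1 * (𝔵 34 a)⁻¹) * (𝔵 34 a * 𝔵 40 (b * 1) * (𝔵 34 a)⁻¹) *
          ((𝔵 34 a * 𝔵 45 1 * (𝔵 34 a)⁻¹) * (𝔵 34 a * 𝔵 47 (c * 1) * (𝔵 34 a)⁻¹) *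
            (𝔵 34 a * 𝔵 46 (d * 1) * (𝔵 34 a)⁻¹)) := by group
    rw [e, S4, T 34 40 (by decide) (by decide) (by decide),
      T 34 45 (by decide) (by decide) (by decide), T 34 47 (by decide) (by decide) (by decide),
      T 34 46 (by decide) (by decide) (by decide)]
  have hall : (𝔵 34 a * 𝔵 27 b * 𝔵 26 c * 𝔵 25 d) * (𝔵 39 1 * 𝔵 45 1) *
      (𝔵 34 a * 𝔵 27 b * 𝔵 26 c * 𝔵 25 d)⁻¹ =
      𝔵 39 1 * 𝔵 44 (a * 1) * 𝔵 40 (b * 1) * (𝔵 45 1 * 𝔵 47 (c * 1) * 𝔵 46 (d * 1)) := by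
    have e : (𝔵 34 a * 𝔵 27 b * 𝔵 26 c * 𝔵 25 d) * (𝔵 39 1 * 𝔵 45 1) *
        (𝔵 34 a * 𝔵 27 b * 𝔵 26 c * 𝔵 25 d)⁻¹ =
        𝔵 34 a * (𝔵 27 b * (𝔵 26 c * (𝔵 25 d * (𝔵 39 1 * 𝔵 45 1) * (𝔵 25 d)⁻¹) * (𝔵 26 c)⁻¹) *
          (𝔵 27 b)⁻¹) * (𝔵 34 a)⁻¹ := by group
    rw [e, v1, v2, v3, v4]
  rw [hall] at hqc
  -- commutation inside `f4cR`
  have CM : ∀ r s, r ∈ f4cR → s ∈ f4cR → ∀ x y : F, 𝔵 s y * 𝔵 r x = 𝔵 r x * 𝔵 s y :=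
    fun r s hr hs x y => f4c_comm_of_chk chevF4 hB hC f4cR 2 hm f4c_comm_R r s hr hs x y
  have h1 : 𝔵 40 (b * 1) * 𝔵 44 (a * 1) * 𝔵 46 (d * 1) * 𝔵 47 (c * 1) = 1 := by
    have e1 : 𝔵 39 1 * 𝔵 44 (a * 1) * 𝔵 40 (b * 1) * (𝔵 45 1 * 𝔵 47 (c * 1) * 𝔵 46 (d * 1)) =
        𝔵 39 1 * (𝔵 44 (a * 1) * 𝔵 40 (b * 1) * 𝔵 45 1 * 𝔵 47 (c * 1) * 𝔵 46 (d * 1)) := by group
    rw [e1] at hqc
    have e2 := mul_left_cancel hqc
    have e3 : 𝔵 44 (a * 1) * 𝔵 40 (b * 1) * 𝔵 45 1 =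
        𝔵 45 1 * (𝔵 40 (b * 1) * 𝔵 44 (a * 1)) := by
      rw [mul_assoc, CM 45 40 (by decide) (by decide), ← mul_assoc,
        CM 45 44 (by decide) (by decide), mul_assoc, CM 40 44 (by decide) (by decide)]
    rw [e3] at e2
    have e4 : 𝔵 45 1 * (𝔵 40 (b * 1) * 𝔵 44 (a * 1)) * 𝔵 47 (c * 1) * 𝔵 46 (d * 1) =
        𝔵 45 (1 : F) * (𝔵 40 (b * 1) * 𝔵 44 (a * 1) * 𝔵 46 (d * 1) * 𝔵 47 (c * 1)) := by
      rw [mul_assoc (𝔵 45 1 * (𝔵 40 (b * 1) * 𝔵 44 (a * 1))), CM 46 47 (by decide) (by decide)]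
      group
    rw [e4] at e2
    have e5 : 𝔵 45 (1 : F) * (𝔵 40 (b * 1) * 𝔵 44 (a * 1) * 𝔵 46 (d * 1) * 𝔵 47 (c * 1)) =
        𝔵 45 1 * 1 := e2.trans (mul_one _).symm
    exact mul_left_cancel e5
  -- uniqueness of canonical words
  have h2 : f4cLW chevF4 hB [40, 44, 46, 47]
      (fun r => if r = 40 then b * 1 else if r = 44 then a * 1 else if r = 46 then d * 1
        else c * 1) = f4cLW chevF4 hB [40, 44, 46, 47] (fun _ => (0 : F)) := by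
    rw [f4cLW_zero, ← h1]
    simp only [f4cLW_cons, f4cLW_nil, mul_one]
    simp only [if_true, if_neg (show (44 : ℕ) ≠ 40 by omega), if_neg (show (46 : ℕ) ≠ 40 by omega),
      if_neg (show (46 : ℕ) ≠ 44 by omega), if_neg (show (47 : ℕ) ≠ 40 by omega),
      if_neg (show (47 : ℕ) ≠ 44 by omega), if_neg (show (47 : ℕ) ≠ 46 by omega)]
    group
  rw [f4cLW_eq_W chevF4 hB _ f4c_fil4, f4cLW_eq_W chevF4 hB _ f4c_fil4] at h2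
  have u40 := f4c_W_unique0 chevF4 hB hO2 _ _ h2 40 (f4c_pos 40 (by omega) (by omega))
  have u44 := f4c_W_unique0 chevF4 hB hO2 _ _ h2 44 (f4c_pos 44 (by omega) (by omega))
  have u46 := f4c_W_unique0 chevF4 hB hO2 _ _ h2 46 (f4c_pos 46 (by omega) (by omega))
  have u47 := f4c_W_unique0 chevF4 hB hO2 _ _ h2 47 (f4c_pos 47 (by omega) (by omega))
  simp only [List.mem_cons, List.not_mem_nil, or_false, true_or, or_true, if_true, mul_one]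
    at u40 u44 u46 u47
  norm_num at u40 u44 u46 u47
  rw [ht, u40, u44, u46, u47, h8xU_zero, h8xU_zero, h8xU_zero, h8xU_zero, mul_one, mul_one,
    mul_one, mul_one]
  exact hpK

end Cfsg.Agent.Lib.helper14
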