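import Mathlib
import Cfsg.Prelude.Def_ChevStructure
import Cfsg.Agent.Lib.helper14.F4Ci

/-!
# Project F4C (S2179): type `F₄`, the centraliser of `x_39(1) x_45(1)` in characteristic two
-/

set_option autoImplicit false

namespace Cfsg.Agent.Lib.helper14

open Cfsg.Lie Cfsg.Lie.ChevalleyDatum Cfsg.Agent.Lib.helper8

universe u

variable {F : Type u} [Field F]

/-- the roots of the Levi factor of `P_{1,4}` -/
theorem f4c_insub03 : ∀ r < 48, ((chevF4.coroot.getD r #[]).getD 1 0 = 0 ∧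
    (chevF4.coroot.getD r #[]).getD 2 0 = 0) → r ∈ [33, 14, 24, 23] := by decide +kernel

theorem f4c_cart3945 : chevF4.cartan 0 39 = 0 ∧ chevF4.cartan 1 39 = -1 ∧ chevF4.cartan 2 39 = 1 ∧
    chevF4.cartan 3 39 = 0 ∧ chevF4.cartan 0 45 = 0 ∧ chevF4.cartan 1 45 = 2 ∧
    chevF4.cartan 2 45 = -1 ∧ chevF4.cartan 3 45 = 0 := by decide +kernel

theorem f4c_neg_simple : chevF4.neg 33 = 14 ∧ chevF4.neg 24 = 23 ∧ chevF4.neg 27 = 20 ∧
    chevF4.neg 25 = 22 := by decide +kernel

theorem f4c_fil2 : (h8Lk chevF4 0).filter (fun r => decide (r ∈ [39, 45])) = [39, 45] := by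
  decide +kernel

theorem f4c_cent2 (hm : (((2 : ℕ) : ℤ) : F) = 0) (v : GL chevF4.Idx F)
    (hv : (v : Matrix chevF4.Idx chevF4.Idx F) = chevF4.x F 39 1 * chevF4.x F 45 1) :
    chevF4.group F ⊓ Subgroup.centralizer {v} =
      chevF4.rootSubgroup F 33 ⊔ chevF4.rootSubgroup F 14 ⊔ chevF4.rootSubgroup F 24 ⊔
        chevF4.rootSubgroup F 23 ⊔ f4cKU F := by
  have hD := f4c_mem_list
  have hB := h8base_all.{u} chevF4 hD
  have hA := h8reflAll chevF4 hD
  have hC := h8commAll.{u} chevF4 hD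
  have hBN := h8bn_all chevF4 hD
  have hW := h8bn2_all chevF4 hD
  obtain ⟨hO, hO2⟩ := h8ord_all chevF4 hD
  have hsc := h8scChk_all chevF4 hD
  have hM := cfMax_all chevF4 hD
  have hv' : v = h8xU chevF4 hB 39 1 * h8xU chevF4 hB 45 1 :=
    Units.ext (by rw [hv, Units.val_mul, h8xU_val, h8xU_val])
  subst hv'
  set K : Subgroup (GL chevF4.Idx F) :=
    chevF4.rootSubgroup F 33 ⊔ chevF4.rootSubgroup F 14 ⊔ chevF4.rootSubgroup F 24 ⊔
      chevF4.rootSubgroup F 23 ⊔ f4cKU F with hK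
  have hxR : ∀ (s : ℕ) (a : F), h8xU chevF4 hB s a ∈ chevF4.rootSubgroup F s := fun s a =>
    Subgroup.subset_closure ⟨a, h8xU_val chevF4 hB s a⟩
  have hxK : ∀ s, s ∈ [33, 14, 24, 23] → ∀ a : F, h8xU chevF4 hB s a ∈ K := by
    intro s hs a
    simp only [List.mem_cons, List.not_mem_nil, or_false] at hs
    rcases hs with rfl | rfl | rfl | rfl
    · exact Subgroup.mem_sup_left (Subgroup.mem_sup_left (Subgroup.mem_sup_left
        (Subgroup.mem_sup_left (hxR 33 a))))
    · exact Subgroup.mem_sup_left (Subgroup.mem_sup_left (Subgroup.mem_sup_left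
        (Subgroup.mem_sup_right (hxR 14 a))))
    · exact Subgroup.mem_sup_left (Subgroup.mem_sup_left (Subgroup.mem_sup_right (hxR 24 a)))
    · exact Subgroup.mem_sup_left (Subgroup.mem_sup_right (hxR 23 a))
  have hKUK : f4cKU F ≤ K := le_sup_right
  -- the generators centralise
  have hRle : ∀ s, s ∈ [33, 14, 24, 23] → chevF4.rootSubgroup F s ≤
      chevF4.group F ⊓ Subgroup.centralizer {h8xU chevF4 hB 39 (1 : F) * h8xU chevF4 hB 45 1} := by
    intro s hs
    unfold ChevalleyDatum.rootSubgroup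
    rw [Subgroup.closure_le]
    rintro x ⟨a, hx⟩
    have hx' : x = h8xU chevF4 hB s a := Units.ext (by rw [hx, h8xU_val])
    rw [hx', SetLike.mem_coe, Subgroup.mem_inf]
    refine ⟨h8xU_mem_group chevF4 hB s a, ?_⟩
    rw [Subgroup.mem_centralizer_iff]
    intro y hy
    rw [Set.mem_singleton_iff.mp hy]
    have hs48 : s < 48 := by
      have : ∀ x ∈ [33, 14, 24, 23], x < 48 := by decide
      exact this s hs
    exact (f4c_gen_comm hB hC hm s hs48 (Or.inl hs) a).symm
  have hKUle : f4cKU F ≤ chevF4.group F ⊓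
      Subgroup.centralizer {h8xU chevF4 hB 39 (1 : F) * h8xU chevF4 hB 45 1} := by
    apply le_inf
    · unfold f4cKU
      rw [Subgroup.closure_le]
      rintro x ⟨s, a, _, _, hx⟩
      have hx' : x = h8xU chevF4 hB s a := Units.ext (by rw [hx, h8xU_val])
      rw [hx']
      exact h8xU_mem_group chevF4 hB s a
    · exact f4c_KU_le_cent hB hC hm
  have hKle : K ≤ chevF4.group F ⊓
      Subgroup.centralizer {h8xU chevF4 hB 39 (1 : F) * h8xU chevF4 hB 45 1} := by
    rw [hK]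
    refine sup_le (sup_le (sup_le (sup_le ?_ ?_) ?_) ?_) hKUle
    · exact hRle 33 (by simp)
    · exact hRle 14 (by simp)
    · exact hRle 24 (by simp)
    · exact hRle 23 (by simp)
  apply le_antisymm
  · rintro g ⟨hgG, hgC⟩
    have hcen : g * (h8xU chevF4 hB 39 1 * h8xU chevF4 hB 45 1) * g⁻¹ =
        h8xU chevF4 hB 39 1 * h8xU chevF4 hB 45 1 := by
      rw [mul_inv_eq_iff_eq_mul]
      exact (Subgroup.mem_centralizer_iff.mp hgC _ rfl).symm
    have hgP := f4c_crux2 hB hA hC hBN hW hO hO2 hm g hgG hcen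
    have hBP := f4c_B_le_normQ (F := F) chevF4 hB hC f4cR 2 hm f4c_stab_R
    obtain ⟨u, hu, h, hh, l', hl', rfl⟩ := f4c_par_decomp chevF4 hD hB ({0, 3} : Set ℕ) _ hBP
      (fun i hi hn => f4c_J2 hB hA hC hO2 hm i hi hn) g hgG hgP
    -- `l'` lies in `K`
    have hl'K : l' ∈ K := by
      refine (Subgroup.closure_le K).mpr ?_ hl'
      rintro x ⟨r, a, hr, hx⟩
      have hx' : x = h8xU chevF4 hB r a := Units.ext (by rw [hx, h8xU_val])
      have hr48 : r < 48 := by
        have := hr.1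
        rwa [f4c_nroots] at this
      have h1 := hr.2 1 (by rw [f4c_rank]; omega) (by simp)
      have h2 := hr.2 2 (by rw [f4c_rank]; omega) (by simp)
      rw [hx']
      exact hxK r (f4c_insub03 r hr48 ⟨h1, h2⟩) a
    have hl'C := (hKle hl'K).2
    have huU : u ∈ chevF4.posUnipotent F := by
      refine (Subgroup.closure_mono ?_) hu
      rintro x ⟨r, a, hr, _, hx⟩
      exact ⟨r, a, hr, hx⟩
    -- the torus part
    obtain ⟨γ, hγ, hact, hword⟩ := f4c_H_act chevF4 hB hsc h hh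
    have h39lt : 39 < chevF4.nroots := by rw [f4c_nroots]; omega
    have h45lt : 45 < chevF4.nroots := by rw [f4c_nroots]; omega
    set χ1 : F := ∏ i ∈ Finset.range chevF4.rank, γ i ^ (chevF4.cartan i 39) with hχ1
    set χ2 : F := ∏ i ∈ Finset.range chevF4.rank, γ i ^ (chevF4.cartan i 45) with hχ2
    have hl'c : l' * (h8xU chevF4 hB 39 1 * h8xU chevF4 hB 45 1) * l'⁻¹ =
        h8xU chevF4 hB 39 1 * h8xU chevF4 hB 45 1 := by
      rw [mul_inv_eq_iff_eq_mul]
      exact (Subgroup.mem_centralizer_iff.mp hl'C _ rfl).symm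
    have e1 : u * (h8xU chevF4 hB 39 (χ1 * 1) * h8xU chevF4 hB 45 (χ2 * 1)) * u⁻¹ =
        h8xU chevF4 hB 39 1 * h8xU chevF4 hB 45 1 := by
      rw [← hact 39 h39lt 1, ← hact 45 h45lt 1]
      calc u * (h * h8xU chevF4 hB 39 1 * h⁻¹ * (h * h8xU chevF4 hB 45 1 * h⁻¹)) * u⁻¹
          = u * (h * (h8xU chevF4 hB 39 1 * h8xU chevF4 hB 45 1) * h⁻¹) * u⁻¹ := by group
        _ = u * (h * (l' * (h8xU chevF4 hB 39 1 * h8xU chevF4 hB 45 1) * l'⁻¹) * h⁻¹) * u⁻¹ := by
            rw [hl'c]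
        _ = u * (h * l') * (h8xU chevF4 hB 39 1 * h8xU chevF4 hB 45 1) * (u * (h * l'))⁻¹ := by
            group
        _ = h8xU chevF4 hB 39 1 * h8xU chevF4 hB 45 1 := hcen
    -- `u` conjugates the two factors into the short and the long part
    have hQs := f4c_U_conj_Q chevF4 hB hC f4cRs 2 hm f4c_stab_Rs u huU _
      (f4cQ_mem chevF4 hB f4cRs 39 (by decide) (χ1 * 1))
    have hQl := f4c_U_conj_Q chevF4 hB hC f4cRl 2 hm f4c_stab_Rl u huU _
      (f4cQ_mem chevF4 hB f4cRl 45 (by decide) (χ2 * 1))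
    obtain ⟨c1, hc1⟩ := f4c_Q_word chevF4 hB hC f4cRs (by decide) 2 hm f4c_comm_Rs _ hQs
    obtain ⟨c2, hc2⟩ := f4c_Q_word chevF4 hB hC f4cRl (by decide) 2 hm f4c_comm_Rl _ hQl
    -- leading coefficients
    have lead : ∀ (r₀ : ℕ) (L' : List ℕ), chevF4.IsPosRoot r₀ →
        (∀ s ∈ L', chevF4.IsPosRoot s ∧ r₀ < s) → ∀ (a : F) (c : ℕ → F),
        u * h8xU chevF4 hB r₀ a * u⁻¹ = f4cLW chevF4 hB (r₀ :: L') c → c r₀ = a := by
      intro r₀ L' hr₀ hL' a c hc
      obtain ⟨w, hw, e⟩ := cf_conj_U chevF4 hB hC hO hM u huU r₀ hr₀ a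
      rw [e, f4cLW_cons] at hc
      have htail : f4cLW chevF4 hB L' c ∈ Subgroup.closure (h8VkSet chevF4 F (r₀ + 1)) := by
        unfold f4cLW
        apply cfword_mem_Vk
        intro q hq
        rw [List.mem_map] at hq
        obtain ⟨s, hs, rfl⟩ := hq
        exact ⟨(hL' s hs).1, (hL' s hs).2⟩
      have hmem : h8xU chevF4 hB r₀ (c r₀ - a) ∈
          Subgroup.closure (h8VkSet chevF4 F (r₀ + 1)) := by
        have e1 : h8xU chevF4 hB r₀ (c r₀ - a) = w * (f4cLW chevF4 hB L' c)⁻¹ := by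
          rw [eq_mul_inv_iff_mul_eq, sub_eq_add_neg, add_comm, ← h8xU_add chevF4 hB r₀ hr₀.1,
            ← h8xU_inv, mul_assoc, ← hc, ← mul_assoc, inv_mul_cancel, one_mul]
        rw [e1]
        exact Subgroup.mul_mem _ hw (Subgroup.inv_mem _ htail)
      exact sub_eq_zero.mp (h8x_not_mem_Vk chevF4 hB hO2 r₀ hr₀ _ hmem)
    have hc1' : c1 39 = χ1 * 1 := lead 39 [40, 44] (f4c_pos 39 (by omega) (by omega))
      (by
        intro s hs
        simp only [List.mem_cons, List.not_mem_nil, or_false] at hs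
        rcases hs with rfl | rfl
        · exact ⟨f4c_pos 40 (by omega) (by omega), by omega⟩
        · exact ⟨f4c_pos 44 (by omega) (by omega), by omega⟩) _ c1 hc1
    have hc2' : c2 45 = χ2 * 1 := lead 45 [46, 47] (f4c_pos 45 (by omega) (by omega))
      (by
        intro s hs
        simp only [List.mem_cons, List.not_mem_nil, or_false] at hs
        rcases hs with rfl | rfl
        · exact ⟨f4c_pos 46 (by omega) (by omega), by omega⟩
        · exact ⟨f4c_pos 47 (by omega) (by omega), by omega⟩) _ c2 hc2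
    -- compare canonical words
    have e2 : f4cLW chevF4 hB f4cR (fun r => if r ∈ f4cRs then c1 r else c2 r) =
        f4cLW chevF4 hB [39, 45] (fun _ => (1 : F)) := by
      have e3 : u * (h8xU chevF4 hB 39 (χ1 * 1) * h8xU chevF4 hB 45 (χ2 * 1)) * u⁻¹ =
          (u * h8xU chevF4 hB 39 (χ1 * 1) * u⁻¹) * (u * h8xU chevF4 hB 45 (χ2 * 1) * u⁻¹) := by
        group
      rw [e3, hc1, hc2] at e1
      rw [f4c_R_split, f4cLW_append]
      have e4 : f4cLW chevF4 hB [39, 45] (fun _ => (1 : F)) =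
          h8xU chevF4 hB 39 1 * h8xU chevF4 hB 45 1 := by
        rw [f4cLW_cons, f4cLW_cons, f4cLW_nil, mul_one]
      rw [e4, ← e1]
      rfl
    rw [f4cLW_eq_W chevF4 hB f4cR (f4c_fil f4cR (by simp)),
      f4cLW_eq_W chevF4 hB [39, 45] f4c_fil2] at e2
    have u39 := f4c_W_unique0 chevF4 hB hO2 _ _ e2 39 (f4c_pos 39 (by omega) (by omega))
    have u45 := f4c_W_unique0 chevF4 hB hO2 _ _ e2 45 (f4c_pos 45 (by omega) (by omega))
    simp only [f4cR, f4cRs, List.mem_cons, List.not_mem_nil, or_false, true_or, or_true,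
      if_true] at u39 u45
    norm_num at u39 u45
    rw [hc1', mul_one] at u39
    rw [hc2', mul_one] at u45
    -- `γ 1 = γ 2 = 1`
    have hγ12 : γ 1 = 1 ∧ γ 2 = 1 := by
      rw [hχ1, f4c_rank, Finset.prod_range_succ, Finset.prod_range_succ, Finset.prod_range_succ,
        Finset.prod_range_succ, Finset.prod_range_zero, f4c_cart3945.1, f4c_cart3945.2.1,
        f4c_cart3945.2.2.1, f4c_cart3945.2.2.2.1, zpow_zero, zpow_zero, zpow_one, one_mul, mul_one,
        zpow_neg, zpow_one] at u39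
      rw [hχ2, f4c_rank, Finset.prod_range_succ, Finset.prod_range_succ, Finset.prod_range_succ,
        Finset.prod_range_succ, Finset.prod_range_zero, f4c_cart3945.2.2.2.2.1,
        f4c_cart3945.2.2.2.2.2.1, f4c_cart3945.2.2.2.2.2.2.1, f4c_cart3945.2.2.2.2.2.2.2,
        zpow_zero, zpow_zero, one_mul, mul_one, zpow_neg, zpow_one] at u45
      have h21 : γ 2 = γ 1 := by
        have := hγ 1
        field_simp at u39
        exact u39
      rw [h21] at u45
      have h1 : γ 1 = 1 := by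
        have := hγ 1
        field_simp at u45
        exact u45
      exact ⟨h1, by rw [h21, h1]⟩
    -- `h ∈ K`
    have hhK : h ∈ K := by
      rw [hword]
      apply f4c_H_mem chevF4 hB γ K
      intro i hi
      rw [f4c_rank] at hi
      have : i = 0 ∨ i = 1 ∨ i = 2 ∨ i = 3 := by omega
      rcases this with rfl | rfl | rfl | rfl
      · right
        intro a
        rw [f4c_simple.1, f4c_neg_simple.1]
        exact ⟨hxK 33 (by simp) a, hxK 14 (by simp) a⟩
      · exact Or.inl hγ12.1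
      · exact Or.inl hγ12.2
      · right
        intro a
        rw [f4c_simple.2.2.2, f4c_neg_simple.2.1]
        exact ⟨hxK 24 (by simp) a, hxK 23 (by simp) a⟩
    -- `u` centralises
    have hhC := (hKle hhK).2
    have huC : u * (h8xU chevF4 hB 39 1 * h8xU chevF4 hB 45 1) * u⁻¹ =
        h8xU chevF4 hB 39 1 * h8xU chevF4 hB 45 1 := by
      have hhc : h * (h8xU chevF4 hB 39 1 * h8xU chevF4 hB 45 1) * h⁻¹ =
          h8xU chevF4 hB 39 1 * h8xU chevF4 hB 45 1 := by
        rw [mul_inv_eq_iff_eq_mul]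
        exact (Subgroup.mem_centralizer_iff.mp hhC _ rfl).symm
      calc u * (h8xU chevF4 hB 39 1 * h8xU chevF4 hB 45 1) * u⁻¹
          = u * (h * (l' * (h8xU chevF4 hB 39 1 * h8xU chevF4 hB 45 1) * l'⁻¹) * h⁻¹) * u⁻¹ := by
            rw [hl'c, hhc]
        _ = u * (h * l') * (h8xU chevF4 hB 39 1 * h8xU chevF4 hB 45 1) * (u * (h * l'))⁻¹ := by
            group
        _ = h8xU chevF4 hB 39 1 * h8xU chevF4 hB 45 1 := hcen
    have huK : u ∈ K := hKUK (f4c_CU hB hC hO hO2 hm u huU huC)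
    exact Subgroup.mul_mem _ huK (Subgroup.mul_mem _ hhK hl'K)
  · exact hKle

end Cfsg.Agent.Lib.helper14
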