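import Mathlib
import Cfsg.Prelude.Def_ChevStructure
import Cfsg.Agent.Lib.helper14.F4Cj

/-!
# Project F4C (S2179): type `F₄`, the centraliser of `x_47(1) x_44(1)` in characteristic two
-/

set_option autoImplicit false

namespace Cfsg.Agent.Lib.helper14

open Cfsg.Lie Cfsg.Lie.ChevalleyDatum Cfsg.Agent.Lib.helper8

universe u

variable {F : Type u} [Field F]

theorem f4c_comm_44 : f4cCommChk chevF4 [44] 2 = true := by decide +kernel
theorem f4c_stab_44 : f4cStabChk chevF4 [44] 2 = true := by decide +kernel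
theorem f4c_comm_47 : f4cCommChk chevF4 [47] 2 = true := by decide +kernel
theorem f4c_stab_47 : f4cStabChk chevF4 [47] 2 = true := by decide +kernel

/-- the generators of the centraliser commute with `x_44` and `x_47` modulo `2` -/
theorem f4c_ct_cent1 : ∀ s < 48, (chevF4.IsPosRoot s ∨ s ∈ [20, 22]) →
    ∀ r ∈ [44, 47], s ≠ chevF4.negIdx.getD r 0 ∧
      (s ≠ r → ∀ c ∈ chevF4.commTerms r s, c.2.1 % 2 = 0) := by decide +kernel

theorem f4c_cart4447 : chevF4.cartan 0 44 = 1 ∧ chevF4.cartan 1 44 = 0 ∧ chevF4.cartan 2 44 = 0 ∧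
    chevF4.cartan 3 44 = 0 ∧ chevF4.cartan 0 47 = 0 ∧ chevF4.cartan 1 47 = 0 ∧
    chevF4.cartan 2 47 = 0 ∧ chevF4.cartan 3 47 = 1 := by decide +kernel

variable (hB : H8Base.{u} chevF4)

local notation "𝔵" => h8xU chevF4 hB

/-- root elements commuting with `x_47(1) x_44(1)` -/
theorem f4c_gen_comm1 (hC : H8CommAll.{u} chevF4) (hm : (((2 : ℕ) : ℤ) : F) = 0) (s : ℕ)
    (hs : s < 48) (hs' : chevF4.IsPosRoot s ∨ s ∈ [20, 22]) (a : F) :
    𝔵 s a * (𝔵 47 1 * 𝔵 44 1) = (𝔵 47 1 * 𝔵 44 1) * 𝔵 s a := by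
  have h := f4c_ct_cent1 s hs hs'
  obtain ⟨h1, h2⟩ := h 44 (by simp)
  obtain ⟨h3, h4⟩ := h 47 (by simp)
  have e1 := h8comm_of_zero chevF4 hB hC 44 s (by rw [f4c_nroots]; omega)
    (by rw [f4c_nroots]; exact hs) h1 (fun hne c hc => f4c_coef_zero 2 hm _ (h2 hne c hc)) 1 a
  have e2 := h8comm_of_zero chevF4 hB hC 47 s (by rw [f4c_nroots]; omega)
    (by rw [f4c_nroots]; exact hs) h3 (fun hne c hc => f4c_coef_zero 2 hm _ (h4 hne c hc)) 1 a
  rw [← mul_assoc, e2, mul_assoc, e1, ← mul_assoc]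

/-- a `B`-conjugate of `x_47(1) x_44(1)` -/
theorem f4c_B_conj1 (hC : H8CommAll.{u} chevF4) (hO : H8Ord chevF4) (hO2 : H8Ord2 chevF4)
    (hm : (((2 : ℕ) : ℤ) : F) = 0) (b : GL chevF4.Idx F) (hb : b ∈ chevF4.borelSubgroup F) :
    ∃ c : ℕ → F, (∀ r ∈ [44, 47], c r ≠ 0) ∧
      b * (𝔵 47 1 * 𝔵 44 1) * b⁻¹ = f4cLW chevF4 hB f4cR1 c := by
  have hM := cfMax_all chevF4 f4c_mem_list
  obtain ⟨c1, hc1, e1⟩ := f4c_B_conj_lead chevF4 hB hC hO hO2 hM 44 []
    (f4c_pos 44 (by omega) (by omega)) (by simp) (by decide) 2 hm f4c_comm_44 f4c_stab_44 b hb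
  obtain ⟨c2, hc2, e2⟩ := f4c_B_conj_lead chevF4 hB hC hO hO2 hM 47 []
    (f4c_pos 47 (by omega) (by omega)) (by simp) (by decide) 2 hm f4c_comm_47 f4c_stab_47 b hb
  refine ⟨fun r => if r = 44 then c1 44 else c2 47, ?_, ?_⟩
  · intro r hr
    simp only [List.mem_cons, List.not_mem_nil, or_false] at hr
    rcases hr with rfl | rfl
    · show (if 44 = 44 then c1 44 else c2 47) ≠ 0
      rw [if_pos rfl]; exact hc1
    · show (if 47 = 44 then c1 44 else c2 47) ≠ 0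
      rw [if_neg (by omega)]; exact hc2
  · have e0 : b * (𝔵 47 1 * 𝔵 44 1) * b⁻¹ = (b * 𝔵 47 1 * b⁻¹) * (b * 𝔵 44 1 * b⁻¹) := by group
    rw [e0, e1, e2]
    simp only [f4cR1, f4cLW_cons, f4cLW_nil, mul_one]
    rw [if_pos trivial, if_neg (show ¬ ((47 : ℕ) = 44) by omega)]
    exact f4c_comm_of_chk chevF4 hB hC f4cR1 2 hm f4c_comm_R1 44 47 (by decide) (by decide) _ _

/-- the crux for `x_47(1) x_44(1)` -/
theorem f4c_crux1 (hA : H8ReflAll chevF4) (hC : H8CommAll.{u} chevF4) (hBN : H8BN chevF4)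
    (hW : H8BN2 chevF4) (hO : H8Ord chevF4) (hO2 : H8Ord2 chevF4)
    (hm : (((2 : ℕ) : ℤ) : F) = 0) (g : GL chevF4.Idx F) (hgG : g ∈ chevF4.group F)
    (hcen : g * (𝔵 47 1 * 𝔵 44 1) * g⁻¹ = 𝔵 47 1 * 𝔵 44 1) :
    g ∈ Subgroup.normalizer ((f4cQ chevF4 hB F f4cR1 : Subgroup (GL chevF4.Idx F)) :
      Set (GL chevF4.Idx F)) := by
  apply f4c_crux chevF4 hB hA hC hBN hW hO hO2 f4cR1 [44, 47] 2 hm f4c_stab_R1
    (f4c_fil f4cR1 (by simp)) f4cWs1 f4c_ws1_rank f4c_ws1_pos f4c_ws1_cl (𝔵 47 1 * 𝔵 44 1)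
    (fun b hb => f4c_B_conj1 hB hC hO hO2 hm b hb) ?_ ?_ g hgG hcen
  · intro r hr
    simp only [List.mem_cons, List.not_mem_nil, or_false] at hr
    rcases hr with rfl | rfl
    · exact ⟨by decide, f4c_pos 44 (by omega) (by omega)⟩
    · exact ⟨by decide, f4c_pos 47 (by omega) (by omega)⟩
  · intro w hw h0
    obtain ⟨h44, h47⟩ := f4c_stab1 w hw (h0 44 (by simp)) (h0 47 (by simp))
    constructor
    · intro s hs
      simp only [f4cR1, List.mem_cons, List.not_mem_nil, or_false] at hs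
      rcases hs with rfl | rfl
      · rw [h44]; decide
      · rw [h47]; decide
    · intro s hs
      simp only [f4cR1, List.mem_cons, List.not_mem_nil, or_false] at hs
      rcases hs with rfl | rfl
      · exact ⟨44, by decide, h44⟩
      · exact ⟨47, by decide, h47⟩

/-- the simple reflections normalising `f4cQ f4cR1` are `n₂` and `n₃` -/
theorem f4c_J1 (hA : H8ReflAll chevF4) (hC : H8CommAll.{u} chevF4) (hO2 : H8Ord2 chevF4)
    (hm : (((2 : ℕ) : ℤ) : F) = 0) (i : ℕ) (hi : i < chevF4.rank)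
    (h : h8nU chevF4 hB (chevF4.simple i) (1 : F) ∈ Subgroup.normalizer
      ((f4cQ chevF4 hB F f4cR1 : Subgroup (GL chevF4.Idx F)) : Set (GL chevF4.Idx F))) :
    i = 1 ∨ i = 2 := by
  have hi4 : i < 4 := by rwa [f4c_rank] at hi
  by_contra hne
  have h03 : i = 0 ∨ i = 3 := by omega
  have hlt : ∀ s, s < 48 → s < chevF4.nroots := fun s hs => by rw [f4c_nroots]; exact hs
  rcases h03 with rfl | rfl
  · obtain ⟨η, hη, hact⟩ := h8act_nU (F := F) chevF4 hB hA 0 hi 44 (hlt 44 (by omega))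
    rw [f4c_refl_facts.2.2.1] at hact
    have hmem := (Subgroup.mem_normalizer_iff.mp h (𝔵 44 1)).mp
      (f4cQ_mem chevF4 hB f4cR1 44 (by decide) 1)
    rw [hact 1] at hmem
    have := f4c_x_mem_Q_zero chevF4 hB hC hO2 f4cR1 (by decide) 2 hm f4c_comm_R1
      (f4c_fil f4cR1 (by simp)) 40 (f4c_pos 40 (by omega) (by omega)) (by decide)
      (f4c_fil [40] (by simp)) _ hmem
    rw [mul_one] at this
    exact hη this
  · obtain ⟨η, hη, hact⟩ := h8act_nU (F := F) chevF4 hB hA 3 hi 47 (hlt 47 (by omega))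
    rw [f4c_refl_facts.2.2.2] at hact
    have hmem := (Subgroup.mem_normalizer_iff.mp h (𝔵 47 1)).mp
      (f4cQ_mem chevF4 hB f4cR1 47 (by decide) 1)
    rw [hact 1] at hmem
    have := f4c_x_mem_Q_zero chevF4 hB hC hO2 f4cR1 (by decide) 2 hm f4c_comm_R1
      (f4c_fil f4cR1 (by simp)) 46 (f4c_pos 46 (by omega) (by omega)) (by decide)
      (f4c_fil [46] (by simp)) _ hmem
    rw [mul_one] at this
    exact hη this

end Cfsg.Agent.Lib.helper14
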