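import Mathlib
import Cfsg.Prelude.Def_ChevStructure
import Cfsg.Agent.Lib.helper14.F4Ck

/-!
# Project F4C (S2179): type `F₄`, the centraliser of `x_47(1) x_44(1)` in characteristic two
-/

set_option autoImplicit false

namespace Cfsg.Agent.Lib.helper14

open Cfsg.Lie Cfsg.Lie.ChevalleyDatum Cfsg.Agent.Lib.helper8

universe u

variable {F : Type u} [Field F]

theorem f4c_cent1 (hm : (((2 : ℕ) : ℤ) : F) = 0) (w : GL chevF4.Idx F)
    (hw : (w : Matrix chevF4.Idx chevF4.Idx F) = chevF4.x F 47 1 * chevF4.x F 44 1) :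
    chevF4.group F ⊓ Subgroup.centralizer {w} =
      chevF4.posUnipotent F ⊔ chevF4.rootSubgroup F 20 ⊔ chevF4.rootSubgroup F 22 := by
  have hD := f4c_mem_list
  have hB := h8base_all.{u} chevF4 hD
  have hA := h8reflAll chevF4 hD
  have hC := h8commAll.{u} chevF4 hD
  have hBN := h8bn_all chevF4 hD
  have hW := h8bn2_all chevF4 hD
  obtain ⟨hO, hO2⟩ := h8ord_all chevF4 hD
  have hsc := h8scChk_all chevF4 hD
  have hw' : w = h8xU chevF4 hB 47 1 * h8xU chevF4 hB 44 1 :=
    Units.ext (by rw [hw, Units.val_mul, h8xU_val, h8xU_val])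
  subst hw'
  set K : Subgroup (GL chevF4.Idx F) :=
    chevF4.posUnipotent F ⊔ chevF4.rootSubgroup F 20 ⊔ chevF4.rootSubgroup F 22 with hK
  set S : Set (GL chevF4.Idx F) := {g : GL chevF4.Idx F | ∃ (s : ℕ) (a : F),
    (chevF4.IsPosRoot s ∨ s ∈ [20, 22]) ∧ g = h8xU chevF4 hB s a} with hS
  have hKS : K = Subgroup.closure S := by
    apply le_antisymm
    · rw [hK]
      refine sup_le (sup_le ?_ ?_) ?_
      · unfold ChevalleyDatum.posUnipotent
        apply Subgroup.closure_mono
        rintro x ⟨s, a, hs, hx⟩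
        exact ⟨s, a, Or.inl hs, Units.ext (by rw [hx, h8xU_val])⟩
      · unfold ChevalleyDatum.rootSubgroup
        apply Subgroup.closure_mono
        rintro x ⟨a, hx⟩
        exact ⟨20, a, Or.inr (by simp), Units.ext (by rw [hx, h8xU_val])⟩
      · unfold ChevalleyDatum.rootSubgroup
        apply Subgroup.closure_mono
        rintro x ⟨a, hx⟩
        exact ⟨22, a, Or.inr (by simp), Units.ext (by rw [hx, h8xU_val])⟩
    · rw [Subgroup.closure_le]
      rintro x ⟨s, a, hs, rfl⟩
      rcases hs with hs | hs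
      · exact Subgroup.mem_sup_left (Subgroup.mem_sup_left (h8xU_mem_U chevF4 hB s hs a))
      · simp only [List.mem_cons, List.not_mem_nil, or_false] at hs
        rcases hs with rfl | rfl
        · exact Subgroup.mem_sup_left (Subgroup.mem_sup_right
            (Subgroup.subset_closure ⟨a, h8xU_val chevF4 hB 20 a⟩))
        · exact Subgroup.mem_sup_right (Subgroup.subset_closure ⟨a, h8xU_val chevF4 hB 22 a⟩)
  have hxK : ∀ s, (chevF4.IsPosRoot s ∨ s ∈ [20, 22]) → ∀ a : F, h8xU chevF4 hB s a ∈ K := by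
    intro s hs a
    rw [hKS]
    exact Subgroup.subset_closure ⟨s, a, hs, rfl⟩
  have hKle : K ≤ chevF4.group F ⊓
      Subgroup.centralizer {h8xU chevF4 hB 47 (1 : F) * h8xU chevF4 hB 44 1} := by
    rw [hKS, Subgroup.closure_le]
    rintro x ⟨s, a, hs, rfl⟩
    rw [SetLike.mem_coe, Subgroup.mem_inf]
    refine ⟨h8xU_mem_group chevF4 hB s a, ?_⟩
    rw [Subgroup.mem_centralizer_iff]
    intro y hy
    rw [Set.mem_singleton_iff.mp hy]
    have hs48 : s < 48 := by
      rcases hs with hs | hs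
      · exact (f4c_pos_ge s hs).2
      · have : ∀ x ∈ [20, 22], x < 48 := by decide
        exact this s hs
    exact (f4c_gen_comm1 hB hC hm s hs48 hs a).symm
  apply le_antisymm
  · rintro g ⟨hgG, hgC⟩
    have hcen : g * (h8xU chevF4 hB 47 1 * h8xU chevF4 hB 44 1) * g⁻¹ =
        h8xU chevF4 hB 47 1 * h8xU chevF4 hB 44 1 := by
      rw [mul_inv_eq_iff_eq_mul]
      exact (Subgroup.mem_centralizer_iff.mp hgC _ rfl).symm
    have hgP := f4c_crux1 hB hA hC hBN hW hO hO2 hm g hgG hcen
    have hBP := f4c_B_le_normQ (F := F) chevF4 hB hC f4cR1 2 hm f4c_stab_R1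
    have hover := h8overgroup chevF4 hB hA hC hBN hW hO2 _ hBP ⟨hgP, hgG⟩
    have hnL : Subgroup.closure {g : GL chevF4.Idx F | ∃ i < chevF4.rank,
        g = h8nU chevF4 hB (chevF4.simple i) (1 : F) ∧ g ∈ Subgroup.normalizer
          ((f4cQ chevF4 hB F f4cR1 : Subgroup (GL chevF4.Idx F)) : Set (GL chevF4.Idx F))} ≤ K := by
      rw [Subgroup.closure_le]
      rintro x ⟨i, hi, rfl, hxP⟩
      rw [SetLike.mem_coe, h8nU_eq]
      rcases f4c_J1 hB hA hC hO2 hm i hi hxP with rfl | rfl
      · rw [f4c_simple.2.1, f4c_negIdx 27 (by omega)]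
        exact Subgroup.mul_mem _ (Subgroup.mul_mem _
          (hxK 27 (Or.inl (f4c_pos 27 (by omega) (by omega))) _) (hxK 20 (Or.inr (by simp)) _))
          (hxK 27 (Or.inl (f4c_pos 27 (by omega) (by omega))) _)
      · rw [f4c_simple.2.2.1, f4c_negIdx 25 (by omega)]
        exact Subgroup.mul_mem _ (Subgroup.mul_mem _
          (hxK 25 (Or.inl (f4c_pos 25 (by omega) (by omega))) _) (hxK 22 (Or.inr (by simp)) _))
          (hxK 25 (Or.inl (f4c_pos 25 (by omega) (by omega))) _)
    have hHN : chevF4.diagonalSubgroup F ≤ Subgroup.normalizer (K : Set (GL chevF4.Idx F)) := by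
      intro h hh
      rw [hKS]
      have hact := h8perm_H_id chevF4 hB h hh
      have hact' := h8perm_H_id chevF4 hB h⁻¹ (Subgroup.inv_mem _ hh)
      have hlt : ∀ s, (chevF4.IsPosRoot s ∨ s ∈ [20, 22]) → s < chevF4.nroots := by
        intro s hs
        rcases hs with hs | hs
        · exact hs.1
        · rw [f4c_nroots]
          have : ∀ x ∈ [20, 22], x < 48 := by decide
          exact this s hs
      apply h8_mem_normalizer_closure
      · rintro x ⟨s, a, hs, rfl⟩
        obtain ⟨c, _, hc⟩ := hact s (hlt s hs)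
        rw [hc]
        exact Subgroup.subset_closure ⟨s, _, hs, rfl⟩
      · rintro x ⟨s, a, hs, rfl⟩
        obtain ⟨c, _, hc⟩ := hact' s (hlt s hs)
        have := hc a
        rw [inv_inv] at this
        rw [this]
        exact Subgroup.subset_closure ⟨s, _, hs, rfl⟩
    have hgLH : g ∈ K ⊔ chevF4.diagonalSubgroup F := by
      have : chevF4.borelSubgroup F ⊔ Subgroup.closure {g : GL chevF4.Idx F | ∃ i < chevF4.rank,
          g = h8nU chevF4 hB (chevF4.simple i) (1 : F) ∧ g ∈ Subgroup.normalizer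
            ((f4cQ chevF4 hB F f4cR1 : Subgroup (GL chevF4.Idx F)) : Set (GL chevF4.Idx F))} ≤
          K ⊔ chevF4.diagonalSubgroup F := by
        apply sup_le
        · unfold ChevalleyDatum.borelSubgroup
          exact sup_le (le_trans (le_trans le_sup_left le_sup_left) le_sup_left) le_sup_right
        · exact le_trans hnL le_sup_left
      exact this hover
    have hprod := Subgroup.coe_mul_of_right_le_normalizer_left K (chevF4.diagonalSubgroup F) hHN
    have hgm : g ∈ ((K ⊔ chevF4.diagonalSubgroup F : Subgroup (GL chevF4.Idx F)) :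
        Set (GL chevF4.Idx F)) := hgLH
    rw [hprod] at hgm
    obtain ⟨l, hl, h, hh, rfl⟩ := hgm
    have hhC : h ∈ Subgroup.centralizer
        {h8xU chevF4 hB 47 (1 : F) * h8xU chevF4 hB 44 1} := by
      have : h = l⁻¹ * (l * h) := by group
      rw [this]
      exact Subgroup.mul_mem _ (Subgroup.inv_mem _ (hKle hl).2) hgC
    suffices hhL : h ∈ K from Subgroup.mul_mem _ hl hhL
    obtain ⟨γ, hγ, hact, hword⟩ := f4c_H_act chevF4 hB hsc h hh
    have h44lt : 44 < chevF4.nroots := by rw [f4c_nroots]; omega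
    have h47lt : 47 < chevF4.nroots := by rw [f4c_nroots]; omega
    set χ1 : F := ∏ i ∈ Finset.range chevF4.rank, γ i ^ (chevF4.cartan i 44) with hχ1
    set χ2 : F := ∏ i ∈ Finset.range chevF4.rank, γ i ^ (chevF4.cartan i 47) with hχ2
    have e1 : h8xU chevF4 hB 47 (χ2 * 1) * h8xU chevF4 hB 44 (χ1 * 1) =
        h8xU chevF4 hB 47 1 * h8xU chevF4 hB 44 1 := by
      rw [← hact 47 h47lt 1, ← hact 44 h44lt 1]
      have hc : h * (h8xU chevF4 hB 47 1 * h8xU chevF4 hB 44 1) * h⁻¹ =
          h8xU chevF4 hB 47 1 * h8xU chevF4 hB 44 1 := by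
        rw [mul_inv_eq_iff_eq_mul]
        exact (Subgroup.mem_centralizer_iff.mp hhC _ rfl).symm
      rw [← hc]; group
    have CM : ∀ x y : F, h8xU chevF4 hB 47 y * h8xU chevF4 hB 44 x =
        h8xU chevF4 hB 44 x * h8xU chevF4 hB 47 y := fun x y =>
      f4c_comm_of_chk chevF4 hB hC f4cR1 2 hm f4c_comm_R1 44 47 (by decide) (by decide) x y
    have e2 : f4cLW chevF4 hB f4cR1 (fun r => if r = 44 then χ1 * 1 else χ2 * 1) =
        f4cLW chevF4 hB f4cR1 (fun _ => (1 : F)) := by
      simp only [f4cR1, f4cLW_cons, f4cLW_nil, mul_one]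
      rw [if_pos trivial, if_neg (show ¬ ((47 : ℕ) = 44) by omega), ← CM, ← CM]
      rw [mul_one, mul_one] at e1
      exact e1
    rw [f4cLW_eq_W chevF4 hB f4cR1 (f4c_fil f4cR1 (by simp)),
      f4cLW_eq_W chevF4 hB f4cR1 (f4c_fil f4cR1 (by simp))] at e2
    have u44 := f4c_W_unique0 chevF4 hB hO2 _ _ e2 44 (f4c_pos 44 (by omega) (by omega))
    have u47 := f4c_W_unique0 chevF4 hB hO2 _ _ e2 47 (f4c_pos 47 (by omega) (by omega))
    simp only [f4cR1, List.mem_cons, List.not_mem_nil, or_false, true_or, or_true, if_true,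
      mul_one] at u44 u47
    norm_num at u44 u47
    have hγ0 : γ 0 = 1 := by
      rw [hχ1, f4c_rank, Finset.prod_range_succ, Finset.prod_range_succ, Finset.prod_range_succ,
        Finset.prod_range_succ, Finset.prod_range_zero, f4c_cart4447.1, f4c_cart4447.2.1,
        f4c_cart4447.2.2.1, f4c_cart4447.2.2.2.1, zpow_zero, zpow_zero, zpow_zero, zpow_one,
        one_mul, mul_one, mul_one, mul_one] at u44
      exact u44
    have hγ3 : γ 3 = 1 := by
      rw [hχ2, f4c_rank, Finset.prod_range_succ, Finset.prod_range_succ, Finset.prod_range_succ,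
        Finset.prod_range_succ, Finset.prod_range_zero, f4c_cart4447.2.2.2.2.1,
        f4c_cart4447.2.2.2.2.2.1, f4c_cart4447.2.2.2.2.2.2.1, f4c_cart4447.2.2.2.2.2.2.2,
        zpow_zero, zpow_zero, zpow_zero, zpow_one, one_mul, mul_one, mul_one, one_mul] at u47
      exact u47
    rw [hword]
    apply f4c_H_mem chevF4 hB γ K
    intro i hi
    rw [f4c_rank] at hi
    have : i = 0 ∨ i = 1 ∨ i = 2 ∨ i = 3 := by omega
    rcases this with rfl | rfl | rfl | rfl
    · exact Or.inl hγ0
    · right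
      intro a
      rw [f4c_simple.2.1, f4c_neg_simple.2.2.1]
      exact ⟨hxK 27 (Or.inl (f4c_pos 27 (by omega) (by omega))) a, hxK 20 (Or.inr (by simp)) a⟩
    · right
      intro a
      rw [f4c_simple.2.2.1, f4c_neg_simple.2.2.2]
      exact ⟨hxK 25 (Or.inl (f4c_pos 25 (by omega) (by omega))) a, hxK 22 (Or.inr (by simp)) a⟩
    · exact Or.inl hγ3
  · exact hKle

end Cfsg.Agent.Lib.helper14
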