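import Mathlib
import Cfsg.Prelude.Def_GeometricClasses
import Cfsg.Agent.Lib.helper14.FldA

set_option autoImplicit false

/-!
# An element `λ + (rank one)` of `SL_n`, `n ≥ 3`, is conjugate to no element normalizing a
quadratic field subalgebra
-/

namespace Cfsg.Agent.Lib.helper14.FldB

open Matrix Module

variable {F : Type*} [Field F] {n : ℕ}

theorem no_conj_rank_one (hn : 3 ≤ n) (K : Subalgebra F (Matrix (Fin n) (Fin n) F))
    (hK : Cfsg.Geo.IsFieldSubalgebra 2 K)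
    (x P : Matrix.SpecialLinearGroup (Fin n) F) (l c : F) (hl : l ≠ 0) (hc : c ≠ 0)
    (i₀ j₀ : Fin n)
    (hx : ∀ w : Fin n → F, (x : Matrix (Fin n) (Fin n) F) *ᵥ w =
      l • w + (c * w j₀) • (Pi.single i₀ (1 : F) : Fin n → F))
    (hP : P⁻¹ * x * P ∈ FldA.NK K) : False := by
  classical
  obtain ⟨κ, T, D, hκK, _, _, _, hκns⟩ := FldA.exists_gen (by omega) K hK
  set Pm : Matrix (Fin n) (Fin n) F := (P : Matrix (Fin n) (Fin n) F) with hPm
  set Pi' : Matrix (Fin n) (Fin n) F :=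
    ((P⁻¹ : Matrix.SpecialLinearGroup (Fin n) F) : Matrix (Fin n) (Fin n) F) with hPi'
  have hPPi : Pm * Pi' = 1 := by
    rw [hPm, hPi', ← Matrix.SpecialLinearGroup.coe_mul, mul_inv_cancel,
      Matrix.SpecialLinearGroup.coe_one]
  have hPiP : Pi' * Pm = 1 := by
    rw [hPm, hPi', ← Matrix.SpecialLinearGroup.coe_mul, inv_mul_cancel,
      Matrix.SpecialLinearGroup.coe_one]
  set Y : Matrix (Fin n) (Fin n) F :=
    ((P⁻¹ * x * P : Matrix.SpecialLinearGroup (Fin n) F) : Matrix (Fin n) (Fin n) F) with hY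
  set Yi : Matrix (Fin n) (Fin n) F :=
    (((P⁻¹ * x * P)⁻¹ : Matrix.SpecialLinearGroup (Fin n) F) : Matrix (Fin n) (Fin n) F) with hYi
  have hYYi : Y * Yi = 1 := by
    rw [hY, hYi, ← Matrix.SpecialLinearGroup.coe_mul, mul_inv_cancel,
      Matrix.SpecialLinearGroup.coe_one]
  have hYiY : Yi * Y = 1 := by
    rw [hY, hYi, ← Matrix.SpecialLinearGroup.coe_mul, inv_mul_cancel,
      Matrix.SpecialLinearGroup.coe_one]
  have hYeq : Y = Pi' * (x : Matrix (Fin n) (Fin n) F) * Pm := by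
    rw [hY, Matrix.SpecialLinearGroup.coe_mul, Matrix.SpecialLinearGroup.coe_mul]
  set u : Fin n → F := Pi' *ᵥ (Pi.single i₀ (1 : F) : Fin n → F) with hu
  have hu0 : u ≠ 0 := by
    intro h
    have h1 : Pm *ᵥ u = (Pi.single i₀ (1 : F) : Fin n → F) := by
      rw [hu, Matrix.mulVec_mulVec, hPPi, Matrix.one_mulVec]
    rw [h, Matrix.mulVec_zero] at h1
    have := congrFun h1 i₀
    simp at this
  let φ : (Fin n → F) →ₗ[F] F :=
    { toFun := fun v => c * (Pm *ᵥ v) j₀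
      map_add' := fun v w => by rw [Matrix.mulVec_add, Pi.add_apply, mul_add]
      map_smul' := fun a v => by
        rw [Matrix.mulVec_smul, Pi.smul_apply, smul_eq_mul, RingHom.id_apply, smul_eq_mul]
        ring }
  have hφ : ∀ v, φ v = c * (Pm *ᵥ v) j₀ := fun v => rfl
  have hYv : ∀ v, Y *ᵥ v = l • v + φ v • u := by
    intro v
    rw [hYeq, ← Matrix.mulVec_mulVec, ← Matrix.mulVec_mulVec, hx, Matrix.mulVec_add,
      Matrix.mulVec_smul, Matrix.mulVec_smul, Matrix.mulVec_mulVec, hPiP, Matrix.one_mulVec, hφ]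
  -- a vector with φ = 1
  obtain ⟨v₀, hv₀⟩ : ∃ v₀, φ v₀ = 1 := by
    refine ⟨c⁻¹ • (Pi' *ᵥ (Pi.single j₀ (1 : F) : Fin n → F)), ?_⟩
    rw [hφ, Matrix.mulVec_smul, Matrix.mulVec_mulVec, hPPi, Matrix.one_mulVec, Pi.smul_apply,
      Pi.single_eq_same, smul_eq_mul, mul_one, mul_inv_cancel₀ hc]
  rw [FldA.mem_NK] at hP
  -- Step 1: `Y` commutes with `K`
  have hcomm : ∀ m : Matrix (Fin n) (Fin n) F, m ∈ K → Y * m = m * Y := by
    intro m hm
    set m' : Matrix (Fin n) (Fin n) F := Y * m * Yi with hm'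
    have hm'K : m' ∈ K := (hP m).mp hm
    have hm'Y : m' * Y = Y * m := by
      rw [hm', Matrix.mul_assoc, hYiY, Matrix.mul_one]
    let Ψ : (Fin n → F) →ₗ[F] F × F := φ.prod (φ.comp (Matrix.toLin' m))
    have hker : LinearMap.ker Ψ ≠ ⊥ := by
      apply LinearMap.ker_ne_bot_of_finrank_lt
      rw [Module.finrank_prod, Module.finrank_self, Module.finrank_fin_fun]
      omega
    obtain ⟨v, hvker, hv0⟩ := Submodule.exists_mem_ne_zero_of_ne_bot hker
    rw [LinearMap.mem_ker] at hvker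
    have hφv : φ v = 0 := congrArg Prod.fst hvker
    have hφmv : φ (m *ᵥ v) = 0 := by
      have := congrArg Prod.snd hvker
      simpa [Ψ] using this
    have h1 : Y *ᵥ v = l • v := by rw [hYv, hφv, zero_smul, add_zero]
    have h2 : Y *ᵥ (m *ᵥ v) = l • (m *ᵥ v) := by rw [hYv, hφmv, zero_smul, add_zero]
    have h3 : (m' - m) *ᵥ v = 0 := by
      have e1 : m' *ᵥ (Y *ᵥ v) = Y *ᵥ (m *ᵥ v) := by
        rw [Matrix.mulVec_mulVec, Matrix.mulVec_mulVec, hm'Y]
      rw [h1, h2, Matrix.mulVec_smul] at e1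
      have e2 : l • (m' *ᵥ v - m *ᵥ v) = 0 := by rw [smul_sub, e1, sub_self]
      rw [Matrix.sub_mulVec]
      rcases smul_eq_zero.mp e2 with h | h
      · exact absurd h hl
      · exact h
    have h4 : m' - m = 0 := by
      by_contra hne
      obtain ⟨y, hyK, hy⟩ := hK.inv (m' - m) (K.sub_mem hm'K hm) hne
      have hy' : y * (m' - m) = 1 := by
        rw [← hK.comm (m' - m) (K.sub_mem hm'K hm) y hyK, hy]
      apply hv0
      calc v = (y * (m' - m)) *ᵥ v := by rw [hy', Matrix.one_mulVec]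
        _ = y *ᵥ ((m' - m) *ᵥ v) := by rw [Matrix.mulVec_mulVec]
        _ = 0 := by rw [h3, Matrix.mulVec_zero]
    rw [← hm'Y, sub_eq_zero.mp h4]
  -- Step 2: `u` is a common eigenvector
  have heig : ∀ m : Matrix (Fin n) (Fin n) F, m ∈ K → m *ᵥ u = φ (m *ᵥ v₀) • u := by
    intro m hm
    have e1 : Y *ᵥ (m *ᵥ v₀) = m *ᵥ (Y *ᵥ v₀) := by
      rw [Matrix.mulVec_mulVec, Matrix.mulVec_mulVec, hcomm m hm]
    rw [hYv, hYv, hv₀, one_smul, Matrix.mulVec_add, Matrix.mulVec_smul] at e1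
    exact (add_left_cancel e1).symm
  -- Step 3: every element of `K` is scalar
  apply hκns (φ (κ *ᵥ v₀))
  have h5 : (κ - φ (κ *ᵥ v₀) • (1 : Matrix (Fin n) (Fin n) F)) *ᵥ u = 0 := by
    rw [Matrix.sub_mulVec, heig κ hκK, Matrix.smul_mulVec, Matrix.one_mulVec, sub_self]
  by_contra hne
  have hne' : κ - φ (κ *ᵥ v₀) • (1 : Matrix (Fin n) (Fin n) F) ≠ 0 := fun h => hne (sub_eq_zero.mp h)
  have hmemK : κ - φ (κ *ᵥ v₀) • (1 : Matrix (Fin n) (Fin n) F) ∈ K :=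
    K.sub_mem hκK (K.smul_mem K.one_mem _)
  obtain ⟨y, hyK, hy⟩ := hK.inv _ hmemK hne'
  have hy' : y * (κ - φ (κ *ᵥ v₀) • (1 : Matrix (Fin n) (Fin n) F)) = 1 := by
    rw [← hK.comm _ hmemK y hyK, hy]
  apply hu0
  calc u = (y * (κ - φ (κ *ᵥ v₀) • (1 : Matrix (Fin n) (Fin n) F))) *ᵥ u := by
        rw [hy', Matrix.one_mulVec]
    _ = y *ᵥ ((κ - φ (κ *ᵥ v₀) • (1 : Matrix (Fin n) (Fin n) F)) *ᵥ u) :=
        (Matrix.mulVec_mulVec _ _ _).symm
    _ = 0 := by rw [h5, Matrix.mulVec_zero]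

end Cfsg.Agent.Lib.helper14.FldB
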