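import Mathlib
import Cfsg.Prelude.Def_GeometricClasses
import Cfsg.Agent.Lib.helper14.FldA
import Cfsg.Agent.Lib.helper14.InvD
import Cfsg.Agent.Lib.helper14.InvE
import Cfsg.Agent.Lib.helper14.SubA
import Cfsg.Agent.Lib.helper14.SubD

set_option autoImplicit false

/-!
# Quadratic field subalgebras in odd characteristic: `K = F[κ₀]`, `κ₀² = z₀` a non-square
-/

namespace Cfsg.Agent.Lib.helper14.FldC

open Matrix Module

variable {F : Type*} [Field F] {n : ℕ}

/-- odd characteristic: a generator with non-square scalar square -/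
theorem odd_gen (hn : 1 ≤ n) (K : Subalgebra F (Matrix (Fin n) (Fin n) F))
    (hK : Cfsg.Geo.IsFieldSubalgebra 2 K) (h2 : (2 : F) ≠ 0) :
    ∃ (κ₀ : Matrix (Fin n) (Fin n) F) (z₀ : F), κ₀ ∈ K ∧
      (∀ m : Matrix (Fin n) (Fin n) F, m ∈ K ↔
        ∃ a b : F, m = a • (1 : Matrix (Fin n) (Fin n) F) + b • κ₀) ∧
      κ₀ * κ₀ = z₀ • (1 : Matrix (Fin n) (Fin n) F) ∧ (∀ a : F, a * a ≠ z₀) := by
  obtain ⟨κ, T, D, hκK, hspan, hκκ, hnr, _⟩ := FldA.exists_gen hn K hK
  set h : F := T / 2 with hh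
  have hT : T = h + h := by rw [hh]; field_simp; ring
  refine ⟨κ - h • (1 : Matrix (Fin n) (Fin n) F), h * h - D,
    K.sub_mem hκK (K.smul_mem K.one_mem h), ?_, ?_, ?_⟩
  · intro m
    rw [hspan]
    constructor
    · rintro ⟨a, b, rfl⟩
      refine ⟨a + b * h, b, ?_⟩
      module
    · rintro ⟨a, b, rfl⟩
      refine ⟨a - b * h, b, ?_⟩
      module
  · rw [Matrix.sub_mul, Matrix.mul_sub, Matrix.mul_sub, hκκ]
    simp only [Matrix.smul_mul, Matrix.mul_smul, Matrix.one_mul, Matrix.mul_one, smul_smul]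
    rw [hT]
    module
  · intro a ha
    apply hnr (a + h)
    rw [hT]
    linear_combination ha

section finite
variable [Fintype F]

/-- centralizer elements of every determinant -/
theorem centralizer_dets (hodd : Fintype.card F % 2 = 1) (κ₀ : Matrix (Fin n) (Fin n) F) (z₀ : F)
    (k : ℕ) (hnk : n = 2 * k) (hk : 1 ≤ k)
    (hκ₀ : κ₀ * κ₀ = z₀ • (1 : Matrix (Fin n) (Fin n) F)) (hns : ∀ a : F, a * a ≠ z₀) (d : F) :
    ∃ s : Matrix (Fin n) (Fin n) F, s * κ₀ = κ₀ * s ∧ s.det = d := by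
  have hz₀ : z₀ ≠ 0 := fun h => hns 0 (by rw [h, mul_zero])
  obtain ⟨g, g', h1, h2, h3⟩ := InvE.planes_nonsquare κ₀ z₀ k hnk hκ₀ hns
  obtain ⟨m', hm1, hm2⟩ := InvE.centralizer_nonsquare hodd z₀ hz₀ d
  obtain ⟨s, hs1, hs2⟩ := InvA.exists_centralizer g g' h1 h2 (fun _ : Fin k => InvE.mNS z₀)
    ⟨0, by omega⟩ m' hm1
  refine ⟨s, ?_, by rw [hs2, hm2]⟩
  rw [h3]
  exact hs1

/-- two non-square `z`, `z₀` differ by a square -/
theorem exists_sqrt_ratio (hF : ringChar F ≠ 2) (z z₀ : F) (hz : ∀ a : F, a * a ≠ z)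
    (hz₀ : ∀ a : F, a * a ≠ z₀) : ∃ c : F, c ≠ 0 ∧ z = c * c * z₀ := by
  have hz0 : z ≠ 0 := fun h => hz 0 (by rw [h, mul_zero])
  have hz₀0 : z₀ ≠ 0 := fun h => hz₀ 0 (by rw [h, mul_zero])
  have h1 := SubD.nonsquare_pow hF z hz
  have h2 := SubD.nonsquare_pow hF z₀ hz₀
  have h3 : (z / z₀) ^ (Fintype.card F / 2) = 1 := by
    rw [div_pow, h1, h2]
    simp
  have h4 := (FiniteField.isSquare_iff hF (div_ne_zero hz0 hz₀0)).mpr h3
  obtain ⟨c, hc⟩ := h4
  refine ⟨c, ?_, ?_⟩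
  · rintro rfl
    rw [mul_zero] at hc
    exact (div_ne_zero hz0 hz₀0) hc
  · rw [← hc]
    field_simp

end finite

/-- two matrices with the same non-square scalar square are conjugate -/
theorem conj_of_sq (κ₀ κ' : Matrix (Fin n) (Fin n) F) (z₀ : F) (k : ℕ) (hnk : n = 2 * k)
    (h1 : κ₀ * κ₀ = z₀ • (1 : Matrix (Fin n) (Fin n) F))
    (h2 : κ' * κ' = z₀ • (1 : Matrix (Fin n) (Fin n) F)) (hns : ∀ a : F, a * a ≠ z₀) :
    ∃ Q Q' : Matrix (Fin n) (Fin n) F, Q * Q' = 1 ∧ Q' * Q = 1 ∧ κ' = Q * κ₀ * Q' := by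
  obtain ⟨g, g', hgg', hg'g, hκ₀⟩ := InvE.planes_nonsquare κ₀ z₀ k hnk h1 hns
  obtain ⟨g₄, g₄', hgg₄', hg₄'g, hκ'⟩ := InvE.planes_nonsquare κ' z₀ k hnk h2 hns
  set D := blockDiagonal (fun _ : Fin k => InvE.mNS z₀) with hD
  refine ⟨g₄ * g', g * g₄', ?_, ?_, ?_⟩
  · calc g₄ * g' * (g * g₄') = g₄ * (g' * g) * g₄' := by simp only [Matrix.mul_assoc]
      _ = 1 := by rw [hg'g, Matrix.mul_one, hgg₄']
  · calc g * g₄' * (g₄ * g') = g * (g₄' * g₄) * g' := by simp only [Matrix.mul_assoc]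
      _ = 1 := by rw [hg₄'g, Matrix.mul_one, hgg']
  · rw [hκ', hκ₀]
    calc g₄ * D * g₄' = g₄ * (g' * g) * D * (g' * g) * g₄' := by
          rw [hg'g, Matrix.mul_one, Matrix.mul_one]
      _ = g₄ * g' * (g * D * g') * (g * g₄') := by simp only [Matrix.mul_assoc]

section finite2
variable [Fintype F]

/-- `x` commuting with a square root of `z₀` is conjugate into the normalizer of `K` -/
theorem conj_commute (hodd : Fintype.card F % 2 = 1)
    (K : Subalgebra F (Matrix (Fin n) (Fin n) F)) (κ₀ : Matrix (Fin n) (Fin n) F) (z₀ : F)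
    (k : ℕ) (hnk : n = 2 * k) (hk : 1 ≤ k)
    (hspan : ∀ m : Matrix (Fin n) (Fin n) F, m ∈ K ↔
      ∃ a b : F, m = a • (1 : Matrix (Fin n) (Fin n) F) + b • κ₀)
    (hκ₀ : κ₀ * κ₀ = z₀ • (1 : Matrix (Fin n) (Fin n) F)) (hns : ∀ a : F, a * a ≠ z₀)
    (x : Matrix.SpecialLinearGroup (Fin n) F) (κ' : Matrix (Fin n) (Fin n) F)
    (hκ' : κ' * κ' = z₀ • (1 : Matrix (Fin n) (Fin n) F))
    (hx : (x : Matrix (Fin n) (Fin n) F) * κ' = κ' * (x : Matrix (Fin n) (Fin n) F)) :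
    ∃ P : Matrix.SpecialLinearGroup (Fin n) F, P⁻¹ * x * P ∈ FldA.NK K := by
  obtain ⟨Q, Q', hQQ', hQ'Q, hκQ⟩ := conj_of_sq κ₀ κ' z₀ k hnk hκ₀ hκ' hns
  obtain ⟨P, hP⟩ := FldA.conj_twist x κ₀ κ₀ κ' κ' Q Q' hQQ' hQ'Q hκQ hκQ hx
    (fun d _ => by
      obtain ⟨s, hs1, hs2⟩ := centralizer_dets hodd κ₀ z₀ k hnk hk hκ₀ hns d
      exact ⟨s, hs1, hs1, hs2⟩)
  exact ⟨P, FldA.mem_NK_of_rel K κ₀ κ₀ hspan 0 (Or.inl rfl) _ hP⟩

/-- `x` anticommuting with a square root of `z₀` is conjugate into the normalizer of `K` -/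
theorem conj_anticommute (hodd : Fintype.card F % 2 = 1)
    (K : Subalgebra F (Matrix (Fin n) (Fin n) F)) (κ₀ : Matrix (Fin n) (Fin n) F) (z₀ : F)
    (k : ℕ) (hnk : n = 2 * k) (hk : 1 ≤ k)
    (hspan : ∀ m : Matrix (Fin n) (Fin n) F, m ∈ K ↔
      ∃ a b : F, m = a • (1 : Matrix (Fin n) (Fin n) F) + b • κ₀)
    (hκ₀ : κ₀ * κ₀ = z₀ • (1 : Matrix (Fin n) (Fin n) F)) (hns : ∀ a : F, a * a ≠ z₀)
    (x : Matrix.SpecialLinearGroup (Fin n) F) (κ' : Matrix (Fin n) (Fin n) F)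
    (hκ' : κ' * κ' = z₀ • (1 : Matrix (Fin n) (Fin n) F))
    (hx : (x : Matrix (Fin n) (Fin n) F) * κ' = (-κ') * (x : Matrix (Fin n) (Fin n) F)) :
    ∃ P : Matrix.SpecialLinearGroup (Fin n) F, P⁻¹ * x * P ∈ FldA.NK K := by
  obtain ⟨Q, Q', hQQ', hQ'Q, hκQ⟩ := conj_of_sq κ₀ κ' z₀ k hnk hκ₀ hκ' hns
  have hκQ' : -κ' = Q * (-κ₀) * Q' := by
    rw [hκQ, Matrix.mul_neg, Matrix.neg_mul]
  obtain ⟨P, hP⟩ := FldA.conj_twist x κ₀ (-κ₀) κ' (-κ') Q Q' hQQ' hQ'Q hκQ hκQ' hx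
    (fun d _ => by
      obtain ⟨s, hs1, hs2⟩ := centralizer_dets hodd κ₀ z₀ k hnk hk hκ₀ hns d
      refine ⟨s, hs1, ?_, hs2⟩
      rw [Matrix.mul_neg, Matrix.neg_mul, hs1])
  refine ⟨P, FldA.mem_NK_of_rel K κ₀ (-κ₀) hspan 0 (Or.inr ?_) _ hP⟩
  rw [zero_smul, zero_sub]

end finite2

/-- a square root of `z₀` commuting with `x`, from an eigen plane decomposition of `x` -/
theorem exists_commuting_eigen (x : Matrix (Fin n) (Fin n) F) (μ : F) (a' b' : ℕ)
    (g : Matrix (Fin n) (Fin 2 × (Fin a' ⊕ Fin b')) F)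
    (g' : Matrix (Fin 2 × (Fin a' ⊕ Fin b')) (Fin n) F) (hgg' : g * g' = 1) (hg'g : g' * g = 1)
    (hx : x = g * blockDiagonal (InvD.mEig μ a' b') * g') (z₀ : F) :
    ∃ κ' : Matrix (Fin n) (Fin n) F,
      κ' * κ' = z₀ • (1 : Matrix (Fin n) (Fin n) F) ∧ x * κ' = κ' * x := by
  set D := blockDiagonal (fun _ : Fin a' ⊕ Fin b' => InvE.mNS z₀) with hD
  set E := blockDiagonal (InvD.mEig μ a' b') with hE
  have hDD : D * D = z₀ • (1 : Matrix (Fin 2 × (Fin a' ⊕ Fin b')) (Fin 2 × (Fin a' ⊕ Fin b')) F) := by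
    rw [hD, ← blockDiagonal_mul]
    have : (fun k : Fin a' ⊕ Fin b' => InvE.mNS z₀ * InvE.mNS z₀) =
        z₀ • (1 : Fin a' ⊕ Fin b' → Matrix (Fin 2) (Fin 2) F) := by
      funext k
      rw [SubD.mNS_sq]
      rfl
    rw [this, blockDiagonal_smul, blockDiagonal_one]
  have hED : E * D = D * E := by
    rw [hE, hD, ← blockDiagonal_mul, ← blockDiagonal_mul]
    congr 1
    funext i
    rcases i with i | i
    · show (μ • (1 : Matrix (Fin 2) (Fin 2) F)) * InvE.mNS z₀ =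
        InvE.mNS z₀ * (μ • (1 : Matrix (Fin 2) (Fin 2) F))
      rw [Matrix.smul_mul, Matrix.mul_smul, Matrix.one_mul, Matrix.mul_one]
    · show ((-μ) • (1 : Matrix (Fin 2) (Fin 2) F)) * InvE.mNS z₀ =
        InvE.mNS z₀ * ((-μ) • (1 : Matrix (Fin 2) (Fin 2) F))
      rw [Matrix.smul_mul, Matrix.mul_smul, Matrix.one_mul, Matrix.mul_one]
  refine ⟨g * D * g', ?_, ?_⟩
  · calc g * D * g' * (g * D * g') = g * D * (g' * g) * D * g' := by simp only [Matrix.mul_assoc]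
      _ = g * (D * D) * g' := by rw [hg'g, Matrix.mul_one, Matrix.mul_assoc g]
      _ = z₀ • (1 : Matrix (Fin n) (Fin n) F) := by
          rw [hDD, Matrix.mul_smul, Matrix.mul_one, Matrix.smul_mul, hgg']
  · rw [hx]
    calc g * E * g' * (g * D * g') = g * E * (g' * g) * D * g' := by simp only [Matrix.mul_assoc]
      _ = g * (E * D) * g' := by rw [hg'g, Matrix.mul_one, Matrix.mul_assoc g]
      _ = g * (D * E) * g' := by rw [hED]
      _ = g * D * (g' * g) * E * g' := by rw [hg'g, Matrix.mul_one, ← Matrix.mul_assoc g]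
      _ = g * D * g' * (g * E * g') := by simp only [Matrix.mul_assoc]

/-! ### `n = 2` -/

/-- normal form of a non-scalar 2×2 matrix with scalar square -/
theorem normal_form_two (x : Matrix (Fin 2) (Fin 2) F) (z : F)
    (hx : x * x = z • (1 : Matrix (Fin 2) (Fin 2) F))
    (hns : ∀ a : F, x ≠ a • (1 : Matrix (Fin 2) (Fin 2) F)) :
    ∃ g g' : Matrix (Fin 2) (Fin 2) F, g * g' = 1 ∧ g' * g = 1 ∧ x = g * !![0, z; 1, 0] * g' := by
  classical
  obtain ⟨v, hli⟩ : ∃ v : Fin 2 → F, LinearIndependent F ![v, x *ᵥ v] := by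
    by_cases h10 : x 1 0 = 0
    · by_cases h01 : x 0 1 = 0
      · have hne : x 0 0 ≠ x 1 1 := by
          intro h
          apply hns (x 0 0)
          ext i j
          fin_cases i <;> fin_cases j <;> simp [h10, h01, h]
        refine ⟨fun _ => 1, ?_⟩
        rw [LinearIndependent.pair_iff]
        intro s t h
        have e0 := congrFun h 0
        have e1 := congrFun h 1
        simp [Matrix.mulVec, dotProduct, Fin.sum_univ_two, h10, h01] at e0 e1
        have ht : t = 0 := by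
          have : t * (x 0 0 - x 1 1) = 0 := by linear_combination e0 - e1
          rcases mul_eq_zero.mp this with h' | h'
          · exact h'
          · exact absurd (sub_eq_zero.mp h') hne
        rw [ht] at e0
        simp at e0
        exact ⟨e0, ht⟩
      · refine ⟨Pi.single 1 1, ?_⟩
        rw [LinearIndependent.pair_iff]
        intro s t h
        have e0 := congrFun h 0
        have e1 := congrFun h 1
        simp [Matrix.mulVec, dotProduct, Fin.sum_univ_two] at e0 e1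
        have ht : t = 0 := by
          rcases e0 with h' | h'
          · exact h'
          · exact absurd h' h01
        rw [ht] at e1
        simp at e1
        exact ⟨e1, ht⟩
    · refine ⟨Pi.single 0 1, ?_⟩
      rw [LinearIndependent.pair_iff]
      intro s t h
      have e0 := congrFun h 0
      have e1 := congrFun h 1
      simp [Matrix.mulVec, dotProduct, Fin.sum_univ_two] at e0 e1
      have ht : t = 0 := by
        rcases e1 with h' | h'
        · exact h'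
        · exact absurd h' h10
      rw [ht] at e0
      simp at e0
      exact ⟨e0, ht⟩
  let b : Basis (Fin 2) F (Fin 2 → F) :=
    basisOfLinearIndependentOfCardEqFinrank hli (by simp)
  have hb : ∀ i, b i = ![v, x *ᵥ v] i := fun i => by
    rw [coe_basisOfLinearIndependentOfCardEqFinrank]
  have hb0 : b 0 = v := hb 0
  have hb1 : b 1 = x *ᵥ v := hb 1
  obtain ⟨g, g', hgg', hg'g, hxg⟩ := SubA.of_basis_gen x b
  refine ⟨g, g', hgg', hg'g, ?_⟩
  have hM : LinearMap.toMatrix b b (Matrix.toLin' x) = !![0, z; 1, 0] := by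
    have h0 : x *ᵥ b 0 = b 1 := by rw [hb0, hb1]
    have h1 : x *ᵥ b 1 = z • b 0 := by
      rw [hb1, hb0, Matrix.mulVec_mulVec, hx, Matrix.smul_mulVec, Matrix.one_mulVec]
    ext i j
    rw [LinearMap.toMatrix_apply, Matrix.toLin'_apply]
    fin_cases j
    · show b.repr (x *ᵥ b 0) i = _
      rw [h0, Basis.repr_self]
      fin_cases i <;> simp
    · show b.repr (x *ᵥ b 1) i = _
      rw [h1, map_smul, Basis.repr_self]
      fin_cases i <;> simp
  rw [← hM]
  exact hxg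

/-- `n = 2`: a square root of `z₀` anticommuting with `x` -/
theorem exists_anticommuting_two [Fintype F] (hodd : Fintype.card F % 2 = 1)
    (x : Matrix (Fin 2) (Fin 2) F) (z z₀ : F) (hz : z ≠ 0)
    (hx : x * x = z • (1 : Matrix (Fin 2) (Fin 2) F))
    (hns : ∀ a : F, x ≠ a • (1 : Matrix (Fin 2) (Fin 2) F)) :
    ∃ κ' : Matrix (Fin 2) (Fin 2) F,
      κ' * κ' = z₀ • (1 : Matrix (Fin 2) (Fin 2) F) ∧ x * κ' = (-κ') * x := by
  obtain ⟨g, g', hgg', hg'g, hxg⟩ := normal_form_two x z hx hns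
  open Polynomial in
  have hf2 : (X ^ 2 - C z₀ : F[X]).degree = 2 := degree_X_pow_sub_C (by decide) z₀
  open Polynomial in
  have hg2 : (C (-z) * X ^ 2 : F[X]).degree = 2 := by
    rw [degree_C_mul (neg_ne_zero.mpr hz), degree_X_pow]
    rfl
  obtain ⟨a, c, hac⟩ := FiniteField.exists_root_sum_quadratic hf2 hg2 hodd
  simp only [Polynomial.eval_sub, Polynomial.eval_pow, Polynomial.eval_X, Polynomial.eval_C,
    Polynomial.eval_mul] at hac
  set X₀ : Matrix (Fin 2) (Fin 2) F := !![0, z; 1, 0] with hX₀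
  set K₀ : Matrix (Fin 2) (Fin 2) F := !![a, -(z * c); c, -a] with hK₀
  have hKK : K₀ * K₀ = z₀ • (1 : Matrix (Fin 2) (Fin 2) F) := by
    ext i j
    fin_cases i <;> fin_cases j
    · simp [hK₀, Matrix.mul_apply, Fin.sum_univ_two]
      linear_combination hac
    · simp [hK₀, Matrix.mul_apply, Fin.sum_univ_two]
      ring
    · simp [hK₀, Matrix.mul_apply, Fin.sum_univ_two]
      ring
    · simp [hK₀, Matrix.mul_apply, Fin.sum_univ_two]
      linear_combination hac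
  have hXK : X₀ * K₀ = (-K₀) * X₀ := by
    ext i j
    fin_cases i <;> fin_cases j <;>
      simp [hK₀, hX₀, Matrix.mul_apply, Fin.sum_univ_two] <;> ring
  refine ⟨g * K₀ * g', ?_, ?_⟩
  · calc g * K₀ * g' * (g * K₀ * g') = g * K₀ * (g' * g) * K₀ * g' := by
          simp only [Matrix.mul_assoc]
      _ = g * (K₀ * K₀) * g' := by rw [hg'g, Matrix.mul_one, Matrix.mul_assoc g]
      _ = z₀ • (1 : Matrix (Fin 2) (Fin 2) F) := by
          rw [hKK, Matrix.mul_smul, Matrix.mul_one, Matrix.smul_mul, hgg']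
  · rw [hxg]
    calc g * X₀ * g' * (g * K₀ * g') = g * X₀ * (g' * g) * K₀ * g' := by
          simp only [Matrix.mul_assoc]
      _ = g * (X₀ * K₀) * g' := by rw [hg'g, Matrix.mul_one, Matrix.mul_assoc g]
      _ = g * ((-K₀) * X₀) * g' := by rw [hXK]
      _ = -(g * K₀ * (g' * g) * X₀ * g') := by
          rw [hg'g, Matrix.mul_one, Matrix.neg_mul, Matrix.mul_neg, Matrix.neg_mul,
            ← Matrix.mul_assoc g]
      _ = -(g * K₀ * g') * (g * X₀ * g') := by
          rw [Matrix.neg_mul]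
          simp only [Matrix.mul_assoc]

end Cfsg.Agent.Lib.helper14.FldC
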