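import Mathlib
import Cfsg.Prelude.Def_GeometricClasses
import Cfsg.Agent.Lib.helper14.FldA
import Cfsg.Agent.Lib.helper14.FldC

set_option autoImplicit false

/-!
# `n = 2` in characteristic 2: involutions of `SL_2` normalize a conjugate of `K`
-/

namespace Cfsg.Agent.Lib.helper14.FldD

open Matrix Module

variable {F : Type*} [Field F]

/-- companion normal form of a 2×2 matrix with irreducible quadratic minimal polynomial -/
theorem companion_two (M : Matrix (Fin 2) (Fin 2) F) (T D : F)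
    (hM : M * M = T • M - D • (1 : Matrix (Fin 2) (Fin 2) F))
    (hnr : ∀ t : F, t * t - T * t + D ≠ 0) :
    ∃ g g' : Matrix (Fin 2) (Fin 2) F, g * g' = 1 ∧ g' * g = 1 ∧ M = g * !![0, -D; 1, T] * g' := by
  classical
  set v : Fin 2 → F := Pi.single 0 1 with hv
  have hv0 : v ≠ 0 := by
    intro h
    have := congrFun h 0
    simp [hv] at this
  have hMM : M *ᵥ (M *ᵥ v) = T • (M *ᵥ v) - D • v := by
    rw [Matrix.mulVec_mulVec, hM, Matrix.sub_mulVec, Matrix.smul_mulVec, Matrix.smul_mulVec,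
      Matrix.one_mulVec]
  have hli : LinearIndependent F ![v, M *ᵥ v] := by
    rw [LinearIndependent.pair_iff]
    intro s t h
    have ht : t = 0 := by
      by_contra ht
      have hMv : M *ᵥ v = (-(t⁻¹ * s)) • v := by
        have : t • (M *ᵥ v) = -(s • v) := eq_neg_of_add_eq_zero_right h
        calc M *ᵥ v = t⁻¹ • (t • (M *ᵥ v)) := by rw [smul_smul, inv_mul_cancel₀ ht, one_smul]
          _ = (-(t⁻¹ * s)) • v := by rw [this, smul_neg, smul_smul, neg_smul]
      set l : F := -(t⁻¹ * s) with hl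
      have h1 := hMM
      rw [hMv, Matrix.mulVec_smul, hMv, smul_smul, smul_smul] at h1
      have h2 : (l * l - T * l + D) • v = 0 := by
        rw [add_smul, sub_smul, h1]
        abel
      rcases smul_eq_zero.mp h2 with h' | h'
      · exact hnr l h'
      · exact hv0 h'
    refine ⟨?_, ht⟩
    rw [ht, zero_smul, add_zero] at h
    rcases smul_eq_zero.mp h with h' | h'
    · exact h'
    · exact absurd h' hv0
  let b : Basis (Fin 2) F (Fin 2 → F) :=
    basisOfLinearIndependentOfCardEqFinrank hli (by simp)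
  have hb : ∀ i, b i = ![v, M *ᵥ v] i := fun i => by
    rw [coe_basisOfLinearIndependentOfCardEqFinrank]
  have hb0 : b 0 = v := hb 0
  have hb1 : b 1 = M *ᵥ v := hb 1
  obtain ⟨g, g', hgg', hg'g, hxg⟩ := SubA.of_basis_gen M b
  refine ⟨g, g', hgg', hg'g, ?_⟩
  have hMat : LinearMap.toMatrix b b (Matrix.toLin' M) = !![0, -D; 1, T] := by
    have h0 : M *ᵥ b 0 = b 1 := by rw [hb0, hb1]
    have h1 : M *ᵥ b 1 = T • b 1 - D • b 0 := by
      rw [hb1, hb0, hMM]
    ext i j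
    rw [LinearMap.toMatrix_apply, Matrix.toLin'_apply]
    fin_cases j
    · show b.repr (M *ᵥ b 0) i = _
      rw [h0, Basis.repr_self]
      fin_cases i <;> simp
    · show b.repr (M *ᵥ b 1) i = _
      rw [h1, map_sub, map_smul, map_smul, Basis.repr_self, Basis.repr_self]
      fin_cases i <;> simp
  rw [← hMat]
  exact hxg

/-- `n = 2`, every element a square (characteristic 2): conjugating into the normalizer -/
theorem conj_two (hsq : ∀ c : F, ∃ a : F, a * a = c)
    (K : Subalgebra F (Matrix (Fin 2) (Fin 2) F)) (hK : Cfsg.Geo.IsFieldSubalgebra 2 K)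
    (x : Matrix.SpecialLinearGroup (Fin 2) F) (z : F) (hz : z ≠ 0)
    (hx : (x : Matrix (Fin 2) (Fin 2) F) * (x : Matrix (Fin 2) (Fin 2) F) =
      z • (1 : Matrix (Fin 2) (Fin 2) F))
    (hns : ∀ a : F, (x : Matrix (Fin 2) (Fin 2) F) ≠ a • (1 : Matrix (Fin 2) (Fin 2) F)) :
    ∃ P : Matrix.SpecialLinearGroup (Fin 2) F, P⁻¹ * x * P ∈ FldA.NK K := by
  obtain ⟨κ, T, D, hκK, hspan, hκκ, hnr, _⟩ := FldA.exists_gen (by norm_num) K hK
  obtain ⟨g, g', hgg', hg'g, hxg⟩ :=
    FldC.normal_form_two (x : Matrix (Fin 2) (Fin 2) F) z hx hns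
  obtain ⟨c, hc⟩ := hsq (D / z)
  have hzc : z * c * c = D := by
    rw [mul_assoc, hc]
    field_simp
  set X₀ : Matrix (Fin 2) (Fin 2) F := !![0, z; 1, 0] with hX₀
  set K₀ : Matrix (Fin 2) (Fin 2) F := !![0, -(z * c); c, T] with hK₀
  have hKK : K₀ * K₀ = T • K₀ - D • (1 : Matrix (Fin 2) (Fin 2) F) := by
    ext i j
    fin_cases i <;> fin_cases j <;>
      simp [hK₀, Matrix.mul_apply, Fin.sum_univ_two] <;>
      first | linear_combination hzc | linear_combination -hzc | ring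
  have hXK : X₀ * K₀ = (T • (1 : Matrix (Fin 2) (Fin 2) F) - K₀) * X₀ := by
    ext i j
    fin_cases i <;> fin_cases j <;>
      simp [hK₀, hX₀, Matrix.mul_apply, Fin.sum_univ_two] <;> ring
  set κ' : Matrix (Fin 2) (Fin 2) F := g * K₀ * g' with hκ'
  have hκ'κ' : κ' * κ' = T • κ' - D • (1 : Matrix (Fin 2) (Fin 2) F) := by
    calc g * K₀ * g' * (g * K₀ * g') = g * K₀ * (g' * g) * K₀ * g' := by
          simp only [Matrix.mul_assoc]
      _ = g * (K₀ * K₀) * g' := by rw [hg'g, Matrix.mul_one, Matrix.mul_assoc g]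
      _ = T • (g * K₀ * g') - D • (1 : Matrix (Fin 2) (Fin 2) F) := by
          rw [hKK, Matrix.mul_sub, Matrix.sub_mul, Matrix.mul_smul, Matrix.mul_smul, Matrix.mul_one,
            Matrix.smul_mul, Matrix.smul_mul, hgg']
  have hxκ' : (x : Matrix (Fin 2) (Fin 2) F) * κ' =
      (T • (1 : Matrix (Fin 2) (Fin 2) F) - κ') * (x : Matrix (Fin 2) (Fin 2) F) := by
    rw [hxg]
    calc g * X₀ * g' * (g * K₀ * g') = g * X₀ * (g' * g) * K₀ * g' := by
          simp only [Matrix.mul_assoc]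
      _ = g * (X₀ * K₀) * g' := by rw [hg'g, Matrix.mul_one, Matrix.mul_assoc g]
      _ = g * ((T • (1 : Matrix (Fin 2) (Fin 2) F) - K₀) * X₀) * g' := by rw [hXK]
      _ = T • (g * X₀ * g') - g * K₀ * (g' * g) * X₀ * g' := by
          rw [hg'g, Matrix.mul_one, Matrix.sub_mul, Matrix.smul_mul, Matrix.one_mul, Matrix.mul_sub,
            Matrix.sub_mul, Matrix.mul_smul, Matrix.smul_mul, ← Matrix.mul_assoc g]
      _ = (T • (1 : Matrix (Fin 2) (Fin 2) F) - g * K₀ * g') * (g * X₀ * g') := by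
          rw [Matrix.sub_mul, Matrix.smul_mul, Matrix.one_mul]
          simp only [Matrix.mul_assoc]
  -- κ' is conjugate to κ
  obtain ⟨g₁, g₁', h11, h12, h13⟩ := companion_two κ T D hκκ hnr
  obtain ⟨g₂, g₂', h21, h22, h23⟩ := companion_two κ' T D hκ'κ' hnr
  set C : Matrix (Fin 2) (Fin 2) F := !![0, -D; 1, T] with hC
  set Q : Matrix (Fin 2) (Fin 2) F := g₂ * g₁' with hQ
  set Q' : Matrix (Fin 2) (Fin 2) F := g₁ * g₂' with hQ'
  have hQQ' : Q * Q' = 1 := by
    calc g₂ * g₁' * (g₁ * g₂') = g₂ * (g₁' * g₁) * g₂' := by simp only [Matrix.mul_assoc]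
      _ = 1 := by rw [h12, Matrix.mul_one, h21]
  have hQ'Q : Q' * Q = 1 := by
    calc g₁ * g₂' * (g₂ * g₁') = g₁ * (g₂' * g₂) * g₁' := by simp only [Matrix.mul_assoc]
      _ = 1 := by rw [h22, Matrix.mul_one, h11]
  have hκQ : κ' = Q * κ * Q' := by
    rw [h23, hQ, hQ']
    conv_rhs => rw [h13]
    calc g₂ * C * g₂' = g₂ * (g₁' * g₁) * C * (g₁' * g₁) * g₂' := by
          rw [h12, Matrix.mul_one, Matrix.mul_one]
      _ = g₂ * g₁' * (g₁ * C * g₁') * (g₁ * g₂') := by simp only [Matrix.mul_assoc]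
  have hκQ' : T • (1 : Matrix (Fin 2) (Fin 2) F) - κ' =
      Q * (T • (1 : Matrix (Fin 2) (Fin 2) F) - κ) * Q' := by
    rw [Matrix.mul_sub, Matrix.sub_mul, ← hκQ, Matrix.mul_smul, Matrix.mul_one, Matrix.smul_mul,
      hQQ']
  obtain ⟨P, hP⟩ := FldA.conj_twist x κ (T • (1 : Matrix (Fin 2) (Fin 2) F) - κ) κ'
    (T • (1 : Matrix (Fin 2) (Fin 2) F) - κ') Q Q' hQQ' hQ'Q hκQ hκQ' hxκ'
    (fun d _ => by
      obtain ⟨a, ha⟩ := hsq d
      refine ⟨a • (1 : Matrix (Fin 2) (Fin 2) F), ?_, ?_, ?_⟩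
      · rw [Matrix.smul_mul, Matrix.mul_smul, Matrix.one_mul, Matrix.mul_one]
      · rw [Matrix.smul_mul, Matrix.mul_smul, Matrix.one_mul, Matrix.mul_one]
      · rw [Matrix.det_smul, Fintype.card_fin, Matrix.det_one, ← ha]
        ring)
  exact ⟨P, FldA.mem_NK_of_rel K κ _ hspan T (Or.inr rfl) _ hP⟩

end Cfsg.Agent.Lib.helper14.FldD
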