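import Mathlib
import Cfsg.Prelude.Def_ChevStructure
import Cfsg.Agent.Lib.helper14.ChevNormVk
import Cfsg.Agent.Lib.helper8.ChevCent2
import Cfsg.Agent.Lib.helper8.ChevPair
import Cfsg.Agent.Lib.helper8.ChevBr3

/-!
# Type `G₂`: conjugates of the short root element `x_{2a+b}(1)` under `B` and `N`

Root numbering of `chevG2`: `6 = b`, `7 = a`, `8 = a+b`, `9 = 2a+b`, `10 = 3a+b`, `11 = 3a+2b`,
and `11 - r` is the negative of `r`.
-/

set_option autoImplicit false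

namespace Cfsg.Agent.Lib.helper14

open Cfsg.Lie Cfsg.Lie.ChevalleyDatum Cfsg.Agent.Lib.helper8

universe u

variable {F : Type u} [Field F]

/-- the orbit of the triple `(2a+b, 3a+b, 3a+2b)` under the Weyl group -/
def g2cT : List (ℕ × ℕ × ℕ) :=
  [(9, 10, 11), (9, 11, 10), (8, 6, 11), (8, 11, 6), (7, 5, 10), (7, 10, 5), (4, 1, 6), (4, 6, 1),
    (3, 0, 5), (3, 5, 0), (2, 0, 1), (2, 1, 0)]

theorem g2c_T_closed : ∀ p ∈ g2cT, ∀ i < 2,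
    (chevG2.reflectRoot i p.1, chevG2.reflectRoot i p.2.1, chevG2.reflectRoot i p.2.2) ∈ g2cT := by
  decide +kernel

theorem g2c_cfMax : CfMax chevG2 := cfMax_of_rows chevG2 (by decide +kernel)

theorem g2c_pos_iff : ∀ r < 12, (chevG2.IsPosRoot r ↔ 6 ≤ r) := by decide +kernel

theorem g2c_neg_iff : ∀ r < 12, (chevG2.IsNegRoot r ↔ r < 6) := by decide +kernel

theorem g2c_nroots : chevG2.nroots = 12 := by decide +kernel

theorem g2c_rank : chevG2.rank = 2 := by decide +kernel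

theorem g2c_pos (r : ℕ) (h1 : 6 ≤ r) (h2 : r < 12) : chevG2.IsPosRoot r :=
  (g2c_pos_iff r h2).mpr h1

theorem g2c_neg (r : ℕ) (h2 : r < 6) : chevG2.IsNegRoot r :=
  (g2c_neg_iff r (by omega)).mpr h2

theorem g2c_pos_ge (r : ℕ) (h : chevG2.IsPosRoot r) : 6 ≤ r ∧ r < 12 := by
  have h1 : r < 12 := by
    have := h.1
    rwa [g2c_nroots] at this
  exact ⟨(g2c_pos_iff r h1).mp h, h1⟩

theorem g2c_orbit (w : List ℕ) (hw : ∀ i ∈ w, i < chevG2.rank) :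
    (h8sW chevG2 w 9, h8sW chevG2 w 10, h8sW chevG2 w 11) ∈ g2cT := by
  induction w with
  | nil => decide
  | cons i w ih =>
    have hi : i < 2 := by
      have := hw i List.mem_cons_self
      rwa [g2c_rank] at this
    exact g2c_T_closed _ (ih (fun j hj => hw j (List.mem_cons_of_mem _ hj))) i hi

variable (hB : H8Base.{u} chevG2)

local notation "𝔵" => h8xU chevG2 hB
local notation "𝔙" k => Subgroup.closure (h8VkSet chevG2 F k)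

theorem g2c_Vk_le_U (k : ℕ) : (𝔙 k) ≤ chevG2.posUnipotent F := by
  unfold ChevalleyDatum.posUnipotent
  apply Subgroup.closure_mono
  rintro g ⟨r, t, hr, _, hg⟩
  exact ⟨r, t, hr, hg⟩

theorem g2c_E_decomp (hC : H8CommAll.{u} chevG2) (hO : H8Ord chevG2) (g : GL chevG2.Idx F)
    (hg : g ∈ 𝔙 9) : ∃ c d e : F, g = 𝔵 9 c * 𝔵 10 d * 𝔵 11 e := by
  obtain ⟨c, v, hv, e1⟩ := h8Vk_step chevG2 hB hC hO 9 (g2c_pos 9 (by omega) (by omega)) g hg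
  obtain ⟨d, v', hv', e2⟩ := h8Vk_step chevG2 hB hC hO 10 (g2c_pos 10 (by omega) (by omega)) v hv
  obtain ⟨e, v'', hv'', e3⟩ :=
    h8Vk_step chevG2 hB hC hO 11 (g2c_pos 11 (by omega) (by omega)) v' hv'
  rw [cf_Vk_top chevG2 (11 + 1) (by rw [g2c_nroots]), Subgroup.mem_bot] at hv''
  refine ⟨c, d, e, ?_⟩
  rw [e1, e2, e3, hv'', mul_one, mul_assoc]

theorem g2c_R_mem (c d e : F) : 𝔵 9 c * 𝔵 10 d * 𝔵 11 e ∈ 𝔙 9 :=
  Subgroup.mul_mem _ (Subgroup.mul_mem _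
    (cfx_mem_Vk chevG2 hB 9 9 (g2c_pos 9 (by omega) (by omega)) le_rfl c)
    (cfx_mem_Vk chevG2 hB 9 10 (g2c_pos 10 (by omega) (by omega)) (by omega) d))
    (cfx_mem_Vk chevG2 hB 9 11 (g2c_pos 11 (by omega) (by omega)) (by omega) e)

theorem g2c_R_lead (hO2 : H8Ord2 chevG2) (c d e : F)
    (h : 𝔵 9 c * 𝔵 10 d * 𝔵 11 e ∈ 𝔙 10) : c = 0 := by
  apply h8x_not_mem_Vk chevG2 hB hO2 9 (g2c_pos 9 (by omega) (by omega)) c
  have e1 : 𝔵 9 c = (𝔵 9 c * 𝔵 10 d * 𝔵 11 e) * (𝔵 10 d * 𝔵 11 e)⁻¹ := by group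
  rw [e1]
  exact Subgroup.mul_mem _ h (Subgroup.inv_mem _ (Subgroup.mul_mem _
    (cfx_mem_Vk chevG2 hB 10 10 (g2c_pos 10 (by omega) (by omega)) le_rfl d)
    (cfx_mem_Vk chevG2 hB 10 11 (g2c_pos 11 (by omega) (by omega)) (by omega) e)))

/-- a `B`-conjugate of `x_9(1)` -/
theorem g2c_B_conj (hC : H8CommAll.{u} chevG2) (hO : H8Ord chevG2) (b : GL chevG2.Idx F)
    (hb : b ∈ chevG2.borelSubgroup F) :
    ∃ c d e : F, c ≠ 0 ∧ b * 𝔵 9 1 * b⁻¹ = 𝔵 9 c * 𝔵 10 d * 𝔵 11 e := by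
  obtain ⟨g, hg, h, hh, rfl⟩ := cf_B_decomp chevG2 hB b hb
  obtain ⟨χ, hχ, hact⟩ := h8perm_H_id chevG2 hB h hh 9 (by rw [g2c_nroots]; omega)
  obtain ⟨v, hv, e⟩ := cf_conj_U chevG2 hB hC hO g2c_cfMax g hg 9
    (g2c_pos 9 (by omega) (by omega)) (χ * 1)
  obtain ⟨d, v', hv', e2⟩ :=
    h8Vk_step chevG2 hB hC hO 10 (g2c_pos 10 (by omega) (by omega)) v hv
  obtain ⟨e', v'', hv'', e3⟩ :=
    h8Vk_step chevG2 hB hC hO 11 (g2c_pos 11 (by omega) (by omega)) v' hv'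
  rw [cf_Vk_top chevG2 (11 + 1) (by rw [g2c_nroots]), Subgroup.mem_bot] at hv''
  refine ⟨χ * 1, d, e', by rw [mul_one]; exact hχ, ?_⟩
  have e0 : g * h * 𝔵 9 1 * (g * h)⁻¹ = g * (h * 𝔵 9 1 * h⁻¹) * g⁻¹ := by group
  rw [e0, hact 1, e, e2, e3, hv'']
  simp only [mul_one, mul_assoc]

/-- peeling off the root element of smallest index -/
theorem g2c_peel (hO2 : H8Ord2 chevG2) (k : ℕ) (hk : chevG2.IsPosRoot k) (a : F)
    (X Y R : GL chevG2.Idx F) (hX : X ∈ 𝔙 (k + 1)) (hY : Y ∈ 𝔙 (k + 1)) (hR : R ∈ 𝔙 (k + 1))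
    (h : X * 𝔵 k a * Y = R) : a = 0 := by
  apply h8x_not_mem_Vk chevG2 hB hO2 k hk a
  have e1 : 𝔵 k a = X⁻¹ * R * Y⁻¹ := by rw [← h]; group
  rw [e1]
  exact Subgroup.mul_mem _ (Subgroup.mul_mem _ (Subgroup.inv_mem _ hX) hR) (Subgroup.inv_mem _ hY)

include hB in
/-- big cell: `N P = R` with `N ∈ V`, `P, R ∈ U` forces `N = 1` -/
theorem g2c_UV (hN : h8NegOK chevG2 = true) (N P R : GL chevG2.Idx F)
    (hNm : N ∈ chevG2.negUnipotent F) (hP : P ∈ chevG2.posUnipotent F)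
    (hR : R ∈ chevG2.posUnipotent F) (h : N * P = R) : N = 1 ∧ P = R := by
  have e1 : N = R * P⁻¹ := by rw [← h]; group
  have h1 : N ∈ chevG2.borelSubgroup F ⊓ chevG2.negUnipotent F := by
    rw [Subgroup.mem_inf]
    refine ⟨?_, hNm⟩
    rw [e1]
    exact h8U_le_B chevG2 (Subgroup.mul_mem _ hR (Subgroup.inv_mem _ hP))
  rw [h8_B_inf_V chevG2 hB hN, Subgroup.mem_bot] at h1
  refine ⟨h1, ?_⟩
  rw [← h, h1, one_mul]

end Cfsg.Agent.Lib.helper14
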