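import Mathlib
import Cfsg.Prelude.Def_ChevStructure
import Cfsg.Agent.Lib.helper14.G2CentA
import Cfsg.Agent.Lib.helper8.ChevTits3

/-!
# Type `G₂`: an element of `G` centralising `x_{2a+b}(1)` normalises `X_{2a+b} X_{3a+b} X_{3a+2b}`
-/

set_option autoImplicit false

namespace Cfsg.Agent.Lib.helper14

open Cfsg.Lie Cfsg.Lie.ChevalleyDatum Cfsg.Agent.Lib.helper8

universe u

variable {F : Type u} [Field F]

theorem g2c_ct61 : chevG2.commTerms 6 1 = [] := by decide +kernel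

variable (hB : H8Base.{u} chevG2)

local notation "𝔵" => h8xU chevG2 hB
local notation "𝔙" k => Subgroup.closure (h8VkSet chevG2 F k)

/-- the triples of the Weyl group orbit other than `(9, 10, 11)` and `(9, 11, 10)` do not occur -/
theorem g2c_bad (hC : H8CommAll.{u} chevG2) (hBN : H8BN chevG2)
    (hO2 : H8Ord2 chevG2) (r1 r2 r3 : ℕ) (hT : (r1, r2, r3) ∈ g2cT) (hbad : r1 ≠ 9)
    (a1 a2 a3 c d e : F) (ha1 : a1 ≠ 0) (hc : c ≠ 0)
    (h : 𝔵 r1 a1 * 𝔵 r2 a2 * 𝔵 r3 a3 = 𝔵 9 c * 𝔵 10 d * 𝔵 11 e) : False := by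
  have hN := hBN.negOK
  have hRm := g2c_R_mem hB c d e
  have hRU := g2c_Vk_le_U (F := F) 9 hRm
  have hR1 : 𝔵 9 c * 𝔵 10 d * 𝔵 11 e = 1 → False := by
    intro h1
    apply hc
    apply g2c_R_lead hB hO2 c d e
    rw [h1]
    exact Subgroup.one_mem _
  generalize 𝔵 9 c * 𝔵 10 d * 𝔵 11 e = R at h hRm hRU hR1
  have pos : ∀ r, 6 ≤ r → r < 12 → chevG2.IsPosRoot r := g2c_pos
  have xm : ∀ (m l : ℕ), 6 ≤ l → l < 12 → m ≤ l → ∀ t : F, 𝔵 l t ∈ 𝔙 m :=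
    fun m l h1 h2 h3 t => cfx_mem_Vk chevG2 hB m l (g2c_pos l h1 h2) h3 t
  have xn : ∀ (l : ℕ), l < 6 → ∀ t : F, 𝔵 l t ∈ chevG2.negUnipotent F :=
    fun l h1 t => h8xU_mem_V chevG2 hB l (g2c_neg l h1) t
  have xp : ∀ (l : ℕ), 6 ≤ l → l < 12 → ∀ t : F, 𝔵 l t ∈ chevG2.posUnipotent F :=
    fun l h1 h2 t => h8xU_mem_U chevG2 hB l (g2c_pos l h1 h2) t
  have hRk : ∀ k, k ≤ 9 → R ∈ 𝔙 k := fun k hk => cfVk_anti chevG2 k 9 hk hRm
  -- all three roots negative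
  have allneg : ∀ (N : GL chevG2.Idx F), N ∈ chevG2.negUnipotent F → N = R → False := by
    intro N hNm hNR
    have := (g2c_UV hB hN N 1 R hNm (Subgroup.one_mem _) hRU (by rw [mul_one]; exact hNR)).2
    exact hR1 this.symm
  -- two negative roots, then `b`
  have nnp : ∀ (N : GL chevG2.Idx F) (a : F), N ∈ chevG2.negUnipotent F →
      N * 𝔵 6 a = R → False := by
    intro N a hNm hNR
    have h2 := (g2c_UV hB hN N (𝔵 6 a) R hNm (xp 6 (by omega) (by omega) a) hRU hNR).2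
    have h3 : a = 0 := g2c_peel hB hO2 6 (pos 6 (by omega) (by omega)) a 1 1 R
      (Subgroup.one_mem _) (Subgroup.one_mem _) (hRk 7 (by omega)) (by rw [one_mul, mul_one, h2])
    rw [h3, h8xU_zero] at h2
    exact hR1 h2.symm
  simp only [g2cT, List.mem_cons, Prod.mk.injEq, List.mem_nil_iff, or_false] at hT
  rcases hT with ⟨rfl, rfl, rfl⟩ | ⟨rfl, rfl, rfl⟩ | ⟨rfl, rfl, rfl⟩ | ⟨rfl, rfl, rfl⟩ |
    ⟨rfl, rfl, rfl⟩ | ⟨rfl, rfl, rfl⟩ | ⟨rfl, rfl, rfl⟩ | ⟨rfl, rfl, rfl⟩ | ⟨rfl, rfl, rfl⟩ |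
    ⟨rfl, rfl, rfl⟩ | ⟨rfl, rfl, rfl⟩ | ⟨rfl, rfl, rfl⟩
  · exact hbad rfl
  · exact hbad rfl
  · -- (8, 6, 11)
    have h6 : a2 = 0 := g2c_peel hB hO2 6 (pos 6 (by omega) (by omega)) a2 (𝔵 8 a1) (𝔵 11 a3) R
      (xm 7 8 (by omega) (by omega) (by omega) a1) (xm 7 11 (by omega) (by omega) (by omega) a3)
      (hRk 7 (by omega)) h
    rw [h6, h8xU_zero, mul_one] at h
    exact ha1 (g2c_peel hB hO2 8 (pos 8 (by omega) (by omega)) a1 1 (𝔵 11 a3) R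
      (Subgroup.one_mem _) (xm 9 11 (by omega) (by omega) (by omega) a3) hRm
      (by rw [one_mul]; exact h))
  · -- (8, 11, 6)
    have h6 : a3 = 0 := g2c_peel hB hO2 6 (pos 6 (by omega) (by omega)) a3 (𝔵 8 a1 * 𝔵 11 a2) 1 R
      (Subgroup.mul_mem _ (xm 7 8 (by omega) (by omega) (by omega) a1)
        (xm 7 11 (by omega) (by omega) (by omega) a2)) (Subgroup.one_mem _)
      (hRk 7 (by omega)) (by rw [mul_one]; exact h)
    rw [h6, h8xU_zero, mul_one] at h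
    exact ha1 (g2c_peel hB hO2 8 (pos 8 (by omega) (by omega)) a1 1 (𝔵 11 a2) R
      (Subgroup.one_mem _) (xm 9 11 (by omega) (by omega) (by omega) a2) hRm
      (by rw [one_mul]; exact h))
  · -- (7, 5, 10)
    have h5 : 𝔵 5 a2 = 1 := by
      have e1 : 𝔵 5 a2 * 𝔵 10 a3 = (𝔵 7 a1)⁻¹ * R := by rw [← h]; group
      exact (g2c_UV hB hN (𝔵 5 a2) (𝔵 10 a3) ((𝔵 7 a1)⁻¹ * R) (xn 5 (by omega) a2)
        (xp 10 (by omega) (by omega) a3)
        (Subgroup.mul_mem _ (Subgroup.inv_mem _ (xp 7 (by omega) (by omega) a1)) hRU) e1).1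
    rw [h5, mul_one] at h
    exact ha1 (g2c_peel hB hO2 7 (pos 7 (by omega) (by omega)) a1 1 (𝔵 10 a3) R
      (Subgroup.one_mem _) (xm 8 10 (by omega) (by omega) (by omega) a3) (hRk 8 (by omega))
      (by rw [one_mul]; exact h))
  · -- (7, 10, 5)
    have h5 : 𝔵 5 a3 = 1 := by
      have e1 : 𝔵 5 a3 * 1 = (𝔵 7 a1 * 𝔵 10 a2)⁻¹ * R := by rw [← h]; group
      exact (g2c_UV hB hN (𝔵 5 a3) 1 ((𝔵 7 a1 * 𝔵 10 a2)⁻¹ * R) (xn 5 (by omega) a3)
        (Subgroup.one_mem _)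
        (Subgroup.mul_mem _ (Subgroup.inv_mem _ (Subgroup.mul_mem _
          (xp 7 (by omega) (by omega) a1) (xp 10 (by omega) (by omega) a2))) hRU) e1).1
    rw [h5, mul_one] at h
    exact ha1 (g2c_peel hB hO2 7 (pos 7 (by omega) (by omega)) a1 1 (𝔵 10 a2) R
      (Subgroup.one_mem _) (xm 8 10 (by omega) (by omega) (by omega) a2) (hRk 8 (by omega))
      (by rw [one_mul]; exact h))
  · -- (4, 1, 6)
    exact nnp (𝔵 4 a1 * 𝔵 1 a2) a3
      (Subgroup.mul_mem _ (xn 4 (by omega) a1) (xn 1 (by omega) a2)) h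
  · -- (4, 6, 1)
    have hcomm : 𝔵 1 a3 * 𝔵 6 a2 = 𝔵 6 a2 * 𝔵 1 a3 :=
      h8comm_of_zero chevG2 hB hC 6 1 (by rw [g2c_nroots]; omega) (by rw [g2c_nroots]; omega)
        (by decide +kernel) (by
          intro _ c hc
          rw [g2c_ct61] at hc
          exact absurd hc (List.not_mem_nil)) a2 a3
    rw [mul_assoc, ← hcomm, ← mul_assoc] at h
    exact nnp (𝔵 4 a1 * 𝔵 1 a3) a2
      (Subgroup.mul_mem _ (xn 4 (by omega) a1) (xn 1 (by omega) a3)) h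
  · exact allneg _ (Subgroup.mul_mem _ (Subgroup.mul_mem _ (xn 3 (by omega) a1)
      (xn 0 (by omega) a2)) (xn 5 (by omega) a3)) h
  · exact allneg _ (Subgroup.mul_mem _ (Subgroup.mul_mem _ (xn 3 (by omega) a1)
      (xn 5 (by omega) a2)) (xn 0 (by omega) a3)) h
  · exact allneg _ (Subgroup.mul_mem _ (Subgroup.mul_mem _ (xn 2 (by omega) a1)
      (xn 0 (by omega) a2)) (xn 1 (by omega) a3)) h
  · exact allneg _ (Subgroup.mul_mem _ (Subgroup.mul_mem _ (xn 2 (by omega) a1)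
      (xn 1 (by omega) a2)) (xn 0 (by omega) a3)) h

/-- an element permuting the root subgroups `X_9, X_10, X_11` normalises their product -/
theorem g2c_norm_of_act (ν : GL chevG2.Idx F)
    (acts : ∀ s, 9 ≤ s → s < 12 → ∃ s', 9 ≤ s' ∧ s' < 12 ∧ H8Act chevG2 hB ν s s')
    (acts' : ∀ s, 9 ≤ s → s < 12 → ∃ s', 9 ≤ s' ∧ s' < 12 ∧ H8Act chevG2 hB ν s' s) :
    ν ∈ Subgroup.normalizer ((𝔙 9 : Subgroup (GL chevG2.Idx F)) : Set (GL chevG2.Idx F)) := by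
  apply h8_mem_normalizer_closure
  · rintro x ⟨s, v, hs, h9s, hx⟩
    have hx' : x = 𝔵 s v := Units.ext (by rw [hx, h8xU_val])
    have hs12 := (g2c_pos_ge s hs).2
    obtain ⟨s', h1, h2, c, _, hc⟩ := acts s h9s hs12
    rw [hx', hc]
    exact cfx_mem_Vk chevG2 hB 9 s' (g2c_pos s' (by omega) h2) h1 _
  · rintro x ⟨s, v, hs, h9s, hx⟩
    have hx' : x = 𝔵 s v := Units.ext (by rw [hx, h8xU_val])
    have hs12 := (g2c_pos_ge s hs).2
    obtain ⟨s', h1, h2, hact⟩ := acts' s h9s hs12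
    obtain ⟨c, _, hc⟩ := h8act_inv chevG2 hB ν s' s hact
    have := hc v
    rw [inv_inv] at this
    rw [hx', this]
    exact cfx_mem_Vk chevG2 hB 9 s' (g2c_pos s' (by omega) h2) h1 _

/-- the key step: the centraliser of `x_9(1)` in `G` normalises `V_9 = X_9 X_10 X_11` -/
theorem g2c_crux (hA : H8ReflAll chevG2) (hC : H8CommAll.{u} chevG2) (hBN : H8BN chevG2)
    (hW : H8BN2 chevG2) (hO : H8Ord chevG2) (hO2 : H8Ord2 chevG2) (g : GL chevG2.Idx F)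
    (hgG : g ∈ chevG2.group F) (hcen : g * 𝔵 9 1 * g⁻¹ = 𝔵 9 1) :
    g ∈ Subgroup.normalizer ((𝔙 9 : Subgroup (GL chevG2.Idx F)) : Set (GL chevG2.Idx F)) := by
  obtain ⟨b, hb, n, hn, b', hb', e⟩ := h8bruhat chevG2 hB hA hC hBN hW g hgG
  obtain ⟨h0, hh0, w, hw, rfl⟩ := h8N_word chevG2 hB hA hBN n hn
  have hBN9 := cf_B_le_normVk (F := F) chevG2 hB hC hO g2c_cfMax 9
  suffices hν : (h8nWU chevG2 hB w : GL chevG2.Idx F) ∈
      Subgroup.normalizer ((𝔙 9 : Subgroup (GL chevG2.Idx F)) : Set (GL chevG2.Idx F)) by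
    rw [e]
    exact Subgroup.mul_mem _ (Subgroup.mul_mem _ (hBN9 hb)
      (Subgroup.mul_mem _ (hBN9 (h8H_le_B chevG2 hh0)) hν)) (hBN9 hb')
  obtain ⟨c, d, e1, hc, hy⟩ := g2c_B_conj hB hC hO b' hb'
  have hb0 : (b * h0)⁻¹ ∈ chevG2.borelSubgroup F :=
    Subgroup.inv_mem _ (Subgroup.mul_mem _ hb (h8H_le_B chevG2 hh0))
  obtain ⟨c', d', e1', hc', hy'⟩ := g2c_B_conj hB hC hO (b * h0)⁻¹ hb0
  have hνeq : (h8nWU chevG2 hB w : GL chevG2.Idx F) = (b * h0)⁻¹ * g * b'⁻¹ := by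
    rw [e]; group
  have hkey : (h8nWU chevG2 hB w : GL chevG2.Idx F) * (b' * 𝔵 9 1 * b'⁻¹) *
      (h8nWU chevG2 hB w : GL chevG2.Idx F)⁻¹ = (b * h0)⁻¹ * 𝔵 9 1 * ((b * h0)⁻¹)⁻¹ := by
    have e2 : (h8nWU chevG2 hB w : GL chevG2.Idx F) * (b' * 𝔵 9 1 * b'⁻¹) *
        (h8nWU chevG2 hB w : GL chevG2.Idx F)⁻¹ =
        (b * h0)⁻¹ * (g * 𝔵 9 1 * g⁻¹) * ((b * h0)⁻¹)⁻¹ := by
      rw [hνeq]; group
    rw [e2, hcen]
  rw [hy, hy'] at hkey
  have hlt : ∀ s, s < 12 → s < chevG2.nroots := fun s hs => by rw [g2c_nroots]; exact hs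
  have a9 := h8nWU_act (F := F) chevG2 hB hA w hw 9 (hlt 9 (by omega))
  have a10 := h8nWU_act (F := F) chevG2 hB hA w hw 10 (hlt 10 (by omega))
  have a11 := h8nWU_act (F := F) chevG2 hB hA w hw 11 (hlt 11 (by omega))
  have hT := g2c_orbit w hw
  by_cases h99 : h8sW chevG2 w 9 = 9
  · -- the good cases
    have hgood : (h8sW chevG2 w 10 = 10 ∧ h8sW chevG2 w 11 = 11) ∨
        (h8sW chevG2 w 10 = 11 ∧ h8sW chevG2 w 11 = 10) := by
      simp only [g2cT, List.mem_cons, Prod.mk.injEq, List.mem_nil_iff, or_false] at hT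
      rcases hT with ⟨_, h2, h3⟩ | ⟨_, h2, h3⟩ | ⟨h1, _, _⟩ | ⟨h1, _, _⟩ | ⟨h1, _, _⟩ |
        ⟨h1, _, _⟩ | ⟨h1, _, _⟩ | ⟨h1, _, _⟩ | ⟨h1, _, _⟩ | ⟨h1, _, _⟩ | ⟨h1, _, _⟩ | ⟨h1, _, _⟩
      · exact Or.inl ⟨h2, h3⟩
      · exact Or.inr ⟨h2, h3⟩
      all_goals omega
    rw [h99] at a9
    apply g2c_norm_of_act hB
    · intro s h1 h2
      have hs : s = 9 ∨ s = 10 ∨ s = 11 := by omega
      rcases hgood with ⟨h10, h11⟩ | ⟨h10, h11⟩
      · rw [h10] at a10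
        rw [h11] at a11
        rcases hs with rfl | rfl | rfl
        · exact ⟨9, by omega, by omega, a9⟩
        · exact ⟨10, by omega, by omega, a10⟩
        · exact ⟨11, by omega, by omega, a11⟩
      · rw [h10] at a10
        rw [h11] at a11
        rcases hs with rfl | rfl | rfl
        · exact ⟨9, by omega, by omega, a9⟩
        · exact ⟨11, by omega, by omega, a10⟩
        · exact ⟨10, by omega, by omega, a11⟩
    · intro s h1 h2
      have hs : s = 9 ∨ s = 10 ∨ s = 11 := by omega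
      rcases hgood with ⟨h10, h11⟩ | ⟨h10, h11⟩
      · rw [h10] at a10
        rw [h11] at a11
        rcases hs with rfl | rfl | rfl
        · exact ⟨9, by omega, by omega, a9⟩
        · exact ⟨10, by omega, by omega, a10⟩
        · exact ⟨11, by omega, by omega, a11⟩
      · rw [h10] at a10
        rw [h11] at a11
        rcases hs with rfl | rfl | rfl
        · exact ⟨9, by omega, by omega, a9⟩
        · exact ⟨11, by omega, by omega, a11⟩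
        · exact ⟨10, by omega, by omega, a10⟩
  · -- the bad cases
    exfalso
    obtain ⟨η9, hη9, h9⟩ := a9
    obtain ⟨η10, _, h10⟩ := a10
    obtain ⟨η11, _, h11⟩ := a11
    have hsplit : (h8nWU chevG2 hB w : GL chevG2.Idx F) * (𝔵 9 c * 𝔵 10 d * 𝔵 11 e1) *
        (h8nWU chevG2 hB w : GL chevG2.Idx F)⁻¹ =
        ((h8nWU chevG2 hB w : GL chevG2.Idx F) * 𝔵 9 c * (h8nWU chevG2 hB w : GL chevG2.Idx F)⁻¹) *
        ((h8nWU chevG2 hB w : GL chevG2.Idx F) * 𝔵 10 d * (h8nWU chevG2 hB w : GL chevG2.Idx F)⁻¹) *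
        ((h8nWU chevG2 hB w : GL chevG2.Idx F) * 𝔵 11 e1 *
          (h8nWU chevG2 hB w : GL chevG2.Idx F)⁻¹) := by group
    rw [hsplit, h9, h10, h11] at hkey
    exact g2c_bad hB hC hBN hO2 _ _ _ hT h99 _ _ _ c' d' e1' (mul_ne_zero hη9 hc) hc' hkey

end Cfsg.Agent.Lib.helper14
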