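import Mathlib
import Cfsg.Prelude.Def_ChevStructure
import Cfsg.Agent.Lib.helper14.G2CentB
import Cfsg.Agent.Lib.helper8.ChevTabSC
import Cfsg.Agent.S1048

/-!
# Type `G₂`: the centraliser of the short root element `x_{2a+b}(1)` when `3 ≠ 0`
-/

set_option autoImplicit false

namespace Cfsg.Agent.Lib.helper14

open Cfsg.Lie Cfsg.Lie.ChevalleyDatum Cfsg.Agent.Lib.helper8

universe u

variable {F : Type u} [Field F]

theorem g2c_ct97 : chevG2.commTerms 9 7 = [(10, -3, 1, 1)] := by decide +kernel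

theorem g2c_ct98 : chevG2.commTerms 9 8 = [(11, -3, 1, 1)] := by decide +kernel

theorem g2c_ct_nil9 : ∀ s ∈ [5, 6, 10, 11], chevG2.commTerms 9 s = [] := by decide +kernel

theorem g2c_ct_nil7 : chevG2.commTerms 7 10 = [] ∧ chevG2.commTerms 7 11 = [] ∧
    chevG2.commTerms 8 11 = [] := by decide +kernel

theorem g2c_negIdx : ∀ r < 12, chevG2.negIdx.getD r 0 = 11 - r := by decide +kernel

theorem g2c_insub : ∀ r < 12, ((chevG2.coroot.getD r #[]).getD 0 0 = 0 ↔ (r = 5 ∨ r = 6)) := by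
  decide +kernel

theorem g2c_refl0_9 : chevG2.reflectRoot 0 9 = 8 := by decide +kernel

theorem g2c_simple : chevG2.simple 0 = 7 ∧ chevG2.simple 1 = 6 := by decide +kernel

theorem g2c_cart9 : chevG2.cartan 0 9 = 1 ∧ chevG2.cartan 1 9 = 0 := by decide +kernel

variable (hB : H8Base.{u} chevG2)

local notation "𝔵" => h8xU chevG2 hB
local notation "𝔙" k => Subgroup.closure (h8VkSet chevG2 F k)

/-- commutation of root elements from an empty list of commutator terms -/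
theorem g2c_comm_nil (hC : H8CommAll.{u} chevG2) (r s : ℕ) (hr : r < 12) (hs : s < 12)
    (hsn : s ≠ 11 - r) (hct : s ≠ r → chevG2.commTerms r s = []) (t v : F) :
    𝔵 s v * 𝔵 r t = 𝔵 r t * 𝔵 s v := by
  apply h8comm_of_zero chevG2 hB hC r s (by rw [g2c_nroots]; exact hr)
    (by rw [g2c_nroots]; exact hs) (by rw [g2c_negIdx r hr]; exact hsn)
  intro hsr c hc
  rw [hct hsr] at hc
  exact absurd hc List.not_mem_nil

/-- `x_s(v) x_9(t) = x_9(t) x_s(v) x_{s+3}(-3 (-t) v)` for `s = 7, 8` -/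
theorem g2c_comm9 (hC : H8CommAll.{u} chevG2) (s : ℕ) (hs : s = 7 ∨ s = 8) (t v : F) :
    𝔵 s v * 𝔵 9 t = 𝔵 9 t * 𝔵 s v * 𝔵 (s + 3) (((-3 : ℤ) : F) * (-t) ^ 1 * v ^ 1) := by
  apply Units.ext
  rw [Units.val_mul, Units.val_mul, Units.val_mul, h8xU_val, h8xU_val, h8xU_val]
  rcases hs with rfl | rfl
  · have h1 := hC.all 9 (by rw [g2c_nroots]; omega) 7 (by rw [g2c_nroots]; omega) (by omega)
      (by rw [g2c_negIdx 9 (by omega)]; omega) F t v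
    unfold ChevalleyDatum.commWord at h1
    rw [g2c_ct97, List.map_cons, List.map_nil, h8wordMat_cons, h8wordMat_nil, mul_one] at h1
    exact h1
  · have h1 := hC.all 9 (by rw [g2c_nroots]; omega) 8 (by rw [g2c_nroots]; omega) (by omega)
      (by rw [g2c_negIdx 9 (by omega)]; omega) F t v
    unfold ChevalleyDatum.commWord at h1
    rw [g2c_ct98, List.map_cons, List.map_nil, h8wordMat_cons, h8wordMat_nil, mul_one] at h1
    exact h1

/-- an element of `V_7` commuting with `x_9(1)` lies in `V_9`, when `3 ≠ 0` -/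
theorem g2c_V7_cent (hC : H8CommAll.{u} chevG2) (hO : H8Ord chevG2) (hO2 : H8Ord2 chevG2)
    (h3 : (3 : F) ≠ 0) (g : GL chevG2.Idx F) (hg : g ∈ 𝔙 7) (hcomm : g * 𝔵 9 1 = 𝔵 9 1 * g) :
    g ∈ 𝔙 9 := by
  obtain ⟨q, v8, hv8, e1⟩ := h8Vk_step chevG2 hB hC hO 7 (g2c_pos 7 (by omega) (by omega)) g hg
  obtain ⟨r, v9, hv9, e2⟩ := h8Vk_step chevG2 hB hC hO 8 (g2c_pos 8 (by omega) (by omega)) v8 hv8
  -- `v9` commutes with `x_9(1)`
  have hv9c : v9 * 𝔵 9 1 = 𝔵 9 1 * v9 := by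
    have hle : (𝔙 9) ≤ Subgroup.centralizer {𝔵 9 (1 : F)} := by
      rw [Subgroup.closure_le]
      rintro x ⟨s, v, hs, h9s, hx⟩
      have hx' : x = 𝔵 s v := Units.ext (by rw [hx, h8xU_val])
      have hs12 := (g2c_pos_ge s hs).2
      rw [hx', SetLike.mem_coe, Subgroup.mem_centralizer_iff]
      intro y hy
      rw [Set.mem_singleton_iff.mp hy]
      refine (g2c_comm_nil hB hC 9 s (by omega) hs12 (by omega) ?_ 1 v).symm
      intro hs9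
      apply g2c_ct_nil9
      have : s = 10 ∨ s = 11 := by omega
      rcases this with rfl | rfl <;> simp
    have := Subgroup.mem_centralizer_iff.mp (hle hv9) _ rfl
    exact this.symm
  have c8 := g2c_comm9 hB hC 8 (Or.inr rfl) 1 r
  have c7 := g2c_comm9 hB hC 7 (Or.inl rfl) 1 q
  have c811 : ∀ x : F, 𝔵 11 x * 𝔵 8 r = 𝔵 8 r * 𝔵 11 x := fun x =>
    g2c_comm_nil hB hC 8 11 (by omega) (by omega) (by omega) (fun _ => g2c_ct_nil7.2.2) r x
  have c710 : ∀ x : F, 𝔵 10 x * 𝔵 7 q = 𝔵 7 q * 𝔵 10 x := fun x =>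
    g2c_comm_nil hB hC 7 10 (by omega) (by omega) (by omega) (fun _ => g2c_ct_nil7.1) q x
  have c711 : ∀ x : F, 𝔵 11 x * 𝔵 7 q = 𝔵 7 q * 𝔵 11 x := fun x =>
    g2c_comm_nil hB hC 7 11 (by omega) (by omega) (by omega) (fun _ => g2c_ct_nil7.2.1) q x
  set κq : F := ((-3 : ℤ) : F) * (-1) ^ 1 * q ^ 1 with hκq
  set κr : F := ((-3 : ℤ) : F) * (-1) ^ 1 * r ^ 1 with hκr
  -- `g x_9(1) = x_9(1) x_10(κq) x_11(κr) g`
  have hmain : g * 𝔵 9 1 = 𝔵 9 1 * (𝔵 10 κq * 𝔵 11 κr) * g := by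
    rw [e1, e2]
    calc 𝔵 7 q * (𝔵 8 r * v9) * 𝔵 9 1 = 𝔵 7 q * (𝔵 8 r * (v9 * 𝔵 9 1)) := by group
      _ = 𝔵 7 q * ((𝔵 8 r * 𝔵 9 1) * v9) := by rw [hv9c]; group
      _ = 𝔵 7 q * ((𝔵 9 1 * 𝔵 8 r * 𝔵 11 κr) * v9) := by rw [c8]
      _ = (𝔵 7 q * 𝔵 9 1) * (𝔵 8 r * 𝔵 11 κr) * v9 := by group
      _ = (𝔵 9 1 * 𝔵 7 q * 𝔵 10 κq) * (𝔵 11 κr * 𝔵 8 r) * v9 := by rw [c7, c811]
      _ = 𝔵 9 1 * (𝔵 7 q * 𝔵 10 κq) * 𝔵 11 κr * 𝔵 8 r * v9 := by group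
      _ = 𝔵 9 1 * (𝔵 10 κq * 𝔵 7 q) * 𝔵 11 κr * 𝔵 8 r * v9 := by rw [c710]
      _ = 𝔵 9 1 * 𝔵 10 κq * (𝔵 7 q * 𝔵 11 κr) * 𝔵 8 r * v9 := by group
      _ = 𝔵 9 1 * 𝔵 10 κq * (𝔵 11 κr * 𝔵 7 q) * 𝔵 8 r * v9 := by rw [c711]
      _ = 𝔵 9 1 * (𝔵 10 κq * 𝔵 11 κr) * (𝔵 7 q * (𝔵 8 r * v9)) := by group
  have hone : 𝔵 10 κq * 𝔵 11 κr = 1 := by
    rw [hcomm] at hmain
    have h2 := mul_right_cancel hmain
    have h4 : 𝔵 9 (1 : F) * 1 = 𝔵 9 1 * (𝔵 10 κq * 𝔵 11 κr) := by rw [mul_one]; exact h2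
    exact (mul_left_cancel h4).symm
  have hq0 : κq = 0 := g2c_peel hB hO2 10 (g2c_pos 10 (by omega) (by omega)) κq 1 (𝔵 11 κr) 1
    (Subgroup.one_mem _) (cfx_mem_Vk chevG2 hB 11 11 (g2c_pos 11 (by omega) (by omega)) le_rfl _)
    (Subgroup.one_mem _) (by rw [one_mul]; exact hone)
  rw [hq0, h8xU_zero, one_mul] at hone
  have hr0 : κr = 0 := g2c_peel hB hO2 11 (g2c_pos 11 (by omega) (by omega)) κr 1 1 1
    (Subgroup.one_mem _) (Subgroup.one_mem _) (Subgroup.one_mem _)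
    (by rw [one_mul, mul_one]; exact hone)
  have hq : q = 0 := by
    have : κq = 3 * q := by rw [hκq]; push_cast; ring
    rw [this] at hq0
    exact (mul_eq_zero.mp hq0).resolve_left h3
  have hr : r = 0 := by
    have : κr = 3 * r := by rw [hκr]; push_cast; ring
    rw [this] at hr0
    exact (mul_eq_zero.mp hr0).resolve_left h3
  rw [e1, e2, hq, hr, h8xU_zero, h8xU_zero, one_mul, one_mul]
  exact hv9

end Cfsg.Agent.Lib.helper14
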