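import Mathlib
import Cfsg.Prelude.Def_ChevStructure
import Cfsg.Agent.Lib.helper14.G2CentC

/-!
# Type `G₂`: the centraliser of the short root element `x_{2a+b}(1)` when `3 ≠ 0`
-/

set_option autoImplicit false

namespace Cfsg.Agent.Lib.helper14

open Cfsg.Lie Cfsg.Lie.ChevalleyDatum Cfsg.Agent.Lib.helper8

universe u

variable {F : Type u} [Field F]

theorem g2c_cent9 (h3 : (3 : F) ≠ 0) (t : GL chevG2.Idx F)
    (ht : (t : Matrix chevG2.Idx chevG2.Idx F) = chevG2.x F 9 1) :
    chevG2.group F ⊓ Subgroup.centralizer {t} =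
      chevG2.rootSubgroup F 9 ⊔ chevG2.rootSubgroup F 10 ⊔ chevG2.rootSubgroup F 11 ⊔
        chevG2.rootSubgroup F 6 ⊔ chevG2.rootSubgroup F 5 := by
  have hD : chevG2 ∈ [chevG2, chevB2, chevD4, chevF4, chevE6, chevE7, chevE8] := by simp
  have hB := h8base_all.{u} chevG2 hD
  have hA := h8reflAll chevG2 hD
  have hC := h8commAll.{u} chevG2 hD
  have hBN := h8bn_all chevG2 hD
  have hW := h8bn2_all chevG2 hD
  obtain ⟨hO, hO2⟩ := h8ord_all chevG2 hD
  have hsc := h8scChk_all chevG2 hD
  have hM := g2c_cfMax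
  have ht' : t = h8xU chevG2 hB 9 1 := Units.ext (by rw [ht, h8xU_val])
  subst ht'
  set K : Subgroup (GL chevG2.Idx F) :=
    chevG2.rootSubgroup F 9 ⊔ chevG2.rootSubgroup F 10 ⊔ chevG2.rootSubgroup F 11 ⊔
      chevG2.rootSubgroup F 6 ⊔ chevG2.rootSubgroup F 5 with hK
  have hxR : ∀ (s : ℕ) (v : F), h8xU chevG2 hB s v ∈ chevG2.rootSubgroup F s := fun s v =>
    Subgroup.subset_closure ⟨v, h8xU_val chevG2 hB s v⟩
  have hxK : ∀ s, (s = 9 ∨ s = 10 ∨ s = 11 ∨ s = 6 ∨ s = 5) → ∀ v : F,
      h8xU chevG2 hB s v ∈ K := by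
    intro s hs v
    rcases hs with rfl | rfl | rfl | rfl | rfl
    · exact Subgroup.mem_sup_left (Subgroup.mem_sup_left (Subgroup.mem_sup_left
        (Subgroup.mem_sup_left (hxR 9 v))))
    · exact Subgroup.mem_sup_left (Subgroup.mem_sup_left (Subgroup.mem_sup_left
        (Subgroup.mem_sup_right (hxR 10 v))))
    · exact Subgroup.mem_sup_left (Subgroup.mem_sup_left (Subgroup.mem_sup_right (hxR 11 v)))
    · exact Subgroup.mem_sup_left (Subgroup.mem_sup_right (hxR 6 v))
    · exact Subgroup.mem_sup_right (hxR 5 v)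
  -- the generators commute with `x_9(1)`
  have hcomm : ∀ s, (s = 9 ∨ s = 10 ∨ s = 11 ∨ s = 6 ∨ s = 5) → ∀ v : F,
      h8xU chevG2 hB s v * h8xU chevG2 hB 9 1 = h8xU chevG2 hB 9 1 * h8xU chevG2 hB s v := by
    intro s hs v
    refine g2c_comm_nil hB hC 9 s (by omega) (by omega) (by omega) ?_ 1 v
    intro hs9
    apply g2c_ct_nil9
    rcases hs with rfl | rfl | rfl | rfl | rfl
    · exact absurd rfl hs9
    all_goals simp
  have hRle : ∀ s, (s = 9 ∨ s = 10 ∨ s = 11 ∨ s = 6 ∨ s = 5) →
      chevG2.rootSubgroup F s ≤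
        chevG2.group F ⊓ Subgroup.centralizer {h8xU chevG2 hB 9 (1 : F)} := by
    intro s hs
    unfold ChevalleyDatum.rootSubgroup
    rw [Subgroup.closure_le]
    rintro x ⟨v, hx⟩
    have hx' : x = h8xU chevG2 hB s v := Units.ext (by rw [hx, h8xU_val])
    rw [hx', SetLike.mem_coe, Subgroup.mem_inf]
    refine ⟨h8xU_mem_group chevG2 hB s v, ?_⟩
    rw [Subgroup.mem_centralizer_iff]
    intro y hy
    rw [Set.mem_singleton_iff.mp hy]
    exact (hcomm s hs v).symm
  apply le_antisymm
  · rintro g ⟨hgG, hgC⟩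
    have hcen : g * h8xU chevG2 hB 9 1 * g⁻¹ = h8xU chevG2 hB 9 1 := by
      rw [mul_inv_eq_iff_eq_mul]
      exact (Subgroup.mem_centralizer_iff.mp hgC _ rfl).symm
    -- `g` normalises `V_9`
    have hgP := g2c_crux hB hA hC hBN hW hO hO2 g hgG hcen
    have hBP := cf_B_le_normVk (F := F) chevG2 hB hC hO hM 9
    have hover := h8overgroup chevG2 hB hA hC hBN hW hO2 _ hBP ⟨hgP, hgG⟩
    -- `g` lies in the parabolic subgroup `P_{b}`
    have hgPar : g ∈ chevG2.parabolicSubgroup F {1} := by
      have hle : chevG2.borelSubgroup F ⊔ Subgroup.closure {g : GL chevG2.Idx F | ∃ i < chevG2.rank,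
          g = h8nU chevG2 hB (chevG2.simple i) (1 : F) ∧ g ∈ Subgroup.normalizer
            ((Subgroup.closure (h8VkSet chevG2 F 9) : Subgroup (GL chevG2.Idx F)) :
              Set (GL chevG2.Idx F))} ≤ chevG2.parabolicSubgroup F {1} := by
        unfold ChevalleyDatum.parabolicSubgroup
        apply sup_le_sup_left
        apply Subgroup.closure_mono
        rintro x ⟨i, hi, rfl, hxP⟩
        have hi2 : i < 2 := by rwa [g2c_rank] at hi
        have hi1 : i = 1 := by
          by_contra hne
          have hi0 : i = 0 := by omega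
          subst hi0
          obtain ⟨η, hη, hact⟩ := h8act_nU (F := F) chevG2 hB hA 0 hi 9
            (by rw [g2c_nroots]; omega)
          rw [g2c_refl0_9] at hact
          have hmem := (Subgroup.mem_normalizer_iff.mp hxP (h8xU chevG2 hB 9 1)).mp
            (cfx_mem_Vk chevG2 hB 9 9 (g2c_pos 9 (by omega) (by omega)) le_rfl 1)
          rw [hact 1] at hmem
          have := h8x_not_mem_Vk chevG2 hB hO2 8 (g2c_pos 8 (by omega) (by omega)) _ hmem
          rw [mul_one] at this
          exact hη this
        subst hi1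
        exact ⟨1, rfl, hi, h8nU_val chevG2 hB _ _⟩
      exact hle hover
    -- Levi decomposition
    obtain ⟨hnorm, hsup, -⟩ := Cfsg.Agent.S1048.result (F := F) chevG2 hD {1}
    have hLN : chevG2.leviSubgroup F {1} ≤ Subgroup.normalizer
        (chevG2.unipotentRadical F {1} : Set (GL chevG2.Idx F)) := by
      refine le_trans ?_ hnorm
      rw [← hsup]
      exact le_sup_right
    have hprod := Subgroup.coe_mul_of_right_le_normalizer_left (chevG2.unipotentRadical F {1})
      (chevG2.leviSubgroup F {1}) hLN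
    rw [← hsup] at hgPar
    have hgm : g ∈ ((chevG2.unipotentRadical F {1} ⊔ chevG2.leviSubgroup F {1} :
        Subgroup (GL chevG2.Idx F)) : Set (GL chevG2.Idx F)) := hgPar
    rw [hprod] at hgm
    obtain ⟨u, hu, l, hl, eul⟩ := hgm
    have eul' : g = u * l := eul.symm
    subst eul'
    -- the root subgroups of the Levi factor
    set S : Set (GL chevG2.Idx F) := {g : GL chevG2.Idx F | ∃ (r : ℕ) (t : F),
      chevG2.InRootSub {1} r ∧ (g : Matrix chevG2.Idx chevG2.Idx F) = chevG2.x F r t} with hS
    have hSroot : ∀ r, chevG2.InRootSub {1} r → r = 5 ∨ r = 6 := by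
      intro r hr
      have hr12 : r < 12 := by
        have := hr.1
        rwa [g2c_nroots] at this
      exact (g2c_insub r hr12).mp (hr.2 0 (by rw [g2c_rank]; omega) (by simp))
    have hSK : Subgroup.closure S ≤ K := by
      rw [Subgroup.closure_le]
      rintro x ⟨r, v, hr, hx⟩
      have hx' : x = h8xU chevG2 hB r v := Units.ext (by rw [hx, h8xU_val])
      rw [hx']
      rcases hSroot r hr with rfl | rfl
      · exact hxK 5 (by simp) v
      · exact hxK 6 (by simp) v
    have hKC : K ≤ Subgroup.centralizer {h8xU chevG2 hB 9 (1 : F)} := by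
      rw [hK]
      refine sup_le (sup_le (sup_le (sup_le ?_ ?_) ?_) ?_) ?_
      · exact le_trans (hRle 9 (by simp)) inf_le_right
      · exact le_trans (hRle 10 (by simp)) inf_le_right
      · exact le_trans (hRle 11 (by simp)) inf_le_right
      · exact le_trans (hRle 6 (by simp)) inf_le_right
      · exact le_trans (hRle 5 (by simp)) inf_le_right
    have hHN : chevG2.diagonalSubgroup F ≤
        Subgroup.normalizer ((Subgroup.closure S : Subgroup (GL chevG2.Idx F)) :
          Set (GL chevG2.Idx F)) := by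
      intro h hh
      have hact := h8perm_H_id chevG2 hB h hh
      have hact' := h8perm_H_id chevG2 hB h⁻¹ (Subgroup.inv_mem _ hh)
      apply h8_mem_normalizer_closure
      · rintro x ⟨s, v, hs, hx⟩
        have hx' : x = h8xU chevG2 hB s v := Units.ext (by rw [hx, h8xU_val])
        obtain ⟨c, _, hc⟩ := hact s hs.1
        rw [hx', hc]
        exact Subgroup.subset_closure ⟨s, _, hs, h8xU_val chevG2 hB _ _⟩
      · rintro x ⟨s, v, hs, hx⟩
        have hx' : x = h8xU chevG2 hB s v := Units.ext (by rw [hx, h8xU_val])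
        obtain ⟨c, _, hc⟩ := hact' s hs.1
        have := hc v
        rw [inv_inv] at this
        rw [hx', this]
        exact Subgroup.subset_closure ⟨s, _, hs, h8xU_val chevG2 hB _ _⟩
    have hprod2 := Subgroup.coe_mul_of_left_le_normalizer_right (chevG2.diagonalSubgroup F)
      (Subgroup.closure S) hHN
    have hlm : l ∈ ((chevG2.diagonalSubgroup F ⊔ Subgroup.closure S :
        Subgroup (GL chevG2.Idx F)) : Set (GL chevG2.Idx F)) := hl
    rw [hprod2] at hlm
    obtain ⟨h, hh, l', hl', ehl⟩ := hlm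
    have ehl' : l = h * l' := ehl.symm
    subst ehl'
    have hl'C := hKC (hSK hl')
    -- `U_J ≤ V_7`
    have hUJ7 : chevG2.unipotentRadical F {1} ≤ Subgroup.closure (h8VkSet chevG2 F 7) := by
      unfold ChevalleyDatum.unipotentRadical
      apply Subgroup.closure_mono
      rintro x ⟨r, v, hr, hnr, hx⟩
      refine ⟨r, v, hr, ?_, hx⟩
      obtain ⟨h6, h12⟩ := g2c_pos_ge r hr
      by_contra hlt
      have hr6 : r = 6 := by omega
      apply hnr
      refine ⟨hr.1, ?_⟩
      intro i hi hi1
      have hi0 : i = 0 := by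
        rw [g2c_rank] at hi
        have : i ≠ 1 := fun h => hi1 (by simp [h])
        omega
      rw [hi0, hr6]
      exact (g2c_insub 6 (by omega)).mpr (Or.inr rfl)
    have hu7 := hUJ7 hu
    have huU : u ∈ chevG2.posUnipotent F := g2c_Vk_le_U 7 hu7
    -- the action of `h`
    obtain ⟨γ, hγ, hval⟩ := h8_H_eq_Phi chevG2 hB h hh
    have h9lt : 9 < chevG2.nroots := by rw [g2c_nroots]; omega
    have hact9 : ∀ v : F, h * h8xU chevG2 hB 9 v * h⁻¹ =
        h8xU chevG2 hB 9 (h8Phi chevG2 chevG2.rank γ (Sum.inr ⟨9, h9lt⟩) * v) := by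
      intro v
      rw [mul_inv_eq_iff_eq_mul]
      apply Units.ext
      rw [Units.val_mul, Units.val_mul, h8xU_val, h8xU_val, hval]
      exact h8Phi_conj_x chevG2 hB hsc γ hγ 9 h9lt chevG2.rank le_rfl v
    have hl'c : l' * h8xU chevG2 hB 9 1 * l'⁻¹ = h8xU chevG2 hB 9 1 := by
      rw [mul_inv_eq_iff_eq_mul]
      exact (Subgroup.mem_centralizer_iff.mp hl'C _ rfl).symm
    have e1 : u * h8xU chevG2 hB 9 (h8Phi chevG2 chevG2.rank γ (Sum.inr ⟨9, h9lt⟩) * 1) * u⁻¹ =
        h8xU chevG2 hB 9 1 := by
      rw [← hact9 1]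
      calc u * (h * h8xU chevG2 hB 9 1 * h⁻¹) * u⁻¹
          = u * (h * (l' * h8xU chevG2 hB 9 1 * l'⁻¹) * h⁻¹) * u⁻¹ := by rw [hl'c]
        _ = u * (h * l') * h8xU chevG2 hB 9 1 * (u * (h * l'))⁻¹ := by group
        _ = h8xU chevG2 hB 9 1 := hcen
    have hphi := cf_U_conj_eq chevG2 hB hC hO hO2 hM u huU 9 (g2c_pos 9 (by omega) (by omega))
      _ _ e1
    rw [hphi] at e1
    rw [mul_one] at hphi
    -- `γ 0 = 1`
    have hγ0 : γ 0 = 1 := by
      have h5 : h8Phi chevG2 chevG2.rank γ (Sum.inr ⟨9, h9lt⟩) =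
          ∏ i ∈ Finset.range chevG2.rank, γ i ^ (chevG2.cartan i 9) := rfl
      rw [h5, g2c_rank, Finset.prod_range_succ, Finset.prod_range_succ, Finset.prod_range_zero,
        g2c_cart9.1, g2c_cart9.2, zpow_one, zpow_zero, one_mul, mul_one] at hphi
      exact hphi
    -- `h` lies in the group generated by `X_6` and `X_5`
    have hhK : h ∈ K := by
      have hheq : h = h8wordU chevG2 hB
          ((List.range chevG2.rank).flatMap fun i => chevG2.hWord (chevG2.simple i) (γ i)) := by
        apply Units.ext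
        rw [hval, h8wordU_val,
          h8wordMat_flatMap_range chevG2 hB hsc γ (fun i _ => hγ i) chevG2.rank le_rfl]
      rw [hheq]
      have hall : ∀ (Ls : List ℕ), (∀ i ∈ Ls, i < chevG2.rank) →
          h8wordU chevG2 hB (Ls.flatMap fun i => chevG2.hWord (chevG2.simple i) (γ i)) ∈ K := by
        intro Ls
        induction Ls with
        | nil => intro _; exact Subgroup.one_mem _
        | cons i Ls ih =>
          intro hLs
          rw [List.flatMap_cons, h8wordU_append]
          refine Subgroup.mul_mem _ ?_ (ih (fun j hj => hLs j (List.mem_cons_of_mem _ hj)))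
          have hi : i < chevG2.rank := hLs i List.mem_cons_self
          rw [g2c_rank] at hi
          by_cases hi0 : i = 0
          · have : h8wordU chevG2 hB (chevG2.hWord (chevG2.simple i) (γ i)) =
                h8hU chevG2 hB (chevG2.simple i) (γ i) := rfl
            rw [this, hi0, hγ0, h8hU_one]
            exact Subgroup.one_mem _
          · have hi1 : i = 1 := by omega
            apply h8wordU_mem_of
            intro p hp
            have hp' : p.1 = chevG2.simple i ∨ p.1 = chevG2.neg (chevG2.simple i) := by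
              unfold ChevalleyDatum.hWord ChevalleyDatum.nWord at hp
              simp only [List.cons_append, List.nil_append, List.mem_cons, List.not_mem_nil,
                or_false] at hp
              rcases hp with rfl | rfl | rfl | rfl | rfl | rfl <;> simp
            rw [hi1, g2c_simple.2] at hp'
            rcases hp' with h | h
            · rw [h]
              exact hxK 6 (by simp) _
            · have h56 : chevG2.neg 6 = 5 := g2c_negIdx 6 (by omega)
              rw [h, h56]
              exact hxK 5 (by simp) _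
      exact hall _ (fun i hi => List.mem_range.mp hi)
    -- `u` lies in `V_9`
    have hu9 : u ∈ Subgroup.closure (h8VkSet chevG2 F 9) := by
      apply g2c_V7_cent hB hC hO hO2 h3 u hu7
      rw [mul_inv_eq_iff_eq_mul] at e1
      exact e1
    have hV9K : Subgroup.closure (h8VkSet chevG2 F 9) ≤ K := by
      rw [Subgroup.closure_le]
      rintro x ⟨s, v, hs, h9s, hx⟩
      have hx' : x = h8xU chevG2 hB s v := Units.ext (by rw [hx, h8xU_val])
      have hs12 := (g2c_pos_ge s hs).2
      rw [hx']
      have : s = 9 ∨ s = 10 ∨ s = 11 := by omega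
      rcases this with rfl | rfl | rfl
      · exact hxK 9 (by simp) v
      · exact hxK 10 (by simp) v
      · exact hxK 11 (by simp) v
    exact Subgroup.mul_mem _ (hV9K hu9) (Subgroup.mul_mem _ hhK (hSK hl'))
  · rw [hK]
    refine sup_le (sup_le (sup_le (sup_le ?_ ?_) ?_) ?_) ?_
    · exact hRle 9 (by simp)
    · exact hRle 10 (by simp)
    · exact hRle 11 (by simp)
    · exact hRle 6 (by simp)
    · exact hRle 5 (by simp)

end Cfsg.Agent.Lib.helper14
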