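import Mathlib
import Cfsg.Prelude.Def_ChevStructure
import Cfsg.Agent.Lib.helper14.G2CentD

/-!
# Type `G₂` in characteristic two: commutator relations and conjugation moves in `U`
-/

set_option autoImplicit false

namespace Cfsg.Agent.Lib.helper14

open Cfsg.Lie Cfsg.Lie.ChevalleyDatum Cfsg.Agent.Lib.helper8

universe u

variable {F : Type u} [Field F]

theorem g2i_ct79 : chevG2.commTerms 7 9 = [(10, 3, 1, 1)] := by decide +kernel

theorem g2i_ct89 : chevG2.commTerms 8 9 = [(11, 3, 1, 1)] := by decide +kernel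

theorem g2i_ct6_10 : chevG2.commTerms 6 10 = [(11, 1, 1, 1)] := by decide +kernel

theorem g2i_ct10_6 : chevG2.commTerms 10 6 = [(11, -1, 1, 1)] := by decide +kernel

theorem g2i_ct78 : chevG2.commTerms 7 8 = [(9, -2, 1, 1), (10, -3, 2, 1), (11, 3, 1, 2)] := by
  decide +kernel

theorem g2i_ct67 :
    chevG2.commTerms 6 7 = [(8, 1, 1, 1), (9, 1, 1, 2), (10, -1, 1, 3), (11, -2, 2, 3)] := by
  decide +kernel

theorem g2i_ct76 :
    chevG2.commTerms 7 6 = [(8, -1, 1, 1), (9, 1, 2, 1), (10, 1, 3, 1), (11, 1, 3, 2)] := by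
  decide +kernel

theorem g2i_ct_nil : ∀ p ∈ [(6, 8), (6, 9), (6, 11), (7, 10), (7, 11), (8, 10), (8, 11), (9, 10),
    (9, 11), (10, 11), (8, 6), (9, 6), (11, 6), (10, 7), (11, 7), (10, 8), (11, 8), (10, 9),
    (11, 9), (11, 10)], chevG2.commTerms p.1 p.2 = [] := by decide +kernel

/-- conjugacy in the Chevalley group -/
def G2Cj (g g' : GL chevG2.Idx F) : Prop := ∃ h ∈ chevG2.group F, h * g * h⁻¹ = g'

theorem g2cj_refl (g : GL chevG2.Idx F) : G2Cj g g :=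
  ⟨1, Subgroup.one_mem _, by group⟩

theorem g2cj_trans {g g' g'' : GL chevG2.Idx F} (h1 : G2Cj g g') (h2 : G2Cj g' g'') :
    G2Cj g g'' := by
  obtain ⟨a, ha, e1⟩ := h1
  obtain ⟨b, hb, e2⟩ := h2
  refine ⟨b * a, Subgroup.mul_mem _ hb ha, ?_⟩
  rw [← e2, ← e1]
  group

/-- `h g = g' h` gives conjugacy -/
theorem g2cj_of_mul {g g' h : GL chevG2.Idx F} (hh : h ∈ chevG2.group F) (e : h * g = g' * h) :
    G2Cj g g' :=
  ⟨h, hh, by rw [e]; group⟩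

section char2

variable [CharP F 2] (hB : H8Base.{u} chevG2)

local notation "𝔵" => h8xU chevG2 hB
local notation "𝔙" k => Subgroup.closure (h8VkSet chevG2 F k)

omit [CharP F 2] in
theorem g2i_add (r : ℕ) (hr : r < 12) (a b : F) : 𝔵 r a * 𝔵 r b = 𝔵 r (a + b) :=
  h8xU_add chevG2 hB r (by rw [g2c_nroots]; exact hr) a b

theorem g2i_inv (r : ℕ) (a : F) : (𝔵 r a)⁻¹ = 𝔵 r a := by
  rw [h8xU_inv, CharTwo.neg_eq]

theorem g2i_sq (r : ℕ) (hr : r < 12) (a : F) : 𝔵 r a * 𝔵 r a = 1 := by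
  rw [g2i_add hB r hr, CharTwo.add_self_eq_zero, h8xU_zero]

theorem g2i_three : (3 : F) = 1 := by
  have : (3 : F) = 2 + 1 := by norm_num
  rw [this, CharTwo.two_eq_zero, zero_add]

/-- commutator formula with a single term of odd coefficient -/
theorem g2i_comm1 (hC : H8CommAll.{u} chevG2) (r s k : ℕ) (c : ℤ) (hr : r < 12) (hs : s < 12)
    (hne : s ≠ r) (hsn : s ≠ 11 - r) (hct : chevG2.commTerms r s = [(k, c, 1, 1)])
    (hc : ((c : ℤ) : F) = 1) (t v : F) :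
    𝔵 s v * 𝔵 r t = 𝔵 r t * 𝔵 s v * 𝔵 k (t * v) := by
  apply Units.ext
  rw [Units.val_mul, Units.val_mul, Units.val_mul, h8xU_val, h8xU_val, h8xU_val]
  have h1 := hC.all r (by rw [g2c_nroots]; exact hr) s (by rw [g2c_nroots]; exact hs) hne
    (by rw [g2c_negIdx r hr]; exact hsn) F t v
  unfold ChevalleyDatum.commWord at h1
  rw [hct, List.map_cons, List.map_nil, h8wordMat_cons, h8wordMat_nil, mul_one] at h1
  have h2 : chevG2.x F s v * chevG2.x F r t =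
      chevG2.x F r t * chevG2.x F s v * chevG2.x F k (((c : ℤ) : F) * (-t) ^ 1 * v ^ 1) := h1
  have e : ((c : ℤ) : F) * (-t) ^ 1 * v ^ 1 = t * v := by
    rw [hc, CharTwo.neg_eq]; ring
  rw [e] at h2
  exact h2

theorem g2i_cast3 : (((3 : ℤ) : F) = 1) := by
  push_cast
  exact g2i_three

theorem g2i_castm3 : (((-3 : ℤ) : F) = 1) := by
  push_cast
  rw [CharTwo.neg_eq]
  exact g2i_three

theorem g2i_castm1 : (((-1 : ℤ) : F) = 1) := by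
  push_cast
  rw [CharTwo.neg_eq]

theorem g2i_castm2 : (((-2 : ℤ) : F) = 0) := by
  push_cast
  rw [CharTwo.neg_eq]
  exact CharTwo.two_eq_zero

/-- `x_9(v) x_7(t) = x_7(t) x_9(v) x_10(tv)` -/
theorem g2i_c79 (hC : H8CommAll.{u} chevG2) (t v : F) :
    𝔵 9 v * 𝔵 7 t = 𝔵 7 t * 𝔵 9 v * 𝔵 10 (t * v) :=
  g2i_comm1 hB hC 7 9 10 3 (by omega) (by omega) (by omega) (by omega) g2i_ct79 g2i_cast3 t v

/-- `x_7(v) x_9(t) = x_9(t) x_7(v) x_10(tv)` -/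
theorem g2i_c97 (hC : H8CommAll.{u} chevG2) (t v : F) :
    𝔵 7 v * 𝔵 9 t = 𝔵 9 t * 𝔵 7 v * 𝔵 10 (t * v) :=
  g2i_comm1 hB hC 9 7 10 (-3) (by omega) (by omega) (by omega) (by omega) g2c_ct97 g2i_castm3 t v

/-- `x_9(v) x_8(t) = x_8(t) x_9(v) x_11(tv)` -/
theorem g2i_c89 (hC : H8CommAll.{u} chevG2) (t v : F) :
    𝔵 9 v * 𝔵 8 t = 𝔵 8 t * 𝔵 9 v * 𝔵 11 (t * v) :=
  g2i_comm1 hB hC 8 9 11 3 (by omega) (by omega) (by omega) (by omega) g2i_ct89 g2i_cast3 t v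

/-- `x_8(v) x_9(t) = x_9(t) x_8(v) x_11(tv)` -/
theorem g2i_c98 (hC : H8CommAll.{u} chevG2) (t v : F) :
    𝔵 8 v * 𝔵 9 t = 𝔵 9 t * 𝔵 8 v * 𝔵 11 (t * v) :=
  g2i_comm1 hB hC 9 8 11 (-3) (by omega) (by omega) (by omega) (by omega) g2c_ct98 g2i_castm3 t v

/-- `x_10(v) x_6(t) = x_6(t) x_10(v) x_11(tv)` -/
theorem g2i_c6_10 (hC : H8CommAll.{u} chevG2) (t v : F) :
    𝔵 10 v * 𝔵 6 t = 𝔵 6 t * 𝔵 10 v * 𝔵 11 (t * v) :=
  g2i_comm1 hB hC 6 10 11 1 (by omega) (by omega) (by omega) (by omega) g2i_ct6_10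
    (by push_cast; rfl) t v

/-- `x_6(v) x_10(t) = x_10(t) x_6(v) x_11(tv)` -/
theorem g2i_c10_6 (hC : H8CommAll.{u} chevG2) (t v : F) :
    𝔵 6 v * 𝔵 10 t = 𝔵 10 t * 𝔵 6 v * 𝔵 11 (t * v) :=
  g2i_comm1 hB hC 10 6 11 (-1) (by omega) (by omega) (by omega) (by omega) g2i_ct10_6
    g2i_castm1 t v

/-- `x_8(v) x_7(t) = x_7(t) x_8(v) x_10(t²v) x_11(tv²)` -/
theorem g2i_c78 (hC : H8CommAll.{u} chevG2) (t v : F) :
    𝔵 8 v * 𝔵 7 t = 𝔵 7 t * 𝔵 8 v * 𝔵 10 (t ^ 2 * v) * 𝔵 11 (t * v ^ 2) := by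
  apply Units.ext
  rw [Units.val_mul, Units.val_mul, Units.val_mul, Units.val_mul, h8xU_val, h8xU_val, h8xU_val,
    h8xU_val]
  have h1 := hC.all 7 (by rw [g2c_nroots]; omega) 8 (by rw [g2c_nroots]; omega) (by omega)
    (by rw [g2c_negIdx 7 (by omega)]; omega) F t v
  unfold ChevalleyDatum.commWord at h1
  rw [g2i_ct78, List.map_cons, List.map_cons, List.map_cons, List.map_nil, h8wordMat_cons,
    h8wordMat_cons, h8wordMat_cons, h8wordMat_nil, mul_one] at h1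
  have h2 : chevG2.x F 8 v * chevG2.x F 7 t =
      chevG2.x F 7 t * chevG2.x F 8 v * (chevG2.x F 9 (((-2 : ℤ) : F) * (-t) ^ 1 * v ^ 1) *
        (chevG2.x F 10 (((-3 : ℤ) : F) * (-t) ^ 2 * v ^ 1) *
          chevG2.x F 11 (((3 : ℤ) : F) * (-t) ^ 1 * v ^ 2))) := h1
  have e9 : ((-2 : ℤ) : F) * (-t) ^ 1 * v ^ 1 = 0 := by rw [g2i_castm2]; ring
  have e10 : ((-3 : ℤ) : F) * (-t) ^ 2 * v ^ 1 = t ^ 2 * v := by
    rw [g2i_castm3, CharTwo.neg_eq]; ring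
  have e11 : ((3 : ℤ) : F) * (-t) ^ 1 * v ^ 2 = t * v ^ 2 := by
    rw [g2i_cast3, CharTwo.neg_eq]; ring
  rw [e9, e10, e11, hB.zero F 9, one_mul, ← mul_assoc] at h2
  exact h2

/-- leading term of the commutator formula for `(6, 7)` -/
theorem g2i_c67 (hC : H8CommAll.{u} chevG2) (t v : F) :
    ∃ e ∈ 𝔙 9, 𝔵 7 v * 𝔵 6 t = 𝔵 6 t * 𝔵 7 v * 𝔵 8 (t * v) * e := by
  have h1 := hC.all 6 (by rw [g2c_nroots]; omega) 7 (by rw [g2c_nroots]; omega) (by omega)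
    (by rw [g2c_negIdx 6 (by omega)]; omega) F t v
  unfold ChevalleyDatum.commWord at h1
  rw [g2i_ct67, List.map_cons, List.map_cons, List.map_cons, List.map_cons, List.map_nil,
    h8wordMat_cons, h8wordMat_cons, h8wordMat_cons, h8wordMat_cons, h8wordMat_nil, mul_one] at h1
  have h2 : chevG2.x F 7 v * chevG2.x F 6 t =
      chevG2.x F 6 t * chevG2.x F 7 v * (chevG2.x F 8 (((1 : ℤ) : F) * (-t) ^ 1 * v ^ 1) *
        (chevG2.x F 9 (((1 : ℤ) : F) * (-t) ^ 1 * v ^ 2) *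
          (chevG2.x F 10 (((-1 : ℤ) : F) * (-t) ^ 1 * v ^ 3) *
            chevG2.x F 11 (((-2 : ℤ) : F) * (-t) ^ 2 * v ^ 3)))) := h1
  have e8 : ((1 : ℤ) : F) * (-t) ^ 1 * v ^ 1 = t * v := by
    rw [CharTwo.neg_eq]; push_cast; ring
  rw [e8] at h2
  refine ⟨𝔵 9 (((1 : ℤ) : F) * (-t) ^ 1 * v ^ 2) * (𝔵 10 (((-1 : ℤ) : F) * (-t) ^ 1 * v ^ 3) *
    𝔵 11 (((-2 : ℤ) : F) * (-t) ^ 2 * v ^ 3)), ?_, ?_⟩
  · exact Subgroup.mul_mem _ (cfx_mem_Vk chevG2 hB 9 9 (g2c_pos 9 (by omega) (by omega)) le_rfl _)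
      (Subgroup.mul_mem _
        (cfx_mem_Vk chevG2 hB 9 10 (g2c_pos 10 (by omega) (by omega)) (by omega) _)
        (cfx_mem_Vk chevG2 hB 9 11 (g2c_pos 11 (by omega) (by omega)) (by omega) _))
  · apply Units.ext
    simp only [Units.val_mul, h8xU_val]
    rw [h2]
    simp only [mul_assoc]

/-- leading term of the commutator formula for `(7, 6)` -/
theorem g2i_c76 (hC : H8CommAll.{u} chevG2) (t v : F) :
    ∃ e ∈ 𝔙 9, 𝔵 6 v * 𝔵 7 t = 𝔵 7 t * 𝔵 6 v * 𝔵 8 (t * v) * e := by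
  have h1 := hC.all 7 (by rw [g2c_nroots]; omega) 6 (by rw [g2c_nroots]; omega) (by omega)
    (by rw [g2c_negIdx 7 (by omega)]; omega) F t v
  unfold ChevalleyDatum.commWord at h1
  rw [g2i_ct76, List.map_cons, List.map_cons, List.map_cons, List.map_cons, List.map_nil,
    h8wordMat_cons, h8wordMat_cons, h8wordMat_cons, h8wordMat_cons, h8wordMat_nil, mul_one] at h1
  have h2 : chevG2.x F 6 v * chevG2.x F 7 t =
      chevG2.x F 7 t * chevG2.x F 6 v * (chevG2.x F 8 (((-1 : ℤ) : F) * (-t) ^ 1 * v ^ 1) *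
        (chevG2.x F 9 (((1 : ℤ) : F) * (-t) ^ 2 * v ^ 1) *
          (chevG2.x F 10 (((1 : ℤ) : F) * (-t) ^ 3 * v ^ 1) *
            chevG2.x F 11 (((1 : ℤ) : F) * (-t) ^ 3 * v ^ 2)))) := h1
  have e8 : ((-1 : ℤ) : F) * (-t) ^ 1 * v ^ 1 = t * v := by
    rw [g2i_castm1, CharTwo.neg_eq]; ring
  rw [e8] at h2
  refine ⟨𝔵 9 (((1 : ℤ) : F) * (-t) ^ 2 * v ^ 1) * (𝔵 10 (((1 : ℤ) : F) * (-t) ^ 3 * v ^ 1) *
    𝔵 11 (((1 : ℤ) : F) * (-t) ^ 3 * v ^ 2)), ?_, ?_⟩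
  · exact Subgroup.mul_mem _ (cfx_mem_Vk chevG2 hB 9 9 (g2c_pos 9 (by omega) (by omega)) le_rfl _)
      (Subgroup.mul_mem _
        (cfx_mem_Vk chevG2 hB 9 10 (g2c_pos 10 (by omega) (by omega)) (by omega) _)
        (cfx_mem_Vk chevG2 hB 9 11 (g2c_pos 11 (by omega) (by omega)) (by omega) _))
  · apply Units.ext
    simp only [Units.val_mul, h8xU_val]
    rw [h2]
    simp only [mul_assoc]

omit [CharP F 2] in
/-- commuting root elements -/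
theorem g2i_comm0 (hC : H8CommAll.{u} chevG2) (r s : ℕ) (hr : r < 12) (hs : s < 12)
    (hsn : s ≠ 11 - r) (hp : (r, s) ∈ [(6, 8), (6, 9), (6, 11), (7, 10), (7, 11), (8, 10), (8, 11),
      (9, 10), (9, 11), (10, 11), (8, 6), (9, 6), (11, 6), (10, 7), (11, 7), (10, 8), (11, 8),
      (10, 9), (11, 9), (11, 10)]) (t v : F) :
    𝔵 s v * 𝔵 r t = 𝔵 r t * 𝔵 s v :=
  g2c_comm_nil hB hC r s hr hs hsn (fun _ => g2i_ct_nil (r, s) hp) t v

end char2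

end Cfsg.Agent.Lib.helper14
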