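import Mathlib
import Cfsg.Prelude.Def_ChevStructure
import Cfsg.Agent.Lib.helper14.G2InvA

/-!
# Type `G₂` in characteristic two: elements of `X_9 X_10 X_11` and of `X_7 X_10 X_11`
are conjugate to root elements
-/

set_option autoImplicit false

namespace Cfsg.Agent.Lib.helper14

open Cfsg.Lie Cfsg.Lie.ChevalleyDatum Cfsg.Agent.Lib.helper8

universe u

variable {F : Type u} [Field F]

theorem g2i_K79 : h8K chevG2 7 9 = 1 := by decide +kernel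

theorem g2i_K611 : h8K chevG2 6 11 = 1 := by decide +kernel

theorem g2i_refl : chevG2.reflectRoot 1 7 = 8 ∧ chevG2.reflectRoot 0 8 = 9 ∧
    chevG2.reflectRoot 1 10 = 11 ∧ chevG2.reflectRoot 1 8 = 7 ∧ chevG2.reflectRoot 1 11 = 10 ∧
    chevG2.reflectRoot 0 6 = 10 ∧ chevG2.reflectRoot 0 9 = 8 ∧ chevG2.reflectRoot 0 11 = 11 := by
  decide +kernel

variable (hB : H8Base.{u} chevG2)

local notation "𝔵" => h8xU chevG2 hB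
local notation "𝔙" k => Subgroup.closure (h8VkSet chevG2 F k)

/-- torus conjugation: `x_r(c) ∼ x_r(1)` when some `h_p` acts on `X_r` through the identity
character -/
theorem g2i_torus (p r : ℕ) (hp : p < 12) (hr : r < 12) (hK : h8K chevG2 p r = 1) (c : F)
    (hc : c ≠ 0) : G2Cj (𝔵 r c) (𝔵 r 1) := by
  have hp' : p < chevG2.nroots := by rw [g2c_nroots]; exact hp
  have hr' : r < chevG2.nroots := by rw [g2c_nroots]; exact hr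
  refine g2cj_of_mul (h := h8hU chevG2 hB p c⁻¹) (h8hU_mem_group chevG2 hB p c⁻¹) ?_
  apply Units.ext
  rw [Units.val_mul, Units.val_mul, h8hU_val, h8xU_val, h8xU_val]
  have h1 := h8hMat_conj_x chevG2 hB.ca p r hr' c⁻¹ (inv_ne_zero hc) c
    (hB.hdiag F p hp' c⁻¹ (inv_ne_zero hc))
  rw [hK, zpow_one, inv_mul_cancel₀ hc] at h1
  exact h1

/-- Weyl conjugation by a fundamental reflection -/
theorem g2i_weyl (hA : H8ReflAll chevG2) (i s : ℕ) (hi : i < 2) (hs : s < 12) :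
    ∃ η : F, η ≠ 0 ∧ ∀ c : F, G2Cj (𝔵 s c) (𝔵 (chevG2.reflectRoot i s) (η * c)) := by
  have hi' : i < chevG2.rank := by rw [g2c_rank]; exact hi
  obtain ⟨η, hη, hact⟩ := h8act_nU (F := F) chevG2 hB hA i hi' s (by rw [g2c_nroots]; exact hs)
  refine ⟨η, hη, fun c => ⟨h8nU chevG2 hB (chevG2.simple i) (1 : F), ?_, hact c⟩⟩
  apply h8_N_le_group chevG2 hB
  apply h8nU_mem_N chevG2 hB
  have h7 := g2c_simple.1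
  have h6 := g2c_simple.2
  have : i = 0 ∨ i = 1 := by omega
  rcases this with rfl | rfl
  · rw [h7, g2c_nroots]; omega
  · rw [h6, g2c_nroots]; omega

section char2

variable [CharP F 2]

/-- conjugating `x_9(d) x_10(e) x_11(f)` by `x_7(s)` -/
theorem g2i_mvE7 (hC : H8CommAll.{u} chevG2) (d e f s : F) :
    𝔵 7 s * (𝔵 9 d * 𝔵 10 e * 𝔵 11 f) = (𝔵 9 d * 𝔵 10 (e + d * s) * 𝔵 11 f) * 𝔵 7 s := by
  have c := g2i_c97 hB hC d s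
  have k1 : ∀ y : F, 𝔵 10 y * 𝔵 7 s = 𝔵 7 s * 𝔵 10 y := fun y =>
    g2i_comm0 hB hC 7 10 (by omega) (by omega) (by omega) (by simp) s y
  have k2 : ∀ y : F, 𝔵 11 y * 𝔵 7 s = 𝔵 7 s * 𝔵 11 y := fun y =>
    g2i_comm0 hB hC 7 11 (by omega) (by omega) (by omega) (by simp) s y
  calc 𝔵 7 s * (𝔵 9 d * 𝔵 10 e * 𝔵 11 f) = (𝔵 7 s * 𝔵 9 d) * 𝔵 10 e * 𝔵 11 f := by group
    _ = (𝔵 9 d * 𝔵 7 s * 𝔵 10 (d * s)) * 𝔵 10 e * 𝔵 11 f := by rw [c]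
    _ = 𝔵 9 d * 𝔵 7 s * (𝔵 10 (d * s) * 𝔵 10 e) * 𝔵 11 f := by group
    _ = 𝔵 9 d * 𝔵 7 s * 𝔵 10 (e + d * s) * 𝔵 11 f := by
        rw [g2i_add hB 10 (by omega), add_comm]
    _ = 𝔵 9 d * (𝔵 7 s * 𝔵 10 (e + d * s)) * 𝔵 11 f := by group
    _ = 𝔵 9 d * (𝔵 10 (e + d * s) * 𝔵 7 s) * 𝔵 11 f := by rw [k1]
    _ = 𝔵 9 d * 𝔵 10 (e + d * s) * (𝔵 7 s * 𝔵 11 f) := by group
    _ = 𝔵 9 d * 𝔵 10 (e + d * s) * (𝔵 11 f * 𝔵 7 s) := by rw [k2]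
    _ = (𝔵 9 d * 𝔵 10 (e + d * s) * 𝔵 11 f) * 𝔵 7 s := by group

/-- conjugating `x_9(d) x_10(e) x_11(f)` by `x_8(s)` -/
theorem g2i_mvE8 (hC : H8CommAll.{u} chevG2) (d e f s : F) :
    𝔵 8 s * (𝔵 9 d * 𝔵 10 e * 𝔵 11 f) = (𝔵 9 d * 𝔵 10 e * 𝔵 11 (f + d * s)) * 𝔵 8 s := by
  have c := g2i_c98 hB hC d s
  have k1 : ∀ y : F, 𝔵 10 y * 𝔵 8 s = 𝔵 8 s * 𝔵 10 y := fun y =>
    g2i_comm0 hB hC 8 10 (by omega) (by omega) (by omega) (by simp) s y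
  have k2 : ∀ y : F, 𝔵 11 y * 𝔵 8 s = 𝔵 8 s * 𝔵 11 y := fun y =>
    g2i_comm0 hB hC 8 11 (by omega) (by omega) (by omega) (by simp) s y
  have k3 : ∀ x y : F, 𝔵 11 y * 𝔵 10 x = 𝔵 10 x * 𝔵 11 y := fun x y =>
    g2i_comm0 hB hC 10 11 (by omega) (by omega) (by omega) (by simp) x y
  calc 𝔵 8 s * (𝔵 9 d * 𝔵 10 e * 𝔵 11 f) = (𝔵 8 s * 𝔵 9 d) * 𝔵 10 e * 𝔵 11 f := by group
    _ = (𝔵 9 d * 𝔵 8 s * 𝔵 11 (d * s)) * 𝔵 10 e * 𝔵 11 f := by rw [c]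
    _ = 𝔵 9 d * 𝔵 8 s * (𝔵 11 (d * s) * 𝔵 10 e) * 𝔵 11 f := by group
    _ = 𝔵 9 d * 𝔵 8 s * (𝔵 10 e * 𝔵 11 (d * s)) * 𝔵 11 f := by rw [k3]
    _ = 𝔵 9 d * (𝔵 8 s * 𝔵 10 e) * (𝔵 11 (d * s) * 𝔵 11 f) := by group
    _ = 𝔵 9 d * (𝔵 10 e * 𝔵 8 s) * 𝔵 11 (f + d * s) := by
        rw [k1, g2i_add hB 11 (by omega), add_comm]
    _ = 𝔵 9 d * 𝔵 10 e * (𝔵 8 s * 𝔵 11 (f + d * s)) := by group
    _ = 𝔵 9 d * 𝔵 10 e * (𝔵 11 (f + d * s) * 𝔵 8 s) := by rw [k2]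
    _ = (𝔵 9 d * 𝔵 10 e * 𝔵 11 (f + d * s)) * 𝔵 8 s := by group

/-- conjugating `x_10(e) x_11(f)` by `x_6(s)` -/
theorem g2i_mvE6 (hC : H8CommAll.{u} chevG2) (e f s : F) :
    𝔵 6 s * (𝔵 10 e * 𝔵 11 f) = (𝔵 10 e * 𝔵 11 (f + e * s)) * 𝔵 6 s := by
  have c := g2i_c10_6 hB hC e s
  have k2 : ∀ y : F, 𝔵 11 y * 𝔵 6 s = 𝔵 6 s * 𝔵 11 y := fun y =>
    g2i_comm0 hB hC 6 11 (by omega) (by omega) (by omega) (by simp) s y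
  calc 𝔵 6 s * (𝔵 10 e * 𝔵 11 f) = (𝔵 6 s * 𝔵 10 e) * 𝔵 11 f := by group
    _ = (𝔵 10 e * 𝔵 6 s * 𝔵 11 (e * s)) * 𝔵 11 f := by rw [c]
    _ = 𝔵 10 e * 𝔵 6 s * (𝔵 11 (e * s) * 𝔵 11 f) := by group
    _ = 𝔵 10 e * 𝔵 6 s * 𝔵 11 (f + e * s) := by rw [g2i_add hB 11 (by omega), add_comm]
    _ = 𝔵 10 e * (𝔵 6 s * 𝔵 11 (f + e * s)) := by group
    _ = 𝔵 10 e * (𝔵 11 (f + e * s) * 𝔵 6 s) := by rw [k2]
    _ = (𝔵 10 e * 𝔵 11 (f + e * s)) * 𝔵 6 s := by group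

/-- conjugating `x_7(b) x_10(e) x_11(f)` by `x_9(s)` -/
theorem g2i_mv79 (hC : H8CommAll.{u} chevG2) (b e f s : F) :
    𝔵 9 s * (𝔵 7 b * 𝔵 10 e * 𝔵 11 f) = (𝔵 7 b * 𝔵 10 (e + b * s) * 𝔵 11 f) * 𝔵 9 s := by
  have c := g2i_c79 hB hC b s
  have k1 : ∀ y : F, 𝔵 10 y * 𝔵 9 s = 𝔵 9 s * 𝔵 10 y := fun y =>
    g2i_comm0 hB hC 9 10 (by omega) (by omega) (by omega) (by simp) s y
  have k2 : ∀ y : F, 𝔵 11 y * 𝔵 9 s = 𝔵 9 s * 𝔵 11 y := fun y =>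
    g2i_comm0 hB hC 9 11 (by omega) (by omega) (by omega) (by simp) s y
  calc 𝔵 9 s * (𝔵 7 b * 𝔵 10 e * 𝔵 11 f) = (𝔵 9 s * 𝔵 7 b) * 𝔵 10 e * 𝔵 11 f := by group
    _ = (𝔵 7 b * 𝔵 9 s * 𝔵 10 (b * s)) * 𝔵 10 e * 𝔵 11 f := by rw [c]
    _ = 𝔵 7 b * 𝔵 9 s * (𝔵 10 (b * s) * 𝔵 10 e) * 𝔵 11 f := by group
    _ = 𝔵 7 b * 𝔵 9 s * 𝔵 10 (e + b * s) * 𝔵 11 f := by
        rw [g2i_add hB 10 (by omega), add_comm]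
    _ = 𝔵 7 b * (𝔵 9 s * 𝔵 10 (e + b * s)) * 𝔵 11 f := by group
    _ = 𝔵 7 b * (𝔵 10 (e + b * s) * 𝔵 9 s) * 𝔵 11 f := by rw [k1]
    _ = 𝔵 7 b * 𝔵 10 (e + b * s) * (𝔵 9 s * 𝔵 11 f) := by group
    _ = 𝔵 7 b * 𝔵 10 (e + b * s) * (𝔵 11 f * 𝔵 9 s) := by rw [k2]
    _ = (𝔵 7 b * 𝔵 10 (e + b * s) * 𝔵 11 f) * 𝔵 9 s := by group

/-- conjugating `x_7(b) x_10(e) x_11(f)` by `x_8(s)` -/
theorem g2i_mv78 (hC : H8CommAll.{u} chevG2) (b e f s : F) :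
    𝔵 8 s * (𝔵 7 b * 𝔵 10 e * 𝔵 11 f) =
      (𝔵 7 b * 𝔵 10 (e + b ^ 2 * s) * 𝔵 11 (f + b * s ^ 2)) * 𝔵 8 s := by
  have c := g2i_c78 hB hC b s
  have k1 : ∀ y : F, 𝔵 10 y * 𝔵 8 s = 𝔵 8 s * 𝔵 10 y := fun y =>
    g2i_comm0 hB hC 8 10 (by omega) (by omega) (by omega) (by simp) s y
  have k2 : ∀ y : F, 𝔵 11 y * 𝔵 8 s = 𝔵 8 s * 𝔵 11 y := fun y =>
    g2i_comm0 hB hC 8 11 (by omega) (by omega) (by omega) (by simp) s y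
  have k3 : ∀ x y : F, 𝔵 11 y * 𝔵 10 x = 𝔵 10 x * 𝔵 11 y := fun x y =>
    g2i_comm0 hB hC 10 11 (by omega) (by omega) (by omega) (by simp) x y
  calc 𝔵 8 s * (𝔵 7 b * 𝔵 10 e * 𝔵 11 f) = (𝔵 8 s * 𝔵 7 b) * 𝔵 10 e * 𝔵 11 f := by group
    _ = (𝔵 7 b * 𝔵 8 s * 𝔵 10 (b ^ 2 * s) * 𝔵 11 (b * s ^ 2)) * 𝔵 10 e * 𝔵 11 f := by rw [c]
    _ = 𝔵 7 b * 𝔵 8 s * 𝔵 10 (b ^ 2 * s) * (𝔵 11 (b * s ^ 2) * 𝔵 10 e) * 𝔵 11 f := by group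
    _ = 𝔵 7 b * 𝔵 8 s * 𝔵 10 (b ^ 2 * s) * (𝔵 10 e * 𝔵 11 (b * s ^ 2)) * 𝔵 11 f := by rw [k3]
    _ = 𝔵 7 b * 𝔵 8 s * (𝔵 10 (b ^ 2 * s) * 𝔵 10 e) * (𝔵 11 (b * s ^ 2) * 𝔵 11 f) := by group
    _ = 𝔵 7 b * 𝔵 8 s * 𝔵 10 (e + b ^ 2 * s) * 𝔵 11 (f + b * s ^ 2) := by
        rw [g2i_add hB 10 (by omega), g2i_add hB 11 (by omega), add_comm (b ^ 2 * s),
          add_comm (b * s ^ 2)]
    _ = 𝔵 7 b * (𝔵 8 s * 𝔵 10 (e + b ^ 2 * s)) * 𝔵 11 (f + b * s ^ 2) := by group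
    _ = 𝔵 7 b * (𝔵 10 (e + b ^ 2 * s) * 𝔵 8 s) * 𝔵 11 (f + b * s ^ 2) := by rw [k1]
    _ = 𝔵 7 b * 𝔵 10 (e + b ^ 2 * s) * (𝔵 8 s * 𝔵 11 (f + b * s ^ 2)) := by group
    _ = 𝔵 7 b * 𝔵 10 (e + b ^ 2 * s) * (𝔵 11 (f + b * s ^ 2) * 𝔵 8 s) := by rw [k2]
    _ = (𝔵 7 b * 𝔵 10 (e + b ^ 2 * s) * 𝔵 11 (f + b * s ^ 2)) * 𝔵 8 s := by group

/-- a nontrivial element of `X_9 X_10 X_11` is conjugate to `x_11(1)` or to `x_9(1)` -/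
theorem g2i_L1 (hA : H8ReflAll chevG2) (hC : H8CommAll.{u} chevG2) (d e f : F)
    (hne : ¬ (d = 0 ∧ e = 0 ∧ f = 0)) :
    G2Cj (𝔵 9 d * 𝔵 10 e * 𝔵 11 f) (𝔵 11 1) ∨ G2Cj (𝔵 9 d * 𝔵 10 e * 𝔵 11 f) (𝔵 9 1) := by
  have hxG : ∀ (r : ℕ) (a : F), 𝔵 r a ∈ chevG2.group F := fun r a => h8xU_mem_group chevG2 hB r a
  by_cases hd : d = 0
  · left
    subst hd
    rw [h8xU_zero, one_mul]
    by_cases he : e = 0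
    · subst he
      rw [h8xU_zero, one_mul]
      have hf : f ≠ 0 := fun hf => hne ⟨rfl, rfl, hf⟩
      exact g2i_torus hB 6 11 (by omega) (by omega) g2i_K611 f hf
    · have s1 : G2Cj (𝔵 10 e * 𝔵 11 f) (𝔵 10 e) := by
        have := g2cj_of_mul (hxG 6 (f / e)) (g2i_mvE6 hB hC e f (f / e))
        have e0 : f + e * (f / e) = 0 := by
          rw [mul_div_cancel₀ f he, CharTwo.add_self_eq_zero]
        rwa [e0, h8xU_zero, mul_one] at this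
      obtain ⟨η, hη, hw⟩ := g2i_weyl hB hA 1 10 (by omega) (by omega) (F := F)
      have s2 := hw e
      rw [g2i_refl.2.2.1] at s2
      have s3 := g2i_torus hB 6 11 (by omega) (by omega) g2i_K611 (η * e) (mul_ne_zero hη he)
      exact g2cj_trans s1 (g2cj_trans s2 s3)
  · right
    have s1 : G2Cj (𝔵 9 d * 𝔵 10 e * 𝔵 11 f) (𝔵 9 d * 𝔵 10 0 * 𝔵 11 f) := by
      have := g2cj_of_mul (hxG 7 (e / d)) (g2i_mvE7 hB hC d e f (e / d))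
      have e0 : e + d * (e / d) = 0 := by
        rw [mul_div_cancel₀ e hd, CharTwo.add_self_eq_zero]
      rwa [e0] at this
    have s2 : G2Cj (𝔵 9 d * 𝔵 10 0 * 𝔵 11 f) (𝔵 9 d) := by
      have := g2cj_of_mul (hxG 8 (f / d)) (g2i_mvE8 hB hC d 0 f (f / d))
      have e0 : f + d * (f / d) = 0 := by
        rw [mul_div_cancel₀ f hd, CharTwo.add_self_eq_zero]
      have e1 : 𝔵 9 d * 𝔵 10 0 * 𝔵 11 (f + d * (f / d)) = 𝔵 9 d := by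
        rw [e0, h8xU_zero, h8xU_zero, mul_one, mul_one]
      rwa [e1] at this
    have s3 := g2i_torus hB 7 9 (by omega) (by omega) g2i_K79 d hd
    exact g2cj_trans s1 (g2cj_trans s2 s3)

/-- `x_7(b) x_10(e) x_11(f)`, `b ≠ 0`, is conjugate to `x_9(1)` -/
theorem g2i_L2 [Finite F] (hA : H8ReflAll chevG2) (hC : H8CommAll.{u} chevG2) (b e f : F)
    (hb : b ≠ 0) : G2Cj (𝔵 7 b * 𝔵 10 e * 𝔵 11 f) (𝔵 9 1) := by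
  have hxG : ∀ (r : ℕ) (a : F), 𝔵 r a ∈ chevG2.group F := fun r a => h8xU_mem_group chevG2 hB r a
  obtain ⟨s, hs⟩ := isSquare_of_charTwo' (f / b)
  have s1 : G2Cj (𝔵 7 b * 𝔵 10 e * 𝔵 11 f) (𝔵 7 b * 𝔵 10 (e + b ^ 2 * s) * 𝔵 11 0) := by
    have := g2cj_of_mul (hxG 8 s) (g2i_mv78 hB hC b e f s)
    have e0 : f + b * s ^ 2 = 0 := by
      rw [pow_two, ← hs, mul_div_cancel₀ f hb, CharTwo.add_self_eq_zero]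
    rwa [e0] at this
  have s2 : G2Cj (𝔵 7 b * 𝔵 10 (e + b ^ 2 * s) * 𝔵 11 0) (𝔵 7 b) := by
    have := g2cj_of_mul (hxG 9 ((e + b ^ 2 * s) / b))
      (g2i_mv79 hB hC b (e + b ^ 2 * s) 0 ((e + b ^ 2 * s) / b))
    have e0 : (e + b ^ 2 * s) + b * ((e + b ^ 2 * s) / b) = 0 := by
      rw [mul_div_cancel₀ _ hb, CharTwo.add_self_eq_zero]
    have e1 : 𝔵 7 b * 𝔵 10 ((e + b ^ 2 * s) + b * ((e + b ^ 2 * s) / b)) * 𝔵 11 0 = 𝔵 7 b := by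
      rw [e0, h8xU_zero, h8xU_zero, mul_one, mul_one]
    rwa [e1] at this
  obtain ⟨η1, hη1, hw1⟩ := g2i_weyl hB hA 1 7 (by omega) (by omega) (F := F)
  obtain ⟨η2, hη2, hw2⟩ := g2i_weyl hB hA 0 8 (by omega) (by omega) (F := F)
  have s3 := hw1 b
  rw [g2i_refl.1] at s3
  have s4 := hw2 (η1 * b)
  rw [g2i_refl.2.1] at s4
  have s5 := g2i_torus hB 7 9 (by omega) (by omega) g2i_K79 (η2 * (η1 * b))
    (mul_ne_zero hη2 (mul_ne_zero hη1 hb))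
  exact g2cj_trans s1 (g2cj_trans s2 (g2cj_trans s3 (g2cj_trans s4 s5)))

end char2

end Cfsg.Agent.Lib.helper14
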