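import Mathlib
import Cfsg.Prelude.Def_ChevStructure
import Cfsg.Agent.Lib.helper14.G2InvB

/-!
# Type `G₂` in characteristic two: every involution of `U` is conjugate to a root element
-/

set_option autoImplicit false

namespace Cfsg.Agent.Lib.helper14

open Cfsg.Lie Cfsg.Lie.ChevalleyDatum Cfsg.Agent.Lib.helper8

universe u

variable {F : Type u} [Field F]

/-- `(A X)² = W` when `X A = A X W`, `A² = X² = 1` and `W` commutes with `X` -/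
theorem g2i_sq_comm {G : Type*} [Group G] (A X W : G) (hA : A * A = 1) (hX : X * X = 1)
    (hXA : X * A = A * X * W) (hWX : W * X = X * W) : (A * X) * (A * X) = W := by
  calc (A * X) * (A * X) = A * (X * A) * X := by group
    _ = A * (A * X * W) * X := by rw [hXA]
    _ = (A * A) * X * (W * X) := by group
    _ = X * (X * W) := by rw [hA, hWX, one_mul]
    _ = (X * X) * W := by group
    _ = W := by rw [hX, one_mul]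

/-- `(P Q)² = P²` when `Q` commutes with `P` and `Q² = 1` -/
theorem g2i_sq_split {G : Type*} [Group G] (P Q : G) (hQP : Q * P = P * Q) (hQ : Q * Q = 1) :
    (P * Q) * (P * Q) = P * P := by
  calc (P * Q) * (P * Q) = P * (Q * P) * Q := by group
    _ = P * (P * Q) * Q := by rw [hQP]
    _ = P * P * (Q * Q) := by group
    _ = P * P := by rw [hQ, mul_one]

variable (hB : H8Base.{u} chevG2)

local notation "𝔵" => h8xU chevG2 hB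
local notation "𝔙" k => Subgroup.closure (h8VkSet chevG2 F k)

/-- `x_k(a) = 1` forces `a = 0` for a positive root `k` -/
theorem g2i_x_eq_one (hO2 : H8Ord2 chevG2) (k : ℕ) (h6 : 6 ≤ k) (h12 : k < 12) (a : F)
    (h : 𝔵 k a = 1) : a = 0 :=
  g2c_peel hB hO2 k (g2c_pos k h6 h12) a 1 1 1 (Subgroup.one_mem _) (Subgroup.one_mem _)
    (Subgroup.one_mem _) (by rw [one_mul, mul_one]; exact h)

section char2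

variable [CharP F 2]

/-- the square of `x_7(b) x_9(d) x_10(e) x_11(f)` -/
theorem g2i_inv79 (hC : H8CommAll.{u} chevG2) (b d e f : F) :
    (𝔵 7 b * 𝔵 9 d * 𝔵 10 e * 𝔵 11 f) * (𝔵 7 b * 𝔵 9 d * 𝔵 10 e * 𝔵 11 f) = 𝔵 10 (b * d) := by
  have k := fun (r s : ℕ) (hr : r < 12) (hs : s < 12) (hsn : s ≠ 11 - r) hp (t v : F) =>
    g2i_comm0 hB hC r s hr hs hsn hp t v
  have e1 : 𝔵 7 b * 𝔵 9 d * 𝔵 10 e * 𝔵 11 f = (𝔵 7 b * 𝔵 9 d) * (𝔵 10 e * 𝔵 11 f) := by group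
  rw [e1, g2i_sq_split]
  · exact g2i_sq_comm _ _ _ (g2i_sq hB 7 (by omega) b) (g2i_sq hB 9 (by omega) d)
      (g2i_c79 hB hC b d) (k 9 10 (by omega) (by omega) (by omega) (by simp) d _)
  · calc 𝔵 10 e * 𝔵 11 f * (𝔵 7 b * 𝔵 9 d) = 𝔵 10 e * (𝔵 11 f * 𝔵 7 b) * 𝔵 9 d := by group
      _ = 𝔵 10 e * (𝔵 7 b * 𝔵 11 f) * 𝔵 9 d := by
          rw [k 7 11 (by omega) (by omega) (by omega) (by simp) b f]
      _ = (𝔵 10 e * 𝔵 7 b) * (𝔵 11 f * 𝔵 9 d) := by group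
      _ = (𝔵 7 b * 𝔵 10 e) * (𝔵 9 d * 𝔵 11 f) := by
          rw [k 7 10 (by omega) (by omega) (by omega) (by simp) b e,
            k 9 11 (by omega) (by omega) (by omega) (by simp) d f]
      _ = 𝔵 7 b * (𝔵 10 e * 𝔵 9 d) * 𝔵 11 f := by group
      _ = 𝔵 7 b * (𝔵 9 d * 𝔵 10 e) * 𝔵 11 f := by
          rw [k 9 10 (by omega) (by omega) (by omega) (by simp) d e]
      _ = 𝔵 7 b * 𝔵 9 d * (𝔵 10 e * 𝔵 11 f) := by group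
  · calc 𝔵 10 e * 𝔵 11 f * (𝔵 10 e * 𝔵 11 f) = 𝔵 10 e * (𝔵 11 f * 𝔵 10 e) * 𝔵 11 f := by group
      _ = 𝔵 10 e * (𝔵 10 e * 𝔵 11 f) * 𝔵 11 f := by
          rw [k 10 11 (by omega) (by omega) (by omega) (by simp) e f]
      _ = (𝔵 10 e * 𝔵 10 e) * (𝔵 11 f * 𝔵 11 f) := by group
      _ = 1 := by rw [g2i_sq hB 10 (by omega), g2i_sq hB 11 (by omega), one_mul]

/-- the square of `x_8(c) x_9(d) x_10(e) x_11(f)` -/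
theorem g2i_inv89 (hC : H8CommAll.{u} chevG2) (c d e f : F) :
    (𝔵 8 c * 𝔵 9 d * 𝔵 10 e * 𝔵 11 f) * (𝔵 8 c * 𝔵 9 d * 𝔵 10 e * 𝔵 11 f) = 𝔵 11 (c * d) := by
  have k := fun (r s : ℕ) (hr : r < 12) (hs : s < 12) (hsn : s ≠ 11 - r) hp (t v : F) =>
    g2i_comm0 hB hC r s hr hs hsn hp t v
  have e1 : 𝔵 8 c * 𝔵 9 d * 𝔵 10 e * 𝔵 11 f = (𝔵 8 c * 𝔵 9 d) * (𝔵 10 e * 𝔵 11 f) := by group
  rw [e1, g2i_sq_split]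
  · exact g2i_sq_comm _ _ _ (g2i_sq hB 8 (by omega) c) (g2i_sq hB 9 (by omega) d)
      (g2i_c89 hB hC c d) (k 9 11 (by omega) (by omega) (by omega) (by simp) d _)
  · calc 𝔵 10 e * 𝔵 11 f * (𝔵 8 c * 𝔵 9 d) = 𝔵 10 e * (𝔵 11 f * 𝔵 8 c) * 𝔵 9 d := by group
      _ = 𝔵 10 e * (𝔵 8 c * 𝔵 11 f) * 𝔵 9 d := by
          rw [k 8 11 (by omega) (by omega) (by omega) (by simp) c f]
      _ = (𝔵 10 e * 𝔵 8 c) * (𝔵 11 f * 𝔵 9 d) := by group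
      _ = (𝔵 8 c * 𝔵 10 e) * (𝔵 9 d * 𝔵 11 f) := by
          rw [k 8 10 (by omega) (by omega) (by omega) (by simp) c e,
            k 9 11 (by omega) (by omega) (by omega) (by simp) d f]
      _ = 𝔵 8 c * (𝔵 10 e * 𝔵 9 d) * 𝔵 11 f := by group
      _ = 𝔵 8 c * (𝔵 9 d * 𝔵 10 e) * 𝔵 11 f := by
          rw [k 9 10 (by omega) (by omega) (by omega) (by simp) d e]
      _ = 𝔵 8 c * 𝔵 9 d * (𝔵 10 e * 𝔵 11 f) := by group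
  · calc 𝔵 10 e * 𝔵 11 f * (𝔵 10 e * 𝔵 11 f) = 𝔵 10 e * (𝔵 11 f * 𝔵 10 e) * 𝔵 11 f := by group
      _ = 𝔵 10 e * (𝔵 10 e * 𝔵 11 f) * 𝔵 11 f := by
          rw [k 10 11 (by omega) (by omega) (by omega) (by simp) e f]
      _ = (𝔵 10 e * 𝔵 10 e) * (𝔵 11 f * 𝔵 11 f) := by group
      _ = 1 := by rw [g2i_sq hB 10 (by omega), g2i_sq hB 11 (by omega), one_mul]

/-- the square of `x_6(a) x_9(d) x_10(e) x_11(f)` -/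
theorem g2i_inv6 (hC : H8CommAll.{u} chevG2) (a d e f : F) :
    (𝔵 6 a * 𝔵 9 d * 𝔵 10 e * 𝔵 11 f) * (𝔵 6 a * 𝔵 9 d * 𝔵 10 e * 𝔵 11 f) = 𝔵 11 (a * e) := by
  have k := fun (r s : ℕ) (hr : r < 12) (hs : s < 12) (hsn : s ≠ 11 - r) hp (t v : F) =>
    g2i_comm0 hB hC r s hr hs hsn hp t v
  have e1 : 𝔵 6 a * 𝔵 9 d * 𝔵 10 e * 𝔵 11 f = (𝔵 6 a * 𝔵 10 e) * (𝔵 9 d * 𝔵 11 f) := by
    calc 𝔵 6 a * 𝔵 9 d * 𝔵 10 e * 𝔵 11 f = 𝔵 6 a * (𝔵 9 d * 𝔵 10 e) * 𝔵 11 f := by group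
      _ = 𝔵 6 a * (𝔵 10 e * 𝔵 9 d) * 𝔵 11 f := by
          rw [k 9 10 (by omega) (by omega) (by omega) (by simp) d e]
      _ = (𝔵 6 a * 𝔵 10 e) * (𝔵 9 d * 𝔵 11 f) := by group
  rw [e1, g2i_sq_split]
  · exact g2i_sq_comm _ _ _ (g2i_sq hB 6 (by omega) a) (g2i_sq hB 10 (by omega) e)
      (g2i_c6_10 hB hC a e) (k 10 11 (by omega) (by omega) (by omega) (by simp) e _)
  · calc 𝔵 9 d * 𝔵 11 f * (𝔵 6 a * 𝔵 10 e) = 𝔵 9 d * (𝔵 11 f * 𝔵 6 a) * 𝔵 10 e := by group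
      _ = 𝔵 9 d * (𝔵 6 a * 𝔵 11 f) * 𝔵 10 e := by
          rw [k 6 11 (by omega) (by omega) (by omega) (by simp) a f]
      _ = (𝔵 9 d * 𝔵 6 a) * (𝔵 11 f * 𝔵 10 e) := by group
      _ = (𝔵 6 a * 𝔵 9 d) * (𝔵 10 e * 𝔵 11 f) := by
          rw [k 6 9 (by omega) (by omega) (by omega) (by simp) a d,
            k 10 11 (by omega) (by omega) (by omega) (by simp) e f]
      _ = 𝔵 6 a * (𝔵 9 d * 𝔵 10 e) * 𝔵 11 f := by group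
      _ = 𝔵 6 a * (𝔵 10 e * 𝔵 9 d) * 𝔵 11 f := by
          rw [k 9 10 (by omega) (by omega) (by omega) (by simp) d e]
      _ = 𝔵 6 a * 𝔵 10 e * (𝔵 9 d * 𝔵 11 f) := by group
  · calc 𝔵 9 d * 𝔵 11 f * (𝔵 9 d * 𝔵 11 f) = 𝔵 9 d * (𝔵 11 f * 𝔵 9 d) * 𝔵 11 f := by group
      _ = 𝔵 9 d * (𝔵 9 d * 𝔵 11 f) * 𝔵 11 f := by
          rw [k 9 11 (by omega) (by omega) (by omega) (by simp) d f]
      _ = (𝔵 9 d * 𝔵 9 d) * (𝔵 11 f * 𝔵 11 f) := by group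
      _ = 1 := by rw [g2i_sq hB 9 (by omega), g2i_sq hB 11 (by omega), one_mul]

omit [CharP F 2] in
/-- conjugating `x_q(b) x_8(c) v`, `v ∈ V_9`, by `x_p(s)`, given the leading term of the
commutator of `x_p(s)` and `x_q(b)` -/
theorem g2i_lead_conj (hC : H8CommAll.{u} chevG2) (hO : H8Ord chevG2) (p q : ℕ) (hp6 : 6 ≤ p)
    (hp12 : p < 12) (b c s : F)
    (hpq : ∃ e ∈ 𝔙 9, 𝔵 p s * 𝔵 q b = 𝔵 q b * 𝔵 p s * 𝔵 8 (b * s) * e)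
    (v9 : GL chevG2.Idx F) (hv9 : v9 ∈ 𝔙 9) :
    ∃ v' ∈ 𝔙 9, 𝔵 p s * (𝔵 q b * (𝔵 8 c * v9)) * (𝔵 p s)⁻¹ = 𝔵 q b * (𝔵 8 (c + b * s) * v') := by
  obtain ⟨e, he, hcomm⟩ := hpq
  have hp := g2c_pos p hp6 hp12
  have h8 := g2c_pos 8 (by omega) (by omega)
  obtain ⟨w1, hw1, c1⟩ := cf_conj_gen chevG2 hB hC hO g2c_cfMax p 8 hp h8 s (b * s)
  obtain ⟨w2, hw2, c2⟩ := cf_conj_gen chevG2 hB hC hO g2c_cfMax p 8 hp h8 s c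
  have he1 := cf_norm_gen chevG2 hB hC hO g2c_cfMax p hp s 9 e he
  have hv1 := cf_norm_gen chevG2 hB hC hO g2c_cfMax p hp s 9 v9 hv9
  have hconj := cf_norm_gen chevG2 hB hC hO g2c_cfMax 8 h8 (-c) 9 _
    (Subgroup.mul_mem _ hw1 he1)
  rw [← h8xU_inv] at hconj
  refine ⟨(𝔵 8 c)⁻¹ * (w1 * (𝔵 p s * e * (𝔵 p s)⁻¹)) * ((𝔵 8 c)⁻¹)⁻¹ * w2 *
    (𝔵 p s * v9 * (𝔵 p s)⁻¹), Subgroup.mul_mem _ (Subgroup.mul_mem _ hconj hw2) hv1, ?_⟩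
  calc 𝔵 p s * (𝔵 q b * (𝔵 8 c * v9)) * (𝔵 p s)⁻¹
      = (𝔵 p s * 𝔵 q b) * (𝔵 p s)⁻¹ * (𝔵 p s * 𝔵 8 c * (𝔵 p s)⁻¹) *
          (𝔵 p s * v9 * (𝔵 p s)⁻¹) := by group
    _ = (𝔵 q b * 𝔵 p s * 𝔵 8 (b * s) * e) * (𝔵 p s)⁻¹ * (𝔵 8 c * w2) *
          (𝔵 p s * v9 * (𝔵 p s)⁻¹) := by rw [hcomm, c2]
    _ = 𝔵 q b * (𝔵 p s * 𝔵 8 (b * s) * (𝔵 p s)⁻¹) * (𝔵 p s * e * (𝔵 p s)⁻¹) * (𝔵 8 c * w2) *
          (𝔵 p s * v9 * (𝔵 p s)⁻¹) := by group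
    _ = 𝔵 q b * (𝔵 8 (b * s) * w1) * (𝔵 p s * e * (𝔵 p s)⁻¹) * (𝔵 8 c * w2) *
          (𝔵 p s * v9 * (𝔵 p s)⁻¹) := by rw [c1]
    _ = 𝔵 q b * ((𝔵 8 (b * s) * 𝔵 8 c) * ((𝔵 8 c)⁻¹ * (w1 * (𝔵 p s * e * (𝔵 p s)⁻¹)) *
          ((𝔵 8 c)⁻¹)⁻¹ * w2 * (𝔵 p s * v9 * (𝔵 p s)⁻¹))) := by group
    _ = 𝔵 q b * (𝔵 8 (c + b * s) * ((𝔵 8 c)⁻¹ * (w1 * (𝔵 p s * e * (𝔵 p s)⁻¹)) *
          ((𝔵 8 c)⁻¹)⁻¹ * w2 * (𝔵 p s * v9 * (𝔵 p s)⁻¹))) := by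
        rw [g2i_add hB 8 (by omega), add_comm]

end char2

end Cfsg.Agent.Lib.helper14
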