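import Mathlib
import Cfsg.Prelude.Def_ChevStructure
import Cfsg.Agent.Lib.helper14.G2InvC

/-!
# Type `G₂` in characteristic two: every involution of `U` is conjugate to `x_11(1)` or `x_9(1)`
-/

set_option autoImplicit false

namespace Cfsg.Agent.Lib.helper14

open Cfsg.Lie Cfsg.Lie.ChevalleyDatum Cfsg.Agent.Lib.helper8

universe u

variable {F : Type u} [Field F] [CharP F 2] [Finite F]

variable (hB : H8Base.{u} chevG2)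

local notation "𝔵" => h8xU chevG2 hB
local notation "𝔙" k => Subgroup.closure (h8VkSet chevG2 F k)

omit [CharP F 2] [Finite F] in
theorem g2i_conj_sq (h g : GL chevG2.Idx F) (hsq : g * g = 1) :
    (h * g * h⁻¹) * (h * g * h⁻¹) = 1 := by
  have : (h * g * h⁻¹) * (h * g * h⁻¹) = h * (g * g) * h⁻¹ := by group
  rw [this, hsq]; group

/-- involutions of `V_7 = X_7 X_8 X_9 X_10 X_11` -/
theorem g2i_L3 (hA : H8ReflAll chevG2) (hC : H8CommAll.{u} chevG2) (hO : H8Ord chevG2)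
    (hO2 : H8Ord2 chevG2) (g : GL chevG2.Idx F) (hg : g ∈ 𝔙 7) (hsq : g * g = 1) (hne : g ≠ 1) :
    G2Cj g (𝔵 11 1) ∨ G2Cj g (𝔵 9 1) := by
  have k := fun (r s : ℕ) (hr : r < 12) (hs : s < 12) (hsn : s ≠ 11 - r) hp (t v : F) =>
    g2i_comm0 hB hC r s hr hs hsn hp t v
  obtain ⟨b, v8, hv8, e1⟩ := h8Vk_step chevG2 hB hC hO 7 (g2c_pos 7 (by omega) (by omega)) g hg
  obtain ⟨c, v9, hv9, e2⟩ := h8Vk_step chevG2 hB hC hO 8 (g2c_pos 8 (by omega) (by omega)) v8 hv8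
  by_cases hb : b = 0
  · obtain ⟨d, e, f, e3⟩ := g2c_E_decomp hB hC hO v9 hv9
    have hg' : g = 𝔵 8 c * 𝔵 9 d * 𝔵 10 e * 𝔵 11 f := by
      rw [e1, hb, h8xU_zero, one_mul, e2, e3]; group
    by_cases hc : c = 0
    · have hg'' : g = 𝔵 9 d * 𝔵 10 e * 𝔵 11 f := by rw [hg', hc, h8xU_zero, one_mul]
      rw [hg'']
      apply g2i_L1 hB hA hC
      rintro ⟨rfl, rfl, rfl⟩
      apply hne
      rw [hg'', h8xU_zero, h8xU_zero, h8xU_zero, one_mul, one_mul]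
    · right
      have hsq' := g2i_inv89 hB hC c d e f
      rw [← hg', hsq] at hsq'
      have hcd : c * d = 0 := g2i_x_eq_one hB hO2 11 (by omega) (by omega) _ hsq'.symm
      have hd : d = 0 := (mul_eq_zero.mp hcd).resolve_left hc
      have hg3 : g = 𝔵 8 c * 𝔵 10 e * 𝔵 11 f := by rw [hg', hd, h8xU_zero, mul_one]
      have hr1 : 1 < chevG2.rank := by rw [g2c_rank]; omega
      have hlt : ∀ s, s < 12 → s < chevG2.nroots := fun s hs => by rw [g2c_nroots]; exact hs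
      obtain ⟨η8, hη8, a8⟩ := h8act_nU (F := F) chevG2 hB hA 1 hr1 8 (hlt 8 (by omega))
      obtain ⟨η10, _, a10⟩ := h8act_nU (F := F) chevG2 hB hA 1 hr1 10 (hlt 10 (by omega))
      obtain ⟨η11, _, a11⟩ := h8act_nU (F := F) chevG2 hB hA 1 hr1 11 (hlt 11 (by omega))
      rw [g2i_refl.2.2.2.1] at a8
      rw [g2i_refl.2.2.1] at a10
      rw [g2i_refl.2.2.2.2.1] at a11
      have hnG : h8nU chevG2 hB (chevG2.simple 1) (1 : F) ∈ chevG2.group F := by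
        apply h8_N_le_group chevG2 hB
        apply h8nU_mem_N chevG2 hB
        rw [g2c_simple.2, g2c_nroots]; omega
      have s1 : G2Cj g (𝔵 7 (η8 * c) * 𝔵 10 (η11 * f) * 𝔵 11 (η10 * e)) := by
        refine ⟨h8nU chevG2 hB (chevG2.simple 1) (1 : F), hnG, ?_⟩
        rw [hg3]
        calc h8nU chevG2 hB (chevG2.simple 1) (1 : F) * (𝔵 8 c * 𝔵 10 e * 𝔵 11 f) *
              (h8nU chevG2 hB (chevG2.simple 1) (1 : F))⁻¹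
            = (h8nU chevG2 hB (chevG2.simple 1) (1 : F) * 𝔵 8 c *
                (h8nU chevG2 hB (chevG2.simple 1) (1 : F))⁻¹) *
              (h8nU chevG2 hB (chevG2.simple 1) (1 : F) * 𝔵 10 e *
                (h8nU chevG2 hB (chevG2.simple 1) (1 : F))⁻¹) *
              (h8nU chevG2 hB (chevG2.simple 1) (1 : F) * 𝔵 11 f *
                (h8nU chevG2 hB (chevG2.simple 1) (1 : F))⁻¹) := by group
          _ = 𝔵 7 (η8 * c) * 𝔵 11 (η10 * e) * 𝔵 10 (η11 * f) := by rw [a8, a10, a11]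
          _ = 𝔵 7 (η8 * c) * (𝔵 11 (η10 * e) * 𝔵 10 (η11 * f)) := by group
          _ = 𝔵 7 (η8 * c) * (𝔵 10 (η11 * f) * 𝔵 11 (η10 * e)) := by
              rw [k 10 11 (by omega) (by omega) (by omega) (by simp)]
          _ = 𝔵 7 (η8 * c) * 𝔵 10 (η11 * f) * 𝔵 11 (η10 * e) := by group
      exact g2cj_trans s1 (g2i_L2 hB hA hC _ _ _ (mul_ne_zero hη8 hc))
  · right
    obtain ⟨v', hv', e3⟩ := g2i_lead_conj hB hC hO 6 7 (by omega) (by omega) b c (c / b)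
      (g2i_c76 hB hC b (c / b)) v9 hv9
    have e0 : c + b * (c / b) = 0 := by
      rw [mul_div_cancel₀ c hb, CharTwo.add_self_eq_zero]
    rw [e0, h8xU_zero, one_mul] at e3
    obtain ⟨d, e, f, e4⟩ := g2c_E_decomp hB hC hO v' hv'
    have hg' : 𝔵 6 (c / b) * g * (𝔵 6 (c / b))⁻¹ = 𝔵 7 b * 𝔵 9 d * 𝔵 10 e * 𝔵 11 f := by
      rw [e1, e2, e3, e4]; group
    have hsq' := g2i_conj_sq (𝔵 6 (c / b)) g hsq
    rw [hg', g2i_inv79 hB hC b d e f] at hsq'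
    have hbd : b * d = 0 := g2i_x_eq_one hB hO2 10 (by omega) (by omega) _ hsq'
    have hd : d = 0 := (mul_eq_zero.mp hbd).resolve_left hb
    rw [hd, h8xU_zero, mul_one] at hg'
    have s1 : G2Cj g (𝔵 7 b * 𝔵 10 e * 𝔵 11 f) :=
      ⟨𝔵 6 (c / b), h8xU_mem_group chevG2 hB 6 _, hg'⟩
    exact g2cj_trans s1 (g2i_L2 hB hA hC _ _ _ hb)

/-- involutions `x_6(a) v`, `a ≠ 0`, `v ∈ V_8` -/
theorem g2i_L4 (hA : H8ReflAll chevG2) (hC : H8CommAll.{u} chevG2) (hO : H8Ord chevG2)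
    (hO2 : H8Ord2 chevG2) (a : F) (ha : a ≠ 0) (v8 : GL chevG2.Idx F) (hv8 : v8 ∈ 𝔙 8)
    (hsq : (𝔵 6 a * v8) * (𝔵 6 a * v8) = 1) :
    G2Cj (𝔵 6 a * v8) (𝔵 11 1) ∨ G2Cj (𝔵 6 a * v8) (𝔵 9 1) := by
  have k := fun (r s : ℕ) (hr : r < 12) (hs : s < 12) (hsn : s ≠ 11 - r) hp (t v : F) =>
    g2i_comm0 hB hC r s hr hs hsn hp t v
  obtain ⟨c, v9, hv9, e2⟩ := h8Vk_step chevG2 hB hC hO 8 (g2c_pos 8 (by omega) (by omega)) v8 hv8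
  obtain ⟨v', hv', e3⟩ := g2i_lead_conj hB hC hO 7 6 (by omega) (by omega) a c (c / a)
    (g2i_c67 hB hC a (c / a)) v9 hv9
  have e0 : c + a * (c / a) = 0 := by
    rw [mul_div_cancel₀ c ha, CharTwo.add_self_eq_zero]
  rw [e0, h8xU_zero, one_mul] at e3
  obtain ⟨d, e, f, e4⟩ := g2c_E_decomp hB hC hO v' hv'
  have hg' : 𝔵 7 (c / a) * (𝔵 6 a * v8) * (𝔵 7 (c / a))⁻¹ = 𝔵 6 a * 𝔵 9 d * 𝔵 10 e * 𝔵 11 f := by
    rw [e2, e3, e4]; group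
  have hsq' := g2i_conj_sq (𝔵 7 (c / a)) _ hsq
  rw [hg', g2i_inv6 hB hC a d e f] at hsq'
  have hae : a * e = 0 := g2i_x_eq_one hB hO2 11 (by omega) (by omega) _ hsq'
  have he : e = 0 := (mul_eq_zero.mp hae).resolve_left ha
  rw [he, h8xU_zero, mul_one] at hg'
  have s1 : G2Cj (𝔵 6 a * v8) (𝔵 6 a * 𝔵 9 d * 𝔵 11 f) :=
    ⟨𝔵 7 (c / a), h8xU_mem_group chevG2 hB 7 _, hg'⟩
  -- conjugate by `n_a`
  have hr0 : 0 < chevG2.rank := by rw [g2c_rank]; omega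
  have hlt : ∀ s, s < 12 → s < chevG2.nroots := fun s hs => by rw [g2c_nroots]; exact hs
  obtain ⟨η6, hη6, a6⟩ := h8act_nU (F := F) chevG2 hB hA 0 hr0 6 (hlt 6 (by omega))
  obtain ⟨η9, _, a9⟩ := h8act_nU (F := F) chevG2 hB hA 0 hr0 9 (hlt 9 (by omega))
  obtain ⟨η11, _, a11⟩ := h8act_nU (F := F) chevG2 hB hA 0 hr0 11 (hlt 11 (by omega))
  rw [g2i_refl.2.2.2.2.2.1] at a6
  rw [g2i_refl.2.2.2.2.2.2.1] at a9
  rw [g2i_refl.2.2.2.2.2.2.2] at a11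
  have hnG : h8nU chevG2 hB (chevG2.simple 0) (1 : F) ∈ chevG2.group F := by
    apply h8_N_le_group chevG2 hB
    apply h8nU_mem_N chevG2 hB
    rw [g2c_simple.1, g2c_nroots]; omega
  have hconj : h8nU chevG2 hB (chevG2.simple 0) (1 : F) * (𝔵 6 a * 𝔵 9 d * 𝔵 11 f) *
      (h8nU chevG2 hB (chevG2.simple 0) (1 : F))⁻¹ =
      𝔵 10 (η6 * a) * 𝔵 8 (η9 * d) * 𝔵 11 (η11 * f) := by
    calc h8nU chevG2 hB (chevG2.simple 0) (1 : F) * (𝔵 6 a * 𝔵 9 d * 𝔵 11 f) *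
          (h8nU chevG2 hB (chevG2.simple 0) (1 : F))⁻¹
        = (h8nU chevG2 hB (chevG2.simple 0) (1 : F) * 𝔵 6 a *
            (h8nU chevG2 hB (chevG2.simple 0) (1 : F))⁻¹) *
          (h8nU chevG2 hB (chevG2.simple 0) (1 : F) * 𝔵 9 d *
            (h8nU chevG2 hB (chevG2.simple 0) (1 : F))⁻¹) *
          (h8nU chevG2 hB (chevG2.simple 0) (1 : F) * 𝔵 11 f *
            (h8nU chevG2 hB (chevG2.simple 0) (1 : F))⁻¹) := by group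
      _ = 𝔵 10 (η6 * a) * 𝔵 8 (η9 * d) * 𝔵 11 (η11 * f) := by rw [a6, a9, a11]
  have s2 : G2Cj (𝔵 6 a * 𝔵 9 d * 𝔵 11 f) (𝔵 10 (η6 * a) * 𝔵 8 (η9 * d) * 𝔵 11 (η11 * f)) :=
    ⟨_, hnG, hconj⟩
  have xm : ∀ (l : ℕ), 7 ≤ l → l < 12 → ∀ t : F, 𝔵 l t ∈ 𝔙 7 :=
    fun l h1 h2 t => cfx_mem_Vk chevG2 hB 7 l (g2c_pos l (by omega) h2) h1 t
  have hmem : 𝔵 10 (η6 * a) * 𝔵 8 (η9 * d) * 𝔵 11 (η11 * f) ∈ 𝔙 7 :=
    Subgroup.mul_mem _ (Subgroup.mul_mem _ (xm 10 (by omega) (by omega) _)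
      (xm 8 (by omega) (by omega) _)) (xm 11 (by omega) (by omega) _)
  have hsq2 : (𝔵 10 (η6 * a) * 𝔵 8 (η9 * d) * 𝔵 11 (η11 * f)) *
      (𝔵 10 (η6 * a) * 𝔵 8 (η9 * d) * 𝔵 11 (η11 * f)) = 1 := by
    rw [← hconj]
    apply g2i_conj_sq
    rw [← hg']
    exact g2i_conj_sq _ _ hsq
  have hne2 : 𝔵 10 (η6 * a) * 𝔵 8 (η9 * d) * 𝔵 11 (η11 * f) ≠ 1 := by
    intro h1
    have h2 : 𝔵 8 (η9 * d) = (𝔵 10 (η6 * a))⁻¹ * 1 * (𝔵 11 (η11 * f))⁻¹ := by rw [← h1]; group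
    have h3 : η9 * d = 0 := by
      apply h8x_not_mem_Vk chevG2 hB hO2 8 (g2c_pos 8 (by omega) (by omega))
      rw [h2]
      exact Subgroup.mul_mem _ (Subgroup.mul_mem _ (Subgroup.inv_mem _
        (cfx_mem_Vk chevG2 hB 9 10 (g2c_pos 10 (by omega) (by omega)) (by omega) _))
        (Subgroup.one_mem _)) (Subgroup.inv_mem _
        (cfx_mem_Vk chevG2 hB 9 11 (g2c_pos 11 (by omega) (by omega)) (by omega) _))
    rw [h3, h8xU_zero, mul_one] at h1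
    have h4 : η6 * a = 0 := g2c_peel hB hO2 10 (g2c_pos 10 (by omega) (by omega)) _ 1
      (𝔵 11 (η11 * f)) 1 (Subgroup.one_mem _)
      (cfx_mem_Vk chevG2 hB 11 11 (g2c_pos 11 (by omega) (by omega)) le_rfl _)
      (Subgroup.one_mem _) (by rw [one_mul]; exact h1)
    exact (mul_ne_zero hη6 ha) h4
  rcases g2i_L3 hB hA hC hO hO2 _ hmem hsq2 hne2 with h | h
  · exact Or.inl (g2cj_trans s1 (g2cj_trans s2 h))
  · exact Or.inr (g2cj_trans s1 (g2cj_trans s2 h))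

/-- an involution of `U` has trivial `x_6`- or trivial `x_7`-component -/
theorem g2i_dich (hC : H8CommAll.{u} chevG2) (hO : H8Ord chevG2) (hO2 : H8Ord2 chevG2)
    (a b : F) (v8 : GL chevG2.Idx F) (hv8 : v8 ∈ 𝔙 8)
    (hsq : (𝔵 6 a * (𝔵 7 b * v8)) * (𝔵 6 a * (𝔵 7 b * v8)) = 1) : b * a = 0 := by
  obtain ⟨c, v9, hv9, e2⟩ := h8Vk_step chevG2 hB hC hO 8 (g2c_pos 8 (by omega) (by omega)) v8 hv8
  obtain ⟨v', hv', e3⟩ := g2i_lead_conj hB hC hO 6 7 (by omega) (by omega) b c a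
    (g2i_c76 hB hC b a) v9 hv9
  have h7 := g2c_pos 7 (by omega) (by omega)
  have h8 := g2c_pos 8 (by omega) (by omega)
  obtain ⟨w, hw, c1⟩ := cf_conj_gen chevG2 hB hC hO g2c_cfMax 7 8 h7 h8 b (c + b * a)
  have hv1 := cf_norm_gen chevG2 hB hC hO g2c_cfMax 7 h7 b 9 v' hv'
  have hconj := cf_norm_gen chevG2 hB hC hO g2c_cfMax 8 h8 (-c) 9 _ (Subgroup.mul_mem _ hw hv1)
  rw [← h8xU_inv] at hconj
  rw [e2] at hsq
  have key : (𝔵 6 a * (𝔵 7 b * (𝔵 8 c * v9))) * (𝔵 6 a * (𝔵 7 b * (𝔵 8 c * v9))) =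
      1 * 𝔵 8 (b * a) * ((𝔵 8 c)⁻¹ * (w * (𝔵 7 b * v' * (𝔵 7 b)⁻¹)) * ((𝔵 8 c)⁻¹)⁻¹ * v9) := by
    calc (𝔵 6 a * (𝔵 7 b * (𝔵 8 c * v9))) * (𝔵 6 a * (𝔵 7 b * (𝔵 8 c * v9)))
        = (𝔵 6 a * (𝔵 7 b * (𝔵 8 c * v9)) * 𝔵 6 a) * (𝔵 7 b * (𝔵 8 c * v9)) := by group
      _ = (𝔵 6 a * (𝔵 7 b * (𝔵 8 c * v9)) * (𝔵 6 a)⁻¹) * (𝔵 7 b * (𝔵 8 c * v9)) := by
          rw [g2i_inv hB 6 a]
      _ = (𝔵 7 b * (𝔵 8 (c + b * a) * v')) * (𝔵 7 b * (𝔵 8 c * v9)) := by rw [e3]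
      _ = (𝔵 7 b * 𝔵 8 (c + b * a) * 𝔵 7 b) * ((𝔵 7 b)⁻¹ * v' * 𝔵 7 b) * (𝔵 8 c * v9) := by
          group
      _ = (𝔵 7 b * 𝔵 8 (c + b * a) * (𝔵 7 b)⁻¹) * (𝔵 7 b * v' * (𝔵 7 b)⁻¹) * (𝔵 8 c * v9) := by
          rw [g2i_inv hB 7 b]
      _ = (𝔵 8 (c + b * a) * w) * (𝔵 7 b * v' * (𝔵 7 b)⁻¹) * (𝔵 8 c * v9) := by rw [c1]
      _ = (𝔵 8 (c + b * a) * 𝔵 8 c) * ((𝔵 8 c)⁻¹ * (w * (𝔵 7 b * v' * (𝔵 7 b)⁻¹)) *
            ((𝔵 8 c)⁻¹)⁻¹ * v9) := by group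
      _ = 1 * 𝔵 8 (b * a) * ((𝔵 8 c)⁻¹ * (w * (𝔵 7 b * v' * (𝔵 7 b)⁻¹)) *
            ((𝔵 8 c)⁻¹)⁻¹ * v9) := by
          rw [g2i_add hB 8 (by omega), one_mul]
          congr 2
          rw [add_comm c, add_assoc, CharTwo.add_self_eq_zero, add_zero]
  rw [key] at hsq
  exact g2c_peel hB hO2 8 h8 (b * a) 1 _ 1 (Subgroup.one_mem _)
    (Subgroup.mul_mem _ hconj hv9) (Subgroup.one_mem _) hsq

/-- every involution of `U` is conjugate to `x_11(1)` or to `x_9(1)` -/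
theorem g2i_U_inv (hA : H8ReflAll chevG2) (hC : H8CommAll.{u} chevG2) (hO : H8Ord chevG2)
    (hO2 : H8Ord2 chevG2) (g : GL chevG2.Idx F) (hg : g ∈ chevG2.posUnipotent F)
    (hsq : g * g = 1) (hne : g ≠ 1) : G2Cj g (𝔵 11 1) ∨ G2Cj g (𝔵 9 1) := by
  rw [cf_U_eq_Vk chevG2 6 (fun r hr => (g2c_pos_ge r hr).1)] at hg
  obtain ⟨a, w7, hw7, e1⟩ := h8Vk_step chevG2 hB hC hO 6 (g2c_pos 6 (by omega) (by omega)) g hg
  by_cases ha : a = 0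
  · rw [ha, h8xU_zero, one_mul] at e1
    rw [e1] at hsq hne ⊢
    exact g2i_L3 hB hA hC hO hO2 w7 hw7 hsq hne
  · obtain ⟨b, v8, hv8, e2⟩ :=
      h8Vk_step chevG2 hB hC hO 7 (g2c_pos 7 (by omega) (by omega)) w7 hw7
    rw [e1, e2] at hsq
    have hba := g2i_dich hB hC hO hO2 a b v8 hv8 hsq
    have hb : b = 0 := (mul_eq_zero.mp hba).resolve_right ha
    rw [hb, h8xU_zero, one_mul] at e2 hsq
    rw [e1, e2]
    exact g2i_L4 hB hA hC hO hO2 a ha v8 hv8 hsq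

end Cfsg.Agent.Lib.helper14
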