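import Mathlib
import Cfsg.Prelude.Def_ChevStructure
import Cfsg.Agent.Lib.helper14.G2InvD
import Cfsg.Agent.Lib.helper8.ChevSyl
import Cfsg.Agent.Lib.Helper22.Sylow

/-!
# Type `G₂` in characteristic two: the two classes of involutions
-/

set_option autoImplicit false

namespace Cfsg.Agent.Lib.helper14

open Cfsg.Lie Cfsg.Lie.ChevalleyDatum Cfsg.Agent.Lib.helper8

universe u

variable {F : Type u} [Field F]

variable (hB : H8Base.{u} chevG2)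

local notation "𝔵" => h8xU chevG2 hB
local notation "𝔙" k => Subgroup.closure (h8VkSet chevG2 F k)

/-- `x_11(1)` and `x_9(1)` are not conjugate -/
theorem g2i_not_conj (hA : H8ReflAll chevG2) (hC : H8CommAll.{u} chevG2) (hBN : H8BN chevG2)
    (hW : H8BN2 chevG2) (hO : H8Ord chevG2) (hO2 : H8Ord2 chevG2) (g : GL chevG2.Idx F)
    (hgG : g ∈ chevG2.group F) (hconj : g * 𝔵 11 1 * g⁻¹ = 𝔵 9 1) : False := by
  obtain ⟨b, hb, n, hn, b', hb', e⟩ := h8bruhat chevG2 hB hA hC hBN hW g hgG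
  obtain ⟨h0, hh0, w, hw, rfl⟩ := h8N_word chevG2 hB hA hBN n hn
  -- the `B`-conjugate of `x_11(1)`
  obtain ⟨u', hu', h', hh', rfl⟩ := cf_B_decomp chevG2 hB b' hb'
  have h11 : chevG2.IsPosRoot 11 := g2c_pos 11 (by omega) (by omega)
  obtain ⟨χ, hχ, hact⟩ := h8perm_H_id chevG2 hB h' hh' 11 h11.1
  obtain ⟨v, hv, ev⟩ := cf_conj_U chevG2 hB hC hO g2c_cfMax u' hu' 11 h11 (χ * 1)
  rw [cf_Vk_top chevG2 (11 + 1) (by rw [g2c_nroots]), Subgroup.mem_bot] at hv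
  rw [hv, mul_one (h8xU chevG2 hB 11 (χ * 1))] at ev
  have hz : u' * h' * 𝔵 11 1 * (u' * h')⁻¹ = 𝔵 11 (χ * 1) := by
    have : u' * h' * 𝔵 11 1 * (u' * h')⁻¹ = u' * (h' * 𝔵 11 1 * h'⁻¹) * u'⁻¹ := by group
    rw [this, hact 1, ev]
  -- the `B`-conjugate of `x_9(1)`
  have hb0 : (b * h0)⁻¹ ∈ chevG2.borelSubgroup F :=
    Subgroup.inv_mem _ (Subgroup.mul_mem _ hb (h8H_le_B chevG2 hh0))
  obtain ⟨c', d', e', hc', hy'⟩ := g2c_B_conj hB hC hO (b * h0)⁻¹ hb0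
  have hνeq : (h8nWU chevG2 hB w : GL chevG2.Idx F) = (b * h0)⁻¹ * g * (u' * h')⁻¹ := by
    rw [e]; group
  have hkey : (h8nWU chevG2 hB w : GL chevG2.Idx F) * (u' * h' * 𝔵 11 1 * (u' * h')⁻¹) *
      (h8nWU chevG2 hB w : GL chevG2.Idx F)⁻¹ = (b * h0)⁻¹ * 𝔵 9 1 * ((b * h0)⁻¹)⁻¹ := by
    have e2 : (h8nWU chevG2 hB w : GL chevG2.Idx F) * (u' * h' * 𝔵 11 1 * (u' * h')⁻¹) *
        (h8nWU chevG2 hB w : GL chevG2.Idx F)⁻¹ =
        (b * h0)⁻¹ * (g * 𝔵 11 1 * g⁻¹) * ((b * h0)⁻¹)⁻¹ := by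
      rw [hνeq]; group
    rw [e2, hconj]
  rw [hz, hy'] at hkey
  obtain ⟨η, hη, hνact⟩ := h8nWU_act (F := F) chevG2 hB hA w hw 11 h11.1
  rw [hνact] at hkey
  have ha : η * (χ * 1) ≠ 0 := mul_ne_zero hη (by rw [mul_one]; exact hχ)
  have hRm := g2c_R_mem hB c' d' e'
  have hRU := g2c_Vk_le_U (F := F) 9 hRm
  -- the image of `11` is a long root
  have hT := g2c_orbit w hw
  have hlong : h8sW chevG2 w 11 = 11 ∨ h8sW chevG2 w 11 = 10 ∨ h8sW chevG2 w 11 = 6 ∨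
      h8sW chevG2 w 11 < 6 := by
    simp only [g2cT, List.mem_cons, Prod.mk.injEq, List.mem_nil_iff, or_false] at hT
    rcases hT with ⟨_, _, h3⟩ | ⟨_, _, h3⟩ | ⟨_, _, h3⟩ | ⟨_, _, h3⟩ | ⟨_, _, h3⟩ |
      ⟨_, _, h3⟩ | ⟨_, _, h3⟩ | ⟨_, _, h3⟩ | ⟨_, _, h3⟩ | ⟨_, _, h3⟩ | ⟨_, _, h3⟩ | ⟨_, _, h3⟩ <;>
    omega
  rcases hlong with h | h | h | h
  · rw [h] at hkey
    apply hc'
    apply g2c_R_lead hB hO2 c' d' e'
    rw [← hkey]
    exact cfx_mem_Vk chevG2 hB 10 11 h11 (by omega) _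
  · rw [h] at hkey
    apply hc'
    apply g2c_R_lead hB hO2 c' d' e'
    rw [← hkey]
    exact cfx_mem_Vk chevG2 hB 10 10 (g2c_pos 10 (by omega) (by omega)) le_rfl _
  · rw [h] at hkey
    apply ha
    exact g2c_peel hB hO2 6 (g2c_pos 6 (by omega) (by omega)) _ 1 1 _ (Subgroup.one_mem _)
      (Subgroup.one_mem _) (cfVk_anti chevG2 7 9 (by omega) hRm) (by rw [one_mul, mul_one]; exact hkey)
  · have hN := h8xU_mem_V chevG2 hB _ (g2c_neg _ h) (η * (χ * 1))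
    have h1 := (g2c_UV hB hBN.negOK _ 1 _ hN (Subgroup.one_mem _) hRU
      (by rw [mul_one]; exact hkey)).2
    apply hc'
    apply g2c_R_lead hB hO2 c' d' e'
    rw [← h1]
    exact Subgroup.one_mem _

/-- an element of order `2` is conjugate into `U` -/
theorem g2i_sylow [Fintype F] [CharP F 2] (g : GL chevG2.Idx F) (hgG : g ∈ chevG2.group F)
    (hord : orderOf g = 2) : ∃ k ∈ chevG2.group F, k * g * k⁻¹ ∈ chevG2.posUnipotent F := by
  haveI : Fact (Nat.Prime 2) := ⟨Nat.prime_two⟩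
  have hD : chevG2 ∈ [chevG2, chevB2, chevD4, chevF4, chevE6, chevE7, chevE8] := by simp
  have hle : chevG2.posUnipotent F ≤ chevG2.group F := h8_U_le_group chevG2
  have hc : Nat.card ((chevG2.posUnipotent F).subgroupOf (chevG2.group F)) =
      2 ^ (Nat.card (chevG2.group F)).factorization 2 := by
    rw [Nat.card_congr (Subgroup.subgroupOfEquivOfLe hle).toEquiv]
    exact h8sylow_card 2 chevG2 hD
  set P : Sylow 2 ↥(chevG2.group F) := Sylow.ofCard _ hc with hP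
  have hpg : IsPGroup 2 (Subgroup.zpowers (⟨g, hgG⟩ : ↥(chevG2.group F))) := by
    apply IsPGroup.of_card (n := 1)
    rw [Nat.card_zpowers, Subgroup.orderOf_mk, hord, pow_one]
  obtain ⟨Q, hQ⟩ := hpg.exists_le_sylow
  obtain ⟨h, hh⟩ := MulAction.exists_smul_eq ↥(chevG2.group F) P Q
  have h1 : (⟨g, hgG⟩ : ↥(chevG2.group F)) ∈ ((h • P : Sylow 2 ↥(chevG2.group F)) :
      Subgroup ↥(chevG2.group F)) := by
    rw [hh]; exact hQ (Subgroup.mem_zpowers _)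
  rw [Cfsg.Agent.Lib.Helper22.mem_smul_sylow_iff, hP, Sylow.coe_ofCard,
    Subgroup.mem_subgroupOf] at h1
  refine ⟨(h⁻¹ : ↥(chevG2.group F)), (h⁻¹).2, ?_⟩
  simpa using h1

end Cfsg.Agent.Lib.helper14
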