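import Cfsg.Agent.Lib.helper14.G2Ma
import Cfsg.Prelude.Def_ChevStructure

/-!
# The 6-dimensional representation of `G₂(4)`: Steinberg's relations (R1), (R2) (helper14)
-/

set_option autoImplicit false
set_option maxRecDepth 1000000

namespace Cfsg.Agent.Lib.helper14.G2M

open Matrix Cfsg.Lie Cfsg.Agent.Lib.Lead.F4 Cfsg.Agent.Lib.Helper12.G24

/-- the commutator word on numbers -/
def cwN (r s t u : ℕ) : List (ℕ × ℕ) :=
  (chevG2.commWord K r s (kOfN t) (kOfN u)).map fun p => (p.1, nOfK p.2)

/-- the relations (R1) on the packed basis vectors -/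
def chkR1 : Bool := allN 12 fun r => allN 4 fun t => allN 4 fun u =>
  allN 6 fun j => Nat.beq (actW [(r, t), (r, u)] (4 ^ j)) (actW [(r, Nat.xor t u)] (4 ^ j))

/-- the relations (R2) on the packed basis vectors -/
def chkR2 : Bool := allN 12 fun r => allN 12 fun s =>
  (Nat.beq s r || Nat.beq s (chevG2.neg r)) ||
    allN 4 fun t => allN 4 fun u => allN 6 fun j =>
      Nat.beq (actW [(s, u), (r, t)] (4 ^ j)) (actW ((r, t) :: (s, u) :: cwN r s t u) (4 ^ j))

theorem chkR1_ok : chkR1 = true := by decide +kernel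

theorem chkR2_ok : chkR2 = true := by decide +kernel

end Cfsg.Agent.Lib.helper14.G2M
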