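import Cfsg.Agent.Lib.helper14.G2Ja
import Cfsg.Agent.Lib.helper14.G2Mb

/-!
# `G₂(4)` on 416 points: Steinberg's relations (R1), (R2) (helper14)
-/

set_option autoImplicit false
set_option maxRecDepth 1000000

namespace Cfsg.Agent.Lib.helper14.G2J

open Cfsg.Lie Cfsg.Agent.Lib.Lead.F4 Cfsg.Agent.Lib.Helper12.G24 Cfsg.Agent.Lib.helper23
  Cfsg.Agent.Lib.helper14.G2M

/-- the action of a word on a point -/
def actP (w : List (ℕ × ℕ)) (p : ℕ) : ℕ :=
  w.foldr (fun q acc => gjlk (gjT (Nat.add (Nat.mul 4 q.1) q.2)) acc) p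

/-- a word as a number: 6 bits a letter, `4 r + t + 1` -/
def encW (w : List (ℕ × ℕ)) : ℕ :=
  w.foldr (fun q acc => Nat.add (Nat.succ (Nat.add (Nat.mul 4 q.1) q.2)) (Nat.mul 64 acc)) 0

/-- the word of a number -/
def decW (fuel : ℕ) (c : ℕ) : List (ℕ × ℕ) :=
  @Nat.rec (fun _ => ℕ → List (ℕ × ℕ)) (fun _ => [])
    (fun _ ih c => cond (Nat.beq (Nat.land c 63) 0) []
      ((Nat.div (Nat.pred (Nat.land c 63)) 4, Nat.land (Nat.pred (Nat.land c 63)) 3) ::
        ih (Nat.shiftRight c 6))) fuel c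

/-- the tables are permutations -/
theorem gjY_ok : pgAll 49 (fun i => (gjY i).ok 416) = true := by decide +kernel

theorem decW_encW : pgAll 12 (fun r => pgAll 12 fun s => pgAll 4 fun t => pgAll 4 fun u =>
    decide (decW 6 (encW (cwN r s t u)) = cwN r s t u)) = true := by decide +kernel

/-- the relations (R1) -/
def gjR1 : Bool := pgAll 12 fun r => pgAll 4 fun t => pgAll 4 fun u =>
  pgAll 416 fun p => Nat.beq (actP [(r, t), (r, u)] p) (actP [(r, Nat.xor t u)] p)

/-- the relations (R2) -/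
def gjR2 : Bool := pgAll 12 fun r => pgAll 12 fun s =>
  (Nat.beq s r || Nat.beq s (chevG2.neg r)) ||
    pgAll 4 fun t => pgAll 4 fun u => pgForce (encW (cwN r s t u)) fun c => pgAll 416 fun p =>
      Nat.beq (actP [(s, u), (r, t)] p) (actP ((r, t) :: (s, u) :: decW 6 c) p)

theorem gjR1_ok : gjR1 = true := by decide +kernel

theorem gjR2_ok : gjR2 = true := by decide +kernel

end Cfsg.Agent.Lib.helper14.G2J
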