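import Cfsg.Agent.Lib.helper14.G2Mb

/-!
# The 6-dimensional representation of `G₂(4)`: the relations for the matrices (helper14)
-/

set_option autoImplicit false

namespace Cfsg.Agent.Lib.helper14.G2M

open Matrix Cfsg.Lie Cfsg.Agent.Lib.Lead.F4 Cfsg.Agent.Lib.Helper12.G24

/-- the matrix `A_r(t)` -/
def g2A (r : ℕ) (t : K) : Matrix (Fin 6) (Fin 6) K := matOf (g2T (4 * r + nOfK t))

theorem nOfK_lt (t : K) : nOfK t < 4 := by cases t <;> decide

theorem nOfK_add (t u : K) : nOfK (t + u) = Nat.xor (nOfK t) (nOfK u) := by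
  cases t <;> cases u <;> rfl

theorem wordM_map (l : List (ℕ × K)) :
    wordM (l.map fun p => (p.1, nOfK p.2)) = (l.map fun p => g2A p.1 p.2).prod := by
  unfold wordM
  rw [List.map_map]
  rfl

theorem g2A_add (r : ℕ) (hr : r < 12) (t u : K) : g2A r t * g2A r u = g2A r (t + u) := by
  have h := chkR1_ok
  unfold chkR1 at h
  have h1 := (allN_iff _ _).1 ((allN_iff _ _).1 ((allN_iff _ _).1 h r hr) _ (nOfK_lt t)) _ (nOfK_lt u)
  have h2 := wordM_eq_of_act _ _ h1
  simpa [wordM, g2A, nOfK_add] using h2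

theorem g2A_zero (r : ℕ) (hr : r < 12) : g2A r 0 = 1 := by
  revert r
  decide +kernel

theorem g2A_out (r : ℕ) (hr : ¬ r < 12) (t : K) : g2A r t = 1 := by
  have h : g2T (4 * r + nOfK t) = g2T 48 := by
    have h48 : 48 ≤ 4 * r + nOfK t := by omega
    generalize 4 * r + nOfK t = m at h48
    unfold g2T
    split <;> first | omega | rfl
  unfold g2A
  rw [h]
  decide +kernel

theorem g2A_sq (r : ℕ) (t : K) : g2A r t * g2A r t = 1 := by
  by_cases hr : r < 12
  · rw [g2A_add r hr, ← g2A_zero r hr]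
    congr 1
    cases t <;> rfl
  · rw [g2A_out r hr, one_mul]

theorem g2A_comm (r s : ℕ) (hr : r < 12) (hs : s < 12) (h1 : s ≠ r) (h2 : s ≠ chevG2.neg r)
    (t u : K) : g2A s u * g2A r t =
      g2A r t * g2A s u * ((chevG2.commWord K r s t u).map fun p => g2A p.1 p.2).prod := by
  have h := chkR2_ok
  unfold chkR2 at h
  have h3 := (allN_iff _ _).1 ((allN_iff _ _).1 h r hr) s hs
  have e1 : Nat.beq s r = false := by
    cases hb : Nat.beq s r
    · rfl
    · exact absurd (Nat.eq_of_beq_eq_true hb) h1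
  have e2 : Nat.beq s (chevG2.neg r) = false := by
    cases hb : Nat.beq s (chevG2.neg r)
    · rfl
    · exact absurd (Nat.eq_of_beq_eq_true hb) h2
  rw [e1, e2] at h3
  simp only [Bool.or_self, Bool.false_or] at h3
  have h4 := (allN_iff _ _).1 ((allN_iff _ _).1 h3 _ (nOfK_lt t)) _ (nOfK_lt u)
  have h5 := wordM_eq_of_act _ _ h4
  have e3 : cwN r s (nOfK t) (nOfK u) = (chevG2.commWord K r s t u).map fun p => (p.1, nOfK p.2) := by
    unfold cwN
    rw [kOfN_nOfK, kOfN_nOfK]
  rw [e3] at h5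
  have h6 : wordM ((r, nOfK t) :: (s, nOfK u) :: (chevG2.commWord K r s t u).map
      fun p => (p.1, nOfK p.2)) = g2A r t * g2A s u *
        ((chevG2.commWord K r s t u).map fun p => g2A p.1 p.2).prod := by
    rw [← wordM_map]
    show _ * (_ * _) = _
    rw [mul_assoc]
    rfl
  rw [h6] at h5
  rw [← h5]
  simp [wordM, g2A]

/-- the root elements in the general linear group -/
def g2Y (p : Fin chevG2.nroots × K) : GL (Fin 6) K :=
  ⟨g2A p.1.val p.2, g2A p.1.val p.2, g2A_sq _ _, g2A_sq _ _⟩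

theorem g2Y_val (p : Fin chevG2.nroots × K) : ((g2Y p : GL (Fin 6) K) : Matrix (Fin 6) (Fin 6) K) =
    g2A p.1.val p.2 := rfl

theorem g2Y_h1 (r : Fin chevG2.nroots) (t u : K) : g2Y (r, t) * g2Y (r, u) = g2Y (r, t + u) := by
  apply Units.ext
  exact g2A_add r.val r.isLt t u

theorem g2Y_word (l : List (ℕ × K)) :
    (((l.map (fun p => if h : p.1 < chevG2.nroots then g2Y (⟨p.1, h⟩, p.2) else 1)).prod :
      GL (Fin 6) K) : Matrix (Fin 6) (Fin 6) K) = (l.map fun p => g2A p.1 p.2).prod := by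
  induction l with
  | nil => rfl
  | cons p l ih =>
    rw [List.map_cons, List.prod_cons, List.map_cons, List.prod_cons, Units.val_mul, ih]
    congr 1
    by_cases h : p.1 < chevG2.nroots
    · rw [dif_pos h]; rfl
    · rw [dif_neg h, g2A_out _ h]; rfl

theorem g2Y_h2 (r s : Fin chevG2.nroots) (t u : K) (h1 : s ≠ r) (h2 : s.val ≠ chevG2.neg r.val) :
    g2Y (s, u) * g2Y (r, t) = g2Y (r, t) * g2Y (s, u) *
      ((chevG2.commWord K r.val s.val t u).map
        (fun p => if h : p.1 < chevG2.nroots then g2Y (⟨p.1, h⟩, p.2) else 1)).prod := by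
  apply Units.ext
  rw [Units.val_mul, Units.val_mul, Units.val_mul, g2Y_word]
  exact g2A_comm r.val s.val r.isLt s.isLt (fun h => h1 (Fin.ext h)) h2 t u

end Cfsg.Agent.Lib.helper14.G2M
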