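import Cfsg.Agent.Lib.helper14.G2Jb
import Cfsg.Agent.Lib.helper14.G2Mc
import Cfsg.Agent.Lib.helper23.PgW

/-!
# `G₂(4)` on 416 points: the relations for the permutations (helper14)
-/

set_option autoImplicit false

namespace Cfsg.Agent.Lib.helper14.G2J

open Cfsg.Lie Cfsg.Agent.Lib.Lead.F4 Cfsg.Agent.Lib.Helper12.G24 Cfsg.Agent.Lib.helper23
  Cfsg.Agent.Lib.helper14.G2M

theorem gjT_out (m : ℕ) (h : 48 ≤ m) : gjT m = gjT 48 := by
  unfold gjT
  split <;> first | omega | rfl

theorem gjY_ok' (i : ℕ) : (gjY i).ok 416 = true := by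
  by_cases h : i < 49
  · exact (pgAll_iff _ _).1 gjY_ok i h
  · have e : gjY i = gjY 48 := by
      unfold gjY
      rw [gjT_out i (by omega)]
    rw [e]
    exact (pgAll_iff _ _).1 gjY_ok 48 (by norm_num)

/-- the permutation of a word -/
def wordP (w : List (ℕ × ℕ)) : Equiv.Perm (Fin 416) :=
  (w.map fun q => (gjY (4 * q.1 + q.2)).perm 416).prod

theorem wordP_rep (w : List (ℕ × ℕ)) : PgRep (actP w) (wordP w) := by
  induction w with
  | nil => exact PgRep.one
  | cons q w ih =>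
    have e : wordP (q :: w) = (gjY (4 * q.1 + q.2)).perm 416 * wordP w := by
      unfold wordP
      rw [List.map_cons, List.prod_cons]
    rw [e]
    exact PgRep.mul (f := (gjY (4 * q.1 + q.2)).f) (PgRep.perm (gjY_ok' _)) ih

theorem wordP_eq_of_act (w w' : List (ℕ × ℕ))
    (h : pgAll 416 (fun p => Nat.beq (actP w p) (actP w' p)) = true) : wordP w = wordP w' :=
  (pgEq_iff (wordP_rep w) (wordP_rep w')).1 h

/-- the permutation of `x_r(t)` -/
def gjS (r : ℕ) (t : K) : Equiv.Perm (Fin 416) := (gjY (4 * r + nOfK t)).perm 416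

theorem wordP_map (l : List (ℕ × K)) :
    wordP (l.map fun p => (p.1, nOfK p.2)) = (l.map fun p => gjS p.1 p.2).prod := by
  unfold wordP
  rw [List.map_map]
  rfl

theorem gjS_add (r : ℕ) (hr : r < 12) (t u : K) : gjS r t * gjS r u = gjS r (t + u) := by
  have h := gjR1_ok
  unfold gjR1 at h
  have h1 := (pgAll_iff _ _).1 ((pgAll_iff _ _).1 ((pgAll_iff _ _).1 h r hr) _ (nOfK_lt t)) _
    (nOfK_lt u)
  have h2 := wordP_eq_of_act _ _ h1
  simpa [wordP, gjS, nOfK_add] using h2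

theorem gjS_out (r : ℕ) (hr : ¬ r < 12) (t : K) : gjS r t = 1 := by
  have h : gjY (4 * r + nOfK t) = gjY 48 := by
    unfold gjY
    rw [gjT_out _ (by omega)]
  unfold gjS
  rw [h]
  ext i
  rw [PFun.perm_apply (gjY_ok' 48)]
  revert i
  decide +kernel

theorem gjS_comm (r s : ℕ) (hr : r < 12) (hs : s < 12) (h1 : s ≠ r) (h2 : s ≠ chevG2.neg r)
    (t u : K) : gjS s u * gjS r t =
      gjS r t * gjS s u * ((chevG2.commWord K r s t u).map fun p => gjS p.1 p.2).prod := by
  have h := gjR2_ok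
  unfold gjR2 at h
  have h3 := (pgAll_iff _ _).1 ((pgAll_iff _ _).1 h r hr) s hs
  have e1 : Nat.beq s r = false := by
    cases hb : Nat.beq s r
    · rfl
    · exact absurd (Nat.eq_of_beq_eq_true hb) h1
  have e2 : Nat.beq s (chevG2.neg r) = false := by
    cases hb : Nat.beq s (chevG2.neg r)
    · rfl
    · exact absurd (Nat.eq_of_beq_eq_true hb) h2
  rw [e1, e2] at h3
  simp only [Bool.or_self, Bool.false_or] at h3
  have h4 := (pgAll_iff _ _).1 ((pgAll_iff _ _).1 h3 _ (nOfK_lt t)) _ (nOfK_lt u)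
  rw [pgForce_eq] at h4
  have hd := (pgAll_iff _ _).1 ((pgAll_iff _ _).1 ((pgAll_iff _ _).1 ((pgAll_iff _ _).1 decW_encW
    r hr) s hs) _ (nOfK_lt t)) _ (nOfK_lt u)
  rw [decide_eq_true_eq] at hd
  rw [hd] at h4
  have h5 := wordP_eq_of_act _ _ h4
  have e3 : cwN r s (nOfK t) (nOfK u) = (chevG2.commWord K r s t u).map fun p => (p.1, nOfK p.2) := by
    unfold cwN
    rw [kOfN_nOfK, kOfN_nOfK]
  rw [e3] at h5
  have h6 : wordP ((r, nOfK t) :: (s, nOfK u) :: (chevG2.commWord K r s t u).map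
      fun p => (p.1, nOfK p.2)) = gjS r t * gjS s u *
        ((chevG2.commWord K r s t u).map fun p => gjS p.1 p.2).prod := by
    rw [← wordP_map]
    show _ * (_ * _) = _
    rw [mul_assoc]
    rfl
  rw [h6] at h5
  rw [← h5]
  simp [wordP, gjS]

/-- the images of the root elements -/
def gjYp (p : Fin chevG2.nroots × K) : Equiv.Perm (Fin 416) := gjS p.1.val p.2

theorem gjYp_h1 (r : Fin chevG2.nroots) (t u : K) : gjYp (r, t) * gjYp (r, u) = gjYp (r, t + u) :=
  gjS_add r.val r.isLt t u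

theorem gjYp_word (l : List (ℕ × K)) :
    (l.map (fun p => if h : p.1 < chevG2.nroots then gjYp (⟨p.1, h⟩, p.2) else 1)).prod =
      (l.map fun p => gjS p.1 p.2).prod := by
  congr 1
  apply List.map_congr_left
  intro p _
  by_cases h : p.1 < chevG2.nroots
  · rw [dif_pos h]; rfl
  · rw [dif_neg h, gjS_out _ h]

theorem gjYp_h2 (r s : Fin chevG2.nroots) (t u : K) (h1 : s ≠ r) (h2 : s.val ≠ chevG2.neg r.val) :
    gjYp (s, u) * gjYp (r, t) = gjYp (r, t) * gjYp (s, u) *
      ((chevG2.commWord K r.val s.val t u).map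
        (fun p => if h : p.1 < chevG2.nroots then gjYp (⟨p.1, h⟩, p.2) else 1)).prod := by
  rw [gjYp_word]
  exact gjS_comm r.val s.val r.isLt s.isLt (fun h => h1 (Fin.ext h)) h2 t u

end Cfsg.Agent.Lib.helper14.G2J
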