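import Cfsg.Agent.Lib.helper14.PgV2

set_option autoImplicit false

/-!
# Stabiliser chains certified by the order: orders, stabilisers and orbits of the levels;
actions through a homomorphism to a permutation group (helper14)
-/

namespace Cfsg.Agent.Lib.helper14.PV

open Cfsg.Agent.Lib.helper23 Subgroup MulAction

theorem PgValidW.chk0 {n : ℕ} : ∀ {C : List PgLvlW}, PgValidW n C → pgChk0W n C = true := by
  intro C
  induction C with
  | nil => intro _; rfl
  | cons L C ih =>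
    intro hval
    rw [pgChk0W_cons, Bool.and_eq_true]
    exact ⟨hval.1, ih hval.2.2.2⟩

/-- the stabiliser of the base point in the group of a stabiliser chain is the group of the next
level -/
theorem PgValidW.stab_eq {n : ℕ} {L : PgLvlW} {C : List PgLvlW} (hval : PgValidW n (L :: C))
    (hb : L.b < n) :
    pgGrpW n (L :: C) ⊓ stabilizer (Equiv.Perm (Fin n)) (⟨L.b, hb⟩ : Fin n) = pgGrpW n C := by
  obtain ⟨hb', hle, hfix, -⟩ := pgLvl_facts (PgValidW.chk0 hval)
  apply le_antisymm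
  · intro g hg
    rw [Subgroup.mem_inf, mem_stabilizer_iff] at hg
    exact hval.2.2.1 g hg.1 hb hg.2
  · intro g hg
    rw [Subgroup.mem_inf, mem_stabilizer_iff]
    exact ⟨hle hg, hfix g hg⟩

/-- the orbit of the base point under the group of a stabiliser chain is the listed set -/
theorem PgValidW.orbit_eq {n : ℕ} {L : PgLvlW} {C : List PgLvlW} (hval : PgValidW n (L :: C))
    (hb : L.b < n) :
    orbit ↥(pgGrpW n (L :: C)) (⟨L.b, hb⟩ : Fin n) = {z : Fin n | L.inO z.1 = true} := by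
  obtain ⟨hb', -, -, horb⟩ := pgLvl_facts (PgValidW.chk0 hval)
  apply Set.Subset.antisymm
  · rintro _ ⟨g, rfl⟩
    exact hval.2.1 g.1 g.2 hb
  · exact lvlSet_subset horb

theorem setOf_ncard (n : ℕ) (inO : ℕ → Bool) :
    {z : Fin n | inO z.1 = true}.ncard = pgCount n inO := by
  rw [← pgCount_fin, ← Set.ncard_coe_finset]
  congr 1
  ext z
  simp

/-- the order of the group of a stabiliser chain -/
theorem PgValidW.card {n : ℕ} : ∀ {C : List PgLvlW}, PgValidW n C →
    Nat.card (pgGrpW n C) = pgOrdW n C := by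
  intro C
  induction C with
  | nil =>
    intro _
    rw [pgGrpW_nil, Subgroup.card_bot]
    rfl
  | cons L C ih =>
    intro hval
    obtain ⟨hb, hle, hfix, -⟩ := pgLvl_facts (PgValidW.chk0 hval)
    have hinj := toStab_injective (⟨L.b, hb⟩ : Fin n) hle hfix
    have hsurj : Function.Surjective (toStab (⟨L.b, hb⟩ : Fin n) hle hfix) := by
      intro g
      have hg : g.1.1 ∈ pgGrpW n C := by
        apply hval.2.2.1 g.1.1 g.1.2 hb
        have := g.2
        rw [mem_stabilizer_iff] at this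
        exact this
      exact ⟨⟨g.1.1, hg⟩, rfl⟩
    have e1 : Nat.card ↥(stabilizer ↥(pgGrpW n (L :: C)) (⟨L.b, hb⟩ : Fin n)) =
        Nat.card ↥(pgGrpW n C) :=
      (Nat.card_congr (Equiv.ofBijective _ ⟨hinj, hsurj⟩)).symm
    rw [card_eq_stab_mul_orbit _ (⟨L.b, hb⟩ : Fin n), e1, ih hval.2.2.2, PgValidW.orbit_eq hval hb,
      setOf_ncard, pgOrdW_cons, mul_comm]

/-! ### actions through a homomorphism -/

section hom

variable {K G X : Type*} [Group K] [Group G] [MulAction K X] [MulAction G X] (φ : K →* G)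

theorem orbit_map_of_hom (hφ : ∀ (k : K) (x : X), k • x = φ k • x) (S : Subgroup K) (x : X) :
    orbit ↥S x = orbit ↥(S.map φ) x := by
  ext y
  constructor
  · rintro ⟨g, rfl⟩
    exact ⟨⟨φ g.1, ⟨g.1, g.2, rfl⟩⟩, (hφ g.1 x).symm⟩
  · rintro ⟨⟨_, ⟨g, hg, rfl⟩⟩, rfl⟩
    exact ⟨⟨g, hg⟩, hφ g x⟩

theorem orbit_range_of_hom (hφ : ∀ (k : K) (x : X), k • x = φ k • x) (x : X) :
    orbit K x = orbit ↥φ.range x := by
  ext y
  constructor
  · rintro ⟨g, rfl⟩
    exact ⟨⟨φ g, ⟨g, rfl⟩⟩, (hφ g x).symm⟩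
  · rintro ⟨⟨_, ⟨g, rfl⟩⟩, rfl⟩
    exact ⟨g, hφ g x⟩

theorem map_stabilizer_of_hom (hφ : ∀ (k : K) (x : X), k • x = φ k • x) (x : X) :
    (stabilizer K x).map φ = φ.range ⊓ stabilizer G x := by
  ext g
  rw [Subgroup.mem_map, Subgroup.mem_inf, mem_stabilizer_iff]
  constructor
  · rintro ⟨k, hk, rfl⟩
    rw [mem_stabilizer_iff] at hk
    exact ⟨⟨k, rfl⟩, by rw [← hφ, hk]⟩
  · rintro ⟨⟨k, rfl⟩, h⟩
    exact ⟨k, by rw [mem_stabilizer_iff, hφ, h], rfl⟩

end hom

end Cfsg.Agent.Lib.helper14.PV
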