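import Cfsg.Agent.Lib.helper14.G2Jd
import Cfsg.Agent.Lib.helper14.PgV4
import Cfsg.Agent.Lib.Helper20.G2JO

set_option autoImplicit false
set_option maxRecDepth 100000

/-!
# `G₂(4)` on 416 points: the checks of the two chains and of the suborbits (generated, helper14)
-/

namespace Cfsg.Agent.Lib.helper14.G2J

open Cfsg.Agent.Lib.helper23 Cfsg.Agent.Lib.helper14.PV

theorem gjachk0x7 : pgChkLvlW0 416 gjaL7 [] = true := by decide +kernel

theorem gjachk0x6 : pgChkLvlW0 416 gjaL6 [gjaL7] = true := by decide +kernel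

theorem gjachk0x5 : pgChkLvlW0 416 gjaL5 [gjaL6, gjaL7] = true := by decide +kernel

theorem gjachk0x4 : pgChkLvlW0 416 gjaL4 [gjaL5, gjaL6, gjaL7] = true := by decide +kernel

theorem gjachk0x3 : pgChkLvlW0 416 gjaL3 [gjaL4, gjaL5, gjaL6, gjaL7] = true := by decide +kernel

theorem gjachk0x2 : pgChkLvlW0 416 gjaL2 [gjaL3, gjaL4, gjaL5, gjaL6, gjaL7] = true := by decide +kernel

theorem gjachk0x1 : pgChkLvlW0 416 gjL1 [gjaL2, gjaL3, gjaL4, gjaL5, gjaL6, gjaL7] = true := by decide +kernel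

theorem gjachk0 : pgChk0W 416 gjaC = true := by
  unfold gjaC
  rw [pgChk0W_cons, pgChk0W_cons, pgChk0W_cons, pgChk0W_cons, pgChk0W_cons, pgChk0W_cons, pgChk0W_cons, gjachk0x1, gjachk0x2, gjachk0x3, gjachk0x4, gjachk0x5, gjachk0x6, gjachk0x7]
  rfl

theorem gjaord : pgOrdW 416 gjaC = 251596800 := by decide +kernel

theorem gjbchk0x7 : pgChkLvlW0 416 gjbL7 [] = true := by decide +kernel

theorem gjbchk0x6 : pgChkLvlW0 416 gjbL6 [gjbL7] = true := by decide +kernel

theorem gjbchk0x5 : pgChkLvlW0 416 gjbL5 [gjbL6, gjbL7] = true := by decide +kernel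

theorem gjbchk0x4 : pgChkLvlW0 416 gjbL4 [gjbL5, gjbL6, gjbL7] = true := by decide +kernel

theorem gjbchk0x3 : pgChkLvlW0 416 gjbL3 [gjbL4, gjbL5, gjbL6, gjbL7] = true := by decide +kernel

theorem gjbchk0x2 : pgChkLvlW0 416 gjbL2 [gjbL3, gjbL4, gjbL5, gjbL6, gjbL7] = true := by decide +kernel

theorem gjbchk0x1 : pgChkLvlW0 416 gjL1 [gjbL2, gjbL3, gjbL4, gjbL5, gjbL6, gjbL7] = true := by decide +kernel

theorem gjbchk0 : pgChk0W 416 gjbC = true := by
  unfold gjbC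
  rw [pgChk0W_cons, pgChk0W_cons, pgChk0W_cons, pgChk0W_cons, pgChk0W_cons, pgChk0W_cons, pgChk0W_cons, gjbchk0x1, gjbchk0x2, gjbchk0x3, gjbchk0x4, gjbchk0x5, gjbchk0x6, gjbchk0x7]
  rfl

theorem gjbord : pgOrdW 416 gjbC = 251596800 := by decide +kernel

theorem gjaorb0 : pgOrbChk 416 gjaOwn3 317 (pgBit gjaOM0) (gjpath3 gjaOP0) = true := by decide +kernel

theorem gjacnt0 : pgCount 416 (pgBit gjaOM0) = 36 := by decide +kernel

theorem gjaorb1 : pgOrbChk 416 gjaOwn3 324 (pgBit gjaOM1) (gjpath3 gjaOP1) = true := by decide +kernel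

theorem gjacnt1 : pgCount 416 (pgBit gjaOM1) = 63 := by decide +kernel

theorem gjborb0 : pgOrbChk 416 gjbOwn3 2 (pgBit gjbOM0) (gjpath3 gjbOP0) = true := by decide +kernel

theorem gjbcnt0 : pgCount 416 (pgBit gjbOM0) = 10 := by decide +kernel

theorem gjborb1 : pgOrbChk 416 gjbOwn3 12 (pgBit gjbOM1) (gjpath3 gjbOP1) = true := by decide +kernel

theorem gjbcnt1 : pgCount 416 (pgBit gjbOM1) = 80 := by decide +kernel

theorem gjborb2 : pgOrbChk 416 gjbOwn3 28 (pgBit gjbOM2) (gjpath3 gjbOP2) = true := by decide +kernel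

theorem gjbcnt2 : pgCount 416 (pgBit gjbOM2) = 160 := by decide +kernel

theorem gjborb3 : pgOrbChk 416 gjbOwn3 252 (pgBit gjbOM3) (gjpath3 gjbOP3) = true := by decide +kernel

theorem gjbcnt3 : pgCount 416 (pgBit gjbOM3) = 32 := by decide +kernel

theorem gjborb4 : pgOrbChk 416 gjbOwn3 268 (pgBit gjbOM4) (gjpath3 gjbOP4) = true := by decide +kernel

theorem gjbcnt4 : pgCount 416 (pgBit gjbOM4) = 32 := by decide +kernel

theorem gjcnt1 : pgCount 416 (pgBit gjM1) = 416 := by decide +kernel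

theorem gjacnt : pgCount 416 (pgBit gjaM2) = 100 := by decide +kernel

theorem gjbcnt : pgCount 416 (pgBit gjbM2) = 315 := by decide +kernel

end Cfsg.Agent.Lib.helper14.G2J
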