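import Cfsg.Agent.Lib.helper14.PgV4
import Cfsg.Agent.Lib.Helper13.G2JA
import Cfsg.Agent.Lib.Helper20.G2JO

set_option autoImplicit false

/-!
# Maximality of a point stabiliser from computed suborbits (helper14)
-/

namespace Cfsg.Agent.Lib.helper14.G2J

open Cfsg.Agent.Lib.helper23 Cfsg.Agent.Lib.helper14.PV Subgroup MulAction

/-- a group `K` acting on `Fin n` through a homomorphism `φ` to the permutations, with image generated
by `gK`; the image of the stabiliser of `α` generated by `gS`; `D` lists representatives of the orbits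
of the stabiliser (other than `{α}`) on the orbit of `α`, with these orbits -/
theorem coatom_of_orbits {n : ℕ} {K : Type*} [Group K] [Finite K] [MulAction K (Fin n)]
    (φ : K →* Equiv.Perm (Fin n)) (hφ : ∀ (k : K) (x : Fin n), k • x = φ k x)
    (gK gS : List PFun) (hK : φ.range = closure (pgSet n gK)) (α : Fin n)
    (hS : φ.range ⊓ stabilizer (Equiv.Perm (Fin n)) α = closure (pgSet n gS))
    (inOK : ℕ → Bool) (hOK : orbit ↥(closure (pgSet n gK)) α = {z : Fin n | inOK z.1 = true})
    (D : List (Fin n × (ℕ → Bool)))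
    (hD : ∀ d ∈ D, orbit ↥(closure (pgSet n gS)) d.1 = {z : Fin n | d.2 z.1 = true})
    (hin : ∀ d ∈ D, inOK d.1.1 = true) (hne : ∀ d ∈ D, d.1 ≠ α)
    (hdisj : D.Pairwise (fun d e => d.2 e.1.1 = false))
    (sizes : List ℕ) (hsz : D.map (fun d => pgCount n d.2) = sizes)
    (hsum : 1 + sizes.sum = pgCount n inOK)
    (harith : ∀ J ∈ sizes.sublists, (1 + J.sum) ∣ (1 + sizes.sum) → J = [] ∨ J.sum = sizes.sum)
    (hmove : ∃ g ∈ φ.range, g α ≠ α) :
    IsCoatom (stabilizer K α) := by
  have hφ' : ∀ (k : K) (x : Fin n), k • x = φ k • x := fun k x => hφ k x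
  have hoS : ∀ x : Fin n, orbit ↥(stabilizer K α) x = orbit ↥(closure (pgSet n gS)) x := by
    intro x
    rw [orbit_map_of_hom φ hφ', map_stabilizer_of_hom φ hφ', hS]
  have hoK : orbit K α = {z : Fin n | inOK z.1 = true} := by
    rw [orbit_range_of_hom φ hφ', hK, hOK]
  subst hsz
  apply coatom_of_suborbits α (D.map Prod.fst) (D.map (fun d => pgCount n d.2))
  · rw [List.length_map, List.length_map]
  · intro j h1 h2
    rw [List.getElem_map, List.getElem_map, hoS, hD _ (List.getElem_mem _), setOf_ncard]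
  · intro x hx
    obtain ⟨d, hd, rfl⟩ := List.mem_map.1 hx
    rw [hoK]
    exact hin d hd
  · intro x hx
    obtain ⟨d, hd, rfl⟩ := List.mem_map.1 hx
    exact hne d hd
  · rw [List.pairwise_map]
    apply List.Pairwise.imp_of_mem _ hdisj
    intro d e hd he h
    rw [hoS, hD d hd]
    intro h'
    rw [Set.mem_setOf_eq, h] at h'
    exact absurd h' (by decide)
  · rw [hoK, setOf_ncard]
    exact hsum
  · exact harith
  · intro htop
    obtain ⟨_, ⟨k, rfl⟩, hk⟩ := hmove
    have : k ∈ stabilizer K α := by rw [htop]; trivial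
    rw [mem_stabilizer_iff, hφ] at this
    exact hk this

/-- the points of the orbits listed in `D`, and the point `a`, are all the points with `inOK` -/
theorem cover_of_orbits {n : ℕ} (inOK : ℕ → Bool) (a : ℕ) (D : List (ℕ → Bool))
    (h : pgAll n (fun z => !(inOK z) || (Nat.beq z a || D.any (fun d => d z))) = true)
    (z : Fin n) (hz : inOK z.1 = true) (hza : z.1 ≠ a) : ∃ d ∈ D, d z.1 = true := by
  have h1 := (pgAll_iff _ _).1 h z.1 z.2
  rw [hz] at h1
  simp only [Bool.not_true, Bool.false_or, Bool.or_eq_true, Nat.beq_eq, List.any_eq_true] at h1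
  rcases h1 with h1 | h1
  · exact absurd h1 hza
  · exact h1

end Cfsg.Agent.Lib.helper14.G2J
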