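import Cfsg.Agent.Lib.helper14.G2Md
import Cfsg.Agent.Lib.Helper21.G2MH
import Cfsg.Agent.Lib.Helper22.G2MF
import Cfsg.Agent.Lib.Helper24.G2MA
import Cfsg.Agent.Lib.helper8.ChevB2S6
import Cfsg.Agent.Lib.helper8.ChevBaseG2
import Cfsg.Agent.Lib.helper8.ChevPerf
import Cfsg.Agent.S1055
import Cfsg.Agent.S1059

/-!
# Groups of arbitrarily large order with the prime graph of `G₂(4)` (helper14)
-/

set_option autoImplicit false

namespace Cfsg.Agent.Lib.helper14.G2M

open Matrix Cfsg.Lie Cfsg.Agent.Lib.Lead.F4 Cfsg.Agent.Lib.Helper12.G24 Cfsg.Agent.Lib.helper8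

/-- the Chevalley group -/
abbrev Gc : Type := ↥(chevG2.group K)

theorem card_Gc : Nat.card Gc = 251596800 := by
  have h := Cfsg.Agent.S1059.result (F := K) (q := 4) (by decide)
  rw [h]
  norm_num

theorem simple_Gc : IsSimpleGroup Gc :=
  (Cfsg.Agent.S1055.result (F := K) ⟨F4c.w, by decide, by decide⟩).1

instance finite_Gc : Finite Gc := Nat.finite_of_card_ne_zero (by rw [card_Gc]; norm_num)

/-- the root elements -/
noncomputable def xL (r : ℕ) (t : K) : Gc :=
  ⟨h8xU chevG2 h8base_G2 r t, h8xU_mem_group chevG2 h8base_G2 r t⟩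

theorem xL_val (r : Fin chevG2.nroots) (t : K) :
    (((xL r.val t : Gc) : GL chevG2.Idx K) : Matrix chevG2.Idx chevG2.Idx K) =
      chevG2.xMat K r t := by
  show chevG2.x K r.val t = _
  unfold ChevalleyDatum.x
  rw [dif_pos r.isLt]

/-- the elements of words -/
noncomputable def wL (w : List (ℕ × ℕ)) : Gc := (w.map fun p => xL p.1 (kOfN p.2)).prod

theorem two_smul_eq_zero (v : Fin 6 → K) : 2 • v = 0 := by
  rw [two_nsmul]
  funext i
  have : ∀ x : K, x + x = 0 := by decide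
  exact this (v i)

/-- transfer along an isomorphism -/
theorem graph_transfer {L L' : Type*} [Group L] [Group L'] (e : L ≃* L') (N : ℕ)
    (h : ∃ (H : Type) (_ : Group H) (_ : Finite H), N < Nat.card H ∧
      ((∀ p : ℕ, p.Prime → (p ∣ Nat.card L ↔ p ∣ Nat.card H)) ∧
      (∀ p q : ℕ, p.Prime → q.Prime → p ≠ q →
        ((∃ g : L, orderOf g = p * q) ↔ (∃ g : H, orderOf g = p * q))))) :
    ∃ (H : Type) (_ : Group H) (_ : Finite H), N < Nat.card H ∧
      ((∀ p : ℕ, p.Prime → (p ∣ Nat.card L' ↔ p ∣ Nat.card H)) ∧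
      (∀ p q : ℕ, p.Prime → q.Prime → p ≠ q →
        ((∃ g : L', orderOf g = p * q) ↔ (∃ g : H, orderOf g = p * q)))) := by
  obtain ⟨H, i1, i2, hN, h1, h2⟩ := h
  refine ⟨H, i1, i2, hN, ?_, ?_⟩
  · intro p hp
    rw [← Nat.card_congr e.toEquiv]
    exact h1 p hp
  · intro p q hp hq hpq
    rw [← h2 p q hp hq hpq]
    constructor
    · rintro ⟨g, hg⟩
      exact ⟨e.symm g, by rw [MulEquiv.orderOf_eq]; exact hg⟩
    · rintro ⟨g, hg⟩
      exact ⟨e g, by rw [MulEquiv.orderOf_eq]; exact hg⟩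

/-- the words use root indices in range -/
def inRange (w : List (ℕ × ℕ)) : Prop := ∀ p ∈ w, p.1 < 12 ∧ p.2 < 4

theorem main_K (N : ℕ) :
    ∃ (H : Type) (_ : Group H) (_ : Finite H), N < Nat.card H ∧
      ((∀ p : ℕ, p.Prime → (p ∣ Nat.card Gc ↔ p ∣ Nat.card H)) ∧
      (∀ p q : ℕ, p.Prime → q.Prime → p ≠ q →
        ((∃ g : Gc, orderOf g = p * q) ↔ (∃ g : H, orderOf g = p * q)))) := by
  obtain ⟨ρ, hρ⟩ := Cfsg.Agent.Lib.Helper21.G2MH.exists_hom_of_rels (K := K)
    ⟨F4c.w, by decide, by decide⟩ g2Y g2Y_h1 g2Y_h2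
  have hx : ∀ (r : ℕ) (hr : r < 12) (t : K), ρ (xL r t) = g2Y (⟨r, hr⟩, t) :=
    fun r hr t => hρ ⟨r, hr⟩ t _ (xL_val ⟨r, hr⟩ t)
  have hw : ∀ w : List (ℕ × ℕ), inRange w →
      ((ρ (wL w) : GL (Fin 6) K) : Matrix (Fin 6) (Fin 6) K) = wordM w := by
    intro w
    induction w with
    | nil => intro _; simp [wL, wordM]
    | cons p w ih =>
      intro hr
      have h1 : p.1 < 12 := (hr p (List.mem_cons_self ..)).1
      have h3 : p.2 < 4 := (hr p (List.mem_cons_self ..)).2
      have h2 : inRange w := fun q hq => hr q (List.mem_cons_of_mem _ hq)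
      have e1 : wL (p :: w) = xL p.1 (kOfN p.2) * wL w := by
        unfold wL
        rw [List.map_cons, List.prod_cons]
      have e2 : wordM (p :: w) = matOf (g2T (4 * p.1 + p.2)) * wordM w := by
        unfold wordM
        rw [List.map_cons, List.prod_cons]
      have e3 : nOfK (kOfN p.2) = p.2 := by
        have e : ∀ x, x < 4 → nOfK (kOfN x) = x := by decide
        exact e _ h3
      rw [e1, map_mul, Units.val_mul, ih h2, hx p.1 h1, e2, g2Y_val]
      show g2A p.1 (kOfN p.2) * _ = _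
      unfold g2A
      rw [e3]
  -- the representation is faithful
  have hinj : Function.Injective ρ := by
    have := simple_Gc
    rw [← MonoidHom.ker_eq_bot_iff]
    rcases Subgroup.Normal.eq_bot_or_eq_top (MonoidHom.normal_ker ρ) with h | h
    · exact h
    · exfalso
      have h1 : xL 0 1 ∈ ρ.ker := by rw [h]; trivial
      rw [MonoidHom.mem_ker, hx 0 (by norm_num)] at h1
      have h2 := congrArg (fun u : GL (Fin 6) K => (u : Matrix (Fin 6) (Fin 6) K) 4 0) h1
      revert h2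
      decide +kernel
  have ho : ∀ w : List (ℕ × ℕ), inRange w → orderOf (wL w) = orderOf (wordM w) := by
    intro w hr
    rw [← orderOf_injective ρ hinj, ← hw w hr, orderOf_units]
  -- the module
  letI act : DistribMulAction Gc (Fin 6 → K) :=
    { smul := fun g v => ((ρ g : GL (Fin 6) K) : Matrix (Fin 6) (Fin 6) K) *ᵥ v
      one_smul := fun v => by
        show ((ρ 1 : GL (Fin 6) K) : Matrix (Fin 6) (Fin 6) K) *ᵥ v = v
        rw [map_one, Units.val_one, one_mulVec]
      mul_smul := fun g h v => by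
        show ((ρ (g * h) : GL (Fin 6) K) : Matrix (Fin 6) (Fin 6) K) *ᵥ v =
          ((ρ g : GL (Fin 6) K) : Matrix (Fin 6) (Fin 6) K) *ᵥ
            (((ρ h : GL (Fin 6) K) : Matrix (Fin 6) (Fin 6) K) *ᵥ v)
        rw [map_mul, Units.val_mul, mulVec_mulVec]
      smul_zero := fun g => mulVec_zero _
      smul_add := fun g v w => mulVec_add _ _ _ }
  have hsm : ∀ (g : Gc) (v : Fin 6 → K),
      g • v = ((ρ g : GL (Fin 6) K) : Matrix (Fin 6) (Fin 6) K) *ᵥ v := fun _ _ => rfl
  have r6 : inRange g2w6 := by unfold inRange g2w6; decide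
  have r10 : inRange g2w10 := by unfold inRange g2w10; decide
  have r7 : inRange g2w7 := by unfold inRange g2w7; decide
  have r13 : inRange g2w13 := by unfold inRange g2w13; decide
  refine Cfsg.Agent.Lib.Helper24.G2M.assemble card_Gc (Fin 6 → K) two_smul_eq_zero
    (wL g2w6) (wL g2w10) (wL g2w7) (wL g2w13) ?_ ?_ ?_ ?_ ?_ ?_ N
  · rw [ho _ r6, g2w6_order]
  · rw [ho _ r10, g2w10_order]
  · rw [ho _ r7, g2w7_order]
  · rw [ho _ r13, g2w13_order]
  · intro v hv
    rw [hsm, hw _ r7] at hv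
    exact Cfsg.Agent.Lib.Helper22.G2M.fpf_of_check g2w7 g2w7_fpf v hv
  · intro v hv
    rw [hsm, hw _ r13] at hv
    exact Cfsg.Agent.Lib.Helper22.G2M.fpf_of_check g2w13 g2w13_fpf v hv

/-- groups of arbitrarily large order with the prime graph of `G₂(4)` -/
theorem main {F : Type*} [Field F] [Fintype F] (hF : Fintype.card F = 4) (N : ℕ) :
    ∃ (H : Type) (_ : Group H) (_ : Finite H), N < Nat.card H ∧
      ((∀ p : ℕ, p.Prime → (p ∣ Nat.card ↥(chevG2.group F) ↔ p ∣ Nat.card H)) ∧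
      (∀ p q : ℕ, p.Prime → q.Prime → p ≠ q →
        ((∃ g : ↥(chevG2.group F), orderOf g = p * q) ↔ (∃ g : H, orderOf g = p * q)))) := by
  have φ : K ≃+* F := FiniteField.ringEquivOfCardEq (by rw [hF]; decide)
  obtain ⟨e⟩ := h8group_ringEquiv chevG2 h8base_G2 h8base_G2 φ
  exact graph_transfer e N (main_K N)

end Cfsg.Agent.Lib.helper14.G2M
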