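import Cfsg.Agent.Lib.helper14.G2Jc
import Cfsg.Agent.Lib.helper14.G2Je
import Cfsg.Agent.Lib.helper14.G2Me

/-!
# `G₂(4)` on 416 points: the group of permutations (helper14)

The Chevalley group `G₂(4)` is isomorphic to the group `P416` generated by the 36 permutations of the
root elements; both chains are stabiliser chains.
-/

set_option autoImplicit false

namespace Cfsg.Agent.Lib.helper14.G2J

open Cfsg.Lie Cfsg.Agent.Lib.Lead.F4 Cfsg.Agent.Lib.Helper12.G24 Cfsg.Agent.Lib.helper23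
  Cfsg.Agent.Lib.helper14.G2M Cfsg.Agent.Lib.helper14.PV Subgroup MulAction

/-- the group on 416 points -/
def P416 : Subgroup (Equiv.Perm (Fin 416)) := closure (pgSet 416 gjOwn)

theorem gjOwn_eq : gjOwn = (List.range 36).map (fun j => gjY (4 * (j / 3) + (j % 3 + 1))) := rfl

theorem gjS_zero (r : ℕ) (hr : r < 12) : gjS r 0 = 1 := by
  have h := gjS_add r hr 0 0
  rw [add_zero] at h
  exact mul_left_cancel (h.trans (mul_one _).symm)

theorem gjS_mem (r : ℕ) (hr : r < 12) (t : K) : gjS r t ∈ P416 := by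
  by_cases ht : t = 0
  · rw [ht, gjS_zero r hr]
    exact one_mem _
  · apply Subgroup.subset_closure
    refine ⟨gjY (4 * r + nOfK t), ?_, rfl⟩
    rw [gjOwn_eq, List.mem_map]
    have h1 : 1 ≤ nOfK t := by
      cases t
      · exact absurd rfl ht
      all_goals decide
    have h3 := nOfK_lt t
    refine ⟨3 * r + (nOfK t - 1), by rw [List.mem_range]; omega, ?_⟩
    congr 1
    omega

theorem gjOwn_mem (P : PFun) (hP : P ∈ gjOwn) : ∃ r < 12, ∃ t : K, P.perm 416 = gjS r t := by
  rw [gjOwn_eq, List.mem_map] at hP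
  obtain ⟨j, hj, rfl⟩ := hP
  rw [List.mem_range] at hj
  refine ⟨j / 3, by omega, kOfN (j % 3 + 1), ?_⟩
  unfold gjS
  have e : nOfK (kOfN (j % 3 + 1)) = j % 3 + 1 := by
    have e' : ∀ x, x < 4 → nOfK (kOfN x) = x := by decide
    exact e' _ (by omega)
  rw [e]

theorem exists_rho : ∃ ρ : Gc →* Equiv.Perm (Fin 416), Function.Injective ρ ∧ ρ.range = P416 := by
  obtain ⟨ρ, hρ⟩ := Cfsg.Agent.Lib.Helper21.G2MH.exists_hom_of_rels (K := K)
    ⟨F4c.w, by decide, by decide⟩ gjYp gjYp_h1 gjYp_h2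
  have hx : ∀ (r : ℕ) (hr : r < 12) (t : K), ρ (xL r t) = gjS r t :=
    fun r hr t => hρ ⟨r, hr⟩ t _ (xL_val ⟨r, hr⟩ t)
  refine ⟨ρ, ?_, ?_⟩
  · have := simple_Gc
    rw [← MonoidHom.ker_eq_bot_iff]
    rcases Subgroup.Normal.eq_bot_or_eq_top (MonoidHom.normal_ker ρ) with h | h
    · exact h
    · exfalso
      have h1 : xL 0 1 ∈ ρ.ker := by rw [h]; trivial
      rw [MonoidHom.mem_ker, hx 0 (by norm_num)] at h1
      have h2 := congrArg (fun u : Equiv.Perm (Fin 416) => (u 1).1) h1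
      simp only [gjS] at h2
      rw [PFun.perm_apply (gjY_ok' _)] at h2
      revert h2
      decide +kernel
  · apply le_antisymm
    · rintro _ ⟨g, rfl⟩
      obtain ⟨g, hg⟩ := g
      induction hg using Subgroup.closure_induction with
      | mem s hs =>
        obtain ⟨r, t, hs'⟩ := hs
        rw [hρ r t _ hs']
        exact gjS_mem r.val r.isLt t
      | one =>
        have : (⟨1, one_mem _⟩ : Gc) = 1 := rfl
        rw [this, map_one]
        exact one_mem _
      | mul a b ha hb iha ihb =>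
        have : (⟨a * b, mul_mem ha hb⟩ : Gc) = ⟨a, ha⟩ * ⟨b, hb⟩ := rfl
        rw [this, map_mul]
        exact mul_mem iha ihb
      | inv a ha iha =>
        have : (⟨a⁻¹, inv_mem ha⟩ : Gc) = (⟨a, ha⟩ : Gc)⁻¹ := rfl
        rw [this, map_inv]
        exact inv_mem iha
    · unfold P416
      rw [closure_le]
      rintro _ ⟨P, hP, rfl⟩
      obtain ⟨r, hr, t, e⟩ := gjOwn_mem P hP
      rw [e, ← hx r hr t]
      exact ⟨_, rfl⟩

theorem P416_card : Nat.card ↥P416 = 251596800 := by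
  obtain ⟨ρ, hinj, hrange⟩ := exists_rho
  rw [← hrange, ← Nat.card_congr (MonoidHom.ofInjective hinj).toEquiv, card_Gc]

instance P416_finite : Finite ↥P416 := Nat.finite_of_card_ne_zero (by rw [P416_card]; norm_num)

theorem exists_iso : Nonempty (↥P416 ≃* Gc) := by
  obtain ⟨ρ, hinj, hrange⟩ := exists_rho
  exact ⟨((MonoidHom.ofInjective hinj).trans (MulEquiv.subgroupCongr hrange)).symm⟩

theorem gjaC_grp : pgGrpW 416 gjaC = P416 := rfl

theorem gjbC_grp : pgGrpW 416 gjbC = P416 := rfl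

theorem gjaC_valid : PgValidW 416 gjaC :=
  (pgValid_of_card gjaC gjachk0 (by rw [gjaC_grp, P416_card, gjaord])).1

theorem gjbC_valid : PgValidW 416 gjbC :=
  (pgValid_of_card gjbC gjbchk0 (by rw [gjbC_grp, P416_card, gjbord])).1

end Cfsg.Agent.Lib.helper14.G2J
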