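import Cfsg.Agent.Lib.helper14.G2Jf
import Cfsg.Agent.Lib.helper14.G2Jg
import Cfsg.Agent.Lib.helper23.PgY
import Cfsg.Agent.Lib.helper23.J2pMain
import Cfsg.Agent.Lib.Lead.J2.K7
import Cfsg.Agent.Lib.Helper20.G2JB
import Cfsg.Agent.Lib.Helper20.G2JT

/-!
# `G₂(4)` on 416 points: the point stabiliser `J₂` is maximal and the action is extremely primitive
(helper14)
-/

set_option autoImplicit false
set_option maxRecDepth 100000

namespace Cfsg.Agent.Lib.helper14.G2J

open Cfsg.Lie Cfsg.Agent.Lib.Lead.F4 Cfsg.Agent.Lib.Helper12.G24 Cfsg.Agent.Lib.helper23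
  Cfsg.Agent.Lib.helper14.G2M Cfsg.Agent.Lib.helper14.PV Subgroup MulAction
  Cfsg.Agent.Lib.Lead.J2

/-- a point -/
def gjpt (a : ℕ) (h : a < 416) : Fin 416 := ⟨a, h⟩

/-- the stabiliser of the point `0` as a group of permutations -/
abbrev H416 : Subgroup (Equiv.Perm (Fin 416)) := closure (pgSet 416 gjHs)

/-! ### the chains -/

theorem gjaT_valid : PgValidW 416 [gjaL2, gjaL3, gjaL4, gjaL5, gjaL6, gjaL7] := gjaC_valid.2.2.2

theorem gjbT_valid : PgValidW 416 [gjbL2, gjbL3, gjbL4, gjbL5, gjbL6, gjbL7] := gjbC_valid.2.2.2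

theorem gjHs_ok : ∀ P ∈ gjHs, P.ok 416 = true := PgValidW.ok gjaT_valid

theorem gjaOwn3_ok : ∀ P ∈ gjaOwn3, P.ok 416 = true := PgValidW.ok gjaT_valid.2.2.2

theorem gjbOwn3_ok : ∀ P ∈ gjbOwn3, P.ok 416 = true := PgValidW.ok gjbT_valid.2.2.2

theorem stab0 : P416 ⊓ stabilizer (Equiv.Perm (Fin 416)) (gjpt 0 (by norm_num)) = H416 :=
  PgValidW.stab_eq gjaC_valid (by decide)

theorem orb0 : orbit ↥P416 (gjpt 0 (by norm_num)) = {z : Fin 416 | pgBit gjM1 z.1 = true} :=
  PgValidW.orbit_eq gjaC_valid (by decide)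

theorem stabA : H416 ⊓ stabilizer (Equiv.Perm (Fin 416)) (gjpt 316 (by norm_num)) =
    closure (pgSet 416 gjaOwn3) :=
  PgValidW.stab_eq gjaT_valid (by decide)

theorem orbA : orbit ↥H416 (gjpt 316 (by norm_num)) = {z : Fin 416 | pgBit gjaM2 z.1 = true} :=
  PgValidW.orbit_eq gjaT_valid (by decide)

theorem stabB : H416 ⊓ stabilizer (Equiv.Perm (Fin 416)) (gjpt 1 (by norm_num)) =
    closure (pgSet 416 gjbOwn3) :=
  PgValidW.stab_eq gjbT_valid (by decide)

theorem orbB : orbit ↥H416 (gjpt 1 (by norm_num)) = {z : Fin 416 | pgBit gjbM2 z.1 = true} :=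
  PgValidW.orbit_eq gjbT_valid (by decide)

theorem H416_ord : pgOrdW 416 [gjaL2, gjaL3, gjaL4, gjaL5, gjaL6, gjaL7] = 604800 := by
  decide +kernel

theorem H416_card : Nat.card ↥H416 = 604800 := by
  have h := PgValidW.card gjaT_valid
  rw [H416_ord] at h
  exact h

/-! ### the stabiliser is the Hall–Janko group -/

theorem gjblk : pgChkBlk 315 1 gjHs = true := by decide +kernel

/-- the restriction to the points `1, …, 315` -/
noncomputable def gjres : ↥H416 →* Equiv.Perm (Fin 315) :=
  pgBlkHom (n := 416) (m := 315) (off := 1) (by norm_num) gjHs_ok gjblk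

/-- the packed tables of the four generators -/
def gjHTab (k : Fin 4) : ℕ :=
  match k with
  | 0 => gjH0
  | 1 => gjH1
  | 2 => gjH2
  | 3 => gjH3

/-- the packed tables of the inverses of the four generators -/
def gjHTabI (k : Fin 4) : ℕ :=
  match k with
  | 0 => gjHI0
  | 1 => gjHI1
  | 2 => gjHI2
  | 3 => gjHI3

theorem gjHtab_eq : ∀ k : Fin 4, ∀ i : Fin 315, gjlk (gjHTab k) (1 + i.1) = 1 + (piFun k i).1 := by
  decide +kernel

theorem gjHs_eq : gjHs = [gjgen (gjHTab 0) (gjHTabI 0), gjgen (gjHTab 1) (gjHTabI 1),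
    gjgen (gjHTab 2) (gjHTabI 2), gjgen (gjHTab 3) (gjHTabI 3)] := rfl

theorem gjHs_mem (k : Fin 4) : gjgen (gjHTab k) (gjHTabI k) ∈ gjHs := by
  rw [gjHs_eq]
  fin_cases k <;> simp

theorem gjres_gen (k : Fin 4) :
    gjres ⟨(gjgen (gjHTab k) (gjHTabI k)).perm 416,
      Subgroup.subset_closure ⟨_, gjHs_mem k, rfl⟩⟩ = piG k := by
  ext i
  have h := pgBlkHom_gen (n := 416) (m := 315) (off := 1) (by norm_num) gjHs_ok gjblk _
    (gjHs_mem k) i
  change 1 + (gjres _ i).1 = gjlk (gjHTab k) (1 + i.1) at h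
  rw [gjHtab_eq k i] at h
  have h' : (gjres ⟨(gjgen (gjHTab k) (gjHTabI k)).perm 416,
      Subgroup.subset_closure ⟨_, gjHs_mem k, rfl⟩⟩ i).1 = (piFun k i).1 := by omega
  exact h'

theorem gjres_range : gjres.range = P315 := by
  unfold P315
  apply pgBlkHom_range
  · intro P hP
    rw [gjHs_eq] at hP
    simp only [List.mem_cons, List.not_mem_nil, or_false] at hP
    rcases hP with rfl | rfl | rfl | rfl
    · exact ⟨0, (gjres_gen 0).symm⟩
    · exact ⟨1, (gjres_gen 1).symm⟩
    · exact ⟨2, (gjres_gen 2).symm⟩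
    · exact ⟨3, (gjres_gen 3).symm⟩
  · rintro _ ⟨k, rfl⟩
    exact ⟨_, gjHs_mem k, gjres_gen k⟩

/-- the stabiliser of the point `0` is the Hall–Janko group -/
noncomputable def H416_equiv : ↥H416 ≃* ↥P315 :=
  pgEquivOfRange gjres P315 gjres_range (by rw [H416_card, P315_card])

/-! ### the stabiliser in `P416` -/

/-- the stabiliser of the point `0` -/
abbrev St0 : Subgroup ↥P416 := stabilizer ↥P416 (gjpt 0 (by norm_num))

theorem smul_P416 (k : ↥P416) (x : Fin 416) : k • x = P416.subtype k • x := rfl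

theorem St0_map : St0.map P416.subtype = H416 := by
  unfold St0
  rw [map_stabilizer_of_hom P416.subtype smul_P416, Subgroup.range_subtype]
  exact stab0

theorem St0_iso : Nonempty (↥St0 ≃* Spor.J2) :=
  ⟨((St0.equivMapOfInjective P416.subtype P416.subtype_injective).trans
    ((MulEquiv.subgroupCongr St0_map).trans H416_equiv)).trans J2Iso.symm⟩

/-- the action of the stabiliser as a homomorphism -/
def phi2 : ↥St0 →* Equiv.Perm (Fin 416) := P416.subtype.comp St0.subtype

theorem phi2_range : phi2.range = H416 := by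
  unfold phi2
  rw [MonoidHom.range_comp, Subgroup.range_subtype]
  exact St0_map

/-! ### maximality -/

theorem gjHs_getD2 : gjgen gjH2 gjHI2 ∈ gjHs := by
  unfold gjHs
  simp

theorem coatom0 : IsCoatom St0 := by
  apply coatom_of_orbits P416.subtype (fun _ _ => rfl) gjOwn gjHs (Subgroup.range_subtype P416)
    (gjpt 0 (by norm_num)) (by rw [Subgroup.range_subtype]; exact stab0) (pgBit gjM1) orb0
    [(gjpt 316 (by norm_num), pgBit gjaM2), (gjpt 1 (by norm_num), pgBit gjbM2)] ?_ ?_ ?_ ?_
    [100, 315] ?_ ?_ ?_ ?_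
  · intro d hd
    simp only [List.mem_cons, List.not_mem_nil, or_false] at hd
    rcases hd with rfl | rfl
    · exact orbA
    · exact orbB
  · intro d hd
    simp only [List.mem_cons, List.not_mem_nil, or_false] at hd
    rcases hd with rfl | rfl <;> decide +kernel
  · intro d hd
    simp only [List.mem_cons, List.not_mem_nil, or_false] at hd
    rcases hd with rfl | rfl <;> decide
  · simp only [List.pairwise_cons, List.mem_cons, List.not_mem_nil, or_false, forall_eq,
      List.Pairwise.nil, and_true, false_imp_iff, implies_true]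
    decide +kernel
  · simp only [List.map_cons, List.map_nil, gjacnt, gjbcnt]
  · rw [gjcnt1]
    rfl
  · decide
  · refine ⟨(gjY 2).perm 416, ?_, ?_⟩
    · rw [Subgroup.range_subtype]
      apply Subgroup.subset_closure
      exact ⟨gjY 2, by unfold gjOwn; simp, rfl⟩
    · intro h
      have h2 := congrArg Fin.val h
      rw [PFun.perm_apply (gjY_ok' 2)] at h2
      revert h2
      decide +kernel

theorem coatomA : IsCoatom (stabilizer ↥St0 (gjpt 316 (by norm_num))) := by
  apply coatom_of_orbits phi2 (fun _ _ => rfl) gjHs gjaOwn3 phi2_range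
    (gjpt 316 (by norm_num)) (by rw [phi2_range]; exact stabA) (pgBit gjaM2) orbA
    [(gjpt 317 (by norm_num), pgBit gjaOM0), (gjpt 324 (by norm_num), pgBit gjaOM1)] ?_ ?_ ?_ ?_
    [36, 63] ?_ ?_ ?_ ?_
  · intro d hd
    simp only [List.mem_cons, List.not_mem_nil, or_false] at hd
    rcases hd with rfl | rfl
    · exact pgOrbChk_spec gjaOwn3_ok gjaorb0 (by norm_num)
    · exact pgOrbChk_spec gjaOwn3_ok gjaorb1 (by norm_num)
  · intro d hd
    simp only [List.mem_cons, List.not_mem_nil, or_false] at hd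
    rcases hd with rfl | rfl <;> decide +kernel
  · intro d hd
    simp only [List.mem_cons, List.not_mem_nil, or_false] at hd
    rcases hd with rfl | rfl <;> decide
  · simp only [List.pairwise_cons, List.mem_cons, List.not_mem_nil, or_false, forall_eq,
      List.Pairwise.nil, and_true, false_imp_iff, implies_true]
    decide +kernel
  · simp only [List.map_cons, List.map_nil, gjacnt0, gjacnt1]
  · rw [gjacnt]
    rfl
  · decide
  · refine ⟨(gjgen gjH2 gjHI2).perm 416, ?_, ?_⟩
    · rw [phi2_range]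
      apply Subgroup.subset_closure
      exact ⟨_, gjHs_getD2, rfl⟩
    · intro h
      have h2 := congrArg Fin.val h
      rw [PFun.perm_apply (gjHs_ok _ gjHs_getD2)] at h2
      revert h2
      decide +kernel

theorem coatomB : IsCoatom (stabilizer ↥St0 (gjpt 1 (by norm_num))) := by
  apply coatom_of_orbits phi2 (fun _ _ => rfl) gjHs gjbOwn3 phi2_range
    (gjpt 1 (by norm_num)) (by rw [phi2_range]; exact stabB) (pgBit gjbM2) orbB
    [(gjpt 2 (by norm_num), pgBit gjbOM0), (gjpt 12 (by norm_num), pgBit gjbOM1),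
      (gjpt 28 (by norm_num), pgBit gjbOM2), (gjpt 252 (by norm_num), pgBit gjbOM3),
      (gjpt 268 (by norm_num), pgBit gjbOM4)] ?_ ?_ ?_ ?_
    [10, 80, 160, 32, 32] ?_ ?_ ?_ ?_
  · intro d hd
    simp only [List.mem_cons, List.not_mem_nil, or_false] at hd
    rcases hd with rfl | rfl | rfl | rfl | rfl
    · exact pgOrbChk_spec gjbOwn3_ok gjborb0 (by norm_num)
    · exact pgOrbChk_spec gjbOwn3_ok gjborb1 (by norm_num)
    · exact pgOrbChk_spec gjbOwn3_ok gjborb2 (by norm_num)
    · exact pgOrbChk_spec gjbOwn3_ok gjborb3 (by norm_num)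
    · exact pgOrbChk_spec gjbOwn3_ok gjborb4 (by norm_num)
  · intro d hd
    simp only [List.mem_cons, List.not_mem_nil, or_false] at hd
    rcases hd with rfl | rfl | rfl | rfl | rfl <;> decide +kernel
  · intro d hd
    simp only [List.mem_cons, List.not_mem_nil, or_false] at hd
    rcases hd with rfl | rfl | rfl | rfl | rfl <;> decide
  · simp only [List.pairwise_cons, List.mem_cons, List.not_mem_nil, or_false, forall_eq_or_imp,
      forall_eq, List.Pairwise.nil, and_true, false_imp_iff, implies_true]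
    decide +kernel
  · simp only [List.map_cons, List.map_nil, gjbcnt0, gjbcnt1, gjbcnt2, gjbcnt3, gjbcnt4]
  · rw [gjbcnt]
    rfl
  · decide
  · refine ⟨(gjgen gjH2 gjHI2).perm 416, ?_, ?_⟩
    · rw [phi2_range]
      apply Subgroup.subset_closure
      exact ⟨_, gjHs_getD2, rfl⟩
    · intro h
      have h2 := congrArg Fin.val h
      rw [PFun.perm_apply (gjHs_ok _ gjHs_getD2)] at h2
      revert h2
      decide +kernel

end Cfsg.Agent.Lib.helper14.G2J
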