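import Cfsg.Agent.Lib.helper14.G2Jh

/-!
# `G₂(4)` acts extremely primitively on the cosets of a maximal subgroup `J₂` (helper14)
-/

set_option autoImplicit false
set_option maxRecDepth 100000

namespace Cfsg.Agent.Lib.helper14.G2J

open Cfsg.Lie Cfsg.Agent.Lib.Lead.F4 Cfsg.Agent.Lib.Helper12.G24 Cfsg.Agent.Lib.helper23
  Cfsg.Agent.Lib.helper14.G2M Cfsg.Agent.Lib.helper14.PV Subgroup MulAction
  Cfsg.Agent.Lib.helper8

theorem orb_St0 (x : Fin 416) : orbit ↥St0 x = orbit ↥H416 x := by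
  rw [orbit_map_of_hom P416.subtype smul_P416, St0_map]

theorem gjcover : pgAll 416 (fun z => Nat.beq z 0 || (pgBit gjaM2 z || pgBit gjbM2 z)) = true := by
  decide +kernel

theorem main_P : ∃ H : Subgroup ↥P416, IsCoatom H ∧ Nonempty (↥H ≃* Cfsg.Spor.J2) ∧
    ∀ x : ↥P416, x ∉ H →
      IsCoatom ((H ⊓ H.map (MulAut.conj x).toMonoidHom).subgroupOf H) := by
  refine ⟨St0, coatom0, St0_iso, ?_⟩
  apply extremely_primitive_of_reps (gjpt 0 (by norm_num))
    [gjpt 316 (by norm_num), gjpt 1 (by norm_num)]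
  · intro x _ hx
    have h := (pgAll_iff _ _).1 gjcover x.1 x.2
    simp only [Bool.or_eq_true, Nat.beq_eq] at h
    rcases h with h | h | h
    · exact absurd (Fin.ext h) hx
    · refine ⟨gjpt 316 (by norm_num), List.mem_cons_self, ?_⟩
      rw [orb_St0, orbA]
      exact h
    · refine ⟨gjpt 1 (by norm_num), List.mem_cons_of_mem _ List.mem_cons_self, ?_⟩
      rw [orb_St0, orbB]
      exact h
  · intro β hβ
    simp only [List.mem_cons, List.not_mem_nil, or_false] at hβ
    rcases hβ with rfl | rfl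
    · exact coatomA
    · exact coatomB

theorem main_K : ∃ H : Subgroup Gc, IsCoatom H ∧ Nonempty (↥H ≃* Cfsg.Spor.J2) ∧
    ∀ x : Gc, x ∉ H → IsCoatom ((H ⊓ H.map (MulAut.conj x).toMonoidHom).subgroupOf H) := by
  obtain ⟨e⟩ := exists_iso
  exact ep_transfer e main_P

/-- `G₂(4)` has a maximal subgroup `J₂` on whose cosets it acts extremely primitively -/
theorem main {F : Type*} [Field F] [Fintype F] (hF : Fintype.card F = 4) :
    ∃ H : Subgroup ↥(chevG2.group F), IsCoatom H ∧ Nonempty (↥H ≃* Cfsg.Spor.J2) ∧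
      ∀ x : ↥(chevG2.group F), x ∉ H →
        IsCoatom ((H ⊓ H.map (MulAut.conj x).toMonoidHom).subgroupOf H) := by
  have φ : K ≃+* F := FiniteField.ringEquivOfCardEq (by rw [hF]; decide)
  obtain ⟨e⟩ := h8group_ringEquiv chevG2 h8base_G2 h8base_G2 φ
  exact ep_transfer e main_K

end Cfsg.Agent.Lib.helper14.G2J
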