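import Cfsg.Agent.Lib.helper14.G2Mc

/-!
# The 6-dimensional representation of `G₂(4)`: orders of words (helper14)
-/

set_option autoImplicit false
set_option maxRecDepth 1000000

namespace Cfsg.Agent.Lib.helper14.G2M

open Matrix Cfsg.Lie Cfsg.Agent.Lib.Lead.F4 Cfsg.Agent.Lib.Helper12.G24

/-- the power of a word -/
def powW (w : List (ℕ × ℕ)) : ℕ → List (ℕ × ℕ)
  | 0 => []
  | n + 1 => w ++ powW w n

theorem wordM_powW (w : List (ℕ × ℕ)) (n : ℕ) : wordM (powW w n) = wordM w ^ n := by
  induction n with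
  | zero => rfl
  | succ n ih => rw [powW, wordM_append, ih, pow_succ']

/-- the word acts as the identity on the packed basis vectors -/
def isOneW (w : List (ℕ × ℕ)) : Bool := allN 6 (fun j => Nat.beq (actW w (4 ^ j)) (4 ^ j))

theorem wordM_eq_one_of (w : List (ℕ × ℕ)) (h : isOneW w = true) : wordM w = 1 := by
  have : wordM w = wordM [] := wordM_eq_of_act w [] h
  rw [this]
  rfl

theorem wordM_ne_one_of (w : List (ℕ × ℕ)) (c : ℕ) (h : decV (actW w c) ≠ decV c) : wordM w ≠ 1 := by
  intro h1
  apply h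
  rw [decV_actW, h1, one_mulVec]

/-- the order of the matrix of a word -/
theorem orderOf_wordM (w : List (ℕ × ℕ)) (n : ℕ) (hn : 0 < n) (h1 : isOneW (powW w n) = true)
    (h2 : ∀ p : ℕ, p.Prime → p ∣ n → ∃ c, decV (actW (powW w (n / p)) c) ≠ decV c) :
    orderOf (wordM w) = n := by
  apply orderOf_eq_of_pow_and_pow_div_prime hn
  · rw [← wordM_powW]
    exact wordM_eq_one_of _ h1
  · intro p hp hpn
    obtain ⟨c, hc⟩ := h2 p hp hpn
    rw [← wordM_powW]
    exact wordM_ne_one_of _ c hc

/-- an element of order 6 -/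
def g2w6 : List (ℕ × ℕ) := [(11, 2), (0, 3), (2, 3)]

/-- an element of order 10 -/
def g2w10 : List (ℕ × ℕ) := [(8, 1), (3, 2), (11, 2)]

/-- an element of order 7 -/
def g2w7 : List (ℕ × ℕ) := [(10, 2), (2, 1), (8, 3)]

/-- an element of order 13 -/
def g2w13 : List (ℕ × ℕ) := [(3, 1), (4, 1), (9, 2), (5, 1)]

theorem g2w6_order : orderOf (wordM g2w6) = 6 := by
  apply orderOf_wordM g2w6 6 (by norm_num) (by decide +kernel)
  intro p hp hp6
  have hle : p ≤ 6 := Nat.le_of_dvd (by norm_num) hp6
  interval_cases p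
  · exact absurd hp (by norm_num)
  · exact absurd hp (by norm_num)
  · exact ⟨1365, by decide +kernel⟩
  · exact ⟨1365, by decide +kernel⟩
  · exact absurd hp6 (by norm_num)
  · exact absurd hp6 (by norm_num)
  · exact absurd hp (by norm_num)

theorem g2w10_order : orderOf (wordM g2w10) = 10 := by
  apply orderOf_wordM g2w10 10 (by norm_num) (by decide +kernel)
  intro p hp hp10
  have hle : p ≤ 10 := Nat.le_of_dvd (by norm_num) hp10
  interval_cases p
  · exact absurd hp (by norm_num)
  · exact absurd hp (by norm_num)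
  · exact ⟨1365, by decide +kernel⟩
  · exact absurd hp10 (by norm_num)
  · exact absurd hp10 (by norm_num)
  · exact ⟨1365, by decide +kernel⟩
  · exact absurd hp10 (by norm_num)
  · exact absurd hp10 (by norm_num)
  · exact absurd hp10 (by norm_num)
  · exact absurd hp10 (by norm_num)
  · exact absurd hp (by norm_num)

theorem g2w7_order : orderOf (wordM g2w7) = 7 := by
  apply orderOf_wordM g2w7 7 (by norm_num) (by decide +kernel)
  intro p hp hp7
  have h7 : p = 7 := (Nat.prime_dvd_prime_iff_eq hp (by norm_num)).1 hp7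
  subst h7
  exact ⟨1365, by decide +kernel⟩

theorem g2w13_order : orderOf (wordM g2w13) = 13 := by
  apply orderOf_wordM g2w13 13 (by norm_num) (by decide +kernel)
  intro p hp hp13
  have h13 : p = 13 := (Nat.prime_dvd_prime_iff_eq hp (by norm_num)).1 hp13
  subst h13
  exact ⟨1365, by decide +kernel⟩

/-- no non-zero vector is fixed: the check -/
def fpfChk (w : List (ℕ × ℕ)) : Bool := allN 4096 (fun c => Nat.beq c 0 || !(Nat.beq (actW w c) c))

theorem g2w7_fpf : fpfChk g2w7 = true := by decide +kernel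

theorem g2w13_fpf : fpfChk g2w13 = true := by decide +kernel

end Cfsg.Agent.Lib.helper14.G2M
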