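import Cfsg.Agent.Lib.helper14.GL2Char
import Cfsg.Agent.S2303

set_option autoImplicit false
set_option linter.unusedSectionVars false
open Cfsg

namespace Cfsg.Agent.Lib.helper14

open Cfsg.Agent.Lib.helper7 Cfsg.Agent.Lib.helper2 Cfsg.Agent.Lib.Helper25 Cfsg.Agent.S2304

open scoped ComplexConjugate

section GL2Char2

variable {F : Type*} [Field F] [Fintype F] [DecidableEq F]

local notation "G2" => GL (Fin 2) F
local notation "M2" => Matrix (Fin 2) (Fin 2) F

/-- A conjugate `x⁻¹ g x` that is upper triangular gives an eigenvector of `g`. -/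
theorem eigvec_of_conj_upper (g x : G2) (h : ((x⁻¹ * g * x : G2) : M2) 1 0 = 0) :
    ∃ (c : F) (v : Fin 2 → F), v ≠ 0 ∧ (g : M2).mulVec v = c • v := by
  set y : G2 := x⁻¹ * g * x with hy
  have hxy : (x : M2) * (y : M2) = (g : M2) * (x : M2) := by
    have : x * y = g * x := by rw [hy]; group
    have := congrArg (fun z : G2 => (z : M2)) this
    simpa using this
  refine ⟨(y : M2) 0 0, (x : M2).mulVec ![1, 0], ?_, ?_⟩
  · intro h0
    have h1 : ((x⁻¹ : G2) : M2).mulVec ((x : M2).mulVec ![1, 0]) = ![1, 0] := by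
      rw [Matrix.mulVec_mulVec]
      have : ((x⁻¹ : G2) : M2) * (x : M2) = 1 := by
        have := congrArg (fun z : G2 => (z : M2)) (inv_mul_cancel x)
        simpa using this
      rw [this, Matrix.one_mulVec]
    rw [h0, Matrix.mulVec_zero] at h1
    have := congrFun h1 0
    simp at this
  · rw [Matrix.mulVec_mulVec, ← hxy, ← Matrix.mulVec_mulVec]
    have : (y : M2).mulVec ![1, 0] = (y : M2) 0 0 • ![1, 0] := by
      funext i
      fin_cases i
      · simp [Matrix.mulVec, dotProduct, Fin.sum_univ_two]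
      · simp [Matrix.mulVec, dotProduct, Fin.sum_univ_two, h]
    rw [this, Matrix.mulVec_smul]

theorem glR_noEig (α β : MulChar F ℂ) (g : G2)
    (hg : ∀ (c : F) (v : Fin 2 → F), v ≠ 0 → (g : M2).mulVec v ≠ c • v) : glR α β g = 0 := by
  rw [glR, indFun_eq]
  rw [Finset.sum_eq_zero, mul_zero]
  intro x _
  rw [if_neg]
  intro h
  obtain ⟨c, v, hv, he⟩ := eigvec_of_conj_upper g x h
  exact hg c v hv he

theorem glR_diag (α β : MulChar F ℂ) (g : G2) (h01 : (g : M2) 0 1 = 0) (h10 : (g : M2) 1 0 = 0)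
    (hne : (g : M2) 0 0 ≠ (g : M2) 1 1) :
    glR α β g = α ((g : M2) 0 0) * β ((g : M2) 1 1) + α ((g : M2) 1 1) * β ((g : M2) 0 0) :=
  value_diag α β g h01 h10 hne

theorem mulChar_norm (α : MulChar F ℂ) (a : F) (ha : a ≠ 0) : ‖α a‖ = 1 := by
  have hfin : IsOfFinOrder (Units.mk0 a ha) := isOfFinOrder_of_finite _
  obtain ⟨n, hn, hpow⟩ := hfin.exists_pow_eq_one
  have h1 : (α a) ^ n = 1 := by
    rw [← map_pow]
    have : a ^ n = 1 := by
      have := congrArg (fun u : Fˣ => (u : F)) hpow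
      simpa using this
    rw [this, map_one]
  exact Complex.norm_eq_one_of_pow_eq_one h1 hn.ne'

theorem mulChar_conj (α : MulChar F ℂ) (a : F) (ha : a ≠ 0) : conj (α a) = α a⁻¹ := by
  have hn := mulChar_norm α a ha
  have h1 : α a * α a⁻¹ = 1 := by
    rw [← map_mul, mul_inv_cancel₀ ha, map_one]
  have h2 : α a * conj (α a) = 1 := by
    rw [Complex.mul_conj, Complex.normSq_eq_norm_sq, hn]
    norm_num
  have hne : α a ≠ 0 := by
    intro h0
    rw [h0, zero_mul] at h1
    exact zero_ne_one h1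
  exact mul_left_cancel₀ hne (h2.trans h1.symm)

theorem sum_mulChar_eq_zero [Fintype (MulChar F ℂ)] (t : F) (ht : t ≠ 1) :
    ∑ α : MulChar F ℂ, α t = 0 := by
  obtain ⟨χ, hχ⟩ := MulChar.exists_apply_ne_one_of_hasEnoughRootsOfUnity F ℂ ht
  refine eq_zero_of_mul_eq_self_left hχ ?_
  simp only [Finset.mul_sum, ← MulChar.mul_apply]
  exact Fintype.sum_bijective _ (Group.mulLeft_bijective χ) _ _ fun χ' ↦ rfl

end GL2Char2

end Cfsg.Agent.Lib.helper14
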