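import Cfsg.Agent.Lib.helper14.GL2Char2

set_option autoImplicit false
set_option linter.unusedSectionVars false
open Cfsg

namespace Cfsg.Agent.Lib.helper14

open Cfsg.Agent.Lib.helper7 Cfsg.Agent.Lib.helper2 Cfsg.Agent.Lib.Helper25 Cfsg.Agent.S2304

open scoped ComplexConjugate

section GL2Char3

variable {F : Type*} [Field F] [Fintype F] [DecidableEq F]
variable [Fintype (Cfsg.IrrCharacter (GL (Fin 2) F))] [Fintype (MulChar F ℂ)]

local notation "G2" => GL (Fin 2) F
local notation "M2" => Matrix (Fin 2) (Fin 2) F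
local notation "Irr2" => Cfsg.IrrCharacter (GL (Fin 2) F)

open Classical

/-- the pair function whose off-diagonal sum computes the principal series contribution -/
noncomputable def glH (t : F) (p : MulChar F ℂ × MulChar F ℂ) : ℂ :=
  2 + p.1 t * p.2 t⁻¹ + p.1 t⁻¹ * p.2 t

theorem card_mulChar_cast : (Fintype.card (MulChar F ℂ) : ℂ) = (Fintype.card F : ℂ) - 1 := by
  rw [card_mulChar]
  have : 1 ≤ Fintype.card F := Fintype.card_pos
  rw [Nat.cast_sub this]
  simp

theorem sum_glH_off (t : F) (ht0 : t ≠ 0) (ht : t ≠ 1) :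
    ∑ p : GlOff F, glH t p.1 =
      ((Fintype.card F : ℂ) - 1) * (2 * ((Fintype.card F : ℂ) - 1) - 4) := by
  have hS := sum_mulChar_eq_zero (F := F) t ht
  have ht' : t⁻¹ ≠ 1 := by
    intro h
    apply ht
    rw [← inv_inv t, h, inv_one]
  have hS' := sum_mulChar_eq_zero (F := F) t⁻¹ ht'
  have h1 : ∑ p : GlOff F, glH t p.1 =
      ∑ p ∈ Finset.univ.filter (fun p : MulChar F ℂ × MulChar F ℂ => p.1 ≠ p.2), glH t p := by
    rw [Finset.sum_subtype (Finset.univ.filter (fun p : MulChar F ℂ × MulChar F ℂ => p.1 ≠ p.2))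
      (p := fun p : MulChar F ℂ × MulChar F ℂ => p.1 ≠ p.2) (by simp)]
  rw [h1, Finset.sum_filter, Fintype.sum_prod_type]
  have hin : ∀ α : MulChar F ℂ,
      ∑ β : MulChar F ℂ, (if (α, β).1 ≠ (α, β).2 then glH t (α, β) else 0) =
        2 * ((Fintype.card F : ℂ) - 1) - 4 := by
    intro α
    have e1 : ∀ β : MulChar F ℂ, (if (α, β).1 ≠ (α, β).2 then glH t (α, β) else 0) =
        glH t (α, β) - (if α = β then glH t (α, β) else 0) := by
      intro β
      by_cases h : α = β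
      · simp [h]
      · simp [h]
    rw [Finset.sum_congr rfl (fun β _ => e1 β), Finset.sum_sub_distrib, Finset.sum_ite_eq]
    simp only [Finset.mem_univ, if_true]
    have e2 : ∑ β : MulChar F ℂ, glH t (α, β) = 2 * ((Fintype.card F : ℂ) - 1) := by
      simp only [glH]
      rw [Finset.sum_add_distrib, Finset.sum_add_distrib, ← Finset.mul_sum, ← Finset.mul_sum,
        hS, hS', Finset.sum_const, Finset.card_univ, nsmul_eq_mul, card_mulChar_cast]
      ring
    have e3 : glH t (α, α) = 4 := by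
      simp only [glH]
      have : α t * α t⁻¹ = 1 := by
        rw [← map_mul, mul_inv_cancel₀ ht0, map_one]
      rw [mul_comm (α t⁻¹), this]
      norm_num
    rw [e2, e3]
  rw [Finset.sum_congr rfl (fun α _ => hin α), Finset.sum_const, Finset.card_univ, nsmul_eq_mul,
    card_mulChar_cast]

theorem normSq_glR_diag (α β : MulChar F ℂ) (g : G2) (h01 : (g : M2) 0 1 = 0)
    (h10 : (g : M2) 1 0 = 0) (hne : (g : M2) 0 0 ≠ (g : M2) 1 1) :
    glR α β g * conj (glR α β g) = glH ((g : M2) 0 0 * ((g : M2) 1 1)⁻¹) (α, β) := by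
  have hdet := Matrix.GeneralLinearGroup.det_ne_zero g
  have hdet' : (g : M2) 0 0 * (g : M2) 1 1 ≠ 0 := by
    have : (g : M2).det ≠ 0 := hdet
    rwa [Matrix.det_fin_two, h01, h10, mul_zero, sub_zero] at this
  have ha : (g : M2) 0 0 ≠ 0 := left_ne_zero_of_mul hdet'
  have hd : (g : M2) 1 1 ≠ 0 := right_ne_zero_of_mul hdet'
  rw [glR_diag α β g h01 h10 hne]
  set a := (g : M2) 0 0
  set d := (g : M2) 1 1
  simp only [glH, map_add, map_mul, mulChar_conj α a ha, mulChar_conj α d hd,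
    mulChar_conj β a ha, mulChar_conj β d hd, mul_inv, inv_inv]
  have ea : α a * α a⁻¹ = 1 := by rw [← map_mul, mul_inv_cancel₀ ha, map_one]
  have ed : α d * α d⁻¹ = 1 := by rw [← map_mul, mul_inv_cancel₀ hd, map_one]
  have fa : β a * β a⁻¹ = 1 := by rw [← map_mul, mul_inv_cancel₀ ha, map_one]
  have fd : β d * β d⁻¹ = 1 := by rw [← map_mul, mul_inv_cancel₀ hd, map_one]
  linear_combination (β d * β d⁻¹) * ea + fd + (β a * β a⁻¹) * ed + fa

theorem sum_glPsi_diag (g : G2) (h01 : (g : M2) 0 1 = 0)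
    (h10 : (g : M2) 1 0 = 0) (hne : (g : M2) 0 0 ≠ (g : M2) 1 1) :
    ∑ χ ∈ glPsi (F := F), (χ : G2 → ℂ) g * conj ((χ : G2 → ℂ) g) = 0 := by
  have hdet := Matrix.GeneralLinearGroup.det_ne_zero g
  have hdet0 : (g : M2).det ≠ 0 := hdet
  have hdet' : (g : M2) 0 0 * (g : M2) 1 1 ≠ 0 := by
    have : (g : M2).det ≠ 0 := hdet
    rwa [Matrix.det_fin_two, h01, h10, mul_zero, sub_zero] at this
  have ha : (g : M2) 0 0 ≠ 0 := left_ne_zero_of_mul hdet'
  have hd : (g : M2) 1 1 ≠ 0 := right_ne_zero_of_mul hdet'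
  have ht0 : (g : M2) 0 0 * ((g : M2) 1 1)⁻¹ ≠ 0 := mul_ne_zero ha (inv_ne_zero hd)
  have ht : (g : M2) 0 0 * ((g : M2) 1 1)⁻¹ ≠ 1 := by
    intro h
    apply hne
    field_simp at h
    exact h
  have hcol := irr_column_orthogonality (G := G2) g g
  rw [if_pos (IsConj.refl g), (Cfsg.Agent.S2303.result g).1 h01 h10 hne] at hcol
  have hdec := sum_irr_decomp (F := F) (fun χ => (χ : G2 → ℂ) g * conj ((χ : G2 → ℂ) g))
  have h3 := sum_glK3 (F := F) (fun χ => (χ : G2 → ℂ) g * conj ((χ : G2 → ℂ) g))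
  rw [hcol] at hdec
  have n1 : ∀ z : ℂ, ‖z‖ = 1 → z * conj z = 1 := by
    intro z hz
    rw [Complex.mul_conj, Complex.normSq_eq_norm_sq, hz]
    norm_num
  have hlam : ∀ α : MulChar F ℂ,
      (glLam α : G2 → ℂ) g * conj ((glLam α : G2 → ℂ) g) = 1 := by
    intro α
    apply n1
    rw [glLam_apply]
    exact mulChar_norm α _ hdet0
  have hst : ∀ α : MulChar F ℂ,
      (glSt α : G2 → ℂ) g * conj ((glSt α : G2 → ℂ) g) = 1 := by
    intro α
    apply n1
    rw [glSt_apply, glR_diag α α g h01 h10 hne, Matrix.det_fin_two, h01, h10, mul_zero,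
      sub_zero, map_mul]
    have h2 : α ((g : M2) 0 0) * α ((g : M2) 1 1) + α ((g : M2) 1 1) * α ((g : M2) 0 0) -
        α ((g : M2) 0 0) * α ((g : M2) 1 1) = α ((g : M2) 0 0 * (g : M2) 1 1) := by
      rw [map_mul]; ring
    rw [h2]
    exact mulChar_norm α _ hdet'
  have hrp : ∀ p : GlOff F, (glRp p : G2 → ℂ) g * conj ((glRp p : G2 → ℂ) g) =
      glH ((g : M2) 0 0 * ((g : M2) 1 1)⁻¹) p.1 := by
    intro p
    exact normSq_glR_diag p.1.1 p.1.2 g h01 h10 hne
  simp only [hlam, hst] at hdec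
  rw [Finset.sum_congr rfl (fun p _ => hrp p), sum_glH_off _ ht0 ht] at h3
  rw [Finset.sum_const, Finset.card_univ, nsmul_eq_mul, card_mulChar_cast] at hdec
  have hc : (((Fintype.card F - 1) ^ 2 : ℕ) : ℂ) = ((Fintype.card F : ℂ) - 1) ^ 2 := by
    have : 1 ≤ Fintype.card F := Fintype.card_pos
    rw [Nat.cast_pow, Nat.cast_sub this]
    simp
  rw [hc] at hdec
  linear_combination (-1 : ℂ) * hdec - (1 / 2 : ℂ) * h3

theorem glPsi_diag_zero (χ : Irr2) (hχ : χ ∈ glPsi (F := F)) (g : G2) (h01 : (g : M2) 0 1 = 0)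
    (h10 : (g : M2) 1 0 = 0) (hne : (g : M2) 0 0 ≠ (g : M2) 1 1) : (χ : G2 → ℂ) g = 0 := by
  have h := sum_glPsi_diag (F := F) g h01 h10 hne
  have h' : ∑ χ ∈ glPsi (F := F), ((Complex.normSq ((χ : G2 → ℂ) g) : ℝ) : ℂ) = 0 := by
    rw [← h]
    apply Finset.sum_congr rfl
    intro χ _
    rw [Complex.mul_conj]
  rw [← Complex.ofReal_sum, Complex.ofReal_eq_zero] at h'
  have := (Finset.sum_eq_zero_iff_of_nonneg
    (fun (χ : Irr2) _ => Complex.normSq_nonneg ((χ : G2 → ℂ) g))).mp h' χ hχ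
  exact Complex.normSq_eq_zero.mp this

end GL2Char3

end Cfsg.Agent.Lib.helper14
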