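import Mathlib
import Cfsg.Prelude.Def_ChevStructure
import Cfsg.Agent.Lib.helper14.INV.F4Defs
import Cfsg.Agent.Lib.helper14.INVNCa
import Cfsg.Agent.Lib.helper14.F4Cc
import Cfsg.Agent.Lib.helper14.ChevFiltAll

/-!
# Project INV (S2174), piece NONCONJ: the four representatives are pairwise non-conjugate
-/

set_option autoImplicit false

namespace Cfsg.Agent.Lib.helper14.INV

open Cfsg.Lie Cfsg.Lie.ChevalleyDatum Cfsg.Agent.Lib.helper8 Cfsg.Agent.Lib.helper14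

universe u

variable {F : Type u} [Field F]

theorem nc_memL : chevF4 ∈ [chevG2, chevB2, chevD4, chevF4, chevE6, chevE7, chevE8] := by simp

theorem nc_pos (r : ℕ) (h1 : 24 ≤ r) (h2 : r < 48) : chevF4.IsPosRoot r :=
  (f4c_pos_iff r h2).mpr h1

/-- witness words cutting out `{44}` and `{47}` -/
def ncWs44 : List (List ℕ) := [[], [2, 1, 2, 3, 2, 1, 2, 0, 1, 2, 3, 2, 0, 1, 2, 1], [1, 2, 3, 1, 2, 1, 0]]
def ncWs47 : List (List ℕ) := [[], [2, 1, 2, 0, 1, 2, 3, 2, 1, 2, 0, 1, 2, 0, 1, 0], [2, 1, 2, 0, 1, 2, 3]]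

theorem nc_ws44_rank : ∀ v ∈ ncWs44, ∀ i ∈ v, i < chevF4.rank := by decide +kernel
theorem nc_ws44_pos : ∀ v ∈ ncWs44, ∀ r ∈ [44], chevF4.IsPosRoot (h8sW chevF4 v r) := by
  decide +kernel
theorem nc_ws44_cl : ∀ s < chevF4.nroots,
    (∀ v ∈ ncWs44, chevF4.IsPosRoot (h8sW chevF4 v s)) → s ∈ [44] := by decide +kernel
theorem nc_ws47_rank : ∀ v ∈ ncWs47, ∀ i ∈ v, i < chevF4.rank := by decide +kernel
theorem nc_ws47_pos : ∀ v ∈ ncWs47, ∀ r ∈ [47], chevF4.IsPosRoot (h8sW chevF4 v r) := by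
  decide +kernel
theorem nc_ws47_cl : ∀ s < chevF4.nroots,
    (∀ v ∈ ncWs47, chevF4.IsPosRoot (h8sW chevF4 v s)) → s ∈ [47] := by decide +kernel

theorem nc_fil : ∀ L ∈ [[44], [47]],
    (h8Lk chevF4 0).filter (fun r => decide (r ∈ L)) = L := by decide +kernel

theorem nc_comm_44 : f4cCommChk chevF4 [44] 2 = true := by decide +kernel
theorem nc_stab_44 : f4cStabChk chevF4 [44] 2 = true := by decide +kernel
theorem nc_comm_47 : f4cCommChk chevF4 [47] 2 = true := by decide +kernel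
theorem nc_stab_47 : f4cStabChk chevF4 [47] 2 = true := by decide +kernel

/-- the `W`-orbit of the pair `(44, 47)` -/
def ncT1 : List (ℕ × ℕ) := [(3, 0), (3, 1), (3, 2), (3, 4), (3, 5), (3, 6), (7, 0), (7, 1), (7, 2), (7, 15), (7, 16), (7, 17), (8, 0), (8, 1), (8, 4), (8, 15), (8, 21), (8, 22), (9, 0), (9, 2), (9, 5), (9, 16), (9, 23), (9, 25), (10, 1), (10, 2), (10, 6), (10, 17), (10, 24), (10, 26), (11, 0), (11, 4), (11, 5), (11, 21), (11, 23), (11, 30), (12, 1), (12, 4), (12, 6), (12, 22), (12, 24), (12, 31), (13, 2), (13, 5), (13, 6), (13, 25), (13, 26), (13, 32), (14, 4), (14, 5), (14, 6), (14, 30), (14, 31), (14, 32), (18, 0), (18, 15), (18, 16), (18, 21), (18, 23), (18, 41), (19, 1), (19, 15), (19, 17), (19, 22), (19, 24), (19, 42), (20, 2), (20, 16), (20, 17), (20, 25), (20, 26), (20, 43), (27, 4), (27, 21), (27, 22), (27, 30), (27, 31), (27, 45), (28, 5), (28, 23), (28, 25), (28, 30), (28, 32), (28,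 46), (29, 6), (29, 24), (29, 26), (29, 31), (29, 32), (29, 47), (33, 15), (33, 16), (33, 17), (33, 41), (33, 42), (33, 43), (34, 15), (34, 21), (34, 22), (34, 41), (34, 42), (34, 45), (35, 16), (35, 23), (35, 25), (35, 41), (35, 43), (35, 46), (36, 17), (36, 24), (36, 26), (36, 42), (36, 43), (36, 47), (37, 21), (37, 23), (37, 30), (37, 41), (37, 45), (37, 46), (38, 22), (38, 24), (38, 31), (38, 42), (38, 45), (38, 47), (39, 25), (39, 26), (39, 32), (39, 43), (39, 46), (39, 47), (40, 30), (40, 31), (40, 32), (40, 45), (40, 46), (40, 47), (44, 41), (44, 42), (44, 43), (44, 45), (44, 46), (44, 47)]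

theorem nc_T1_closed : (ncT1.all fun t => (List.range 4).all fun i =>
    ncT1.contains (chevF4.reflectRoot i t.1, chevF4.reflectRoot i t.2)) = true := by
  decide +kernel

theorem nc_T1_base : ncT1.contains (44, 47) = true := by decide +kernel

theorem nc_T1_no : ∀ p ∈ ncT1, p.2 ≠ 44 ∧ p ≠ (39, 45) ∧ p ≠ (45, 39) := by decide +kernel

theorem nc_orbit1 (w : List ℕ) (hw : ∀ i ∈ w, i < chevF4.rank) :
    ncT1.contains (h8sW chevF4 w 44, h8sW chevF4 w 47) = true := by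
  induction w with
  | nil => exact nc_T1_base
  | cons i w ih =>
    have hi : i < 4 := by
      have := hw i List.mem_cons_self
      rwa [f4c_rank] at this
    have h1 := ih (fun j hj => hw j (List.mem_cons_of_mem _ hj))
    have h2 := nc_T1_closed
    rw [List.all_eq_true] at h2
    have h3 := h2 _ (List.contains_iff_mem.mp h1)
    rw [List.all_eq_true] at h3
    exact h3 i (List.mem_range.mpr hi)

section forms

variable (hB : H8Base.{u} chevF4)

local notation "𝔵" => h8xU chevF4 hB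

theorem w1_47 : (w1 chevF4 hB [47] : GL chevF4.Idx F) = 𝔵 47 1 := by
  simp [w1, h8wordU]

theorem w1_44 : (w1 chevF4 hB [44] : GL chevF4.Idx F) = 𝔵 44 1 := by
  simp [w1, h8wordU]

theorem w1_4744 : (w1 chevF4 hB [47, 44] : GL chevF4.Idx F) = 𝔵 47 1 * 𝔵 44 1 := by
  simp [w1, h8wordU]

theorem w1_3945 : (w1 chevF4 hB [39, 45] : GL chevF4.Idx F) = 𝔵 39 1 * 𝔵 45 1 := by
  simp [w1, h8wordU]

/-- `B`-conjugates of `x_47(1)` -/
theorem nc_form47 (hC : H8CommAll.{u} chevF4) (hO : H8Ord chevF4) (hO2 : H8Ord2 chevF4)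
    (hm : (((2 : ℕ) : ℤ) : F) = 0) (b : GL chevF4.Idx F) (hb : b ∈ chevF4.borelSubgroup F) :
    ∃ c : ℕ → F, (∀ r ∈ [47], c r ≠ 0) ∧ b * 𝔵 47 1 * b⁻¹ = f4cLW chevF4 hB [47] c := by
  have hM := cfMax_all chevF4 nc_memL
  obtain ⟨c, hc, e⟩ := f4c_B_conj_lead chevF4 hB hC hO hO2 hM 47 []
    (nc_pos 47 (by omega) (by omega)) (by simp) (by decide) 2 hm nc_comm_47 nc_stab_47 b hb
  refine ⟨c, ?_, e⟩
  intro r hr
  simp only [List.mem_cons, List.not_mem_nil, or_false] at hr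
  subst hr
  exact hc

/-- `B`-conjugates of `x_44(1)` -/
theorem nc_form44 (hC : H8CommAll.{u} chevF4) (hO : H8Ord chevF4) (hO2 : H8Ord2 chevF4)
    (hm : (((2 : ℕ) : ℤ) : F) = 0) (b : GL chevF4.Idx F) (hb : b ∈ chevF4.borelSubgroup F) :
    ∃ c : ℕ → F, (∀ r ∈ [44], c r ≠ 0) ∧ b * 𝔵 44 1 * b⁻¹ = f4cLW chevF4 hB [44] c := by
  have hM := cfMax_all chevF4 nc_memL
  obtain ⟨c, hc, e⟩ := f4c_B_conj_lead chevF4 hB hC hO hO2 hM 44 []
    (nc_pos 44 (by omega) (by omega)) (by simp) (by decide) 2 hm nc_comm_44 nc_stab_44 b hb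
  refine ⟨c, ?_, e⟩
  intro r hr
  simp only [List.mem_cons, List.not_mem_nil, or_false] at hr
  subst hr
  exact hc

/-- `B`-conjugates of `x_47(1) x_44(1)` -/
theorem nc_form1 (hC : H8CommAll.{u} chevF4) (hO : H8Ord chevF4) (hO2 : H8Ord2 chevF4)
    (hm : (((2 : ℕ) : ℤ) : F) = 0) (b : GL chevF4.Idx F) (hb : b ∈ chevF4.borelSubgroup F) :
    ∃ c : ℕ → F, (∀ r ∈ [44, 47], c r ≠ 0) ∧
      b * (𝔵 47 1 * 𝔵 44 1) * b⁻¹ = f4cLW chevF4 hB f4cR1 c := by
  obtain ⟨c1, hc1, e1⟩ := nc_form44 hB hC hO hO2 hm b hb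
  obtain ⟨c2, hc2, e2⟩ := nc_form47 hB hC hO hO2 hm b hb
  refine ⟨fun r => if r = 44 then c1 44 else c2 47, ?_, ?_⟩
  · intro r hr
    simp only [List.mem_cons, List.not_mem_nil, or_false] at hr
    rcases hr with rfl | rfl
    · show (if 44 = 44 then c1 44 else c2 47) ≠ 0
      rw [if_pos rfl]; exact hc1 44 (by simp)
    · show (if 47 = 44 then c1 44 else c2 47) ≠ 0
      rw [if_neg (by omega)]; exact hc2 47 (by simp)
  · have e0 : b * (𝔵 47 1 * 𝔵 44 1) * b⁻¹ = (b * 𝔵 47 1 * b⁻¹) * (b * 𝔵 44 1 * b⁻¹) := by group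
    rw [e0, e1, e2]
    simp only [f4cR1, f4cLW_cons, f4cLW_nil, mul_one]
    rw [if_pos trivial, if_neg (show ¬ ((47 : ℕ) = 44) by omega)]
    exact f4c_comm_of_chk chevF4 hB hC f4cR1 2 hm f4c_comm_R1 44 47 (by decide) (by decide) _ _

/-- `B`-conjugates of `x_39(1) x_45(1)` -/
theorem nc_form2 (hC : H8CommAll.{u} chevF4) (hO : H8Ord chevF4) (hO2 : H8Ord2 chevF4)
    (hm : (((2 : ℕ) : ℤ) : F) = 0) (b : GL chevF4.Idx F) (hb : b ∈ chevF4.borelSubgroup F) :
    ∃ c : ℕ → F, (∀ r ∈ [39, 45], c r ≠ 0) ∧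
      b * (𝔵 39 1 * 𝔵 45 1) * b⁻¹ = f4cLW chevF4 hB f4cR c := by
  have hM := cfMax_all chevF4 nc_memL
  obtain ⟨c1, hc1, e1⟩ := f4c_B_conj_lead chevF4 hB hC hO hO2 hM 39 [40, 44]
    (nc_pos 39 (by omega) (by omega))
    (by
      intro s hs
      simp only [List.mem_cons, List.not_mem_nil, or_false] at hs
      rcases hs with rfl | rfl
      · exact ⟨nc_pos 40 (by omega) (by omega), by omega⟩
      · exact ⟨nc_pos 44 (by omega) (by omega), by omega⟩)
    (by decide) 2 hm f4c_comm_Rs f4c_stab_Rs b hb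
  obtain ⟨c2, hc2, e2⟩ := f4c_B_conj_lead chevF4 hB hC hO hO2 hM 45 [46, 47]
    (nc_pos 45 (by omega) (by omega))
    (by
      intro s hs
      simp only [List.mem_cons, List.not_mem_nil, or_false] at hs
      rcases hs with rfl | rfl
      · exact ⟨nc_pos 46 (by omega) (by omega), by omega⟩
      · exact ⟨nc_pos 47 (by omega) (by omega), by omega⟩)
    (by decide) 2 hm f4c_comm_Rl f4c_stab_Rl b hb
  refine ⟨fun r => if r ∈ f4cRs then c1 r else c2 r, ?_, ?_⟩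
  · intro r hr
    simp only [List.mem_cons, List.not_mem_nil, or_false] at hr
    rcases hr with rfl | rfl
    · show (if 39 ∈ f4cRs then c1 39 else c2 39) ≠ 0
      rw [if_pos (by decide)]; exact hc1
    · show (if 45 ∈ f4cRs then c1 45 else c2 45) ≠ 0
      rw [if_neg (by decide)]; exact hc2
  · have e0 : b * (𝔵 39 1 * 𝔵 45 1) * b⁻¹ = (b * 𝔵 39 1 * b⁻¹) * (b * 𝔵 45 1 * b⁻¹) := by group
    have hsplit : f4cR = f4cRs ++ f4cRl := rfl
    rw [e0, e1, e2, hsplit, f4cLW_append]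
    rfl

end forms

end Cfsg.Agent.Lib.helper14.INV
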