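import Mathlib
import Cfsg.Prelude.Def_ChevStructure
import Cfsg.Agent.Lib.helper14.INVNC
import Cfsg.Agent.Lib.helper8.ChevCommAll
import Cfsg.Agent.Lib.helper8.ChevBNAll
import Cfsg.Agent.Lib.helper8.ChevBNAll2

/-!
# Project INV (S2174), piece NONCONJ: the four representatives are pairwise non-conjugate
-/

set_option autoImplicit false

namespace Cfsg.Agent.Lib.helper14.INV

open Cfsg.Lie Cfsg.Lie.ChevalleyDatum Cfsg.Agent.Lib.helper8 Cfsg.Agent.Lib.helper14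

universe u

variable {F : Type u} [Field F]

section pairs

variable (hB : H8Base.{u} chevF4) (hA : H8ReflAll chevF4)
    (hC : H8CommAll.{u} chevF4) (hBN : H8BN chevF4) (hW : H8BN2 chevF4) (hO : H8Ord chevF4)
    (hO2 : H8Ord2 chevF4) (hm : (((2 : ℕ) : ℤ) : F) = 0)

local notation "𝔵" => h8xU chevF4 hB

include hA hC hBN hW hO hO2 hm

theorem nc_47_44 (g : GL chevF4.Idx F) (hg : g ∈ chevF4.group F)
    (h : g * 𝔵 47 1 * g⁻¹ = 𝔵 44 1) : False := by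
  obtain ⟨w, w₂, hw, hw₂, h1, h2, h3, h4⟩ := nc_core chevF4 hB hA hC hBN hW hO hO2
    [47] [47] [44] [44] (nc_fil [47] (by simp)) (nc_fil [44] (by simp)) ncWs47 ncWs44
    nc_ws47_rank nc_ws44_rank nc_ws47_pos nc_ws47_cl nc_ws44_pos nc_ws44_cl
    (𝔵 47 1) (𝔵 44 1) (nc_form47 hB hC hO hO2 hm) (nc_form44 hB hC hO hO2 hm)
    (by
      intro r hr
      simp only [List.mem_cons, List.not_mem_nil, or_false] at hr
      subst hr
      exact ⟨by simp, nc_pos 47 (by omega) (by omega)⟩)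
    (by
      intro r hr
      simp only [List.mem_cons, List.not_mem_nil, or_false] at hr
      subst hr
      exact ⟨by simp, nc_pos 44 (by omega) (by omega)⟩)
    g hg h
  have e1 := h1 47 (by simp)
  simp only [List.mem_cons, List.not_mem_nil, or_false] at e1
  have e2 := nc_T1_no _ (List.contains_iff_mem.mp (nc_orbit1 w hw))
  exact e2.1 e1


omit hA hC hBN hW hO hO2 hm in
theorem nc_inj_contra (w w₂ : List ℕ) (a b c : ℕ) (ha : a < chevF4.nroots)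
    (hb : b < chevF4.nroots) (hab : a ≠ b) (h2a : h8sW chevF4 w₂ a = c)
    (h2b : h8sW chevF4 w₂ b = c)
    (h4 : ∀ r < chevF4.nroots, h8sW chevF4 w (h8sW chevF4 w₂ r) = r) : False :=
  hab (by rw [← h4 a ha, ← h4 b hb, h2a, h2b])

omit hA hC hBN hW hO hO2 hm in
theorem nc_L0_single (s : ℕ) (h1 : 24 ≤ s) (h2 : s < 48) :
    ∀ r ∈ [s], r ∈ [s] ∧ chevF4.IsPosRoot r := by
  intro r hr
  simp only [List.mem_cons, List.not_mem_nil, or_false] at hr
  subst hr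
  exact ⟨by simp, nc_pos r h1 h2⟩

omit hA hC hBN hW hO hO2 hm in
theorem nc_L0_R1 : ∀ r ∈ [44, 47], r ∈ f4cR1 ∧ chevF4.IsPosRoot r := by
  intro r hr
  simp only [List.mem_cons, List.not_mem_nil, or_false] at hr
  rcases hr with rfl | rfl
  · exact ⟨by decide, nc_pos 44 (by omega) (by omega)⟩
  · exact ⟨by decide, nc_pos 47 (by omega) (by omega)⟩

omit hA hC hBN hW hO hO2 hm in
theorem nc_L0_R : ∀ r ∈ [39, 45], r ∈ f4cR ∧ chevF4.IsPosRoot r := by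
  intro r hr
  simp only [List.mem_cons, List.not_mem_nil, or_false] at hr
  rcases hr with rfl | rfl
  · exact ⟨by decide, nc_pos 39 (by omega) (by omega)⟩
  · exact ⟨by decide, nc_pos 45 (by omega) (by omega)⟩

theorem nc_47_tu (g : GL chevF4.Idx F) (hg : g ∈ chevF4.group F)
    (h : g * 𝔵 47 1 * g⁻¹ = 𝔵 47 1 * 𝔵 44 1) : False := by
  obtain ⟨w, w₂, hw, hw₂, h1, h2, h3, h4⟩ := nc_core chevF4 hB hA hC hBN hW hO hO2
    [47] [47] f4cR1 [44, 47] (nc_fil [47] (by simp)) (f4c_fil f4cR1 (by simp)) ncWs47 f4cWs1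
    nc_ws47_rank f4c_ws1_rank nc_ws47_pos nc_ws47_cl f4c_ws1_pos f4c_ws1_cl
    (𝔵 47 1) (𝔵 47 1 * 𝔵 44 1) (nc_form47 hB hC hO hO2 hm) (nc_form1 hB hC hO hO2 hm)
    (nc_L0_single 47 (by omega) (by omega)) nc_L0_R1 g hg h
  have e1 := h2 44 (by simp)
  have e2 := h2 47 (by simp)
  simp only [List.mem_cons, List.not_mem_nil, or_false] at e1 e2
  exact nc_inj_contra w w₂ 44 47 47 (by rw [f4c_nroots]; omega) (by rw [f4c_nroots]; omega)
    (by omega) e1 e2 h4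

theorem nc_44_tu (g : GL chevF4.Idx F) (hg : g ∈ chevF4.group F)
    (h : g * 𝔵 44 1 * g⁻¹ = 𝔵 47 1 * 𝔵 44 1) : False := by
  obtain ⟨w, w₂, hw, hw₂, h1, h2, h3, h4⟩ := nc_core chevF4 hB hA hC hBN hW hO hO2
    [44] [44] f4cR1 [44, 47] (nc_fil [44] (by simp)) (f4c_fil f4cR1 (by simp)) ncWs44 f4cWs1
    nc_ws44_rank f4c_ws1_rank nc_ws44_pos nc_ws44_cl f4c_ws1_pos f4c_ws1_cl
    (𝔵 44 1) (𝔵 47 1 * 𝔵 44 1) (nc_form44 hB hC hO hO2 hm) (nc_form1 hB hC hO hO2 hm)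
    (nc_L0_single 44 (by omega) (by omega)) nc_L0_R1 g hg h
  have e1 := h2 44 (by simp)
  have e2 := h2 47 (by simp)
  simp only [List.mem_cons, List.not_mem_nil, or_false] at e1 e2
  exact nc_inj_contra w w₂ 44 47 44 (by rw [f4c_nroots]; omega) (by rw [f4c_nroots]; omega)
    (by omega) e1 e2 h4

theorem nc_47_v (g : GL chevF4.Idx F) (hg : g ∈ chevF4.group F)
    (h : g * 𝔵 47 1 * g⁻¹ = 𝔵 39 1 * 𝔵 45 1) : False := by
  obtain ⟨w, w₂, hw, hw₂, h1, h2, h3, h4⟩ := nc_core chevF4 hB hA hC hBN hW hO hO2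
    [47] [47] f4cR [39, 45] (nc_fil [47] (by simp)) (f4c_fil f4cR (by simp)) ncWs47 f4cWs2
    nc_ws47_rank f4c_ws2_rank nc_ws47_pos nc_ws47_cl f4c_ws2_pos f4c_ws2_cl
    (𝔵 47 1) (𝔵 39 1 * 𝔵 45 1) (nc_form47 hB hC hO hO2 hm) (nc_form2 hB hC hO hO2 hm)
    (nc_L0_single 47 (by omega) (by omega)) nc_L0_R g hg h
  have e1 := h2 39 (by simp)
  have e2 := h2 45 (by simp)
  simp only [List.mem_cons, List.not_mem_nil, or_false] at e1 e2
  exact nc_inj_contra w w₂ 39 45 47 (by rw [f4c_nroots]; omega) (by rw [f4c_nroots]; omega)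
    (by omega) e1 e2 h4

theorem nc_44_v (g : GL chevF4.Idx F) (hg : g ∈ chevF4.group F)
    (h : g * 𝔵 44 1 * g⁻¹ = 𝔵 39 1 * 𝔵 45 1) : False := by
  obtain ⟨w, w₂, hw, hw₂, h1, h2, h3, h4⟩ := nc_core chevF4 hB hA hC hBN hW hO hO2
    [44] [44] f4cR [39, 45] (nc_fil [44] (by simp)) (f4c_fil f4cR (by simp)) ncWs44 f4cWs2
    nc_ws44_rank f4c_ws2_rank nc_ws44_pos nc_ws44_cl f4c_ws2_pos f4c_ws2_cl
    (𝔵 44 1) (𝔵 39 1 * 𝔵 45 1) (nc_form44 hB hC hO hO2 hm) (nc_form2 hB hC hO hO2 hm)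
    (nc_L0_single 44 (by omega) (by omega)) nc_L0_R g hg h
  have e1 := h2 39 (by simp)
  have e2 := h2 45 (by simp)
  simp only [List.mem_cons, List.not_mem_nil, or_false] at e1 e2
  exact nc_inj_contra w w₂ 39 45 44 (by rw [f4c_nroots]; omega) (by rw [f4c_nroots]; omega)
    (by omega) e1 e2 h4

theorem nc_tu_v (g : GL chevF4.Idx F) (hg : g ∈ chevF4.group F)
    (h : g * (𝔵 47 1 * 𝔵 44 1) * g⁻¹ = 𝔵 39 1 * 𝔵 45 1) : False := by
  obtain ⟨w, w₂, hw, hw₂, h1, h2, h3, h4⟩ := nc_core chevF4 hB hA hC hBN hW hO hO2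
    f4cR1 [44, 47] f4cR [39, 45] (f4c_fil f4cR1 (by simp)) (f4c_fil f4cR (by simp)) f4cWs1 f4cWs2
    f4c_ws1_rank f4c_ws2_rank f4c_ws1_pos f4c_ws1_cl f4c_ws2_pos f4c_ws2_cl
    (𝔵 47 1 * 𝔵 44 1) (𝔵 39 1 * 𝔵 45 1) (nc_form1 hB hC hO hO2 hm) (nc_form2 hB hC hO hO2 hm)
    nc_L0_R1 nc_L0_R g hg h
  have e1 := h2 39 (by simp)
  have e2 := h2 45 (by simp)
  have n39 : 39 < chevF4.nroots := by rw [f4c_nroots]; omega
  have n45 : 45 < chevF4.nroots := by rw [f4c_nroots]; omega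
  have e3 := nc_T1_no _ (List.contains_iff_mem.mp (nc_orbit1 w hw))
  simp only [f4cR1, List.mem_cons, List.not_mem_nil, or_false] at e1 e2
  rcases e1 with e1 | e1 <;> rcases e2 with e2 | e2
  · exact nc_inj_contra w w₂ 39 45 44 n39 n45 (by omega) e1 e2 h4
  · have a1 := h4 39 n39
    have a2 := h4 45 n45
    rw [e1] at a1
    rw [e2] at a2
    rw [a1, a2] at e3
    exact e3.2.1 rfl
  · have a1 := h4 39 n39
    have a2 := h4 45 n45
    rw [e1] at a1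
    rw [e2] at a2
    rw [a1, a2] at e3
    exact e3.2.2 rfl
  · exact nc_inj_contra w w₂ 39 45 47 n39 n45 (by omega) e1 e2 h4

end pairs

/-- NONCONJ : the four representatives are pairwise non-conjugate -/
theorem f4_not_conj [CharP F 2] (hB : H8Base.{u} chevF4) (a b : List ℕ) (ha : a ∈ f4Reps)
    (hb : b ∈ f4Reps) (h : Cj chevF4 (w1 chevF4 hB a : GL chevF4.Idx F) (w1 chevF4 hB b)) : a = b := by
  have hm : (((2 : ℕ) : ℤ) : F) = 0 := by
    have : ((2 : ℕ) : F) = 0 := CharP.cast_eq_zero F 2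
    exact_mod_cast this
  have hD := nc_memL
  have hA := h8reflAll chevF4 hD
  have hC := h8commAll.{u} chevF4 hD
  have hBN := h8bn_all chevF4 hD
  have hW := h8bn2_all chevF4 hD
  obtain ⟨hO, hO2⟩ := h8ord_all chevF4 hD
  obtain ⟨g, hg, e⟩ := h
  have hg' : g⁻¹ ∈ chevF4.group F := Subgroup.inv_mem _ hg
  have e' : g⁻¹ * (w1 chevF4 hB b : GL chevF4.Idx F) * g⁻¹⁻¹ = w1 chevF4 hB a := by
    rw [← e]; group
  simp only [f4Reps, List.mem_cons, List.not_mem_nil, or_false] at ha hb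
  rcases ha with rfl | rfl | rfl | rfl <;> rcases hb with rfl | rfl | rfl | rfl
  · rfl
  · rw [w1_47, w1_44] at e
    exact (nc_47_44 hB hA hC hBN hW hO hO2 hm g hg e).elim
  · rw [w1_47, w1_4744] at e
    exact (nc_47_tu hB hA hC hBN hW hO hO2 hm g hg e).elim
  · rw [w1_47, w1_3945] at e
    exact (nc_47_v hB hA hC hBN hW hO hO2 hm g hg e).elim
  · rw [w1_47, w1_44] at e'
    exact (nc_47_44 hB hA hC hBN hW hO hO2 hm g⁻¹ hg' e').elim
  · rfl
  · rw [w1_44, w1_4744] at e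
    exact (nc_44_tu hB hA hC hBN hW hO hO2 hm g hg e).elim
  · rw [w1_44, w1_3945] at e
    exact (nc_44_v hB hA hC hBN hW hO hO2 hm g hg e).elim
  · rw [w1_47, w1_4744] at e'
    exact (nc_47_tu hB hA hC hBN hW hO hO2 hm g⁻¹ hg' e').elim
  · rw [w1_44, w1_4744] at e'
    exact (nc_44_tu hB hA hC hBN hW hO hO2 hm g⁻¹ hg' e').elim
  · rfl
  · rw [w1_4744, w1_3945] at e
    exact (nc_tu_v hB hA hC hBN hW hO hO2 hm g hg e).elim
  · rw [w1_47, w1_3945] at e'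
    exact (nc_47_v hB hA hC hBN hW hO hO2 hm g⁻¹ hg' e').elim
  · rw [w1_44, w1_3945] at e'
    exact (nc_44_v hB hA hC hBN hW hO hO2 hm g⁻¹ hg' e').elim
  · rw [w1_4744, w1_3945] at e'
    exact (nc_tu_v hB hA hC hBN hW hO hO2 hm g⁻¹ hg' e').elim
  · rfl

end Cfsg.Agent.Lib.helper14.INV
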