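import Mathlib
import Cfsg.Prelude.Def_ChevStructure
import Cfsg.Agent.Lib.helper14.INV.F4Defs
import Cfsg.Agent.Lib.helper14.INVGT4
import Cfsg.Agent.Lib.helper14.ChevFiltAll
import Cfsg.Agent.Lib.helper8.ChevBNAll
import Cfsg.Agent.Lib.helper8.ChevBNAll2

/-!
# Project INV (S2174), piece TAB (table-free version): the Weyl group elements of the maximal cells of `F₄`
-/

set_option autoImplicit false

namespace Cfsg.Agent.Lib.helper14.INV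

open Cfsg.Lie Cfsg.Lie.ChevalleyDatum Cfsg.Agent.Lib.helper8 Cfsg.Agent.Lib.helper14

/-- for every subset `J` of the fundamental roots a reduced word of `w₀ w_J` -/
def f4GT : List (List ℕ × List ℕ) := [([], [3, 2, 1, 2, 0, 1, 2, 3, 2, 1, 2, 0, 1, 2, 3, 2, 1, 2, 0, 1, 2, 0, 1, 0]), ([0], [3, 2, 1, 2, 0, 1, 2, 3, 2, 1, 2, 0, 1, 2, 3, 2, 1, 2, 0, 1, 2, 0, 1]), ([1], [3, 2, 1, 2, 0, 1, 2, 3, 2, 1, 2, 0, 1, 2, 3, 2, 1, 2, 0, 1, 2, 1, 0]), ([0, 1], [3, 2, 1, 2, 0, 1, 2, 3, 2, 1, 2, 0, 1, 2, 3, 2, 1, 2, 0, 1, 2]), ([2], [3, 2, 1, 2, 0, 1, 2, 3, 2, 1, 2, 0, 1, 2, 3, 1, 2, 0, 1, 2, 0, 1, 0]), ([0, 2], [3, 2, 1, 2, 0, 1, 2, 3, 2, 1, 2, 0, 1, 2, 3, 1, 2, 0, 1, 2, 0, 1]), ([1, 2], [3, 2, 1, 2, 0, 1, 2, 3, 2, 1, 2, 0, 1, 2, 3, 0, 1, 2, 1, 0]), ([0, 1, 2], [3, 2, 1, 2, 0, 1, 2, 3, 2, 1, 2, 0, 1, 2, 3]), ([3], [2, 1, 2,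 0, 1, 2, 3, 2, 1, 2, 0, 1, 2, 3, 2, 1, 2, 0, 1, 2, 0, 1, 0]), ([0, 3], [2, 1, 2, 0, 1, 2, 3, 2, 1, 2, 0, 1, 2, 3, 2, 1, 2, 0, 1, 2, 0, 1]), ([1, 3], [2, 1, 2, 0, 1, 2, 3, 2, 1, 2, 0, 1, 2, 3, 2, 1, 2, 0, 1, 2, 1, 0]), ([0, 1, 3], [2, 1, 2, 0, 1, 2, 3, 2, 1, 2, 0, 1, 2, 3, 2, 1, 2, 0, 1, 2]), ([2, 3], [1, 2, 0, 1, 2, 3, 2, 1, 2, 0, 1, 2, 3, 1, 2, 0, 1, 2, 0, 1, 0]), ([0, 2, 3], [1, 2, 0, 1, 2, 3, 2, 1, 2, 0, 1, 2, 3, 1, 2, 0, 1, 2, 0, 1]), ([1, 2, 3], [0, 1, 2, 3, 1, 2, 0, 1, 2, 3, 0, 1, 2, 1, 0]), ([0, 1, 2, 3], [])]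

theorem f4_gtChk : gtChk chevF4 = true := by decide +kernel

theorem f4GT_chk : gtTabChk chevF4 f4GT = true := by decide +kernel

theorem f4GT_tabs : ∀ e ∈ f4GT, gtGood chevF4 e = true →
    (List.range 48).map (h8sW chevF4 e.2) ∈ f4Tabs := by decide +kernel

theorem f4_struct_gt (w : List ℕ) (hw : ValidW chevF4 w) (hJ : JProp chevF4 w) :
    (∀ r, chevF4.IsPosRoot r → chevF4.IsPosRoot (h8sW chevF4 w r) →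
      chevF4.InRootSub (FixJ chevF4 w) r) ∧
    (List.range 48).map (h8sW chevF4 w) ∈ f4Tabs := by
  have hD : chevF4 ∈ [chevG2, chevB2, chevD4, chevF4, chevE6, chevE7, chevE8] := by simp
  have hB0 := h8base_all.{0} chevF4 hD
  have hA := h8reflAll chevF4 hD
  have hBN := h8bn_all chevF4 hD
  have hW := h8bn2_all chevF4 hD
  obtain ⟨hO, hO2⟩ := h8ord_all chevF4 hD
  refine ⟨fun r hr hr' => gt_struct chevF4 hB0 hA f4_gtChk w hw hJ r hr hr', ?_⟩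
  obtain ⟨e, he, hgood, _, _, heq⟩ :=
    gt_table_good chevF4 hB0 hA hBN hW hO2 f4_gtChk f4GT f4GT_chk w hw hJ
  have h1 := f4GT_tabs e he hgood
  have h2 : (List.range 48).map (h8sW chevF4 w) = (List.range 48).map (h8sW chevF4 e.2) := by
    apply List.map_congr_left
    intro r hr
    exact heq r (List.mem_range.mp hr)
  rw [h2]
  exact h1

end Cfsg.Agent.Lib.helper14.INV
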