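import Mathlib
import Cfsg.Prelude.Def_ChevStructure
import Cfsg.Agent.Lib.helper14.INV.Defs

/-!
# Project INV, piece LS (backup by helper14): moving a set of positive roots of `Φ_J` by a word of `W_J`
so that one of them becomes a fundamental root
-/

set_option autoImplicit false

namespace Cfsg.Agent.Lib.helper14.INV

open Cfsg.Lie Cfsg.Lie.ChevalleyDatum Cfsg.Agent.Lib.helper8 Cfsg.Agent.Lib.helper14

/-- the height of a root -/
def lsHt (D : ChevalleyDatum) (r : ℕ) : ℤ := ((D.coroot.getD r #[]).toList.sum : ℤ)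

theorem lsHt_nonneg (D : ChevalleyDatum) (r : ℕ) (hr : D.IsPosRoot r) : 0 ≤ lsHt D r :=
  List.sum_nonneg hr.2

theorem lsChk_step (D : ChevalleyDatum) (h : lsChk D = true) (r : ℕ) (hr : D.IsPosRoot r)
    (hns : ∀ i < D.rank, D.simple i ≠ r) :
    ∃ i < D.rank, 0 < (D.coroot.getD r #[]).getD i 0 ∧ D.IsPosRoot (D.reflectRoot i r) ∧
      lsHt D (D.reflectRoot i r) < lsHt D r := by
  unfold lsChk at h
  simp only [Bool.and_eq_true, List.all_eq_true, List.mem_range, Bool.or_eq_true,
    Bool.not_eq_true', decide_eq_false_iff_not, List.any_eq_true, beq_iff_eq,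
    decide_eq_true_eq] at h
  rcases h.1.1 r hr.1 with (h1 | ⟨i, hi, h1⟩) | ⟨i, hi, h1⟩
  · exact absurd hr h1
  · exact absurd h1 (hns i hi)
  · exact ⟨i, hi, h1.1.1, h1.1.2, h1.2⟩

theorem lsChk_coord (D : ChevalleyDatum) (h : lsChk D = true) (r i k : ℕ) (hr : r < D.nroots)
    (hi : i < D.rank) (hk : k < D.rank) (hki : k ≠ i) :
    (D.coroot.getD (D.reflectRoot i r) #[]).getD k 0 = (D.coroot.getD r #[]).getD k 0 := by
  unfold lsChk at h
  simp only [Bool.and_eq_true, List.all_eq_true, List.mem_range, Bool.or_eq_true,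
    beq_iff_eq, decide_eq_true_eq] at h
  rcases h.1.2 r hr i hi k hk with h1 | h1
  · exact absurd h1 hki
  · exact h1

theorem lsChk_simple (D : ChevalleyDatum) (h : lsChk D = true) (j : ℕ) (hj : j < D.rank) :
    0 < (D.coroot.getD (D.simple j) #[]).getD j 0 := by
  unfold lsChk at h
  simp only [Bool.and_eq_true, List.all_eq_true, List.mem_range, decide_eq_true_eq] at h
  exact h.2 j hj

theorem exists_word_to_simple_b (D : ChevalleyDatum) (hA : H8ReflAll D) (hBN : H8BN D)
    (hls : lsChk D = true) (J : Set ℕ) (S : Finset ℕ) (hS : S.Nonempty)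
    (hSJ : ∀ r ∈ S, D.IsPosRoot r ∧ D.InRootSub J r) :
    ∃ v : List ℕ, (∀ i ∈ v, i < D.rank ∧ i ∈ J) ∧ (∀ r ∈ S, D.IsPosRoot (h8sW D v r)) ∧
      ∃ r₀ ∈ S, ∃ j, j < D.rank ∧ j ∈ J ∧ h8sW D v r₀ = D.simple j := by
  classical
  have key : ∀ n : ℕ, ∀ S : Finset ℕ, (∀ r ∈ S, D.IsPosRoot r ∧ D.InRootSub J r) →
      (∃ r₁ ∈ S, lsHt D r₁ ≤ (n : ℤ)) →
      ∃ v : List ℕ, (∀ i ∈ v, i < D.rank ∧ i ∈ J) ∧ (∀ r ∈ S, D.IsPosRoot (h8sW D v r)) ∧
        ∃ r₀ ∈ S, ∃ j, j < D.rank ∧ j ∈ J ∧ h8sW D v r₀ = D.simple j := by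
    intro n
    induction n with
    | zero =>
      intro S hSJ ⟨r₁, hr₁, hht⟩
      by_cases hsim : ∃ r ∈ S, ∃ j < D.rank, D.simple j = r
      · obtain ⟨r, hr, j, hj, hjr⟩ := hsim
        have hjJ : j ∈ J := by
          by_contra hjJ
          have h1 := (hSJ r hr).2.2 j hj hjJ
          have h2 := lsChk_simple D hls j hj
          rw [hjr] at h2
          omega
        exact ⟨[], fun i hi => absurd hi List.not_mem_nil, fun r hr => (hSJ r hr).1,
          r, hr, j, hj, hjJ, hjr.symm⟩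
      · exfalso
        push_neg at hsim
        obtain ⟨i, hi, _, hpos, hlt⟩ := lsChk_step D hls r₁ (hSJ r₁ hr₁).1
          (fun i hi => hsim r₁ hr₁ i hi)
        have := lsHt_nonneg D _ hpos
        have hht' : lsHt D r₁ ≤ 0 := by exact_mod_cast hht
        omega
    | succ n ih =>
      intro S hSJ ⟨r₁, hr₁, hht⟩
      by_cases hsim : ∃ r ∈ S, ∃ j < D.rank, D.simple j = r
      · obtain ⟨r, hr, j, hj, hjr⟩ := hsim
        have hjJ : j ∈ J := by
          by_contra hjJ
          have h1 := (hSJ r hr).2.2 j hj hjJ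
          have h2 := lsChk_simple D hls j hj
          rw [hjr] at h2
          omega
        exact ⟨[], fun i hi => absurd hi List.not_mem_nil, fun r hr => (hSJ r hr).1,
          r, hr, j, hj, hjJ, hjr.symm⟩
      · push_neg at hsim
        obtain ⟨i, hi, hci, hpos, hlt⟩ := lsChk_step D hls r₁ (hSJ r₁ hr₁).1
          (fun i hi => hsim r₁ hr₁ i hi)
        have hiJ : i ∈ J := by
          by_contra hiJ
          have h1 := (hSJ r₁ hr₁).2.2 i hi hiJ
          omega
        set S' := S.image (D.reflectRoot i) with hS'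
        have hS'J : ∀ r ∈ S', D.IsPosRoot r ∧ D.InRootSub J r := by
          intro r' hr'
          rw [hS', Finset.mem_image] at hr'
          obtain ⟨r, hr, rfl⟩ := hr'
          have hp := (h8spChk_spec D i (hBN.sp i hi) r (hSJ r hr).1
            (fun e => hsim r hr i hi e.symm)).1
          refine ⟨hp, hp.1, fun k hk hkJ => ?_⟩
          have hki : k ≠ i := by
            rintro rfl
            exact hkJ hiJ
          rw [lsChk_coord D hls r i k (hSJ r hr).1.1 hi hk hki]
          exact (hSJ r hr).2.2 k hk hkJ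
        have hex : ∃ r₁' ∈ S', lsHt D r₁' ≤ (n : ℤ) := by
          refine ⟨D.reflectRoot i r₁, Finset.mem_image_of_mem _ hr₁, ?_⟩
          have : lsHt D r₁ ≤ (n : ℤ) + 1 := by exact_mod_cast hht
          omega
        obtain ⟨v', hv', hpos', r₀', hr₀', j, hj, hjJ, hjr⟩ := ih S' hS'J hex
        rw [hS', Finset.mem_image] at hr₀'
        obtain ⟨r₀, hr₀, rfl⟩ := hr₀'
        have happ : ∀ s, h8sW D (v' ++ [i]) s = h8sW D v' (D.reflectRoot i s) := by
          intro s
          rw [h8sW_append]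
          rfl
        refine ⟨v' ++ [i], ?_, ?_, r₀, hr₀, j, hj, hjJ, ?_⟩
        · intro k hk
          rcases List.mem_append.mp hk with hk | hk
          · exact hv' k hk
          · rw [List.mem_singleton] at hk
            rw [hk]
            exact ⟨hi, hiJ⟩
        · intro r hr
          rw [happ]
          exact hpos' _ (Finset.mem_image_of_mem _ hr)
        · rw [happ]
          exact hjr
  obtain ⟨r₁, hr₁⟩ := hS
  have h0 := lsHt_nonneg D r₁ (hSJ r₁ hr₁).1
  exact key (lsHt D r₁).toNat S hSJ ⟨r₁, hr₁, by rw [Int.toNat_of_nonneg h0]⟩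

end Cfsg.Agent.Lib.helper14.INV
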