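import Mathlib
import Cfsg.Agent.Lib.helper14.InvC

set_option autoImplicit false

/-!
# Case (iii): `N² = 0`: a basis of the form `(v_i, N v_i)` together with pairs of kernel vectors
-/

namespace Cfsg.Agent.Lib.helper14.InvF

open Matrix Module

section abstract
variable {F : Type*} [Field F] {V : Type*} [AddCommGroup V] [Module F V] [FiniteDimensional F V]

theorem exists_basis_sq_zero (N : Module.End F V) (hNN : ∀ v, N (N v) = 0) (k : ℕ)
    (hdim : finrank F V = 2 * k) :
    ∃ (r d : ℕ) (B : Basis (Fin 2 × (Fin r ⊕ Fin d)) F V),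
      (∀ i, N (B (0, Sum.inl i)) = B (1, Sum.inl i)) ∧
      (∀ i, N (B (1, Sum.inl i)) = 0) ∧
      (∀ p j, N (B (p, Sum.inr j)) = 0) := by
  set R : Submodule F V := LinearMap.range N with hR
  set K : Submodule F V := LinearMap.ker N with hK
  have hRK : R ≤ K := by
    rintro _ ⟨v, rfl⟩
    exact LinearMap.mem_ker.mpr (hNN v)
  set r := finrank F R with hr
  let bR : Basis (Fin r) F R := Module.finBasis F R
  have hbRmem : ∀ i, ∃ v, N v = (bR i : V) := fun i => LinearMap.mem_range.mp (bR i).2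
  choose v hv using hbRmem
  obtain ⟨C', hC'⟩ := Submodule.exists_isCompl R
  set C : Submodule F V := C' ⊓ K with hC
  have hRC : Disjoint R C := hC'.disjoint.mono_right inf_le_left
  have hsup : R ⊔ C = K := by
    rw [hC, ← sup_inf_assoc_of_le C' hRK, hC'.sup_eq_top, top_inf_eq]
  have hrank := LinearMap.finrank_range_add_finrank_ker N
  rw [hdim] at hrank
  have hdimC : finrank F C + r = finrank F K := by
    have e := Submodule.finrank_sup_add_finrank_inf_eq R C
    rw [hsup, hRC.eq_bot, finrank_bot] at e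
    omega
  have hKdim : r + finrank F K = 2 * k := hrank
  obtain ⟨d, hd⟩ : ∃ d, finrank F C = 2 * d := ⟨k - r, by omega⟩
  let bC0 : Basis (Fin (2 * d)) F C := Module.finBasisOfFinrankEq F C hd
  let bC : Basis (Fin 2 × Fin d) F C := bC0.reindex finProdFinEquiv.symm
  have hbCK : ∀ y, N (bC y : V) = 0 := fun y => by
    have : (bC y : V) ∈ K := (inf_le_right : C ≤ K) (bC y).2
    exact LinearMap.mem_ker.mp this
  have hliR : LinearIndependent F (fun i => (bR i : V)) :=
    bR.linearIndependent.map' R.subtype (Submodule.ker_subtype R)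
  have hliC : LinearIndependent F (fun y => (bC y : V)) :=
    bC.linearIndependent.map' C.subtype (Submodule.ker_subtype C)
  -- the family
  let b : Fin 2 × (Fin r ⊕ Fin d) → V := fun x =>
    Sum.elim (fun i => if x.1 = 0 then v i else (bR i : V)) (fun j => (bC (x.1, j) : V)) x.2
  have hb0 : ∀ i, b (0, Sum.inl i) = v i := fun i => by simp [b]
  have hb1 : ∀ i, b (1, Sum.inl i) = (bR i : V) := fun i => by simp [b]
  have hb2 : ∀ p j, b (p, Sum.inr j) = (bC (p, j) : V) := fun p j => by simp [b]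
  have hsum : ∀ g : Fin 2 × (Fin r ⊕ Fin d) → F, ∑ x, g x • b x =
      (∑ i, g (0, Sum.inl i) • v i) + (∑ i, g (1, Sum.inl i) • (bR i : V)) +
        ∑ y : Fin 2 × Fin d, g (y.1, Sum.inr y.2) • (bC y : V) := by
    intro g
    rw [Fintype.sum_prod_type, Fin.sum_univ_two, Fintype.sum_sum_type, Fintype.sum_sum_type,
      Fintype.sum_prod_type, Fin.sum_univ_two]
    simp only [hb0, hb1, hb2]
    abel
  have hli : LinearIndependent F b := by
    rw [Fintype.linearIndependent_iff]
    intro g hg
    rw [hsum] at hg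
    have hN := congrArg N hg
    rw [map_add, map_add, map_sum, map_sum, map_sum, map_zero] at hN
    have e1 : ∑ i, N (g (0, Sum.inl i) • v i) = ∑ i, g (0, Sum.inl i) • (bR i : V) := by
      apply Finset.sum_congr rfl
      intro i _
      rw [map_smul, hv]
    have e2 : ∑ i, N (g (1, Sum.inl i) • (bR i : V)) = 0 := by
      apply Finset.sum_eq_zero
      intro i _
      rw [map_smul, ← hv i, hNN, smul_zero]
    have e3 : ∑ y : Fin 2 × Fin d, N (g (y.1, Sum.inr y.2) • (bC y : V)) = 0 := by
      apply Finset.sum_eq_zero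
      intro y _
      rw [map_smul, hbCK, smul_zero]
    rw [e1, e2, e3, add_zero, add_zero] at hN
    have h0 := (Fintype.linearIndependent_iff.mp hliR) (fun i => g (0, Sum.inl i)) hN
    have hz : ∑ i, g (0, Sum.inl i) • v i = 0 := by
      apply Finset.sum_eq_zero
      intro i _
      rw [h0 i, zero_smul]
    rw [hz, zero_add] at hg
    set A : V := ∑ i, g (1, Sum.inl i) • (bR i : V) with hA
    set Bc : V := ∑ y : Fin 2 × Fin d, g (y.1, Sum.inr y.2) • (bC y : V) with hBc
    have hAR : A ∈ R := Submodule.sum_mem _ (fun i _ => R.smul_mem _ (bR i).2)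
    have hBC : Bc ∈ C := Submodule.sum_mem _ (fun y _ => C.smul_mem _ (bC y).2)
    have hAC : A ∈ C := by
      have : A = -Bc := eq_neg_of_add_eq_zero_left hg
      rw [this]
      exact C.neg_mem hBC
    have hA0 : A = 0 := (Submodule.disjoint_def.mp hRC) A hAR hAC
    have hB0 : Bc = 0 := by rw [hA0, zero_add] at hg; exact hg
    have h1 := (Fintype.linearIndependent_iff.mp hliR) (fun i => g (1, Sum.inl i)) hA0
    have h2 := (Fintype.linearIndependent_iff.mp hliC) (fun y => g (y.1, Sum.inr y.2)) hB0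
    rintro ⟨p, i | j⟩
    · fin_cases p
      · exact h0 i
      · exact h1 i
    · exact h2 (p, j)
  have hcard : Fintype.card (Fin 2 × (Fin r ⊕ Fin d)) = finrank F V := by
    rw [Fintype.card_prod, Fintype.card_sum, Fintype.card_fin, Fintype.card_fin, Fintype.card_fin,
      hdim]
    omega
  let B : Basis (Fin 2 × (Fin r ⊕ Fin d)) F V := basisOfLinearIndependentOfCardEqFinrank' b hli hcard
  have hB : ∀ y, B y = b y := fun y => by
    rw [coe_basisOfLinearIndependentOfCardEqFinrank']
  refine ⟨r, d, B, ?_, ?_, ?_⟩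
  · intro i
    rw [hB, hB, hb0, hb1, hv]
  · intro i
    rw [hB, hb1, ← hv i, hNN]
  · intro p j
    rw [hB, hb2, hbCK]

end abstract

section concrete
variable {F : Type*} [Field F] {n : ℕ}

/-- the blocks of case (iii) -/
def mU (μ : F) (r d : ℕ) : Fin r ⊕ Fin d → Matrix (Fin 2) (Fin 2) F :=
  Sum.elim (fun _ => !![μ, 0; μ, μ]) (fun _ => μ • (1 : Matrix (Fin 2) (Fin 2) F))

theorem mU_det (μ : F) (r d : ℕ) (i : Fin r ⊕ Fin d) : (mU μ r d i).det = μ * μ := by
  rcases i with i | i
  · simp [mU, Matrix.det_fin_two]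
  · simp [mU, Matrix.det_fin_two]
    ring

theorem planes_char_two (x : Matrix (Fin n) (Fin n) F) (μ : F) (hμ : μ ≠ 0) (h2 : (2 : F) = 0)
    (k : ℕ) (hn : n = 2 * k)
    (hx : x * x = (μ * μ) • (1 : Matrix (Fin n) (Fin n) F)) :
    ∃ (r d : ℕ) (g : Matrix (Fin n) (Fin 2 × (Fin r ⊕ Fin d)) F)
      (g' : Matrix (Fin 2 × (Fin r ⊕ Fin d)) (Fin n) F),
      r + d = k ∧ g * g' = 1 ∧ g' * g = 1 ∧ x = g * blockDiagonal (mU μ r d) * g' := by
  set X : Module.End F (Fin n → F) := Matrix.toLin' x with hX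
  have hXX : ∀ v, X (X v) = (μ * μ) • v := by
    intro v
    rw [hX, Matrix.toLin'_apply, Matrix.toLin'_apply, Matrix.mulVec_mulVec, hx,
      Matrix.smul_mulVec, Matrix.one_mulVec]
  have hneg : ∀ v : Fin n → F, v + v = 0 := by
    intro v
    rw [← two_smul F v, h2, zero_smul]
  set N : Module.End F (Fin n → F) := μ⁻¹ • X + LinearMap.id with hN
  have hNv : ∀ v, N v = μ⁻¹ • X v + v := fun v => by
    rw [hN, LinearMap.add_apply, LinearMap.smul_apply, LinearMap.id_apply]
  have hXN : ∀ v, X v = μ • v + μ • N v := by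
    intro v
    rw [hNv, smul_add, smul_smul, mul_inv_cancel₀ hμ, one_smul, add_comm (X v), ← add_assoc,
      ← smul_add, hneg, smul_zero, zero_add]
  have hNN : ∀ v, N (N v) = 0 := by
    intro v
    rw [hNv (N v), hNv v, map_add, map_smul, hXX, smul_add, smul_smul, smul_smul]
    have : μ⁻¹ * μ⁻¹ * (μ * μ) = 1 := by field_simp
    rw [this, one_smul]
    have e : v + μ⁻¹ • X v + (μ⁻¹ • X v + v) = (v + v) + (μ⁻¹ • X v + μ⁻¹ • X v) := by abel
    rw [e, hneg, hneg, add_zero]
  obtain ⟨r, d, B, hB0, hB1, hB2⟩ := exists_basis_sq_zero N hNN k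
    (by rw [Module.finrank_fin_fun, hn])
  have hrd : r + d = k := by
    have := Module.finrank_eq_card_basis B
    rw [Module.finrank_fin_fun, Fintype.card_prod, Fintype.card_sum, Fintype.card_fin,
      Fintype.card_fin, Fintype.card_fin, hn] at this
    omega
  suffices h : ∃ (g : Matrix (Fin n) (Fin 2 × (Fin r ⊕ Fin d)) F)
      (g' : Matrix (Fin 2 × (Fin r ⊕ Fin d)) (Fin n) F),
      g * g' = 1 ∧ g' * g = 1 ∧ x = g * blockDiagonal (mU μ r d) * g' by
    obtain ⟨g, g', h1, h2, h3⟩ := h
    exact ⟨r, d, g, g', hrd, h1, h2, h3⟩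
  apply InvC.of_basis x B
  intro i p
  have hxv : ∀ w : Fin n → F, x *ᵥ w = μ • w + μ • N w := by
    intro w
    have := hXN w
    rw [hX, Matrix.toLin'_apply] at this
    exact this
  rw [hxv]
  rcases i with i | j
  · fin_cases p
    · show μ • B (0, Sum.inl i) + μ • N (B (0, Sum.inl i)) = _
      rw [hB0]
      simp [mU]
    · show μ • B (1, Sum.inl i) + μ • N (B (1, Sum.inl i)) = _
      rw [hB1]
      simp [mU]
  · rw [hB2]
    fin_cases p
    · simp [mU]
    · simp [mU]

end concrete

end Cfsg.Agent.Lib.helper14.InvF
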