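import Mathlib

set_option autoImplicit false

/-!
# Jordan basis of an endomorphism with `N³ = 0`
-/

namespace Cfsg.Agent.Lib.helper14.JorA

open Module

variable {F : Type*} [Field F] {V : Type*} [AddCommGroup V] [Module F V] [FiniteDimensional F V]

/-- index type: `r₃` chains of length 3, `r₂` chains of length 2, `r₁` of length 1 -/
abbrev Idx (r₃ r₂ r₁ : ℕ) : Type := Fin r₃ ⊕ (Fin r₃ ⊕ (Fin r₃ ⊕ (Fin r₂ ⊕ (Fin r₂ ⊕ Fin r₁))))

def ia {r₃ r₂ r₁ : ℕ} (i : Fin r₃) : Idx r₃ r₂ r₁ := Sum.inl i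
def ib {r₃ r₂ r₁ : ℕ} (i : Fin r₃) : Idx r₃ r₂ r₁ := Sum.inr (Sum.inl i)
def ic {r₃ r₂ r₁ : ℕ} (i : Fin r₃) : Idx r₃ r₂ r₁ := Sum.inr (Sum.inr (Sum.inl i))
def id' {r₃ r₂ r₁ : ℕ} (j : Fin r₂) : Idx r₃ r₂ r₁ := Sum.inr (Sum.inr (Sum.inr (Sum.inl j)))
def ie {r₃ r₂ r₁ : ℕ} (j : Fin r₂) : Idx r₃ r₂ r₁ :=
  Sum.inr (Sum.inr (Sum.inr (Sum.inr (Sum.inl j))))
def if' {r₃ r₂ r₁ : ℕ} (l : Fin r₁) : Idx r₃ r₂ r₁ :=
  Sum.inr (Sum.inr (Sum.inr (Sum.inr (Sum.inr l))))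

theorem span_coe_basis {ι : Type*} (W : Submodule F V) (bW : Basis ι F W) :
    Submodule.span F (Set.range (fun i => (bW i : V))) = W := by
  have : (fun i => (bW i : V)) = W.subtype ∘ bW := rfl
  rw [this, Set.range_comp, ← Submodule.map_span, bW.span_eq, Submodule.map_subtype_top]

theorem map_span_coe_basis {ι : Type*} (W : Submodule F V) (bW : Basis ι F W)
    (f : V →ₗ[F] V) :
    Submodule.span F (Set.range (fun i => f (bW i : V))) = W.map f := by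
  have : (fun i => f (bW i : V)) = f ∘ (fun i => (bW i : V)) := rfl
  rw [this, Set.range_comp, ← Submodule.map_span, span_coe_basis]

theorem sum_mem_of_basis {ι : Type*} [Fintype ι] (W : Submodule F V) (bW : Basis ι F W)
    (c : ι → F) : ∑ i, c i • (bW i : V) ∈ W :=
  Submodule.sum_mem _ (fun i _ => W.smul_mem _ (bW i).2)

theorem coeff_zero_of_basis {ι : Type*} [Fintype ι] (W : Submodule F V) (bW : Basis ι F W)
    (c : ι → F) (h : ∑ i, c i • (bW i : V) = 0) : ∀ i, c i = 0 := by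
  have hli : LinearIndependent F (fun i => (bW i : V)) :=
    bW.linearIndependent.map' W.subtype (Submodule.ker_subtype W)
  exact Fintype.linearIndependent_iff.mp hli c h

theorem exists_jordan_cube_zero (N : Module.End F V) (hN3 : ∀ v, N (N (N v)) = 0) :
    ∃ (r₃ r₂ r₁ : ℕ) (B : Basis (Idx r₃ r₂ r₁) F V),
      (∀ i, N (B (ia i)) = B (ib i)) ∧ (∀ i, N (B (ib i)) = B (ic i)) ∧
      (∀ i, N (B (ic i)) = 0) ∧ (∀ j, N (B (id' j)) = B (ie j)) ∧ (∀ j, N (B (ie j)) = 0) ∧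
      (∀ l, N (B (if' l)) = 0) := by
  classical
  set K₁ : Submodule F V := LinearMap.ker N with hK₁
  set K₂ : Submodule F V := LinearMap.ker (N * N) with hK₂
  have memK₁ : ∀ v, v ∈ K₁ ↔ N v = 0 := fun v => LinearMap.mem_ker
  have memK₂ : ∀ v, v ∈ K₂ ↔ N (N v) = 0 := fun v => by
    rw [hK₂, LinearMap.mem_ker, Module.End.mul_apply]
  have hK₁₂ : K₁ ≤ K₂ := by
    intro v hv
    rw [memK₁] at hv
    rw [memK₂, hv, map_zero]
  -- W₃
  obtain ⟨W₃, hW₃⟩ := Submodule.exists_isCompl K₂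
  set r₃ := finrank F W₃ with hr₃
  let bW₃ : Basis (Fin r₃) F W₃ := Module.finBasis F W₃
  have hW₃K₂ : ∀ v, v ∈ W₃ → v ∈ K₂ → v = 0 := fun v h1 h2 =>
    (Submodule.disjoint_def.mp hW₃.disjoint) v h2 h1
  -- W₂
  set S₂ : Submodule F V := K₁ ⊔ W₃.map N with hS₂
  have hNW₃K₂ : W₃.map N ≤ K₂ := by
    rintro _ ⟨v, _, rfl⟩
    rw [memK₂]
    exact hN3 v
  have hS₂K₂ : S₂ ≤ K₂ := sup_le hK₁₂ hNW₃K₂
  obtain ⟨C₂, hC₂⟩ := Submodule.exists_isCompl S₂
  set W₂ : Submodule F V := C₂ ⊓ K₂ with hW₂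
  have hS₂W₂ : Disjoint S₂ W₂ := hC₂.disjoint.mono_right inf_le_left
  have hsup₂ : S₂ ⊔ W₂ = K₂ := by
    rw [hW₂, ← sup_inf_assoc_of_le C₂ hS₂K₂, hC₂.sup_eq_top, top_inf_eq]
  have hW₂K₂ : W₂ ≤ K₂ := inf_le_right
  set r₂ := finrank F W₂ with hr₂
  let bW₂ : Basis (Fin r₂) F W₂ := Module.finBasis F W₂
  have hW₂S₂ : ∀ v, v ∈ W₂ → v ∈ S₂ → v = 0 := fun v h1 h2 =>
    (Submodule.disjoint_def.mp hS₂W₂) v h2 h1
  -- W₁
  set S₁ : Submodule F V := W₃.map (N * N) ⊔ W₂.map N with hS₁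
  have hS₁K₁ : S₁ ≤ K₁ := by
    apply sup_le
    · rintro _ ⟨v, _, rfl⟩
      rw [memK₁, Module.End.mul_apply]
      exact hN3 v
    · rintro _ ⟨v, hv, rfl⟩
      rw [memK₁]
      exact (memK₂ v).mp (hW₂K₂ hv)
  obtain ⟨C₁, hC₁⟩ := Submodule.exists_isCompl S₁
  set W₁ : Submodule F V := C₁ ⊓ K₁ with hW₁
  have hS₁W₁ : Disjoint S₁ W₁ := hC₁.disjoint.mono_right inf_le_left
  have hsup₁ : S₁ ⊔ W₁ = K₁ := by
    rw [hW₁, ← sup_inf_assoc_of_le C₁ hS₁K₁, hC₁.sup_eq_top, top_inf_eq]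
  have hW₁K₁ : W₁ ≤ K₁ := inf_le_right
  set r₁ := finrank F W₁ with hr₁
  let bW₁ : Basis (Fin r₁) F W₁ := Module.finBasis F W₁
  have hW₁S₁ : ∀ v, v ∈ W₁ → v ∈ S₁ → v = 0 := fun v h1 h2 =>
    (Submodule.disjoint_def.mp hS₁W₁) v h2 h1
  -- the family
  let b : Idx r₃ r₂ r₁ → V :=
    Sum.elim (fun i => (bW₃ i : V)) (Sum.elim (fun i => N (bW₃ i : V))
      (Sum.elim (fun i => N (N (bW₃ i : V))) (Sum.elim (fun j => (bW₂ j : V))
        (Sum.elim (fun j => N (bW₂ j : V)) (fun l => (bW₁ l : V))))))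
  have hba : ∀ i, b (ia i) = (bW₃ i : V) := fun i => rfl
  have hbb : ∀ i, b (ib i) = N (bW₃ i : V) := fun i => rfl
  have hbc : ∀ i, b (ic i) = N (N (bW₃ i : V)) := fun i => rfl
  have hbd : ∀ j, b (id' j) = (bW₂ j : V) := fun j => rfl
  have hbe : ∀ j, b (ie j) = N (bW₂ j : V) := fun j => rfl
  have hbf : ∀ l, b (if' l) = (bW₁ l : V) := fun l => rfl
  have hsum : ∀ g : Idx r₃ r₂ r₁ → F, ∑ x, g x • b x =
      (∑ i, g (ia i) • (bW₃ i : V)) + (N (∑ i, g (ib i) • (bW₃ i : V)) +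
        (N (N (∑ i, g (ic i) • (bW₃ i : V))) + ((∑ j, g (id' j) • (bW₂ j : V)) +
          (N (∑ j, g (ie j) • (bW₂ j : V)) + ∑ l, g (if' l) • (bW₁ l : V))))) := by
    intro g
    rw [Fintype.sum_sum_type, Fintype.sum_sum_type, Fintype.sum_sum_type, Fintype.sum_sum_type,
      Fintype.sum_sum_type]
    simp only [map_sum, map_smul]
    rfl
  have hli : LinearIndependent F b := by
    rw [Fintype.linearIndependent_iff]
    intro g hg
    rw [hsum] at hg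
    set A := ∑ i, g (ia i) • (bW₃ i : V) with hA
    set B₀ := ∑ i, g (ib i) • (bW₃ i : V) with hB₀
    set C₀ := ∑ i, g (ic i) • (bW₃ i : V) with hC₀
    set Ds := ∑ j, g (id' j) • (bW₂ j : V) with hDs
    set E₀ := ∑ j, g (ie j) • (bW₂ j : V) with hE₀
    set Fs := ∑ l, g (if' l) • (bW₁ l : V) with hFs
    have hAW : A ∈ W₃ := sum_mem_of_basis W₃ bW₃ _
    have hBW : B₀ ∈ W₃ := sum_mem_of_basis W₃ bW₃ _
    have hCW : C₀ ∈ W₃ := sum_mem_of_basis W₃ bW₃ _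
    have hDW : Ds ∈ W₂ := sum_mem_of_basis W₂ bW₂ _
    have hEW : E₀ ∈ W₂ := sum_mem_of_basis W₂ bW₂ _
    have hFW : Fs ∈ W₁ := sum_mem_of_basis W₁ bW₁ _
    have hNNC : N (N C₀) ∈ K₁ := by rw [memK₁]; exact hN3 C₀
    have hNE : N E₀ ∈ K₁ := by rw [memK₁]; exact (memK₂ E₀).mp (hW₂K₂ hEW)
    have hFK : Fs ∈ K₁ := hW₁K₁ hFW
    have hNB : N B₀ ∈ K₂ := by rw [memK₂]; exact hN3 B₀
    -- Step 1
    have hA0 : A = 0 := by
      apply hW₃K₂ A hAW
      have : A = -(N B₀ + (N (N C₀) + (Ds + (N E₀ + Fs)))) := eq_neg_of_add_eq_zero_left hg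
      rw [this]
      exact K₂.neg_mem (K₂.add_mem hNB (K₂.add_mem (hK₁₂ hNNC) (K₂.add_mem (hW₂K₂ hDW)
        (K₂.add_mem (hK₁₂ hNE) (hK₁₂ hFK)))))
    rw [hA0, zero_add] at hg
    -- Step 2
    have hrest : N (N C₀) + (N E₀ + Fs) ∈ K₁ := K₁.add_mem hNNC (K₁.add_mem hNE hFK)
    have hD0 : Ds = 0 := by
      apply hW₂S₂ Ds hDW
      have : Ds = -(N (N C₀) + (N E₀ + Fs)) + -(N B₀) := by
        have h' : Ds + (N B₀ + (N (N C₀) + (N E₀ + Fs))) = 0 := by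
          rw [← hg]; abel
        rw [eq_neg_of_add_eq_zero_left h']
        abel
      rw [this, hS₂]
      exact Submodule.add_mem_sup (K₁.neg_mem hrest)
        (Submodule.neg_mem _ (Submodule.mem_map_of_mem hBW))
    rw [hD0, zero_add] at hg
    have hB0 : B₀ = 0 := by
      apply hW₃K₂ B₀ hBW
      rw [memK₂, ← memK₁]
      have : N B₀ = -(N (N C₀) + (N E₀ + Fs)) := eq_neg_of_add_eq_zero_left hg
      rw [this]
      exact K₁.neg_mem hrest
    rw [hB0, map_zero, zero_add] at hg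
    -- Step 3
    have hF0 : Fs = 0 := by
      apply hW₁S₁ Fs hFW
      have : Fs = -(N (N C₀)) + -(N E₀) := by
        have h' : Fs + (N (N C₀) + N E₀) = 0 := by rw [← hg]; abel
        rw [eq_neg_of_add_eq_zero_left h']
        abel
      rw [this, hS₁]
      refine Submodule.add_mem_sup ?_ ?_
      · refine Submodule.neg_mem _ ⟨C₀, hCW, ?_⟩
        rw [Module.End.mul_apply]
      · exact Submodule.neg_mem _ (Submodule.mem_map_of_mem hEW)
    rw [hF0, add_zero] at hg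
    have hNCE : N C₀ + E₀ ∈ K₁ := by
      rw [memK₁, map_add]
      exact hg
    have hE0 : E₀ = 0 := by
      apply hW₂S₂ E₀ hEW
      have : E₀ = (N C₀ + E₀) + -(N C₀) := by abel
      rw [this, hS₂]
      exact Submodule.add_mem_sup hNCE (Submodule.neg_mem _ (Submodule.mem_map_of_mem hCW))
    rw [hE0, map_zero, add_zero] at hg
    have hC0 : C₀ = 0 := hW₃K₂ C₀ hCW ((memK₂ C₀).mpr hg)
    have ga := coeff_zero_of_basis W₃ bW₃ (fun i => g (ia i)) hA0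
    have gb := coeff_zero_of_basis W₃ bW₃ (fun i => g (ib i)) hB0
    have gc := coeff_zero_of_basis W₃ bW₃ (fun i => g (ic i)) hC0
    have gd := coeff_zero_of_basis W₂ bW₂ (fun j => g (id' j)) hD0
    have ge := coeff_zero_of_basis W₂ bW₂ (fun j => g (ie j)) hE0
    have gf := coeff_zero_of_basis W₁ bW₁ (fun l => g (if' l)) hF0
    rintro (i | i | i | j | j | l)
    · exact ga i
    · exact gb i
    · exact gc i
    · exact gd j
    · exact ge j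
    · exact gf l
  have hspan : ⊤ ≤ Submodule.span F (Set.range b) := by
    set Sb := Submodule.span F (Set.range b) with hSb
    have hsub : ∀ {ι : Type} (f : ι → V), (∀ i, ∃ y, b y = f i) →
        Submodule.span F (Set.range f) ≤ Sb := by
      intro ι f hf
      apply Submodule.span_le.mpr
      rintro _ ⟨i, rfl⟩
      obtain ⟨y, hy⟩ := hf i
      rw [← hy]
      exact Submodule.subset_span ⟨y, rfl⟩
    have h1 : W₃ ≤ Sb := by
      rw [← span_coe_basis W₃ bW₃]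
      exact hsub _ (fun i => ⟨ia i, hba i⟩)
    have h2 : W₃.map N ≤ Sb := by
      rw [← map_span_coe_basis W₃ bW₃ N]
      exact hsub _ (fun i => ⟨ib i, hbb i⟩)
    have h3 : W₃.map (N * N) ≤ Sb := by
      rw [← map_span_coe_basis W₃ bW₃ (N * N)]
      exact hsub _ (fun i => ⟨ic i, by rw [hbc, Module.End.mul_apply]⟩)
    have h4 : W₂ ≤ Sb := by
      rw [← span_coe_basis W₂ bW₂]
      exact hsub _ (fun j => ⟨id' j, hbd j⟩)
    have h5 : W₂.map N ≤ Sb := by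
      rw [← map_span_coe_basis W₂ bW₂ N]
      exact hsub _ (fun j => ⟨ie j, hbe j⟩)
    have h6 : W₁ ≤ Sb := by
      rw [← span_coe_basis W₁ bW₁]
      exact hsub _ (fun l => ⟨if' l, hbf l⟩)
    have hK₁Sb : K₁ ≤ Sb := by
      rw [← hsup₁, hS₁]
      exact sup_le (sup_le h3 h5) h6
    have hK₂Sb : K₂ ≤ Sb := by
      rw [← hsup₂, hS₂]
      exact sup_le (sup_le hK₁Sb h2) h4
    rw [← hW₃.sup_eq_top]
    exact sup_le hK₂Sb h1
  let B : Basis (Idx r₃ r₂ r₁) F V := Basis.mk hli hspan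
  have hB : ∀ y, B y = b y := fun y => Basis.mk_apply hli hspan y
  refine ⟨r₃, r₂, r₁, B, ?_, ?_, ?_, ?_, ?_, ?_⟩
  · intro i
    rw [hB, hB, hba, hbb]
  · intro i
    rw [hB, hB, hbb, hbc]
  · intro i
    rw [hB, hbc]
    exact hN3 _
  · intro j
    rw [hB, hB, hbd, hbe]
  · intro j
    rw [hB, hbe]
    exact (memK₂ _).mp (hW₂K₂ (bW₂ j).2)
  · intro l
    rw [hB, hbf]
    exact (memK₁ _).mp (hW₁K₁ (bW₁ l).2)

end Cfsg.Agent.Lib.helper14.JorA
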