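import Cfsg.Agent.Lib.helper14.MPa

set_option autoImplicit false
set_option maxRecDepth 1000000

/-!
# A concrete model of the McLaughlin group on 275 points: the kernel computations
-/

namespace Cfsg.Agent.Lib.helper14.MP

open Cfsg
open Cfsg.Agent.Lib.helper3 Cfsg.Agent.Lib.helper4 Cfsg.Agent.Lib.Lead.CW
open Cfsg.Agent.S0398

/-! ### the vectors -/

theorem mpV_leech : ∀ i : Fin 275, isLeechB (mpV i) = true := by decide +kernel

/-- the `i`-th point -/
def mpPt (i : Fin 275) : ↥leechLattice := ⟨mpV i, isLeechB_sound _ (mpV_leech i)⟩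

/-- the vector `(5, 1^23)` -/
def mpU : ↥leechLattice := -Spor.leechV

theorem mpU_chk : sqNorm mpU.1 = 48 ∧ sqNorm Spor.leechU.1 = 32 ∧
    sqNorm (mpU - Spor.leechU).1 = 32 ∧ dotInt Spor.leechU.1 (mpU - Spor.leechU).1 = -8 := by
  decide +kernel

theorem mpV_chk : ∀ i : Fin 275, sqNorm (mpV i) = 32 ∧
    sqNorm (fun p => mpU.1 p - mpV i p) = 32 ∧ dotInt Spor.leechU.1 (mpV i) = 16 := by
  decide +kernel

theorem mpV_inj : ∀ i j : Fin 275, (∀ p, mpV i p = mpV j p) → i = j := by decide +kernel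

/-! ### the coordinate permutations -/

theorem mpT0_inv : (∀ p, Helper12.Golay.tblFun mpT0i (Helper12.Golay.tblFun mpT0 p) = p) ∧
    ∀ p, Helper12.Golay.tblFun mpT0 (Helper12.Golay.tblFun mpT0i p) = p := by decide +kernel

theorem mpT1_inv : (∀ p, Helper12.Golay.tblFun mpT1i (Helper12.Golay.tblFun mpT1 p) = p) ∧
    ∀ p, Helper12.Golay.tblFun mpT1 (Helper12.Golay.tblFun mpT1i p) = p := by decide +kernel

theorem mpTa_inv : (∀ p, Helper12.Golay.tblFun mpTai (Helper12.Golay.tblFun mpTa p) = p) ∧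
    ∀ p, Helper12.Golay.tblFun mpTa (Helper12.Golay.tblFun mpTai p) = p := by decide +kernel

/-- first coordinate permutation -/
def mpP0 : Equiv.Perm GolayPt :=
  ⟨Helper12.Golay.tblFun mpT0, Helper12.Golay.tblFun mpT0i, mpT0_inv.1, mpT0_inv.2⟩

/-- second coordinate permutation -/
def mpP1 : Equiv.Perm GolayPt :=
  ⟨Helper12.Golay.tblFun mpT1, Helper12.Golay.tblFun mpT1i, mpT1_inv.1, mpT1_inv.2⟩

/-- third coordinate permutation -/
def mpPa : Equiv.Perm GolayPt :=
  ⟨Helper12.Golay.tblFun mpTa, Helper12.Golay.tblFun mpTai, mpTa_inv.1, mpTa_inv.2⟩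

theorem mpP0_mem : mpP0 ∈ M24 :=
  Helper12.Golay.mem_M24_of_table (Tinv := mpT0i) ⟨rfl, by decide +kernel⟩ (by decide)
    (by decide +kernel)

theorem mpP1_mem : mpP1 ∈ M24 :=
  Helper12.Golay.mem_M24_of_table (Tinv := mpT1i) ⟨rfl, by decide +kernel⟩ (by decide)
    (by decide +kernel)

theorem mpPa_mem : mpPa ∈ M24 :=
  Helper12.Golay.mem_M24_of_table (Tinv := mpTai) ⟨rfl, by decide +kernel⟩ (by decide)
    (by decide +kernel)

/-! ### the two automorphisms of the lattice -/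

/-- the first generator: a coordinate permutation -/
def mpEa : ↥Co0 := ⟨permE mpPa mpPa_mem, permE_mem _ _⟩

/-- the second generator -/
def mpEg : ↥Co0 :=
  ⟨xiE, xiE_mem⟩ * ⟨flipE (gword (golayMask mpKd)) (golayMask_mem _), flipE_mem _ _⟩ *
    ⟨permE mpP1 mpP1_mem, permE_mem _ _⟩ * ⟨xiE, xiE_mem⟩ *
    ⟨flipE (gword (golayMask mpKc)) (golayMask_mem _), flipE_mem _ _⟩ *
    ⟨permE mpP0 mpP0_mem, permE_mem _ _⟩

theorem mpEa_val (x : ↥leechLattice) (p : GolayPt) :
    (mpEa.1 x).1 p = x.1 (Helper12.Golay.tblFun mpTa p) := rfl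

theorem mpEg_val (x : ↥leechLattice) : (mpEg.1 x).1 = gV x.1 := rfl

theorem mpEa_tab : ∀ i : Fin 275, ∀ p : GolayPt,
    mpV i (Helper12.Golay.tblFun mpTa p) = mpV (mpA.getD i 0) p := by decide +kernel

theorem mpEg_tab : ∀ i : Fin 275, ∀ p : GolayPt, gV (mpV i) p = mpV (mpG.getD i 0) p := by
  decide +kernel

theorem mpEa_fix : (∀ p, mpU.1 (Helper12.Golay.tblFun mpTa p) = mpU.1 p) ∧
    ∀ p, Spor.leechU.1 (Helper12.Golay.tblFun mpTa p) = Spor.leechU.1 p := by decide +kernel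

theorem mpEg_fix : (∀ p, gV mpU.1 p = mpU.1 p) ∧ ∀ p, gV Spor.leechU.1 p = Spor.leechU.1 p := by
  decide +kernel

/-! ### the permutations of the 275 points -/

theorem mpA_inv : ∀ i : Fin 275, mpA.getD i 0 < 275 ∧ mpAi.getD i 0 < 275 ∧
    mpAi.getD (mpA.getD i 0) 0 = i ∧ mpA.getD (mpAi.getD i 0) 0 = i := by decide +kernel

theorem mpG_inv : ∀ i : Fin 275, mpG.getD i 0 < 275 ∧ mpGi.getD i 0 < 275 ∧
    mpGi.getD (mpG.getD i 0) 0 = i ∧ mpG.getD (mpGi.getD i 0) 0 = i := by decide +kernel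

/-- the permutation of the 275 points induced by the first generator -/
def mpSa : Equiv.Perm (Fin 275) where
  toFun i := ⟨mpA.getD i 0, (mpA_inv i).1⟩
  invFun i := ⟨mpAi.getD i 0, (mpA_inv i).2.1⟩
  left_inv i := Fin.ext (mpA_inv i).2.2.1
  right_inv i := Fin.ext (mpA_inv i).2.2.2

/-- the permutation of the 275 points induced by the second generator -/
def mpSg : Equiv.Perm (Fin 275) where
  toFun i := ⟨mpG.getD i 0, (mpG_inv i).1⟩
  invFun i := ⟨mpGi.getD i 0, (mpG_inv i).2.1⟩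
  left_inv i := Fin.ext (mpG_inv i).2.2.1
  right_inv i := Fin.ext (mpG_inv i).2.2.2

theorem mpEa_pt (i : Fin 275) : mpEa.1 (mpPt i) = mpPt (mpSa i) := by
  apply Subtype.ext
  funext p
  exact mpEa_tab i p

theorem mpEg_pt (i : Fin 275) : mpEg.1 (mpPt i) = mpPt (mpSg i) := by
  apply Subtype.ext
  funext p
  rw [mpEg_val]
  exact mpEg_tab i p

theorem mpEa_U : mpEa.1 mpU = mpU := by
  apply Subtype.ext
  funext p
  exact mpEa_fix.1 p

theorem mpEa_V : mpEa.1 Spor.leechU = Spor.leechU := by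
  apply Subtype.ext
  funext p
  exact mpEa_fix.2 p

theorem mpEg_U : mpEg.1 mpU = mpU := by
  apply Subtype.ext
  funext p
  rw [mpEg_val]
  exact mpEg_fix.1 p

theorem mpEg_V : mpEg.1 Spor.leechU = Spor.leechU := by
  apply Subtype.ext
  funext p
  rw [mpEg_val]
  exact mpEg_fix.2 p

theorem mpPt_inj : Function.Injective mpPt := by
  intro i j h
  apply mpV_inj i j
  intro p
  exact congrFun (congrArg Subtype.val h) p

theorem mpPt_mem (i : Fin 275) : mpPt i ∈ Cfsg.Agent.Lib.helper23.mclX mpU Spor.leechU :=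
  mpV_chk i

end Cfsg.Agent.Lib.helper14.MP
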