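import Cfsg.Agent.Lib.helper14.MPb

set_option autoImplicit false

/-!
# A concrete model of the McLaughlin group on 275 points: the isomorphism

`Spor.McL` acts faithfully on the 275 points `mpPt i`; the two explicit automorphisms `mpEa`,
`mpEg` induce the permutations `mpSa`, `mpSg`; if these generate a group of order `898128000`
then this group is isomorphic to `Spor.McL`.
-/

namespace Cfsg.Agent.Lib.helper14.MP

open Cfsg MulAction Subgroup
open Cfsg.Agent.Lib.helper23 (mclX mcl_main)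

/-- the set of points -/
abbrev mpX : Set ↥leechLattice := mclX mpU Spor.leechU

theorem mpX_ncard : mpX.ncard = 275 :=
  (mcl_main mpU Spor.leechU mpU_chk.1 mpU_chk.2.1 mpU_chk.2.2.1).1

theorem mpX_eq : Set.range mpPt = mpX := by
  apply Set.eq_of_subset_of_ncard_le
  · rintro _ ⟨i, rfl⟩
    exact mpPt_mem i
  · rw [mpX_ncard, Set.ncard_range_of_injective mpPt_inj]
    simp
  · exact Set.finite_of_ncard_ne_zero (by rw [mpX_ncard]; norm_num)

/-! ### membership of the group -/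

theorem mem_mcl_iff {g : Equiv.Perm ↥leechLattice} : g ∈ Spor.McL ↔
    g ∈ Co0 ∧ g Spor.leechV = Spor.leechV ∧ g Spor.leechU = Spor.leechU := by
  unfold Spor.McL Spor.Co3
  rw [Subgroup.mem_inf, Subgroup.mem_inf, mem_stabilizer_iff, mem_stabilizer_iff]
  constructor
  · rintro ⟨⟨h1, h2⟩, h3⟩
    exact ⟨h1, h2, h3⟩
  · rintro ⟨h1, h2, h3⟩
    exact ⟨⟨h1, h2⟩, h3⟩

theorem leechV_eq : Spor.leechV = -mpU := by
  unfold mpU
  rw [neg_neg]

theorem fix_V_iff (g : ↥Co0) : g.1 Spor.leechV = Spor.leechV ↔ g.1 mpU = mpU := by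
  constructor
  · intro h
    unfold mpU
    rw [Cfsg.Agent.S0398.map_neg', h]
  · intro h
    rw [leechV_eq, Cfsg.Agent.S0398.map_neg', h]

theorem mem_mcl_iff' {g : Equiv.Perm ↥leechLattice} : g ∈ Spor.McL ↔
    ∃ h : g ∈ Co0, g mpU = mpU ∧ g Spor.leechU = Spor.leechU := by
  rw [mem_mcl_iff]
  constructor
  · rintro ⟨h1, h2, h3⟩
    exact ⟨h1, (fix_V_iff ⟨g, h1⟩).1 h2, h3⟩
  · rintro ⟨h1, h2, h3⟩
    exact ⟨h1, (fix_V_iff ⟨g, h1⟩).2 h2, h3⟩

theorem mpEa_mem : mpEa.1 ∈ Spor.McL := mem_mcl_iff'.2 ⟨mpEa.2, mpEa_U, mpEa_V⟩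

theorem mpEg_mem : mpEg.1 ∈ Spor.McL := mem_mcl_iff'.2 ⟨mpEg.2, mpEg_U, mpEg_V⟩

/-- the group preserves the set of points -/
theorem map_mpX (g : ↥Spor.McL) (x : ↥leechLattice) (hx : x ∈ mpX) : g.1 x ∈ mpX := by
  obtain ⟨h0, hU, hV⟩ := mem_mcl_iff'.1 g.2
  obtain ⟨h1, h2, h3⟩ := hx
  let g' : ↥Co0 := ⟨g.1, h0⟩
  refine ⟨?_, ?_, ?_⟩
  · exact (h0.2 x).trans h1
  · have e : mpU - g.1 x = g'.1 (mpU - x) := by
      rw [Cfsg.Agent.Lib.Lead.CP.map_sub']
      show mpU - g.1 x = g.1 mpU - g.1 x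
      rw [hU]
    rw [e]
    exact (h0.2 (mpU - x)).trans h2
  · have := Cfsg.Agent.Lib.Lead.CP.dot_map g' Spor.leechU x
    have hV' : g'.1 Spor.leechU = Spor.leechU := hV
    rw [hV'] at this
    rw [← h3]
    exact this

/-! ### the action on the indices -/

theorem exists_idx (g : ↥Spor.McL) (i : Fin 275) : ∃ j : Fin 275, mpPt j = g.1 (mpPt i) := by
  have h := map_mpX g (mpPt i) (mpPt_mem i)
  rw [← mpX_eq] at h
  exact h

/-- the image of an index -/
noncomputable def mpAct (g : ↥Spor.McL) (i : Fin 275) : Fin 275 := Classical.choose (exists_idx g i)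

theorem mpPt_mpAct (g : ↥Spor.McL) (i : Fin 275) : mpPt (mpAct g i) = g.1 (mpPt i) :=
  Classical.choose_spec (exists_idx g i)

theorem mpAct_mul (g h : ↥Spor.McL) (i : Fin 275) : mpAct (g * h) i = mpAct g (mpAct h i) := by
  apply mpPt_inj
  rw [mpPt_mpAct, mpPt_mpAct, mpPt_mpAct]
  rfl

theorem mpAct_one (i : Fin 275) : mpAct 1 i = i := by
  apply mpPt_inj
  rw [mpPt_mpAct]
  rfl

/-- the permutation of the indices induced by an element -/
noncomputable def mpPerm (g : ↥Spor.McL) : Equiv.Perm (Fin 275) where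
  toFun := mpAct g
  invFun := mpAct g⁻¹
  left_inv i := by rw [← mpAct_mul, inv_mul_cancel, mpAct_one]
  right_inv i := by rw [← mpAct_mul, mul_inv_cancel, mpAct_one]

/-- the permutation representation on the 275 points -/
noncomputable def mpRho : ↥Spor.McL →* Equiv.Perm (Fin 275) where
  toFun := mpPerm
  map_one' := by
    ext i
    exact congrArg Fin.val (mpAct_one i)
  map_mul' g h := by
    ext i
    exact congrArg Fin.val (mpAct_mul g h i)

theorem mpRho_apply (g : ↥Spor.McL) (i : Fin 275) : mpPt (mpRho g i) = g.1 (mpPt i) :=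
  mpPt_mpAct g i

theorem mpRho_a : mpRho ⟨mpEa.1, mpEa_mem⟩ = mpSa := by
  ext i
  apply congrArg Fin.val
  apply mpPt_inj
  rw [mpRho_apply]
  exact mpEa_pt i

theorem mpRho_g : mpRho ⟨mpEg.1, mpEg_mem⟩ = mpSg := by
  ext i
  apply congrArg Fin.val
  apply mpPt_inj
  rw [mpRho_apply]
  exact mpEg_pt i

/-! ### simplicity and order -/

/-- the second minimal vector of the frame -/
def mpW : ↥leechLattice := mpU - Spor.leechU

theorem fix_W_iff (g : ↥Co0) (hV : g.1 Spor.leechU = Spor.leechU) :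
    g.1 mpW = mpW ↔ g.1 mpU = mpU := by
  unfold mpW
  rw [Cfsg.Agent.Lib.Lead.CP.map_sub', hV]
  constructor
  · intro h
    exact sub_left_injective h
  · intro h
    rw [h]

/-- comparison with the stabiliser of two vectors in the automorphism group of the lattice -/
def mpEquiv : ↥Spor.McL ≃* ↥(stabilizer ↥Co0 Spor.leechU ⊓ stabilizer ↥Co0 mpW) where
  toFun g := ⟨⟨g.1, (mem_mcl_iff'.1 g.2).1⟩, by
    obtain ⟨h0, hU, hV⟩ := mem_mcl_iff'.1 g.2
    rw [Subgroup.mem_inf, mem_stabilizer_iff, mem_stabilizer_iff]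
    exact ⟨hV, (fix_W_iff ⟨g.1, h0⟩ hV).2 hU⟩⟩
  invFun k := ⟨k.1.1, by
    have hk := k.2
    rw [Subgroup.mem_inf, mem_stabilizer_iff, mem_stabilizer_iff] at hk
    have hV : k.1.1 Spor.leechU = Spor.leechU := hk.1
    have hW : k.1.1 mpW = mpW := hk.2
    exact mem_mcl_iff'.2 ⟨k.1.2, (fix_W_iff k.1 hV).1 hW, hV⟩⟩
  left_inv g := rfl
  right_inv k := rfl
  map_mul' g h := rfl

theorem mcl_isMcL : IsMcL ↥Spor.McL := by
  have h := Cfsg.Agent.Lib.Lead.ML.isMcL Spor.leechU mpW mpU_chk.2.1 mpU_chk.2.2.1 mpU_chk.2.2.2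
  haveI := h.1
  exact ⟨mpEquiv.isSimpleGroup, (Nat.card_congr mpEquiv.toEquiv).trans h.2⟩

theorem mcl_card : Nat.card ↥Spor.McL = 898128000 := mcl_isMcL.2

instance mcl_simple : IsSimpleGroup ↥Spor.McL := mcl_isMcL.1

instance mcl_finite : Finite ↥Spor.McL :=
  Nat.finite_of_card_ne_zero (by rw [mcl_card]; norm_num)

/-! ### faithfulness -/

theorem mpSg_ne_one : mpSg ≠ 1 := by
  intro h
  have := congrArg (fun s : Equiv.Perm (Fin 275) => (s 0).1) h
  revert this
  decide +kernel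

theorem mpRho_injective : Function.Injective mpRho := by
  rw [← MonoidHom.ker_eq_bot_iff]
  rcases (inferInstance : mpRho.ker.Normal).eq_bot_or_eq_top with h | h
  · exact h
  · exfalso
    have : (⟨mpEg.1, mpEg_mem⟩ : ↥Spor.McL) ∈ mpRho.ker := by
      rw [h]
      exact Subgroup.mem_top _
    rw [MonoidHom.mem_ker, mpRho_g] at this
    exact mpSg_ne_one this

/-- the concrete group -/
def M275 : Subgroup (Equiv.Perm (Fin 275)) := closure {mpSa, mpSg}

theorem M275_le : M275 ≤ mpRho.range := by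
  unfold M275
  rw [closure_le]
  rintro s (rfl | rfl)
  · exact ⟨_, mpRho_a⟩
  · exact ⟨_, mpRho_g⟩

theorem range_card : Nat.card ↥mpRho.range = 898128000 := by
  rw [← Nat.card_congr (MonoidHom.ofInjective mpRho_injective).toEquiv, mcl_card]

/-- the isomorphism, given the order of the concrete group -/
theorem mcl275_iso (hcard : Nat.card ↥M275 = 898128000) : Nonempty (↥Spor.McL ≃* ↥M275) := by
  have h : M275 = mpRho.range :=
    Subgroup.eq_of_le_of_card_ge M275_le (by rw [range_card, hcard])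
  rw [h]
  exact ⟨MonoidHom.ofInjective mpRho_injective⟩

end Cfsg.Agent.Lib.helper14.MP
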