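import Cfsg.Agent.Lib.helper14.MPd

set_option autoImplicit false
set_option maxRecDepth 1000000

/-!
# The McLaughlin group on 275 points: the checks of the stabiliser chain
-/

namespace Cfsg.Agent.Lib.helper14.MP

open Cfsg.Agent.Lib.helper23 Subgroup MulAction

/-- the trivial rigid ambient group: all permutations, every point in the base -/
def mpRigidTop (n : ℕ) : PgRigid n where
  A := ⊤
  base := List.range n
  rigid := by
    intro g _ h
    apply Equiv.ext
    intro i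
    exact h i.1 (List.mem_range.2 i.2) i.2

theorem mpChkLvlW_ofAll {n : ℕ} {base : List ℕ} {L : PgLvlW} {Ls : List PgLvlW}
    (h0 : pgChkLvlW0 n L Ls = true)
    (h1 : ∀ s ∈ L.own, pgChkGenW n base L Ls s 0 n = true) :
    pgChkLvlW n base L Ls = true := by
  unfold pgChkLvlW
  rw [h0, Bool.true_and, pgAllL_iff]
  exact h1

theorem mpchk0x5 : pgChkLvlW0 275 mcL5 [] = true := by decide +kernel

theorem mpchk0x4 : pgChkLvlW0 275 mcL4 [mcL5] = true := by decide +kernel

theorem mpchk0x3 : pgChkLvlW0 275 mcL3 [mcL4, mcL5] = true := by decide +kernel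

theorem mpchk0x2 : pgChkLvlW0 275 mcL2 [mcL3, mcL4, mcL5] = true := by decide +kernel

theorem mpchk0x1 : pgChkLvlW0 275 mcL1 [mcL2, mcL3, mcL4, mcL5] = true := by decide +kernel

theorem mpcl5x0 : pgChkGenW 275 (List.range 275) mcL5 []
    (mpgen mcT5x0 mcI5x0) 0 275 = true := by
  decide +kernel

theorem mpcl5x1 : pgChkGenW 275 (List.range 275) mcL5 []
    (mpgen mcT5x1 mcI5x1) 0 275 = true := by
  decide +kernel

theorem mpcl4x0 : pgChkGenW 275 (List.range 275) mcL4 [mcL5]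
    (mpgen mcT4x0 mcI4x0) 0 275 = true := by
  decide +kernel

theorem mpcl4x1 : pgChkGenW 275 (List.range 275) mcL4 [mcL5]
    (mpgen mcT4x1 mcI4x1) 0 275 = true := by
  decide +kernel

theorem mpcl4x2 : pgChkGenW 275 (List.range 275) mcL4 [mcL5]
    (mpgen mcT4x2 mcI4x2) 0 275 = true := by
  decide +kernel

theorem mpcl3x0 : pgChkGenW 275 (List.range 275) mcL3 [mcL4, mcL5]
    (mpgen mcT3x0 mcI3x0) 0 275 = true := by
  decide +kernel

theorem mpcl3x1 : pgChkGenW 275 (List.range 275) mcL3 [mcL4, mcL5]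
    (mpgen mcT3x1 mcI3x1) 0 275 = true := by
  decide +kernel

theorem mpcl2x0 : pgChkGenW 275 (List.range 275) mcL2 [mcL3, mcL4, mcL5]
    (mpgen mcT2x0 mcI2x0) 0 275 = true := by
  decide +kernel

theorem mpcl2x1 : pgChkGenW 275 (List.range 275) mcL2 [mcL3, mcL4, mcL5]
    (mpgen mcT2x1 mcI2x1) 0 275 = true := by
  decide +kernel

theorem mpcl1x0 : pgChkGenW 275 (List.range 275) mcL1 [mcL2, mcL3, mcL4, mcL5]
    (mpgen mcT1x0 mcI1x0) 0 275 = true := by
  decide +kernel

theorem mpcl1x1 : pgChkGenW 275 (List.range 275) mcL1 [mcL2, mcL3, mcL4, mcL5]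
    (mpgen mcT1x1 mcI1x1) 0 275 = true := by
  decide +kernel

theorem mpchkL5 : pgChkLvlW 275 (List.range 275) mcL5 [] = true := by
  apply mpChkLvlW_ofAll mpchk0x5
  intro s hs
  change s ∈ [mpgen mcT5x0 mcI5x0, mpgen mcT5x1 mcI5x1] at hs
  simp only [List.mem_cons, List.not_mem_nil, or_false] at hs
  rcases hs with rfl | rfl
  · exact mpcl5x0
  · exact mpcl5x1

theorem mpchkL4 : pgChkLvlW 275 (List.range 275) mcL4 [mcL5] = true := by
  apply mpChkLvlW_ofAll mpchk0x4
  intro s hs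
  change s ∈ [mpgen mcT4x0 mcI4x0, mpgen mcT4x1 mcI4x1, mpgen mcT4x2 mcI4x2] at hs
  simp only [List.mem_cons, List.not_mem_nil, or_false] at hs
  rcases hs with rfl | rfl | rfl
  · exact mpcl4x0
  · exact mpcl4x1
  · exact mpcl4x2

theorem mpchkL3 : pgChkLvlW 275 (List.range 275) mcL3 [mcL4, mcL5] = true := by
  apply mpChkLvlW_ofAll mpchk0x3
  intro s hs
  change s ∈ [mpgen mcT3x0 mcI3x0, mpgen mcT3x1 mcI3x1] at hs
  simp only [List.mem_cons, List.not_mem_nil, or_false] at hs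
  rcases hs with rfl | rfl
  · exact mpcl3x0
  · exact mpcl3x1

theorem mpchkL2 : pgChkLvlW 275 (List.range 275) mcL2 [mcL3, mcL4, mcL5] = true := by
  apply mpChkLvlW_ofAll mpchk0x2
  intro s hs
  change s ∈ [mpgen mcT2x0 mcI2x0, mpgen mcT2x1 mcI2x1] at hs
  simp only [List.mem_cons, List.not_mem_nil, or_false] at hs
  rcases hs with rfl | rfl
  · exact mpcl2x0
  · exact mpcl2x1

theorem mpchkL1 : pgChkLvlW 275 (List.range 275) mcL1 [mcL2, mcL3, mcL4, mcL5] = true := by
  apply mpChkLvlW_ofAll mpchk0x1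
  intro s hs
  change s ∈ [mpgen mcT1x0 mcI1x0, mpgen mcT1x1 mcI1x1] at hs
  simp only [List.mem_cons, List.not_mem_nil, or_false] at hs
  rcases hs with rfl | rfl
  · exact mpcl1x0
  · exact mpcl1x1

/-- the stabiliser chain -/
def mpC : List PgLvlW := [mcL1, mcL2, mcL3, mcL4, mcL5]

theorem mpchkC : pgChkW 275 (mpRigidTop 275).base mpC = true := by
  change pgChkW 275 (List.range 275) [mcL1, mcL2, mcL3, mcL4, mcL5] = true
  rw [pgChkW_cons, pgChkW_cons, pgChkW_cons, pgChkW_cons, pgChkW_cons, mpchkL1, mpchkL2, mpchkL3, mpchkL4, mpchkL5]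
  rfl

theorem mpok : ∀ P ∈ pgOwnW mpC, P.ok 275 = true :=
  pgChkW_own_ok 275 (mpRigidTop 275).base mpC mpchkC

theorem mpord : pgOrdW 275 mpC = 898128000 := by decide +kernel

theorem mpcard : Nat.card (pgGrpW 275 mpC) = 898128000 := by
  rw [pgCardW (mpRigidTop 275) mpC mpchkC le_top, mpord]

theorem mptabA : ∀ i : Fin 275, mplk mcT1x0 i.1 = mpA.getD i.1 0 := by decide +kernel

theorem mptabG : ∀ i : Fin 275, mplk mcT1x1 i.1 = mpG.getD i.1 0 := by decide +kernel

theorem mpmem0 : mpgen mcT1x0 mcI1x0 ∈ pgOwnW mpC := List.mem_cons_self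

theorem mpmem1 : mpgen mcT1x1 mcI1x1 ∈ pgOwnW mpC := List.mem_cons_of_mem _ List.mem_cons_self

theorem mpgen_eq0 : (mpgen mcT1x0 mcI1x0).perm 275 = mpSa := by
  ext i
  rw [PFun.perm_apply (mpok _ mpmem0)]
  exact mptabA i

theorem mpgen_eq1 : (mpgen mcT1x1 mcI1x1).perm 275 = mpSg := by
  ext i
  rw [PFun.perm_apply (mpok _ mpmem1)]
  exact mptabG i

theorem mpset_eq : pgSet 275 mcL1.own = {mpSa, mpSg} := by
  ext x
  constructor
  · rintro ⟨P, hP, rfl⟩
    change P ∈ [mpgen mcT1x0 mcI1x0, mpgen mcT1x1 mcI1x1] at hP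
    simp only [List.mem_cons, List.not_mem_nil, or_false] at hP
    rcases hP with rfl | rfl
    · exact Or.inl mpgen_eq0
    · exact Or.inr mpgen_eq1
  · rintro (rfl | rfl)
    · exact ⟨_, List.mem_cons_self, mpgen_eq0.symm⟩
    · exact ⟨_, List.mem_cons_of_mem _ List.mem_cons_self, mpgen_eq1.symm⟩

/-- the concrete group is the group of the chain -/
theorem M275_eq : M275 = pgGrpW 275 mpC := by
  unfold M275
  rw [← mpset_eq]
  rfl

/-- the order of the concrete group -/
theorem M275_card : Nat.card ↥M275 = 898128000 := by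
  rw [M275_eq]
  exact mpcard

/-- the McLaughlin group is isomorphic to the concrete group on 275 points -/
theorem M275_equiv : Nonempty (↥Cfsg.Spor.McL ≃* ↥M275) := mcl275_iso M275_card

end Cfsg.Agent.Lib.helper14.MP
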