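import Cfsg.Agent.Lib.helper14.MQa

set_option autoImplicit false
set_option maxRecDepth 1000000

/-!
# A concrete model of the Conway group `Co₃` on 276 points: the kernel computations
-/

namespace Cfsg.Agent.Lib.helper14.MQ

open Cfsg
open Cfsg.Agent.Lib.helper3 Cfsg.Agent.Lib.helper4 Cfsg.Agent.Lib.Lead.CW
open Cfsg.Agent.S0398 Cfsg.Agent.Lib.helper14.MP

/-! ### the vectors -/

theorem mqV_leech : ∀ i : Fin 276, isLeechB (mqV i) = true := by decide +kernel

/-- the `i`-th point -/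
def mqPt (i : Fin 276) : ↥leechLattice := ⟨mqV i, isLeechB_sound _ (mqV_leech i)⟩

theorem mqV_chk : ∀ i : Fin 276, sqNorm (mqV i) = 32 ∧
    sqNorm (fun p => mpU.1 p - mqV i p) = 32 ∧ 3 ≤ mqV i none := by
  decide +kernel

theorem mpU_none : mpU.1 none = 5 := by decide +kernel

theorem mqV_inj : ∀ i j : Fin 276, (∀ p, mqV i p = mqV j p) → i = j := by decide +kernel

/-! ### the coordinate permutation -/

theorem mqTa_inv : (∀ p, Helper12.Golay.tblFun mqTai (Helper12.Golay.tblFun mqTa p) = p) ∧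
    ∀ p, Helper12.Golay.tblFun mqTa (Helper12.Golay.tblFun mqTai p) = p := by decide +kernel

/-- the coordinate permutation -/
def mqPa : Equiv.Perm GolayPt :=
  ⟨Helper12.Golay.tblFun mqTa, Helper12.Golay.tblFun mqTai, mqTa_inv.1, mqTa_inv.2⟩

theorem mqPa_mem : mqPa ∈ M24 :=
  Helper12.Golay.mem_M24_of_table (Tinv := mqTai) ⟨rfl, by decide +kernel⟩ (by decide)
    (by decide +kernel)

/-- the first generator: a coordinate permutation -/
def mqEa : ↥Co0 := ⟨permE mqPa mqPa_mem, permE_mem _ _⟩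

theorem mqEa_val (x : ↥leechLattice) (p : GolayPt) :
    (mqEa.1 x).1 p = x.1 (Helper12.Golay.tblFun mqTa p) := rfl

theorem mqEa_tab : ∀ i : Fin 276,
    (∀ p : GolayPt, mqV i (Helper12.Golay.tblFun mqTa p) = mqV (mqA.getD i 0) p) ∨
    (∀ p : GolayPt, mqV i (Helper12.Golay.tblFun mqTa p) = mpU.1 p - mqV (mqA.getD i 0) p) := by
  decide +kernel

theorem mqEg_tab : ∀ i : Fin 276,
    (∀ p : GolayPt, gV (mqV i) p = mqV (mqG.getD i 0) p) ∨
    (∀ p : GolayPt, gV (mqV i) p = mpU.1 p - mqV (mqG.getD i 0) p) := by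
  decide +kernel

theorem mqEa_fix : ∀ p, mpU.1 (Helper12.Golay.tblFun mqTa p) = mpU.1 p := by decide +kernel

/-! ### the permutations of the 276 points -/

theorem mqA_inv : ∀ i : Fin 276, mqA.getD i 0 < 276 ∧ mqAi.getD i 0 < 276 ∧
    mqAi.getD (mqA.getD i 0) 0 = i ∧ mqA.getD (mqAi.getD i 0) 0 = i := by decide +kernel

theorem mqG_inv : ∀ i : Fin 276, mqG.getD i 0 < 276 ∧ mqGi.getD i 0 < 276 ∧
    mqGi.getD (mqG.getD i 0) 0 = i ∧ mqG.getD (mqGi.getD i 0) 0 = i := by decide +kernel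

/-- the permutation of the 276 points induced by the first generator -/
def mqSa : Equiv.Perm (Fin 276) where
  toFun i := ⟨mqA.getD i 0, (mqA_inv i).1⟩
  invFun i := ⟨mqAi.getD i 0, (mqA_inv i).2.1⟩
  left_inv i := Fin.ext (mqA_inv i).2.2.1
  right_inv i := Fin.ext (mqA_inv i).2.2.2

/-- the permutation of the 276 points induced by the second generator -/
def mqSg : Equiv.Perm (Fin 276) where
  toFun i := ⟨mqG.getD i 0, (mqG_inv i).1⟩
  invFun i := ⟨mqGi.getD i 0, (mqG_inv i).2.1⟩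
  left_inv i := Fin.ext (mqG_inv i).2.2.1
  right_inv i := Fin.ext (mqG_inv i).2.2.2

theorem mqEa_pt (i : Fin 276) :
    mqEa.1 (mqPt i) = mqPt (mqSa i) ∨ mqEa.1 (mqPt i) = mpU - mqPt (mqSa i) := by
  rcases mqEa_tab i with h | h
  · left
    apply Subtype.ext
    funext p
    exact h p
  · right
    apply Subtype.ext
    funext p
    exact h p

theorem mqEg_pt (i : Fin 276) :
    mpEg.1 (mqPt i) = mqPt (mqSg i) ∨ mpEg.1 (mqPt i) = mpU - mqPt (mqSg i) := by
  rcases mqEg_tab i with h | h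
  · left
    apply Subtype.ext
    funext p
    rw [mpEg_val]
    exact h p
  · right
    apply Subtype.ext
    funext p
    rw [mpEg_val]
    exact h p

theorem mqEa_U : mqEa.1 mpU = mpU := by
  apply Subtype.ext
  funext p
  exact mqEa_fix p

theorem mqPt_inj : Function.Injective mqPt := by
  intro i j h
  apply mqV_inj i j
  intro p
  exact congrFun (congrArg Subtype.val h) p

theorem mqPt_norm (i : Fin 276) : sqNorm (mqPt i).1 = 32 := (mqV_chk i).1

theorem mqPt_mate (i : Fin 276) : sqNorm (mpU - mqPt i).1 = 32 := (mqV_chk i).2.1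

theorem mqPt_none (i : Fin 276) : 3 ≤ (mqPt i).1 none := (mqV_chk i).2.2

end Cfsg.Agent.Lib.helper14.MQ
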