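import Cfsg.Agent.Lib.helper14.MQb

set_option autoImplicit false

/-!
# A concrete model of the Conway group `Co₃` on 276 points: the isomorphism

`Spor.Co3` acts faithfully on the 276 pairs `{y, u - y}`; the two explicit automorphisms `mqEa`,
`mpEg` induce the permutations `mqSa`, `mqSg`; if these generate a group of order `495766656000`
then this group is isomorphic to `Spor.Co3`.
-/

namespace Cfsg.Agent.Lib.helper14.MQ

open Cfsg MulAction Subgroup
open Cfsg.Agent.Lib.helper14.MP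

/-- the 552 vectors -/
def mqOm : Set ↥leechLattice := {y | sqNorm y.1 = 32 ∧ sqNorm (mpU - y).1 = 32}

theorem mqOm_ncard : mqOm.ncard = 552 := Cfsg.Agent.S1578.result mpU mpU_chk.1

theorem mate_mate (z : ↥leechLattice) : mpU - (mpU - z) = z := sub_sub_cancel mpU z

theorem mate_mem {z : ↥leechLattice} (hz : z ∈ mqOm) : mpU - z ∈ mqOm := by
  refine ⟨hz.2, ?_⟩
  rw [mate_mate]
  exact hz.1

theorem sub_none (a b : ↥leechLattice) : (a - b).1 none = a.1 none - b.1 none := rfl

theorem mqPt_ne_mate (i j : Fin 276) : mqPt i ≠ mpU - mqPt j := by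
  intro h
  have h1 := congrArg (fun z : ↥leechLattice => z.1 none) h
  simp only [sub_none, mpU_none] at h1
  have h2 := mqPt_none i
  have h3 := mqPt_none j
  omega

/-- the two families of vectors -/
def mqF : Fin 276 ⊕ Fin 276 → ↥leechLattice
  | Sum.inl i => mqPt i
  | Sum.inr i => mpU - mqPt i

theorem mqF_inj : Function.Injective mqF := by
  rintro (i | i) (j | j) h
  · exact congrArg Sum.inl (mqPt_inj h)
  · exact absurd h (mqPt_ne_mate i j)
  · exact absurd h.symm (mqPt_ne_mate j i)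
  · have : mqPt i = mqPt j := sub_right_injective h
    exact congrArg Sum.inr (mqPt_inj this)

theorem mqOm_eq : Set.range mqF = mqOm := by
  apply Set.eq_of_subset_of_ncard_le
  · rintro _ ⟨i | i, rfl⟩
    · exact ⟨mqPt_norm i, mqPt_mate i⟩
    · exact mate_mem ⟨mqPt_norm i, mqPt_mate i⟩
  · rw [mqOm_ncard, Set.ncard_range_of_injective mqF_inj]
    simp
  · exact Set.finite_of_ncard_ne_zero (by rw [mqOm_ncard]; norm_num)

/-- the index `j` belongs to the pair of `z` -/
def Rel (z : ↥leechLattice) (j : Fin 276) : Prop := mqPt j = z ∨ mqPt j = mpU - z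

theorem rel_exists {z : ↥leechLattice} (hz : z ∈ mqOm) : ∃ j, Rel z j := by
  rw [← mqOm_eq] at hz
  obtain ⟨i | i, rfl⟩ := hz
  · exact ⟨i, Or.inl rfl⟩
  · exact ⟨i, Or.inr (mate_mate _).symm⟩

theorem rel_unique {z : ↥leechLattice} {j j' : Fin 276} (h : Rel z j) (h' : Rel z j') : j = j' := by
  rcases h with h | h <;> rcases h' with h' | h'
  · exact mqPt_inj (h.trans h'.symm)
  · exact absurd (h' ▸ h ▸ rfl : mqPt j' = mpU - mqPt j) (mqPt_ne_mate j' j)
  · exact absurd (h ▸ h' ▸ rfl : mqPt j = mpU - mqPt j') (mqPt_ne_mate j j')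
  · exact mqPt_inj (h.trans h'.symm)

theorem rel_mate {z : ↥leechLattice} {j : Fin 276} (h : Rel z j) : Rel (mpU - z) j := by
  rcases h with h | h
  · exact Or.inr (by rw [mate_mate]; exact h)
  · exact Or.inl h

/-! ### membership of the group -/

theorem mem_co3_iff {g : Equiv.Perm ↥leechLattice} : g ∈ Spor.Co3 ↔
    ∃ h : g ∈ Co0, g mpU = mpU := by
  unfold Spor.Co3
  rw [Subgroup.mem_inf, mem_stabilizer_iff]
  constructor
  · rintro ⟨h1, h2⟩
    exact ⟨h1, (fix_V_iff ⟨g, h1⟩).1 h2⟩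
  · rintro ⟨h1, h2⟩
    exact ⟨h1, (fix_V_iff ⟨g, h1⟩).2 h2⟩

theorem mqEa_mem : mqEa.1 ∈ Spor.Co3 := mem_co3_iff.2 ⟨mqEa.2, mqEa_U⟩

theorem mqEg_mem : mpEg.1 ∈ Spor.Co3 := mem_co3_iff.2 ⟨mpEg.2, mpEg_U⟩

theorem map_mate (g : ↥Spor.Co3) (z : ↥leechLattice) : g.1 (mpU - z) = mpU - g.1 z := by
  obtain ⟨h0, hU⟩ := mem_co3_iff.1 g.2
  have := Cfsg.Agent.Lib.Lead.CP.map_sub' ⟨g.1, h0⟩ mpU z
  have e : (⟨g.1, h0⟩ : ↥Co0).1 mpU = mpU := hU
  rw [e] at this
  exact this

theorem map_mqOm (g : ↥Spor.Co3) {z : ↥leechLattice} (hz : z ∈ mqOm) : g.1 z ∈ mqOm := by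
  obtain ⟨h0, hU⟩ := mem_co3_iff.1 g.2
  refine ⟨(h0.2 z).trans hz.1, ?_⟩
  rw [← map_mate]
  exact (h0.2 (mpU - z)).trans hz.2

theorem mqPt_mem (i : Fin 276) : mqPt i ∈ mqOm := ⟨mqPt_norm i, mqPt_mate i⟩

/-! ### the action on the indices -/

/-- the image of an index -/
noncomputable def mqAct (g : ↥Spor.Co3) (i : Fin 276) : Fin 276 :=
  Classical.choose (rel_exists (map_mqOm g (mqPt_mem i)))

theorem rel_mqAct (g : ↥Spor.Co3) (i : Fin 276) : Rel (g.1 (mqPt i)) (mqAct g i) :=
  Classical.choose_spec (rel_exists (map_mqOm g (mqPt_mem i)))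

theorem rel_map (g : ↥Spor.Co3) {z : ↥leechLattice} {j : Fin 276} (h : Rel z j) :
    Rel (g.1 z) (mqAct g j) := by
  have h0 := rel_mqAct g j
  rcases h with h | h
  · rw [h] at h0
    exact h0
  · rw [h, map_mate] at h0
    have := rel_mate h0
    rw [mate_mate] at this
    exact this

theorem mqAct_mul (g h : ↥Spor.Co3) (i : Fin 276) : mqAct (g * h) i = mqAct g (mqAct h i) :=
  rel_unique (rel_mqAct (g * h) i) (rel_map g (rel_mqAct h i))

theorem mqAct_one (i : Fin 276) : mqAct 1 i = i :=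
  rel_unique (rel_mqAct 1 i) (Or.inl rfl)

/-- the permutation of the indices induced by an element -/
noncomputable def mqPerm (g : ↥Spor.Co3) : Equiv.Perm (Fin 276) where
  toFun := mqAct g
  invFun := mqAct g⁻¹
  left_inv i := by rw [← mqAct_mul, inv_mul_cancel, mqAct_one]
  right_inv i := by rw [← mqAct_mul, mul_inv_cancel, mqAct_one]

/-- the permutation representation on the 276 points -/
noncomputable def mqRho : ↥Spor.Co3 →* Equiv.Perm (Fin 276) where
  toFun := mqPerm
  map_one' := by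
    ext i
    exact congrArg Fin.val (mqAct_one i)
  map_mul' g h := by
    ext i
    exact congrArg Fin.val (mqAct_mul g h i)

theorem mqRho_rel (g : ↥Spor.Co3) (i : Fin 276) : Rel (g.1 (mqPt i)) (mqRho g i) := rel_mqAct g i

theorem rel_of_pt {z : ↥leechLattice} {j : Fin 276} (h : z = mqPt j ∨ z = mpU - mqPt j) :
    Rel z j := by
  rcases h with h | h
  · exact Or.inl h.symm
  · exact Or.inr (by rw [h, mate_mate])

theorem mqRho_a : mqRho ⟨mqEa.1, mqEa_mem⟩ = mqSa := by
  ext i
  apply congrArg Fin.val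
  exact rel_unique (mqRho_rel _ i) (rel_of_pt (mqEa_pt i))

theorem mqRho_g : mqRho ⟨mpEg.1, mqEg_mem⟩ = mqSg := by
  ext i
  apply congrArg Fin.val
  exact rel_unique (mqRho_rel _ i) (rel_of_pt (mqEg_pt i))

/-! ### simplicity and order -/

theorem leechV_norm : sqNorm Spor.leechV.1 = 48 := by decide +kernel

/-- comparison with the stabiliser in the automorphism group of the lattice -/
def mqEquiv : ↥Spor.Co3 ≃* ↥(stabilizer ↥Co0 Spor.leechV) where
  toFun g := ⟨⟨g.1, (Subgroup.mem_inf.1 g.2).1⟩, by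
    rw [mem_stabilizer_iff]
    exact mem_stabilizer_iff.1 (Subgroup.mem_inf.1 g.2).2⟩
  invFun k := ⟨k.1.1, by
    unfold Spor.Co3
    rw [Subgroup.mem_inf, mem_stabilizer_iff]
    exact ⟨k.1.2, mem_stabilizer_iff.1 k.2⟩⟩
  left_inv g := rfl
  right_inv k := rfl
  map_mul' g h := rfl

theorem co3_isCo3 : IsCo3 ↥Spor.Co3 := by
  have h := Cfsg.Agent.Lib.Lead.C3.isCo3 Spor.leechV leechV_norm
  haveI := h.1
  exact ⟨mqEquiv.isSimpleGroup, (Nat.card_congr mqEquiv.toEquiv).trans h.2⟩

theorem co3_card : Nat.card ↥Spor.Co3 = 495766656000 := co3_isCo3.2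

instance co3_simple : IsSimpleGroup ↥Spor.Co3 := co3_isCo3.1

instance co3_finite : Finite ↥Spor.Co3 :=
  Nat.finite_of_card_ne_zero (by rw [co3_card]; norm_num)

/-! ### faithfulness -/

theorem mqSg_ne_one : mqSg ≠ 1 := by
  intro h
  have := congrArg (fun s : Equiv.Perm (Fin 276) => (s 1).1) h
  revert this
  decide +kernel

theorem mqRho_injective : Function.Injective mqRho := by
  rw [← MonoidHom.ker_eq_bot_iff]
  rcases (inferInstance : mqRho.ker.Normal).eq_bot_or_eq_top with h | h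
  · exact h
  · exfalso
    have : (⟨mpEg.1, mqEg_mem⟩ : ↥Spor.Co3) ∈ mqRho.ker := by
      rw [h]
      exact Subgroup.mem_top _
    rw [MonoidHom.mem_ker, mqRho_g] at this
    exact mqSg_ne_one this

/-- the concrete group -/
def M276 : Subgroup (Equiv.Perm (Fin 276)) := closure {mqSa, mqSg}

theorem M276_le : M276 ≤ mqRho.range := by
  unfold M276
  rw [closure_le]
  rintro s (rfl | rfl)
  · exact ⟨_, mqRho_a⟩
  · exact ⟨_, mqRho_g⟩

theorem mq_range_card : Nat.card ↥mqRho.range = 495766656000 := by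
  rw [← Nat.card_congr (MonoidHom.ofInjective mqRho_injective).toEquiv, co3_card]

/-- the isomorphism, given the order of the concrete group -/
theorem co3_276_iso (hcard : Nat.card ↥M276 = 495766656000) : Nonempty (↥Spor.Co3 ≃* ↥M276) := by
  have h : M276 = mqRho.range :=
    Subgroup.eq_of_le_of_card_ge M276_le (by rw [mq_range_card, hcard])
  rw [h]
  exact ⟨MonoidHom.ofInjective mqRho_injective⟩

end Cfsg.Agent.Lib.helper14.MQ
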