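import Mathlib
import Cfsg.Prelude.Def_KGroupFacts
import Cfsg.Agent.Lib.helper4.J3OAbs
import Cfsg.Agent.Lib.helper4.OutCongr

set_option autoImplicit false

/-!
# A criterion for all automorphisms to be inner

A finite group `G` whose order is divisible by `23` exactly once, with an element `c` of order
`23` whose centraliser is a `23`-group, an element `u` with `u c u⁻¹ = c²`, an involution `z`
which is the only involution commuting with `u`, generated by `c` and `z`, and without an
automorphism inverting `c` and fixing `z`: every automorphism is inner.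
-/

namespace Cfsg.Agent.Lib.helper14.MR

open Subgroup Cfsg.Agent.Lib.helper4

theorem mod23_cases : ∀ k : Fin 23, k ≠ 0 →
    ∃ j : Fin 11, 2 ^ j.1 * k.1 % 23 = 1 ∨ 2 ^ j.1 * k.1 % 23 = 22 := by decide

theorem pow_conj_two {G : Type*} [Group G] (u c : G) (hu : u * c * u⁻¹ = c ^ 2) (j : ℕ) :
    u ^ j * c * (u ^ j)⁻¹ = c ^ 2 ^ j := by
  induction j with
  | zero => simp
  | succ j ih =>
    have e : u ^ (j + 1) * c * (u ^ (j + 1))⁻¹ = u * (u ^ j * c * (u ^ j)⁻¹) * u⁻¹ := by
      rw [pow_succ']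
      group
    rw [e, ih]
    have h2 : u * c ^ 2 ^ j * u⁻¹ = (u * c * u⁻¹) ^ 2 ^ j := by
      rw [conj_pow]
    rw [h2, hu, ← pow_mul, pow_succ, mul_comm]

theorem conj_pow_two {G : Type*} [Group G] (u c : G) (hu : u * c * u⁻¹ = c ^ 2) (j k : ℕ) :
    u ^ j * c ^ k * (u ^ j)⁻¹ = c ^ (2 ^ j * k) := by
  have := pow_conj_two u c hu j
  rw [← conj_pow, this, ← pow_mul]

/-- the centraliser of `c` is generated by `c` -/
theorem cent_eq_zpowers {G : Type*} [Group G] [Finite G] (c : G)
    (hfac : (Nat.card G).factorization 23 = 1) (hc : orderOf c = 23)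
    (hCc : ∀ x : G, x * c = c * x → x ^ 23 = 1) (x : G) (hx : x * c = c * x) :
    x ∈ zpowers c := by
  classical
  have : Fact (Nat.Prime 23) := ⟨by norm_num⟩
  have hle : zpowers c ≤ centralizer {c} := by
    rw [zpowers_le]
    rw [mem_centralizer_iff]
    intro y hy
    rw [Set.mem_singleton_iff] at hy
    rw [hy]
  have hp : IsPGroup 23 (centralizer ({c} : Set G)) := by
    intro y
    refine ⟨1, ?_⟩
    have hy := y.2
    rw [mem_centralizer_iff] at hy
    have := hCc y.1 (hy c rfl).symm
    apply Subtype.ext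
    rw [pow_one, SubgroupClass.coe_pow, this]
    rfl
  obtain ⟨n, hn⟩ := hp.exists_card_eq
  have hdvd : 23 ^ n ∣ Nat.card G := by
    rw [← hn]
    exact Subgroup.card_subgroup_dvd_card _
  have hG0 : Nat.card G ≠ 0 := Nat.card_pos.ne'
  have hn1 : n ≤ 1 := by
    rw [← hfac]
    exact (Nat.Prime.pow_dvd_iff_le_factorization (by norm_num) hG0).1 hdvd
  have hcard : Nat.card (centralizer ({c} : Set G)) ≤ Nat.card (zpowers c) := by
    rw [hn, Nat.card_zpowers, hc]
    calc 23 ^ n ≤ 23 ^ 1 := Nat.pow_le_pow_right (by norm_num) hn1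
      _ = 23 := by norm_num
  have heq := Subgroup.eq_of_le_of_card_ge hle hcard
  rw [heq, mem_centralizer_iff]
  intro y hy
  rw [Set.mem_singleton_iff] at hy
  rw [hy]
  exact hx.symm

/-- the criterion -/
theorem out_trivial {G : Type*} [Group G] [Finite G] (c u z : G)
    (hfac : (Nat.card G).factorization 23 = 1) (hc : orderOf c = 23)
    (hu : u * c * u⁻¹ = c ^ 2) (hgen : closure {c, z} = ⊤)
    (hCc : ∀ x : G, x * c = c * x → x ^ 23 = 1)
    (hz : orderOf z = 2) (hzu : z * u = u * z)
    (hCu : ∀ x : G, x * u = u * x → orderOf x = 2 → x = z)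
    (hex : ∀ γ : MulAut G, γ c = c⁻¹ → γ z = z → False) :
    Nat.card (Cfsg.Out G) = 1 := by
  classical
  have : Fact (Nat.Prime 23) := ⟨by norm_num⟩
  have hc23 : c ^ 23 = 1 := by rw [← hc, pow_orderOf_eq_one]
  have hc22 : c ^ 22 = c⁻¹ := by
    apply eq_inv_of_mul_eq_one_left
    rw [← pow_succ, hc23]
  have hcmod : ∀ n : ℕ, c ^ n = c ^ (n % 23) := by
    intro n
    rw [← hc, pow_mod_orderOf]
  have key : ∀ α : MulAut G, α ∈ Cfsg.Inn G := by
    intro α
    have hαc : orderOf (α c) = 23 := by rw [MulEquiv.orderOf_eq, hc]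
    obtain ⟨g, hg⟩ := conj_into_subgroup 23 (zpowers c) 1 hfac
      (by rw [Nat.card_zpowers, hc]; norm_num) (α c) hαc
    rw [mem_zpowers_iff_mem_range_orderOf, Finset.mem_image] at hg
    obtain ⟨k, hk, hck⟩ := hg
    rw [Finset.mem_range, hc] at hk
    have hk0 : k ≠ 0 := by
      intro h
      rw [h, pow_zero] at hck
      have : α c = 1 := by
        calc α c = g * (g⁻¹ * α c * g) * g⁻¹ := by group
          _ = 1 := by rw [← hck]; group
      rw [this, orderOf_one] at hαc
      norm_num at hαc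
    obtain ⟨j, hj⟩ := mod23_cases ⟨k, hk⟩ (by
      intro h
      apply hk0
      exact congrArg Fin.val h)
    -- first adjustment: `c` goes to `c` or its inverse
    set g1 : G := u ^ j.1 * g⁻¹ with hg1
    set β : MulAut G := MulAut.conj g1 * α with hβ
    have hβc : β c = c ∨ β c = c⁻¹ := by
      have e : β c = u ^ j.1 * (g⁻¹ * α c * g) * (u ^ j.1)⁻¹ := by
        rw [hβ, MulAut.mul_apply, MulAut.conj_apply, hg1]
        group
      rw [e, ← hck, conj_pow_two u c hu j.1 k, hcmod]
      rcases hj with h | h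
      · left; rw [h, pow_one]
      · right; rw [h, hc22]
    -- the image of `u` acts on `c` as `u` does
    have hβu : β u * c * (β u)⁻¹ = c ^ 2 := by
      have h1 : β u * β c * (β u)⁻¹ = (β c) ^ 2 := by
        rw [← map_inv, ← map_mul, ← map_mul, hu, map_pow]
      rcases hβc with h | h
      · rw [h] at h1; exact h1
      · rw [h] at h1
        have h2 : (β u * c⁻¹ * (β u)⁻¹)⁻¹ = ((c⁻¹) ^ 2)⁻¹ := by rw [h1]
        rw [inv_pow, inv_inv] at h2
        rw [← h2]
        group
    have hcomm : (u⁻¹ * β u) * c = c * (u⁻¹ * β u) := by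
      have h1 : β u * c = c ^ 2 * β u := by
        rw [← hβu]; group
      have h2 : u * c = c ^ 2 * u := by
        rw [← hu]; group
      have h3 : u⁻¹ * c ^ 2 = c * u⁻¹ := by
        have : u⁻¹ * (c ^ 2 * u) * u⁻¹ = u⁻¹ * (u * c) * u⁻¹ := by rw [h2]
        calc u⁻¹ * c ^ 2 = u⁻¹ * (c ^ 2 * u) * u⁻¹ := by group
          _ = u⁻¹ * (u * c) * u⁻¹ := this
          _ = c * u⁻¹ := by group
      calc (u⁻¹ * β u) * c = u⁻¹ * (β u * c) := by group
        _ = u⁻¹ * (c ^ 2 * β u) := by rw [h1]
        _ = (u⁻¹ * c ^ 2) * β u := by group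
        _ = (c * u⁻¹) * β u := by rw [h3]
        _ = c * (u⁻¹ * β u) := by group
    have hmem := cent_eq_zpowers c hfac hc hCc _ hcomm
    rw [mem_zpowers_iff_mem_range_orderOf, Finset.mem_image] at hmem
    obtain ⟨i, -, hi⟩ := hmem
    have hβu' : β u = u * c ^ i := by rw [hi]; group
    -- second adjustment: `u` goes to `u`
    have hcu : c ^ (2 * i) * u = u * c ^ i := by
      have := conj_pow_two u c hu 1 i
      rw [pow_one, pow_one] at this
      rw [← this]; group
    set γ : MulAut G := MulAut.conj (c ^ (2 * i)) * β with hγ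
    have hγu : γ u = u := by
      rw [hγ, MulAut.mul_apply, MulAut.conj_apply, hβu']
      calc c ^ (2 * i) * (u * c ^ i) * (c ^ (2 * i))⁻¹
          = (c ^ (2 * i) * u) * c ^ i * (c ^ (2 * i))⁻¹ := by group
        _ = (u * c ^ i) * c ^ i * (c ^ (2 * i))⁻¹ := by rw [hcu]
        _ = u * (c ^ i * c ^ i * (c ^ (2 * i))⁻¹) := by group
        _ = u := by rw [← pow_add, ← two_mul, mul_inv_cancel, mul_one]
    have hγc : γ c = β c := by
      rw [hγ, MulAut.mul_apply, MulAut.conj_apply]
      rcases hβc with h | h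
      · rw [h]
        calc c ^ (2 * i) * c * (c ^ (2 * i))⁻¹ = c ^ (2 * i) * (c ^ (2 * i))⁻¹ * c := by
              rw [mul_assoc, mul_assoc]
              congr 1
              rw [← zpow_natCast, ← zpow_neg]
              exact (Commute.zpow_right (Commute.refl c) _).eq
          _ = c := by rw [mul_inv_cancel, one_mul]
      · rw [h]
        calc c ^ (2 * i) * c⁻¹ * (c ^ (2 * i))⁻¹ = c ^ (2 * i) * (c ^ (2 * i))⁻¹ * c⁻¹ := by
              rw [mul_assoc, mul_assoc]
              congr 1
              rw [← zpow_natCast, ← zpow_neg, ← zpow_neg_one]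
              exact (Commute.zpow_zpow (Commute.refl c) _ _).eq
          _ = c⁻¹ := by rw [mul_inv_cancel, one_mul]
    have hγz : γ z = z := by
      apply hCu
      · calc γ z * u = γ z * γ u := by rw [hγu]
          _ = γ (z * u) := (map_mul γ z u).symm
          _ = γ (u * z) := by rw [hzu]
          _ = γ u * γ z := map_mul γ u z
          _ = u * γ z := by rw [hγu]
      · rw [MulEquiv.orderOf_eq, hz]
    have hγ1 : γ = 1 := by
      rcases hβc with h | h
      · apply aut_eq_of_gen c z hgen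
        · rw [hγc, h, MulAut.one_apply]
        · rw [hγz, MulAut.one_apply]
      · exact absurd (hex γ (by rw [hγc, h]) hγz) not_false
    have hα : α = (MulAut.conj (c ^ (2 * i) * g1))⁻¹ := by
      apply eq_inv_of_mul_eq_one_right
      rw [map_mul, mul_assoc, ← hβ, ← hγ, hγ1]
    rw [hα]
    exact Subgroup.inv_mem _ ⟨_, rfl⟩
  rw [Nat.card_eq_one_iff_unique]
  refine ⟨⟨?_⟩, ⟨1⟩⟩
  intro a b
  obtain ⟨α, rfl⟩ := QuotientGroup.mk_surjective a
  obtain ⟨β, rfl⟩ := QuotientGroup.mk_surjective b
  rw [QuotientGroup.eq]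
  exact key _

end Cfsg.Agent.Lib.helper14.MR
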