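import Cfsg.Agent.Lib.helper14.MRb

set_option autoImplicit false
set_option maxRecDepth 1000000

/-!
# The Conway group `Co₃` on 276 points, second chain: the checks of the stabiliser chain
-/

namespace Cfsg.Agent.Lib.helper14.MQ

open Cfsg.Agent.Lib.helper23 Subgroup MulAction

theorem mrcchk0x6 : pgChkLvlW0 276 mrcL6 [] = true := by decide +kernel

theorem mrcchk0x5 : pgChkLvlW0 276 mrcL5 [mrcL6] = true := by decide +kernel

theorem mrcchk0x4 : pgChkLvlW0 276 mrcL4 [mrcL5, mrcL6] = true := by decide +kernel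

theorem mrcchk0x3 : pgChkLvlW0 276 mrcL3 [mrcL4, mrcL5, mrcL6] = true := by decide +kernel

theorem mrcchk0x2 : pgChkLvlW0 276 mrcL2 [mrcL3, mrcL4, mrcL5, mrcL6] = true := by decide +kernel

theorem mrcchk0x1 : pgChkLvlW0 276 mrcL1 [mrcL2, mrcL3, mrcL4, mrcL5, mrcL6] = true := by decide +kernel

theorem mrccl6x0 : pgChkGenW 276 (List.range 276) mrcL6 []
    (mqgen mrcT6x0 mrcI6x0) 0 276 = true := by
  decide +kernel

theorem mrccl6x1 : pgChkGenW 276 (List.range 276) mrcL6 []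
    (mqgen mrcT6x1 mrcI6x1) 0 276 = true := by
  decide +kernel

theorem mrccl5x0 : pgChkGenW 276 (List.range 276) mrcL5 [mrcL6]
    (mqgen mrcT5x0 mrcI5x0) 0 276 = true := by
  decide +kernel

theorem mrccl5x1 : pgChkGenW 276 (List.range 276) mrcL5 [mrcL6]
    (mqgen mrcT5x1 mrcI5x1) 0 276 = true := by
  decide +kernel

theorem mrccl4x0 : pgChkGenW 276 (List.range 276) mrcL4 [mrcL5, mrcL6]
    (mqgen mrcT4x0 mrcI4x0) 0 276 = true := by
  decide +kernel

theorem mrccl4x1 : pgChkGenW 276 (List.range 276) mrcL4 [mrcL5, mrcL6]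
    (mqgen mrcT4x1 mrcI4x1) 0 276 = true := by
  decide +kernel

theorem mrccl3x0 : pgChkGenW 276 (List.range 276) mrcL3 [mrcL4, mrcL5, mrcL6]
    (mqgen mrcT3x0 mrcI3x0) 0 276 = true := by
  decide +kernel

theorem mrccl3x1 : pgChkGenW 276 (List.range 276) mrcL3 [mrcL4, mrcL5, mrcL6]
    (mqgen mrcT3x1 mrcI3x1) 0 276 = true := by
  decide +kernel

theorem mrccl2x0 : pgChkGenW 276 (List.range 276) mrcL2 [mrcL3, mrcL4, mrcL5, mrcL6]
    (mqgen mrcT2x0 mrcI2x0) 0 276 = true := by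
  decide +kernel

theorem mrccl2x1 : pgChkGenW 276 (List.range 276) mrcL2 [mrcL3, mrcL4, mrcL5, mrcL6]
    (mqgen mrcT2x1 mrcI2x1) 0 276 = true := by
  decide +kernel

theorem mrccl1x0 : pgChkGenW 276 (List.range 276) mrcL1 [mrcL2, mrcL3, mrcL4, mrcL5, mrcL6]
    (mqgen mrcT1x0 mrcI1x0) 0 276 = true := by
  decide +kernel

theorem mrccl1x1 : pgChkGenW 276 (List.range 276) mrcL1 [mrcL2, mrcL3, mrcL4, mrcL5, mrcL6]
    (mqgen mrcT1x1 mrcI1x1) 0 276 = true := by
  decide +kernel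

theorem mrcchkL6 : pgChkLvlW 276 (List.range 276) mrcL6 [] = true := by
  apply mqChkLvlW_ofAll mrcchk0x6
  intro s hs
  change s ∈ [mqgen mrcT6x0 mrcI6x0, mqgen mrcT6x1 mrcI6x1] at hs
  simp only [List.mem_cons, List.not_mem_nil, or_false] at hs
  rcases hs with rfl | rfl
  · exact mrccl6x0
  · exact mrccl6x1

theorem mrcchkL5 : pgChkLvlW 276 (List.range 276) mrcL5 [mrcL6] = true := by
  apply mqChkLvlW_ofAll mrcchk0x5
  intro s hs
  change s ∈ [mqgen mrcT5x0 mrcI5x0, mqgen mrcT5x1 mrcI5x1] at hs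
  simp only [List.mem_cons, List.not_mem_nil, or_false] at hs
  rcases hs with rfl | rfl
  · exact mrccl5x0
  · exact mrccl5x1

theorem mrcchkL4 : pgChkLvlW 276 (List.range 276) mrcL4 [mrcL5, mrcL6] = true := by
  apply mqChkLvlW_ofAll mrcchk0x4
  intro s hs
  change s ∈ [mqgen mrcT4x0 mrcI4x0, mqgen mrcT4x1 mrcI4x1] at hs
  simp only [List.mem_cons, List.not_mem_nil, or_false] at hs
  rcases hs with rfl | rfl
  · exact mrccl4x0
  · exact mrccl4x1

theorem mrcchkL3 : pgChkLvlW 276 (List.range 276) mrcL3 [mrcL4, mrcL5, mrcL6] = true := by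
  apply mqChkLvlW_ofAll mrcchk0x3
  intro s hs
  change s ∈ [mqgen mrcT3x0 mrcI3x0, mqgen mrcT3x1 mrcI3x1] at hs
  simp only [List.mem_cons, List.not_mem_nil, or_false] at hs
  rcases hs with rfl | rfl
  · exact mrccl3x0
  · exact mrccl3x1

theorem mrcchkL2 : pgChkLvlW 276 (List.range 276) mrcL2 [mrcL3, mrcL4, mrcL5, mrcL6] = true := by
  apply mqChkLvlW_ofAll mrcchk0x2
  intro s hs
  change s ∈ [mqgen mrcT2x0 mrcI2x0, mqgen mrcT2x1 mrcI2x1] at hs
  simp only [List.mem_cons, List.not_mem_nil, or_false] at hs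
  rcases hs with rfl | rfl
  · exact mrccl2x0
  · exact mrccl2x1

theorem mrcchkL1 : pgChkLvlW 276 (List.range 276) mrcL1 [mrcL2, mrcL3, mrcL4, mrcL5, mrcL6] = true := by
  apply mqChkLvlW_ofAll mrcchk0x1
  intro s hs
  change s ∈ [mqgen mrcT1x0 mrcI1x0, mqgen mrcT1x1 mrcI1x1] at hs
  simp only [List.mem_cons, List.not_mem_nil, or_false] at hs
  rcases hs with rfl | rfl
  · exact mrccl1x0
  · exact mrccl1x1

/-- the stabiliser chain -/
def mrC : List PgLvlW := [mrcL1, mrcL2, mrcL3, mrcL4, mrcL5, mrcL6]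

theorem mrchkC : pgChkW 276 (mqRigidTop 276).base mrC = true := by
  change pgChkW 276 (List.range 276) [mrcL1, mrcL2, mrcL3, mrcL4, mrcL5, mrcL6] = true
  rw [pgChkW_cons, pgChkW_cons, pgChkW_cons, pgChkW_cons, pgChkW_cons, pgChkW_cons, mrcchkL1, mrcchkL2, mrcchkL3, mrcchkL4, mrcchkL5, mrcchkL6]
  rfl

theorem mrok : ∀ P ∈ pgOwnW mrC, P.ok 276 = true :=
  pgChkW_own_ok 276 (mqRigidTop 276).base mrC mrchkC

theorem mrord : pgOrdW 276 mrC = 495766656000 := by decide +kernel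

theorem mrcard : Nat.card (pgGrpW 276 mrC) = 495766656000 := by
  rw [pgCardW (mqRigidTop 276) mrC mrchkC le_top, mrord]


end Cfsg.Agent.Lib.helper14.MQ
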