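import Cfsg.Agent.Lib.helper14.MRa
import Cfsg.Agent.Lib.helper14.MRc
import Cfsg.Agent.Lib.helper23.PgW

set_option autoImplicit false
set_option maxRecDepth 1000000

/-!
# The Conway group `Co₃` on 276 points: every automorphism is inner
-/

namespace Cfsg.Agent.Lib.helper14.MQ

open Cfsg.Agent.Lib.helper23 Subgroup MulAction

/-- the element of order 23 -/
def mrPc : PFun := mqgen mrcT1x0 mrcI1x0

/-- the involution -/
def mrPz : PFun := mqgen mrcT1x1 mrcI1x1

/-- the element of order 11 -/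
def mrPu : PFun := mqgen mrTu mrIu

theorem mrPc_ok : mrPc.ok 276 = true := mrok _ List.mem_cons_self

theorem mrPz_ok : mrPz.ok 276 = true := mrok _ (List.mem_cons_of_mem _ List.mem_cons_self)

theorem mrPu_ok : mrPu.ok 276 = true := by decide +kernel

/-- the element of order 23 -/
def mrSc : Equiv.Perm (Fin 276) := mrPc.perm 276

/-- the involution -/
def mrSz : Equiv.Perm (Fin 276) := mrPz.perm 276

/-- the element of order 11 -/
def mrSu : Equiv.Perm (Fin 276) := mrPu.perm 276

theorem mrRc : PgRep mrPc.f mrSc := PgRep.perm mrPc_ok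

theorem mrRz : PgRep mrPz.f mrSz := PgRep.perm mrPz_ok

theorem mrRu : PgRep mrPu.f mrSu := PgRep.perm mrPu_ok

theorem mrRci : PgRep mrPc.g mrSc⁻¹ := PgRep.perm_inv mrPc_ok

theorem mrRep_pow {n : ℕ} {f : ℕ → ℕ} {a : Equiv.Perm (Fin n)} (h : PgRep f a) (k : ℕ) :
    PgRep (fun p => pgIter f k p) (a ^ k) := fun p => pgIter_perm a f h k p

theorem mrSc_pow : mrSc ^ 23 = 1 := by
  have h := mrRep_pow mrRc 23
  exact (pgEq_iff h PgRep.one).1 (by decide +kernel)

theorem mrSc_ne : mrSc ≠ 1 := (pgEq_false_iff mrRc PgRep.one).1 (by decide +kernel)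

theorem mrSc_order : orderOf mrSc = 23 := by
  have : Fact (Nat.Prime 23) := ⟨by norm_num⟩
  exact orderOf_eq_prime mrSc_pow mrSc_ne

theorem mrSz_pow : mrSz ^ 2 = 1 := by
  have h := mrRep_pow mrRz 2
  exact (pgEq_iff h PgRep.one).1 (by decide +kernel)

theorem mrSz_ne : mrSz ≠ 1 := (pgEq_false_iff mrRz PgRep.one).1 (by decide +kernel)

theorem mrSz_order : orderOf mrSz = 2 := by
  have : Fact (Nat.Prime 2) := ⟨by norm_num⟩
  exact orderOf_eq_prime mrSz_pow mrSz_ne

theorem mrSu_c : mrSu * mrSc * mrSu⁻¹ = mrSc ^ 2 := by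
  have h1 := PgRep.mul mrRu mrRc
  have h2 := PgRep.mul (PgRep.mul mrRc mrRc) mrRu
  have h : mrSu * mrSc = mrSc * mrSc * mrSu := (pgEq_iff h1 h2).1 (by decide +kernel)
  rw [h, pow_two]
  group

theorem mrSz_u : mrSz * mrSu = mrSu * mrSz := by
  have h1 := PgRep.mul mrRz mrRu
  have h2 := PgRep.mul mrRu mrRz
  exact (pgEq_iff h1 h2).1 (by decide +kernel)

/-- a word in two elements -/
def mrW {G : Type*} [Group G] (x y : G) : G := x * y * x * x * y * x * x * x * y

theorem mrW_map {G : Type*} [Group G] (γ : MulAut G) (x y : G) :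
    γ (mrW x y) = mrW (γ x) (γ y) := by
  unfold mrW
  simp only [map_mul]

theorem mrW_pos : (mrW mrSc mrSz) ^ 8 = 1 := by
  have hW := ((((((((mrRc.mul mrRz).mul mrRc).mul mrRc).mul mrRz).mul mrRc).mul mrRc).mul
    mrRc).mul mrRz)
  have h := mrRep_pow hW 8
  exact (pgEq_iff h PgRep.one).1 (by decide +kernel)

theorem mrW_neg : (mrW mrSc⁻¹ mrSz) ^ 8 ≠ 1 := by
  have hW := ((((((((mrRci.mul mrRz).mul mrRci).mul mrRci).mul mrRz).mul mrRci).mul mrRci).mul
    mrRci).mul mrRz)
  have h := mrRep_pow hW 8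
  exact (pgEq_false_iff h PgRep.one).1 (by decide +kernel)

/-! ### Membership and generation -/

theorem mrSc_mem : mrSc ∈ M276 := by
  rw [M276_eq]
  exact pgSift_mem (mqRigidTop 276) mqchkC le_top mrPc_ok trivial (by decide +kernel)

theorem mrSz_mem : mrSz ∈ M276 := by
  rw [M276_eq]
  exact pgSift_mem (mqRigidTop 276) mqchkC le_top mrPz_ok trivial (by decide +kernel)

theorem mrSu_mem : mrSu ∈ M276 := by
  rw [M276_eq]
  exact pgSift_mem (mqRigidTop 276) mqchkC le_top mrPu_ok trivial (by decide +kernel)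

theorem mrset_eq : pgSet 276 mrcL1.own = {mrSc, mrSz} := by
  ext x
  constructor
  · rintro ⟨P, hP, rfl⟩
    change P ∈ [mrPc, mrPz] at hP
    simp only [List.mem_cons, List.not_mem_nil, or_false] at hP
    rcases hP with rfl | rfl
    · exact Or.inl rfl
    · exact Or.inr rfl
  · rintro (rfl | rfl)
    · exact ⟨_, List.mem_cons_self, rfl⟩
    · exact ⟨_, List.mem_cons_of_mem _ List.mem_cons_self, rfl⟩

theorem mrgrp_eq : pgGrpW 276 mrC = closure {mrSc, mrSz} := by
  rw [← mrset_eq]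
  rfl

/-- the two elements generate the group -/
theorem mrclosure : closure {mrSc, mrSz} = M276 := by
  have hle : closure {mrSc, mrSz} ≤ M276 := by
    rw [closure_le]
    rintro x (rfl | rfl)
    · exact mrSc_mem
    · exact mrSz_mem
  have : Finite ↥M276 := Nat.finite_of_card_ne_zero (by rw [M276_card]; norm_num)
  apply Subgroup.eq_of_le_of_card_ge hle
  rw [M276_card, ← mrgrp_eq, mrcard]

end Cfsg.Agent.Lib.helper14.MQ
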