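import Cfsg.Agent.Lib.helper14.MRd

set_option autoImplicit false
set_option maxRecDepth 1000000

/-!
# The Conway group `Co₃` on 276 points: two centralisers
-/

namespace Cfsg.Agent.Lib.helper14.MQ

open Cfsg.Agent.Lib.helper23 Subgroup MulAction

theorem mrcentC : pgEnumM 276 9 (pgCentPrune mrPc.f) (pgCentTest 276 9 mrPc.f [23]) mqC 2
    (fun p => p) [] = true := by decide +kernel

/-- the elements commuting with the element of order 23 have order dividing 23 -/
theorem mrcent_c : ∀ h ∈ M276, h * mrSc = mrSc * h → h ^ 23 = 1 := by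
  intro h hh hc
  rw [M276_eq] at hh
  obtain ⟨K, hK, hK2⟩ := pgCent_main (w := 9) (by norm_num) (mqRigidTop 276) mqchkC le_top
    mrPc.f [23] 2 mrSc mrRc mrcentC h hh hc
  rw [List.mem_singleton] at hK
  rw [← hK]
  exact hK2

/-- the test for the centraliser of the element of order 11: an element of square one is the
identity or the involution -/
def mrInvTest (f : ℕ → ℕ) : Bool :=
  pgForce (pgMk 9 276 f) (fun T =>
    cond (pgEq 276 (fun p => pgLk 9 T (pgLk 9 T p)) (fun p => p))
      (pgEq 276 (fun p => pgLk 9 T p) (fun p => p) || pgEq 276 (fun p => pgLk 9 T p) mrPz.f) true)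

theorem mrcentU : pgEnumM 276 9 (pgCentPrune mrPu.f)
    (fun f => cond (pgAll 276 (fun p => Nat.beq (f (mrPu.f p)) (mrPu.f (f p)))) (mrInvTest f) true)
    mrC 2 (fun p => p) [] = true := by decide +kernel

/-- the involution is the only involution commuting with the element of order 11 -/
theorem mrcent_u : ∀ h ∈ M276, h * mrSu = mrSu * h → orderOf h = 2 → h = mrSz := by
  intro h hh hc ho
  rw [← mrclosure, ← mrgrp_eq] at hh
  obtain ⟨f, hf, ht⟩ := pgCent_gen (w := 9) (by norm_num) (mqRigidTop 276) mrchkC le_top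
    mrPu.f mrInvTest 2 mrSu mrRu mrcentU h hh hc
  unfold mrInvTest at ht
  rw [pgForce_eq] at ht
  have hlk : PgRep (fun p => pgLk 9 (pgMk 9 276 f) p) h := by
    intro p
    show pgLk 9 (pgMk 9 276 f) p.1 = _
    rw [pgMk_lk 9 276 f ?_ p.1 p.2, hf]
    intro k hk
    rw [hf ⟨k, hk⟩]
    exact lt_of_lt_of_le (h ⟨k, hk⟩).2 (by norm_num)
  have h2 : h * h = 1 := by
    rw [← pow_two, ← ho]
    exact pow_orderOf_eq_one h
  have e1 : pgEq 276 (fun p => pgLk 9 (pgMk 9 276 f) (pgLk 9 (pgMk 9 276 f) p)) (fun p => p) =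
      true := (pgEq_iff (PgRep.mul hlk hlk) PgRep.one).2 h2
  rw [e1] at ht
  simp only [cond_true, Bool.or_eq_true] at ht
  rcases ht with ht | ht
  · exfalso
    have : h = 1 := (pgEq_iff hlk PgRep.one).1 ht
    rw [this, orderOf_one] at ho
    norm_num at ho
  · exact (pgEq_iff hlk mrRz).1 ht

end Cfsg.Agent.Lib.helper14.MQ
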