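import Cfsg.Agent.Lib.helper14.MRe

set_option autoImplicit false

/-!
# The Conway group `Co₃`: every automorphism is inner
-/

namespace Cfsg.Agent.Lib.helper14.MQ

open Cfsg.Agent.Lib.helper23 Cfsg.Agent.Lib.helper4 Subgroup MulAction

theorem mrFact23 : (495766656000 : ℕ).factorization 23 = 1 := by
  have e : (495766656000 : ℕ) = 23 ^ 1 * 21555072000 := by norm_num
  rw [e, Nat.factorization_mul (by norm_num) (by norm_num),
    Nat.Prime.factorization_pow (by norm_num)]
  have : (21555072000 : ℕ).factorization 23 = 0 :=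
    Nat.factorization_eq_zero_of_not_dvd (by norm_num)
  simp [this]

instance M276_finite : Finite ↥M276 :=
  Nat.finite_of_card_ne_zero (by rw [M276_card]; norm_num)

/-- every automorphism of the concrete group is inner -/
theorem M276_out : Nat.card (Cfsg.Out ↥M276) = 1 := by
  apply MR.out_trivial (⟨mrSc, mrSc_mem⟩ : ↥M276) ⟨mrSu, mrSu_mem⟩ ⟨mrSz, mrSz_mem⟩
  · rw [M276_card]; exact mrFact23
  · rw [← Subgroup.orderOf_coe]; exact mrSc_order
  · apply Subtype.ext
    simp only [Subgroup.coe_mul, Subgroup.coe_inv, Subgroup.coe_pow]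
    exact mrSu_c
  · -- generation
    rw [eq_top_iff]
    rintro ⟨x, hx⟩ -
    have hx' : x ∈ closure ({mrSc, mrSz} : Set (Equiv.Perm (Fin 276))) := by
      rw [mrclosure]; exact hx
    have : ∀ y (hy : y ∈ closure ({mrSc, mrSz} : Set (Equiv.Perm (Fin 276)))),
        ∀ hy' : y ∈ M276, (⟨y, hy'⟩ : ↥M276) ∈
          closure ({⟨mrSc, mrSc_mem⟩, ⟨mrSz, mrSz_mem⟩} : Set ↥M276) := by
      intro y hy
      induction hy using Subgroup.closure_induction with
      | mem s hs =>
        intro hs'
        apply Subgroup.subset_closure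
        rcases hs with rfl | rfl
        · exact Or.inl rfl
        · exact Or.inr rfl
      | one => intro _; exact one_mem _
      | mul a b ha hb iha ihb =>
        intro _
        have ha' : a ∈ M276 := by rw [← mrclosure]; exact ha
        have hb' : b ∈ M276 := by rw [← mrclosure]; exact hb
        exact mul_mem (iha ha') (ihb hb')
      | inv a ha iha =>
        intro _
        have ha' : a ∈ M276 := by rw [← mrclosure]; exact ha
        exact inv_mem (iha ha')
    exact this x hx' hx
  · intro x hx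
    apply Subtype.ext
    rw [Subgroup.coe_pow]
    apply mrcent_c x.1 x.2
    have := congrArg Subtype.val hx
    simpa only [Subgroup.coe_mul] using this
  · rw [← Subgroup.orderOf_coe]; exact mrSz_order
  · apply Subtype.ext
    simp only [Subgroup.coe_mul]
    exact mrSz_u
  · intro x hx ho
    apply Subtype.ext
    apply mrcent_u x.1 x.2
    · have := congrArg Subtype.val hx
      simpa only [Subgroup.coe_mul] using this
    · rw [Subgroup.orderOf_coe]; exact ho
  · intro γ hc hz
    have h1 : γ (mrW (⟨mrSc, mrSc_mem⟩ : ↥M276) ⟨mrSz, mrSz_mem⟩) =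
        mrW (⟨mrSc, mrSc_mem⟩ : ↥M276)⁻¹ ⟨mrSz, mrSz_mem⟩ := by
      rw [mrW_map, hc, hz]
    have h2 : (mrW (⟨mrSc, mrSc_mem⟩ : ↥M276) ⟨mrSz, mrSz_mem⟩) ^ 8 = 1 := by
      apply Subtype.ext
      have := mrW_pos
      unfold mrW at this ⊢
      simp only [Subgroup.coe_mul, Subgroup.coe_pow, Subgroup.coe_one]
      exact this
    have h3 : (mrW (⟨mrSc, mrSc_mem⟩ : ↥M276)⁻¹ ⟨mrSz, mrSz_mem⟩) ^ 8 = 1 := by
      rw [← h1, ← map_pow, h2, map_one]
    apply mrW_neg
    have := congrArg Subtype.val h3
    unfold mrW at this ⊢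
    simpa only [Subgroup.coe_mul, Subgroup.coe_pow, Subgroup.coe_one, Subgroup.coe_inv] using this

/-- every automorphism of the Conway group `Co₃` is inner -/
theorem co3_out : Nat.card (Cfsg.Out ↥Cfsg.Spor.Co3) = 1 := by
  obtain ⟨e⟩ := M276_equiv
  rw [out_card_congr_equiv e]
  exact M276_out

end Cfsg.Agent.Lib.helper14.MQ
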