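import Cfsg.Agent.Lib.helper14.MSa

set_option autoImplicit false
set_option maxRecDepth 1000000

/-!
# A concrete model of the Conway group `Co₂` on 4600 points: Conway's automorphism on the vectors
-/

namespace Cfsg.Agent.Lib.helper14.MS

open Cfsg
open Cfsg.Agent.Lib.helper3 Cfsg.Agent.Lib.helper4 Cfsg.Agent.Lib.Lead.CW

theorem ms_st1a : ∀ k : Fin 1150, ∀ p : GolayPt, xiV (msV k.1) p = msY1 k.1 p := by
  decide +kernel

theorem ms_st1b : ∀ k : Fin 1150, ∀ p : GolayPt, xiV (msV (k.1 + 1150)) p = msY1 (k.1 + 1150) p := by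
  decide +kernel

theorem ms_st1c : ∀ k : Fin 1150, ∀ p : GolayPt, xiV (msV (k.1 + 2300)) p = msY1 (k.1 + 2300) p := by
  decide +kernel

theorem ms_st1d : ∀ k : Fin 1150, ∀ p : GolayPt, xiV (msV (k.1 + 3450)) p = msY1 (k.1 + 3450) p := by
  decide +kernel

theorem ms_st1 (i : Fin 4600) : xiV (msV i.1) = msY1 i.1 := by
  funext p
  obtain ⟨i, hi⟩ := i
  by_cases h0 : i < 1150
  · exact ms_st1a ⟨i, h0⟩ p
  by_cases h1 : i < 2300
  · have := ms_st1b ⟨i - 1150, by omega⟩ p
    rwa [show i - 1150 + 1150 = i by omega] at this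
  by_cases h2 : i < 3450
  · have := ms_st1c ⟨i - 2300, by omega⟩ p
    rwa [show i - 2300 + 2300 = i by omega] at this
  · have := ms_st1d ⟨i - 3450, by omega⟩ p
    rwa [show i - 3450 + 3450 = i by omega] at this

end Cfsg.Agent.Lib.helper14.MS
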