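import Cfsg.Agent.Lib.helper14.MSa
import Cfsg.Agent.Lib.helper23.PgE

set_option autoImplicit false
set_option maxRecDepth 1000000

/-!
# A concrete model of the Conway group `Co₂` on 4600 points: the other kernel computations
-/

namespace Cfsg.Agent.Lib.helper14.MS

open Cfsg
open Cfsg.Agent.Lib.helper3 Cfsg.Agent.Lib.helper4 Cfsg.Agent.Lib.Lead.CW
open Cfsg.Agent.Lib.helper23
open Cfsg.Agent.S0398

/-! ### the coordinate permutations on the vectors -/

theorem ms_st2 : ∀ i : Fin 4600, ∀ p : GolayPt,
    msY1 i (Helper12.Golay.tblFun msTg p) = msV (mslk msTG i) p := by decide +kernel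

theorem msEa_tab : ∀ i : Fin 4600, ∀ p : GolayPt,
    msV i (Helper12.Golay.tblFun msTa p) = msV (mslk msTA i) p := by decide +kernel

/-! ### the vectors -/

theorem msV0_leech : isLeechB (msV 0) = true := by decide +kernel

theorem msV0_chk : sqNorm (msV 0) = 32 ∧ dotInt Spor.leechU.1 (msV 0) = -16 := by decide +kernel

theorem msV_enc : ∀ i : Fin 4600, encV (msV i) = msCode i := by decide +kernel

theorem msCode_lt : ∀ i : Fin 4599, msCode i.1 < msCode (i.1 + 1) := by decide +kernel

/-! ### the tables -/

/-- the first generator as a pair of lookup functions -/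
def msPA : PFun := ⟨fun i => mslk msTA i, fun i => mslk msIA i⟩

/-- the second generator as a pair of lookup functions -/
def msPG : PFun := ⟨fun i => mslk msTG i, fun i => mslk msIG i⟩

theorem msPA_ok : msPA.ok 4600 = true := by decide +kernel

theorem msPG_ok : msPG.ok 4600 = true := by decide +kernel

/-- the spanning tree: every index but `0` is the image of an index of smaller depth -/
theorem msTree : ∀ j : Fin 4600, j.1 = 0 ∨ (mslk msPar j < 4600 ∧ msdep (mslk msPar j) < msdep j ∧
    (mslk msTA (mslk msPar j) = j ∨ mslk msTG (mslk msPar j) = j)) := by decide +kernel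

/-! ### the coordinate permutations and the fixed vector -/

theorem msTa_inv : (∀ p, Helper12.Golay.tblFun msTai (Helper12.Golay.tblFun msTa p) = p) ∧
    ∀ p, Helper12.Golay.tblFun msTa (Helper12.Golay.tblFun msTai p) = p := by decide +kernel

theorem msTg_inv : (∀ p, Helper12.Golay.tblFun msTgi (Helper12.Golay.tblFun msTg p) = p) ∧
    ∀ p, Helper12.Golay.tblFun msTg (Helper12.Golay.tblFun msTgi p) = p := by decide +kernel

/-- the coordinate permutation of the first generator -/
def msPa : Equiv.Perm GolayPt :=
  ⟨Helper12.Golay.tblFun msTa, Helper12.Golay.tblFun msTai, msTa_inv.1, msTa_inv.2⟩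

/-- the coordinate permutation of the second generator -/
def msPg : Equiv.Perm GolayPt :=
  ⟨Helper12.Golay.tblFun msTg, Helper12.Golay.tblFun msTgi, msTg_inv.1, msTg_inv.2⟩

theorem msPa_mem : msPa ∈ M24 :=
  Helper12.Golay.mem_M24_of_table (Tinv := msTai) ⟨rfl, by decide +kernel⟩ (by decide)
    (by decide +kernel)

theorem msPg_mem : msPg ∈ M24 :=
  Helper12.Golay.mem_M24_of_table (Tinv := msTgi) ⟨rfl, by decide +kernel⟩ (by decide)
    (by decide +kernel)

theorem msEa_fix : ∀ p, Spor.leechU.1 (Helper12.Golay.tblFun msTa p) = Spor.leechU.1 p := by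
  decide +kernel

theorem msEg_fix : ∀ p, xiV Spor.leechU.1 (Helper12.Golay.tblFun msTg p) = Spor.leechU.1 p := by
  decide +kernel

end Cfsg.Agent.Lib.helper14.MS
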