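import Cfsg.Agent.Lib.helper14.MSb
import Cfsg.Agent.Lib.helper14.MSc
import Cfsg.Agent.Lib.Lead.Co2B
import Cfsg.Agent.S1573

set_option autoImplicit false
set_option maxRecDepth 1000000

/-!
# A concrete model of the Conway group `Co₂` on 4600 points: the isomorphism

`Spor.Co2` acts faithfully on the 4600 minimal vectors having inner product `-16` with the fixed
vector; two explicit automorphisms induce the permutations `msSa`, `msSg`; if these generate a
group of order `42305421312000` then this group is isomorphic to `Spor.Co2`.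
-/

namespace Cfsg.Agent.Lib.helper14.MS

open Cfsg MulAction Subgroup
open Cfsg.Agent.Lib.helper3 Cfsg.Agent.Lib.helper4 Cfsg.Agent.Lib.Lead.CW
open Cfsg.Agent.Lib.helper23
open Cfsg.Agent.S0398

/-! ### the two automorphisms of the lattice -/

/-- the first generator: a coordinate permutation -/
def msEa : ↥Co0 := ⟨permE msPa msPa_mem, permE_mem _ _⟩

/-- the second generator: Conway's automorphism followed by a coordinate permutation -/
def msEg : ↥Co0 := ⟨permE msPg msPg_mem, permE_mem _ _⟩ * ⟨xiE, xiE_mem⟩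

theorem msEa_val (x : ↥leechLattice) (p : GolayPt) :
    (msEa.1 x).1 p = x.1 (Helper12.Golay.tblFun msTa p) := rfl

theorem msEg_val (x : ↥leechLattice) (p : GolayPt) :
    (msEg.1 x).1 p = xiV x.1 (Helper12.Golay.tblFun msTg p) := rfl

theorem msEa_V : msEa.1 Spor.leechU = Spor.leechU := by
  apply Subtype.ext
  funext p
  rw [msEa_val]
  exact msEa_fix p

theorem msEg_V : msEg.1 Spor.leechU = Spor.leechU := by
  apply Subtype.ext
  funext p
  rw [msEg_val]
  exact msEg_fix p

/-! ### the vectors lie in the lattice -/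

/-- the property of a vector to be one of the points -/
def msGood (x : V) : Prop :=
  ∃ _ : x ∈ leechLattice, sqNorm x = 32 ∧ dotInt Spor.leechU.1 x = -16

theorem msGood_map (g : ↥Co0) (hg : g.1 Spor.leechU = Spor.leechU) (x : V) (hx : msGood x)
    (y : V) (hy : ∀ h : x ∈ leechLattice, (g.1 ⟨x, h⟩).1 = y) : msGood y := by
  obtain ⟨h, h1, h2⟩ := hx
  have e := hy h
  refine ⟨?_, ?_, ?_⟩
  · rw [← e]; exact (g.1 ⟨x, h⟩).2
  · rw [← e]; exact (g.2.2 ⟨x, h⟩).trans h1
  · rw [← e]
    have := Cfsg.Agent.Lib.Lead.CP.dot_map g Spor.leechU ⟨x, h⟩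
    rw [hg] at this
    rw [this]
    exact h2

theorem msGood_a (i : Fin 4600) (h : msGood (msV i.1)) : msGood (msV (mslk msTA i.1)) := by
  apply msGood_map msEa msEa_V _ h
  intro hx
  funext p
  rw [msEa_val]
  exact msEa_tab i p

theorem msGood_g (i : Fin 4600) (h : msGood (msV i.1)) : msGood (msV (mslk msTG i.1)) := by
  apply msGood_map msEg msEg_V _ h
  intro hx
  funext p
  rw [msEg_val]
  show xiV (msV i.1) (Helper12.Golay.tblFun msTg p) = _
  rw [ms_st1 i]
  exact ms_st2 i p

theorem msGood_zero : msGood (msV 0) :=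
  ⟨isLeechB_sound _ msV0_leech, msV0_chk.1, msV0_chk.2⟩

theorem msGood_all : ∀ d : ℕ, ∀ j : Fin 4600, msdep j.1 ≤ d → msGood (msV j.1) := by
  intro d
  induction d with
  | zero =>
    intro j hj
    rcases msTree j with h | ⟨_, h2, _⟩
    · rw [h]; exact msGood_zero
    · omega
  | succ d ih =>
    intro j hj
    rcases msTree j with h | ⟨h1, h2, h3⟩
    · rw [h]; exact msGood_zero
    · have hp := ih ⟨mslk msPar j.1, h1⟩ (by simp only; omega)
      rcases h3 with h3 | h3
      · have := msGood_a ⟨mslk msPar j.1, h1⟩ hp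
        rwa [h3] at this
      · have := msGood_g ⟨mslk msPar j.1, h1⟩ hp
        rwa [h3] at this

theorem msV_good (i : Fin 4600) : msGood (msV i.1) := msGood_all _ i le_rfl

/-- the `i`-th point -/
def msPt (i : Fin 4600) : ↥leechLattice := ⟨msV i.1, (msV_good i).1⟩

theorem msCode_mono : ∀ j : ℕ, j < 4600 → ∀ i : ℕ, i < j → msCode i < msCode j := by
  intro j
  induction j with
  | zero => intro _ i hi; omega
  | succ j ih =>
    intro hj i hi
    have h1 := msCode_lt ⟨j, by omega⟩
    rcases Nat.lt_succ_iff_lt_or_eq.1 hi with h | h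
    · exact lt_trans (ih (by omega) i h) h1
    · rw [h]; exact h1

theorem msPt_inj : Function.Injective msPt := by
  intro i j h
  have hv : msV i.1 = msV j.1 := congrArg Subtype.val h
  have hc : msCode i.1 = msCode j.1 := by
    rw [← msV_enc i, ← msV_enc j, hv]
  apply Fin.ext
  rcases lt_trichotomy i.1 j.1 with h1 | h1 | h1
  · exact absurd hc (ne_of_lt (msCode_mono j.1 j.2 i.1 h1))
  · exact h1
  · exact absurd hc.symm (ne_of_lt (msCode_mono i.1 i.2 j.1 h1))

/-! ### the set of points -/

/-- the set of points -/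
def msX : Set ↥leechLattice :=
  {w | sqNorm w.1 = 32 ∧ dotInt Spor.leechU.1 w.1 = -16}

theorem leechU_norm : sqNorm Spor.leechU.1 = 32 := by decide +kernel

theorem msX_ncard : msX.ncard = 4600 := by
  have h := (Cfsg.Agent.S1573.result Spor.leechU.1 Spor.leechU.2 leechU_norm).1
  rw [← h, ← Set.ncard_image_of_injective msX Subtype.val_injective]
  congr 1
  ext w
  constructor
  · rintro ⟨x, ⟨h1, h2⟩, rfl⟩
    exact ⟨x.2, h1, h2⟩
  · rintro ⟨h0, h1, h2⟩
    exact ⟨⟨w, h0⟩, ⟨h1, h2⟩, rfl⟩

theorem msPt_mem (i : Fin 4600) : msPt i ∈ msX := (msV_good i).2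

theorem msX_eq : Set.range msPt = msX := by
  apply Set.eq_of_subset_of_ncard_le
  · rintro _ ⟨i, rfl⟩
    exact msPt_mem i
  · rw [msX_ncard, Set.ncard_range_of_injective msPt_inj]
    simp
  · exact Set.finite_of_ncard_ne_zero (by rw [msX_ncard]; norm_num)

/-! ### membership of the group -/

theorem mem_co2_iff {g : Equiv.Perm ↥leechLattice} : g ∈ Spor.Co2 ↔
    g ∈ Co0 ∧ g Spor.leechU = Spor.leechU := by
  unfold Spor.Co2
  rw [Subgroup.mem_inf, mem_stabilizer_iff]
  rfl

theorem msEa_mem : msEa.1 ∈ Spor.Co2 := mem_co2_iff.2 ⟨msEa.2, msEa_V⟩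

theorem msEg_mem : msEg.1 ∈ Spor.Co2 := mem_co2_iff.2 ⟨msEg.2, msEg_V⟩

/-- the group preserves the set of points -/
theorem map_msX (g : ↥Spor.Co2) (x : ↥leechLattice) (hx : x ∈ msX) : g.1 x ∈ msX := by
  obtain ⟨h0, hV⟩ := mem_co2_iff.1 g.2
  obtain ⟨h1, h2⟩ := hx
  let g' : ↥Co0 := ⟨g.1, h0⟩
  refine ⟨(h0.2 x).trans h1, ?_⟩
  have := Cfsg.Agent.Lib.Lead.CP.dot_map g' Spor.leechU x
  have hV' : g'.1 Spor.leechU = Spor.leechU := hV
  rw [hV'] at this
  rw [← h2]
  exact this

/-! ### the action on the indices -/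

theorem exists_idx (g : ↥Spor.Co2) (i : Fin 4600) : ∃ j : Fin 4600, msPt j = g.1 (msPt i) := by
  have h := map_msX g (msPt i) (msPt_mem i)
  rw [← msX_eq] at h
  exact h

/-- the image of an index -/
noncomputable def msAct (g : ↥Spor.Co2) (i : Fin 4600) : Fin 4600 :=
  Classical.choose (exists_idx g i)

theorem msPt_msAct (g : ↥Spor.Co2) (i : Fin 4600) : msPt (msAct g i) = g.1 (msPt i) :=
  Classical.choose_spec (exists_idx g i)

theorem msAct_mul (g h : ↥Spor.Co2) (i : Fin 4600) : msAct (g * h) i = msAct g (msAct h i) := by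
  apply msPt_inj
  rw [msPt_msAct, msPt_msAct, msPt_msAct]
  rfl

theorem msAct_one (i : Fin 4600) : msAct 1 i = i := by
  apply msPt_inj
  rw [msPt_msAct]
  rfl

/-- the permutation of the indices induced by an element -/
noncomputable def msPerm (g : ↥Spor.Co2) : Equiv.Perm (Fin 4600) where
  toFun := msAct g
  invFun := msAct g⁻¹
  left_inv i := by rw [← msAct_mul, inv_mul_cancel, msAct_one]
  right_inv i := by rw [← msAct_mul, mul_inv_cancel, msAct_one]

/-- the permutation representation on the 4600 points -/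
noncomputable def msRho : ↥Spor.Co2 →* Equiv.Perm (Fin 4600) where
  toFun := msPerm
  map_one' := by
    ext i
    exact congrArg Fin.val (msAct_one i)
  map_mul' g h := by
    ext i
    exact congrArg Fin.val (msAct_mul g h i)

theorem msRho_apply (g : ↥Spor.Co2) (i : Fin 4600) : msPt (msRho g i) = g.1 (msPt i) :=
  msPt_msAct g i

/-- the permutation of the 4600 points induced by the first generator -/
def msSa : Equiv.Perm (Fin 4600) := msPA.perm 4600

/-- the permutation of the 4600 points induced by the second generator -/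
def msSg : Equiv.Perm (Fin 4600) := msPG.perm 4600

theorem msSa_val (i : Fin 4600) : (msSa i).1 = mslk msTA i.1 := PFun.perm_apply msPA_ok i

theorem msSg_val (i : Fin 4600) : (msSg i).1 = mslk msTG i.1 := PFun.perm_apply msPG_ok i

theorem msEa_pt (i : Fin 4600) : msEa.1 (msPt i) = msPt (msSa i) := by
  apply Subtype.ext
  funext p
  show (msEa.1 (msPt i)).1 p = msV (msSa i).1 p
  rw [msSa_val, msEa_val]
  exact msEa_tab i p

theorem msEg_pt (i : Fin 4600) : msEg.1 (msPt i) = msPt (msSg i) := by
  apply Subtype.ext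
  funext p
  show (msEg.1 (msPt i)).1 p = msV (msSg i).1 p
  rw [msSg_val, msEg_val]
  show xiV (msV i.1) (Helper12.Golay.tblFun msTg p) = _
  rw [ms_st1 i]
  exact ms_st2 i p

theorem msRho_a : msRho ⟨msEa.1, msEa_mem⟩ = msSa := by
  ext i
  apply congrArg Fin.val
  apply msPt_inj
  rw [msRho_apply]
  exact msEa_pt i

theorem msRho_g : msRho ⟨msEg.1, msEg_mem⟩ = msSg := by
  ext i
  apply congrArg Fin.val
  apply msPt_inj
  rw [msRho_apply]
  exact msEg_pt i

/-! ### simplicity and order -/

/-- comparison with the stabiliser of a vector in the automorphism group of the lattice -/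
def msEquiv : ↥Spor.Co2 ≃* ↥(stabilizer ↥Co0 Spor.leechU) where
  toFun g := ⟨⟨g.1, (mem_co2_iff.1 g.2).1⟩, by
    rw [mem_stabilizer_iff]
    exact (mem_co2_iff.1 g.2).2⟩
  invFun k := ⟨k.1.1, by
    have hk := k.2
    rw [mem_stabilizer_iff] at hk
    exact mem_co2_iff.2 ⟨k.1.2, hk⟩⟩
  left_inv g := rfl
  right_inv k := rfl
  map_mul' g h := rfl

theorem co2_isCo2 : IsCo2 ↥Spor.Co2 := by
  have h := Cfsg.Agent.Lib.Lead.C2.isCo2 Spor.leechU leechU_norm
  have := h.1
  exact ⟨msEquiv.isSimpleGroup, (Nat.card_congr msEquiv.toEquiv).trans h.2⟩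

theorem co2_card : Nat.card ↥Spor.Co2 = 42305421312000 := co2_isCo2.2

instance co2_simple : IsSimpleGroup ↥Spor.Co2 := co2_isCo2.1

instance co2_finite : Finite ↥Spor.Co2 :=
  Nat.finite_of_card_ne_zero (by rw [co2_card]; norm_num)

/-! ### faithfulness -/

theorem msSg_ne_one : msSg ≠ 1 := by
  intro h
  have := congrArg (fun s : Equiv.Perm (Fin 4600) => (s 0).1) h
  simp only [msSg_val] at this
  revert this
  decide +kernel

theorem msRho_injective : Function.Injective msRho := by
  rw [← MonoidHom.ker_eq_bot_iff]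
  rcases (inferInstance : msRho.ker.Normal).eq_bot_or_eq_top with h | h
  · exact h
  · exfalso
    have : (⟨msEg.1, msEg_mem⟩ : ↥Spor.Co2) ∈ msRho.ker := by
      rw [h]
      exact Subgroup.mem_top _
    rw [MonoidHom.mem_ker, msRho_g] at this
    exact msSg_ne_one this

/-- the concrete group -/
def M4600 : Subgroup (Equiv.Perm (Fin 4600)) := closure {msSa, msSg}

theorem M4600_le : M4600 ≤ msRho.range := by
  unfold M4600
  rw [closure_le]
  rintro s (rfl | rfl)
  · exact ⟨_, msRho_a⟩
  · exact ⟨_, msRho_g⟩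

theorem range_card : Nat.card ↥msRho.range = 42305421312000 := by
  rw [← Nat.card_congr (MonoidHom.ofInjective msRho_injective).toEquiv, co2_card]

/-- the isomorphism, given the order of the concrete group -/
theorem co2_4600_iso (hcard : Nat.card ↥M4600 = 42305421312000) :
    Nonempty (↥Spor.Co2 ≃* ↥M4600) := by
  have h : M4600 = msRho.range :=
    Subgroup.eq_of_le_of_card_ge M4600_le (by rw [range_card, hcard])
  rw [h]
  exact ⟨MonoidHom.ofInjective msRho_injective⟩

end Cfsg.Agent.Lib.helper14.MS
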