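import Cfsg.Agent.Lib.helper14.MSg
import Cfsg.Agent.Lib.helper14.MSj

set_option autoImplicit false
set_option maxRecDepth 1000000

/-!
# The Conway group `Co₂`: every automorphism is inner
-/

namespace Cfsg.Agent.Lib.helper14.MS

open Cfsg.Agent.Lib.helper23 Cfsg.Agent.Lib.helper4 Subgroup MulAction

theorem moFact23 : (42305421312000 : ℕ).factorization 23 = 1 := by
  have e : (42305421312000 : ℕ) = 23 ^ 1 * 1839366144000 := by norm_num
  rw [e, Nat.factorization_mul (by norm_num) (by norm_num),
    Nat.Prime.factorization_pow (by norm_num)]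
  have : (1839366144000 : ℕ).factorization 23 = 0 :=
    Nat.factorization_eq_zero_of_not_dvd (by norm_num)
  simp [this]

theorem mem_zpowers_coe {x v : ↥M4600} (h : x.1 ∈ zpowers v.1) : x ∈ zpowers v := by
  rw [Subgroup.mem_zpowers_iff] at h ⊢
  obtain ⟨k, hk⟩ := h
  refine ⟨k, Subtype.ext ?_⟩
  rw [Subgroup.coe_zpow]
  exact hk

/-- every automorphism of the concrete group is inner -/
theorem M4600_out : Nat.card (Cfsg.Out ↥M4600) = 1 := by
  apply MR.out_trivial2 (⟨moSc, moSc_mem⟩ : ↥M4600) ⟨moSu, moSu_mem⟩ ⟨moSt, moSt_mem⟩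
  · rw [M4600_card]; exact moFact23
  · rw [← Subgroup.orderOf_coe]; exact moSc_order
  · apply Subtype.ext
    simp only [Subgroup.coe_mul, Subgroup.coe_inv, Subgroup.coe_pow]
    exact moSu_c
  · -- generation
    rw [eq_top_iff]
    rintro ⟨x, hx⟩ -
    have hx' : x ∈ closure ({moSc, moSt} : Set (Equiv.Perm (Fin 4600))) := by
      rw [moclosure]; exact hx
    have : ∀ y (hy : y ∈ closure ({moSc, moSt} : Set (Equiv.Perm (Fin 4600)))),
        ∀ hy' : y ∈ M4600, (⟨y, hy'⟩ : ↥M4600) ∈
          closure ({⟨moSc, moSc_mem⟩, ⟨moSt, moSt_mem⟩} : Set ↥M4600) := by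
      intro y hy
      induction hy using Subgroup.closure_induction with
      | mem s hs =>
        intro hs'
        apply Subgroup.subset_closure
        rcases hs with rfl | rfl
        · exact Or.inl rfl
        · exact Or.inr rfl
      | one => intro _; exact one_mem _
      | mul a b ha hb iha ihb =>
        intro _
        have ha' : a ∈ M4600 := by rw [← moclosure]; exact ha
        have hb' : b ∈ M4600 := by rw [← moclosure]; exact hb
        exact mul_mem (iha ha') (ihb hb')
      | inv a ha iha =>
        intro _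
        have ha' : a ∈ M4600 := by rw [← moclosure]; exact ha
        exact inv_mem (iha ha')
    exact this x hx' hx
  · intro x hx
    apply mem_zpowers_coe
    apply mocent_c x.1 x.2
    have := congrArg Subtype.val hx
    simpa only [Subgroup.coe_mul] using this
  · rw [← Subgroup.orderOf_coe]; exact moSu_order
  · intro x hx
    apply mem_zpowers_coe
    apply mocent_u x.1 x.2
    have := congrArg Subtype.val hx
    simpa only [Subgroup.coe_mul] using this
  · apply Subtype.ext
    simp only [Subgroup.coe_mul, Subgroup.coe_inv]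
    exact moSt_u
  · intro γ hc hu i hi ht
    have h2 : (moW (⟨moSc, moSc_mem⟩ : ↥M4600) ⟨moSt, moSt_mem⟩) ^ 12 = 1 := by
      apply Subtype.ext
      have := moW_pos
      unfold moW at this ⊢
      simp only [Subgroup.coe_mul, Subgroup.coe_pow, Subgroup.coe_one]
      exact this
    have h3 : (moW (γ (⟨moSc, moSc_mem⟩ : ↥M4600)) (γ ⟨moSt, moSt_mem⟩)) ^ 12 = 1 := by
      rw [← moW_map, ← map_pow, h2, map_one]
    rcases hc with hc | hc
    · refine ⟨hc, ?_⟩
      by_contra hne
      rw [hc, ht] at h3
      apply mobad_pos i hi hne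
      have := congrArg Subtype.val h3
      unfold moW at this ⊢
      simpa only [Subgroup.coe_mul, Subgroup.coe_pow, Subgroup.coe_one] using this
    · exfalso
      rw [hc, ht] at h3
      apply mobad_neg i hi
      have := congrArg Subtype.val h3
      unfold moW at this ⊢
      simpa only [Subgroup.coe_mul, Subgroup.coe_pow, Subgroup.coe_one, Subgroup.coe_inv]
        using this

/-- every automorphism of the Conway group `Co₂` is inner -/
theorem co2_out : Nat.card (Cfsg.Out ↥Cfsg.Spor.Co2) = 1 := by
  obtain ⟨e⟩ := M4600_equiv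
  rw [out_card_congr_equiv e]
  exact M4600_out

end Cfsg.Agent.Lib.helper14.MS
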