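import Cfsg.Agent.S2299
import Cfsg.Agent.Lib.helper14.McKayGen

/-!
# Counting irreducible characters of `SL₂(q)` by a property of the degree
-/

set_option autoImplicit false
open Cfsg

namespace Cfsg.Agent.Lib.helper14.McKay

open Cfsg.Agent.S2299

section LHS

variable {F : Type*} [Field F] [Fintype F]

local notation "S2" => Matrix.SpecialLinearGroup (Fin 2) F
local notation "IrrS" => Cfsg.IrrCharacter (Matrix.SpecialLinearGroup (Fin 2) F)

/-- the number of irreducible characters of `SL₂(q)`, `q = 2m+1 ≥ 5`, whose degree satisfies `Q` -/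
theorem card_degree_sl2 (hodd : Odd (Fintype.card F)) (m : ℕ) (hm2 : 2 ≤ m)
    (hm : Fintype.card F = 2 * m + 1) (Q : ℕ → Prop) [DecidablePred Q] :
    Nat.card {χ : IrrS // Q (Cfsg.charDegree (χ : S2 → ℂ))} =
      (if Q 1 then 1 else 0) + ((if Q (2 * m + 1) then 1 else 0) +
        ((if Q (2 * m + 2) then m - 1 else 0) + ((if Q (2 * m) then m else 0) +
          ((if Q (m + 1) then 2 else 0) + (if Q m then 2 else 0))))) := by
  classical
  haveI : Fintype (Cfsg.IrrCharacter (GL (Fin 2) F)) := Fintype.ofFinite _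
  haveI : Fintype (Cfsg.IrrCharacter (Matrix.SpecialLinearGroup (Fin 2) F)) := Fintype.ofFinite _
  haveI : Fintype (MulChar F ℂ) := Fintype.ofFinite _
  obtain ⟨c1, c2, c3, c4, c5, c6⟩ := counts (F := F) hodd m hm2 hm
  have hmem : ∀ χ : IrrS, Cfsg.charDegree (χ : S2 → ℂ) ∈
      ({1, 2 * m + 1, 2 * m + 2, 2 * m, m + 1, m} : Finset ℕ) := by
    intro χ
    have hc := degree_cases hodd χ _ (charDegree_pos χ) (irr_one_eq_charDegree χ)
    simp only [Finset.mem_insert, Finset.mem_singleton]
    omega
  have hfib : ∀ b : ℕ, ((Finset.univ.filter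
      (fun χ : IrrS => Q (Cfsg.charDegree (χ : S2 → ℂ)))).filter
        (fun χ : IrrS => Cfsg.charDegree (χ : S2 → ℂ) = b)).card =
      if Q b then nS F b else 0 := by
    intro b
    by_cases hQ : Q b
    · rw [if_pos hQ]
      unfold nS
      congr 1
      ext χ
      simp only [Finset.mem_filter, Finset.mem_univ, true_and]
      constructor
      · rintro ⟨_, h⟩
        rw [irr_one_eq_charDegree, h]
      · intro h
        rw [irr_one_eq_charDegree] at h
        have h' : Cfsg.charDegree (χ : S2 → ℂ) = b := by exact_mod_cast h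
        exact ⟨by rw [h']; exact hQ, h'⟩
    · rw [if_neg hQ]
      rw [Finset.card_eq_zero, Finset.filter_eq_empty_iff]
      intro χ hχ h
      rw [Finset.mem_filter] at hχ
      rw [h] at hχ
      exact hQ hχ.2
  rw [Nat.card_eq_fintype_card, Fintype.card_subtype,
    Finset.card_eq_sum_card_fiberwise (f := fun χ : IrrS => Cfsg.charDegree (χ : S2 → ℂ))
      (t := ({1, 2 * m + 1, 2 * m + 2, 2 * m, m + 1, m} : Finset ℕ)) (fun χ _ => hmem χ)]
  rw [Finset.sum_congr rfl (fun b _ => hfib b)]
  rw [Finset.sum_insert (by simp only [Finset.mem_insert, Finset.mem_singleton]; omega),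
    Finset.sum_insert (by simp only [Finset.mem_insert, Finset.mem_singleton]; omega),
    Finset.sum_insert (by simp only [Finset.mem_insert, Finset.mem_singleton]; omega),
    Finset.sum_insert (by simp only [Finset.mem_insert, Finset.mem_singleton]; omega),
    Finset.sum_insert (by simp only [Finset.mem_singleton]; omega),
    Finset.sum_singleton, c1, c2, c3, c4, c5, c6]

end LHS

end Cfsg.Agent.Lib.helper14.McKay
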