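import Cfsg.Agent.S2437
import Cfsg.Agent.Lib.helper14.SL2Sylow
import Cfsg.Agent.Lib.helper14.McKaySL2

/-!
# McKay for `SL₂(q)`: the defining characteristic
-/

set_option autoImplicit false
open Cfsg

namespace Cfsg.Agent.Lib.helper14.McKay

open Cfsg.Agent.Lib.helper14

section Conj

/-- conjugate subgroups have isomorphic normalisers -/
def normalizerConjEquiv {G : Type*} [Group G] (H K : Subgroup G) (g : G)
    (h : ∀ a : G, a ∈ K ↔ g⁻¹ * a * g ∈ H) :
    Subgroup.normalizer (H : Set G) ≃* Subgroup.normalizer (K : Set G) where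
  toFun x := ⟨g * x * g⁻¹, by
    rw [Subgroup.mem_set_normalizer_iff]
    intro a
    have hx : ∀ b : G, b ∈ H ↔ ↑x * b * (↑x)⁻¹ ∈ H := Subgroup.mem_set_normalizer_iff.mp x.2
    show a ∈ K ↔ g * ↑x * g⁻¹ * a * (g * ↑x * g⁻¹)⁻¹ ∈ K
    rw [h a, h (g * x * g⁻¹ * a * (g * x * g⁻¹)⁻¹), hx (g⁻¹ * a * g)]
    have : g⁻¹ * (g * ↑x * g⁻¹ * a * (g * ↑x * g⁻¹)⁻¹) * g = ↑x * (g⁻¹ * a * g) * (↑x)⁻¹ := by group
    rw [this]⟩
  invFun y := ⟨g⁻¹ * y * g, by
    rw [Subgroup.mem_set_normalizer_iff]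
    intro a
    have hy : ∀ b : G, b ∈ K ↔ ↑y * b * (↑y)⁻¹ ∈ K := Subgroup.mem_set_normalizer_iff.mp y.2
    show a ∈ H ↔ g⁻¹ * ↑y * g * a * (g⁻¹ * ↑y * g)⁻¹ ∈ H
    have h1 := h (g * a * g⁻¹)
    have e1 : g⁻¹ * (g * a * g⁻¹) * g = a := by group
    rw [e1] at h1
    have h2 := h (↑y * (g * a * g⁻¹) * (↑y)⁻¹)
    have e2 : g⁻¹ * (↑y * (g * a * g⁻¹) * (↑y)⁻¹) * g = g⁻¹ * ↑y * g * a * (g⁻¹ * ↑y * g)⁻¹ := by
      group
    rw [e2] at h2
    rw [← h1, ← h2]
    exact hy _⟩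
  left_inv x := by
    apply Subtype.ext
    show g⁻¹ * (g * ↑x * g⁻¹) * g = ↑x
    group
  right_inv y := by
    apply Subtype.ext
    show g * (g⁻¹ * ↑y * g) * g⁻¹ = ↑y
    group
  map_mul' x y := by
    apply Subtype.ext
    show g * (↑x * ↑y) * g⁻¹ = g * ↑x * g⁻¹ * (g * ↑y * g⁻¹)
    group

end Conj

section Borel

variable {F : Type*} [Field F] [Fintype F]

local notation "S2" => Matrix.SpecialLinearGroup (Fin 2) F
local notation "M2" => Matrix (Fin 2) (Fin 2) F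

theorem normalizer_US : Subgroup.normalizer ((US F : Subgroup S2) : Set S2) = BS F := by
  ext g
  rw [Subgroup.mem_set_normalizer_iff]
  constructor
  · intro h
    have hg' : g⁻¹ ∈ BS F := by
      apply mem_BS_of_conj_uS g⁻¹ 1 one_ne_zero
      rw [inv_inv]
      exact (h _).mp (uS_mem 1)
    simpa using (BS F).inv_mem hg'
  · intro hg m
    exact (conj_mem_US_iff g hg m).symm

theorem BS_eq_comap : BS F = Subgroup.comap (Matrix.SpecialLinearGroup.toGL :
    Matrix.SpecialLinearGroup (Fin 2) F →* GL (Fin 2) F) (Cfsg.upperTriangularGL 2 F) := by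
  ext g
  rw [mem_BS, Cfsg.Agent.S2437.mem_B]

theorem card_conjClasses_BS (hodd : Odd (Fintype.card F)) :
    Nat.card (ConjClasses (BS F)) = Fintype.card F + 3 := by
  rw [BS_eq_comap]
  exact Cfsg.Agent.S2437.result hodd

theorem US_le_BS : US F ≤ BS F := by
  intro g hg
  obtain ⟨x, rfl⟩ := (mem_US g).mp hg
  rw [mem_BS, uS_coe]
  rfl

instance normal_US_subgroupOf_BS : ((US F).subgroupOf (BS F)).Normal := by
  constructor
  intro n hn g
  rw [Subgroup.mem_subgroupOf] at hn ⊢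
  exact conj_mem_US_of_mem_BS (g : S2) g.2 (n : S2) hn

theorem card_pprime_BS (hodd : Odd (Fintype.card F)) (p : ℕ) [Fact p.Prime] [CharP F p] :
    Nat.card {ψ : Cfsg.IrrCharacter (BS F) // ¬ p ∣ Cfsg.charDegree (ψ : BS F → ℂ)} =
      Fintype.card F + 3 := by
  rw [← card_conjClasses_BS hodd]
  apply card_degree_of_forall (fun d => ¬ p ∣ d)
  intro ψ
  have hab : ∀ a ∈ (US F).subgroupOf (BS F), ∀ b ∈ (US F).subgroupOf (BS F), a * b = b * a := by
    intro a ha b hb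
    rw [Subgroup.mem_subgroupOf] at ha hb
    obtain ⟨x, hx⟩ := (mem_US _).mp ha
    obtain ⟨y, hy⟩ := (mem_US _).mp hb
    apply Subtype.ext
    show (a : S2) * (b : S2) = (b : S2) * (a : S2)
    rw [← hx, ← hy, uS_mul, uS_mul, add_comm]
  have hdvd := charDegree_dvd_index _ hab ψ
  have h1 := Subgroup.card_mul_index ((US F).subgroupOf (BS F))
  rw [Nat.card_congr (Subgroup.subgroupOfEquivOfLe US_le_BS).toEquiv, card_US] at h1
  have h3 : Nat.card (BS F) ∣ Nat.card S2 := Subgroup.card_subgroup_dvd_card _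
  rw [← h1, card_sl2] at h3
  have hqpos : 0 < Fintype.card F := Fintype.card_pos
  have h4 : ((US F).subgroupOf (BS F)).index ∣ Fintype.card F ^ 2 - 1 :=
    Nat.dvd_of_mul_dvd_mul_left hqpos h3
  obtain ⟨n, hp, hq⟩ := FiniteField.card F p
  have hpq : p ∣ Fintype.card F := by rw [hq]; exact dvd_pow_self p n.ne_zero
  intro hpd
  have h5 : p ∣ Fintype.card F ^ 2 - 1 := (hpd.trans hdvd).trans h4
  have h6 : p ∣ Fintype.card F ^ 2 := dvd_pow hpq (by norm_num)
  have h7 := Nat.dvd_sub h6 h5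
  have hq2 : 1 ≤ Fintype.card F ^ 2 := Nat.one_le_pow _ _ hqpos
  have : Fintype.card F ^ 2 - (Fintype.card F ^ 2 - 1) = 1 := by omega
  rw [this] at h7
  exact hp.one_lt.ne' (Nat.dvd_one.mp h7)

/-- the McKay count for the normaliser of a Sylow `p`-subgroup, `p` the characteristic -/
theorem rhs_char (hodd : Odd (Fintype.card F)) (p : ℕ) [Fact p.Prime] [CharP F p]
    (P : Sylow p S2) :
    Nat.card {ψ : Cfsg.IrrCharacter (Subgroup.normalizer ((P : Subgroup S2) : Set S2)) //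
      ¬ p ∣ Cfsg.charDegree (ψ : Subgroup.normalizer ((P : Subgroup S2) : Set S2) → ℂ)} =
      Fintype.card F + 3 := by
  obtain ⟨g, hg⟩ := sylow_conj_mem (USSylow (F := F) p) P
  have e1 : Subgroup.normalizer ((US F : Subgroup S2) : Set S2) ≃*
      Subgroup.normalizer ((P : Subgroup S2) : Set S2) :=
    normalizerConjEquiv (US F) (P : Subgroup S2) g hg
  have e2 : BS F ≃* Subgroup.normalizer ((US F : Subgroup S2) : Set S2) :=
    MulEquiv.subgroupCongr normalizer_US.symm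
  rw [← card_degree_congr (e2.trans e1) (fun d => ¬ p ∣ d)]
  exact card_pprime_BS hodd p

theorem arith_q3 (a b c e : ℕ) (h1 : a + (b + (c + e)) = 3 + 4)
    (h2 : a + (4 * b + (9 * c + 16 * e)) = 24) : a = 3 ∧ b = 3 ∧ c = 1 ∧ e = 0 := by
  have hc : c ≤ 2 := by omega
  have he : e ≤ 1 := by omega
  interval_cases c <;> interval_cases e <;> omega

open Cfsg.Agent.S2299 in
theorem degree_mem_q3 (hodd : Odd (Fintype.card F)) (hq : Fintype.card F = 3)
    (χ : Cfsg.IrrCharacter S2) :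
    Cfsg.charDegree (χ : S2 → ℂ) ∈ ({1, 2, 3, 4} : Finset ℕ) := by
  classical
  haveI : Fintype (Cfsg.IrrCharacter (GL (Fin 2) F)) := Fintype.ofFinite _
  haveI : Fintype (Cfsg.IrrCharacter (Matrix.SpecialLinearGroup (Fin 2) F)) := Fintype.ofFinite _
  haveI : Fintype (MulChar F ℂ) := Fintype.ofFinite _
  have hc := degree_cases hodd χ _ (charDegree_pos χ) (irr_one_eq_charDegree χ)
  simp only [Finset.mem_insert, Finset.mem_singleton]
  omega

/-- the degree counts of `SL₂(3)`: `n₁ + n₂ + n₃ + n₄ = 7`, `n₁ + 4 n₂ + 9 n₃ + 16 n₄ = 24` -/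
theorem counts_q3 (hodd : Odd (Fintype.card F)) (hq : Fintype.card F = 3) :
    Nat.card {χ : Cfsg.IrrCharacter S2 // Cfsg.charDegree (χ : S2 → ℂ) = 1} = 3 ∧
    Nat.card {χ : Cfsg.IrrCharacter S2 // Cfsg.charDegree (χ : S2 → ℂ) = 2} = 3 ∧
    Nat.card {χ : Cfsg.IrrCharacter S2 // Cfsg.charDegree (χ : S2 → ℂ) = 3} = 1 ∧
    Nat.card {χ : Cfsg.IrrCharacter S2 // Cfsg.charDegree (χ : S2 → ℂ) = 4} = 0 := by
  have h1 := sum_card_fiberwise (G := S2) {1, 2, 3, 4} (degree_mem_q3 hodd hq)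
  have h2 := sum_sq_fiberwise (G := S2) {1, 2, 3, 4} (degree_mem_q3 hodd hq)
  rw [Cfsg.Agent.S2325.result hodd, hq] at h1
  rw [card_sl2, hq] at h2
  rw [Finset.sum_insert (by decide), Finset.sum_insert (by decide), Finset.sum_insert (by decide),
    Finset.sum_singleton] at h1 h2
  norm_num at h2
  exact arith_q3 _ _ _ _ h1 h2

theorem lhs_char (hodd : Odd (Fintype.card F)) (p : ℕ) [Fact p.Prime] [CharP F p] :
    Nat.card {χ : Cfsg.IrrCharacter S2 // ¬ p ∣ Cfsg.charDegree (χ : S2 → ℂ)} =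
      Fintype.card F + 3 := by
  classical
  have hp : p.Prime := Fact.out
  obtain ⟨n, -, hqn⟩ := FiniteField.card F p
  have hpq : p ∣ Fintype.card F := by rw [hqn]; exact dvd_pow_self p n.ne_zero
  have h1 : ¬ p ∣ 1 := fun h => hp.one_lt.ne' (Nat.dvd_one.mp h)
  obtain ⟨m, hm⟩ := hodd
  have hq2 : 2 ≤ Fintype.card F := Fintype.one_lt_card
  by_cases hm2 : 2 ≤ m
  · have h := card_degree_sl2 ⟨m, hm⟩ m hm2 hm (fun d => ¬ p ∣ d)
    beta_reduce at h
    rw [hm] at hpq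
    have h3 : ¬ p ∣ 2 * m + 2 := fun h => h1 ((Nat.dvd_add_right hpq).mp h)
    have h4 : ¬ p ∣ 2 * m := by
      intro h
      exact h1 ((Nat.dvd_add_right h).mp hpq)
    have h5 : ¬ p ∣ m + 1 := by
      intro h
      apply h3
      have : 2 * m + 2 = 2 * (m + 1) := by ring
      rw [this]
      exact Dvd.dvd.mul_left h 2
    have h6 : ¬ p ∣ m := fun h => h4 (Dvd.dvd.mul_left h 2)
    rw [if_pos h1, if_neg (not_not.mpr hpq), if_pos h3, if_pos h4, if_pos h5, if_pos h6] at h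
    rw [h, hm]
    omega
  · have hq : Fintype.card F = 3 := by omega
    have hp3 : p = 3 := by
      rw [hq] at hpq
      exact (Nat.prime_dvd_prime_iff_eq hp Nat.prime_three).mp hpq
    subst hp3
    obtain ⟨c1, c2, c3, c4⟩ := counts_q3 ⟨m, hm⟩ hq
    rw [card_degree_fiberwise (G := S2) (fun d => ¬ 3 ∣ d) {1, 2, 3, 4}
      (degree_mem_q3 ⟨m, hm⟩ hq)]
    rw [Finset.sum_insert (by decide), Finset.sum_insert (by decide),
      Finset.sum_insert (by decide), Finset.sum_singleton, c1, c2, c3, c4, hq]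
    decide

/-- McKay for `SL₂(q)`, `q` odd, at the defining characteristic -/
theorem mckay_char (hodd : Odd (Fintype.card F)) (p : ℕ) [Fact p.Prime] [CharP F p]
    (P : Sylow p S2) :
    Nat.card {χ : Cfsg.IrrCharacter S2 // ¬ p ∣ Cfsg.charDegree (χ : S2 → ℂ)} =
      Nat.card {ψ : Cfsg.IrrCharacter (Subgroup.normalizer ((P : Subgroup S2) : Set S2)) //
        ¬ p ∣ Cfsg.charDegree (ψ : Subgroup.normalizer ((P : Subgroup S2) : Set S2) → ℂ)} := by
  rw [lhs_char hodd p, rhs_char hodd p P]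

end Borel

end Cfsg.Agent.Lib.helper14.McKay
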