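import Cfsg.Agent.S2429
import Cfsg.Agent.S2430
import Cfsg.Agent.Lib.helper14.McKaySL2

/-!
# McKay for `SL₂(q)`: odd primes different from the characteristic
-/

set_option autoImplicit false
open Cfsg

namespace Cfsg.Agent.Lib.helper14.McKay

open Cfsg.Agent.Lib.helper15

section Torus

variable {F : Type*} [Field F] [Fintype F]

local notation "S2" => Matrix.SpecialLinearGroup (Fin 2) F
local notation "M2" => Matrix (Fin 2) (Fin 2) F

/-- the number of classes of the normaliser of a torus `C(z)` of order `2j` is `j + 3` -/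
theorem classes_normalizer_centralizer (hodd : Odd (Fintype.card F)) (g0 : S2)
    (hg0n : ∀ c : F, (g0 : M2) ≠ c • (1 : M2)) (ht4 : (g0 : M2).trace ^ 2 ≠ 4) (j : ℕ)
    (hj : 0 < j)
    (hcardT : Nat.card (Subgroup.centralizer ({g0} : Set S2)) = 2 * j) :
    Nat.card (ConjClasses (Subgroup.normalizer
      ((Subgroup.centralizer ({g0} : Set S2) : Subgroup S2) : Set S2))) = j + 3 := by
  have h2 := Cfsg.Agent.S2429.two_ne_zero_of_odd hodd
  have hodd' : Fintype.card F % 2 = 1 := Nat.odd_iff.mp hodd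
  have huniv : ∀ n : F, n ≠ 0 → ∃ x : F × F, nrm (g0 : M2).trace x = n :=
    fun n _ => nrm_universal hodd' h2 _ ht4 n
  have hcardN := card_normalizer_centralizer h2 g0 hg0n ht4 huniv
  rw [hcardT] at hcardN
  have hg0T : g0 ∈ Subgroup.centralizer ({g0} : Set S2) := by
    rw [Subgroup.mem_centralizer_singleton_iff]
  have hnegT : (-1 : S2) ∈ Subgroup.centralizer ({g0} : Set S2) := by
    rw [Subgroup.mem_centralizer_singleton_iff, neg_mul, mul_neg, one_mul, mul_one]
  have hout : ∀ x ∈ Subgroup.normalizer ((Subgroup.centralizer ({g0} : Set S2) : Subgroup S2) :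
        Set S2), x ∉ Subgroup.centralizer ({g0} : Set S2) → x * g0 * x⁻¹ = g0⁻¹ := by
    intro x hx hxT
    rcases (mem_normalizer_centralizer_iff h2 g0 hg0n ht4 x).mp hx with h | h
    · exfalso
      apply hxT
      rw [Subgroup.mem_centralizer_singleton_iff]
      calc x * g0 = x * g0 * x⁻¹ * x := by group
        _ = g0 * x := by rw [h]
    · exact h
  apply Cfsg.Agent.S2429.conj_classes_count (j + 3) (2 * j) (by omega) hcardN
  have hcount := Cfsg.Agent.S2429.count_commuting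
    (Subgroup.centralizer ({g0} : Set S2))
    (Subgroup.normalizer ((Subgroup.centralizer ({g0} : Set S2) : Subgroup S2) : Set S2))
    Subgroup.le_normalizer (2 * j) hcardT hcardN (-1) hnegT (Cfsg.Agent.S2429.neg_one_ne_one h2)
    (by rw [neg_mul_neg, one_mul]) (fun y => by rw [neg_mul, mul_neg, one_mul, mul_one])
    (fun y _ hyy => Cfsg.Agent.S0809.sq_eq_one_imp h2 y hyy) ?_ ?_
  · rw [hcount]
    ring
  · intro x hx hxx y _
    have hxn : ∀ c : F, (x : M2) ≠ c • (1 : M2) := by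
      apply nonscalar_of_ne
      · intro h
        apply hxx
        rw [h, one_mul]
      · intro h
        apply hxx
        rw [h, neg_mul_neg, one_mul]
    rw [← centralizer_eq_of_mem g0 hg0n x hx hxn, Subgroup.mem_centralizer_singleton_iff]
    exact eq_comm
  · intro x hx hxT
    have hxg := hout x hx hxT
    have hxx : x * x = -1 := by
      apply Subtype.ext
      rw [Matrix.SpecialLinearGroup.coe_mul, sq_eq_neg_one_of_conj_inv g0 hg0n x hxg,
        Matrix.SpecialLinearGroup.coe_neg]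
      rfl
    refine ⟨hxx, ?_⟩
    have hTx : ∀ y ∈ Subgroup.centralizer ({g0} : Set S2), x * y = y * x → y = 1 ∨ y = -1 := by
      intro y hy hxy
      by_contra hcon
      push Not at hcon
      have hyn := nonscalar_of_ne y hcon.1 hcon.2
      apply hxT
      rw [← centralizer_eq_of_mem g0 hg0n y hy hyn, Subgroup.mem_centralizer_singleton_iff]
      exact hxy
    intro y hy
    constructor
    · intro hxy
      by_cases hyT : y ∈ Subgroup.centralizer ({g0} : Set S2)
      · rcases hTx y hyT hxy with h | h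
        · rw [h]
          exact Subgroup.one_mem _
        · rw [h, ← hxx]
          exact Subgroup.mul_mem _ (Subgroup.mem_zpowers x) (Subgroup.mem_zpowers x)
      · have hyg := hout y hy hyT
        have hy'T : x⁻¹ * y ∈ Subgroup.centralizer ({g0} : Set S2) := by
          rw [Subgroup.mem_centralizer_singleton_iff]
          have h1 : y * g0 = g0⁻¹ * y := by
            calc y * g0 = y * g0 * y⁻¹ * y := by group
              _ = g0⁻¹ * y := by rw [hyg]
          have h3 : x⁻¹ * g0⁻¹ = g0 * x⁻¹ := by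
            calc x⁻¹ * g0⁻¹ = x⁻¹ * (x * g0 * x⁻¹) := by rw [hxg]
              _ = g0 * x⁻¹ := by group
          calc x⁻¹ * y * g0 = x⁻¹ * (y * g0) := by group
            _ = x⁻¹ * (g0⁻¹ * y) := by rw [h1]
            _ = (x⁻¹ * g0⁻¹) * y := by group
            _ = g0 * x⁻¹ * y := by rw [h3]
            _ = g0 * (x⁻¹ * y) := by group
        have hcomm' : x * (x⁻¹ * y) = (x⁻¹ * y) * x := by
          calc x * (x⁻¹ * y) = x⁻¹ * (x * y) := by group
            _ = x⁻¹ * (y * x) := by rw [hxy]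
            _ = _ := by group
        rcases hTx _ hy'T hcomm' with h | h
        · have : y = x := by
            calc y = x * (x⁻¹ * y) := by group
              _ = x := by rw [h, mul_one]
          rw [this]
          exact Subgroup.mem_zpowers x
        · have : y = x * (x * x) := by
            calc y = x * (x⁻¹ * y) := by group
              _ = x * (x * x) := by rw [h, hxx]
          rw [this]
          exact Subgroup.mul_mem _ (Subgroup.mem_zpowers x)
            (Subgroup.mul_mem _ (Subgroup.mem_zpowers x) (Subgroup.mem_zpowers x))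
    · intro hy'
      obtain ⟨k, hk⟩ := Subgroup.mem_zpowers_iff.mp hy'
      rw [← hk]
      exact ((Commute.refl x).zpow_right k).eq

/-- all irreducible characters of the normaliser of a torus have degree prime to an odd prime,
hence the McKay count is the class number -/
theorem card_lprime_normalizer_centralizer (hodd : Odd (Fintype.card F)) (g0 : S2)
    (hg0n : ∀ c : F, (g0 : M2) ≠ c • (1 : M2)) (ht4 : (g0 : M2).trace ^ 2 ≠ 4) (j : ℕ)
    (hj : 0 < j)
    (hcardT : Nat.card (Subgroup.centralizer ({g0} : Set S2)) = 2 * j)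
    (ℓ : ℕ) (hℓ : ℓ.Prime) (hℓ2 : ℓ ≠ 2) :
    Nat.card {ψ : Cfsg.IrrCharacter (Subgroup.normalizer
      ((Subgroup.centralizer ({g0} : Set S2) : Subgroup S2) : Set S2)) //
        ¬ ℓ ∣ Cfsg.charDegree (ψ : Subgroup.normalizer
          ((Subgroup.centralizer ({g0} : Set S2) : Subgroup S2) : Set S2) → ℂ)} = j + 3 := by
  have h2 := Cfsg.Agent.S2429.two_ne_zero_of_odd hodd
  have hodd' : Fintype.card F % 2 = 1 := Nat.odd_iff.mp hodd
  have huniv : ∀ n : F, n ≠ 0 → ∃ x : F × F, nrm (g0 : M2).trace x = n :=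
    fun n _ => nrm_universal hodd' h2 _ ht4 n
  have hcardN := card_normalizer_centralizer h2 g0 hg0n ht4 huniv
  rw [hcardT] at hcardN
  rw [← classes_normalizer_centralizer hodd g0 hg0n ht4 j hj hcardT]
  apply card_degree_of_forall (fun d => ¬ ℓ ∣ d)
  intro ψ
  haveI hnorm : ((Subgroup.centralizer ({g0} : Set S2)).subgroupOf (Subgroup.normalizer
      ((Subgroup.centralizer ({g0} : Set S2) : Subgroup S2) : Set S2))).Normal :=
    Subgroup.normal_in_normalizer
  have hab : ∀ a ∈ (Subgroup.centralizer ({g0} : Set S2)).subgroupOf (Subgroup.normalizer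
      ((Subgroup.centralizer ({g0} : Set S2) : Subgroup S2) : Set S2)),
      ∀ b ∈ (Subgroup.centralizer ({g0} : Set S2)).subgroupOf (Subgroup.normalizer
      ((Subgroup.centralizer ({g0} : Set S2) : Subgroup S2) : Set S2)), a * b = b * a := by
    intro a ha b hb
    apply Subtype.ext
    exact centralizer_comm g0 hg0n a b (Subgroup.mem_subgroupOf.mp ha) (Subgroup.mem_subgroupOf.mp hb)
  have hdvd := charDegree_dvd_index _ hab ψ
  have hidx : ((Subgroup.centralizer ({g0} : Set S2)).subgroupOf (Subgroup.normalizer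
      ((Subgroup.centralizer ({g0} : Set S2) : Subgroup S2) : Set S2))).index = 2 := by
    have h1 := Subgroup.card_mul_index ((Subgroup.centralizer ({g0} : Set S2)).subgroupOf
      (Subgroup.normalizer ((Subgroup.centralizer ({g0} : Set S2) : Subgroup S2) : Set S2)))
    rw [Nat.card_congr (Subgroup.subgroupOfEquivOfLe Subgroup.le_normalizer).toEquiv, hcardT,
      hcardN] at h1
    have h3 : 2 * j * ((Subgroup.centralizer ({g0} : Set S2)).subgroupOf (Subgroup.normalizer
      ((Subgroup.centralizer ({g0} : Set S2) : Subgroup S2) : Set S2))).index = 2 * j * 2 := by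
      rw [h1]
      ring
    exact Nat.eq_of_mul_eq_mul_left (by omega) h3
  rw [hidx] at hdvd
  intro hℓd
  have := hℓd.trans hdvd
  exact hℓ2 ((Nat.prime_dvd_prime_iff_eq hℓ Nat.prime_two).mp this)

theorem lhs_minus (hodd : Odd (Fintype.card F)) (m : ℕ) (hm2 : 2 ≤ m)
    (hm : Fintype.card F = 2 * m + 1) (ℓ : ℕ) (hℓ : ℓ.Prime) (hℓ2 : ℓ ≠ 2) (hd : ℓ ∣ 2 * m) :
    Nat.card {χ : Cfsg.IrrCharacter S2 // ¬ ℓ ∣ Cfsg.charDegree (χ : S2 → ℂ)} = m + 3 := by
  classical
  have h := card_degree_sl2 hodd m hm2 hm (fun d => ¬ ℓ ∣ d)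
  beta_reduce at h
  have hcop : Nat.Coprime ℓ 2 := (Nat.coprime_primes hℓ Nat.prime_two).mpr hℓ2
  have hdm : ℓ ∣ m := hcop.dvd_of_dvd_mul_left hd
  have h1 : ¬ ℓ ∣ 1 := fun h => hℓ.one_lt.ne' (Nat.dvd_one.mp h)
  have h2 : ¬ ℓ ∣ 2 * m + 1 := fun h => h1 ((Nat.dvd_add_right hd).mp h)
  have h3 : ¬ ℓ ∣ 2 * m + 2 := fun h =>
    hℓ2 ((Nat.prime_dvd_prime_iff_eq hℓ Nat.prime_two).mp ((Nat.dvd_add_right hd).mp h))
  have h5 : ¬ ℓ ∣ m + 1 := fun h => h1 ((Nat.dvd_add_right hdm).mp h)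
  rw [if_pos h1, if_pos h2, if_pos h3, if_neg (not_not.mpr hd), if_pos h5,
    if_neg (not_not.mpr hdm)] at h
  rw [h]
  omega

theorem lhs_plus (hodd : Odd (Fintype.card F)) (m : ℕ) (hm2 : 2 ≤ m)
    (hm : Fintype.card F = 2 * m + 1) (ℓ : ℕ) (hℓ : ℓ.Prime) (hℓ2 : ℓ ≠ 2) (hd : ℓ ∣ 2 * m + 2) :
    Nat.card {χ : Cfsg.IrrCharacter S2 // ¬ ℓ ∣ Cfsg.charDegree (χ : S2 → ℂ)} = m + 4 := by
  classical
  have h := card_degree_sl2 hodd m hm2 hm (fun d => ¬ ℓ ∣ d)
  beta_reduce at h
  have hcop : Nat.Coprime ℓ 2 := (Nat.coprime_primes hℓ Nat.prime_two).mpr hℓ2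
  have hdm : ℓ ∣ m + 1 := by
    have : 2 * m + 2 = 2 * (m + 1) := by ring
    rw [this] at hd
    exact hcop.dvd_of_dvd_mul_left hd
  have h1 : ¬ ℓ ∣ 1 := fun h => hℓ.one_lt.ne' (Nat.dvd_one.mp h)
  have h2 : ¬ ℓ ∣ 2 * m + 1 := by
    intro h
    have : 2 * m + 2 = (2 * m + 1) + 1 := by ring
    rw [this] at hd
    exact h1 ((Nat.dvd_add_right h).mp hd)
  have h4 : ¬ ℓ ∣ 2 * m := by
    intro h
    exact hℓ2 ((Nat.prime_dvd_prime_iff_eq hℓ Nat.prime_two).mp ((Nat.dvd_add_right h).mp hd))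
  have h6 : ¬ ℓ ∣ m := fun h => h1 ((Nat.dvd_add_right h).mp hdm)
  rw [if_pos h1, if_pos h2, if_neg (not_not.mpr hd), if_pos h4, if_neg (not_not.mpr hdm),
    if_pos h6] at h
  rw [h]
  omega

/-- McKay for `SL₂(q)`, `q` odd, at an odd prime dividing `q - 1` or `q + 1` -/
theorem mckay_odd (hodd : Odd (Fintype.card F)) (ℓ : ℕ) [Fact ℓ.Prime] (hℓ2 : ℓ ≠ 2)
    (hdiv : ℓ ∣ Fintype.card F - 1 ∨ ℓ ∣ Fintype.card F + 1) (P : Sylow ℓ S2) :
    Nat.card {χ : Cfsg.IrrCharacter S2 // ¬ ℓ ∣ Cfsg.charDegree (χ : S2 → ℂ)} =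
      Nat.card {ψ : Cfsg.IrrCharacter (Subgroup.normalizer ((P : Subgroup S2) : Set S2)) //
        ¬ ℓ ∣ Cfsg.charDegree (ψ : Subgroup.normalizer ((P : Subgroup S2) : Set S2) → ℂ)} := by
  have hℓ : ℓ.Prime := Fact.out
  have h2 := Cfsg.Agent.S2429.two_ne_zero_of_odd hodd
  have hodd' : Fintype.card F % 2 = 1 := Nat.odd_iff.mp hodd
  obtain ⟨m, hm⟩ := hodd
  have hq2 : 2 ≤ Fintype.card F := Fintype.one_lt_card
  have hm2 : 2 ≤ m := by
    by_contra hcon
    have hm1 : m = 1 := by omega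
    subst hm1
    rw [hm] at hdiv
    rcases hdiv with h | h
    · exact hℓ2 ((Nat.prime_dvd_prime_iff_eq hℓ Nat.prime_two).mp h)
    · have h4 : ℓ ∣ 2 * 2 := h
      rcases (Nat.Prime.dvd_mul hℓ).mp h4 with h | h <;>
        exact hℓ2 ((Nat.prime_dvd_prime_iff_eq hℓ Nat.prime_two).mp h)
  obtain ⟨z, hzn, hzreg, hdvd, hC, hN⟩ := Cfsg.Agent.S2430.key ⟨m, hm⟩ ℓ hℓ2 P hdiv
  have ht4 := Cfsg.Agent.S2430.trace_sq_ne_four h2 z hzreg
  rw [hN]
  have hnot : ¬ (ℓ ∣ 2 * m ∧ ℓ ∣ 2 * m + 2) := by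
    rintro ⟨ha, hb⟩
    exact hℓ2 ((Nat.prime_dvd_prime_iff_eq hℓ Nat.prime_two).mp ((Nat.dvd_add_right ha).mp hb))
  by_cases hR : ∃ c : F, c ^ 2 - (z : M2).trace * c + 1 = 0
  · obtain ⟨c, hc⟩ := hR
    have hcard : Nat.card (Subgroup.centralizer ({z} : Set S2)) = 2 * m := by
      rw [card_centralizer_eq z hzn, card_normSet_split _ c hc (hzreg c hc), hm]
      omega
    rw [hcard] at hdvd
    rw [card_lprime_normalizer_centralizer ⟨m, hm⟩ z hzn ht4 m (by omega) hcard ℓ hℓ hℓ2]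
    exact lhs_minus ⟨m, hm⟩ m hm2 hm ℓ hℓ hℓ2 hdvd
  · push Not at hR
    have hcard : Nat.card (Subgroup.centralizer ({z} : Set S2)) = 2 * (m + 1) := by
      rw [card_centralizer_eq z hzn, card_normSet_nonsplit_odd hodd' h2 _ hR, hm]
      ring
    rw [hcard] at hdvd
    rw [card_lprime_normalizer_centralizer ⟨m, hm⟩ z hzn ht4 (m + 1) (by omega) hcard ℓ hℓ hℓ2]
    exact lhs_plus ⟨m, hm⟩ m hm2 hm ℓ hℓ hℓ2 (by rw [show 2 * m + 2 = 2 * (m + 1) by ring]; exact hdvd)

end Torus

end Cfsg.Agent.Lib.helper14.McKay
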