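import Cfsg.Agent.S2431
import Cfsg.Agent.Lib.helper14.McKayBorel

/-!
# McKay for `SL₂(q)`, `q` odd: the prime 2
-/

set_option autoImplicit false
open Cfsg

namespace Cfsg.Agent.Lib.helper14.McKay

open Cfsg.Agent.Lib.helper14

section Quat

/-- a generalised quaternion group has exactly four irreducible characters of odd degree -/
theorem card_odd_quaternion (n : ℕ) [NeZero n] :
    Nat.card {χ : Cfsg.IrrCharacter (QuaternionGroup n) //
      ¬ 2 ∣ Cfsg.charDegree (χ : QuaternionGroup n → ℂ)} = 4 := by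
  classical
  have hn : 0 < n := NeZero.pos n
  have hcardA : Nat.card (Subgroup.zpowers (QuaternionGroup.a 1 : QuaternionGroup n)) = 2 * n := by
    rw [Nat.card_zpowers, QuaternionGroup.orderOf_a_one]
  have hcardQ : Nat.card (QuaternionGroup n) = 4 * n := by
    rw [Nat.card_eq_fintype_card, QuaternionGroup.card]
  have hidx : (Subgroup.zpowers (QuaternionGroup.a 1 : QuaternionGroup n)).index = 2 := by
    have h1 := Subgroup.card_mul_index (Subgroup.zpowers (QuaternionGroup.a 1 : QuaternionGroup n))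
    rw [hcardA, hcardQ] at h1
    have h3 : 2 * n * (Subgroup.zpowers (QuaternionGroup.a 1 : QuaternionGroup n)).index =
        2 * n * 2 := by rw [h1]; ring
    exact Nat.eq_of_mul_eq_mul_left (by omega) h3
  haveI : (Subgroup.zpowers (QuaternionGroup.a 1 : QuaternionGroup n)).Normal :=
    Subgroup.normal_of_index_eq_two hidx
  have hab : ∀ a ∈ Subgroup.zpowers (QuaternionGroup.a 1 : QuaternionGroup n),
      ∀ b ∈ Subgroup.zpowers (QuaternionGroup.a 1 : QuaternionGroup n), a * b = b * a := by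
    intro a ha b hb
    obtain ⟨i, rfl⟩ := Subgroup.mem_zpowers_iff.mp ha
    obtain ⟨j, rfl⟩ := Subgroup.mem_zpowers_iff.mp hb
    exact ((Commute.refl _).zpow_zpow i j).eq
  have hD : ∀ χ : Cfsg.IrrCharacter (QuaternionGroup n),
      Cfsg.charDegree (χ : QuaternionGroup n → ℂ) ∈ ({1, 2} : Finset ℕ) := by
    intro χ
    have h := charDegree_dvd_index _ hab χ
    rw [hidx] at h
    have hle := Nat.le_of_dvd (by norm_num) h
    have hpos := charDegree_pos χ
    simp only [Finset.mem_insert, Finset.mem_singleton]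
    omega
  have h1 := sum_card_fiberwise (G := QuaternionGroup n) {1, 2} hD
  have h2 := sum_sq_fiberwise (G := QuaternionGroup n) {1, 2} hD
  rw [card_conjClasses_quaternionGroup] at h1
  rw [hcardQ] at h2
  rw [Finset.sum_insert (by decide), Finset.sum_singleton] at h1 h2
  norm_num at h2
  rw [card_degree_fiberwise (G := QuaternionGroup n) (fun d => ¬ 2 ∣ d) {1, 2} hD,
    Finset.sum_insert (by decide), Finset.sum_singleton]
  rw [if_pos (by decide), if_neg (by decide)]
  omega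

end Quat

section LHS

variable {F : Type*} [Field F] [Fintype F]

local notation "S2" => Matrix.SpecialLinearGroup (Fin 2) F
local notation "M2" => Matrix (Fin 2) (Fin 2) F

theorem lhs_two (hodd : Odd (Fintype.card F)) :
    Nat.card {χ : Cfsg.IrrCharacter S2 // ¬ 2 ∣ Cfsg.charDegree (χ : S2 → ℂ)} = 4 := by
  classical
  obtain ⟨m, hm⟩ := hodd
  have hq2 : 2 ≤ Fintype.card F := Fintype.one_lt_card
  by_cases hm2 : 2 ≤ m
  · have h := card_degree_sl2 ⟨m, hm⟩ m hm2 hm (fun d => ¬ 2 ∣ d)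
    beta_reduce at h
    rw [h, if_pos (by omega), if_pos (by omega), if_neg (by omega), if_neg (by omega)]
    rcases Nat.even_or_odd m with ⟨k, hk⟩ | ⟨k, hk⟩
    · rw [if_pos (by omega), if_neg (by omega)]
    · rw [if_neg (by omega), if_pos (by omega)]
  · have hq : Fintype.card F = 3 := by omega
    obtain ⟨c1, c2, c3, c4⟩ := counts_q3 ⟨m, hm⟩ hq
    rw [card_degree_fiberwise (G := S2) (fun d => ¬ 2 ∣ d) {1, 2, 3, 4}
      (degree_mem_q3 ⟨m, hm⟩ hq)]
    rw [Finset.sum_insert (by decide), Finset.sum_insert (by decide),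
      Finset.sum_insert (by decide), Finset.sum_singleton, c1, c2, c3, c4]
    decide

theorem rhs_two_self (hodd : Odd (Fintype.card F)) (S : Sylow 2 S2)
    (hq : Fintype.card F % 8 = 1 ∨ Fintype.card F % 8 = 7) :
    Nat.card {ψ : Cfsg.IrrCharacter (Subgroup.normalizer ((S : Subgroup S2) : Set S2)) //
      ¬ 2 ∣ Cfsg.charDegree (ψ : Subgroup.normalizer ((S : Subgroup S2) : Set S2) → ℂ)} = 4 := by
  obtain ⟨-, hself, -⟩ := Cfsg.Agent.S2431.result hodd S
  rw [hself hq]
  obtain ⟨k, hk1, ⟨e⟩⟩ := Cfsg.Agent.S0261.result hodd S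
  haveI : NeZero (2 ^ k) := ⟨by positivity⟩
  rw [card_degree_congr e (fun d => ¬ 2 ∣ d)]
  exact card_odd_quaternion (2 ^ k)

open Cfsg.Agent.S2431 in
theorem rhs_two_q8 (hodd : Odd (Fintype.card F)) (S : Sylow 2 S2)
    (hq : Fintype.card F % 8 = 3 ∨ Fintype.card F % 8 = 5) :
    Nat.card {ψ : Cfsg.IrrCharacter (Subgroup.normalizer ((S : Subgroup S2) : Set S2)) //
      ¬ 2 ∣ Cfsg.charDegree (ψ : Subgroup.normalizer ((S : Subgroup S2) : Set S2) → ℂ)} = 4 := by
  classical
  have hodd' : Fintype.card F % 2 = 1 := Nat.odd_iff.mp hodd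
  have h2 := Cfsg.Agent.S0261.two_ne_zero_of_odd hodd'
  obtain ⟨k, hk1, ⟨e⟩⟩ := Cfsg.Agent.S0261.result hodd S
  haveI : NeZero (2 ^ k) := ⟨by positivity⟩
  have hcardS : Nat.card (S : Subgroup S2) = 4 * 2 ^ k := by
    rw [Nat.card_congr e.toEquiv, Nat.card_eq_fintype_card, QuaternionGroup.card]
  have hmul := Subgroup.card_mul_index (S : Subgroup S2)
  rw [hcardS, card_sl2] at hmul
  have hidx := S.not_dvd_index
  obtain ⟨c, hc, hqc⟩ := arith3 _ hq
  rw [hqc] at hmul
  have hk : k = 1 := k_eq_one k _ c hk1 hc hmul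
  subst hk
  obtain ⟨hxx, hyx, hyy⟩ := quat_elts h2 _ 1 le_rfl e
  have hcast : ((2 ^ (1 - 1) : ℕ) : ZMod (2 * 2 ^ 1)) = 1 := by norm_num
  rw [hcast] at hxx hyx
  have hcardN := card_normalizer_Q8 h2 S e _ _ rfl rfl hxx hyx hyy
  rw [hcardS] at hcardN
  obtain ⟨x, hx⟩ : ∃ x : (S : Subgroup S2), x = e.symm (QuaternionGroup.a 1) := ⟨_, rfl⟩
  obtain ⟨y, hy⟩ : ∃ y : (S : Subgroup S2), y = e.symm (QuaternionGroup.xa 0) := ⟨_, rfl⟩
  rw [← hx] at hxx hyx
  rw [← hy] at hyx hyy
  obtain ⟨Ω, hΩx, hΩy⟩ := exists_omega h2 (x : S2) (y : S2) hxx hyy hyx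
  have hxyx : (x : S2) * (y : S2) * (x : S2) = (y : S2) := by
    have h1 : (y : S2) * (x : S2) = (x : S2)⁻¹ * (y : S2) := by rw [← hyx]; group
    rw [mul_assoc, h1, mul_inv_cancel_left]
  have hΩN : Ω ∈ Subgroup.normalizer ((S : Subgroup S2) : Set S2) := by
    apply mem_normalizer_of_conj_mem
    intro s hs
    rcases quat_cases (2 ^ 1) (e ⟨s, hs⟩) with ⟨i, hi⟩ | ⟨i, hi⟩
    · have h1 : (⟨s, hs⟩ : (S : Subgroup S2)) = x ^ i := by
        rw [hx, ← map_pow, ← hi, MulEquiv.symm_apply_apply]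
      have h3 : s = (x : S2) ^ i := by
        have := congrArg Subtype.val h1
        rwa [Subgroup.coe_pow] at this
      rw [h3, ← conj_pow, hΩx]
      exact Subgroup.pow_mem _ (Subgroup.mul_mem _ x.2 y.2) i
    · have h1 : (⟨s, hs⟩ : (S : Subgroup S2)) = y * x ^ i := by
        rw [hx, hy, ← map_pow, ← map_mul, ← hi, MulEquiv.symm_apply_apply]
      have h3 : s = (y : S2) * (x : S2) ^ i := by
        have := congrArg Subtype.val h1
        rwa [Subgroup.coe_mul, Subgroup.coe_pow] at this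
      rw [h3, ← conj_mul, ← conj_pow, hΩx, hΩy]
      exact Subgroup.mul_mem _ x.2 (Subgroup.pow_mem _ (Subgroup.mul_mem _ x.2 y.2) i)
  have hTN : (S : Subgroup S2) ≤ Subgroup.normalizer ((S : Subgroup S2) : Set S2) :=
    Subgroup.le_normalizer
  haveI hnorm : ((S : Subgroup S2).subgroupOf
      (Subgroup.normalizer ((S : Subgroup S2) : Set S2))).Normal := Subgroup.normal_in_normalizer
  have hindex : ((S : Subgroup S2).subgroupOf
      (Subgroup.normalizer ((S : Subgroup S2) : Set S2))).index = 3 := by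
    have h1 := Subgroup.card_mul_index ((S : Subgroup S2).subgroupOf
      (Subgroup.normalizer ((S : Subgroup S2) : Set S2)))
    rw [Nat.card_congr (Subgroup.subgroupOfEquivOfLe hTN).toEquiv, hcardS, hcardN] at h1
    omega
  have hab : ∀ a b : Subgroup.normalizer ((S : Subgroup S2) : Set S2) ⧸
      (S : Subgroup S2).subgroupOf (Subgroup.normalizer ((S : Subgroup S2) : Set S2)),
      a * b = b * a := by
    haveI : Fact (Nat.Prime 3) := ⟨Nat.prime_three⟩
    have hc3 : Nat.card (Subgroup.normalizer ((S : Subgroup S2) : Set S2) ⧸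
      (S : Subgroup S2).subgroupOf (Subgroup.normalizer ((S : Subgroup S2) : Set S2))) = 3 := by
      rw [← Subgroup.index_eq_card, hindex]
    haveI := isCyclic_of_prime_card hc3
    intro a b
    obtain ⟨g, hg⟩ := IsCyclic.exists_generator (α := Subgroup.normalizer
      ((S : Subgroup S2) : Set S2) ⧸
      (S : Subgroup S2).subgroupOf (Subgroup.normalizer ((S : Subgroup S2) : Set S2)))
    obtain ⟨i, rfl⟩ := Subgroup.mem_zpowers_iff.mp (hg a)
    obtain ⟨j, rfl⟩ := Subgroup.mem_zpowers_iff.mp (hg b)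
    exact ((Commute.refl _).zpow_zpow i j).eq
  have hK : ∀ χ : Cfsg.IrrCharacter (Subgroup.normalizer ((S : Subgroup S2) : Set S2)),
      Cfsg.charDegree (χ : Subgroup.normalizer ((S : Subgroup S2) : Set S2) → ℂ) = 1 →
      ∀ k ∈ (S : Subgroup S2).subgroupOf (Subgroup.normalizer ((S : Subgroup S2) : Set S2)),
        (χ : Subgroup.normalizer ((S : Subgroup S2) : Set S2) → ℂ) k = 1 := by
    intro χ hχ k hk
    have h1 : (χ : Subgroup.normalizer ((S : Subgroup S2) : Set S2) → ℂ) 1 = 1 := by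
      rw [irr_one_eq_charDegree, hχ, Nat.cast_one]
    obtain ⟨φ, hφ⟩ : ∃ φ : Subgroup.normalizer ((S : Subgroup S2) : Set S2) →* ℂˣ,
        φ = Cfsg.Agent.Lib.Helper25.irrLinearHom χ h1 := ⟨_, rfl⟩
    have hφval : ∀ g, ((φ g : ℂˣ) : ℂ) =
        (χ : Subgroup.normalizer ((S : Subgroup S2) : Set S2) → ℂ) g := by
      intro g
      rw [hφ]
      rfl
    have hconj : ∀ a b : Subgroup.normalizer ((S : Subgroup S2) : Set S2),
        φ (a * b * a⁻¹) = φ b := by
      intro a b
      rw [map_mul, map_mul, map_inv, mul_comm (φ a), mul_assoc, mul_inv_cancel, mul_one]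
    obtain ⟨ωN, hωN⟩ : ∃ ωN : Subgroup.normalizer ((S : Subgroup S2) : Set S2), (ωN : S2) = Ω :=
      ⟨⟨Ω, hΩN⟩, rfl⟩
    obtain ⟨xN, hxN⟩ : ∃ xN : Subgroup.normalizer ((S : Subgroup S2) : Set S2),
        (xN : S2) = (x : S2) := ⟨⟨x, hTN x.2⟩, rfl⟩
    obtain ⟨yN, hyN⟩ : ∃ yN : Subgroup.normalizer ((S : Subgroup S2) : Set S2),
        (yN : S2) = (y : S2) := ⟨⟨y, hTN y.2⟩, rfl⟩
    have e1 : ωN * xN * ωN⁻¹ = xN * yN := by
      apply Subtype.ext
      show (ωN : S2) * (xN : S2) * (ωN : S2)⁻¹ = (xN : S2) * (yN : S2)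
      rw [hωN, hxN, hyN, hΩx]
    have e2 : ωN * yN * ωN⁻¹ = xN := by
      apply Subtype.ext
      show (ωN : S2) * (yN : S2) * (ωN : S2)⁻¹ = (xN : S2)
      rw [hωN, hxN, hyN, hΩy]
    have hy1 : φ yN = 1 := by
      have h3 := hconj ωN xN
      rw [e1, map_mul] at h3
      exact mul_eq_left.mp h3
    have hx1 : φ xN = 1 := by
      have h3 := hconj ωN yN
      rw [e2, hy1] at h3
      exact h3
    have hk' : (k : S2) ∈ (S : Subgroup S2) := Subgroup.mem_subgroupOf.mp hk
    have hφk : φ k = 1 := by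
      rcases quat_cases (2 ^ 1) (e ⟨(k : S2), hk'⟩) with ⟨i, hi⟩ | ⟨i, hi⟩
      · have h3 : (⟨(k : S2), hk'⟩ : (S : Subgroup S2)) = x ^ i := by
          rw [hx, ← map_pow, ← hi, MulEquiv.symm_apply_apply]
        have h4 : k = xN ^ i := by
          apply Subtype.ext
          have := congrArg Subtype.val h3
          rw [Subgroup.coe_pow] at this
          rw [Subgroup.coe_pow, hxN]
          exact this
        rw [h4, map_pow, hx1, one_pow]
      · have h3 : (⟨(k : S2), hk'⟩ : (S : Subgroup S2)) = y * x ^ i := by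
          rw [hx, hy, ← map_pow, ← map_mul, ← hi, MulEquiv.symm_apply_apply]
        have h4 : k = yN * xN ^ i := by
          apply Subtype.ext
          have := congrArg Subtype.val h3
          rw [Subgroup.coe_mul, Subgroup.coe_pow] at this
          rw [Subgroup.coe_mul, Subgroup.coe_pow, hxN, hyN]
          exact this
        rw [h4, map_mul, map_pow, hx1, hy1, one_pow, one_mul]
    rw [← hφval, hφk]
    rfl
  have ha := card_linear_of_quot ((S : Subgroup S2).subgroupOf
    (Subgroup.normalizer ((S : Subgroup S2) : Set S2))) hab hK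
  rw [hindex] at ha
  have h4 := four_dvd_card_odd (G := Subgroup.normalizer ((S : Subgroup S2) : Set S2))
    (by rw [hcardN]; norm_num)
  have h9 := nine_mul_card_odd_le (G := Subgroup.normalizer ((S : Subgroup S2) : Set S2))
  rw [ha, hcardN] at h9
  have hpos : 0 < Nat.card {ψ : Cfsg.IrrCharacter
      (Subgroup.normalizer ((S : Subgroup S2) : Set S2)) //
      ¬ 2 ∣ Cfsg.charDegree (ψ : Subgroup.normalizer ((S : Subgroup S2) : Set S2) → ℂ)} := by
    have hpos1 : 0 < Nat.card {χ : Cfsg.IrrCharacter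
        (Subgroup.normalizer ((S : Subgroup S2) : Set S2)) //
        Cfsg.charDegree (χ : Subgroup.normalizer ((S : Subgroup S2) : Set S2) → ℂ) = 1} := by
      rw [ha]; norm_num
    obtain ⟨⟨χ0, hχ0⟩⟩ := (Nat.card_pos_iff.mp hpos1).1
    exact Nat.card_pos_iff.mpr ⟨⟨⟨χ0, by rw [hχ0]; decide⟩⟩, inferInstance⟩
  obtain ⟨t, ht⟩ := h4
  omega

end LHS

end Cfsg.Agent.Lib.helper14.McKay
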