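import Mathlib

set_option autoImplicit false

/-!
# Transvection calculus (for McLaughlin's theorem over a prime field)
-/

namespace Cfsg.Agent.Lib.helper14.McLA

open Module

section general

variable {k : Type*} [Field k] {V : Type*} [AddCommGroup V] [Module k V]

/-- the map `v ↦ v + φ v • w` -/
def tvm (φ : Dual k V) (w : V) : V →ₗ[k] V := LinearMap.id + φ.smulRight w

@[simp] theorem tvm_apply (φ : Dual k V) (w v : V) : tvm φ w v = v + φ v • w := by
  simp [tvm]

theorem tvm_comp_neg (φ : Dual k V) (w : V) (h : φ w = 0) :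
    (tvm φ w).comp (tvm (-φ) w) = LinearMap.id := by
  ext v
  simp [h, add_assoc]

theorem tvm_neg_comp (φ : Dual k V) (w : V) (h : φ w = 0) :
    (tvm (-φ) w).comp (tvm φ w) = LinearMap.id := by
  ext v
  simp [h, add_assoc]

/-- the transvection `v ↦ v + φ v • w` as a linear automorphism (needs `φ w = 0`) -/
def tve (φ : Dual k V) (w : V) (h : φ w = 0) : V ≃ₗ[k] V :=
  LinearEquiv.ofLinear (tvm φ w) (tvm (-φ) w) (tvm_comp_neg φ w h) (tvm_neg_comp φ w h)

@[simp] theorem tve_apply (φ : Dual k V) (w : V) (h : φ w = 0) (v : V) :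
    tve φ w h v = v + φ v • w := by
  simp [tve]

theorem tve_inv (φ : Dual k V) (w : V) (h : φ w = 0) :
    (tve φ w h)⁻¹ = tve (-φ) w (by simp [h]) := by
  ext v
  change (tve φ w h).symm v = _
  rw [LinearEquiv.symm_apply_eq]
  simp [h, add_assoc]

theorem tve_inv_apply (φ : Dual k V) (w : V) (h : φ w = 0) (v : V) :
    (tve φ w h)⁻¹ v = v - φ v • w := by
  rw [tve_inv]
  simp [sub_eq_add_neg]

theorem tve_mul_left (φ φ' : Dual k V) (w : V) (h : φ w = 0) (h' : φ' w = 0) :
    tve φ w h * tve φ' w h' = tve (φ + φ') w (by simp [h, h']) := by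
  ext v
  simp only [LinearEquiv.mul_apply, tve_apply, map_add, map_smul, h, zero_smul, smul_zero,
    add_zero, LinearMap.add_apply, add_smul]
  abel

theorem tve_mul_right (φ : Dual k V) (w w' : V) (h : φ w = 0) (h' : φ w' = 0) :
    tve φ w h * tve φ w' h' = tve φ (w + w') (by simp [h, h']) := by
  ext v
  simp only [LinearEquiv.mul_apply, tve_apply, map_add, map_smul, h', zero_smul, smul_zero,
    add_zero, smul_add]
  abel

theorem tve_zero_left (w : V) : tve (0 : Dual k V) w (by simp) = 1 := by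
  ext v
  simp

theorem tve_zero_right (φ : Dual k V) : tve φ (0 : V) (by simp) = 1 := by
  ext v
  simp

theorem tve_smul (c : k) (φ : Dual k V) (w : V) (h : φ w = 0) :
    tve (c • φ) w (by simp [h]) = tve φ (c • w) (by simp [h]) := by
  ext v
  simp [smul_smul, mul_comm]

/-- conjugation formula -/
theorem conj_tve (g : V ≃ₗ[k] V) (φ : Dual k V) (w : V) (h : φ w = 0) :
    g * tve φ w h * g⁻¹ = tve (φ.comp (g⁻¹ : V ≃ₗ[k] V).toLinearMap) (g w)
      (by
        have : (g⁻¹ : V ≃ₗ[k] V) (g w) = w := by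
          change g.symm (g w) = w
          simp
        simp [this, h]) := by
  ext v
  simp only [LinearEquiv.mul_apply, tve_apply, map_add, map_smul, LinearMap.comp_apply,
    LinearEquiv.coe_coe]
  congr 1
  change g (g.symm v) = v
  simp

theorem tve_pow (φ : Dual k V) (w : V) (h : φ w = 0) (n : ℕ) :
    (tve φ w h) ^ n = tve ((n : k) • φ) w (by simp [h]) := by
  induction n with
  | zero =>
    ext v
    simp
  | succ n ih =>
    rw [pow_succ, ih, tve_mul_left]
    ext v
    simp [add_smul]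

/-- two transvections conjugated: `τ(φ,w) τ(ψ,u) τ(φ,w)⁻¹ = τ(ψ - ψ w • φ, u + φ u • w)` -/
theorem tve_conj_tve (φ ψ : Dual k V) (w u : V) (h : φ w = 0) (h' : ψ u = 0) :
    tve φ w h * tve ψ u h' * (tve φ w h)⁻¹ =
      tve (ψ - ψ w • φ) (u + φ u • w) (by simp [h, h']; ring) := by
  rw [conj_tve]
  ext v
  simp only [tve_apply, LinearMap.comp_apply, LinearEquiv.coe_coe, tve_inv_apply, map_sub,
    map_smul, smul_eq_mul, LinearMap.sub_apply, LinearMap.smul_apply]
  congr 2
  ring

/-- commuting criterion: if `φ u = 0` and `ψ w = 0` the transvections commute -/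
theorem tve_comm (φ ψ : Dual k V) (w u : V) (h : φ w = 0) (h' : ψ u = 0) (h1 : φ u = 0)
    (h2 : ψ w = 0) : tve φ w h * tve ψ u h' = tve ψ u h' * tve φ w h := by
  ext v
  simp only [LinearEquiv.mul_apply, tve_apply, map_add, map_smul, h1, h2, zero_smul, add_zero]
  abel

variable (H : Subgroup (V ≃ₗ[k] V))

/-- `(φ, w)` is an `H`-pair: `φ w = 0` and the transvection `τ(φ,w)` lies in `H` -/
def InS (φ : Dual k V) (w : V) : Prop := ∃ h : φ w = 0, tve φ w h ∈ H

variable {H}

theorem InS.eval {φ : Dual k V} {w : V} (h : InS H φ w) : φ w = 0 := h.1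

theorem InS.mem {φ : Dual k V} {w : V} (h : InS H φ w) : tve φ w h.1 ∈ H := h.2

theorem InS.zero_left (w : V) : InS H (0 : Dual k V) w :=
  ⟨by simp, by rw [tve_zero_left]; exact H.one_mem⟩

theorem InS.zero_right (φ : Dual k V) : InS H φ (0 : V) :=
  ⟨by simp, by rw [tve_zero_right]; exact H.one_mem⟩

theorem InS.add_left {φ φ' : Dual k V} {w : V} (h : InS H φ w) (h' : InS H φ' w) :
    InS H (φ + φ') w :=
  ⟨by simp [h.1, h'.1], by rw [← tve_mul_left φ φ' w h.1 h'.1]; exact H.mul_mem h.2 h'.2⟩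

theorem InS.add_right {φ : Dual k V} {w w' : V} (h : InS H φ w) (h' : InS H φ w') :
    InS H φ (w + w') :=
  ⟨by simp [h.1, h'.1], by rw [← tve_mul_right φ w w' h.1 h'.1]; exact H.mul_mem h.2 h'.2⟩

theorem InS.neg_left {φ : Dual k V} {w : V} (h : InS H φ w) : InS H (-φ) w :=
  ⟨by simp [h.1], by rw [← tve_inv φ w h.1]; exact H.inv_mem h.2⟩

theorem InS.neg_right {φ : Dual k V} {w : V} (h : InS H φ w) : InS H φ (-w) := by
  refine ⟨by simp [h.1], ?_⟩
  have h2 := h.neg_left.2
  have h3 : tve (-φ) w (by simp [h.1]) = tve φ (-w) (by simp [h.1]) := by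
    ext v
    simp
  rw [h3] at h2
  exact h2

theorem InS.sub_left {φ φ' : Dual k V} {w : V} (h : InS H φ w) (h' : InS H φ' w) :
    InS H (φ - φ') w := by
  rw [sub_eq_add_neg]
  exact h.add_left h'.neg_left

theorem InS.sub_right {φ : Dual k V} {w w' : V} (h : InS H φ w) (h' : InS H φ w') :
    InS H φ (w - w') := by
  rw [sub_eq_add_neg]
  exact h.add_right h'.neg_right

theorem InS.conj {φ : Dual k V} {w : V} (h : InS H φ w) {g : V ≃ₗ[k] V} (hg : g ∈ H) :
    InS H (φ.comp (g⁻¹ : V ≃ₗ[k] V).toLinearMap) (g w) := by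
  have h1 := conj_tve g φ w h.1
  refine ⟨?_, ?_⟩
  · have : (g⁻¹ : V ≃ₗ[k] V) (g w) = w := by
      change g.symm (g w) = w
      simp
    simp [this, h.1]
  · rw [← h1]
    exact H.mul_mem (H.mul_mem hg h.2) (H.inv_mem hg)

theorem InS.conj_tve {φ ψ : Dual k V} {w u : V} (h : InS H φ w) (h' : InS H ψ u) :
    InS H (ψ - ψ w • φ) (u + φ u • w) := by
  have h1 := tve_conj_tve φ ψ w u h.1 h'.1
  refine ⟨?_, ?_⟩
  · simp [h.1, h'.1]; ring
  · rw [← h1]
    exact H.mul_mem (H.mul_mem h.2 h'.2) (H.inv_mem h.2)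

theorem InS.natCast_smul_left {φ : Dual k V} {w : V} (h : InS H φ w) (n : ℕ) :
    InS H ((n : k) • φ) w :=
  ⟨by simp [h.1], by rw [← tve_pow φ w h.1 n]; exact H.pow_mem h.2 n⟩

/-- the field is a prime field in the sense that every element is a natural number cast -/
def IsPrimeFld (k : Type*) [Field k] : Prop := ∀ c : k, ∃ n : ℕ, (n : k) = c

theorem InS.smul_left (hk : IsPrimeFld k) {φ : Dual k V} {w : V} (h : InS H φ w) (c : k) :
    InS H (c • φ) w := by
  obtain ⟨n, rfl⟩ := hk c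
  exact h.natCast_smul_left n

theorem InS.smul_right (hk : IsPrimeFld k) {φ : Dual k V} {w : V} (h : InS H φ w) (c : k) :
    InS H φ (c • w) := by
  have h1 := h.smul_left hk c
  refine ⟨by simp [h.1], ?_⟩
  rw [← tve_smul c φ w h.1]
  exact h1.2

/-- `S4`: if `ψ w = 0` then `(ψ, φ u • w)` is an `H`-pair -/
theorem InS.comm_pair {φ ψ : Dual k V} {w u : V} (h : InS H φ w) (h' : InS H ψ u)
    (hw : ψ w = 0) : InS H ψ (φ u • w) := by
  have h1 := h.conj_tve h'
  rw [hw, zero_smul, sub_zero] at h1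
  have h2 := h1.sub_right h'
  rwa [add_sub_cancel_left] at h2

theorem InS.comm_pair' (hk : IsPrimeFld k) {φ ψ : Dual k V} {w u : V} (h : InS H φ w)
    (h' : InS H ψ u) (hw : ψ w = 0) (hu : φ u ≠ 0) : InS H ψ w := by
  have h1 := (h.comm_pair h' hw).smul_right hk (φ u)⁻¹
  rwa [smul_smul, inv_mul_cancel₀ hu, one_smul] at h1

end general

theorem isPrimeFld_zmod (p : ℕ) [Fact p.Prime] : IsPrimeFld (ZMod p) := by
  intro c
  exact ⟨c.val, ZMod.natCast_zmod_val c⟩

end Cfsg.Agent.Lib.helper14.McLA
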