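import Mathlib
import Cfsg.Agent.Lib.helper14.McLA

set_option autoImplicit false

/-!
# Pairs of transvections generating `SL₂`, centres, adjacency
-/

namespace Cfsg.Agent.Lib.helper14.McLB

open Module Cfsg.Agent.Lib.helper14.McLA

variable {k : Type*} [Field k] {V : Type*} [AddCommGroup V] [Module k V]
variable {H : Subgroup (V ≃ₗ[k] V)}

/-- Key lemma: a hyperbolic pair of transvections gives all transvections of the plane. -/
theorem plane_pairs (hk : IsPrimeFld k) {φ ψ : Dual k V} {w u : V} (h : InS H φ w)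
    (h' : InS H ψ u) (hc : φ u ≠ 0) (he : ψ w ≠ 0) (a b a' b' : k)
    (hv : (a' • φ + b' • ψ) (a • w + b • u) = 0) :
    InS H (a' • φ + b' • ψ) (a • w + b • u) := by
  have hw0 : φ w = 0 := h.eval
  have hu0 : ψ u = 0 := h'.eval
  have hv' : a' * b * φ u + b' * a * ψ w = 0 := by
    have := hv
    simp only [LinearMap.add_apply, LinearMap.smul_apply, map_add, map_smul, smul_eq_mul, hw0,
      hu0, mul_zero, zero_add, add_zero] at this
    linear_combination this
  by_cases hb : b = 0
  · subst hb
    by_cases ha : a = 0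
    · subst ha
      simp only [zero_smul, add_zero]
      exact InS.zero_right _
    · have hb' : b' = 0 := by
        have : b' * a * ψ w = 0 := by simpa using hv'
        rcases mul_eq_zero.mp this with h1 | h1
        · rcases mul_eq_zero.mp h1 with h2 | h2
          · exact h2
          · exact absurd h2 ha
        · exact absurd h1 he
      subst hb'
      simp only [zero_smul, add_zero]
      exact (h.smul_left hk a').smul_right hk a
  · -- conjugate `(ψ, u)` by `τ(s φ, w)` with `s = a / (b c)`
    set s : k := a / (b * φ u) with hs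
    have h1 := (h.smul_left hk s).conj_tve h'
    -- h1 : InS H (ψ - ψ w • (s • φ)) (u + (s • φ) u • w)
    have h2 := (h1.smul_right hk b).smul_left hk b'
    have e1 : b • (u + (s • φ) u • w) = a • w + b • u := by
      simp only [LinearMap.smul_apply, smul_eq_mul, smul_add, smul_smul]
      rw [add_comm]
      congr 2
      rw [hs]
      field_simp
    have e2 : b' • (ψ - ψ w • (s • φ)) = a' • φ + b' • ψ := by
      have ha' : a' = - (b' * a * ψ w) / (b * φ u) := by
        field_simp
        linear_combination hv'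
      rw [smul_sub, smul_smul, smul_smul, sub_eq_add_neg, add_comm, ← neg_smul]
      congr 2
      rw [ha', hs]
      field_simp
    rw [e1, e2] at h2
    exact h2

/-- transitivity of the `SL₂` of a hyperbolic pair -/
theorem exists_map (hk : IsPrimeFld k) {φ ψ : Dual k V} {w u : V} (h : InS H φ w)
    (h' : InS H ψ u) (hc : φ u ≠ 0) (he : ψ w ≠ 0) : ∃ g ∈ H, g w = u := by
  have h1 := h'.smul_left hk (ψ w)⁻¹
  have h2 := h.smul_left hk (-(φ u)⁻¹)
  refine ⟨tve _ _ h2.eval * tve _ _ h1.eval, H.mul_mem h2.mem h1.mem, ?_⟩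
  have e1 : (tve _ _ h1.eval) w = w + u := by
    rw [tve_apply]
    simp [inv_mul_cancel₀ he]
  have e2 : (tve _ _ h2.eval) (w + u) = u := by
    rw [tve_apply]
    simp [h.eval, inv_mul_cancel₀ hc]
  rw [LinearEquiv.mul_apply, e1, e2]

variable (H)

/-- nonzero vectors which are centres of transvections in `H` -/
def IsCen (w : V) : Prop := w ≠ 0 ∧ ∃ φ : Dual k V, φ ≠ 0 ∧ InS H φ w

/-- `w → u` : some transvection of `H` with centre `w` moves `u` -/
def Adj (w u : V) : Prop := ∃ φ : Dual k V, InS H φ w ∧ φ u ≠ 0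

/-- the space of axes of transvections with centre `w` -/
def Phi (hk : IsPrimeFld k) (w : V) : Submodule k (Dual k V) where
  carrier := {φ | InS H φ w}
  add_mem' := fun h h' => InS.add_left h h'
  zero_mem' := InS.zero_left w
  smul_mem' := fun c _ h => InS.smul_left hk h c

variable {H}

@[simp] theorem mem_Phi (hk : IsPrimeFld k) (w : V) (φ : Dual k V) :
    φ ∈ Phi H hk w ↔ InS H φ w := Iff.rfl

theorem IsCen.map {w : V} (h : IsCen H w) {g : V ≃ₗ[k] V} (hg : g ∈ H) : IsCen H (g w) := by
  obtain ⟨hw, φ, hφ, hS⟩ := h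
  refine ⟨by simpa using hw, φ.comp (g⁻¹ : V ≃ₗ[k] V).toLinearMap, ?_, hS.conj hg⟩
  intro h0
  apply hφ
  ext v
  have := LinearMap.congr_fun h0 (g v)
  simp only [LinearMap.comp_apply, LinearEquiv.coe_coe, LinearMap.zero_apply] at this
  have e : (g⁻¹ : V ≃ₗ[k] V) (g v) = v := by
    change g.symm (g v) = v
    simp
  rw [e] at this
  simpa using this

theorem IsCen.smul (hk : IsPrimeFld k) {w : V} (h : IsCen H w) {c : k} (hc : c ≠ 0) :
    IsCen H (c • w) := by
  obtain ⟨hw, φ, hφ, hS⟩ := h
  exact ⟨smul_ne_zero hc hw, φ, hφ, hS.smul_right hk c⟩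

/-- the map `φ ↦ φ ∘ g⁻¹` as a linear equivalence of the dual -/
def dualConj (g : V ≃ₗ[k] V) : Dual k V ≃ₗ[k] Dual k V :=
  (g⁻¹ : V ≃ₗ[k] V).dualMap

theorem dualConj_apply (g : V ≃ₗ[k] V) (φ : Dual k V) :
    dualConj g φ = φ.comp (g⁻¹ : V ≃ₗ[k] V).toLinearMap := rfl

theorem Phi_map (hk : IsPrimeFld k) (w : V) {g : V ≃ₗ[k] V} (hg : g ∈ H) :
    (Phi H hk w).map (dualConj g).toLinearMap = Phi H hk (g w) := by
  ext φ
  constructor
  · rintro ⟨ψ, hψ, rfl⟩
    exact InS.conj hψ hg
  · intro hφ
    refine ⟨dualConj g⁻¹ φ, ?_, ?_⟩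
    · have := InS.conj hφ (H.inv_mem hg)
      have e : (g⁻¹ : V ≃ₗ[k] V) (g w) = w := by
        change g.symm (g w) = w
        simp
      rw [e] at this
      exact this
    · ext v
      simp only [LinearEquiv.coe_coe, dualConj_apply, LinearMap.comp_apply, inv_inv]
      congr 1
      change g (g.symm v) = v
      simp

theorem finrank_Phi_map (hk : IsPrimeFld k) (w : V) {g : V ≃ₗ[k] V} (hg : g ∈ H) :
    finrank k (Phi H hk (g w)) = finrank k (Phi H hk w) := by
  rw [← Phi_map hk w hg]
  exact LinearEquiv.finrank_eq (Submodule.equivMapOfInjective _ (dualConj g).injective _).symm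

end Cfsg.Agent.Lib.helper14.McLB
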