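import Mathlib
import Cfsg.Agent.Lib.helper14.McLB

set_option autoImplicit false

/-!
# Irreducible groups generated by transvections: transitivity on centres, symmetry
-/

namespace Cfsg.Agent.Lib.helper14.McLC

open Module Cfsg.Agent.Lib.helper14.McLA Cfsg.Agent.Lib.helper14.McLB

variable {k : Type*} [Field k] {V : Type*} [AddCommGroup V] [Module k V]
variable {H : Subgroup (V ≃ₗ[k] V)}

variable (H) in
/-- The connectivity package replacing irreducibility: a subspace invariant under all the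
transvections of `H` and containing a centre contains every centre, and no axis vanishes
on it. -/
def Conn : Prop := ∀ U : Submodule k V,
  (∀ (φ : Dual k V) (w : V), InS H φ w → ∀ v ∈ U, v + φ v • w ∈ U) →
  (∃ x ∈ U, IsCen H x) →
  ∀ (ψ : Dual k V) (u : V), InS H ψ u → ψ ≠ 0 → u ≠ 0 → u ∈ U ∧ ∃ v ∈ U, ψ v ≠ 0

/-- a subspace invariant under `H` is invariant under the transvections of `H` -/
theorem inv_of_inv {U : Submodule k V} (hU : ∀ h ∈ H, ∀ v ∈ U, h v ∈ U) :
    ∀ (φ : Dual k V) (w : V), InS H φ w → ∀ v ∈ U, v + φ v • w ∈ U := by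
  intro φ w hS v hv
  have := hU _ hS.mem v hv
  simpa using this

variable [FiniteDimensional k V]

open Classical in
theorem exists_max_center (hk : IsPrimeFld k) (h0 : ∃ w, IsCen H w) :
    ∃ w₀, IsCen H w₀ ∧ ∀ w, IsCen H w → finrank k (Phi H hk w) ≤ finrank k (Phi H hk w₀) := by
  set N := finrank k (Dual k V) with hN
  set P : ℕ → Prop := fun m => ∃ w, IsCen H w ∧ finrank k (Phi H hk w) = m with hP
  obtain ⟨w1, hw1⟩ := h0
  have hle : ∀ w, finrank k (Phi H hk w) ≤ N := fun w => Submodule.finrank_le _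
  have h1 : P (finrank k (Phi H hk w1)) := ⟨w1, hw1, rfl⟩
  have hspec := Nat.findGreatest_spec (P := P) (hle w1) h1
  obtain ⟨w₀, hw₀, hr⟩ := hspec
  refine ⟨w₀, hw₀, fun w hw => ?_⟩
  rw [hr]
  exact Nat.le_findGreatest (hle w) ⟨w, hw, rfl⟩

/-- if `w'` has maximal rank and `u → w'` then `w' → u` -/
theorem adj_symm_of_max (hk : IsPrimeFld k) {w' u : V}
    (hmax : ∀ w, IsCen H w → finrank k (Phi H hk w) ≤ finrank k (Phi H hk w'))
    (hu : IsCen H u) (hadj : Adj H u w') : Adj H w' u := by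
  by_contra hn
  have hn' : ∀ φ : Dual k V, InS H φ w' → φ u = 0 := by
    intro φ hφ
    by_contra h
    exact hn ⟨φ, hφ, h⟩
  obtain ⟨ψ, hψ, hψw⟩ := hadj
  have hle : Phi H hk w' ≤ Phi H hk u := by
    intro φ hφ
    exact InS.comm_pair' hk hψ hφ (hn' φ hφ) hψw
  have hlt : Phi H hk w' < Phi H hk u := by
    refine lt_of_le_of_ne hle ?_
    intro heq
    have : ψ ∈ Phi H hk w' := by
      rw [heq]
      exact hψ
    exact hψw (InS.eval this)
  have := Submodule.finrank_lt_finrank_of_lt hlt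
  have h2 := hmax u hu
  omega

theorem orbit_all (hk : IsPrimeFld k) (hirr : Conn H) {w₀ : V} (hw₀ : IsCen H w₀)
    (hmax : ∀ w, IsCen H w → finrank k (Phi H hk w) ≤ finrank k (Phi H hk w₀))
    {u : V} (hu : IsCen H u) : ∃ g ∈ H, g w₀ = u := by
  set U : Submodule k V := Submodule.span k {v | ∃ g ∈ H, g w₀ = v} with hU
  have hUinv : ∀ h ∈ H, ∀ v ∈ U, h v ∈ U := by
    intro h hh v hv
    refine Submodule.span_induction (p := fun v _ => h v ∈ U) ?_ ?_ ?_ ?_ hv
    · rintro x ⟨g, hg, rfl⟩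
      exact Submodule.subset_span ⟨h * g, H.mul_mem hh hg, rfl⟩
    · simp
    · intro x y _ _ hx hy
      rw [map_add]
      exact U.add_mem hx hy
    · intro c x _ hx
      rw [map_smul]
      exact U.smul_mem c hx
  have hw₀U : w₀ ∈ U := Submodule.subset_span ⟨1, H.one_mem, rfl⟩
  obtain ⟨hu0, ψ, hψ0, hψ⟩ := hu
  obtain ⟨_, v, hv, hψv⟩ := hirr U (inv_of_inv hUinv) ⟨w₀, hw₀U, hw₀⟩ ψ u hψ hψ0 hu0
  have hex : ∃ g ∈ H, ψ (g w₀) ≠ 0 := by
    by_contra hcon
    push Not at hcon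
    apply hψv
    refine Submodule.span_induction (p := fun v _ => ψ v = 0) ?_ ?_ ?_ ?_ hv
    · rintro x ⟨g, hg, rfl⟩
      exact hcon g hg
    · simp
    · intro x y _ _ hx hy
      rw [map_add, hx, hy, add_zero]
    · intro c x _ hx
      rw [map_smul, hx, smul_zero]
  obtain ⟨g, hg, hgψ⟩ := hex
  have hw' : IsCen H (g w₀) := hw₀.map hg
  have hmax' : ∀ w, IsCen H w → finrank k (Phi H hk w) ≤ finrank k (Phi H hk (g w₀)) := by
    intro w hw
    rw [finrank_Phi_map hk w₀ hg]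
    exact hmax w hw
  have hadj : Adj H u (g w₀) := ⟨ψ, hψ, hgψ⟩
  obtain ⟨φ, hφ, hφu⟩ := adj_symm_of_max hk hmax' ⟨hu0, ψ, hψ0, hψ⟩ hadj
  obtain ⟨g', hg', hg'u⟩ := exists_map hk hφ hψ hφu hgψ
  exact ⟨g' * g, H.mul_mem hg' hg, by rw [LinearEquiv.mul_apply, hg'u]⟩

/-- `H` is transitive on centre vectors -/
theorem cen_trans (hk : IsPrimeFld k) (hirr : Conn H) {w u : V} (hw : IsCen H w)
    (hu : IsCen H u) : ∃ g ∈ H, g w = u := by
  obtain ⟨w₀, hw₀, hmax⟩ := exists_max_center hk ⟨w, hw⟩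
  obtain ⟨g1, hg1, h1⟩ := orbit_all hk hirr hw₀ hmax hw
  obtain ⟨g2, hg2, h2⟩ := orbit_all hk hirr hw₀ hmax hu
  refine ⟨g2 * g1⁻¹, H.mul_mem hg2 (H.inv_mem hg1), ?_⟩
  rw [LinearEquiv.mul_apply, ← h1]
  have : (g1⁻¹ : V ≃ₗ[k] V) (g1 w₀) = w₀ := by
    change g1.symm (g1 w₀) = w₀
    simp
  rw [this, h2]

theorem finrank_Phi_eq (hk : IsPrimeFld k) (hirr : Conn H) {w u : V} (hw : IsCen H w)
    (hu : IsCen H u) : finrank k (Phi H hk w) = finrank k (Phi H hk u) := by
  obtain ⟨g, hg, rfl⟩ := cen_trans hk hirr hw hu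
  exact (finrank_Phi_map hk w hg).symm

/-- adjacency is symmetric on centres -/
theorem adj_symm (hk : IsPrimeFld k) (hirr : Conn H) {w u : V} (hw : IsCen H w)
    (hu : IsCen H u) (hadj : Adj H w u) : Adj H u w := by
  refine adj_symm_of_max hk (fun x hx => ?_) hw hadj
  exact le_of_eq (finrank_Phi_eq hk hirr hx hu)

/-- rank formula: an axis of `w` vanishing at an adjacent centre `u` is an axis of `u` -/
theorem inS_of_adj (hk : IsPrimeFld k) (hirr : Conn H) {w u : V} (hw : IsCen H w)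
    (hu : IsCen H u) (hadj : Adj H w u) {φ : Dual k V} (hφ : InS H φ w) (hφu : φ u = 0) :
    InS H φ u := by
  obtain ⟨ψ, hψ, hψw⟩ := adj_symm hk hirr hw hu hadj
  exact InS.comm_pair' hk hψ hφ hφu hψw

/-- for any nonzero axis there is a centre on which it does not vanish -/
theorem exists_cen_ne (hirr : Conn H) {φ : Dual k V} {x : V} (hφ : φ ≠ 0) (hx : x ≠ 0)
    (hS : InS H φ x) : ∃ u, IsCen H u ∧ φ u ≠ 0 := by
  have hxcen : IsCen H x := ⟨hx, φ, hφ, hS⟩
  set U : Submodule k V := Submodule.span k {v | IsCen H v} with hU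
  have hUinv : ∀ h ∈ H, ∀ v ∈ U, h v ∈ U := by
    intro h hh v hv
    refine Submodule.span_induction (p := fun v _ => h v ∈ U) ?_ ?_ ?_ ?_ hv
    · intro x hx
      exact Submodule.subset_span (IsCen.map hx hh)
    · simp
    · intro x y _ _ hx hy
      rw [map_add]
      exact U.add_mem hx hy
    · intro c x _ hx
      rw [map_smul]
      exact U.smul_mem c hx
  obtain ⟨_, v, hv, hφv⟩ :=
    hirr U (inv_of_inv hUinv) ⟨x, Submodule.subset_span hxcen, hxcen⟩ φ x hS hφ hx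
  by_contra hcon
  push Not at hcon
  apply hφv
  refine Submodule.span_induction (p := fun v _ => φ v = 0) ?_ ?_ ?_ ?_ hv
  · intro x hx
    exact hcon x hx
  · simp
  · intro x y _ _ hx hy
    rw [map_add, hx, hy, add_zero]
  · intro c x _ hx
    rw [map_smul, hx, smul_zero]

end Cfsg.Agent.Lib.helper14.McLC
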