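import Mathlib
import Cfsg.Agent.Lib.helper14.McLC

set_option autoImplicit false

/-!
# Linear algebra helper lemmas and the `SL`-type extension step
-/

namespace Cfsg.Agent.Lib.helper14.McLD

open Module Cfsg.Agent.Lib.helper14.McLA Cfsg.Agent.Lib.helper14.McLB
  Cfsg.Agent.Lib.helper14.McLC

variable {k : Type*} [Field k] {V : Type*} [AddCommGroup V] [Module k V]

section linalg

variable [FiniteDimensional k V]

theorem finrank_inf_ker_ge (U : Submodule k V) (φ : Dual k V) :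
    finrank k U ≤ finrank k ↥(U ⊓ LinearMap.ker φ) + 1 := by
  have h1 := Submodule.finrank_sup_add_finrank_inf_eq U (LinearMap.ker φ)
  have h2 : finrank k ↥(U ⊔ LinearMap.ker φ) ≤ finrank k V := Submodule.finrank_le _
  have h3 := LinearMap.finrank_range_add_finrank_ker φ
  have h4 : finrank k ↥(LinearMap.range φ) ≤ 1 := by
    have := Submodule.finrank_le (LinearMap.range φ)
    simpa using this
  omega

/-- G1 -/
theorem exists_notMem_span (U : Submodule k V) (h2 : 2 ≤ finrank k U) (y : V) :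
    ∃ x ∈ U, x ∉ Submodule.span k {y} := by
  by_contra hcon
  push Not at hcon
  have hle : U ≤ Submodule.span k {y} := hcon
  have h1 := Submodule.finrank_mono hle
  have h3 : finrank k ↥(Submodule.span k {y}) ≤ 1 := by
    have := finrank_span_le_card (R := k) ({y} : Set V)
    simpa using this
  omega

/-- G2 -/
theorem exists_ne_zero_ker (U : Submodule k V) (h2 : 2 ≤ finrank k U) (φ : Dual k V) :
    ∃ x ∈ U, x ≠ 0 ∧ φ x = 0 := by
  have h1 := finrank_inf_ker_ge U φ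
  have h3 : 0 < finrank k ↥(U ⊓ LinearMap.ker φ) := by omega
  have hne : (U ⊓ LinearMap.ker φ) ≠ ⊥ := by
    intro h
    rw [h] at h3
    simp at h3
  obtain ⟨x, hx, hx0⟩ := Submodule.exists_mem_ne_zero_of_ne_bot hne
  exact ⟨x, hx.1, hx0, LinearMap.mem_ker.mp hx.2⟩

/-- G3 -/
theorem exists_notMem_span_ker (U : Submodule k V) (h3 : 3 ≤ finrank k U) (y : V)
    (φ : Dual k V) : ∃ x ∈ U, x ∉ Submodule.span k {y} ∧ φ x = 0 := by
  have h1 := finrank_inf_ker_ge U φ
  obtain ⟨x, hx, hxy⟩ := exists_notMem_span (U ⊓ LinearMap.ker φ) (by omega) y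
  exact ⟨x, hx.1, hxy, LinearMap.mem_ker.mp hx.2⟩

/-- a functional vanishing at `x` but not at `y ∉ span {x}` -/
theorem exists_dual_sep {x y : V} (hy : y ∉ Submodule.span k {x}) :
    ∃ ψ : Dual k V, ψ x = 0 ∧ ψ y ≠ 0 := by
  obtain ⟨f, hf, hf'⟩ := Submodule.exists_dual_map_eq_bot_of_notMem hy inferInstance
  refine ⟨f, ?_, hf⟩
  have : f x ∈ (Submodule.span k {x}).map f := ⟨x, Submodule.mem_span_singleton_self x, rfl⟩
  rw [hf'] at this
  simpa using this

end linalg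

variable {H : Subgroup (V ≃ₗ[k] V)}

variable (H) in
/-- `SL`-good projection: all transvections of `range P` fixing `ker P` are in `H` -/
structure SLGood (P : V →ₗ[k] V) : Prop where
  idem : ∀ v, P (P v) = P v
  good : ∀ (x : V) (φ : Dual k V), P x = x → (∀ v, φ (P v) = φ v) → φ x = 0 → InS H φ x

section ext

variable [FiniteDimensional k V]

theorem SLGood.sep {P : V →ₗ[k] V} (hP : SLGood H P) {x y : V} (hx : P x = x) (hy : P y = y)
    (hyx : y ∉ Submodule.span k {x}) :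
    ∃ ψ : Dual k V, (∀ v, ψ (P v) = ψ v) ∧ ψ x = 0 ∧ ψ y ≠ 0 ∧ InS H ψ x := by
  obtain ⟨ψ0, h1, h2⟩ := exists_dual_sep hyx
  refine ⟨ψ0.comp P, fun v => ?_, ?_, ?_, ?_⟩
  · simp [hP.idem]
  · simp [hx, h1]
  · simp [hy, h2]
  · exact hP.good x _ hx (fun v => by simp [hP.idem]) (by simp [hx, h1])

theorem SLGood.fix_of_mem {P : V →ₗ[k] V} (hP : SLGood H P) {x : V}
    (hx : x ∈ LinearMap.range P) : P x = x := by
  obtain ⟨y, rfl⟩ := hx
  exact hP.idem y

theorem SLGood.isCen {P : V →ₗ[k] V} (hP : SLGood H P)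
    (h2 : 2 ≤ finrank k (LinearMap.range P)) {x : V} (hx : P x = x) (hx0 : x ≠ 0) :
    IsCen H x := by
  obtain ⟨y, hy, hyx⟩ := exists_notMem_span (LinearMap.range P) h2 x
  obtain ⟨ψ, _, h2, h3, h4⟩ := hP.sep hx (hP.fix_of_mem hy) hyx
  refine ⟨hx0, ψ, ?_, h4⟩
  intro h0
  rw [h0] at h3
  simp at h3

theorem notMem_span_symm {x y : V} (hx : x ≠ 0) (h : y ∉ Submodule.span k {x}) :
    x ∉ Submodule.span k {y} := by
  intro hmem
  obtain ⟨c, hc⟩ := Submodule.mem_span_singleton.mp hmem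
  have hc0 : c ≠ 0 := by
    rintro rfl
    rw [zero_smul] at hc
    exact hx hc.symm
  apply h
  rw [Submodule.mem_span_singleton]
  exact ⟨c⁻¹, by rw [← hc, smul_smul, inv_mul_cancel₀ hc0, one_smul]⟩

/-- one step of the transitivity argument for `A1` -/
theorem SLGood.step {P : V →ₗ[k] V} (hP : SLGood H P) (γ : Dual k V) {x' x : V}
    (hx' : P x' = x') (hx : P x = x) (hx0 : x ≠ 0) (hx'0 : x' ≠ 0)
    (hxx : x ∉ Submodule.span k {x'})
    (hG : ∃ φ : Dual k V, InS H φ x' ∧ ∀ v, φ v - φ (P v) = γ v) :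
    ∃ φ : Dual k V, InS H φ x ∧ ∀ v, φ v - φ (P v) = γ v := by
  obtain ⟨φ', hφ', hγ⟩ := hG
  obtain ⟨χa, ha1, ha2, ha3, _⟩ := hP.sep hx' hx hxx
  obtain ⟨χb, hb1, hb2, hb3, _⟩ := hP.sep hx hx' (notMem_span_symm hx'0 hxx)
  set χ : Dual k V := (χb x')⁻¹ • χb + (χa x)⁻¹ • χa with hχ
  have hχx' : χ x' = 1 := by
    simp [hχ, ha2, inv_mul_cancel₀ hb3]
  have hχx : χ x = 1 := by
    simp [hχ, hb2, inv_mul_cancel₀ ha3]
  have hχP : ∀ v, χ (P v) = χ v := by
    intro v
    simp [hχ, ha1, hb1]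
  have hw : P (x - x') = x - x' := by rw [map_sub, hx, hx']
  have hS : InS H χ (x - x') := hP.good _ χ hw hχP (by rw [map_sub, hχx, hχx', sub_self])
  have h1 := hS.conj_tve hφ'
  rw [hχx', one_smul, add_sub_cancel] at h1
  refine ⟨_, h1, fun v => ?_⟩
  simp only [LinearMap.sub_apply, LinearMap.smul_apply, smul_eq_mul, hχP]
  rw [← hγ v]
  ring

theorem SLGood.A1 {P : V →ₗ[k] V} (hP : SLGood H P)
    (h2 : 2 ≤ finrank k (LinearMap.range P)) (γ : Dual k V) {x₁ : V}
    (hx₁ : P x₁ = x₁) (hx₁0 : x₁ ≠ 0)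
    (hG : ∃ φ : Dual k V, InS H φ x₁ ∧ ∀ v, φ v - φ (P v) = γ v) {x : V} (hx : P x = x)
    (hx0 : x ≠ 0) : ∃ φ : Dual k V, InS H φ x ∧ ∀ v, φ v - φ (P v) = γ v := by
  by_cases hxx : x ∈ Submodule.span k {x₁}
  · obtain ⟨x₂, hx₂, hx₂n⟩ := exists_notMem_span (LinearMap.range P) h2 x₁
    have hx₂P := hP.fix_of_mem hx₂
    have hx₂0 : x₂ ≠ 0 := by
      rintro rfl
      exact hx₂n (Submodule.zero_mem _)
    have hG2 := hP.step γ hx₁ hx₂P hx₂0 hx₁0 hx₂n hG
    refine hP.step γ hx₂P hx hx0 hx₂0 ?_ hG2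
    intro hmem
    -- x ∈ span x₂ and x ∈ span x₁, x ≠ 0 → x₂ ∈ span x₁
    obtain ⟨c, hc⟩ := Submodule.mem_span_singleton.mp hxx
    obtain ⟨e, he⟩ := Submodule.mem_span_singleton.mp hmem
    have he0 : e ≠ 0 := by
      rintro rfl
      rw [zero_smul] at he
      exact hx0 he.symm
    apply hx₂n
    rw [Submodule.mem_span_singleton]
    refine ⟨e⁻¹ * c, ?_⟩
    rw [mul_smul, hc, ← he, smul_smul, inv_mul_cancel₀ he0, one_smul]
  · exact hP.step γ hx₁ hx hx0 hx₁0 hxx hG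

theorem SLGood.A2 (hk : IsPrimeFld k) {P : V →ₗ[k] V} (hP : SLGood H P)
    (h2 : 2 ≤ finrank k (LinearMap.range P)) (γ : Dual k V) {x₁ : V}
    (hx₁ : P x₁ = x₁) (hx₁0 : x₁ ≠ 0)
    (hG : ∃ φ : Dual k V, InS H φ x₁ ∧ ∀ v, φ v - φ (P v) = γ v) {x : V} (hx : P x = x)
    (χ : Dual k V) (hχx : χ x = 0) (c : k) (hχ : ∀ v, χ v - χ (P v) = c * γ v) :
    InS H χ x := by
  by_cases hx0 : x = 0
  · subst hx0
    exact InS.zero_right _
  obtain ⟨φ, hφ, hφγ⟩ := hP.A1 h2 γ hx₁ hx₁0 hG hx hx0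
  have h1 : InS H (χ.comp P) x :=
    hP.good x _ hx (fun v => by simp [hP.idem]) (by simp [hx, hχx])
  have h3 : InS H (φ.comp P) x :=
    hP.good x _ hx (fun v => by simp [hP.idem]) (by simp [hx, hφ.eval])
  have h4 := (h1.add_left (hφ.smul_left hk c)).sub_left (h3.smul_left hk c)
  have e : χ.comp P + c • φ - c • φ.comp P = χ := by
    ext v
    simp only [LinearMap.sub_apply, LinearMap.add_apply, LinearMap.comp_apply,
      LinearMap.smul_apply, smul_eq_mul]
    have := hχ v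
    have h5 := hφγ v
    rw [← h5] at this
    linear_combination -this
  rwa [e] at h4

/-- Case A of the extension step: some axis of a centre in `range P` does not contain `ker P`. -/
theorem SLGood.caseA (hk : IsPrimeFld k) (hirr : Conn H) {P : V →ₗ[k] V} (hP : SLGood H P)
    (h2 : 2 ≤ finrank k (LinearMap.range P)) {x₁ : V} (hx₁ : P x₁ = x₁) (hx₁0 : x₁ ≠ 0)
    {φ₁ : Dual k V} (hφ₁ : InS H φ₁ x₁) (hne : ¬ ∀ v, φ₁ (P v) = φ₁ v) :
    ∃ P₁ : V →ₗ[k] V, SLGood H P₁ ∧ LinearMap.range P < LinearMap.range P₁ := by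
  set γ : Dual k V := φ₁ - φ₁.comp P with hγ
  have hγv : ∀ v, φ₁ v - φ₁ (P v) = γ v := fun v => by simp [hγ]
  have hG : ∃ φ : Dual k V, InS H φ x₁ ∧ ∀ v, φ v - φ (P v) = γ v := ⟨φ₁, hφ₁, hγv⟩
  have hγP : ∀ v, γ (P v) = 0 := fun v => by simp [hγ, hP.idem]
  have hγ0 : γ ≠ 0 := by
    intro h0
    apply hne
    intro v
    have := hγv v
    rw [h0] at this
    simp only [LinearMap.zero_apply] at this
    exact (sub_eq_zero.mp this).symm
  have hcen1 : IsCen H x₁ := hP.isCen h2 hx₁ hx₁0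
  have hγS : InS H γ x₁ :=
    hφ₁.sub_left (hP.good x₁ (φ₁.comp P) hx₁ (fun v => by simp [hP.idem])
      (by simp [hx₁, hφ₁.eval]))
  obtain ⟨y, hy, hγy⟩ := exists_cen_ne hirr hγ0 hx₁0 hγS
  -- move `y` into `ker P`
  set χ : Dual k V := (-(γ y)⁻¹) • γ with hχ
  have hχS : InS H χ (P y) := by
    refine hP.A2 hk h2 γ hx₁ hx₁0 hG (hP.idem y) χ (by simp [hχ, hγP]) (-(γ y)⁻¹) (fun v => ?_)
    simp [hχ, hγP]
  have hz₀ : IsCen H (y - P y) := by
    have := hy.map hχS.mem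
    have e : tve χ (P y) hχS.eval y = y - P y := by
      rw [tve_apply]
      simp only [hχ, LinearMap.smul_apply, smul_eq_mul, neg_mul, inv_mul_cancel₀ hγy, neg_smul,
        one_smul]
      abel
    rwa [e] at this
  have hγz₀ : γ (y - P y) = γ y := by rw [map_sub, hγP, sub_zero]
  set z : V := (γ y)⁻¹ • (y - P y) with hz
  have hzcen : IsCen H z := hz₀.smul hk (inv_ne_zero hγy)
  have hPz : P z = 0 := by
    rw [hz, map_smul, map_sub, hP.idem, sub_self, smul_zero]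
  have hγz : γ z = 1 := by
    rw [hz, map_smul, hγz₀, smul_eq_mul, inv_mul_cancel₀ hγy]
  -- the new projection
  set P₁ : V →ₗ[k] V := P + γ.smulRight z with hP₁
  have hP₁v : ∀ v, P₁ v = P v + γ v • z := fun v => by simp [hP₁]
  have hγP₁ : ∀ v, γ (P₁ v) = γ v := fun v => by
    rw [hP₁v, map_add, hγP, map_smul, hγz, smul_eq_mul, mul_one, zero_add]
  have hidem : ∀ v, P₁ (P₁ v) = P₁ v := by
    intro v
    rw [hP₁v (P₁ v), hγP₁, hP₁v v, map_add, hP.idem, map_smul, hPz, smul_zero, add_zero]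
  -- sub-lemma Z
  have hZ : ∀ ψ : Dual k V, (∀ u, ψ (P₁ u) = ψ u) → ψ z = 0 → InS H ψ z := by
    intro ψ hψ hψz
    have hψP : ∀ u, ψ (P u) = ψ u := by
      intro u
      have := hψ u
      rw [hP₁v, map_add, map_smul, hψz, smul_zero, add_zero] at this
      exact this
    obtain ⟨x₀, hx₀, hx₀0, hψx₀⟩ := exists_ne_zero_ker (LinearMap.range P) h2 ψ
    have hx₀P := hP.fix_of_mem hx₀
    have h1 : InS H ψ x₀ := hP.good x₀ ψ hx₀P hψP hψx₀
    obtain ⟨φ₀, hφ₀, hφ₀γ⟩ := hP.A1 h2 γ hx₁ hx₁0 hG hx₀P hx₀0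
    have hadj : Adj H x₀ z := by
      refine ⟨φ₀, hφ₀, ?_⟩
      have := hφ₀γ z
      rw [hPz, map_zero, sub_zero, hγz] at this
      rw [this]
      exact one_ne_zero
    exact inS_of_adj hk hirr (hP.isCen h2 hx₀P hx₀0) hzcen hadj h1 hψz
  refine ⟨P₁, ⟨hidem, ?_⟩, ?_⟩
  · intro v φ hv hφ hφv
    have hφ' : ∀ u, φ u - φ (P u) = φ z * γ u := by
      intro u
      have := hφ u
      rw [hP₁v, map_add, map_smul, smul_eq_mul] at this
      linear_combination -this
    by_cases hc : γ v = 0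
    · have hPv : P v = v := by
        have := hP₁v v
        rw [hv, hc, zero_smul, add_zero] at this
        exact this.symm
      exact hP.A2 hk h2 γ hx₁ hx₁0 hG hPv φ hφv (φ z) hφ'
    · set c := γ v with hcdef
      set x := P v with hxdef
      have hvx : v = x + c • z := by
        have := hP₁v v
        rw [hv] at this
        exact this
      have hxP : P x = x := hP.idem v
      -- the functional ψ = φ + φ x • (c⁻¹ • γ)
      set χ' : Dual k V := c⁻¹ • γ with hχ'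
      have hχ'x : χ' x = 0 := by simp [hχ', hxdef, hγP]
      have hχ'S : InS H χ' x := by
        refine hP.A2 hk h2 γ hx₁ hx₁0 hG hxP χ' hχ'x c⁻¹ (fun u => ?_)
        simp [hχ', hγP]
      set ψ : Dual k V := φ + φ x • χ' with hψ
      have hφx : φ x = - c * φ z := by
        have := hφv
        rw [hvx, map_add, map_smul, smul_eq_mul] at this
        linear_combination this
      have hψz : ψ z = 0 := by
        simp only [hψ, hχ', LinearMap.add_apply, LinearMap.smul_apply, smul_eq_mul, hγz, mul_one,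
          hφx]
        field_simp
        ring
      have hψP₁ : ∀ u, ψ (P₁ u) = ψ u := by
        intro u
        simp only [hψ, hχ', LinearMap.add_apply, LinearMap.smul_apply, smul_eq_mul, hφ u,
          hγP₁ u]
      have h1 : InS H ψ (c • z) := (hZ ψ hψP₁ hψz).smul_right hk c
      have h3 := hχ'S.conj_tve h1
      have e1 : c • z + χ' (c • z) • x = v := by
        rw [hvx]
        simp only [hχ', LinearMap.smul_apply, map_smul, smul_eq_mul, hγz, mul_one,
          mul_inv_cancel₀ hc, one_smul]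
        abel
      have e2 : ψ - ψ x • χ' = φ := by
        ext u
        simp only [hψ, LinearMap.sub_apply, LinearMap.add_apply, LinearMap.smul_apply,
          smul_eq_mul, hχ'x, mul_zero, add_zero]
        ring
      rw [e1, e2] at h3
      exact h3
  · refine lt_of_le_of_ne ?_ ?_
    · rintro _ ⟨v, rfl⟩
      refine ⟨P v, ?_⟩
      rw [hP₁v, hP.idem, hγP, zero_smul, add_zero]
    · intro heq
      have hz1 : z ∈ LinearMap.range P₁ := ⟨z, by rw [hP₁v, hPz, hγz, one_smul, zero_add]⟩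
      rw [← heq] at hz1
      have := hP.fix_of_mem hz1
      rw [hPz] at this
      exact hzcen.1 this.symm

/-- Case B of the extension step: all axes of centres in `range P` contain `ker P`; impossible
for a proper `range P` of rank at least `3`. -/
theorem SLGood.caseB (hk : IsPrimeFld k) (hirr : Conn H) {P : V →ₗ[k] V} (hP : SLGood H P)
    (h3 : 3 ≤ finrank k (LinearMap.range P))
    (hne : ∃ y, IsCen H y ∧ y ∉ LinearMap.range P)
    (hB : ∀ (x : V) (φ : Dual k V), P x = x → x ≠ 0 → InS H φ x → ∀ v, φ (P v) = φ v) :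
    False := by
  have h2 : 2 ≤ finrank k (LinearMap.range P) := by omega
  have hninv : ¬ ∀ (φ : Dual k V) (w : V), InS H φ w →
      ∀ v ∈ LinearMap.range P, v + φ v • w ∈ LinearMap.range P := by
    intro h
    obtain ⟨x, hxU, hx0, _⟩ := exists_ne_zero_ker (LinearMap.range P) h2 0
    obtain ⟨y, hy, hyU⟩ := hne
    obtain ⟨hy0, ψ, hψ0, hψ⟩ := hy
    exact hyU (hirr _ h ⟨x, hxU, hP.isCen h2 (hP.fix_of_mem hxU) hx0⟩ ψ y hψ hψ0 hy0).1
  push Not at hninv
  obtain ⟨φ, y, hS, x₀, hx₀U, hnot⟩ := hninv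
  have hφx₀ : φ x₀ ≠ 0 := by
    intro h
    rw [h, zero_smul, add_zero] at hnot
    exact hnot hx₀U
  have hyU : y ∉ LinearMap.range P := by
    intro h
    exact hnot (Submodule.add_mem _ hx₀U (Submodule.smul_mem _ _ h))
  have hy0 : y ≠ 0 := by
    rintro rfl
    exact hyU (Submodule.zero_mem _)
  have hφ0 : φ ≠ 0 := by
    rintro rfl
    simp at hφx₀
  have hycen : IsCen H y := ⟨hy0, φ, hφ0, hS⟩
  have hx₀P : P x₀ = x₀ := hP.fix_of_mem hx₀U
  have hx₀0 : x₀ ≠ 0 := by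
    rintro rfl
    simp at hφx₀
  have hx₀cen : IsCen H x₀ := hP.isCen h2 hx₀P hx₀0
  obtain ⟨χ, hχS, hχy⟩ := adj_symm hk hirr hycen hx₀cen ⟨φ, hS, hφx₀⟩
  have hχP := hB x₀ χ hx₀P hx₀0 hχS
  set y₁ : V := P y with hy₁
  have hy₁P : P y₁ = y₁ := hP.idem y
  have hy₁0 : y₁ ≠ 0 := by
    intro h
    apply hχy
    rw [← hχP y, ← hy₁, h, map_zero]
  have hy₁cen : IsCen H y₁ := hP.isCen h2 hy₁P hy₁0
  -- `Phi y₁ ≤ Phi y`
  have hle : Phi H hk y₁ ≤ Phi H hk y := by
    intro θ hθ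
    have hθ' : InS H θ y₁ := hθ
    have hθP := hB y₁ θ hy₁P hy₁0 hθ'
    obtain ⟨x, hxU, hxy₁, hθx⟩ := exists_notMem_span_ker (LinearMap.range P) h3 y₁ θ
    have hxP := hP.fix_of_mem hxU
    have hx0 : x ≠ 0 := by
      rintro rfl
      exact hxy₁ (Submodule.zero_mem _)
    have hxcen : IsCen H x := hP.isCen h2 hxP hx0
    have hθxS : InS H θ x := hP.good x θ hxP hθP hθx
    obtain ⟨ψ, hψP, hψx, hψy₁, hψS⟩ := hP.sep hxP hy₁P (notMem_span_symm hy₁0 hxy₁)
    have hadj : Adj H x y := ⟨ψ, hψS, by rw [← hψP y]; exact hψy₁⟩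
    have hθy : θ y = 0 := by rw [← hθP y]; exact hθ'.eval
    exact inS_of_adj hk hirr hxcen hycen hadj hθxS hθy
  have heq : Phi H hk y₁ = Phi H hk y :=
    Submodule.eq_of_le_of_finrank_eq hle (finrank_Phi_eq hk hirr hy₁cen hycen)
  -- choose `x ∈ U` independent from `y₁`
  obtain ⟨x, hxU, hxy₁⟩ := exists_notMem_span (LinearMap.range P) h2 y₁
  have hxP := hP.fix_of_mem hxU
  have hx0 : x ≠ 0 := by
    rintro rfl
    exact hxy₁ (Submodule.zero_mem _)
  obtain ⟨φ', hφ'P, hφ'x, hφ'y₁, hφ'S⟩ := hP.sep hxP hy₁P (notMem_span_symm hy₁0 hxy₁)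
  obtain ⟨ψ, hψP, hψy₁, hψx, hψS⟩ := hP.sep hy₁P hxP hxy₁
  have hψy : InS H ψ y := by
    have : ψ ∈ Phi H hk y₁ := hψS
    rw [heq] at this
    exact this
  set y' : V := y - y₁ with hy'
  have hψy' : InS H ψ y' := hψy.sub_right hψS
  have hPy' : P y' = 0 := by rw [hy', map_sub, hy₁P, ← hy₁, sub_self]
  have hy'0 : y' ≠ 0 := by
    intro h
    apply hyU
    have : y = y₁ := sub_eq_zero.mp h
    rw [this]
    exact ⟨y, rfl⟩
  have hφ'y' : φ' y' = 0 := by rw [← hφ'P y', hPy', map_zero]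
  have h1 := hφ'S.conj_tve hψy'
  rw [hφ'y', zero_smul, add_zero] at h1
  have h4 := (hψy'.sub_left h1).smul_left hk (ψ x)⁻¹
  have e : (ψ x)⁻¹ • (ψ - (ψ - ψ x • φ')) = φ' := by
    rw [sub_sub_cancel, smul_smul, inv_mul_cancel₀ hψx, one_smul]
  rw [e] at h4
  have hφ'0 : φ' ≠ 0 := by
    rintro rfl
    simp at hφ'y₁
  have hy'cen : IsCen H y' := ⟨hy'0, φ', hφ'0, h4⟩
  have hadj : Adj H y' y := ⟨φ', h4, by rw [← hφ'P y]; exact hφ'y₁⟩
  obtain ⟨θ, hθS, hθy'⟩ := adj_symm hk hirr hy'cen hycen hadj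
  have hθy₁ : InS H θ y₁ := by
    have : θ ∈ Phi H hk y := hθS
    rw [← heq] at this
    exact this
  have hθP := hB y₁ θ hy₁P hy₁0 hθy₁
  apply hθy'
  rw [← hθP y', hPy', map_zero]

theorem SLGood.all (hk : IsPrimeFld k) (hirr : Conn H) :
    ∀ (n : ℕ) (P : V →ₗ[k] V), SLGood H P → 3 ≤ finrank k (LinearMap.range P) →
      finrank k V - finrank k (LinearMap.range P) = n →
      ∃ P' : V →ₗ[k] V, SLGood H P' ∧ 3 ≤ finrank k (LinearMap.range P') ∧
        (∀ y, IsCen H y → P' y = y) ∧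
        (∀ (x : V) (φ : Dual k V), P' x = x → x ≠ 0 → InS H φ x → ∀ v, φ (P' v) = φ v) := by
  intro n
  induction n using Nat.strong_induction_on with
  | _ n ih =>
    intro P hP h3 hn
    by_cases hB : ∀ (x : V) (φ : Dual k V), P x = x → x ≠ 0 → InS H φ x → ∀ v, φ (P v) = φ v
    · by_cases hall : ∀ y, IsCen H y → y ∈ LinearMap.range P
      · exact ⟨P, hP, h3, fun y hy => hP.fix_of_mem (hall y hy), hB⟩
      · push Not at hall
        exact (hP.caseB hk hirr h3 hall hB).elim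
    · push Not at hB
      obtain ⟨x, φ, hx, hx0, hS, hne'⟩ := hB
      obtain ⟨P₁, hP₁, hlt⟩ :=
        hP.caseA hk hirr (by omega) hx hx0 hS (by push Not; exact hne')
      have h1 := Submodule.finrank_lt_finrank_of_lt hlt
      have h2 : finrank k (LinearMap.range P₁) ≤ finrank k V := Submodule.finrank_le _
      exact ih (finrank k V - finrank k (LinearMap.range P₁)) (by omega) P₁ hP₁ (by omega) rfl

end ext

end Cfsg.Agent.Lib.helper14.McLD
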