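import Mathlib
import Cfsg.Agent.Lib.helper14.McLD

set_option autoImplicit false

/-!
# The `SL` case of McLaughlin's theorem: a centre with two independent axes
-/

namespace Cfsg.Agent.Lib.helper14.McLE

open Module Cfsg.Agent.Lib.helper14.McLA Cfsg.Agent.Lib.helper14.McLB
  Cfsg.Agent.Lib.helper14.McLC Cfsg.Agent.Lib.helper14.McLD

variable {k : Type*} [Field k] {V : Type*} [AddCommGroup V] [Module k V]
variable {H : Subgroup (V ≃ₗ[k] V)}

theorem two_le_finrank_of_mem [FiniteDimensional k V] {U : Submodule k V} {w u : V}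
    (hw : w ∈ U) (hu : u ∈ U) (hw0 : w ≠ 0) (h : u ∉ Submodule.span k {w}) :
    2 ≤ finrank k U := by
  by_contra hlt
  have h1 : finrank k U ≤ 1 := by omega
  obtain ⟨v, hv⟩ := finrank_le_one_iff.mp h1
  obtain ⟨c₁, hc₁⟩ := hv ⟨w, hw⟩
  obtain ⟨c₂, hc₂⟩ := hv ⟨u, hu⟩
  have hc₁' : c₁ • (v : V) = w := by
    have := congrArg Subtype.val hc₁
    simpa using this
  have hc₂' : c₂ • (v : V) = u := by
    have := congrArg Subtype.val hc₂
    simpa using this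
  have hc₁0 : c₁ ≠ 0 := by
    rintro rfl
    rw [zero_smul] at hc₁'
    exact hw0 hc₁'.symm
  apply h
  rw [Submodule.mem_span_singleton]
  refine ⟨c₂ * c₁⁻¹, ?_⟩
  rw [← hc₁', ← hc₂', smul_smul, mul_assoc, inv_mul_cancel₀ hc₁0, mul_one]

variable [FiniteDimensional k V]

/-- **SL case.** If some centre has two independent axes, there is a projection `P` onto the
span of the centres such that the transvections of `H` are exactly those of `range P`
fixing `ker P`. -/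
theorem sl_main (hk : IsPrimeFld k) (hirr : Conn H) {w : V} {φ φ₁ : Dual k V} (hw : w ≠ 0)
    (hφ0 : φ ≠ 0) (hφ : InS H φ w) (hφ₁ : InS H φ₁ w)
    (hind : φ₁ ∉ Submodule.span k {φ}) :
    ∃ P : V →ₗ[k] V, SLGood H P ∧ 3 ≤ finrank k (LinearMap.range P) ∧
      (∀ y, IsCen H y → P y = y) ∧
      (∀ (x : V) (χ : Dual k V), P x = x → x ≠ 0 → InS H χ x → ∀ v, χ (P v) = χ v) := by
  have hwcen : IsCen H w := ⟨hw, φ, hφ0, hφ⟩
  obtain ⟨u, hu, hφu⟩ := exists_cen_ne hirr hφ0 hw hφ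
  obtain ⟨ψ, hψ, hψw⟩ := adj_symm hk hirr hwcen hu ⟨φ, hφ, hφu⟩
  have hφw : φ w = 0 := hφ.eval
  have hψu : ψ u = 0 := hψ.eval
  set P₀ : V →ₗ[k] V := (ψ w)⁻¹ • ψ.smulRight w + (φ u)⁻¹ • φ.smulRight u with hP₀
  have hP₀v : ∀ v, P₀ v = ((ψ w)⁻¹ * ψ v) • w + ((φ u)⁻¹ * φ v) • u := by
    intro v
    simp [hP₀, smul_smul, mul_comm]
  have hP₀w : P₀ w = w := by
    rw [hP₀v, hφw, inv_mul_cancel₀ hψw, mul_zero, zero_smul, one_smul, add_zero]
  have hP₀u : P₀ u = u := by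
    rw [hP₀v, hψu, inv_mul_cancel₀ hφu, mul_zero, zero_smul, one_smul, zero_add]
  have hidem : ∀ v, P₀ (P₀ v) = P₀ v := by
    intro v
    rw [hP₀v v, map_add, map_smul, map_smul, hP₀w, hP₀u]
  have hgood : ∀ (x : V) (θ : Dual k V), P₀ x = x → (∀ v, θ (P₀ v) = θ v) → θ x = 0 →
      InS H θ x := by
    intro x θ hx hθ hθx
    have e1 : x = ((ψ w)⁻¹ * ψ x) • w + ((φ u)⁻¹ * φ x) • u := by
      rw [← hP₀v, hx]
    have e2 : θ = ((φ u)⁻¹ * θ u) • φ + ((ψ w)⁻¹ * θ w) • ψ := by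
      ext v
      rw [← hθ v, hP₀v, map_add, map_smul, map_smul]
      simp only [LinearMap.add_apply, LinearMap.smul_apply, smul_eq_mul]
      ring
    have hv : (((φ u)⁻¹ * θ u) • φ + ((ψ w)⁻¹ * θ w) • ψ)
        (((ψ w)⁻¹ * ψ x) • w + ((φ u)⁻¹ * φ x) • u) = 0 := by
      rw [← e1, ← e2, hθx]
    have := plane_pairs hk hφ hψ hφu hψw _ _ _ _ hv
    rw [← e1, ← e2] at this
    exact this
  have hSL : SLGood H P₀ := ⟨hidem, hgood⟩
  have hwU : w ∈ LinearMap.range P₀ := ⟨w, hP₀w⟩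
  have huU : u ∈ LinearMap.range P₀ := ⟨u, hP₀u⟩
  have huw : u ∉ Submodule.span k {w} := by
    intro hmem
    obtain ⟨c, hc⟩ := Submodule.mem_span_singleton.mp hmem
    apply hφu
    rw [← hc, map_smul, hφw, smul_zero]
  have h2 : 2 ≤ finrank k (LinearMap.range P₀) := two_le_finrank_of_mem hwU huU hw huw
  have hne : ¬ ∀ v, φ₁ (P₀ v) = φ₁ v := by
    intro hall
    apply hind
    rw [Submodule.mem_span_singleton]
    refine ⟨(φ u)⁻¹ * φ₁ u, ?_⟩
    ext v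
    rw [← hall v, hP₀v, map_add, map_smul, map_smul, hφ₁.eval]
    simp only [LinearMap.smul_apply, smul_eq_mul]
    ring
  obtain ⟨P₁, hP₁, hlt⟩ := hSL.caseA hk hirr h2 hP₀w hw hφ₁ hne
  have h3 := Submodule.finrank_lt_finrank_of_lt hlt
  exact SLGood.all hk hirr _ P₁ hP₁ (by omega) rfl

end Cfsg.Agent.Lib.helper14.McLE
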