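import Mathlib
import Cfsg.Agent.Lib.helper14.McLE

set_option autoImplicit false

/-!
# The symplectic case of McLaughlin's theorem: `Sp`-good pairs, mixing, commutator trick
-/

namespace Cfsg.Agent.Lib.helper14.McLF

open Module Cfsg.Agent.Lib.helper14.McLA Cfsg.Agent.Lib.helper14.McLB
  Cfsg.Agent.Lib.helper14.McLC Cfsg.Agent.Lib.helper14.McLD

variable {k : Type*} [Field k] {V : Type*} [AddCommGroup V] [Module k V]
variable {H : Subgroup (V ≃ₗ[k] V)}

/-- a functional vanishing on the kernel of another is a multiple of it -/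
theorem dual_eq_smul_of_ker {f g : Dual k V} (h : ∀ v, g v = 0 → f v = 0) :
    ∃ c : k, f = c • g := by
  by_cases hg : g = 0
  · refine ⟨0, ?_⟩
    ext v
    simp [h v (by simp [hg])]
  · obtain ⟨v₀, hv₀⟩ : ∃ v₀, g v₀ ≠ 0 := by
      by_contra hcon
      push Not at hcon
      exact hg (LinearMap.ext hcon)
    refine ⟨f v₀ * (g v₀)⁻¹, ?_⟩
    ext v
    have h1 : g (v - (g v * (g v₀)⁻¹) • v₀) = 0 := by
      rw [map_sub, map_smul, smul_eq_mul, mul_assoc, inv_mul_cancel₀ hv₀, mul_one, sub_self]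
    have h2 := h _ h1
    rw [map_sub, map_smul, smul_eq_mul, sub_eq_zero] at h2
    rw [h2]
    simp only [LinearMap.smul_apply, smul_eq_mul]
    ring

variable (H) in
/-- `Sp`-good pair: an idempotent `P` and an alternating form `B` living on `range P`,
nondegenerate there, all of whose symplectic transvections belong to `H`. -/
structure SpGood (P : V →ₗ[k] V) (B : V →ₗ[k] V →ₗ[k] k) : Prop where
  idem : ∀ v, P (P v) = P v
  alt : ∀ x, B x x = 0
  left : ∀ x y, B (P x) y = B x y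
  good : ∀ x, P x = x → InS H (B x) x
  nondeg : ∀ x, P x = x → x ≠ 0 → ∃ y, B x y ≠ 0

/-- the `Sp`-type hypothesis: every centre has a one-dimensional space of axes -/
def SpType (H : Subgroup (V ≃ₗ[k] V)) : Prop :=
  ∀ (w : V) (φ φ₁ : Dual k V), w ≠ 0 → φ ≠ 0 → InS H φ w → InS H φ₁ w → ∃ c : k, φ₁ = c • φ

section basics

variable {P : V →ₗ[k] V} {B : V →ₗ[k] V →ₗ[k] k}

theorem SpGood.skew (hP : SpGood H P B) (x y : V) : B x y = - B y x := by
  have h := hP.alt (x + y)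
  simp only [map_add, LinearMap.add_apply, hP.alt x, hP.alt y, zero_add, add_zero] at h
  linear_combination h

theorem SpGood.right (hP : SpGood H P B) (x y : V) : B x (P y) = B x y := by
  rw [hP.skew, hP.left, ← hP.skew]

theorem SpGood.fix_of_mem (hP : SpGood H P B) {x : V}
    (hx : x ∈ LinearMap.range P) : P x = x := by
  obtain ⟨y, rfl⟩ := hx
  exact hP.idem y

theorem SpGood.nondeg' (hP : SpGood H P B) {x : V} (hx : P x = x) (hx0 : x ≠ 0) :
    ∃ y, P y = y ∧ B x y ≠ 0 := by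
  obtain ⟨y, hy⟩ := hP.nondeg x hx hx0
  exact ⟨P y, hP.idem y, by rwa [hP.right]⟩

theorem SpGood.B_ne_zero (hP : SpGood H P B) {x : V} (hx : P x = x) (hx0 : x ≠ 0) :
    B x ≠ 0 := by
  obtain ⟨y, hy⟩ := hP.nondeg x hx hx0
  intro h
  rw [h] at hy
  simp at hy

theorem SpGood.isCen (hP : SpGood H P B) {x : V} (hx : P x = x) (hx0 : x ≠ 0) : IsCen H x :=
  ⟨hx0, B x, hP.B_ne_zero hx hx0, hP.good x hx⟩

theorem SpGood.axis_eq (hP : SpGood H P B) (hSp : SpType H) {x : V} (hx : P x = x)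
    (hx0 : x ≠ 0) {θ : Dual k V} (hθ : InS H θ x) : ∃ c : k, θ = c • B x :=
  hSp x (B x) θ hx0 (hP.B_ne_zero hx hx0) (hP.good x hx) hθ

theorem SpGood.apply_ker (hP : SpGood H P B) {s : V} (hs : P s = 0) (x : V) : B x s = 0 := by
  rw [← hP.right, hs, map_zero]

end basics

section main

variable [FiniteDimensional k V] {P : V →ₗ[k] V} {B : V →ₗ[k] V →ₗ[k] k}

/-- an axis of a centre `y` vanishes on the vectors of `range P` orthogonal to `P y` -/
theorem SpGood.axis_perp (hk : IsPrimeFld k) (hconn : Conn H) (hSp : SpType H)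
    (hP : SpGood H P B) {φ : Dual k V} {y : V} (hS : InS H φ y) (hφ : φ ≠ 0) (hy : y ≠ 0)
    {x : V} (hx : P x = x) (hxy : B (P y) x = 0) : φ x = 0 := by
  by_cases hx0 : x = 0
  · rw [hx0, map_zero]
  by_contra hφx
  have hycen : IsCen H y := ⟨hy, φ, hφ, hS⟩
  obtain ⟨θ, hθ, hθy⟩ := adj_symm hk hconn hycen (hP.isCen hx hx0) ⟨φ, hS, hφx⟩
  obtain ⟨c, rfl⟩ := hP.axis_eq hSp hx hx0 hθ
  apply hθy
  rw [LinearMap.smul_apply, ← hP.right, hP.skew, hxy, neg_zero, smul_zero]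

theorem SpGood.axis_decomp (hk : IsPrimeFld k) (hconn : Conn H) (hSp : SpType H)
    (hP : SpGood H P B) {φ : Dual k V} {y : V} (hS : InS H φ y) (hφ : φ ≠ 0) (hy : y ≠ 0) :
    ∃ c : k, ∀ v, φ (P v) = c * B (P y) v := by
  have h : ∀ v, B (P y) v = 0 → (φ.comp P) v = 0 := by
    intro v hv
    refine hP.axis_perp hk hconn hSp hS hφ hy (hP.idem v) ?_
    rwa [hP.right]
  obtain ⟨c, hc⟩ := dual_eq_smul_of_ker h
  refine ⟨c, fun v => ?_⟩
  have := LinearMap.congr_fun hc v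
  simpa using this

/-- one step of the mixing lemma -/
theorem SpGood.mix_step (hk : IsPrimeFld k) (hP : SpGood H P B) {s : V} {γ : Dual k V}
    (hγP : ∀ v, γ (P v) = 0) (hs : P s = 0) {u₀ u : V} (hu₀ : P u₀ = u₀) (hu : P u = u)
    (h0 : InS H (B u₀ + γ) (u₀ + s)) (hne : B u₀ u ≠ 0) : InS H (B u + γ) (u + s) := by
  have hx : P (u - u₀) = u - u₀ := by rw [map_sub, hu, hu₀]
  have hne' : B u u₀ ≠ 0 := by
    rw [hP.skew]
    exact neg_ne_zero.mpr hne
  have h := (hP.good _ hx).smul_left hk (B u u₀)⁻¹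
  have h1 := h.conj_tve h0
  have hγx : γ (u - u₀) = 0 := by rw [← hx, hγP]
  have e1 : u₀ + s + ((B u u₀)⁻¹ • B (u - u₀)) (u₀ + s) • (u - u₀) = u + s := by
    have : ((B u u₀)⁻¹ • B (u - u₀)) (u₀ + s) = 1 := by
      simp only [LinearMap.smul_apply, map_sub, LinearMap.sub_apply, map_add, hP.alt u₀,
        hP.apply_ker hs, smul_eq_mul, sub_zero, add_zero, sub_self, mul_zero]
      exact inv_mul_cancel₀ hne'
    rw [this, one_smul]
    abel
  have e2 : B u₀ + γ - (B u₀ + γ) (u - u₀) • (B u u₀)⁻¹ • B (u - u₀) = B u + γ := by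
    have h3 : (B u₀ + γ) (u - u₀) = - B u u₀ := by
      rw [LinearMap.add_apply, hγx, add_zero, map_sub, hP.alt, sub_zero, hP.skew]
    rw [h3, smul_smul, neg_mul, mul_inv_cancel₀ hne', neg_smul, one_smul, map_sub]
    abel
  rw [e1, e2] at h1
  exact h1

/-- **Mixing lemma**: if `u₀ + s` is a centre with axis `B u₀ + γ` then so is every `u + s`. -/
theorem SpGood.mix (hk : IsPrimeFld k) (hP : SpGood H P B) {s : V} {γ : Dual k V}
    (hγP : ∀ v, γ (P v) = 0) (hs : P s = 0) {u₀ : V} (hu₀ : P u₀ = u₀) (hu₀0 : u₀ ≠ 0)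
    (h0 : InS H (B u₀ + γ) (u₀ + s)) {u : V} (hu : P u = u) (hu0 : u ≠ 0) :
    InS H (B u + γ) (u + s) := by
  by_cases hne : B u₀ u = 0
  · obtain ⟨a, ha, hBa⟩ := hP.nondeg' hu₀ hu₀0
    obtain ⟨b, hb, hBb⟩ := hP.nondeg' hu hu0
    have hex : ∃ x, P x = x ∧ B u₀ x ≠ 0 ∧ B x u ≠ 0 := by
      by_cases h1 : B u a = 0
      · by_cases h2 : B u₀ b = 0
        · refine ⟨a + b, by rw [map_add, ha, hb], ?_, ?_⟩
          · rw [map_add, h2, add_zero]
            exact hBa
          · rw [hP.skew, map_add, h1, zero_add]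
            exact neg_ne_zero.mpr hBb
        · refine ⟨b, hb, h2, ?_⟩
          rw [hP.skew]
          exact neg_ne_zero.mpr hBb
      · refine ⟨a, ha, hBa, ?_⟩
        rw [hP.skew]
        exact neg_ne_zero.mpr h1
    obtain ⟨x, hx, hx1, hx2⟩ := hex
    exact hP.mix_step hk hγP hs hx hu (hP.mix_step hk hγP hs hu₀ hx h0 hx1) hx2
  · exact hP.mix_step hk hγP hs hu₀ hu h0 hne

end main

end Cfsg.Agent.Lib.helper14.McLF
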