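import Mathlib
import Cfsg.Agent.Lib.helper14.McLF

set_option autoImplicit false

/-!
# The symplectic case: commutator trick, kernel parts, hyperbolic planes, orthogonal sums
-/

namespace Cfsg.Agent.Lib.helper14.McLG

open Module Cfsg.Agent.Lib.helper14.McLA Cfsg.Agent.Lib.helper14.McLB
  Cfsg.Agent.Lib.helper14.McLC Cfsg.Agent.Lib.helper14.McLD Cfsg.Agent.Lib.helper14.McLF

variable {k : Type*} [Field k] {V : Type*} [AddCommGroup V] [Module k V]
variable {H : Subgroup (V ≃ₗ[k] V)}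

theorem comm_calc (Bu Bu' γ : Dual k V) (u u' y' : V) (t : k) (h1 : Bu u = 0) (h2 : Bu u' = t)
    (h3 : Bu y' = 0) (h4 : Bu' u = -t) (h5 : Bu' u' = 0) (h6 : Bu' y' = 0) (h7 : γ u = 0)
    (h8 : γ u' = 0) (h9 : γ y' = 0) (v v₁ v₂ v₃ v₄ : V)
    (e1 : v₁ = v - Bu' v • y' - γ v • (u' + y'))
    (e2 : v₂ = v₁ - Bu v₁ • y' - γ v₁ • (u + y'))
    (e3 : v₃ = v₂ + Bu' v₂ • y' + γ v₂ • (u' + y'))
    (e4 : v₄ = v₃ + Bu v₃ • y' + γ v₃ • (u + y')) :
    v₄ = v + ((2 * t) • γ) v • y' := by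
  have g1 : γ v₁ = γ v := by
    rw [e1]; simp only [map_add, map_sub, map_smul, smul_eq_mul, h8, h9]; ring
  have b1 : Bu v₁ = Bu v - t * γ v := by
    rw [e1]; simp only [map_add, map_sub, map_smul, smul_eq_mul, h2, h3]; ring
  have b1' : Bu' v₁ = Bu' v := by
    rw [e1]; simp only [map_add, map_sub, map_smul, smul_eq_mul, h5, h6]; ring
  have g2 : γ v₂ = γ v := by
    rw [e2]; simp only [map_add, map_sub, map_smul, smul_eq_mul, h7, h9, g1]; ring
  have b2' : Bu' v₂ = Bu' v + t * γ v := by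
    rw [e2]; simp only [map_add, map_sub, map_smul, smul_eq_mul, h4, h6, g1, b1, b1']; ring
  have b2 : Bu v₂ = Bu v - t * γ v := by
    rw [e2]; simp only [map_add, map_sub, map_smul, smul_eq_mul, h1, h3, g1, b1]; ring
  have g3 : γ v₃ = γ v := by
    rw [e3]; simp only [map_add, map_smul, smul_eq_mul, h8, h9, g2]; ring
  have b3 : Bu v₃ = Bu v := by
    rw [e3]; simp only [map_add, map_smul, smul_eq_mul, h2, h3, g2, b2, b2']; ring
  rw [e4, g3, b3, e3, g2, b2', e2, g1, b1, e1]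
  simp only [LinearMap.smul_apply, smul_eq_mul]
  module

section main

variable {P : V →ₗ[k] V} {B : V →ₗ[k] V →ₗ[k] k}

theorem g_apply (hP : SpGood H P B) {γ : Dual k V} {y' u : V} (hγP : ∀ v, γ (P v) = 0)
    (hy' : P y' = 0) (hγy' : γ y' = 0) (hu : P u = u) (ha : (B u + γ) (u + y') = 0)
    (hb : B u u = 0) (v : V) :
    (tve (B u + γ) (u + y') ha * (tve (B u) u hb)⁻¹) v = v + B u v • y' + γ v • (u + y') := by
  have hγu : γ u = 0 := by rw [← hu, hγP]
  rw [LinearEquiv.mul_apply, tve_inv_apply, tve_apply]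
  simp only [LinearMap.add_apply, map_sub, map_smul, smul_eq_mul, hP.alt, hγu, mul_zero,
    sub_zero]
  module

theorem ginv_apply (hP : SpGood H P B) {γ : Dual k V} {y' u : V} (hγP : ∀ v, γ (P v) = 0)
    (hy' : P y' = 0) (hγy' : γ y' = 0) (hu : P u = u) (ha : (B u + γ) (u + y') = 0)
    (hb : B u u = 0) (v : V) :
    (tve (B u) u hb * (tve (B u + γ) (u + y') ha)⁻¹) v = v - B u v • y' - γ v • (u + y') := by
  have hγu : γ u = 0 := by rw [← hu, hγP]
  rw [LinearEquiv.mul_apply, tve_inv_apply, tve_apply]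
  simp only [LinearMap.add_apply, map_sub, map_smul, map_add, smul_eq_mul, hP.alt,
    hP.apply_ker hy', add_zero, mul_zero, sub_zero]
  module

/-- **Commutator trick**: `(γ, y')` is an `H`-pair. -/
theorem SpGood.comm_trick (hk : IsPrimeFld k) (h2 : (2 : k) ≠ 0) (hP : SpGood H P B) {y' : V}
    {γ : Dual k V} (hγP : ∀ v, γ (P v) = 0) (hy' : P y' = 0) (hγy' : γ y' = 0)
    (hM : ∀ u, P u = u → u ≠ 0 → InS H (B u + γ) (u + y'))
    {u u' : V} (hu : P u = u) (hu' : P u' = u') (ht : B u u' ≠ 0) : InS H γ y' := by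
  have hu0 : u ≠ 0 := by
    rintro rfl
    simp at ht
  have hu'0 : u' ≠ 0 := by
    rintro rfl
    simp at ht
  have a := hM u hu hu0
  have b := hP.good u hu
  have a' := hM u' hu' hu'0
  have b' := hP.good u' hu'
  set g := tve (B u + γ) (u + y') a.eval * (tve (B u) u b.eval)⁻¹ with hg
  set g' := tve (B u' + γ) (u' + y') a'.eval * (tve (B u') u' b'.eval)⁻¹ with hg'
  have hgH : g ∈ H := H.mul_mem a.mem (H.inv_mem b.mem)
  have hg'H : g' ∈ H := H.mul_mem a'.mem (H.inv_mem b'.mem)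
  have hginv : g⁻¹ = tve (B u) u b.eval * (tve (B u + γ) (u + y') a.eval)⁻¹ := by
    rw [hg, mul_inv_rev, inv_inv]
  have hg'inv : g'⁻¹ = tve (B u') u' b'.eval * (tve (B u' + γ) (u' + y') a'.eval)⁻¹ := by
    rw [hg', mul_inv_rev, inv_inv]
  have hγu : γ u = 0 := by rw [← hu, hγP]
  have hγu' : γ u' = 0 := by rw [← hu', hγP]
  have hz : ((2 * B u u') • γ) y' = 0 := by
    rw [LinearMap.smul_apply, hγy', smul_zero]
  have hc : g * g' * g⁻¹ * g'⁻¹ = tve ((2 * B u u') • γ) y' hz := by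
    ext v
    rw [tve_apply]
    simp only [LinearEquiv.mul_apply]
    refine comm_calc (B u) (B u') γ u u' y' (B u u') (hP.alt u) rfl (hP.apply_ker hy' u)
      (by rw [hP.skew]) (hP.alt u') (hP.apply_ker hy' u') hγu hγu' hγy' v (g'⁻¹ v)
      (g⁻¹ (g'⁻¹ v)) (g' (g⁻¹ (g'⁻¹ v))) _ ?_ ?_ ?_ ?_
    · rw [hg'inv]
      exact ginv_apply hP hγP hy' hγy' hu' a'.eval b'.eval v
    · rw [hginv]
      exact ginv_apply hP hγP hy' hγy' hu a.eval b.eval _
    · rw [hg']
      exact g_apply hP hγP hy' hγy' hu' a'.eval b'.eval _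
    · rw [hg]
      exact g_apply hP hγP hy' hγy' hu a.eval b.eval _
  have hmem : tve ((2 * B u u') • γ) y' hz ∈ H := by
    rw [← hc]
    exact H.mul_mem (H.mul_mem (H.mul_mem hgH hg'H) (H.inv_mem hgH)) (H.inv_mem hg'H)
  have hS : InS H ((2 * B u u') • γ) y' := ⟨hz, hmem⟩
  have h3 := hS.smul_left hk (2 * B u u')⁻¹
  rwa [smul_smul, inv_mul_cancel₀ (mul_ne_zero h2 ht), one_smul] at h3

variable [FiniteDimensional k V]

/-- **Kernel part** of a centre outside `range P`: after rescaling its axis `φ` to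
`c • φ = B (P y) + γ`, the pair `(γ, y - P y)` is an `H`-pair living on `ker P`. -/
theorem SpGood.ker_part (hk : IsPrimeFld k) (h2 : (2 : k) ≠ 0) (hconn : Conn H)
    (hSp : SpType H) (hP : SpGood H P B) {φ : Dual k V} {y : V} (hS : InS H φ y) (hφ : φ ≠ 0)
    (hy : y ∉ LinearMap.range P) :
    ∃ (c : k) (γ : Dual k V), c ≠ 0 ∧ γ = c • φ - B (P y) ∧ γ ≠ 0 ∧ (∀ v, γ (P v) = 0) ∧
      InS H γ (y - P y) := by
  have hy0 : y ≠ 0 := by
    rintro rfl
    exact hy (Submodule.zero_mem _)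
  obtain ⟨c₀, hc₀⟩ := hP.axis_decomp hk hconn hSp hS hφ hy0
  by_cases hy₁0 : P y = 0
  · refine ⟨1, φ, one_ne_zero, ?_, hφ, ?_, ?_⟩
    · rw [hy₁0, map_zero, sub_zero, one_smul]
    · intro v
      rw [hc₀ v, hy₁0, map_zero, LinearMap.zero_apply, mul_zero]
    · rw [hy₁0, sub_zero]
      exact hS
  · set y₁ : V := P y with hy₁
    have hy₁P : P y₁ = y₁ := hP.idem y
    have hycen : IsCen H y := ⟨hy0, φ, hφ, hS⟩
    obtain ⟨x, hx, hBx⟩ := hP.nondeg' hy₁P hy₁0
    have hx0 : x ≠ 0 := by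
      rintro rfl
      simp at hBx
    have hxcen : IsCen H x := hP.isCen hx hx0
    have hφx : φ x ≠ 0 := by
      have hadj : Adj H x y := by
        refine ⟨B x, hP.good x hx, ?_⟩
        rw [← hP.right, ← hy₁, hP.skew]
        exact neg_ne_zero.mpr hBx
      obtain ⟨θ, hθ, hθx⟩ := adj_symm hk hconn hxcen hycen hadj
      obtain ⟨e, rfl⟩ := hSp y φ θ hy0 hφ hS hθ
      intro h0
      apply hθx
      rw [LinearMap.smul_apply, h0, smul_zero]
    have hc₀0 : c₀ ≠ 0 := by
      rintro rfl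
      apply hφx
      rw [← hx, hc₀ x, zero_mul]
    set γ : Dual k V := c₀⁻¹ • φ - B y₁ with hγ
    have hγP : ∀ v, γ (P v) = 0 := by
      intro v
      rw [hγ, LinearMap.sub_apply, LinearMap.smul_apply, hc₀ v, hP.right, smul_eq_mul,
        ← mul_assoc, inv_mul_cancel₀ hc₀0, one_mul, sub_self]
    set y' : V := y - y₁ with hy'
    have hPy' : P y' = 0 := by rw [hy', map_sub, hy₁P, ← hy₁, sub_self]
    have hy'0 : y' ≠ 0 := by
      intro h
      apply hy
      have : y = y₁ := sub_eq_zero.mp h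
      rw [this]
      exact ⟨y, rfl⟩
    have hφ'S : InS H (c₀⁻¹ • φ) y := hS.smul_left hk c₀⁻¹
    have hM₀ : InS H (B y₁ + γ) (y₁ + y') := by
      have e1 : B y₁ + γ = c₀⁻¹ • φ := by rw [hγ]; abel
      have e2 : y₁ + y' = y := by rw [hy']; abel
      rw [e1, e2]
      exact hφ'S
    have hγy' : γ y' = 0 := by
      have h1 : γ y₁ = 0 := hγP y
      have h3 : γ y = 0 := by
        rw [hγ, LinearMap.sub_apply, hφ'S.eval, ← hP.right, ← hy₁, hP.alt, sub_zero]
      rw [hy', map_sub, h1, h3, sub_zero]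
    have hM : ∀ u, P u = u → u ≠ 0 → InS H (B u + γ) (u + y') := fun u hu hu0 =>
      hP.mix hk hγP hPy' hy₁P hy₁0 hM₀ hu hu0
    have hγS : InS H γ y' := SpGood.comm_trick hk h2 hP hγP hPy' hγy' hM hy₁P hx hBx
    refine ⟨c₀⁻¹, γ, inv_ne_zero hc₀0, rfl, ?_, hγP, hγS⟩
    intro hγ0
    have e1 : c₀⁻¹ • φ = B y₁ := by
      have := hγ0
      rw [hγ, sub_eq_zero] at this
      exact this
    have h4 : InS H (B y₁) y' := by
      have := hφ'S
      rw [e1] at this
      exact this.sub_right (hP.good y₁ hy₁P)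
    have hy'cen : IsCen H y' := ⟨hy'0, B y₁, hP.B_ne_zero hy₁P hy₁0, h4⟩
    obtain ⟨θ, hθ, hθy'⟩ := adj_symm hk hconn hy'cen hxcen ⟨B y₁, h4, hBx⟩
    obtain ⟨e, rfl⟩ := hP.axis_eq hSp hx hx0 hθ
    apply hθy'
    rw [LinearMap.smul_apply, hP.apply_ker hPy', smul_zero]

end main

section plane

/-- projection onto the plane of a hyperbolic pair -/
def planeP (φ ψ : Dual k V) (w u : V) (d : k) : V →ₗ[k] V :=
  (-d⁻¹) • ψ.smulRight w + d⁻¹ • φ.smulRight u

/-- alternating form of a hyperbolic pair -/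
def planeB (φ ψ : Dual k V) (d : k) : V →ₗ[k] V →ₗ[k] k :=
  d⁻¹ • (φ.smulRight ψ - ψ.smulRight φ)

theorem planeP_apply (φ ψ : Dual k V) (w u : V) (d : k) (v : V) :
    planeP φ ψ w u d v = (-d⁻¹ * ψ v) • w + (d⁻¹ * φ v) • u := by
  simp [planeP, smul_smul]

theorem planeB_apply (φ ψ : Dual k V) (d : k) (x y : V) :
    planeB φ ψ d x y = d⁻¹ * (φ x * ψ y - ψ x * φ y) := by
  simp [planeB]

theorem planeB_eq (φ ψ : Dual k V) (d : k) (x : V) :
    planeB φ ψ d x = (-d⁻¹ * ψ x) • φ + (d⁻¹ * φ x) • ψ := by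
  ext y
  rw [planeB_apply]
  simp only [LinearMap.add_apply, LinearMap.smul_apply, smul_eq_mul]
  ring

theorem plane_good (hk : IsPrimeFld k) {φ ψ : Dual k V} {w u : V} (h : InS H φ w)
    (h' : InS H ψ u) {d : k} (hd : d ≠ 0) (hφu : φ u = d) (hψw : ψ w = -d) :
    SpGood H (planeP φ ψ w u d) (planeB φ ψ d) := by
  have hφw : φ w = 0 := h.eval
  have hψu : ψ u = 0 := h'.eval
  have hφP : ∀ v, φ (planeP φ ψ w u d v) = φ v := by
    intro v
    rw [planeP_apply, map_add, map_smul, map_smul, hφw, hφu, smul_eq_mul, smul_eq_mul, mul_zero,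
      zero_add, mul_comm, ← mul_assoc, mul_inv_cancel₀ hd, one_mul]
  have hψP : ∀ v, ψ (planeP φ ψ w u d v) = ψ v := by
    intro v
    rw [planeP_apply, map_add, map_smul, map_smul, hψw, hψu, smul_eq_mul, smul_eq_mul, mul_zero,
      add_zero]
    field_simp
  refine ⟨?_, ?_, ?_, ?_, ?_⟩
  · intro v
    rw [planeP_apply (v := planeP φ ψ w u d v), hφP, hψP, ← planeP_apply]
  · intro x
    rw [planeB_apply]
    ring
  · intro x y
    rw [planeB_apply, planeB_apply, hφP, hψP]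
  · intro x hx
    rw [planeB_eq]
    have hv : ((-d⁻¹ * ψ x) • φ + (d⁻¹ * φ x) • ψ)
        ((-d⁻¹ * ψ x) • w + (d⁻¹ * φ x) • u) = 0 := by
      simp only [LinearMap.add_apply, LinearMap.smul_apply, map_add, map_smul, smul_eq_mul, hφw,
        hψu, hφu, hψw]
      ring
    have h3 := plane_pairs hk h h' (by rw [hφu]; exact hd)
      (by rw [hψw]; exact neg_ne_zero.mpr hd) _ _ _ _ hv
    rw [← planeP_apply, hx] at h3
    exact h3
  · intro x hx hx0
    by_contra hcon
    push Not at hcon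
    apply hx0
    have h1 := hcon u
    have h3 := hcon w
    rw [planeB_apply, hψu, hφu] at h1
    rw [planeB_apply, hψw, hφw] at h3
    have hψx : ψ x = 0 := by
      have : d⁻¹ * (φ x * 0 - ψ x * d) = - ψ x := by field_simp; ring
      rw [this] at h1
      exact neg_eq_zero.mp h1
    have hφx : φ x = 0 := by
      have : d⁻¹ * (φ x * -d - ψ x * 0) = - φ x := by field_simp; ring
      rw [this] at h3
      exact neg_eq_zero.mp h3
    rw [← hx, planeP_apply, hψx, hφx, mul_zero, mul_zero, zero_smul, zero_smul, add_zero]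

end plane

section sum

variable [FiniteDimensional k V] {P P' : V →ₗ[k] V} {B B' : V →ₗ[k] V →ₗ[k] k}

/-- orthogonal sum of two `Sp`-good pairs sharing one mixed centre -/
theorem SpGood.sum (hk : IsPrimeFld k) (hP : SpGood H P B) (hP' : SpGood H P' B')
    (h1 : ∀ v, P (P' v) = 0) (h2 : ∀ v, P' (P v) = 0) {u₀ s₀ : V} (hu₀ : P u₀ = u₀)
    (hs₀ : P' s₀ = s₀) (hu₀0 : u₀ ≠ 0) (hs₀0 : s₀ ≠ 0) (hmix : InS H (B u₀ + B' s₀) (u₀ + s₀)) :
    SpGood H (P + P') (B + B') := by
  have hBP' : ∀ x y, B (P' x) y = 0 := by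
    intro x y
    rw [← hP.left, h1, map_zero, LinearMap.zero_apply]
  have hB'P : ∀ x y, B' (P x) y = 0 := by
    intro x y
    rw [← hP'.left, h2, map_zero, LinearMap.zero_apply]
  refine ⟨?_, ?_, ?_, ?_, ?_⟩
  · intro v
    simp only [LinearMap.add_apply, map_add, hP.idem, hP'.idem, h1, h2, add_zero, zero_add]
  · intro x
    simp only [LinearMap.add_apply, hP.alt, hP'.alt, add_zero]
  · intro x y
    simp only [LinearMap.add_apply, map_add, hP.left, hP'.left, hBP', hB'P, add_zero, zero_add]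
  · intro x hx
    have hx' : P x + P' x = x := hx
    have hu : P (P x) = P x := hP.idem x
    have hs : P' (P' x) = P' x := hP'.idem x
    have e : (B + B') x = B (P x) + B' (P' x) := by
      ext y
      simp only [LinearMap.add_apply, hP.left, hP'.left]
    rw [e]
    by_cases hu0 : P x = 0
    · rw [hu0, map_zero, zero_add]
      have : P' x = x := by rw [← hx', hu0, zero_add, hs]
      rw [this]
      exact hP'.good x this
    by_cases hs0 : P' x = 0
    · rw [hs0, map_zero, add_zero]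
      have : P x = x := by rw [← hx', hs0, add_zero, hu]
      rw [this]
      exact hP.good x this
    -- mixed case
    have hγ1 : ∀ v, (B' s₀) (P v) = 0 := by
      intro v
      rw [hP'.skew, hB'P, neg_zero]
    have hPs₀ : P s₀ = 0 := by rw [← hs₀, h1]
    have m1 : InS H (B (P x) + B' s₀) (P x + s₀) :=
      hP.mix hk hγ1 hPs₀ hu₀ hu₀0 hmix hu hu0
    have hγ2 : ∀ v, (B (P x)) (P' v) = 0 := by
      intro v
      rw [hP.skew, hBP', neg_zero]
    have hP'u : P' (P x) = 0 := h2 x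
    have m1' : InS H (B' s₀ + B (P x)) (s₀ + P x) := by
      rw [add_comm, add_comm s₀]
      exact m1
    have m2 : InS H (B' (P' x) + B (P x)) (P' x + P x) :=
      hP'.mix hk hγ2 hP'u hs₀ hs₀0 m1' hs hs0
    rw [add_comm, add_comm (P' x)] at m2
    rw [hx'] at m2
    exact m2
  · intro x hx hx0
    have hx' : P x + P' x = x := hx
    by_cases hu0 : P x = 0
    · have hs0 : P' x ≠ 0 := by
        intro h
        apply hx0
        rw [← hx', hu0, h, add_zero]
      obtain ⟨y, hy, hBy⟩ := hP'.nondeg' (hP'.idem x) hs0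
      refine ⟨y, ?_⟩
      have e1 : B x y = 0 := by rw [← hy, hP.skew, hBP', neg_zero]
      have e2 : B' x y = B' (P' x) y := (hP'.left x y).symm
      rw [LinearMap.add_apply, LinearMap.add_apply, e1, zero_add, e2]
      exact hBy
    · obtain ⟨y, hy, hBy⟩ := hP.nondeg' (hP.idem x) hu0
      refine ⟨y, ?_⟩
      have e1 : B' x y = 0 := by rw [← hy, hP'.skew, hB'P, neg_zero]
      have e2 : B x y = B (P x) y := (hP.left x y).symm
      rw [LinearMap.add_apply, LinearMap.add_apply, e1, add_zero, e2]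
      exact hBy

end sum

end Cfsg.Agent.Lib.helper14.McLG
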