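import Mathlib
import Cfsg.Agent.Lib.helper14.McLG

set_option autoImplicit false

/-!
# The symplectic case: the extension step and the main theorem
-/

namespace Cfsg.Agent.Lib.helper14.McLH

open Module Cfsg.Agent.Lib.helper14.McLA Cfsg.Agent.Lib.helper14.McLB
  Cfsg.Agent.Lib.helper14.McLC Cfsg.Agent.Lib.helper14.McLD Cfsg.Agent.Lib.helper14.McLF
  Cfsg.Agent.Lib.helper14.McLG

variable {k : Type*} [Field k] {V : Type*} [AddCommGroup V] [Module k V]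
variable {H : Subgroup (V ≃ₗ[k] V)} [FiniteDimensional k V]

theorem sp_ext_step (hk : IsPrimeFld k) (h2 : (2 : k) ≠ 0) (hconn : Conn H) (hSp : SpType H)
    {P : V →ₗ[k] V} {B : V →ₗ[k] V →ₗ[k] k} (hP : SpGood H P B)
    (hne : ∃ x, P x = x ∧ x ≠ 0) (hout : ∃ y, IsCen H y ∧ y ∉ LinearMap.range P) :
    ∃ (P₁ : V →ₗ[k] V) (B₁ : V →ₗ[k] V →ₗ[k] k), SpGood H P₁ B₁ ∧
      LinearMap.range P < LinearMap.range P₁ := by
  -- (1) a centre outside `range P` moving a vector of `range P`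
  have hninv : ¬ ∀ (φ : Dual k V) (w : V), InS H φ w →
      ∀ v ∈ LinearMap.range P, v + φ v • w ∈ LinearMap.range P := by
    intro h
    obtain ⟨x, hx, hx0⟩ := hne
    obtain ⟨y, hy, hyU⟩ := hout
    obtain ⟨hy0, ψ, hψ0, hψ⟩ := hy
    exact hyU (hconn _ h ⟨x, ⟨x, hx⟩, hP.isCen hx hx0⟩ ψ y hψ hψ0 hy0).1
  push Not at hninv
  obtain ⟨φ, y, hS, x₀, hx₀U, hnot⟩ := hninv
  have hφx₀ : φ x₀ ≠ 0 := by
    intro h
    rw [h, zero_smul, add_zero] at hnot
    exact hnot hx₀U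
  have hyU : y ∉ LinearMap.range P := by
    intro h
    exact hnot (Submodule.add_mem _ hx₀U (Submodule.smul_mem _ _ h))
  have hy0 : y ≠ 0 := by
    rintro rfl
    exact hyU (Submodule.zero_mem _)
  have hφ0 : φ ≠ 0 := by
    rintro rfl
    simp at hφx₀
  have hx₀P : P x₀ = x₀ := hP.fix_of_mem hx₀U
  -- (2) kernel part of `y`
  obtain ⟨c, γ, hc, hγdef, hγ0, hγP, hγS⟩ := SpGood.ker_part hk h2 hconn hSp hP hS hφ0 hyU
  set y₁ : V := P y with hy₁
  set y' : V := y - y₁ with hy'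
  have hy₁P : P y₁ = y₁ := hP.idem y
  have hy₁0 : y₁ ≠ 0 := by
    intro h
    apply hφx₀
    refine hP.axis_perp hk hconn hSp hS hφ0 hy0 hx₀P ?_
    rw [← hy₁, h, map_zero, LinearMap.zero_apply]
  have hPy' : P y' = 0 := by rw [hy', map_sub, hy₁P, ← hy₁, sub_self]
  have hy'0 : y' ≠ 0 := by
    intro h
    apply hyU
    have : y = y₁ := sub_eq_zero.mp h
    rw [this]
    exact ⟨y, rfl⟩
  have hmix0 : InS H (B y₁ + γ) (y₁ + y') := by
    have e1 : B y₁ + γ = c • φ := by rw [hγdef]; abel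
    have e2 : y₁ + y' = y := by rw [hy']; abel
    rw [e1, e2]
    exact hS.smul_left hk c
  have hγy' : γ y' = 0 := hγS.eval
  have hy'cen : IsCen H y' := ⟨hy'0, γ, hγ0, hγS⟩
  -- (3) a second centre
  obtain ⟨z₀, hz₀cen, hγz₀⟩ := exists_cen_ne hconn hγ0 hy'0 hγS
  have hz₀U : z₀ ∉ LinearMap.range P := by
    intro h
    apply hγz₀
    rw [← hP.fix_of_mem h, hγP]
  obtain ⟨hz₀0, δ₀, hδ₀0, hδ₀S⟩ := hz₀cen
  obtain ⟨e, δ, he, hδdef, hδ0, hδP, hδS⟩ :=
    SpGood.ker_part hk h2 hconn hSp hP hδ₀S hδ₀0 hz₀U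
  set z' : V := z₀ - P z₀ with hz'
  have hPz' : P z' = 0 := by rw [hz', map_sub, hP.idem, sub_self]
  have hγz' : γ z' ≠ 0 := by
    rw [hz', map_sub, hγP, sub_zero]
    exact hγz₀
  have hz'0 : z' ≠ 0 := by
    intro h
    rw [h, map_zero] at hγz'
    exact hγz' rfl
  have hz'cen : IsCen H z' := ⟨hz'0, δ, hδ0, hδS⟩
  have hδy' : δ y' ≠ 0 := by
    obtain ⟨θ, hθ, hθy'⟩ := adj_symm hk hconn hy'cen hz'cen ⟨γ, hγS, hγz'⟩
    obtain ⟨e', rfl⟩ := hSp z' δ θ hz'0 hδ0 hδS hθ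
    intro h0
    apply hθy'
    rw [LinearMap.smul_apply, h0, smul_zero]
  -- (4) the hyperbolic plane
  set d : k := γ z' with hd
  set δ₂ : Dual k V := (-d * (δ y')⁻¹) • δ with hδ₂
  have hδ₂y' : δ₂ y' = -d := by
    rw [hδ₂, LinearMap.smul_apply, smul_eq_mul, mul_assoc, inv_mul_cancel₀ hδy', mul_one]
  have hδ₂S : InS H δ₂ z' := hδS.smul_left hk _
  have hδ₂P : ∀ v, δ₂ (P v) = 0 := by
    intro v
    rw [hδ₂, LinearMap.smul_apply, hδP, smul_zero]
  have hP' := plane_good hk hγS hδ₂S hγz' rfl hδ₂y'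
  set P' : V →ₗ[k] V := planeP γ δ₂ y' z' d with hP'def
  set B' : V →ₗ[k] V →ₗ[k] k := planeB γ δ₂ d with hB'def
  have h1 : ∀ v, P (P' v) = 0 := by
    intro v
    rw [hP'def, planeP_apply, map_add, map_smul, map_smul, hPy', hPz', smul_zero, smul_zero,
      add_zero]
  have h2' : ∀ v, P' (P v) = 0 := by
    intro v
    rw [hP'def, planeP_apply, hγP, hδ₂P, mul_zero, mul_zero, zero_smul, zero_smul, add_zero]
  have hP'y' : P' y' = y' := by
    rw [hP'def, planeP_apply, hδ₂y', hγy', mul_zero, zero_smul, add_zero, neg_mul_neg,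
      inv_mul_cancel₀ hγz', one_smul]
  have hB'y' : B' y' = γ := by
    rw [hB'def, planeB_eq, hδ₂y', hγy', mul_zero, zero_smul, add_zero, neg_mul_neg,
      inv_mul_cancel₀ hγz', one_smul]
  have hmix : InS H (B y₁ + B' y') (y₁ + y') := by
    rw [hB'y']
    exact hmix0
  have hsum := SpGood.sum hk hP hP' h1 h2' hy₁P hP'y' hy₁0 hy'0 hmix
  refine ⟨P + P', B + B', hsum, lt_of_le_of_ne ?_ ?_⟩
  · rintro _ ⟨v, rfl⟩
    refine ⟨P v, ?_⟩
    rw [LinearMap.add_apply, hP.idem, h2', add_zero]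
  · intro heq
    have hmem : y' ∈ LinearMap.range (P + P') :=
      ⟨y', by rw [LinearMap.add_apply, hPy', hP'y', zero_add]⟩
    rw [← heq] at hmem
    have := hP.fix_of_mem hmem
    rw [hPy'] at this
    exact hy'0 this.symm

theorem sp_all (hk : IsPrimeFld k) (h2 : (2 : k) ≠ 0) (hconn : Conn H) (hSp : SpType H) :
    ∀ (n : ℕ) (P : V →ₗ[k] V) (B : V →ₗ[k] V →ₗ[k] k), SpGood H P B →
      (∃ x, P x = x ∧ x ≠ 0) → finrank k V - finrank k (LinearMap.range P) = n →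
      ∃ (P' : V →ₗ[k] V) (B' : V →ₗ[k] V →ₗ[k] k), SpGood H P' B' ∧
        (∃ x, P' x = x ∧ x ≠ 0) ∧ ∀ y, IsCen H y → P' y = y := by
  intro n
  induction n using Nat.strong_induction_on with
  | _ n ih =>
    intro P B hP hne hn
    by_cases hall : ∀ y, IsCen H y → y ∈ LinearMap.range P
    · exact ⟨P, B, hP, hne, fun y hy => hP.fix_of_mem (hall y hy)⟩
    · push Not at hall
      obtain ⟨P₁, B₁, hP₁, hlt⟩ := sp_ext_step hk h2 hconn hSp hP hne hall
      have h1 := Submodule.finrank_lt_finrank_of_lt hlt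
      have h3 : finrank k (LinearMap.range P₁) ≤ finrank k V := Submodule.finrank_le _
      obtain ⟨x, hx, hx0⟩ := hne
      have hx₁ : P₁ x = x := hP₁.fix_of_mem (hlt.le ⟨x, hx⟩)
      exact ih (finrank k V - finrank k (LinearMap.range P₁)) (by omega) P₁ B₁ hP₁
        ⟨x, hx₁, hx0⟩ rfl

/-- **Sp case.** If every centre has a one-dimensional space of axes, there are a projection
`P` onto the span of the centres and an alternating form `B` on `range P`, nondegenerate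
there, whose symplectic transvections all lie in `H`. -/
theorem sp_main (hk : IsPrimeFld k) (h2 : (2 : k) ≠ 0) (hconn : Conn H) (hSp : SpType H)
    {w : V} {φ : Dual k V} (hw : w ≠ 0) (hφ0 : φ ≠ 0) (hφ : InS H φ w) :
    ∃ (P : V →ₗ[k] V) (B : V →ₗ[k] V →ₗ[k] k), SpGood H P B ∧
      (∃ x, P x = x ∧ x ≠ 0) ∧ ∀ y, IsCen H y → P y = y := by
  have hwcen : IsCen H w := ⟨hw, φ, hφ0, hφ⟩
  obtain ⟨u, hu, hφu⟩ := exists_cen_ne hconn hφ0 hw hφ
  obtain ⟨ψ, hψ, hψw⟩ := adj_symm hk hconn hwcen hu ⟨φ, hφ, hφu⟩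
  set d : k := φ u with hd
  set ψ₂ : Dual k V := (-d * (ψ w)⁻¹) • ψ with hψ₂
  have hψ₂w : ψ₂ w = -d := by
    rw [hψ₂, LinearMap.smul_apply, smul_eq_mul, mul_assoc, inv_mul_cancel₀ hψw, mul_one]
  have hψ₂S : InS H ψ₂ u := hψ.smul_left hk _
  have hP := plane_good hk hφ hψ₂S hφu rfl hψ₂w
  have hPw : planeP φ ψ₂ w u d w = w := by
    rw [planeP_apply, hψ₂w, hφ.eval, mul_zero, zero_smul, add_zero, neg_mul_neg,
      inv_mul_cancel₀ hφu, one_smul]
  exact sp_all hk h2 hconn hSp _ _ _ hP ⟨w, hPw, hw⟩ rfl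

end Cfsg.Agent.Lib.helper14.McLH
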