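import Mathlib
import Cfsg.Agent.Lib.helper14.McLH

set_option autoImplicit false

/-!
# From "no normal `p`-subgroup" and connectedness to the package `Conn`
-/

namespace Cfsg.Agent.Lib.helper14.McLI

open Module Cfsg.Agent.Lib.helper14.McLA Cfsg.Agent.Lib.helper14.McLB
  Cfsg.Agent.Lib.helper14.McLC

variable {k : Type*} [Field k] {V : Type*} [AddCommGroup V] [Module k V]

/-- the set of nontrivial transvections of `V` -/
def TV : Set (V ≃ₗ[k] V) :=
  {g | ∃ (φ : Dual k V) (w : V) (h : φ w = 0), φ ≠ 0 ∧ w ≠ 0 ∧ g = tve φ w h}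

/-- commuting nontrivial transvections have each centre in the other's axis -/
theorem eval_eq_zero_of_comm {φ ψ : Dual k V} {w u : V} (h : φ w = 0) (h' : ψ u = 0)
    (hφ : φ ≠ 0) (hψ : ψ ≠ 0) (hw : w ≠ 0) (hu : u ≠ 0)
    (hc : tve φ w h * tve ψ u h' = tve ψ u h' * tve φ w h) : φ u = 0 ∧ ψ w = 0 := by
  have key : ∀ v, (ψ v * φ u) • w = (φ v * ψ w) • u := by
    intro v
    have := LinearEquiv.congr_fun hc v
    simp only [LinearEquiv.mul_apply, tve_apply, map_add, map_smul] at this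
    have e : v + φ v • w + ψ v • (u + φ u • w) = v + ψ v • u + φ v • (w + ψ w • u) := this
    have e2 : (v + φ v • w + ψ v • (u + φ u • w)) - (v + ψ v • u + φ v • w) =
        (v + ψ v • u + φ v • (w + ψ w • u)) - (v + ψ v • u + φ v • w) := by rw [e]
    have l : (v + φ v • w + ψ v • (u + φ u • w)) - (v + ψ v • u + φ v • w) =
        (ψ v * φ u) • w := by module
    have r : (v + ψ v • u + φ v • (w + ψ w • u)) - (v + ψ v • u + φ v • w) =
        (φ v * ψ w) • u := by module
    rw [l, r] at e2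
    exact e2
  obtain ⟨v₁, hv₁⟩ : ∃ v, ψ v ≠ 0 := by
    by_contra hcon
    push Not at hcon
    exact hψ (LinearMap.ext hcon)
  obtain ⟨v₂, hv₂⟩ : ∃ v, φ v ≠ 0 := by
    by_contra hcon
    push Not at hcon
    exact hφ (LinearMap.ext hcon)
  have hφu : φ u = 0 := by
    by_contra hne
    have h1 := key v₁
    have h3 := congrArg φ h1
    rw [map_smul, map_smul, h, smul_zero, smul_eq_mul] at h3
    have h4 : φ v₁ * ψ w = 0 := by
      rcases mul_eq_zero.mp h3.symm with h5 | h5
      · exact h5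
      · exact absurd h5 hne
    rw [h4, zero_smul] at h1
    have := smul_eq_zero.mp h1
    rcases this with h5 | h5
    · exact (mul_ne_zero hv₁ hne) h5
    · exact hw h5
  refine ⟨hφu, ?_⟩
  have h1 := key v₂
  rw [hφu, mul_zero, zero_smul] at h1
  rcases smul_eq_zero.mp h1.symm with h5 | h5
  · rcases mul_eq_zero.mp h5 with h6 | h6
    · exact absurd h6 hv₂
    · exact h6
  · exact absurd h5 hu

/-- "no normal `p`-subgroup" for a subgroup `K` of `GL(V)` -/
def NoNP (p : ℕ) (K : Subgroup (V ≃ₗ[k] V)) : Prop :=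
  ∀ N : Subgroup (V ≃ₗ[k] V), N ≤ K → (∀ h ∈ K, ∀ n ∈ N, h * n * h⁻¹ ∈ N) → IsPGroup p N →
    N = ⊥

/-- the unipotent subgroup attached to an invariant subspace -/
def unipSub (K : Subgroup (V ≃ₗ[k] V)) (U : Submodule k V) : Subgroup (V ≃ₗ[k] V) where
  carrier := {n | n ∈ K ∧ (∀ v, n v - v ∈ U) ∧ ∀ v ∈ U, n v = v}
  one_mem' := ⟨K.one_mem, fun v => by simp, fun v _ => rfl⟩
  mul_mem' := by
    rintro a b ⟨ha, ha1, ha2⟩ ⟨hb, hb1, hb2⟩
    refine ⟨K.mul_mem ha hb, fun v => ?_, fun v hv => ?_⟩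
    · have e : (a * b) v - v = (a (b v) - b v) + (b v - v) := by
        rw [LinearEquiv.mul_apply]; abel
      rw [e]
      exact U.add_mem (ha1 _) (hb1 _)
    · rw [LinearEquiv.mul_apply, hb2 v hv, ha2 v hv]
  inv_mem' := by
    rintro a ⟨ha, ha1, ha2⟩
    have hinv : ∀ v, a ((a⁻¹ : V ≃ₗ[k] V) v) = v := fun v => by
      change a (a.symm v) = v
      simp
    refine ⟨K.inv_mem ha, fun v => ?_, fun v hv => ?_⟩
    · have h1 := ha1 ((a⁻¹ : V ≃ₗ[k] V) v)
      rw [hinv] at h1
      have e : (a⁻¹ : V ≃ₗ[k] V) v - v = - (v - (a⁻¹ : V ≃ₗ[k] V) v) := by abel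
      rw [e]
      exact U.neg_mem h1
    · have h1 := ha2 v hv
      have : (a⁻¹ : V ≃ₗ[k] V) (a v) = v := by
        change a.symm (a v) = v
        simp
      rw [h1] at this
      exact this

theorem unip_pow {K : Subgroup (V ≃ₗ[k] V)} {U : Submodule k V} {n : V ≃ₗ[k] V}
    (hn : n ∈ unipSub K U) (j : ℕ) (v : V) : (n ^ j) v = v + (j : k) • (n v - v) := by
  induction j with
  | zero => simp
  | succ j ih =>
    have h2 := hn.2.2 (n v - v) (hn.2.1 v)
    rw [pow_succ', LinearEquiv.mul_apply, ih, map_add, map_smul, h2]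
    push_cast
    module

theorem eq_one_of_unip {p : ℕ} (hchar : (p : k) = 0) {K : Subgroup (V ≃ₗ[k] V)}
    (hK : NoNP p K) (U : Submodule k V) (hU : ∀ h ∈ K, ∀ v ∈ U, h v ∈ U)
    {n : V ≃ₗ[k] V} (hn : n ∈ K) (h1 : ∀ v, n v - v ∈ U) (h2 : ∀ v ∈ U, n v = v) : n = 1 := by
  have hbot : unipSub K U = ⊥ := by
    refine hK _ (fun a ha => ha.1) ?_ ?_
    · rintro h hh a ⟨ha, ha1, ha2⟩
      have hhinvU : ∀ v ∈ U, (h⁻¹ : V ≃ₗ[k] V) v ∈ U := fun v hv => hU _ (K.inv_mem hh) v hv
      refine ⟨K.mul_mem (K.mul_mem hh ha) (K.inv_mem hh), fun v => ?_, fun v hv => ?_⟩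
      · have e : (h * a * h⁻¹) v - v =
            h (a ((h⁻¹ : V ≃ₗ[k] V) v) - (h⁻¹ : V ≃ₗ[k] V) v) := by
          rw [LinearEquiv.mul_apply, LinearEquiv.mul_apply, map_sub]
          congr 1
          change v = h (h.symm v)
          simp
        rw [e]
        exact hU h hh _ (ha1 _)
      · rw [LinearEquiv.mul_apply, LinearEquiv.mul_apply, ha2 _ (hhinvU v hv)]
        change h (h.symm v) = v
        simp
    · intro a
      refine ⟨1, ?_⟩
      ext v
      rw [pow_one]
      have := unip_pow a.2 p v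
      rw [hchar, zero_smul, add_zero] at this
      simpa using this
  have : n ∈ unipSub K U := ⟨hn, h1, h2⟩
  rw [hbot] at this
  exact Subgroup.mem_bot.mp this

/-- connectedness of a set of group elements under the non-commuting relation,
as an induction principle -/
def ConnSet (c : Set (V ≃ₗ[k] V)) : Prop :=
  ∀ Q : (V ≃ₗ[k] V) → Prop, (∃ g ∈ c, Q g) →
    (∀ g ∈ c, ∀ g' ∈ c, Q g → g * g' ≠ g' * g → Q g') → ∀ g ∈ c, Q g

theorem inS_neg {K : Subgroup (V ≃ₗ[k] V)} {φ : Dual k V} {w : V} (h : InS K φ w) :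
    InS K (-φ) w := h.neg_left

theorem conn_of {p : ℕ} (hk : IsPrimeFld k) (hchar : (p : k) = 0) {K : Subgroup (V ≃ₗ[k] V)}
    (hK : NoNP p K) (c : Set (V ≃ₗ[k] V)) (hc : c ⊆ TV) (hKc : K = Subgroup.closure c)
    (hall : ∀ g ∈ K, g ∈ TV → g ∈ c) (hconn : ConnSet c) : Conn K := by
  intro U hUinv hUcen ψ u hψS hψ0 hu0
  -- `U` is `K`-invariant
  have hcK : c ⊆ K := by
    rw [hKc]
    exact Subgroup.subset_closure
  let M : Subgroup (V ≃ₗ[k] V) :=
    { carrier := {g | ∀ v, v ∈ U ↔ g v ∈ U}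
      one_mem' := fun v => Iff.rfl
      mul_mem' := by
        intro a b ha hb v
        rw [LinearEquiv.mul_apply]
        exact (hb v).trans (ha (b v))
      inv_mem' := by
        intro a ha v
        have := ha ((a⁻¹ : V ≃ₗ[k] V) v)
        have e : a ((a⁻¹ : V ≃ₗ[k] V) v) = v := by
          change a (a.symm v) = v
          simp
        rw [e] at this
        exact this.symm }
  have hKM : K ≤ M := by
    rw [hKc, Subgroup.closure_le]
    intro g hg
    obtain ⟨φ, w, h, hφ, hw, rfl⟩ := hc hg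
    have hS : InS K φ w := ⟨h, hcK hg⟩
    intro v
    constructor
    · intro hv
      rw [tve_apply]
      exact hUinv φ w hS v hv
    · intro hv
      have := hUinv (-φ) w hS.neg_left _ hv
      have e : (tve φ w h) v + (-φ) ((tve φ w h) v) • w = v := by
        rw [tve_apply]
        simp only [LinearMap.neg_apply, map_add, map_smul, h, smul_eq_mul, mul_zero, add_zero]
        module
      rw [e] at this
      exact this
  have hUK : ∀ h ∈ K, ∀ v ∈ U, h v ∈ U := fun h hh v hv => (hKM hh v).mp hv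
  -- the property `Q`
  let Q : (V ≃ₗ[k] V) → Prop := fun g => (∀ v, g v - v ∈ U) ∧ ∃ v ∈ U, g v ≠ v
  -- dichotomy for elements of `c`
  have hdich : ∀ g ∈ c, ¬ Q g → (∀ v ∈ U, g v = v) ∧ ∃ v, g v - v ∉ U := by
    intro g hg hnQ
    have hfix : ∀ v ∈ U, g v = v := by
      by_contra hcon
      push Not at hcon
      obtain ⟨v₀, hv₀U, hv₀⟩ := hcon
      apply hnQ
      refine ⟨?_, v₀, hv₀U, hv₀⟩
      obtain ⟨φ, w, h, hφ, hw, rfl⟩ := hc hg
      have h1 : φ v₀ ≠ 0 := by
        intro h0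
        apply hv₀
        rw [tve_apply, h0, zero_smul, add_zero]
      have hwU : w ∈ U := by
        have h3 := hUK _ (hcK hg) v₀ hv₀U
        rw [tve_apply] at h3
        have h4 : φ v₀ • w ∈ U := by
          have := U.sub_mem h3 hv₀U
          rwa [add_sub_cancel_left] at this
        have := U.smul_mem (φ v₀)⁻¹ h4
        rwa [smul_smul, inv_mul_cancel₀ h1, one_smul] at this
      intro v
      rw [tve_apply, add_sub_cancel_left]
      exact U.smul_mem _ hwU
    refine ⟨hfix, ?_⟩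
    by_contra hcon
    push Not at hcon
    have h1 := eq_one_of_unip hchar hK U hUK (hcK hg) hcon hfix
    obtain ⟨φ, w, h, hφ, hw, rfl⟩ := hc hg
    apply hφ
    ext v
    have := LinearEquiv.congr_fun h1 v
    rw [tve_apply] at this
    simp only [LinearEquiv.coe_one, id_eq, add_eq_left] at this
    rcases smul_eq_zero.mp this with h5 | h5
    · simpa using h5
    · exact absurd h5 hw
  -- a starting element
  obtain ⟨x, hxU, hx0, φ₀, hφ₀, hφ₀S⟩ := hUcen
  have hg₀c : tve φ₀ x hφ₀S.eval ∈ c :=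
    hall _ hφ₀S.mem ⟨φ₀, x, hφ₀S.eval, hφ₀, hx0, rfl⟩
  have hQ₀ : Q (tve φ₀ x hφ₀S.eval) := by
    by_contra hnQ
    obtain ⟨_, v, hv⟩ := hdich _ hg₀c hnQ
    apply hv
    rw [tve_apply, add_sub_cancel_left]
    exact U.smul_mem _ hxU
  -- propagation
  have hprop : ∀ g ∈ c, ∀ g' ∈ c, Q g → g * g' ≠ g' * g → Q g' := by
    intro g hg g' hg' hQg hne
    by_contra hnQ
    apply hne
    obtain ⟨hfix', v', hv'⟩ := hdich g' hg' hnQ
    obtain ⟨φ, w, h, hφ, hw, rfl⟩ := hc hg
    obtain ⟨φ', w', h', hφ', hw', rfl⟩ := hc hg'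
    have hS : InS K φ w := ⟨h, hcK hg⟩
    have hS' : InS K φ' w' := ⟨h', hcK hg'⟩
    -- `w ∈ U`
    obtain ⟨hQ1, v₀, hv₀U, hv₀⟩ := hQg
    have hwU : w ∈ U := by
      obtain ⟨v₁, hv₁⟩ : ∃ v, φ v ≠ 0 := by
        by_contra hcon
        push Not at hcon
        exact hφ (LinearMap.ext hcon)
      have h4 := hQ1 v₁
      rw [tve_apply, add_sub_cancel_left] at h4
      have := U.smul_mem (φ v₁)⁻¹ h4
      rwa [smul_smul, inv_mul_cancel₀ hv₁, one_smul] at this
    -- `φ'` vanishes on `U`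
    have hφ'U : ∀ v ∈ U, φ' v = 0 := by
      intro v hv
      have := hfix' v hv
      rw [tve_apply] at this
      simp only [add_eq_left] at this
      rcases smul_eq_zero.mp this with h5 | h5
      · exact h5
      · exact absurd h5 hw'
    have hφ'w : φ' w = 0 := hφ'U w hwU
    have hφw' : φ w' = 0 := by
      by_contra hne'
      have h6 : InS K φ' w := InS.comm_pair' hk hS hS' hφ'w hne'
      have h7 := eq_one_of_unip hchar hK U hUK h6.mem (fun v => by
        rw [tve_apply, add_sub_cancel_left]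
        exact U.smul_mem _ hwU) (fun v hv => by
        rw [tve_apply, hφ'U v hv, zero_smul, add_zero])
      apply hφ'
      ext v
      have := LinearEquiv.congr_fun h7 v
      rw [tve_apply] at this
      simp only [LinearEquiv.coe_one, id_eq, add_eq_left] at this
      rcases smul_eq_zero.mp this with h5 | h5
      · simpa using h5
      · exact absurd h5 hw
    exact tve_comm φ φ' w w' h h' hφw' hφ'w
  have hQall := hconn Q ⟨_, hg₀c, hQ₀⟩ hprop
  have hgc : tve ψ u hψS.eval ∈ c := hall _ hψS.mem ⟨ψ, u, hψS.eval, hψ0, hu0, rfl⟩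
  obtain ⟨hQ1, v₀, hv₀U, hv₀⟩ := hQall _ hgc
  refine ⟨?_, v₀, hv₀U, ?_⟩
  · obtain ⟨v₁, hv₁⟩ : ∃ v, ψ v ≠ 0 := by
      by_contra hcon
      push Not at hcon
      exact hψ0 (LinearMap.ext hcon)
    have h4 := hQ1 v₁
    rw [tve_apply, add_sub_cancel_left] at h4
    have := U.smul_mem (ψ v₁)⁻¹ h4
    rwa [smul_smul, inv_mul_cancel₀ hv₁, one_smul] at this
  · intro h0
    apply hv₀
    rw [tve_apply, h0, zero_smul, add_zero]

end Cfsg.Agent.Lib.helper14.McLI
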