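import Mathlib
import Cfsg.Agent.Lib.helper14.McLI

set_option autoImplicit false

/-!
# Components of the non-commuting graph on the transvections of a group
-/

namespace Cfsg.Agent.Lib.helper14.McLJ

open Module Cfsg.Agent.Lib.helper14.McLA Cfsg.Agent.Lib.helper14.McLB
  Cfsg.Agent.Lib.helper14.McLC Cfsg.Agent.Lib.helper14.McLI

variable {k : Type*} [Field k] {V : Type*} [AddCommGroup V] [Module k V]

/-- the transvections of `H` -/
def tvOf (H : Subgroup (V ≃ₗ[k] V)) : Set (V ≃ₗ[k] V) := {g | g ∈ H ∧ g ∈ TV}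

/-- the non-commuting graph on the transvections of `H` -/
def ncGraph (H : Subgroup (V ≃ₗ[k] V)) : SimpleGraph ↥(tvOf H) where
  Adj a b := (a : V ≃ₗ[k] V) * b ≠ b * a
  symm := ⟨fun _ _ h => Ne.symm h⟩
  loopless := ⟨fun _ h => h rfl⟩

/-- the elements of a component -/
def comp (H : Subgroup (V ≃ₗ[k] V)) (i : (ncGraph H).ConnectedComponent) :
    Set (V ≃ₗ[k] V) :=
  {g | ∃ a : ↥(tvOf H), (a : V ≃ₗ[k] V) = g ∧ (ncGraph H).connectedComponentMk a = i}

/-- the subgroup generated by a component -/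
def compGrp (H : Subgroup (V ≃ₗ[k] V)) (i : (ncGraph H).ConnectedComponent) :
    Subgroup (V ≃ₗ[k] V) := Subgroup.closure (comp H i)

variable {H : Subgroup (V ≃ₗ[k] V)}

theorem comp_sub_tv (i : (ncGraph H).ConnectedComponent) : comp H i ⊆ tvOf H := by
  rintro g ⟨a, rfl, _⟩
  exact a.2

theorem comp_sub_TV (i : (ncGraph H).ConnectedComponent) : comp H i ⊆ TV :=
  fun _ hg => (comp_sub_tv i hg).2

theorem comp_sub_H (i : (ncGraph H).ConnectedComponent) : comp H i ⊆ H :=
  fun _ hg => (comp_sub_tv i hg).1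

theorem compGrp_le (i : (ncGraph H).ConnectedComponent) : compGrp H i ≤ H :=
  (Subgroup.closure_le _).mpr (comp_sub_H i)

theorem mem_comp_of_not_comm {i : (ncGraph H).ConnectedComponent} {g σ : V ≃ₗ[k] V}
    (hg : g ∈ comp H i) (hσ : σ ∈ tvOf H) (hne : σ * g ≠ g * σ) : σ ∈ comp H i := by
  obtain ⟨a, rfl, ha⟩ := hg
  refine ⟨⟨σ, hσ⟩, rfl, ?_⟩
  rw [← ha, SimpleGraph.ConnectedComponent.eq]
  exact SimpleGraph.Adj.reachable (show (ncGraph H).Adj ⟨σ, hσ⟩ a from hne)

theorem comm_of_ne {i j : (ncGraph H).ConnectedComponent} (hij : i ≠ j) {g g' : V ≃ₗ[k] V}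
    (hg : g ∈ comp H i) (hg' : g' ∈ comp H j) : g * g' = g' * g := by
  by_contra hne
  have h1 := mem_comp_of_not_comm hg' (comp_sub_tv i hg) hne
  obtain ⟨a, ha1, ha2⟩ := hg
  obtain ⟨b, hb1, hb2⟩ := h1
  have : a = b := Subtype.ext (ha1.trans hb1.symm)
  apply hij
  rw [← ha2, ← hb2, this]

/-- a transvection of `H` lies in `K i` or centralises it -/
theorem mem_or_centralizes (i : (ncGraph H).ConnectedComponent) {σ : V ≃ₗ[k] V}
    (hσ : σ ∈ tvOf H) : σ ∈ comp H i ∨ ∀ g ∈ compGrp H i, σ * g = g * σ := by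
  by_cases h : σ ∈ comp H i
  · exact Or.inl h
  · right
    have hsub : comp H i ⊆ Subgroup.centralizer ({σ} : Set (V ≃ₗ[k] V)) := by
      intro g hg
      rw [SetLike.mem_coe, Subgroup.mem_centralizer_iff]
      intro x hx
      rw [Set.mem_singleton_iff] at hx
      subst hx
      by_contra hne
      exact h (mem_comp_of_not_comm hg hσ hne)
    have hle : compGrp H i ≤ Subgroup.centralizer ({σ} : Set (V ≃ₗ[k] V)) :=
      (Subgroup.closure_le _).mpr hsub
    intro g hg
    have := Subgroup.mem_centralizer_iff.mp (hle hg) σ (Set.mem_singleton σ)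
    exact this

theorem compGrp_comm {i j : (ncGraph H).ConnectedComponent} (hij : i ≠ j) {a b : V ≃ₗ[k] V}
    (ha : a ∈ compGrp H i) (hb : b ∈ compGrp H j) : a * b = b * a := by
  have h1 : comp H j ⊆ Subgroup.centralizer (comp H i) := by
    intro g' hg'
    rw [SetLike.mem_coe, Subgroup.mem_centralizer_iff]
    intro g hg
    exact comm_of_ne hij hg hg'
  have h2 : compGrp H j ≤ Subgroup.centralizer (comp H i) := (Subgroup.closure_le _).mpr h1
  have h3 : comp H i ⊆ Subgroup.centralizer ({b} : Set (V ≃ₗ[k] V)) := by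
    intro g hg
    rw [SetLike.mem_coe, Subgroup.mem_centralizer_iff]
    intro x hx
    rw [Set.mem_singleton_iff] at hx
    subst hx
    exact (Subgroup.mem_centralizer_iff.mp (h2 hb) g hg).symm
  have h4 : compGrp H i ≤ Subgroup.centralizer ({b} : Set (V ≃ₗ[k] V)) :=
    (Subgroup.closure_le _).mpr h3
  exact (Subgroup.mem_centralizer_iff.mp (h4 ha) b (Set.mem_singleton b)).symm

/-- a subgroup of `K i` normalised by `K i` is normalised by `H` -/
theorem normalized_by_H (hgen : H = Subgroup.closure (tvOf H))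
    (i : (ncGraph H).ConnectedComponent) {N : Subgroup (V ≃ₗ[k] V)} (hN : N ≤ compGrp H i)
    (hnorm : ∀ h ∈ compGrp H i, ∀ n ∈ N, h * n * h⁻¹ ∈ N) :
    ∀ h ∈ H, ∀ n ∈ N, h * n * h⁻¹ ∈ N := by
  have key : ∀ h ∈ H, (∀ n ∈ N, h * n * h⁻¹ ∈ N) ∧ (∀ n ∈ N, h⁻¹ * n * h ∈ N) := by
    intro h hh
    rw [hgen] at hh
    induction hh using Subgroup.closure_induction with
    | mem σ hσ =>
      rcases mem_or_centralizes i hσ with h1 | h1
      · have hσK : σ ∈ compGrp H i := Subgroup.subset_closure h1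
        refine ⟨hnorm σ hσK, fun n hn => ?_⟩
        have := hnorm σ⁻¹ ((compGrp H i).inv_mem hσK) n hn
        rwa [inv_inv] at this
      · refine ⟨fun n hn => ?_, fun n hn => ?_⟩
        · rw [h1 n (hN hn), mul_inv_cancel_right]
          exact hn
        · rw [mul_assoc, ← h1 n (hN hn), inv_mul_cancel_left]
          exact hn
    | one => simp
    | mul a b _ _ iha ihb =>
      refine ⟨fun n hn => ?_, fun n hn => ?_⟩
      · have := iha.1 _ (ihb.1 n hn)
        rw [mul_inv_rev]
        simpa [mul_assoc] using this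
      · have := ihb.2 _ (iha.2 n hn)
        rw [mul_inv_rev]
        simpa [mul_assoc] using this
    | inv a _ iha =>
      refine ⟨fun n hn => ?_, fun n hn => ?_⟩
      · have := iha.2 n hn
        rwa [inv_inv]
      · have := iha.1 n hn
        rwa [inv_inv]
  exact fun h hh => (key h hh).1

theorem noNP_compGrp {p : ℕ} (hNP : NoNP p H) (hgen : H = Subgroup.closure (tvOf H))
    (i : (ncGraph H).ConnectedComponent) : NoNP p (compGrp H i) := by
  intro N hN hnorm hp
  exact hNP N (hN.trans (compGrp_le i)) (normalized_by_H hgen i hN hnorm) hp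

theorem compGrp_normal (hgen : H = Subgroup.closure (tvOf H))
    (i : (ncGraph H).ConnectedComponent) :
    ∀ h ∈ H, ∀ n ∈ compGrp H i, h * n * h⁻¹ ∈ compGrp H i :=
  normalized_by_H hgen i le_rfl (fun h hh n hn =>
    (compGrp H i).mul_mem ((compGrp H i).mul_mem hh hn) ((compGrp H i).inv_mem hh))

theorem tve_ne_one {φ : Dual k V} {w : V} (h : φ w = 0) (hφ : φ ≠ 0) (hw : w ≠ 0) :
    tve φ w h ≠ 1 := by
  intro h1
  apply hφ
  ext v
  have := LinearEquiv.congr_fun h1 v
  rw [tve_apply] at this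
  simp only [LinearEquiv.coe_one, id_eq, add_eq_left] at this
  rcases smul_eq_zero.mp this with h5 | h5
  · simpa using h5
  · exact absurd h5 hw

theorem tve_pow_char {p : ℕ} (hchar : (p : k) = 0) {φ : Dual k V} {w : V} (h : φ w = 0) :
    (tve φ w h) ^ p = 1 := by
  rw [tve_pow]
  ext v
  simp [hchar]

/-- every transvection of `K i` belongs to the component `i` -/
theorem mem_comp_of_mem_compGrp {p : ℕ} [Fact p.Prime] (hchar : (p : k) = 0) (hNP : NoNP p H)
    (hgen : H = Subgroup.closure (tvOf H)) (i : (ncGraph H).ConnectedComponent)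
    {g : V ≃ₗ[k] V} (hg : g ∈ compGrp H i) (hgT : g ∈ TV) : g ∈ comp H i := by
  have hgtv : g ∈ tvOf H := ⟨compGrp_le i hg, hgT⟩
  rcases mem_or_centralizes i hgtv with h1 | h1
  · exact h1
  · exfalso
    obtain ⟨φ, w, h, hφ, hw, rfl⟩ := hgT
    have hbot : Subgroup.zpowers (tve φ w h) = ⊥ := by
      refine noNP_compGrp hNP hgen i _ ?_ ?_ ?_
      · rw [Subgroup.zpowers_le]
        exact hg
      · intro x hx n hn
        obtain ⟨m, rfl⟩ := Subgroup.mem_zpowers_iff.mp hn
        have hc : Commute (tve φ w h) x := h1 x hx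
        have : x * (tve φ w h) ^ m * x⁻¹ = (tve φ w h) ^ m := by
          rw [← (hc.zpow_left m).eq, mul_inv_cancel_right]
        rw [this]
        exact Subgroup.zpow_mem_zpowers _ m
      · intro x
        refine ⟨1, ?_⟩
        obtain ⟨m, hm⟩ := Subgroup.mem_zpowers_iff.mp x.2
        rw [pow_one]
        ext
        rw [Subgroup.coe_pow, ← hm, ← zpow_natCast, ← zpow_mul, mul_comm, zpow_mul,
          zpow_natCast, tve_pow_char hchar, one_zpow]
        rfl
    have : tve φ w h ∈ Subgroup.zpowers (tve φ w h) := Subgroup.mem_zpowers _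
    rw [hbot] at this
    exact tve_ne_one h hφ hw (Subgroup.mem_bot.mp this)

/-- a component is connected -/
theorem connSet_comp (i : (ncGraph H).ConnectedComponent) : ConnSet (comp H i) := by
  intro Q hex hstep
  obtain ⟨g₀, hg₀, hQ₀⟩ := hex
  obtain ⟨a, rfl, ha⟩ := hg₀
  have key : ∀ b : ↥(tvOf H), Relation.ReflTransGen (ncGraph H).Adj a b →
      Q (b : V ≃ₗ[k] V) ∧ (ncGraph H).connectedComponentMk b = i := by
    intro b hb
    induction hb with
    | refl => exact ⟨hQ₀, ha⟩
    | @tail b' b'' _ hadj ih =>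
      have hcomp : (ncGraph H).connectedComponentMk b'' = i := by
        rw [← ih.2, SimpleGraph.ConnectedComponent.eq]
        exact (SimpleGraph.Adj.reachable hadj).symm
      exact ⟨hstep _ ⟨b', rfl, ih.2⟩ _ ⟨b'', rfl, hcomp⟩ ih.1 hadj, hcomp⟩
  rintro g ⟨b, rfl, hb⟩
  have hreach : (ncGraph H).Reachable a b := by
    rw [← SimpleGraph.ConnectedComponent.eq, ha, hb]
  exact (key b ((SimpleGraph.reachable_iff_reflTransGen a b).mp hreach)).1

theorem conn_compGrp {p : ℕ} [Fact p.Prime] (hk : IsPrimeFld k) (hchar : (p : k) = 0)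
    (hNP : NoNP p H) (hgen : H = Subgroup.closure (tvOf H))
    (i : (ncGraph H).ConnectedComponent) : Conn (compGrp H i) :=
  conn_of hk hchar (noNP_compGrp hNP hgen i) (comp H i) (comp_sub_TV i) rfl
    (fun _ hg hgT => mem_comp_of_mem_compGrp hchar hNP hgen i hg hgT) (connSet_comp i)

theorem iSup_compGrp (hgen : H = Subgroup.closure (tvOf H)) :
    ⨆ i, compGrp H i = H := by
  apply le_antisymm
  · exact iSup_le (fun i => compGrp_le i)
  · conv_lhs => rw [hgen]
    rw [Subgroup.closure_le]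
    intro σ hσ
    have h1 : σ ∈ compGrp H ((ncGraph H).connectedComponentMk ⟨σ, hσ⟩) :=
      Subgroup.subset_closure ⟨⟨σ, hσ⟩, rfl, rfl⟩
    exact (le_iSup (fun i => compGrp H i) _) h1

theorem exists_mem_comp (i : (ncGraph H).ConnectedComponent) : ∃ g, g ∈ comp H i := by
  induction i using SimpleGraph.ConnectedComponent.ind with
  | _ a => exact ⟨a, a, rfl, rfl⟩

end Cfsg.Agent.Lib.helper14.McLJ
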