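import Mathlib
import Cfsg.Agent.Lib.helper14.McLJ

set_option autoImplicit false

/-!
# The structure of a connected component: a uniform package
-/

namespace Cfsg.Agent.Lib.helper14.McLK

open Module Cfsg.Agent.Lib.helper14.McLA Cfsg.Agent.Lib.helper14.McLB
  Cfsg.Agent.Lib.helper14.McLC Cfsg.Agent.Lib.helper14.McLD Cfsg.Agent.Lib.helper14.McLE
  Cfsg.Agent.Lib.helper14.McLF Cfsg.Agent.Lib.helper14.McLH Cfsg.Agent.Lib.helper14.McLI

variable {k : Type*} [Field k] {V : Type*} [AddCommGroup V] [Module k V]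

/-- the structure of a connected transvection group: `range P` is spanned by the centres,
`ker P` is the intersection of the axes, and the group is of `SL` or `Sp` type on `range P` -/
structure CompData (K : Subgroup (V ≃ₗ[k] V)) (P : V →ₗ[k] V) : Prop where
  idem : ∀ v, P (P v) = P v
  cen : ∀ (χ : Dual k V) (x : V), InS K χ x → χ ≠ 0 → x ≠ 0 → P x = x ∧ ∀ v, χ (P v) = χ v
  sep : ∀ y, P y = y → y ≠ 0 → ∃ (χ : Dual k V) (x : V), x ≠ 0 ∧ InS K χ x ∧ χ y ≠ 0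
  isCen : ∀ y, P y = y → y ≠ 0 → IsCen K y
  type : (∀ (x : V) (χ : Dual k V), P x = x → (∀ v, χ (P v) = χ v) → χ x = 0 → InS K χ x) ∨
    (∃ B : V →ₗ[k] V →ₗ[k] k, SpGood K P B ∧
      ∀ (χ : Dual k V) (x : V), InS K χ x → x ≠ 0 → ∃ c : k, χ = c • B x)

variable [FiniteDimensional k V]

theorem exists_compData (hk : IsPrimeFld k) (h2 : (2 : k) ≠ 0) {K : Subgroup (V ≃ₗ[k] V)}
    (hconn : Conn K) (hex : ∃ g ∈ K, g ∈ TV) : ∃ P : V →ₗ[k] V, CompData K P := by
  obtain ⟨g, hgK, φ, w, h, hφ0, hw, rfl⟩ := hex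
  have hφ : InS K φ w := ⟨h, hgK⟩
  by_cases hSp : SpType K
  · obtain ⟨P, B, hP, _, hcen⟩ := sp_main hk h2 hconn hSp hw hφ0 hφ
    refine ⟨P, hP.idem, ?_, ?_, fun y hy hy0 => hP.isCen hy hy0, Or.inr ⟨B, hP, ?_⟩⟩
    · intro χ x hS hχ hx
      have hPx := hcen x ⟨hx, χ, hχ, hS⟩
      refine ⟨hPx, fun v => ?_⟩
      obtain ⟨c, rfl⟩ := hP.axis_eq hSp hPx hx hS
      rw [LinearMap.smul_apply, LinearMap.smul_apply, hP.right]
    · intro y hy hy0
      obtain ⟨x, hx, hBx⟩ := hP.nondeg' hy hy0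
      have hx0 : x ≠ 0 := by
        rintro rfl
        simp at hBx
      refine ⟨B x, x, hx0, hP.good x hx, ?_⟩
      rw [hP.skew]
      exact neg_ne_zero.mpr hBx
    · intro χ x hS hx
      by_cases hχ : χ = 0
      · exact ⟨0, by rw [hχ, zero_smul]⟩
      · have hPx := hcen x ⟨hx, χ, hχ, hS⟩
        exact hP.axis_eq hSp hPx hx hS
  · unfold SpType at hSp
    push Not at hSp
    obtain ⟨w', φ', φ₁, hw', hφ'0, hφ', hφ₁, hnc⟩ := hSp
    have hind : φ₁ ∉ Submodule.span k {φ'} := by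
      intro hmem
      obtain ⟨c, hc⟩ := Submodule.mem_span_singleton.mp hmem
      exact hnc c hc.symm
    obtain ⟨P, hP, h3, hcen, hax⟩ := sl_main hk hconn hw' hφ'0 hφ' hφ₁ hind
    have h2' : 2 ≤ finrank k (LinearMap.range P) := by omega
    refine ⟨P, hP.idem, ?_, ?_, fun y hy hy0 => hP.isCen h2' hy hy0, Or.inl hP.good⟩
    · intro χ x hS hχ hx
      have hPx := hcen x ⟨hx, χ, hχ, hS⟩
      exact ⟨hPx, hax x χ hPx hx hS⟩
    · intro y hy hy0
      obtain ⟨x, hxU, hxy⟩ := exists_notMem_span (LinearMap.range P) h2' y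
      have hx0 : x ≠ 0 := by
        rintro rfl
        exact hxy (Submodule.zero_mem _)
      have hx := hP.fix_of_mem hxU
      obtain ⟨ψ, _, _, hψy, hψS⟩ := hP.sep hx hy (notMem_span_symm hy0 hxy)
      exact ⟨ψ, x, hx0, hψS, hψy⟩

end Cfsg.Agent.Lib.helper14.McLK
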