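import Mathlib
import Cfsg.Agent.Lib.helper14.McLA

set_option autoImplicit false

/-!
# Generation of the symplectic group of an abstract space by symplectic transvections
-/

namespace Cfsg.Agent.Lib.helper14.McLL

open Module Cfsg.Agent.Lib.helper14.McLA

variable {k : Type*} [Field k] {W : Type*} [AddCommGroup W] [Module k W]

/-- the symplectic transvections of `(W, B)` -/
def TvB (B : W →ₗ[k] W →ₗ[k] k) : Set (W ≃ₗ[k] W) :=
  {g | ∃ (c : k) (y : W) (h : (c • B y) y = 0), g = tve (c • B y) y h}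

/-- isometries of `B` -/
def IsoB (B : W →ₗ[k] W →ₗ[k] k) (f : W ≃ₗ[k] W) : Prop := ∀ x y, B (f x) (f y) = B x y

/-- the fixed space of `f` -/
def fixSp (f : W ≃ₗ[k] W) : Submodule k W := LinearMap.ker ((f : W →ₗ[k] W) - LinearMap.id)

theorem mem_fixSp {f : W ≃ₗ[k] W} {x : W} : x ∈ fixSp f ↔ f x = x := by
  simp [fixSp, sub_eq_zero]

variable {B : W →ₗ[k] W →ₗ[k] k}

theorem skew_of_alt (halt : ∀ x, B x x = 0) (x y : W) : B x y = - B y x := by
  have h := halt (x + y)
  simp only [map_add, LinearMap.add_apply, halt x, halt y, zero_add, add_zero] at h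
  linear_combination h

theorem isoB_tve (halt : ∀ x, B x x = 0) (c : k) (y : W) (h : (c • B y) y = 0) :
    IsoB B (tve (c • B y) y h) := by
  intro a b
  simp only [tve_apply, LinearMap.smul_apply, smul_eq_mul, map_add, map_smul,
    LinearMap.add_apply, halt y, mul_zero, add_zero]
  rw [skew_of_alt halt a y]
  ring

theorem IsoB.mul {f g : W ≃ₗ[k] W} (hf : IsoB B f) (hg : IsoB B g) : IsoB B (f * g) := by
  intro x y
  rw [LinearEquiv.mul_apply, LinearEquiv.mul_apply, hf, hg]

theorem IsoB.inv {f : W ≃ₗ[k] W} (hf : IsoB B f) : IsoB B f⁻¹ := by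
  intro x y
  have := hf ((f⁻¹ : W ≃ₗ[k] W) x) ((f⁻¹ : W ≃ₗ[k] W) y)
  have e : ∀ v, f ((f⁻¹ : W ≃ₗ[k] W) v) = v := fun v => by
    change f (f.symm v) = v
    simp
  rw [e, e] at this
  exact this.symm

theorem isoB_one : IsoB B (1 : W ≃ₗ[k] W) := fun _ _ => rfl

theorem isoB_of_mem_closure (halt : ∀ x, B x x = 0) {f : W ≃ₗ[k] W}
    (hf : f ∈ Subgroup.closure (TvB B)) : IsoB B f := by
  induction hf using Subgroup.closure_induction with
  | mem g hg =>
    obtain ⟨c, y, h, rfl⟩ := hg
    exact isoB_tve halt c y h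
  | one => exact isoB_one
  | mul a b _ _ iha ihb => exact iha.mul ihb
  | inv a _ iha => exact iha.inv

/-- the transvection with centre `z` taking `a` to `a + z`, when `B z a ≠ 0` -/
theorem exists_tv_move (halt : ∀ x, B x x = 0) {z a : W} (hza : B z a ≠ 0) :
    ∃ t ∈ TvB B, t a = a + z ∧ ∀ x, B z x = 0 → t x = x := by
  have h : ((B z a)⁻¹ • B z) z = 0 := by
    rw [LinearMap.smul_apply, halt, smul_zero]
  refine ⟨tve ((B z a)⁻¹ • B z) z h, ⟨_, z, h, rfl⟩, ?_, ?_⟩
  · rw [tve_apply, LinearMap.smul_apply, smul_eq_mul, inv_mul_cancel₀ hza, one_smul]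
  · intro x hx
    rw [tve_apply, LinearMap.smul_apply, hx, smul_zero, zero_smul, add_zero]

variable [FiniteDimensional k W]

/-- every functional is `B ℓ` for a nondegenerate form -/
theorem exists_repr (hnd : ∀ x, x ≠ 0 → ∃ y, B x y ≠ 0) (θ : Dual k W) :
    ∃ ℓ : W, B ℓ = θ := by
  have hinj : Function.Injective B := by
    rw [← LinearMap.ker_eq_bot, Submodule.eq_bot_iff]
    intro x hx
    by_contra hx0
    obtain ⟨y, hy⟩ := hnd x hx0
    rw [LinearMap.mem_ker] at hx
    rw [hx] at hy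
    simp at hy
  have hsurj : Function.Surjective B :=
    (LinearMap.injective_iff_surjective_of_finrank_eq_finrank
      (Subspace.dual_finrank_eq (K := k) (V := W)).symm).mp hinj
  exact hsurj θ

/-- a vector orthogonal to `Fix f` on which two given points outside `Fix f` do not vanish -/
theorem exists_perp (halt : ∀ x, B x x = 0) (hnd : ∀ x, x ≠ 0 → ∃ y, B x y ≠ 0)
    (F : Submodule k W) {a b : W} (ha : a ∉ F) (hb : b ∉ F) :
    ∃ ℓ : W, (∀ x ∈ F, B ℓ x = 0) ∧ B ℓ a ≠ 0 ∧ B ℓ b ≠ 0 := by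
  have aux : ∀ a : W, a ∉ F → ∃ ℓ : W, (∀ x ∈ F, B ℓ x = 0) ∧ B ℓ a ≠ 0 := by
    intro a ha
    obtain ⟨θ, hθa, hθF⟩ := Submodule.exists_dual_map_eq_bot_of_notMem ha inferInstance
    obtain ⟨ℓ, rfl⟩ := exists_repr hnd θ
    refine ⟨ℓ, fun x hx => ?_, hθa⟩
    have : B ℓ x ∈ F.map (B ℓ) := ⟨x, hx, rfl⟩
    rw [hθF] at this
    simpa using this
  obtain ⟨ℓ₁, h1F, h1a⟩ := aux a ha
  obtain ⟨ℓ₂, h2F, h2b⟩ := aux b hb
  by_cases h1b : B ℓ₁ b = 0
  · by_cases h2a : B ℓ₂ a = 0
    · refine ⟨ℓ₁ + ℓ₂, fun x hx => ?_, ?_, ?_⟩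
      · rw [map_add, LinearMap.add_apply, h1F x hx, h2F x hx, add_zero]
      · rw [map_add, LinearMap.add_apply, h2a, add_zero]
        exact h1a
      · rw [map_add, LinearMap.add_apply, h1b, zero_add]
        exact h2b
    · exact ⟨ℓ₂, h2F, h2a, h2b⟩
  · exact ⟨ℓ₁, h1F, h1a, h1b⟩

/-- **Generation of `Sp(W, B)` by symplectic transvections.** -/
theorem sp_generation (halt : ∀ x, B x x = 0) (hnd : ∀ x, x ≠ 0 → ∃ y, B x y ≠ 0) :
    ∀ (n : ℕ) (f : W ≃ₗ[k] W), IsoB B f → finrank k W - finrank k (fixSp f) = n →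
      f ∈ Subgroup.closure (TvB B) := by
  intro n
  induction n using Nat.strong_induction_on with
  | _ n ih =>
    intro f hf hn
    by_cases hall : ∀ v, f v = v
    · have : f = 1 := by
        ext v
        exact hall v
      rw [this]
      exact Subgroup.one_mem _
    push Not at hall
    obtain ⟨v, hv⟩ := hall
    have hvF : v ∉ fixSp f := fun h => hv (mem_fixSp.mp h)
    have hfvF : f v ∉ fixSp f := by
      intro h
      apply hv
      exact f.injective (mem_fixSp.mp h)
    have hFle : finrank k (fixSp f) ≤ finrank k W := Submodule.finrank_le _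
    -- key reduction: it suffices to find `s ∈ closure` fixing `Fix f` pointwise with `s v = f v`
    have key : ∀ s : W ≃ₗ[k] W, s ∈ Subgroup.closure (TvB B) → s v = f v →
        (∀ x ∈ fixSp f, s x = x) → f ∈ Subgroup.closure (TvB B) := by
      intro s hs hsv hsF
      have hsinv : ∀ x, (s⁻¹ : W ≃ₗ[k] W) (s x) = x := fun x => by
        change s.symm (s x) = x
        simp
      have hg : IsoB B (s⁻¹ * f) := (isoB_of_mem_closure halt hs).inv.mul hf
      have hlt : fixSp f < fixSp (s⁻¹ * f) := by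
        refine lt_of_le_of_ne ?_ ?_
        · intro x hx
          rw [mem_fixSp, LinearEquiv.mul_apply, mem_fixSp.mp hx]
          have := hsF x hx
          rw [← this, hsinv, this]
        · intro heq
          apply hvF
          rw [heq, mem_fixSp, LinearEquiv.mul_apply, ← hsv, hsinv]
      have h1 := Submodule.finrank_lt_finrank_of_lt hlt
      have h3 : finrank k (fixSp (s⁻¹ * f)) ≤ finrank k W := Submodule.finrank_le _
      have hmem := ih (finrank k W - finrank k (fixSp (s⁻¹ * f))) (by omega) (s⁻¹ * f) hg rfl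
      have : f = s * (s⁻¹ * f) := by rw [mul_inv_cancel_left]
      rw [this]
      exact Subgroup.mul_mem _ hs hmem
    have hBfix : ∀ x ∈ fixSp f, B (f v) x = B v x := by
      intro x hx
      have := hf v x
      rwa [mem_fixSp.mp hx] at this
    by_cases hc : B v (f v) = 0
    · -- two transvections
      obtain ⟨ℓ, hℓF, hℓv, hℓfv⟩ := exists_perp halt hnd (fixSp f) hvF hfvF
      obtain ⟨t₁, ht₁, ht₁v, ht₁fix⟩ := exists_tv_move halt hℓv
      have hz : B (f v - (v + ℓ)) (v + ℓ) ≠ 0 := by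
        rw [map_sub, LinearMap.sub_apply, halt, sub_zero, map_add, skew_of_alt halt (f v) v, hc,
          neg_zero, zero_add, skew_of_alt halt]
        exact neg_ne_zero.mpr hℓfv
      obtain ⟨t₂, ht₂, ht₂v, ht₂fix⟩ := exists_tv_move halt hz
      refine key (t₂ * t₁) (Subgroup.mul_mem _ (Subgroup.subset_closure ht₂)
        (Subgroup.subset_closure ht₁)) ?_ ?_
      · rw [LinearEquiv.mul_apply, ht₁v, ht₂v]
        abel
      · intro x hx
        rw [LinearEquiv.mul_apply, ht₁fix x (hℓF x hx)]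
        apply ht₂fix
        rw [map_sub, LinearMap.sub_apply, map_add, LinearMap.add_apply, hBfix x hx, hℓF x hx]
        ring
    · -- one transvection
      have hz : B (f v - v) v ≠ 0 := by
        rw [map_sub, LinearMap.sub_apply, halt, sub_zero, skew_of_alt halt]
        exact neg_ne_zero.mpr hc
      obtain ⟨t, ht, htv, htfix⟩ := exists_tv_move halt hz
      refine key t (Subgroup.subset_closure ht) ?_ ?_
      · rw [htv]
        abel
      · intro x hx
        apply htfix
        rw [map_sub, LinearMap.sub_apply, hBfix x hx, sub_self]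

end Cfsg.Agent.Lib.helper14.McLL
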