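import Mathlib
import Cfsg.Agent.Lib.helper14.McLA
import Cfsg.Agent.Lib.Lead.SLn

set_option autoImplicit false

/-!
# Generation of the special linear group of an abstract space by transvections
-/

namespace Cfsg.Agent.Lib.helper14.McLM

open Module Cfsg.Agent.Lib.helper14.McLA

variable {k : Type*} [Field k] {W : Type*} [AddCommGroup W] [Module k W]

/-- all transvections of `W` -/
def TvAll : Set (W ≃ₗ[k] W) := {g | ∃ (ψ : Dual k W) (y : W) (h : ψ y = 0), g = tve ψ y h}

theorem coord_zero {n : ℕ} (b : Basis (Fin n) k W) {i j : Fin n} (hij : i ≠ j) (c : k) :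
    (c • b.coord j) (b i) = 0 := by
  simp [Finsupp.single_apply, hij]

theorem tve_coe_eq_toLin {n : ℕ} (b : Basis (Fin n) k W) {i j : Fin n} (hij : i ≠ j) (c : k) :
    ((tve (c • b.coord j) (b i) (coord_zero b hij c) : W ≃ₗ[k] W) : W →ₗ[k] W) =
      Matrix.toLin b b ((1 : Matrix (Fin n) (Fin n) k) + Matrix.single i j c) := by
  apply b.ext
  intro l
  rw [Matrix.toLin_self]
  simp only [LinearEquiv.coe_coe, tve_apply, LinearMap.smul_apply, Basis.coord_apply,
    Basis.repr_self, smul_eq_mul, Matrix.add_apply, Matrix.one_apply, Matrix.single_apply,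
    add_smul, Finset.sum_add_distrib]
  congr 1
  · simp
  · by_cases hl : l = j
    · subst hl
      simp [Finsupp.single_apply]
    · have : (Finsupp.single l (1 : k)) j = 0 := by
        rw [Finsupp.single_apply, if_neg hl]
      simp [this, hl, Ne.symm hl]

theorem sl_gen_aux (n : ℕ) (b : Basis (Fin n) k W) (f : W ≃ₗ[k] W)
    (hdet : LinearMap.det (f : W →ₗ[k] W) = 1) : f ∈ Subgroup.closure (TvAll (k := k) (W := W)) := by
  have hM : (LinearMap.toMatrix b b (f : W →ₗ[k] W)).det = 1 := by
    rw [LinearMap.det_toMatrix]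
    exact hdet
  match n, b, hM with
  | 0, b, _ =>
    have : f = 1 := by
      ext v
      have h0 : ∀ w : W, w = 0 := fun w => by
        rw [← b.sum_repr w]
        simp
      rw [h0 (f v), h0 ((1 : W ≃ₗ[k] W) v)]
    rw [this]
    exact Subgroup.one_mem _
  | 1, b, hM =>
    have h00 : LinearMap.toMatrix b b (f : W →ₗ[k] W) 0 0 = 1 := by
      rw [Matrix.det_fin_one] at hM
      exact hM
    have : f = 1 := by
      apply LinearEquiv.toLinearMap_injective
      apply b.ext
      intro l
      have hl : l = 0 := Subsingleton.elim _ _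
      subst hl
      have h1 := Matrix.toLin_self b b (LinearMap.toMatrix b b (f : W →ₗ[k] W)) 0
      rw [Matrix.toLin_toMatrix] at h1
      rw [h1]
      simp [h00]
    rw [this]
    exact Subgroup.one_mem _
  | (m + 2), b, hM =>
    have key := Cfsg.Agent.Lib.Lead.SL_transvection_induction (ι := Fin (m + 2)) (F := k)
      (fun A => ∃ g ∈ Subgroup.closure (TvAll (k := k) (W := W)),
        ((g : W ≃ₗ[k] W) : W →ₗ[k] W) = Matrix.toLin b b A.1)
      (fun i j hij c => ⟨tve (c • b.coord j) (b i) (coord_zero b hij c),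
        Subgroup.subset_closure ⟨_, _, _, rfl⟩, tve_coe_eq_toLin b hij c⟩)
      (fun A B ⟨g₁, hg₁, e₁⟩ ⟨g₂, hg₂, e₂⟩ => ⟨g₁ * g₂, Subgroup.mul_mem _ hg₁ hg₂, by
        rw [Matrix.SpecialLinearGroup.coe_mul, Matrix.toLin_mul b b b, ← e₁, ← e₂]
        rfl⟩)
      ⟨LinearMap.toMatrix b b (f : W →ₗ[k] W), hM⟩
    obtain ⟨g, hg, e⟩ := key
    have : g = f := by
      apply LinearEquiv.toLinearMap_injective
      rw [e, Matrix.toLin_toMatrix]
    rw [← this]
    exact hg

/-- **Generation of `SL(W)` by transvections.** -/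
theorem sl_generation [FiniteDimensional k W] (f : W ≃ₗ[k] W)
    (hdet : LinearMap.det (f : W →ₗ[k] W) = 1) :
    f ∈ Subgroup.closure (TvAll (k := k) (W := W)) :=
  sl_gen_aux _ (Module.finBasis k W) f hdet

theorem det_tve [FiniteDimensional k W] (ψ : Dual k W) (y : W) (h : ψ y = 0) :
    LinearMap.det ((tve ψ y h : W ≃ₗ[k] W) : W →ₗ[k] W) = 1 := by
  have e : ((tve ψ y h : W ≃ₗ[k] W) : W →ₗ[k] W) = LinearMap.transvection ψ y := by
    ext v
    simp [LinearMap.transvection.apply]
  rw [e, LinearMap.transvection.det, h, add_zero]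

theorem det_of_mem_closure [FiniteDimensional k W] {f : W ≃ₗ[k] W}
    (hf : f ∈ Subgroup.closure (TvAll (k := k) (W := W))) :
    LinearMap.det (f : W →ₗ[k] W) = 1 := by
  induction hf using Subgroup.closure_induction with
  | mem g hg =>
    obtain ⟨ψ, y, h, rfl⟩ := hg
    exact det_tve ψ y h
  | one => simp
  | mul a b _ _ iha ihb =>
    have : ((a * b : W ≃ₗ[k] W) : W →ₗ[k] W) = (a : W →ₗ[k] W).comp (b : W →ₗ[k] W) := rfl
    rw [this, LinearMap.det_comp, iha, ihb, one_mul]
  | inv a _ iha =>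
    have h1 : LinearMap.det ((a⁻¹ : W ≃ₗ[k] W) : W →ₗ[k] W) * LinearMap.det (a : W →ₗ[k] W) = 1 := by
      rw [← LinearMap.det_comp]
      have : ((a⁻¹ : W ≃ₗ[k] W) : W →ₗ[k] W).comp (a : W →ₗ[k] W) = LinearMap.id := by
        ext v
        change a.symm (a v) = v
        simp
      rw [this, LinearMap.det_id]
    rwa [iha, mul_one] at h1

end Cfsg.Agent.Lib.helper14.McLM
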