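import Mathlib
import Cfsg.Agent.Lib.helper14.McLK
import Cfsg.Agent.Lib.helper14.McLL
import Cfsg.Agent.Lib.helper14.McLM

set_option autoImplicit false

/-!
# The representation of a component on the span of its centres
-/

namespace Cfsg.Agent.Lib.helper14.McLN

open Module Cfsg.Agent.Lib.helper14.McLA Cfsg.Agent.Lib.helper14.McLB
  Cfsg.Agent.Lib.helper14.McLC Cfsg.Agent.Lib.helper14.McLF Cfsg.Agent.Lib.helper14.McLI
  Cfsg.Agent.Lib.helper14.McLK Cfsg.Agent.Lib.helper14.McLL Cfsg.Agent.Lib.helper14.McLM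

variable {k : Type*} [Field k] {V : Type*} [AddCommGroup V] [Module k V]

theorem inv_apply_self (g : V ≃ₗ[k] V) (v : V) : (g⁻¹ : V ≃ₗ[k] V) (g v) = v := by
  change g.symm (g v) = v
  simp

theorem apply_inv_self (g : V ≃ₗ[k] V) (v : V) : g ((g⁻¹ : V ≃ₗ[k] V) v) = v := by
  change g (g.symm v) = v
  simp

/-- restriction of a linear automorphism to an invariant submodule -/
def resEquiv (g : V ≃ₗ[k] V) (W : Submodule k V) (h1 : ∀ v ∈ W, g v ∈ W)
    (h2 : ∀ v ∈ W, (g⁻¹ : V ≃ₗ[k] V) v ∈ W) : ↥W ≃ₗ[k] ↥W where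
  toFun v := ⟨g v, h1 v v.2⟩
  map_add' a b := by
    ext
    simp
  map_smul' c a := by
    ext
    simp
  invFun v := ⟨(g⁻¹ : V ≃ₗ[k] V) v, h2 v v.2⟩
  left_inv v := by
    ext
    exact inv_apply_self g v
  right_inv v := by
    ext
    exact apply_inv_self g v

@[simp] theorem resEquiv_apply (g : V ≃ₗ[k] V) (W : Submodule k V) (h1 : ∀ v ∈ W, g v ∈ W)
    (h2 : ∀ v ∈ W, (g⁻¹ : V ≃ₗ[k] V) v ∈ W) (v : ↥W) :
    ((resEquiv g W h1 h2 v : ↥W) : V) = g v := rfl

/-- restriction homomorphism of a subgroup to an invariant submodule -/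
def resHom (K : Subgroup (V ≃ₗ[k] V)) (W : Submodule k V)
    (hinv : ∀ g ∈ K, ∀ v ∈ W, g v ∈ W) : ↥K →* (↥W ≃ₗ[k] ↥W) where
  toFun g := resEquiv (g : V ≃ₗ[k] V) W (hinv g g.2) (hinv _ (K.inv_mem g.2))
  map_one' := by
    ext v
    rfl
  map_mul' a b := by
    ext v
    rfl

@[simp] theorem resHom_apply (K : Subgroup (V ≃ₗ[k] V)) (W : Submodule k V)
    (hinv : ∀ g ∈ K, ∀ v ∈ W, g v ∈ W) (g : ↥K) (v : ↥W) :
    ((resHom K W hinv g v : ↥W) : V) = (g : V ≃ₗ[k] V) v := rfl

section comp

variable {K : Subgroup (V ≃ₗ[k] V)} {P : V →ₗ[k] V} {c : Set (V ≃ₗ[k] V)}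

theorem comm_P (hc : c ⊆ TV) (hKc : K = Subgroup.closure c) (hD : CompData K P) :
    ∀ g ∈ K, ∀ v, g (P v) = P (g v) := by
  have hcK : c ⊆ K := by
    rw [hKc]
    exact Subgroup.subset_closure
  intro g hg
  rw [hKc] at hg
  induction hg using Subgroup.closure_induction with
  | mem g hg =>
    obtain ⟨χ, x, h, hχ, hx, rfl⟩ := hc hg
    obtain ⟨hPx, hχP⟩ := hD.cen χ x ⟨h, hcK hg⟩ hχ hx
    intro v
    rw [tve_apply, tve_apply, hχP, map_add, map_smul, hPx]
  | one => intro v; rfl
  | mul a b _ _ iha ihb =>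
    intro v
    rw [LinearEquiv.mul_apply, LinearEquiv.mul_apply, ihb, iha]
  | inv a _ iha =>
    intro v
    apply a.injective
    rw [apply_inv_self, iha, apply_inv_self]

theorem fix_ker (hc : c ⊆ TV) (hKc : K = Subgroup.closure c) (hD : CompData K P) :
    ∀ g ∈ K, ∀ v, P v = 0 → g v = v := by
  have hcK : c ⊆ K := by
    rw [hKc]
    exact Subgroup.subset_closure
  intro g hg
  rw [hKc] at hg
  induction hg using Subgroup.closure_induction with
  | mem g hg =>
    obtain ⟨χ, x, h, hχ, hx, rfl⟩ := hc hg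
    obtain ⟨hPx, hχP⟩ := hD.cen χ x ⟨h, hcK hg⟩ hχ hx
    intro v hv
    rw [tve_apply, ← hχP, hv, map_zero, zero_smul, add_zero]
  | one => intro v _; rfl
  | mul a b _ _ iha ihb =>
    intro v hv
    rw [LinearEquiv.mul_apply, ihb v hv, iha v hv]
  | inv a _ iha =>
    intro v hv
    apply a.injective
    rw [apply_inv_self, iha v hv]

theorem range_inv (hc : c ⊆ TV) (hKc : K = Subgroup.closure c) (hD : CompData K P) :
    ∀ g ∈ K, ∀ v ∈ LinearMap.range P, g v ∈ LinearMap.range P := by
  rintro g hg _ ⟨v, rfl⟩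
  exact ⟨g v, (comm_P hc hKc hD g hg v).symm⟩

/-- the range of a hom out of a closure is the closure of the image of the generators -/
theorem range_eq_closure {G' : Type*} [Group G'] (c : Set (V ≃ₗ[k] V))
    (ρ : ↥(Subgroup.closure c) →* G') :
    ρ.range = Subgroup.closure (ρ '' (((↑) : ↥(Subgroup.closure c) → (V ≃ₗ[k] V)) ⁻¹' c)) := by
  rw [MonoidHom.range_eq_map, ← Subgroup.closure_closure_coe_preimage, MonoidHom.map_closure]

variable [FiniteDimensional k V]

/-- **`SL` case**: the image of the restriction is the special linear group of `range P`. -/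
theorem range_sl (hc : c ⊆ TV) (hKc : K = Subgroup.closure c) (hD : CompData K P)
    (hSL : ∀ (x : V) (χ : Dual k V), P x = x → (∀ v, χ (P v) = χ v) → χ x = 0 → InS K χ x) :
    ((resHom K (LinearMap.range P) (range_inv hc hKc hD)).range :
      Set (↥(LinearMap.range P) ≃ₗ[k] ↥(LinearMap.range P))) =
      {f : ↥(LinearMap.range P) ≃ₗ[k] ↥(LinearMap.range P) |
        LinearMap.det (f : ↥(LinearMap.range P) →ₗ[k] ↥(LinearMap.range P)) = 1} := by
  subst hKc
  have hcK : c ⊆ Subgroup.closure c := Subgroup.subset_closure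
  set ρ := resHom (Subgroup.closure c) (LinearMap.range P) (range_inv hc rfl hD) with hρ
  have hfixW : ∀ w : ↥(LinearMap.range P), P (w : V) = w := by
    rintro ⟨_, v, rfl⟩
    exact hD.idem v
  have h1 : ρ.range = Subgroup.closure (TvAll (k := k) (W := ↥(LinearMap.range P))) := by
    apply le_antisymm
    · rw [range_eq_closure, Subgroup.closure_le]
      rintro _ ⟨g, hg, rfl⟩
      obtain ⟨χ, x, h, hχ, hx, hgeq⟩ := hc hg
      have hS : InS (Subgroup.closure c) χ x := ⟨h, by rw [← hgeq]; exact g.2⟩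
      obtain ⟨hPx, hχP⟩ := hD.cen χ x hS hχ hx
      have hxW : x ∈ LinearMap.range P := ⟨x, hPx⟩
      apply Subgroup.subset_closure
      refine ⟨χ.comp (LinearMap.range P).subtype, ⟨x, hxW⟩,
        (show (χ.comp (LinearMap.range P).subtype) ⟨x, hxW⟩ = 0 from h), ?_⟩
      ext w
      rw [hρ, resHom_apply, hgeq]
      simp only [tve_apply, Submodule.coe_add, Submodule.coe_smul, LinearMap.comp_apply,
        Submodule.subtype_apply]
    · rw [Subgroup.closure_le]
      rintro _ ⟨ψ, y, h, rfl⟩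
      set χ : Dual k V := ψ.comp P.rangeRestrict with hχ
      have hχw : ∀ w : ↥(LinearMap.range P), χ (w : V) = ψ w := by
        intro w
        rw [hχ, LinearMap.comp_apply]
        congr 1
        ext
        exact hfixW w
      have hχP : ∀ v, χ (P v) = χ v := by
        intro v
        rw [hχ, LinearMap.comp_apply, LinearMap.comp_apply]
        congr 1
        ext
        exact hD.idem v
      have hχy : χ (y : V) = 0 := by rw [hχw, h]
      have hS : InS (Subgroup.closure c) χ (y : V) := hSL _ χ (hfixW y) hχP hχy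
      refine ⟨⟨tve χ (y : V) hχy, hS.mem⟩, ?_⟩
      ext w
      rw [resHom_apply]
      simp only [tve_apply, Submodule.coe_add, Submodule.coe_smul, hχw]
  ext f
  constructor
  · intro hf
    have hf' : f ∈ ρ.range := hf
    rw [h1] at hf'
    exact det_of_mem_closure hf'
  · intro hf
    have hf' : f ∈ ρ.range := by
      rw [h1]
      exact sl_generation f hf
    exact hf'

/-- **`Sp` case**: the image of the restriction is the isometry group of the restricted form. -/
theorem range_sp (hk : IsPrimeFld k) (hc : c ⊆ TV) (hKc : K = Subgroup.closure c)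
    (hD : CompData K P) {B : V →ₗ[k] V →ₗ[k] k} (hP : SpGood K P B)
    (hax : ∀ (χ : Dual k V) (x : V), InS K χ x → x ≠ 0 → ∃ e : k, χ = e • B x) :
    ((resHom K (LinearMap.range P) (range_inv hc hKc hD)).range :
      Set (↥(LinearMap.range P) ≃ₗ[k] ↥(LinearMap.range P))) =
      {f : ↥(LinearMap.range P) ≃ₗ[k] ↥(LinearMap.range P) |
        ∀ x y, (B.domRestrict₁₂ (LinearMap.range P) (LinearMap.range P)) (f x) (f y) =
        (B.domRestrict₁₂ (LinearMap.range P) (LinearMap.range P)) x y} := by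
  subst hKc
  set ρ := resHom (Subgroup.closure c) (LinearMap.range P) (range_inv hc rfl hD) with hρ
  set BW := B.domRestrict₁₂ (LinearMap.range P) (LinearMap.range P) with hBW
  have hBWa : ∀ x y : ↥(LinearMap.range P), BW x y = B x y := fun x y => rfl
  have hfixW : ∀ w : ↥(LinearMap.range P), P (w : V) = w := by
    rintro ⟨_, v, rfl⟩
    exact hD.idem v
  have halt : ∀ x : ↥(LinearMap.range P), BW x x = 0 := fun x => hP.alt x
  have hnd : ∀ x : ↥(LinearMap.range P), x ≠ 0 → ∃ y, BW x y ≠ 0 := by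
    intro x hx
    have hx0 : (x : V) ≠ 0 := fun h => hx (Subtype.ext h)
    obtain ⟨y, hy, hBy⟩ := hP.nondeg' (hfixW x) hx0
    exact ⟨⟨y, y, hy⟩, hBy⟩
  have h1 : ρ.range = Subgroup.closure (TvB BW) := by
    apply le_antisymm
    · rw [range_eq_closure, Subgroup.closure_le]
      rintro _ ⟨g, hg, rfl⟩
      obtain ⟨χ, x, h, hχ, hx, hgeq⟩ := hc hg
      have hS : InS (Subgroup.closure c) χ x := ⟨h, by rw [← hgeq]; exact g.2⟩
      obtain ⟨hPx, hχP⟩ := hD.cen χ x hS hχ hx
      have hxW : x ∈ LinearMap.range P := ⟨x, hPx⟩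
      obtain ⟨e, rfl⟩ := hax χ x hS hx
      apply Subgroup.subset_closure
      have h0 : (e • BW ⟨x, hxW⟩) ⟨x, hxW⟩ = 0 := by
        rw [LinearMap.smul_apply, halt, smul_zero]
      refine ⟨e, ⟨x, hxW⟩, h0, ?_⟩
      ext w
      rw [hρ, resHom_apply, hgeq]
      simp only [tve_apply, Submodule.coe_add, Submodule.coe_smul, LinearMap.smul_apply]
      rfl
    · rw [Subgroup.closure_le]
      rintro _ ⟨e, y, h, rfl⟩
      have hS : InS (Subgroup.closure c) (e • B (y : V)) (y : V) :=
        (hP.good _ (hfixW y)).smul_left hk e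
      refine ⟨⟨tve (e • B (y : V)) (y : V) hS.eval, hS.mem⟩, ?_⟩
      ext w
      rw [resHom_apply]
      simp only [tve_apply, Submodule.coe_add, Submodule.coe_smul, LinearMap.smul_apply]
      rfl
  ext f
  constructor
  · intro hf
    have hf' : f ∈ ρ.range := hf
    rw [h1] at hf'
    exact isoB_of_mem_closure halt hf'
  · intro hf
    have hf' : f ∈ ρ.range := by
      rw [h1]
      exact sp_generation halt hnd _ f hf rfl
    exact hf'

end comp

end Cfsg.Agent.Lib.helper14.McLN
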