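import Mathlib
import Cfsg.Agent.Lib.helper14.McLN
import Cfsg.Agent.Lib.Helper18.PCore

set_option autoImplicit false

/-!
# Global assembly: transvections from order and fixed hyperplane, orthogonality of components
-/

namespace Cfsg.Agent.Lib.helper14.McLO

open Module Cfsg.Agent.Lib.helper14.McLA Cfsg.Agent.Lib.helper14.McLB
  Cfsg.Agent.Lib.helper14.McLC Cfsg.Agent.Lib.helper14.McLI Cfsg.Agent.Lib.helper14.McLJ
  Cfsg.Agent.Lib.helper14.McLK Cfsg.Agent.Lib.helper14.McLN

section order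

variable {p : ℕ} [Fact p.Prime] {V : Type*} [AddCommGroup V] [Module (ZMod p) V] [Finite V]

/-- an element of order `p` fixing a hyperplane pointwise is a transvection -/
theorem mem_TV_of_order (t : V ≃ₗ[ZMod p] V) (ho : orderOf t = p)
    (hfix : finrank (ZMod p) ↥(LinearMap.ker ((t : V →ₗ[ZMod p] V) - LinearMap.id)) + 1 =
      finrank (ZMod p) V) : t ∈ TV := by
  set N : V →ₗ[ZMod p] V := (t : V →ₗ[ZMod p] V) - LinearMap.id with hN
  have hNv : ∀ v, t v = v + N v := fun v => by simp [hN]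
  have hrk : finrank (ZMod p) ↥(LinearMap.range N) = 1 := by
    have := LinearMap.finrank_range_add_finrank_ker N
    omega
  obtain ⟨w₀, hw₀, hall⟩ := finrank_eq_one_iff'.mp hrk
  set w : V := (w₀ : V) with hw
  have hw0 : w ≠ 0 := fun h => hw₀ (Subtype.ext h)
  have hNw : ∀ v, ∃ c : ZMod p, N v = c • w := by
    intro v
    obtain ⟨c, hc⟩ := hall ⟨N v, v, rfl⟩
    exact ⟨c, by rw [hw, ← Submodule.coe_smul, hc]⟩
  obtain ⟨φ₀, hφ₀⟩ : ∃ φ₀ : Dual (ZMod p) V, φ₀ w ≠ 0 := by
    by_contra hcon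
    push Not at hcon
    exact hw0 ((Module.forall_dual_apply_eq_zero_iff (ZMod p) w).mp hcon)
  set χ : Dual (ZMod p) V := (φ₀ w)⁻¹ • φ₀ with hχ
  have hχw : χ w = 1 := by
    rw [hχ, LinearMap.smul_apply, smul_eq_mul, inv_mul_cancel₀ hφ₀]
  set φ : Dual (ZMod p) V := χ.comp N with hφ
  have hNφ : ∀ v, N v = φ v • w := by
    intro v
    obtain ⟨c, hc⟩ := hNw v
    rw [hφ, LinearMap.comp_apply, hc, map_smul, hχw, smul_eq_mul, mul_one]
  have htv : ∀ v, t v = v + φ v • w := fun v => by rw [hNv, hNφ]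
  have hpow : ∀ j : ℕ, (t ^ j) w = (1 + φ w) ^ j • w := by
    intro j
    induction j with
    | zero => simp
    | succ j ih =>
      rw [pow_succ', LinearEquiv.mul_apply, ih, map_smul, htv w, pow_succ, mul_smul]
      congr 1
      rw [add_smul, one_smul]
  have hφw : φ w = 0 := by
    have htp : t ^ p = 1 := by
      have := pow_orderOf_eq_one t
      rwa [ho] at this
    have h1 := hpow p
    rw [htp] at h1
    have h2 : ((1 + φ w) ^ p - 1) • w = 0 := by
      rw [sub_smul, one_smul, ← h1]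
      simp
    rcases smul_eq_zero.mp h2 with h3 | h3
    · rw [ZMod.pow_card] at h3
      simpa using h3
    · exact absurd h3 hw0
  have hφ0 : φ ≠ 0 := by
    intro h0
    have : t = 1 := by
      ext v
      rw [htv, h0]
      simp
    rw [this, orderOf_one] at ho
    exact (Fact.out : p.Prime).one_lt.ne ho
  refine ⟨φ, w, hφw, hφ0, hw0, ?_⟩
  ext v
  rw [htv, tve_apply]

end order

section pcore

variable {k : Type*} [Field k] {V : Type*} [AddCommGroup V] [Module k V]

theorem noNP_of_pCore {p : ℕ} (H : Subgroup (V ≃ₗ[k] V)) (h : Cfsg.pCore p ↥H = ⊥) :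
    NoNP p H := by
  intro N hNH hnorm hp
  have hnormal : (N.subgroupOf H).Normal := by
    refine ⟨fun n hn g => ?_⟩
    rw [Subgroup.mem_subgroupOf] at hn ⊢
    exact hnorm g g.2 n hn
  have hp' : IsPGroup p ↥(N.subgroupOf H) :=
    hp.of_injective (Subgroup.subgroupOfEquivOfLe hNH).toMonoidHom
      (Subgroup.subgroupOfEquivOfLe hNH).injective
  have hle := Cfsg.Agent.Lib.Helper18.le_pCore hnormal hp'
  rw [h] at hle
  rw [Subgroup.eq_bot_iff_forall]
  intro n hn
  have h1 : (⟨n, hNH hn⟩ : ↥H) ∈ N.subgroupOf H := by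
    rw [Subgroup.mem_subgroupOf]
    exact hn
  have h2 := Subgroup.mem_bot.mp (hle h1)
  exact congrArg Subtype.val h2

end pcore

section orth

variable {k : Type*} [Field k] {V : Type*} [AddCommGroup V] [Module k V]
variable {H : Subgroup (V ≃ₗ[k] V)} {P : (ncGraph H).ConnectedComponent → (V →ₗ[k] V)}

/-- the projections of different components annihilate each other -/
theorem orth {p : ℕ} [Fact p.Prime] (hchar : (p : k) = 0) (hNP : NoNP p H)
    (hgen : H = Subgroup.closure (tvOf H))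
    (hD : ∀ i, CompData (compGrp H i) (P i)) {i i' : (ncGraph H).ConnectedComponent}
    (hne : i ≠ i') (v : V) : P i (P i' v) = 0 := by
  by_contra hy0
  set y : V := P i (P i' v) with hy
  have hPy : P i y = y := (hD i).idem _
  obtain ⟨χ, x, hx0, hS, hχy⟩ := (hD i).sep y hPy hy0
  have hχ0 : χ ≠ 0 := by
    rintro rfl
    simp at hχy
  obtain ⟨_, hχP⟩ := (hD i).cen χ x hS hχ0 hx0
  set u : V := P i' v with hu
  have hχu : χ u ≠ 0 := by
    rw [← hχP u]
    exact hχy
  have hu0 : u ≠ 0 := by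
    rintro h
    rw [h, map_zero] at hχu
    exact hχu rfl
  obtain ⟨_, θ, hθ0, hθS⟩ := (hD i').isCen u ((hD i').idem v) hu0
  have h1 : tve χ x hS.eval ∈ comp H i :=
    mem_comp_of_mem_compGrp hchar hNP hgen i hS.mem ⟨χ, x, hS.eval, hχ0, hx0, rfl⟩
  have h2 : tve θ u hθS.eval ∈ comp H i' :=
    mem_comp_of_mem_compGrp hchar hNP hgen i' hθS.mem ⟨θ, u, hθS.eval, hθ0, hu0, rfl⟩
  have hcomm := comm_of_ne hne h1 h2
  exact hχu (eval_eq_zero_of_comm hS.eval hθS.eval hχ0 hθ0 hx0 hu0 hcomm).1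

/-- every element of `H` commutes with every projection -/
theorem comm_all {p : ℕ} [Fact p.Prime] (hchar : (p : k) = 0) (hNP : NoNP p H)
    (hgen : H = Subgroup.closure (tvOf H))
    (hD : ∀ i, CompData (compGrp H i) (P i)) :
    ∀ h ∈ H, ∀ (i : (ncGraph H).ConnectedComponent) (v : V), h (P i v) = P i (h v) := by
  intro h hh
  rw [hgen] at hh
  induction hh using Subgroup.closure_induction with
  | mem σ hσ =>
    intro i v
    set i₀ := (ncGraph H).connectedComponentMk ⟨σ, hσ⟩ with hi₀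
    have hσc : σ ∈ comp H i₀ := ⟨⟨σ, hσ⟩, rfl, rfl⟩
    by_cases hi : i = i₀
    · subst hi
      exact comm_P (comp_sub_TV _) rfl (hD _) σ (Subgroup.subset_closure hσc) v
    · obtain ⟨χ, x, hx, hχ0, hx0, rfl⟩ := hσ.2
      have hS : InS (compGrp H i₀) χ x := ⟨hx, Subgroup.subset_closure hσc⟩
      obtain ⟨hPx, hχP⟩ := (hD i₀).cen χ x hS hχ0 hx0
      have e1 : χ (P i v) = 0 := by
        rw [← hχP, orth hchar hNP hgen hD (Ne.symm hi), map_zero]
      have e2 : P i x = 0 := by
        rw [← hPx, orth hchar hNP hgen hD hi]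
      rw [tve_apply, tve_apply, e1, zero_smul, add_zero, map_add, map_smul, e2, smul_zero,
        add_zero]
  | one => intro i v; rfl
  | mul a b _ _ iha ihb =>
    intro i v
    rw [LinearEquiv.mul_apply, LinearEquiv.mul_apply, ihb, iha]
  | inv a _ iha =>
    intro i v
    apply a.injective
    rw [apply_inv_self, iha, apply_inv_self]

end orth

end Cfsg.Agent.Lib.helper14.McLO
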