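import Mathlib
import Cfsg.Agent.Lib.helper14.McLO

set_option autoImplicit false

/-!
# McLaughlin's theorem over `𝔽_p`, `p` odd: the final assembly
-/

namespace Cfsg.Agent.Lib.helper14.McLP

open Module Cfsg.Agent.Lib.helper14.McLA Cfsg.Agent.Lib.helper14.McLB
  Cfsg.Agent.Lib.helper14.McLC Cfsg.Agent.Lib.helper14.McLF Cfsg.Agent.Lib.helper14.McLI
  Cfsg.Agent.Lib.helper14.McLJ Cfsg.Agent.Lib.helper14.McLK Cfsg.Agent.Lib.helper14.McLN
  Cfsg.Agent.Lib.helper14.McLO

section general

variable {k : Type*} [Field k] {V : Type*} [AddCommGroup V] [Module k V]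

/-- a family of submodules with a compatible family of "projections" is an internal direct sum -/
theorem isInternal_of_proj {ι : Type*} [Fintype ι] [DecidableEq ι] (W : ι → Submodule k V)
    (Q : ι → V →ₗ[k] V) (h1 : ∀ a v, Q a v ∈ W a) (h2 : ∀ a, ∀ v ∈ W a, Q a v = v)
    (h3 : ∀ a b, a ≠ b → ∀ v ∈ W b, Q a v = 0) (h4 : ∀ v, ∑ a, Q a v = v) :
    DirectSum.IsInternal W := by
  rw [DirectSum.isInternal_submodule_iff_iSupIndep_and_iSup_eq_top]
  constructor
  · rw [iSupIndep_def]
    intro a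
    rw [Submodule.disjoint_def]
    intro x hxa hx
    have hle : (⨆ j, ⨆ (_ : j ≠ a), W j) ≤ LinearMap.ker (Q a) := by
      refine iSup_le (fun b => iSup_le (fun hb => ?_))
      intro v hv
      exact LinearMap.mem_ker.mpr (h3 a b (Ne.symm hb) v hv)
    have h0 : Q a x = 0 := LinearMap.mem_ker.mp (hle hx)
    rw [← h2 a x hxa, h0]
  · rw [eq_top_iff]
    intro v _
    rw [← h4 v]
    exact Submodule.sum_mem _ (fun a _ => (le_iSup W a) (h1 a v))

variable [FiniteDimensional k V]

theorem exists_rho (hk : IsPrimeFld k) {K : Subgroup (V ≃ₗ[k] V)} {P : V →ₗ[k] V}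
    {c : Set (V ≃ₗ[k] V)} (hc : c ⊆ TV) (hKc : K = Subgroup.closure c) (hD : CompData K P)
    (W' : Submodule k V) (hW' : W' = LinearMap.range P) :
    ∃ ρ : ↥K →* (↥W' ≃ₗ[k] ↥W'),
      (∀ (h : ↥K) (v : ↥W'), ((ρ h v : ↥W') : V) = (h : V ≃ₗ[k] V) (v : V)) ∧
      ((ρ.range : Set (↥W' ≃ₗ[k] ↥W')) =
          {f : ↥W' ≃ₗ[k] ↥W' | LinearMap.det (f : ↥W' →ₗ[k] ↥W') = 1} ∨
        ∃ B : LinearMap.BilinForm k ↥W', B.IsAlt ∧ B.Nondegenerate ∧
          (ρ.range : Set (↥W' ≃ₗ[k] ↥W')) = {f : ↥W' ≃ₗ[k] ↥W' | ∀ x y, B (f x) (f y) = B x y}) := by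
  subst hW'
  refine ⟨resHom K (LinearMap.range P) (range_inv hc hKc hD), fun h v => rfl, ?_⟩
  rcases hD.type with hSL | ⟨B, hP, hax⟩
  · left
    exact range_sl hc hKc hD hSL
  · right
    have hfixW : ∀ w : ↥(LinearMap.range P), P (w : V) = w := by
      rintro ⟨_, v, rfl⟩
      exact hD.idem v
    refine ⟨B.domRestrict₁₂ (LinearMap.range P) (LinearMap.range P), ?_, ⟨?_, ?_⟩,
      range_sp hk hc hKc hD hP hax⟩
    · intro x
      exact hP.alt x
    · intro x hx
      by_contra hx0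
      have hx0' : (x : V) ≠ 0 := fun h => hx0 (Subtype.ext h)
      obtain ⟨y, hy, hBy⟩ := hP.nondeg' (hfixW x) hx0'
      exact hBy (hx ⟨y, y, hy⟩)
    · intro y hy
      by_contra hy0
      have hy0' : (y : V) ≠ 0 := fun h => hy0 (Subtype.ext h)
      obtain ⟨x, hx, hBx⟩ := hP.nondeg' (hfixW y) hy0'
      apply hBx
      rw [hP.skew]
      have := hy ⟨x, x, hx⟩
      have e : B x (y : V) = 0 := this
      rw [e, neg_zero]

end general

section final

variable {k : Type*} [Field k] {V : Type*} [AddCommGroup V] [Module k V]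

/-- the shape of the conclusion of McLaughlin's theorem -/
def Concl (H : Subgroup (V ≃ₗ[k] V)) : Prop :=
  ∃ (n : ℕ) (W : Fin (n + 1) → Submodule k V) (K : Fin n → Subgroup (V ≃ₗ[k] V)),
    1 ≤ n ∧ DirectSum.IsInternal W ∧
    (∀ h ∈ H, ∀ i, (W i).map (h : V →ₗ[k] V) = W i) ∧
    (∀ j, K j ≤ H ∧ ((K j).subgroupOf H).Normal) ∧ ⨆ j, K j = H ∧
    (∀ j, K j ⊓ (⨆ j' ∈ {j' : Fin n | j' ≠ j}, K j') = ⊥) ∧
    (∀ j j', j ≠ j' → ∀ a ∈ K j, ∀ b ∈ K j', a * b = b * a) ∧
    (∀ j, ∀ h ∈ K j, ∀ i : Fin (n + 1), i ≠ j.succ → ∀ v ∈ W i, h v = v) ∧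
    (∀ j, ∃ ρ : ↥(K j) →* (↥(W j.succ) ≃ₗ[k] ↥(W j.succ)),
      (∀ (h : ↥(K j)) (v : ↥(W j.succ)), ((ρ h v : ↥(W j.succ)) : V) = (h : V ≃ₗ[k] V) (v : V)) ∧
      ((ρ.range : Set (↥(W j.succ) ≃ₗ[k] ↥(W j.succ))) =
          {f : ↥(W j.succ) ≃ₗ[k] ↥(W j.succ) |
            LinearMap.det (f : ↥(W j.succ) →ₗ[k] ↥(W j.succ)) = 1} ∨
        ∃ B : LinearMap.BilinForm k ↥(W j.succ), B.IsAlt ∧ B.Nondegenerate ∧
          (ρ.range : Set (↥(W j.succ) ≃ₗ[k] ↥(W j.succ))) =
            {f : ↥(W j.succ) ≃ₗ[k] ↥(W j.succ) | ∀ x y, B (f x) (f y) = B x y}))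

/-- the trivial group -/
theorem concl_bot [FiniteDimensional k V] : Concl (⊥ : Subgroup (V ≃ₗ[k] V)) := by
  refine ⟨1, ![⊤, ⊥], fun _ => ⊥, le_refl 1, ?_, ?_, ?_, ?_, ?_, ?_, ?_, ?_⟩
  · refine isInternal_of_proj _ ![LinearMap.id, 0] ?_ ?_ ?_ ?_
    · intro a v
      fin_cases a
      · trivial
      · simp
    · intro a v hv
      fin_cases a
      · rfl
      · have : v = 0 := by simpa using hv
        simp [this]
    · intro a b hab v hv
      fin_cases a <;> fin_cases b
      · exact absurd rfl hab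
      · have : v = 0 := by simpa using hv
        simp [this]
      · rfl
      · exact absurd rfl hab
    · intro v
      simp [Fin.sum_univ_succ]
  · intro h hh i
    rw [Subgroup.mem_bot] at hh
    subst hh
    fin_cases i
    · simp
    · simp
  · intro j
    refine ⟨le_refl _, ?_⟩
    rw [Subgroup.bot_subgroupOf]
    infer_instance
  · simp
  · intro j
    simp
  · intro j j' hjj'
    exact absurd (Subsingleton.elim j j') hjj'
  · intro j h hh i _ v _
    rw [Subgroup.mem_bot] at hh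
    subst hh
    rfl
  · intro j
    have hj : j = 0 := Subsingleton.elim _ _
    subst hj
    have hW : (![⊤, ⊥] : Fin 2 → Submodule k V) (Fin.succ 0) = ⊥ := rfl
    have hsub : Subsingleton ↥((![⊤, ⊥] : Fin 2 → Submodule k V) (Fin.succ 0)) := by
      rw [hW]
      infer_instance
    refine ⟨1, fun h v => ?_, Or.inl ?_⟩
    · have hh : (h : V ≃ₗ[k] V) = 1 := Subgroup.mem_bot.mp h.2
      rw [hh]
      rfl
    · ext f
      have hf : f = 1 := by
        ext v
        exact congrArg Subtype.val (Subsingleton.elim _ _)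
      constructor
      · intro _
        show LinearMap.det (f : ↥((![⊤, ⊥] : Fin 2 → Submodule k V) (Fin.succ 0)) →ₗ[k]
          ↥((![⊤, ⊥] : Fin 2 → Submodule k V) (Fin.succ 0))) = 1
        rw [hf]
        exact LinearMap.det_id
      · intro _
        rw [hf]
        exact Subgroup.one_mem _

theorem concl_main {p : ℕ} [Fact p.Prime] (hk : IsPrimeFld k) (hchar : (p : k) = 0)
    (h2 : (2 : k) ≠ 0) [Finite V] (H : Subgroup (V ≃ₗ[k] V)) (hNP : NoNP p H)
    (hgen : H = Subgroup.closure (tvOf H)) : Concl H := by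
  have : Module.Finite k V := Module.Finite.of_finite
  have : Finite (V ≃ₗ[k] V) :=
    Finite.of_injective (fun e : V ≃ₗ[k] V => (e : V → V)) DFunLike.coe_injective
  have : Finite ((ncGraph H).ConnectedComponent) :=
    Finite.of_surjective (ncGraph H).connectedComponentMk (by
      intro c
      induction c using SimpleGraph.ConnectedComponent.ind with
      | _ a => exact ⟨a, rfl⟩)
  have hex : ∀ i : (ncGraph H).ConnectedComponent, ∃ P, CompData (compGrp H i) P := by
    intro i
    obtain ⟨g, hg⟩ := exists_mem_comp i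
    exact exists_compData hk h2 (conn_compGrp hk hchar hNP hgen i)
      ⟨g, Subgroup.subset_closure hg, comp_sub_TV i hg⟩
  choose P hD using hex
  by_cases hI : Nonempty ((ncGraph H).ConnectedComponent)
  swap
  · -- no transvections at all: `H = ⊥`
    have hempty : tvOf H = ∅ := by
      ext σ
      simp only [Set.mem_empty_iff_false, iff_false]
      intro hσ
      exact hI ⟨(ncGraph H).connectedComponentMk ⟨σ, hσ⟩⟩
    have hH : H = ⊥ := by
      rw [hgen, hempty, Subgroup.closure_empty]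
    rw [hH]
    exact concl_bot
  have := hI
  letI : Fintype ((ncGraph H).ConnectedComponent) := Fintype.ofFinite _
  set n := Nat.card ((ncGraph H).ConnectedComponent) with hn
  have e : (ncGraph H).ConnectedComponent ≃ Fin n := Finite.equivFin _
  have hn1 : 1 ≤ n := Finite.card_pos
  have horth : ∀ i i', i ≠ i' → ∀ v, P i (P i' v) = 0 := fun i i' hne v =>
    orth hchar hNP hgen hD hne v
  have hcomm := comm_all hchar hNP hgen hD
  have hsumP : ∀ i v, P i (∑ i', P i' v) = P i v := by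
    intro i v
    rw [map_sum, Finset.sum_eq_single i]
    · exact (hD i).idem v
    · intro i' _ hne
      exact horth i i' (Ne.symm hne) v
    · intro h
      exact absurd (Finset.mem_univ i) h
  set W₀ : Submodule k V := ⨅ i, LinearMap.ker (P i) with hW₀
  have hmemW₀ : ∀ v, v ∈ W₀ ↔ ∀ i, P i v = 0 := by
    intro v
    rw [hW₀, Submodule.mem_iInf]
    simp only [LinearMap.mem_ker]
  set W : Fin (n + 1) → Submodule k V :=
    fun a => Fin.cases W₀ (fun j => LinearMap.range (P (e.symm j))) a with hW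
  set K : Fin n → Subgroup (V ≃ₗ[k] V) := fun j => compGrp H (e.symm j) with hK
  set Q : Fin (n + 1) → V →ₗ[k] V :=
    fun a => Fin.cases (LinearMap.id - ∑ i, P i) (fun j => P (e.symm j)) a with hQ
  have hW0 : W 0 = W₀ := rfl
  have hWs : ∀ j, W j.succ = LinearMap.range (P (e.symm j)) := fun j => rfl
  have hQ0 : ∀ v, Q 0 v = v - ∑ i, P i v := by
    intro v
    show ((LinearMap.id : V →ₗ[k] V) - ∑ i, P i) v = _
    simp
  have hQs : ∀ j v, Q j.succ v = P (e.symm j) v := fun j v => rfl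
  have hesymm : ∀ j j' : Fin n, j ≠ j' → e.symm j ≠ e.symm j' := fun j j' h h' =>
    h (e.symm.injective h')
  -- the projections
  have h1 : ∀ a v, Q a v ∈ W a := by
    intro a v
    refine Fin.cases ?_ (fun j => ?_) a
    · rw [hW0, hmemW₀, hQ0]
      intro i
      rw [map_sub, hsumP, sub_self]
    · rw [hWs, hQs]
      exact ⟨v, rfl⟩
  have h2' : ∀ a, ∀ v ∈ W a, Q a v = v := by
    intro a
    refine Fin.cases ?_ (fun j => ?_) a
    · intro v hv
      rw [hW0, hmemW₀] at hv
      rw [hQ0]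
      simp [hv]
    · rintro _ ⟨v, rfl⟩
      rw [hQs]
      exact (hD _).idem v
  have h3 : ∀ a b, a ≠ b → ∀ v ∈ W b, Q a v = 0 := by
    intro a b
    refine Fin.cases ?_ (fun j => ?_) a
    · refine Fin.cases ?_ (fun j' => ?_) b
      · intro h
        exact absurd rfl h
      · rintro _ _ ⟨v, rfl⟩
        rw [hQ0, Finset.sum_eq_single (e.symm j')]
        · rw [(hD _).idem, sub_self]
        · intro i' _ hne
          exact horth i' _ hne v
        · intro h
          exact absurd (Finset.mem_univ _) h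
    · refine Fin.cases ?_ (fun j' => ?_) b
      · intro _ v hv
        rw [hW0, hmemW₀] at hv
        rw [hQs]
        exact hv _
      · rintro hne _ ⟨v, rfl⟩
        rw [hQs]
        refine horth _ _ (hesymm j j' ?_) v
        intro h
        exact hne (by rw [h])
  have h4 : ∀ v, ∑ a, Q a v = v := by
    intro v
    rw [Fin.sum_univ_succ, hQ0]
    have : ∑ j : Fin n, Q j.succ v = ∑ i, P i v := by
      simp only [hQs]
      exact Equiv.sum_comp e.symm (fun i => P i v)
    rw [this]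
    abel
  -- elements of `K j` fix `W a` pointwise for `a ≠ j.succ`
  have hfixK : ∀ j, ∀ h ∈ K j, ∀ a : Fin (n + 1), a ≠ j.succ → ∀ v ∈ W a, h v = v := by
    intro j h hh a
    refine Fin.cases ?_ (fun j' => ?_) a
    · intro _ v hv
      rw [hW0, hmemW₀] at hv
      exact fix_ker (comp_sub_TV _) rfl (hD _) h hh v (hv _)
    · rintro hne _ ⟨v, rfl⟩
      refine fix_ker (comp_sub_TV _) rfl (hD _) h hh _ (horth _ _ (hesymm j j' ?_) v)
      intro h'
      exact hne (by rw [h'])
  -- invariance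
  have hinvH : ∀ h ∈ H, ∀ a, ∀ v ∈ W a, h v ∈ W a := by
    intro h hh a
    refine Fin.cases ?_ (fun j => ?_) a
    · intro v hv
      rw [hW0, hmemW₀] at hv ⊢
      intro i
      rw [← hcomm h hh, hv i, map_zero]
    · rintro _ ⟨v, rfl⟩
      rw [hWs]
      exact ⟨h v, (hcomm h hh _ v).symm⟩
  refine ⟨n, W, K, hn1, isInternal_of_proj W Q h1 h2' h3 h4, ?_, ?_, ?_, ?_, ?_, hfixK, ?_⟩
  · intro h hh a
    ext x
    rw [Submodule.mem_map]
    constructor
    · rintro ⟨v, hv, rfl⟩
      exact hinvH h hh a v hv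
    · intro hx
      refine ⟨(h⁻¹ : V ≃ₗ[k] V) x, hinvH _ (H.inv_mem hh) a x hx, ?_⟩
      exact apply_inv_self h x
  · intro j
    refine ⟨compGrp_le _, ⟨fun x hx g => ?_⟩⟩
    rw [Subgroup.mem_subgroupOf] at hx ⊢
    exact compGrp_normal hgen _ g g.2 x hx
  · have : ⨆ j, K j = ⨆ i, compGrp H i := Equiv.iSup_comp (g := fun i => compGrp H i) e.symm
    rw [this]
    exact iSup_compGrp hgen
  · intro j
    rw [Subgroup.eq_bot_iff_forall]
    intro g hg
    obtain ⟨hg1, hg2⟩ := Subgroup.mem_inf.mp hg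
    -- `g` fixes `W j.succ` pointwise
    let S : Subgroup (V ≃ₗ[k] V) :=
      { carrier := {g | ∀ v ∈ W j.succ, g v = v}
        one_mem' := fun v _ => rfl
        mul_mem' := by
          intro a b ha hb v hv
          rw [LinearEquiv.mul_apply, hb v hv, ha v hv]
        inv_mem' := by
          intro a ha v hv
          apply a.injective
          rw [apply_inv_self, ha v hv] }
    have hle : (⨆ j' ∈ {j' : Fin n | j' ≠ j}, K j') ≤ S := by
      refine iSup₂_le (fun j' hj' => ?_)
      intro h hh v hv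
      refine hfixK j' h hh j.succ ?_ v hv
      intro h'
      exact hj' (Fin.succ_injective _ h').symm
    have hgS : ∀ v ∈ W j.succ, g v = v := hle hg2
    ext v
    rw [← h4 v, map_sum]
    refine Finset.sum_congr rfl (fun a _ => ?_)
    by_cases ha : a = j.succ
    · subst ha
      exact hgS _ (h1 _ v)
    · exact hfixK j g hg1 a ha _ (h1 a v)
  · intro j j' hjj' a ha b hb
    exact compGrp_comm (hesymm j j' hjj') ha hb
  · intro j
    exact exists_rho hk (comp_sub_TV (e.symm j)) rfl (hD (e.symm j)) (W j.succ) (hWs j)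

end final

end Cfsg.Agent.Lib.helper14.McLP
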