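import Mathlib
import Cfsg.Agent.Lib.helper14.OmegaInv

set_option autoImplicit false

/-! Nonsingular points of a quadratic form `Q` (with polar form `B`) over a finite field of
characteristic two: they correspond to the vectors with `Q v = 1`; an isometry fixing a nonsingular
point fixes its vectors; elements of odd order lie in `Ω`. -/

namespace Cfsg.Agent.Lib.helper14.NSPoints

open Cfsg.Agent.Lib.Lead.OG Cfsg.Agent.Lib.helper14.OrthInv Cfsg.Agent.Lib.helper14.OmegaInv
  Cfsg.Agent.Lib.Helper16 Matrix Module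

section Gen

variable {F : Type*} [Field F] [Fintype F] [CharP F 2] {ι : Type} [Fintype ι] [DecidableEq ι]
  {Q : (ι → F) → F} {B : LinearMap.BilinForm F (ι → F)}

theorem sq_eq_one (c : F) (h : c * c = 1) : c = 1 := by
  have h1 : (c + 1) * (c + 1) = 0 := by
    have h2 : c + c = 0 := CharTwo.add_self_eq_zero c
    linear_combination h + h2 + (CharTwo.two_eq_zero : (2 : F) = 0)
  have := mul_self_eq_zero.mp h1
  have h3 : c = -1 := eq_neg_of_add_eq_zero_left this
  rw [h3, CharTwo.neg_eq]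

/-- a subspace of dimension one containing a nonzero vector is its span -/
theorem eq_span_of_finrank_one (W : Submodule F (ι → F)) (hW : finrank F W = 1) (w : ι → F)
    (hw : w ∈ W) (hw0 : w ≠ 0) : W = Submodule.span F {w} := by
  symm
  apply Submodule.eq_of_le_of_finrank_eq
  · rw [Submodule.span_singleton_le_iff_mem]; exact hw
  · rw [finrank_span_singleton hw0, hW]

theorem ne_zero_of_Q (hQ : IsQP Q B) {v : ι → F} (hv : Q v ≠ 0) : v ≠ 0 := by
  rintro rfl
  exact hv hQ.zero

/-- a scalar with `Q(c v) = Q v` for a nonsingular `v` is one -/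
theorem scalar_eq_one (hQ : IsQP Q B) (c : F) (v : ι → F) (hv : Q v ≠ 0)
    (h : Q (c • v) = Q v) : c = 1 := by
  rw [hQ.smul] at h
  apply sq_eq_one
  exact mul_right_cancel₀ hv (h.trans (one_mul _).symm)

/-- nonsingular points correspond to vectors of norm one -/
theorem card_points (hQ : IsQP Q B) :
    Nat.card {W : Submodule F (ι → F) // finrank F ↥W = 1 ∧ ∃ v ∈ W, Q v ≠ 0} =
      Nat.card {v : ι → F // Q v = 1} := by
  classical
  symm
  apply Nat.card_congr
  refine Equiv.ofBijective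
    (fun v : {v : ι → F // Q v = 1} =>
      (⟨Submodule.span F {v.1}, by
        have hv0 : v.1 ≠ 0 := ne_zero_of_Q hQ (by rw [v.2]; exact one_ne_zero)
        exact ⟨finrank_span_singleton hv0, v.1, Submodule.mem_span_singleton_self _,
          by rw [v.2]; exact one_ne_zero⟩⟩ :
        {W : Submodule F (ι → F) // finrank F ↥W = 1 ∧ ∃ v ∈ W, Q v ≠ 0})) ⟨?_, ?_⟩
  · rintro ⟨v, hv⟩ ⟨v', hv'⟩ h
    have h1 : Submodule.span F {v} = Submodule.span F {v'} := congrArg Subtype.val h
    have h2 : v' ∈ Submodule.span F {v} := by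
      rw [h1]; exact Submodule.mem_span_singleton_self _
    obtain ⟨c, hc⟩ := Submodule.mem_span_singleton.mp h2
    apply Subtype.ext
    show v = v'
    have h3 : c * c = 1 := by
      have := hv'
      rw [← hc, hQ.smul, hv, mul_one] at this
      exact this
    rw [← hc, sq_eq_one c h3, one_smul]
  · rintro ⟨W, hW, w, hwW, hw⟩
    have hw0 := ne_zero_of_Q hQ hw
    obtain ⟨s, hs⟩ := C2.exists_sqrt (Q w)⁻¹
    refine ⟨⟨s • w, by rw [hQ.smul, hs, inv_mul_cancel₀ hw]⟩, ?_⟩
    apply Subtype.ext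
    show Submodule.span F {s • w} = W
    have hs0 : s ≠ 0 := by
      rintro rfl
      rw [mul_zero] at hs
      exact inv_ne_zero hw hs.symm
    rw [eq_span_of_finrank_one W hW w hwW hw0]
    exact Submodule.span_singleton_smul_eq (IsUnit.mk0 s hs0) w

theorem fixed_vec_of_fixed_point (hQ : IsQP Q B) (t : ↥(Cfsg.isometryGroup F Q))
    (W : Submodule F (ι → F)) (hW : finrank F W = 1) (w : ι → F)
    (hw : w ∈ W) (hQw : Q w ≠ 0)
    (hfix : W.map (Matrix.toLin' (mat t)) ≤ W) : mat t *ᵥ w = w := by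
  have hw0 := ne_zero_of_Q hQ hQw
  have hWs := eq_span_of_finrank_one W hW w hw hw0
  have h1 : mat t *ᵥ w ∈ W := hfix ⟨w, hw, by rw [Matrix.toLin'_apply]⟩
  rw [hWs] at h1
  obtain ⟨c, hc⟩ := Submodule.mem_span_singleton.mp h1
  have hc1 : c = 1 := scalar_eq_one hQ c w hQw (by rw [hc]; exact mat_Q t w)
  rw [← hc, hc1, one_smul]

theorem fixed_point_of_fixed_vec (hQ : IsQP Q B) (M : Matrix ι ι F) (v : ι → F) (hv : Q v ≠ 0)
    (hfix : M *ᵥ v = v) :
    ∃ W : Submodule F (ι → F), (finrank F ↥W = 1 ∧ ∃ v ∈ W, Q v ≠ 0) ∧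
      W.map (Matrix.toLin' M) ≤ W := by
  refine ⟨Submodule.span F {v}, ⟨finrank_span_singleton (ne_zero_of_Q hQ hv), v,
    Submodule.mem_span_singleton_self _, hv⟩, ?_⟩
  rw [Submodule.map_span_le]
  intro m hm
  rw [Set.mem_singleton_iff] at hm
  rw [hm, Matrix.toLin'_apply, hfix]
  exact Submodule.mem_span_singleton_self _

/-- a nontrivial isometry is not a scalar, given a nonsingular vector -/
theorem not_scalar (hQ : IsQP Q B) (v₀ : ι → F) (hv₀ : Q v₀ ≠ 0) (t : ↥(Cfsg.isometryGroup F Q))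
    (ht1 : mat t ≠ 1) (z : F) : mat t ≠ z • (1 : Matrix ι ι F) := by
  intro h
  have h1 : z = 1 := by
    apply scalar_eq_one hQ z v₀ hv₀
    have := mat_Q t v₀
    rw [h, Matrix.smul_mulVec, Matrix.one_mulVec] at this
    exact this
  rw [h1, one_smul] at h
  exact ht1 h

/-- an isometry with scalar square has square one -/
theorem sq_of_scalar_sq (hQ : IsQP Q B) (v₀ : ι → F) (hv₀ : Q v₀ ≠ 0)
    (t : ↥(Cfsg.isometryGroup F Q)) (z : F) (hz : mat t * mat t = z • (1 : Matrix ι ι F)) :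
    mat t * mat t = 1 := by
  have hz1 : z = 1 := by
    apply scalar_eq_one hQ z v₀ hv₀
    have h1 := mat_Q t (mat t *ᵥ v₀)
    rw [Matrix.mulVec_mulVec, hz, Matrix.smul_mulVec, Matrix.one_mulVec, mat_Q t v₀] at h1
    exact h1
  rw [hz1, one_smul] at hz
  exact hz

end Gen

section Odd

variable {F : Type*} [Field F] [Fintype F] [CharP F 2] {ι : Type} [Fintype ι] [DecidableEq ι]
  {Q : QuadraticForm F (ι → F)} {hQ : (QuadraticMap.polarBilin Q).Nondegenerate}

/-- elements of odd order lie in `Ω` -/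
theorem mem_omega_of_odd (hk : KerHyp Q hQ) (t : ↥(Cfsg.isometryGroup F ⇑Q)) (r : ℕ)
    (hr : Odd r) (htr : t ^ r = 1) : t ∈ Cfsg.Omega F ⇑Q := by
  rw [← hk t]
  have h1 : (C2.dickson Q hQ t) ^ r = 1 := by
    rw [← map_pow, htr, map_one]
  rcases Int.units_eq_one_or (C2.dickson Q hQ t) with h | h
  · exact h
  · exfalso
    rw [h, Odd.neg_one_pow hr] at h1
    exact absurd h1 (by decide)

theorem pow_eq_one_of_mat (t : ↥(Cfsg.isometryGroup F ⇑Q)) (r : ℕ) (h : mat t ^ r = 1) :
    t ^ r = 1 := by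
  apply mat_injective
  show ((t ^ r : ↥(Cfsg.isometryGroup F ⇑Q)) : GL ι F).val = 1
  rw [Subgroup.coe_pow, Units.val_pow_eq_pow_val]
  exact h

end Odd

end Cfsg.Agent.Lib.helper14.NSPoints
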