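import Mathlib

/-!
# Counting nilpotent matrices over a finite field (Fine–Herstein)

Block-diagonal rigidity: a matrix intertwining two block-diagonal matrices `N ⊕ B`, `N' ⊕ B'`
with `N, N'` nilpotent and `B, B'` invertible is block-diagonal.
-/

set_option autoImplicit false

namespace Cfsg.Agent.Lib.helper14.NilCount

open Matrix

section Rigid

variable {F : Type*} [Field F]
variable {κ μ : Type*} [Fintype κ] [Fintype μ] [DecidableEq κ] [DecidableEq μ]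

/-- an intertwiner `Q B = N Q` with `N` nilpotent and `B` invertible vanishes -/
theorem eq_zero_of_intertwine_right (N : Matrix κ κ F) (B : Matrix μ μ F) (Q : Matrix κ μ F)
    (hN : IsNilpotent N) (hB : IsUnit B) (h : Q * B = N * Q) : Q = 0 := by
  obtain ⟨j, hj⟩ := hN
  have hpow : ∀ i : ℕ, Q * B ^ i = N ^ i * Q := by
    intro i
    induction i with
    | zero => simp
    | succ i ih =>
      rw [pow_succ, ← Matrix.mul_assoc, ih, Matrix.mul_assoc, h, ← Matrix.mul_assoc, ← pow_succ]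
  have h1 := hpow j
  rw [hj, Matrix.zero_mul] at h1
  obtain ⟨u, hu⟩ := (hB.pow j)
  have : Q = Q * B ^ j * (↑u⁻¹ : Matrix μ μ F) := by
    rw [Matrix.mul_assoc, ← hu, Units.mul_inv, Matrix.mul_one]
  rw [this, h1, Matrix.zero_mul]

/-- an intertwiner `R N = B R` with `N` nilpotent and `B` invertible vanishes -/
theorem eq_zero_of_intertwine_left (N : Matrix κ κ F) (B : Matrix μ μ F) (R : Matrix μ κ F)
    (hN : IsNilpotent N) (hB : IsUnit B) (h : R * N = B * R) : R = 0 := by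
  obtain ⟨j, hj⟩ := hN
  have hpow : ∀ i : ℕ, R * N ^ i = B ^ i * R := by
    intro i
    induction i with
    | zero => simp
    | succ i ih =>
      rw [pow_succ, ← Matrix.mul_assoc, ih, Matrix.mul_assoc, h, ← Matrix.mul_assoc, ← pow_succ]
  have h1 := hpow j
  rw [hj, Matrix.mul_zero] at h1
  obtain ⟨u, hu⟩ := (hB.pow j)
  have : R = (↑u⁻¹ : Matrix μ μ F) * (B ^ j * R) := by
    rw [← Matrix.mul_assoc, ← hu, Units.inv_mul, Matrix.one_mul]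
  rw [this, ← h1, Matrix.mul_zero]

/-- block-diagonal rigidity -/
theorem rigid (N N' : Matrix κ κ F) (B B' : Matrix μ μ F) (hN : IsNilpotent N)
    (hN' : IsNilpotent N') (hB : IsUnit B) (hB' : IsUnit B')
    (g : Matrix (κ ⊕ μ) (κ ⊕ μ) F)
    (h : g * fromBlocks N 0 0 B = fromBlocks N' 0 0 B' * g) :
    g.toBlocks₁₂ = 0 ∧ g.toBlocks₂₁ = 0 ∧ g.toBlocks₁₁ * N = N' * g.toBlocks₁₁ ∧
      g.toBlocks₂₂ * B = B' * g.toBlocks₂₂ := by
  rw [← fromBlocks_toBlocks g, fromBlocks_multiply, fromBlocks_multiply] at h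
  simp only [Matrix.mul_zero, Matrix.zero_mul, add_zero, zero_add] at h
  rw [fromBlocks_inj] at h
  obtain ⟨h11, h12, h21, h22⟩ := h
  exact ⟨eq_zero_of_intertwine_right N' B _ hN' hB h12,
    eq_zero_of_intertwine_left N B' _ hN hB' h21, h11, h22⟩

end Rigid

section Count

variable {F : Type*} [Field F]
variable {κ μ : Type*} [Fintype κ] [Fintype μ] [DecidableEq κ] [DecidableEq μ]

/-- the block-diagonal embedding of `GL κ × GL μ` -/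
def bd : GL κ F × GL μ F →* GL (κ ⊕ μ) F where
  toFun x := ⟨fromBlocks (x.1 : Matrix κ κ F) 0 0 (x.2 : Matrix μ μ F),
    fromBlocks ((x.1⁻¹ : GL κ F) : Matrix κ κ F) 0 0 ((x.2⁻¹ : GL μ F) : Matrix μ μ F),
    by
      rw [fromBlocks_multiply]
      simp only [Matrix.mul_zero, Matrix.zero_mul, add_zero, zero_add]
      rw [← Units.val_mul, ← Units.val_mul, mul_inv_cancel, mul_inv_cancel]
      simp,
    by
      rw [fromBlocks_multiply]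
      simp only [Matrix.mul_zero, Matrix.zero_mul, add_zero, zero_add]
      rw [← Units.val_mul, ← Units.val_mul, inv_mul_cancel, inv_mul_cancel]
      simp⟩
  map_one' := by
    apply Units.ext
    simp
  map_mul' x y := by
    apply Units.ext
    show fromBlocks ((x * y).1 : Matrix κ κ F) 0 0 ((x * y).2 : Matrix μ μ F) =
      fromBlocks (x.1 : Matrix κ κ F) 0 0 (x.2 : Matrix μ μ F) *
        fromBlocks (y.1 : Matrix κ κ F) 0 0 (y.2 : Matrix μ μ F)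
    rw [fromBlocks_multiply]
    simp

theorem bd_coe (x : GL κ F × GL μ F) :
    ((bd x : GL (κ ⊕ μ) F) : Matrix (κ ⊕ μ) (κ ⊕ μ) F) =
      fromBlocks (x.1 : Matrix κ κ F) 0 0 (x.2 : Matrix μ μ F) := rfl

theorem bd_injective : Function.Injective (bd (F := F) (κ := κ) (μ := μ)) := by
  intro x y h
  have h' := congrArg (fun g : GL (κ ⊕ μ) F => (g : Matrix (κ ⊕ μ) (κ ⊕ μ) F)) h
  simp only [bd_coe] at h'
  rw [fromBlocks_inj] at h'
  exact Prod.ext (Units.ext h'.1) (Units.ext h'.2.2.2)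

/-- the block-diagonal matrices `N ⊕ B` with `N` nilpotent and `B` invertible -/
def DSet (F : Type*) [Field F] (κ μ : Type*) [Fintype κ] [Fintype μ] [DecidableEq κ]
    [DecidableEq μ] : Set (Matrix (κ ⊕ μ) (κ ⊕ μ) F) :=
  {d | ∃ (N : Matrix κ κ F) (B : Matrix μ μ F), IsNilpotent N ∧ IsUnit B ∧ d = fromBlocks N 0 0 B}

/-- conjugates of the block-diagonal matrices -/
def XSet (F : Type*) [Field F] (κ μ : Type*) [Fintype κ] [Fintype μ] [DecidableEq κ]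
    [DecidableEq μ] : Set (Matrix (κ ⊕ μ) (κ ⊕ μ) F) :=
  {A | ∃ g : GL (κ ⊕ μ) F, ((g⁻¹ : GL (κ ⊕ μ) F) : Matrix (κ ⊕ μ) (κ ⊕ μ) F) * A *
    (g : Matrix (κ ⊕ μ) (κ ⊕ μ) F) ∈ DSet F κ μ}

/-- the number of block-diagonal matrices -/
theorem card_DSet [Finite F] :
    Nat.card (DSet F κ μ) = Nat.card {N : Matrix κ κ F // IsNilpotent N} * Nat.card (GL μ F) := by
  rw [← Nat.card_prod]
  symm
  apply Nat.card_congr
  refine Equiv.ofBijective (fun x => ⟨fromBlocks x.1.1 0 0 (x.2 : Matrix μ μ F),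
    x.1.1, x.2, x.1.2, x.2.isUnit, rfl⟩) ⟨?_, ?_⟩
  · intro x y h
    have h' := congrArg Subtype.val h
    simp only at h'
    rw [fromBlocks_inj] at h'
    exact Prod.ext (Subtype.ext h'.1) (Units.ext h'.2.2.2)
  · rintro ⟨d, N, B, hN, hB, rfl⟩
    obtain ⟨u, hu⟩ := hB
    exact ⟨(⟨N, hN⟩, u), by simp [hu]⟩

/-- conjugating a block-diagonal matrix by a block-diagonal invertible matrix -/
theorem conj_bd_mem_DSet (x : GL κ F × GL μ F) (d : Matrix (κ ⊕ μ) (κ ⊕ μ) F)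
    (hd : d ∈ DSet F κ μ) :
    (((bd x)⁻¹ : GL (κ ⊕ μ) F) : Matrix (κ ⊕ μ) (κ ⊕ μ) F) * d *
      ((bd x : GL (κ ⊕ μ) F) : Matrix (κ ⊕ μ) (κ ⊕ μ) F) ∈ DSet F κ μ := by
  obtain ⟨N, B, hN, hB, rfl⟩ := hd
  rw [← map_inv, bd_coe, bd_coe, fromBlocks_multiply, fromBlocks_multiply]
  simp only [Matrix.mul_zero, Matrix.zero_mul, add_zero, zero_add]
  refine ⟨_, _, ?_, ?_, rfl⟩
  · obtain ⟨j, hj⟩ := hN
    refine ⟨j, ?_⟩
    have := Units.conj_pow (x⁻¹).1 N j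
    have e : ((x⁻¹).1)⁻¹ = x.1 := by rw [Prod.fst_inv, inv_inv]
    rw [e] at this
    rw [this, hj, Matrix.mul_zero, Matrix.zero_mul]
  · simp only [Prod.snd_inv]
    exact ((x.2⁻¹).isUnit.mul hB).mul x.2.isUnit

/-- a matrix conjugating a block-diagonal matrix to a block-diagonal matrix is block-diagonal -/
theorem exists_bd_eq (h : GL (κ ⊕ μ) F) (d₀ : Matrix (κ ⊕ μ) (κ ⊕ μ) F)
    (hd₀ : d₀ ∈ DSet F κ μ)
    (hd : ((h⁻¹ : GL (κ ⊕ μ) F) : Matrix (κ ⊕ μ) (κ ⊕ μ) F) * d₀ *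
      (h : Matrix (κ ⊕ μ) (κ ⊕ μ) F) ∈ DSet F κ μ) :
    ∃ x : GL κ F × GL μ F, bd x = h := by
  obtain ⟨N₀, B₀, hN₀, hB₀, rfl⟩ := hd₀
  obtain ⟨N, B, hN, hB, hd⟩ := hd
  have hcomm : (h : Matrix (κ ⊕ μ) (κ ⊕ μ) F) * fromBlocks N 0 0 B =
      fromBlocks N₀ 0 0 B₀ * (h : Matrix (κ ⊕ μ) (κ ⊕ μ) F) := by
    rw [← hd, ← Matrix.mul_assoc, ← Matrix.mul_assoc, ← Units.val_mul, mul_inv_cancel]
    simp
  obtain ⟨h12, h21, -, -⟩ := rigid N N₀ B B₀ hN hN₀ hB hB₀ _ hcomm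
  have hform : (h : Matrix (κ ⊕ μ) (κ ⊕ μ) F) =
      fromBlocks (h : Matrix (κ ⊕ μ) (κ ⊕ μ) F).toBlocks₁₁ 0 0
        (h : Matrix (κ ⊕ μ) (κ ⊕ μ) F).toBlocks₂₂ := by
    conv_lhs => rw [← fromBlocks_toBlocks (h : Matrix (κ ⊕ μ) (κ ⊕ μ) F), h12, h21]
  have hdet : (h : Matrix (κ ⊕ μ) (κ ⊕ μ) F).det ≠ 0 := by
    have := (Matrix.isUnit_iff_isUnit_det _).mp h.isUnit
    exact this.ne_zero
  rw [hform, det_fromBlocks_zero₂₁] at hdet
  have h1 : (h : Matrix (κ ⊕ μ) (κ ⊕ μ) F).toBlocks₁₁.det ≠ 0 := left_ne_zero_of_mul hdet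
  have h2 : (h : Matrix (κ ⊕ μ) (κ ⊕ μ) F).toBlocks₂₂.det ≠ 0 := right_ne_zero_of_mul hdet
  refine ⟨(Matrix.GeneralLinearGroup.mkOfDetNeZero _ h1,
    Matrix.GeneralLinearGroup.mkOfDetNeZero _ h2), ?_⟩
  apply Units.ext
  rw [bd_coe]
  exact hform.symm

/-- the double counting identity for the conjugates of the block-diagonal matrices -/
theorem card_XSet_mul [Finite F] :
    Nat.card (XSet F κ μ) * (Nat.card (GL κ F) * Nat.card (GL μ F)) =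
      Nat.card (GL (κ ⊕ μ) F) * Nat.card (DSet F κ μ) := by
  classical
  haveI : Fintype F := Fintype.ofFinite F
  haveI : Fintype (XSet F κ μ) := Fintype.ofFinite _
  -- the incidence set
  have e1 : {x : Matrix (κ ⊕ μ) (κ ⊕ μ) F × GL (κ ⊕ μ) F //
      ((x.2⁻¹ : GL (κ ⊕ μ) F) : Matrix (κ ⊕ μ) (κ ⊕ μ) F) * x.1 *
        (x.2 : Matrix (κ ⊕ μ) (κ ⊕ μ) F) ∈ DSet F κ μ} ≃ GL (κ ⊕ μ) F × DSet F κ μ :=
    { toFun := fun x => (x.1.2, ⟨_, x.2⟩)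
      invFun := fun y => ⟨((y.1 : Matrix (κ ⊕ μ) (κ ⊕ μ) F) * y.2.1 *
          ((y.1⁻¹ : GL (κ ⊕ μ) F) : Matrix (κ ⊕ μ) (κ ⊕ μ) F), y.1), by
        show ((y.1⁻¹ : GL (κ ⊕ μ) F) : Matrix (κ ⊕ μ) (κ ⊕ μ) F) *
          ((y.1 : Matrix (κ ⊕ μ) (κ ⊕ μ) F) * y.2.1 *
            ((y.1⁻¹ : GL (κ ⊕ μ) F) : Matrix (κ ⊕ μ) (κ ⊕ μ) F)) *
          (y.1 : Matrix (κ ⊕ μ) (κ ⊕ μ) F) ∈ DSet F κ μ
        have : ((y.1⁻¹ : GL (κ ⊕ μ) F) : Matrix (κ ⊕ μ) (κ ⊕ μ) F) *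
          ((y.1 : Matrix (κ ⊕ μ) (κ ⊕ μ) F) * y.2.1 *
            ((y.1⁻¹ : GL (κ ⊕ μ) F) : Matrix (κ ⊕ μ) (κ ⊕ μ) F)) *
          (y.1 : Matrix (κ ⊕ μ) (κ ⊕ μ) F) = y.2.1 := by
          rw [Matrix.mul_assoc, Matrix.mul_assoc, ← Units.val_mul, inv_mul_cancel, Units.val_one,
            Matrix.mul_one, ← Matrix.mul_assoc, ← Units.val_mul, inv_mul_cancel, Units.val_one,
            Matrix.one_mul]
        rw [this]
        exact y.2.2⟩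
      left_inv := by
        rintro ⟨⟨A, g⟩, hx⟩
        apply Subtype.ext
        apply Prod.ext
        · show (g : Matrix (κ ⊕ μ) (κ ⊕ μ) F) *
            (((g⁻¹ : GL (κ ⊕ μ) F) : Matrix (κ ⊕ μ) (κ ⊕ μ) F) * A *
              (g : Matrix (κ ⊕ μ) (κ ⊕ μ) F)) *
            ((g⁻¹ : GL (κ ⊕ μ) F) : Matrix (κ ⊕ μ) (κ ⊕ μ) F) = A
          rw [Matrix.mul_assoc, Matrix.mul_assoc, ← Units.val_mul, mul_inv_cancel, Units.val_one,
            Matrix.mul_one, ← Matrix.mul_assoc, ← Units.val_mul, mul_inv_cancel, Units.val_one,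
            Matrix.one_mul]
        · rfl
      right_inv := by
        rintro ⟨g, ⟨d, hd⟩⟩
        apply Prod.ext
        · rfl
        · apply Subtype.ext
          show ((g⁻¹ : GL (κ ⊕ μ) F) : Matrix (κ ⊕ μ) (κ ⊕ μ) F) *
            ((g : Matrix (κ ⊕ μ) (κ ⊕ μ) F) * d *
              ((g⁻¹ : GL (κ ⊕ μ) F) : Matrix (κ ⊕ μ) (κ ⊕ μ) F)) *
            (g : Matrix (κ ⊕ μ) (κ ⊕ μ) F) = d
          rw [Matrix.mul_assoc, Matrix.mul_assoc, ← Units.val_mul, inv_mul_cancel, Units.val_one,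
            Matrix.mul_one, ← Matrix.mul_assoc, ← Units.val_mul, inv_mul_cancel, Units.val_one,
            Matrix.one_mul] }
  have e2 : {x : Matrix (κ ⊕ μ) (κ ⊕ μ) F × GL (κ ⊕ μ) F //
      ((x.2⁻¹ : GL (κ ⊕ μ) F) : Matrix (κ ⊕ μ) (κ ⊕ μ) F) * x.1 *
        (x.2 : Matrix (κ ⊕ μ) (κ ⊕ μ) F) ∈ DSet F κ μ} ≃
      Σ A : XSet F κ μ, {g : GL (κ ⊕ μ) F //
        ((g⁻¹ : GL (κ ⊕ μ) F) : Matrix (κ ⊕ μ) (κ ⊕ μ) F) * A.1 *
          (g : Matrix (κ ⊕ μ) (κ ⊕ μ) F) ∈ DSet F κ μ} :=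
    { toFun := fun x => ⟨⟨x.1.1, x.1.2, x.2⟩, ⟨x.1.2, x.2⟩⟩
      invFun := fun y => ⟨(y.1.1, y.2.1), y.2.2⟩
      left_inv := fun x => rfl
      right_inv := fun y => rfl }
  have e3 : ∀ A : XSet F κ μ, Nat.card {g : GL (κ ⊕ μ) F //
      ((g⁻¹ : GL (κ ⊕ μ) F) : Matrix (κ ⊕ μ) (κ ⊕ μ) F) * A.1 *
        (g : Matrix (κ ⊕ μ) (κ ⊕ μ) F) ∈ DSet F κ μ} = Nat.card (GL κ F) * Nat.card (GL μ F) := by
    rintro ⟨A, g₀, hg₀⟩
    rw [← Nat.card_prod]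
    symm
    apply Nat.card_congr
    have key : ∀ h : GL (κ ⊕ μ) F,
        (((g₀ * h)⁻¹ : GL (κ ⊕ μ) F) : Matrix (κ ⊕ μ) (κ ⊕ μ) F) * A *
          ((g₀ * h : GL (κ ⊕ μ) F) : Matrix (κ ⊕ μ) (κ ⊕ μ) F) =
        ((h⁻¹ : GL (κ ⊕ μ) F) : Matrix (κ ⊕ μ) (κ ⊕ μ) F) *
          (((g₀⁻¹ : GL (κ ⊕ μ) F) : Matrix (κ ⊕ μ) (κ ⊕ μ) F) * A *
            (g₀ : Matrix (κ ⊕ μ) (κ ⊕ μ) F)) * (h : Matrix (κ ⊕ μ) (κ ⊕ μ) F) := by
      intro h
      rw [_root_.mul_inv_rev, Units.val_mul, Units.val_mul]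
      simp only [Matrix.mul_assoc]
    refine Equiv.ofBijective (fun x => ⟨g₀ * bd x, ?_⟩) ⟨?_, ?_⟩
    · show (((g₀ * bd x)⁻¹ : GL (κ ⊕ μ) F) : Matrix (κ ⊕ μ) (κ ⊕ μ) F) * A *
        ((g₀ * bd x : GL (κ ⊕ μ) F) : Matrix (κ ⊕ μ) (κ ⊕ μ) F) ∈ DSet F κ μ
      rw [key]
      exact conj_bd_mem_DSet x _ hg₀
    · intro x y hxy
      have h' := congrArg Subtype.val hxy
      simp only at h'
      exact bd_injective (mul_left_cancel h')
    · rintro ⟨g, hg⟩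
      have hg' : (((g₀ * (g₀⁻¹ * g))⁻¹ : GL (κ ⊕ μ) F) : Matrix (κ ⊕ μ) (κ ⊕ μ) F) * A *
          ((g₀ * (g₀⁻¹ * g) : GL (κ ⊕ μ) F) : Matrix (κ ⊕ μ) (κ ⊕ μ) F) ∈ DSet F κ μ := by
        rw [mul_inv_cancel_left]
        exact hg
      rw [key] at hg'
      obtain ⟨x, hx⟩ := exists_bd_eq (g₀⁻¹ * g) _ hg₀ hg'
      refine ⟨x, ?_⟩
      apply Subtype.ext
      show g₀ * bd x = g
      rw [hx, mul_inv_cancel_left]
  rw [← Nat.card_prod (α := GL (κ ⊕ μ) F), ← Nat.card_congr e1, Nat.card_congr e2, Nat.card_sigma,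
    Finset.sum_congr rfl (fun A _ => e3 A), Finset.sum_const, Finset.card_univ, smul_eq_mul,
    Nat.card_eq_fintype_card (α := XSet F κ μ)]

end Count

end Cfsg.Agent.Lib.helper14.NilCount
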