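import Cfsg.Agent.Lib.helper14.NilCount

/-!
# Counting nilpotent matrices, part 2: the trailing degree invariant and the Fitting decomposition
-/

set_option autoImplicit false

namespace Cfsg.Agent.Lib.helper14.NilCount

open Matrix Polynomial

section Invariant

variable {F : Type*} [Field F]
variable {κ μ : Type*} [Fintype κ] [Fintype μ] [DecidableEq κ] [DecidableEq μ]

/-- the characteristic polynomial of a nilpotent matrix over a field -/
theorem charpoly_of_isNilpotent (N : Matrix κ κ F) (hN : IsNilpotent N) :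
    N.charpoly = X ^ Fintype.card κ := by
  have h := Matrix.isNilpotent_charpoly_sub_pow_of_isNilpotent hN
  have h0 : N.charpoly - X ^ Fintype.card κ = 0 := h.eq_zero
  exact sub_eq_zero.mp h0

/-- the characteristic polynomial of an invertible matrix has nonzero constant term -/
theorem charpoly_coeff_zero_ne_zero (B : Matrix μ μ F) (hB : IsUnit B) :
    B.charpoly.coeff 0 ≠ 0 := by
  have hdet : B.det ≠ 0 := ((Matrix.isUnit_iff_isUnit_det _).mp hB).ne_zero
  intro h
  rw [Matrix.det_eq_sign_charpoly_coeff, h, mul_zero] at hdet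
  exact hdet rfl

theorem natTrailingDegree_charpoly_of_mem_DSet (d : Matrix (κ ⊕ μ) (κ ⊕ μ) F)
    (hd : d ∈ DSet F κ μ) : d.charpoly.natTrailingDegree = Fintype.card κ := by
  obtain ⟨N, B, hN, hB, rfl⟩ := hd
  rw [Matrix.charpoly_fromBlocks_zero₁₂, charpoly_of_isNilpotent N hN, mul_comm]
  have hB0 : B.charpoly ≠ 0 := by
    intro h
    exact charpoly_coeff_zero_ne_zero B hB (by rw [h]; simp)
  rw [Polynomial.natTrailingDegree_mul_X_pow hB0]
  have : B.charpoly.natTrailingDegree = 0 := by
    rw [Polynomial.natTrailingDegree_eq_zero]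
    right
    exact charpoly_coeff_zero_ne_zero B hB
  rw [this, zero_add]

theorem natTrailingDegree_charpoly_of_mem_XSet (A : Matrix (κ ⊕ μ) (κ ⊕ μ) F)
    (hA : A ∈ XSet F κ μ) : A.charpoly.natTrailingDegree = Fintype.card κ := by
  obtain ⟨g, hg⟩ := hA
  have := natTrailingDegree_charpoly_of_mem_DSet _ hg
  rw [← this]
  congr 1
  have h := Matrix.charpoly_units_conj' g A
  rw [← h, Matrix.coe_units_inv]

end Invariant

section Fitting

variable {F : Type*} [Field F] {V : Type*} [AddCommGroup V] [Module F V]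
variable {κ μ : Type*} [Fintype κ] [Fintype μ] [DecidableEq κ] [DecidableEq μ]

/-- basis adapted to a pair of complementary subspaces -/
noncomputable def adaptedBasis (K I : Submodule F V) (h : IsCompl K I)
    (bK : Module.Basis κ F K) (bI : Module.Basis μ F I) : Module.Basis (κ ⊕ μ) F V :=
  (bK.prod bI).map (Submodule.prodEquivOfIsCompl K I h)

theorem adaptedBasis_inl (K I : Submodule F V) (h : IsCompl K I)
    (bK : Module.Basis κ F K) (bI : Module.Basis μ F I) (i : κ) :
    adaptedBasis K I h bK bI (Sum.inl i) = (bK i : V) := by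
  unfold adaptedBasis
  rw [Module.Basis.map_apply, Module.Basis.prod_apply]
  simp

theorem adaptedBasis_inr (K I : Submodule F V) (h : IsCompl K I)
    (bK : Module.Basis κ F K) (bI : Module.Basis μ F I) (i : μ) :
    adaptedBasis K I h bK bI (Sum.inr i) = (bI i : V) := by
  unfold adaptedBasis
  rw [Module.Basis.map_apply, Module.Basis.prod_apply]
  simp

theorem adaptedBasis_repr_left (K I : Submodule F V) (h : IsCompl K I)
    (bK : Module.Basis κ F K) (bI : Module.Basis μ F I) (x : K) :
    (∀ i, (adaptedBasis K I h bK bI).repr (x : V) (Sum.inl i) = bK.repr x i) ∧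
    (∀ i, (adaptedBasis K I h bK bI).repr (x : V) (Sum.inr i) = 0) := by
  unfold adaptedBasis
  constructor
  · intro i
    rw [Module.Basis.map_repr, LinearEquiv.trans_apply, Submodule.prodEquivOfIsCompl_symm_apply_left,
      Module.Basis.prod_repr_inl]
  · intro i
    rw [Module.Basis.map_repr, LinearEquiv.trans_apply, Submodule.prodEquivOfIsCompl_symm_apply_left,
      Module.Basis.prod_repr_inr]
    simp

theorem adaptedBasis_repr_right (K I : Submodule F V) (h : IsCompl K I)
    (bK : Module.Basis κ F K) (bI : Module.Basis μ F I) (y : I) :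
    (∀ i, (adaptedBasis K I h bK bI).repr (y : V) (Sum.inl i) = 0) ∧
    (∀ i, (adaptedBasis K I h bK bI).repr (y : V) (Sum.inr i) = bI.repr y i) := by
  unfold adaptedBasis
  constructor
  · intro i
    rw [Module.Basis.map_repr, LinearEquiv.trans_apply, Submodule.prodEquivOfIsCompl_symm_apply_right,
      Module.Basis.prod_repr_inl]
    simp
  · intro i
    rw [Module.Basis.map_repr, LinearEquiv.trans_apply, Submodule.prodEquivOfIsCompl_symm_apply_right,
      Module.Basis.prod_repr_inr]

/-- the matrix of an endomorphism preserving both summands is block diagonal -/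
theorem toMatrix_adaptedBasis (K I : Submodule F V) (h : IsCompl K I)
    (bK : Module.Basis κ F K) (bI : Module.Basis μ F I) (f : V →ₗ[F] V)
    (hK : ∀ x ∈ K, f x ∈ K) (hI : ∀ x ∈ I, f x ∈ I) :
    LinearMap.toMatrix (adaptedBasis K I h bK bI) (adaptedBasis K I h bK bI) f =
      fromBlocks (LinearMap.toMatrix bK bK (f.restrict hK)) 0 0
        (LinearMap.toMatrix bI bI (f.restrict hI)) := by
  ext i j
  rcases i with i | i <;> rcases j with j | j
  · rw [LinearMap.toMatrix_apply, fromBlocks_apply₁₁, LinearMap.toMatrix_apply, adaptedBasis_inl]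
    have : f (bK j : V) = ((f.restrict hK (bK j) : K) : V) := rfl
    rw [this]
    exact (adaptedBasis_repr_left K I h bK bI _).1 i
  · rw [LinearMap.toMatrix_apply, fromBlocks_apply₁₂, adaptedBasis_inr]
    have : f (bI j : V) = ((f.restrict hI (bI j) : I) : V) := rfl
    rw [this]
    exact (adaptedBasis_repr_right K I h bK bI _).1 i
  · rw [LinearMap.toMatrix_apply, fromBlocks_apply₂₁, adaptedBasis_inl]
    have : f (bK j : V) = ((f.restrict hK (bK j) : K) : V) := rfl
    rw [this]
    exact (adaptedBasis_repr_left K I h bK bI _).2 i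
  · rw [LinearMap.toMatrix_apply, fromBlocks_apply₂₂, LinearMap.toMatrix_apply, adaptedBasis_inr]
    have : f (bI j : V) = ((f.restrict hI (bI j) : I) : V) := rfl
    rw [this]
    exact (adaptedBasis_repr_right K I h bK bI _).2 i

end Fitting

section Fitting2

variable {F : Type*} [Field F]

theorem restrict_pow_coe {V : Type*} [AddCommGroup V] [Module F V] (f : V →ₗ[F] V)
    (K : Submodule F V) (hK : ∀ x ∈ K, f x ∈ K) (i : ℕ) (x : K) :
    (((f.restrict hK) ^ i) x : V) = (f ^ i) (x : V) := by
  induction i generalizing x with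
  | zero => simp
  | succ i ih =>
    rw [pow_succ, pow_succ, Module.End.mul_apply, Module.End.mul_apply, ih]
    rfl

theorem exists_submatrix_mem_XSet {ι : Type*} [Fintype ι] [DecidableEq ι] (A : Matrix ι ι F) :
    ∃ k m : ℕ, k + m = Fintype.card ι ∧ ∀ σ : Fin k ⊕ Fin m ≃ ι,
      A.submatrix σ σ ∈ XSet F (Fin k) (Fin m) := by
  classical
  let f : Module.End F (ι → F) := Matrix.toLin' A
  obtain ⟨j, hj, hj1⟩ :=
    ((f.eventually_isCompl_ker_pow_range_pow).and (Filter.eventually_ge_atTop 1)).exists
  have hker : ∀ v, f v = 0 → (f ^ j) v = 0 := by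
    intro v hv
    obtain ⟨i, hi⟩ : ∃ i, j = i + 1 := ⟨j - 1, by omega⟩
    rw [hi, pow_succ, Module.End.mul_apply, hv, map_zero]
  have hK : ∀ x ∈ LinearMap.ker (f ^ j), f x ∈ LinearMap.ker (f ^ j) := by
    intro x hx
    rw [LinearMap.mem_ker] at hx ⊢
    have : (f ^ j) (f x) = f ((f ^ j) x) := by
      rw [← Module.End.mul_apply, ← Module.End.mul_apply, ← pow_succ, ← pow_succ']
    rw [this, hx, map_zero]
  have hI : ∀ x ∈ LinearMap.range (f ^ j), f x ∈ LinearMap.range (f ^ j) := by
    rintro x ⟨y, rfl⟩
    refine ⟨f y, ?_⟩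
    rw [← Module.End.mul_apply, ← Module.End.mul_apply, ← pow_succ, ← pow_succ']
  let bK : Module.Basis (Fin (Module.finrank F (LinearMap.ker (f ^ j)))) F (LinearMap.ker (f ^ j)) :=
    Module.finBasisOfFinrankEq F _ rfl
  let bI : Module.Basis (Fin (Module.finrank F (LinearMap.range (f ^ j)))) F
      (LinearMap.range (f ^ j)) :=
    Module.finBasisOfFinrankEq F _ rfl
  refine ⟨Module.finrank F (LinearMap.ker (f ^ j)), Module.finrank F (LinearMap.range (f ^ j)),
    ?_, ?_⟩
  · have := Submodule.finrank_add_eq_of_isCompl hj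
    rw [Module.finrank_fintype_fun_eq_card] at this
    exact this
  · intro σ
    have hM := toMatrix_adaptedBasis _ _ hj bK bI f hK hI
    have hN : IsNilpotent (LinearMap.toMatrix bK bK (f.restrict hK)) := by
      refine ⟨j, ?_⟩
      rw [LinearMap.toMatrix_pow]
      have : (f.restrict hK) ^ j = 0 := by
        ext x
        rw [restrict_pow_coe]
        have := x.2
        rw [LinearMap.mem_ker] at this
        rw [this]
        rfl
      rw [this, map_zero]
    have hB : IsUnit (LinearMap.toMatrix bI bI (f.restrict hI)) := by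
      have hinj : LinearMap.ker (f.restrict hI) = ⊥ := by
        rw [LinearMap.ker_eq_bot']
        intro y hy
        have h1 : f (y : ι → F) = 0 := by
          have := congrArg Subtype.val hy
          exact this
        have h2 : (y : ι → F) ∈ LinearMap.ker (f ^ j) := by
          rw [LinearMap.mem_ker]
          exact hker _ h1
        have h3 : (y : ι → F) ∈ LinearMap.ker (f ^ j) ⊓ LinearMap.range (f ^ j) := ⟨h2, y.2⟩
        rw [hj.inf_eq_bot] at h3
        exact Subtype.ext ((Submodule.mem_bot F).mp h3)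
      have hu := (LinearMap.isUnit_iff_ker_eq_bot (f.restrict hI)).mpr hinj
      obtain ⟨u, hu⟩ := hu
      have h1 : LinearMap.toMatrix bI bI (f.restrict hI) *
          LinearMap.toMatrix bI bI (↑u⁻¹ : Module.End F _) = 1 := by
        rw [← LinearMap.toMatrix_mul, ← hu, Units.mul_inv, LinearMap.toMatrix_one]
      exact (Matrix.isUnit_iff_isUnit_det _).mpr (Matrix.isUnit_det_of_right_inverse h1)
    have hQAP := basis_toMatrix_mul_linearMap_toMatrix_mul_basis_toMatrix
      (adaptedBasis _ _ hj bK bI) (Pi.basisFun F ι) (adaptedBasis _ _ hj bK bI) (Pi.basisFun F ι) f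
    rw [LinearMap.toMatrix_eq_toMatrix', LinearMap.toMatrix'_toLin', hM] at hQAP
    have hQP := Module.Basis.toMatrix_mul_toMatrix_flip (adaptedBasis _ _ hj bK bI) (Pi.basisFun F ι)
    have hPQ := Module.Basis.toMatrix_mul_toMatrix_flip (Pi.basisFun F ι) (adaptedBasis _ _ hj bK bI)
    have h1 : ((Pi.basisFun F ι).toMatrix (adaptedBasis _ _ hj bK bI)).submatrix σ id *
        ((adaptedBasis _ _ hj bK bI).toMatrix (Pi.basisFun F ι)).submatrix id σ = 1 := by
      rw [← Matrix.submatrix_mul _ _ σ id σ Function.bijective_id, hPQ, Matrix.submatrix_one_equiv]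
    have h2 : ((adaptedBasis _ _ hj bK bI).toMatrix (Pi.basisFun F ι)).submatrix id σ *
        ((Pi.basisFun F ι).toMatrix (adaptedBasis _ _ hj bK bI)).submatrix σ id = 1 := by
      rw [Matrix.submatrix_mul_equiv, hQP, Matrix.submatrix_id_id]
    refine ⟨⟨_, _, h1, h2⟩, ?_⟩
    refine ⟨_, _, hN, hB, ?_⟩
    rw [← hQAP]
    show ((adaptedBasis _ _ hj bK bI).toMatrix (Pi.basisFun F ι)).submatrix id σ *
      A.submatrix σ σ * ((Pi.basisFun F ι).toMatrix (adaptedBasis _ _ hj bK bI)).submatrix σ id = _
    rw [Matrix.submatrix_mul_equiv, Matrix.submatrix_mul_equiv, Matrix.submatrix_id_id]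

end Fitting2

end Cfsg.Agent.Lib.helper14.NilCount
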