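import Cfsg.Agent.Lib.helper14.NilCount2

/-!
# Counting nilpotent matrices, part 3: the count
-/

set_option autoImplicit false

namespace Cfsg.Agent.Lib.helper14.NilCount

open Matrix Polynomial

section Arith

/-- the ratio `|GL_{j+1}| / |GL_j|` -/
def aFac (q j : ℕ) : ℕ := (q ^ (j + 1) - 1) * q ^ j

/-- the ratio `|GL_n| / |GL_k|` -/
def cFac (q n k : ℕ) : ℕ := ∏ j ∈ Finset.Ico k n, aFac q j

theorem cFac_self (q n : ℕ) : cFac q n n = 1 := by
  unfold cFac
  simp

theorem cFac_succ (q n k : ℕ) (h : k ≤ n) : cFac q (n + 1) k = cFac q n k * aFac q n := by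
  unfold cFac
  rw [Finset.prod_Ico_succ_top h]

theorem sum_cFac (q : ℕ) (hq : 1 ≤ q) (n : ℕ) :
    ∑ k ∈ Finset.range (n + 1), cFac q n k * q ^ (k * (k - 1)) = q ^ (n * n) := by
  induction n with
  | zero => simp [cFac]
  | succ n ih =>
    rw [Finset.sum_range_succ, cFac_self, one_mul]
    have h1 : ∀ k ∈ Finset.range (n + 1), cFac q (n + 1) k * q ^ (k * (k - 1)) =
        aFac q n * (cFac q n k * q ^ (k * (k - 1))) := by
      intro k hk
      rw [cFac_succ q n k (Nat.lt_succ_iff.mp (Finset.mem_range.mp hk))]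
      ring
    rw [Finset.sum_congr rfl h1, ← Finset.mul_sum, ih]
    unfold aFac
    obtain ⟨r, hr⟩ : ∃ r, q ^ (n + 1) = r + 1 := ⟨q ^ (n + 1) - 1, by
      have : 1 ≤ q ^ (n + 1) := Nat.one_le_pow _ _ hq
      omega⟩
    rw [hr, Nat.add_sub_cancel, Nat.add_sub_cancel]
    have e1 : q ^ ((n + 1) * (n + 1)) = (r + 1) * q ^ ((n + 1) * n) := by
      rw [← hr, ← pow_add]
      congr 1
      ring
    have e2 : q ^ n * q ^ (n * n) = q ^ ((n + 1) * n) := by
      rw [← pow_add]
      congr 1
      ring
    rw [e1, mul_assoc, e2]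
    ring

end Arith

section Count3

variable {F : Type*} [Field F] [Fintype F]

theorem card_GL_zero : Nat.card (GL (Fin 0) F) = 1 := by
  rw [Matrix.card_GL_field]
  simp

theorem card_GL_succ (n : ℕ) :
    Nat.card (GL (Fin (n + 1)) F) = aFac (Fintype.card F) n * Nat.card (GL (Fin n) F) := by
  rw [Matrix.card_GL_field, Matrix.card_GL_field, Fin.prod_univ_succ]
  unfold aFac
  have h : ∀ i : Fin n, Fintype.card F ^ (n + 1) - Fintype.card F ^ ((i.succ : Fin (n + 1)) : ℕ) =
      Fintype.card F * (Fintype.card F ^ n - Fintype.card F ^ (i : ℕ)) := by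
    intro i
    rw [Nat.mul_sub, Fin.val_succ, pow_succ', pow_succ']
  rw [Finset.prod_congr rfl (fun i _ => h i), Finset.prod_mul_distrib, Finset.prod_const,
    Finset.card_univ, Fintype.card_fin]
  simp only [Fin.val_zero, pow_zero]
  ring

theorem card_GL_pos (n : ℕ) : 0 < Nat.card (GL (Fin n) F) := Nat.card_pos

theorem card_GL_eq_cFac (n k : ℕ) (h : k ≤ n) :
    Nat.card (GL (Fin n) F) = cFac (Fintype.card F) n k * Nat.card (GL (Fin k) F) := by
  induction n, h using Nat.le_induction with
  | base => rw [cFac_self, one_mul]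
  | succ n hn ih =>
    rw [card_GL_succ, cFac_succ _ _ _ hn, ih]
    ring

theorem card_GL_congr {ι ι' : Type*} [Fintype ι] [Fintype ι'] [DecidableEq ι] [DecidableEq ι']
    (e : ι ≃ ι') : Nat.card (GL ι F) = Nat.card (GL ι' F) :=
  Nat.card_congr (Units.mapEquiv (Matrix.reindexRingEquiv F e).toMulEquiv).toEquiv

/-- the standard identification `Fin k ⊕ Fin (n - k) ≃ Fin n` -/
def sumEquiv (n k : ℕ) (h : k ≤ n) : Fin k ⊕ Fin (n - k) ≃ Fin n :=
  finSumFinEquiv.trans (finCongr (by omega))

theorem mem_XSet_iff (n k : ℕ) (h : k ≤ n) (A : Matrix (Fin n) (Fin n) F) :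
    A.charpoly.natTrailingDegree = k ↔
      A.submatrix (sumEquiv n k h) (sumEquiv n k h) ∈ XSet F (Fin k) (Fin (n - k)) := by
  constructor
  · intro hA
    obtain ⟨k', m', hkm, hall⟩ := exists_submatrix_mem_XSet A
    rw [Fintype.card_fin] at hkm
    have h1 := hall (finSumFinEquiv.trans (finCongr hkm))
    have h2 := natTrailingDegree_charpoly_of_mem_XSet _ h1
    rw [Fintype.card_fin] at h2
    have h3 : (A.submatrix (finSumFinEquiv.trans (finCongr hkm))
        (finSumFinEquiv.trans (finCongr hkm))).charpoly = A.charpoly :=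
      Matrix.charpoly_reindex (finSumFinEquiv.trans (finCongr hkm)).symm A
    rw [h3, hA] at h2
    subst h2
    obtain rfl : m' = n - k := by omega
    exact hall _
  · intro hA
    have h2 := natTrailingDegree_charpoly_of_mem_XSet _ hA
    rw [Fintype.card_fin] at h2
    have h3 : (A.submatrix (sumEquiv n k h) (sumEquiv n k h)).charpoly = A.charpoly :=
      Matrix.charpoly_reindex (sumEquiv n k h).symm A
    rw [h3] at h2
    exact h2

theorem card_fiber_eq (n k : ℕ) (h : k ≤ n) :
    Nat.card {A : Matrix (Fin n) (Fin n) F // A.charpoly.natTrailingDegree = k} =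
      Nat.card (XSet F (Fin k) (Fin (n - k))) := by
  apply Nat.card_congr
  exact Equiv.subtypeEquiv (Matrix.reindex (sumEquiv n k h).symm (sumEquiv n k h).symm)
    (fun A => mem_XSet_iff n k h A)

theorem card_matrix_eq_sum (n : ℕ) :
    Fintype.card F ^ (n * n) = ∑ k ∈ Finset.range (n + 1),
      Nat.card {A : Matrix (Fin n) (Fin n) F // A.charpoly.natTrailingDegree = k} := by
  classical
  have hle : ∀ A : Matrix (Fin n) (Fin n) F, A.charpoly.natTrailingDegree < n + 1 := by
    intro A
    have h1 := Polynomial.natTrailingDegree_le_natDegree (p := A.charpoly)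
    rw [Matrix.charpoly_natDegree_eq_dim, Fintype.card_fin] at h1
    omega
  have e := Equiv.sigmaFiberEquiv
    (fun A : Matrix (Fin n) (Fin n) F => (⟨A.charpoly.natTrailingDegree, hle A⟩ : Fin (n + 1)))
  have h1 := Nat.card_congr e
  rw [Nat.card_sigma] at h1
  have h2 : Nat.card (Matrix (Fin n) (Fin n) F) = Fintype.card F ^ (n * n) := by
    rw [Nat.card_eq_fintype_card]
    change Fintype.card (Fin n → Fin n → F) = _
    rw [Fintype.card_fun, Fintype.card_fun, Fintype.card_fin, ← pow_mul]
  rw [← h2, ← h1, ← Fin.sum_univ_eq_sum_range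
    (fun k => Nat.card {A : Matrix (Fin n) (Fin n) F // A.charpoly.natTrailingDegree = k})]
  apply Finset.sum_congr rfl
  intro k _
  apply Nat.card_congr
  exact Equiv.subtypeEquivRight (fun A => by
    constructor
    · intro hh
      exact congrArg Fin.val hh
    · intro hh
      exact Fin.ext hh)

theorem card_XSet_eq (n k : ℕ) (h : k ≤ n) :
    Nat.card (XSet F (Fin k) (Fin (n - k))) =
      cFac (Fintype.card F) n k * Nat.card {N : Matrix (Fin k) (Fin k) F // IsNilpotent N} := by
  have h1 := card_XSet_mul (F := F) (κ := Fin k) (μ := Fin (n - k))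
  rw [card_DSet, card_GL_congr (F := F) (sumEquiv n k h), card_GL_eq_cFac n k h] at h1
  have hpos : 0 < Nat.card (GL (Fin k) F) * Nat.card (GL (Fin (n - k)) F) :=
    Nat.mul_pos (card_GL_pos k) (card_GL_pos (n - k))
  apply Nat.eq_of_mul_eq_mul_right hpos
  rw [h1]
  ring

/-- **Fine–Herstein**: the number of nilpotent `n × n` matrices over a field with `q` elements
is `q ^ (n * (n - 1))`. -/
theorem card_nilpotent (n : ℕ) :
    Nat.card {N : Matrix (Fin n) (Fin n) F // IsNilpotent N} =
      Fintype.card F ^ (n * (n - 1)) := by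
  induction n using Nat.strong_induction_on with
  | _ n ih =>
    have h1 := card_matrix_eq_sum (F := F) n
    have h2 := sum_cFac (Fintype.card F) Fintype.card_pos n
    rw [Finset.sum_range_succ] at h1 h2
    rw [card_fiber_eq n n le_rfl, card_XSet_eq n n le_rfl, cFac_self, one_mul] at h1
    rw [cFac_self, one_mul] at h2
    have h3 : ∑ k ∈ Finset.range n,
        Nat.card {A : Matrix (Fin n) (Fin n) F // A.charpoly.natTrailingDegree = k} =
        ∑ k ∈ Finset.range n, cFac (Fintype.card F) n k * Fintype.card F ^ (k * (k - 1)) := by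
      apply Finset.sum_congr rfl
      intro k hk
      have hk' := Finset.mem_range.mp hk
      rw [card_fiber_eq n k hk'.le, card_XSet_eq n k hk'.le, ih k hk']
    rw [h3] at h1
    omega

end Count3

end Cfsg.Agent.Lib.helper14.NilCount
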