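import Mathlib
import Cfsg.Prelude.Def_Classical
import Cfsg.Agent.Lib.Helper1.S8U.Defs
import Cfsg.Agent.Lib.helper3.O9A.Defs
import Cfsg.Agent.Lib.Helper28.S8UAFF2

set_option autoImplicit false

/-!
# Project O9A, row AFFP (helper14): the order of an element of the affine group `F^ι ⋊ K` in characteristic `p`.
-/

namespace Cfsg.Agent.Lib.helper3.O9A

open Matrix Module Polynomial Cfsg.Agent.Lib.Helper1.S8U Cfsg.Agent.Lib.Helper16

/-- an element with trivial right component has `p`-th power `1` in characteristic `p` -/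
theorem o9aaffp_pow_p {ι : Type} [Fintype ι] [DecidableEq ι] {F : Type*} [Field F] (p : ℕ) [CharP F p]
    (K : Subgroup (GL ι F)) (w : ι → F) :
    ((⟨Multiplicative.ofAdd w, 1⟩ : AffK K)) ^ p = 1 := by
  rw [aff_pow]
  refine SemidirectProduct.ext ?_ ?_
  · show Multiplicative.ofAdd (geoM (((1 : ↥K)) : GL ι F) p *ᵥ w) = 1
    have : geoM (((1 : ↥K)) : GL ι F) p = 0 := by
      unfold geoM
      simp only [Subgroup.coe_one, one_pow, Matrix.GeneralLinearGroup.coe_one, Finset.sum_const,
        Finset.card_range]
      rw [← Nat.cast_smul_eq_nsmul F, CharP.cast_eq_zero F p, zero_smul]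
    rw [this, Matrix.zero_mulVec]
    rfl
  · show (1 : ↥K) ^ p = 1
    exact one_pow p

theorem aff_order_p {ι : Type} [Fintype ι] [DecidableEq ι] {F : Type*} [Field F] [Fintype F] (p : ℕ) [Fact p.Prime] [CharP F p]
    (K : Subgroup (GL ι F)) (x : AffK K) :
    (geoM (x.right : GL ι F) (orderOf x.right) *ᵥ Multiplicative.toAdd x.left = 0 →
        orderOf x = orderOf x.right) ∧
      (geoM (x.right : GL ι F) (orderOf x.right) *ᵥ Multiplicative.toAdd x.left ≠ 0 →
        orderOf x = p * orderOf x.right) := by
  have hdvd := s8uaff2_right_dvd K x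
  have hpow := s8uaff2_pow_order K x
  have hfin : Finite (GL ι F) := inferInstance
  have hpos : 0 < orderOf x.right := orderOf_pos x.right
  have hp : p.Prime := Fact.out
  constructor
  · intro h0
    apply Nat.dvd_antisymm _ hdvd
    apply orderOf_dvd_of_pow_eq_one
    rw [hpow, h0]
    rfl
  · intro h0
    have h2 : orderOf x ∣ p * orderOf x.right := by
      apply orderOf_dvd_of_pow_eq_one
      rw [mul_comm, pow_mul, hpow]
      exact o9aaffp_pow_p p K _
    obtain ⟨j, hj⟩ := hdvd
    have hj2 : j ∣ p := by
      rw [hj, mul_comm p] at h2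
      exact Nat.dvd_of_mul_dvd_mul_left hpos h2
    rcases (Nat.dvd_prime hp).mp hj2 with rfl | rfl
    · exfalso
      rw [mul_one] at hj
      have h1 : x ^ orderOf x.right = 1 := by
        rw [← hj]
        exact pow_orderOf_eq_one x
      rw [hpow] at h1
      have h3 := congrArg SemidirectProduct.left h1
      apply h0
      have h4 : Multiplicative.ofAdd
          (geoM (x.right : GL ι F) (orderOf x.right) *ᵥ Multiplicative.toAdd x.left) = 1 := h3
      exact h4
    · rw [hj, mul_comm]

end Cfsg.Agent.Lib.helper3.O9A
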