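import Mathlib
import Cfsg.Prelude.Def_Classical
import Cfsg.Agent.Lib.Helper1.S8U.Defs
import Cfsg.Agent.Lib.helper3.O9A.Defs
import Cfsg.Agent.Lib.Helper28.S8UAFF3
import Cfsg.Agent.Lib.helper14.O9AAFFP

set_option autoImplicit false

/-!
# Project O9A, row AFFR (helper14): the element orders of the affine group `F^ι ⋊ K` in characteristic `p`.
-/

namespace Cfsg.Agent.Lib.helper3.O9A

open Matrix Module Polynomial Cfsg.Agent.Lib.Helper1.S8U Cfsg.Agent.Lib.Helper16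

theorem aff_range_p {ι : Type} [Fintype ι] [DecidableEq ι] {F : Type*} [Field F] [Fintype F] (p : ℕ) [Fact p.Prime] [CharP F p]
    (K : Subgroup (GL ι F)) (n : ℕ) :
    n ∈ Set.range (orderOf : AffK K → ℕ) ↔
      (∃ g ∈ K, orderOf g = n) ∨ (∃ g ∈ K, p * orderOf g = n ∧ geoM g (orderOf g) ≠ 0) := by
  constructor
  · rintro ⟨x, rfl⟩
    obtain ⟨h1, h2⟩ := aff_order_p p K x
    by_cases h0 : geoM (x.right : GL ι F) (orderOf x.right) *ᵥ Multiplicative.toAdd x.left = 0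
    · left
      refine ⟨(x.right : GL ι F), x.right.2, ?_⟩
      rw [h1 h0, Subgroup.orderOf_coe]
    · right
      refine ⟨(x.right : GL ι F), x.right.2, ?_, ?_⟩
      · rw [h2 h0, Subgroup.orderOf_coe]
      · intro hz
        apply h0
        rw [Subgroup.orderOf_coe] at hz
        rw [hz, Matrix.zero_mulVec]
  · rintro (⟨g, hg, rfl⟩ | ⟨g, hg, rfl, hne⟩)
    · refine ⟨⟨Multiplicative.ofAdd 0, ⟨g, hg⟩⟩, ?_⟩
      obtain ⟨h1, -⟩ := aff_order_p p K (⟨Multiplicative.ofAdd 0, ⟨g, hg⟩⟩ : AffK K)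
      show orderOf (⟨Multiplicative.ofAdd 0, ⟨g, hg⟩⟩ : AffK K) = orderOf g
      rw [h1 (by
        show geoM _ _ *ᵥ (0 : ι → F) = 0
        exact Matrix.mulVec_zero _)]
      show orderOf (⟨g, hg⟩ : ↥K) = orderOf g
      rw [← Subgroup.orderOf_coe]
    · obtain ⟨j, hj⟩ := s8uaff3_exists_col _ hne
      refine ⟨⟨Multiplicative.ofAdd (Pi.single j 1), ⟨g, hg⟩⟩, ?_⟩
      obtain ⟨-, h2⟩ := aff_order_p p K (⟨Multiplicative.ofAdd (Pi.single j 1), ⟨g, hg⟩⟩ : AffK K)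
      show orderOf (⟨Multiplicative.ofAdd (Pi.single j 1), ⟨g, hg⟩⟩ : AffK K) = p * orderOf g
      have e : orderOf (⟨g, hg⟩ : ↥K) = orderOf g := by
        rw [← Subgroup.orderOf_coe]
      rw [h2 (by
        show geoM (((⟨g, hg⟩ : ↥K)) : GL ι F) (orderOf (⟨g, hg⟩ : ↥K)) *ᵥ (Pi.single j 1 : ι → F) ≠ 0
        rw [e]
        exact hj)]
      show p * orderOf (⟨g, hg⟩ : ↥K) = p * orderOf g
      rw [e]

end Cfsg.Agent.Lib.helper3.O9A
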