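import Mathlib
import Cfsg.Agent.Lib.Helper1.ODN.Defs
import Cfsg.Agent.Lib.helper14.ODNSQd
import Cfsg.Agent.Lib.helper15.SQMB1
import Cfsg.Agent.Lib.helper15.SQMB3
import Cfsg.Agent.Lib.Helper28.SQMC4
import Cfsg.Agent.Lib.Helper28.SQME3
import Cfsg.Agent.Lib.Helper9.SQMC1
import Cfsg.Agent.Lib.Helper16.OClass1
import Cfsg.Agent.Lib.Helper16.OStd
import Cfsg.Agent.Lib.Helper16.OCnt2
import Cfsg.Agent.Lib.Lead.WittIndex

/-!
# ODN row TWONEC (`odn_two_nec`, helper14)

An `x ∈ Ω(Q)` with `x * x = -1` (generic nondegenerate `Q` of counting type `ε` in dimension `2d`, `q` odd) forces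
`ε = 1 ∧ (Even d ∨ q % 8 = 1)` or `ε = -1 ∧ Odd d ∧ q % 8 = 7`.

Route (no `spinSign`, no counting of `{Q = 1}`): `x ∈ Ω ⇔ IsSquare (2 ^ d)` (`odnsq_omegaGL`), and the type is read off from
invariant totally singular subspaces (SQM rows B1 + B3, C4, E3) against the Witt index (helper16's `classify`, Lead's `minus_ts_le`).
-/

set_option autoImplicit false
set_option linter.unusedVariables false
set_option linter.unusedSectionVars false

namespace Cfsg.Agent.Lib.Helper1.ODN

open Module Matrix Cfsg.Agent.Lib.helper14.ODNSQ Cfsg.Agent.Lib.helper15.SQM Cfsg.Agent.Lib.Helper16.OSemi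

theorem odn_two_nec {F : Type*} [Field F] [Fintype F] (hodd : Odd (Fintype.card F)) {ι : Type} [Fintype ι] [DecidableEq ι]
    (Q : QuadraticForm F (ι → F)) (hQ : (QuadraticMap.polarBilin Q).Nondegenerate) (d : ℕ) (hd : 1 ≤ d)
    (hcard : Fintype.card ι = 2 * d) (ε : ℤ) (hε : ε = 1 ∨ ε = -1) (htyQ : IsType (⇑Q) d ε)
    (hex : ∃ x : GL ι F, x ∈ Cfsg.Geo.omegaGL (⇑Q) ∧ (x : Matrix ι ι F) * (x : Matrix ι ι F) = -1) :
    (ε = 1 ∧ (Even d ∨ Fintype.card F % 8 = 1)) ∨ (ε = -1 ∧ Odd d ∧ Fintype.card F % 8 = 7) := by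
  obtain ⟨x, hx, hxx⟩ := hex
  have h2 : (2 : F) ≠ 0 := odnexplusodd_two_ne hodd
  have hxO := odnsq_omegaGL_le _ x hx
  have hsq : IsSquare ((2 : F) ^ d) := (odnsq_omegaGL h2 Q hQ x hxO hxx d hcard).1 hx
  have hq8 : Odd d → Fintype.card F % 8 = 1 ∨ Fintype.card F % 8 = 7 :=
    fun hd' => odnsq_mod8_of_sq h2 d hd' hsq
  rcases classify hd hcard Q hQ with ⟨Φ, hΦ⟩ | ⟨ζ, hζ, Φ, hΦ⟩
  · -- plus type
    have hε1 : ε = 1 := by
      rcases hε with h | h
      · exact h
      · exfalso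
        subst h
        have h1 := (isType_of_equiv (⇑Q) _ Φ hΦ d 1).mpr (isType_plus d)
        exact isType_unique _ d h1 htyQ
    left
    refine ⟨hε1, ?_⟩
    rcases Nat.even_or_odd d with hde | hdo
    · exact Or.inl hde
    right
    rcases hq8 hdo with h8 | h8
    · exact h8
    exfalso
    have hns : ¬ IsSquare (-1 : F) := by
      rw [FiniteField.isSquare_neg_one_iff]
      omega
    obtain ⟨T0, hT0, hT0s⟩ := odnsq_plus_ts d F
    have hT : finrank F ↥(T0.map (Φ : (Fin d ⊕ Fin d → F) →ₗ[F] (ι → F))) = d := by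
      rw [LinearEquiv.finrank_map_eq]
      exact hT0
    have hTs : ∀ w ∈ T0.map (Φ : (Fin d ⊕ Fin d → F) →ₗ[F] (ι → F)), Q w = 0 := by
      rintro w ⟨v, hv, rfl⟩
      have := hΦ v
      rw [LinearEquiv.coe_coe, this]
      exact hT0s v hv
    have hev := sqm_ts_even h2 Q hQ x hxO hxx hns _ hTs (by rw [hT, hcard])
    rw [hT] at hev
    exact (Nat.not_even_iff_odd.2 hdo) hev
  · -- minus type
    have han := aniso_of_irred ζ hζ
    have hεm : ε = -1 := by
      rcases hε with h | h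
      · exfalso
        subst h
        have h1 := isType_minus (d - 1) 1 ζ han
        rw [show d - 1 + 1 = d by omega] at h1
        have h3 := (isType_of_equiv (⇑Q) _ Φ hΦ d (-1)).mpr h1
        exact isType_unique _ d htyQ h3
      · exact h
    have hno : ∀ T : Submodule F (ι → F), (∀ w ∈ T, Q w = 0) → finrank F ↥T ≤ d - 1 := by
      intro T hTs
      have hle := Cfsg.Agent.Lib.Lead.WI.minus_ts_le (k := d - 1) (a := 1) (b := ζ) han
        (T.map (Φ.symm : (ι → F) →ₗ[F] ((Fin (d - 1) ⊕ Fin (d - 1)) ⊕ Fin 2 → F))) (by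
          rintro w ⟨v, hv, rfl⟩
          have := hΦ (Φ.symm v)
          rw [LinearEquiv.apply_symm_apply] at this
          rw [LinearEquiv.coe_coe, ← this]
          exact hTs v hv)
      rwa [LinearEquiv.finrank_map_eq] at hle
    right
    refine ⟨hεm, ?_⟩
    have hns : ¬ IsSquare (-1 : F) := by
      rintro ⟨i0, hi0⟩
      obtain ⟨d', e, f, hfr⟩ := sqm_frame1 h2 Q hQ x hxO hxx i0 hi0.symm
      obtain ⟨W, hW, hWs, -⟩ := sqm_fix1 Q _ i0 d' e f hfr d' le_rfl
      have hle : d' ≤ d - 1 := by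
        rw [← hW]
        exact hno W hWs
      have hc := hfr.card
      rw [hcard] at hc
      omega
    have hq4 : Fintype.card F % 4 = 3 := by
      by_contra hcon
      exact hns (FiniteField.isSquare_neg_one_iff.2 hcon)
    have hdo : Odd d := by
      rw [← Nat.not_even_iff_odd]
      rintro ⟨j, hj⟩
      obtain ⟨d', v, hfr⟩ := sqm_frame3 h2 Q hQ x hxO hxx
      have hc := hfr.card
      rw [hcard] at hc
      obtain ⟨W, hW, hWs, -⟩ := sqm_fix3 h2 Q x hxO hxx d' v hfr j (by omega)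
      have hle : 2 * j ≤ d - 1 := by
        rw [← hW]
        exact hno W hWs
      omega
    refine ⟨hdo, ?_⟩
    rcases hq8 hdo with h8 | h8
    · omega
    · exact h8

end Cfsg.Agent.Lib.Helper1.ODN
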