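import Mathlib
import Cfsg.Agent.Lib.Helper1.ODN.Defs
import Cfsg.Agent.Lib.helper14.ODNSQd
import Cfsg.Agent.Lib.helper15.SQMA
import Cfsg.Agent.Lib.Helper24.ODNREALIZE
import Cfsg.Agent.Lib.Helper24.ODNFROZEN
import Cfsg.Agent.Lib.Helper11.ONESTDcore

/-!
# ODN row TWOSTD, core (`odntwostd_core`, helper14): the assembly for `r = 2`, against the statement of INVOLABS.
-/

set_option autoImplicit false
set_option linter.unusedVariables false
set_option linter.unusedSectionVars false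

namespace Cfsg.Agent.Lib.Helper1.ODN

open Polynomial Module Matrix Cfsg.Agent.Lib.Helper13.S5955 Cfsg.Agent.Lib.helper15.S5972 Cfsg.Agent.Lib.Helper18.ONE
  Cfsg.Agent.Lib.Helper16.OSemi Cfsg.Agent.Lib.helper14.ODNSQ Cfsg.Agent.Lib.helper15.SQM

/-- a nondegenerate polar form on a nonzero space has a nonsingular vector (`2 ≠ 0`) -/
theorem odntwostd_exists_ne {F : Type*} [Field F] (h2 : (2 : F) ≠ 0) {ι : Type} [Fintype ι] [DecidableEq ι]
    (Q : QuadraticForm F (ι → F)) (hQ : (QuadraticMap.polarBilin Q).Nondegenerate) (hpos : 0 < Fintype.card ι) :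
    ∃ v, Q v ≠ 0 := by
  by_contra hcon
  push Not at hcon
  haveI : Nonempty ι := Fintype.card_pos_iff.1 hpos
  obtain ⟨i⟩ := ‹Nonempty ι›
  have hv : (Pi.single i (1 : F) : ι → F) ≠ 0 := by
    intro h
    have := congrFun h i
    simp at this
  apply hv
  apply hQ.1
  intro w
  rw [QuadraticMap.polarBilin_apply_apply]
  unfold QuadraticMap.polar
  rw [hcon, hcon, hcon]
  ring

theorem odntwostd_core {F : Type*} [Field F] [Fintype F] {p : ℕ} [Fact p.Prime] [CharP F p]
    (hodd : Odd (Fintype.card F)) {ι : Type} [Fintype ι] [DecidableEq ι] (Q : QuadraticForm F (ι → F))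
    (hQ : (QuadraticMap.polarBilin Q).Nondegenerate) (d m : ℕ) (hd : 4 ≤ d)
    (hcard : Fintype.card ι = 2 * d) (hm : Odd m) (hmd : m < d) (W₀ : Submodule F (ι → F))
    (hW₀ : finrank F ↥W₀ = m ∧ Cfsg.Geo.IsNondegenerateOn (QuadraticMap.polar (⇑Q)) W₀)
    (hINV : ∀ x : Module.End F (ι → F), OCtx 2 (QuadraticMap.polarBilin Q) x →
      FixC (QuadraticMap.polarBilin Q) x m W₀) :
    (∀ x : GL ι F, x ∈ Cfsg.Geo.omegaGL (⇑Q) →
      (∃ z : F, ((x ^ 2 : GL ι F) : Matrix ι ι F) = z • (1 : Matrix ι ι F)) →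
      (∀ z : F, (x : Matrix ι ι F) ≠ z • (1 : Matrix ι ι F)) →
      ∃ W : Submodule F (ι → F), (finrank F ↥W = m ∧ Cfsg.Geo.IsNondegenerateOn (QuadraticMap.polar (⇑Q)) W ∧
        Cfsg.Geo.AreIsometricFor (⇑Q) W W₀) ∧ W.map (Matrix.toLin' (x : Matrix ι ι F)) ≤ W) ↔
    ¬ ∃ x : GL ι F, x ∈ Cfsg.Geo.omegaGL (⇑Q) ∧ (x : Matrix ι ι F) * (x : Matrix ι ι F) = -1 := by
  have h2 : (2 : F) ≠ 0 := odnexplusodd_two_ne hodd
  have hne : ∃ v, Q v ≠ 0 := odntwostd_exists_ne h2 Q hQ (by omega)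
  constructor
  · rintro hall ⟨x, hx, hxx⟩
    have hxO := odnsq_omegaGL_le _ x hx
    have hpow : ((x ^ 2 : GL ι F) : Matrix ι ι F) = (-1 : F) • (1 : Matrix ι ι F) := by
      rw [pow_two, Units.val_mul, hxx]
      simp
    have hι : Nonempty ι := Fintype.card_pos_iff.1 (by omega)
    have hns : ∀ z : F, (x : Matrix ι ι F) ≠ z • (1 : Matrix ι ι F) := by
      intro z hz
      obtain ⟨v, hv⟩ := hne
      have h1 : Q ((x : Matrix ι ι F) *ᵥ v) = Q v := hxO v v
      rw [hz, Matrix.smul_mulVec, Matrix.one_mulVec, QuadraticMap.map_smul, smul_eq_mul] at h1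
      have hz1 : z * z = 1 := by
        have : (z * z - 1) * Q v = 0 := by linear_combination h1
        rcases mul_eq_zero.1 this with h | h
        · linear_combination h
        · exact absurd h hv
      have hz2 : z * z = -1 := by
        have h3 := hxx
        rw [hz] at h3
        have h4 := congrFun (congrFun h3 (Classical.arbitrary ι)) (Classical.arbitrary ι)
        simpa using h4
      apply h2
      have h11 : (1 : F) = -1 := hz1.symm.trans hz2
      linear_combination h11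
    obtain ⟨W, ⟨hWm, hWnd, -⟩, hWinv⟩ := hall x hx ⟨-1, hpow⟩ hns
    have hev := odnsq_no_odd h2 Q (x : Matrix ι ι F) hxx (fun v => hxO v v) W hWnd hWinv
    rw [hWm] at hev
    exact (Nat.not_even_iff_odd.2 hm) hev
  · intro hno x hx ⟨z, hz⟩ hns
    have hxO := odnsq_omegaGL_le _ x hx
    rcases sqm_scalar Q hne x hxO z hz with rfl | rfl
    · -- involution
      have hx2 : x ^ 2 = 1 := by
        apply Units.ext
        rw [hz]
        simp
      have hctx := (odn_std_ctx Q hQ).2 2 x hxO hx2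
      obtain ⟨W, hWinv, hWnd, hWm, hWiso⟩ := hINV _ hctx
      have hfr := odn_frozen h2 Q W W₀
      exact ⟨W, ⟨hWm, hfr.1.2 hWnd, hfr.2.1.2 hWiso⟩, (hfr.2.2 (x : Matrix ι ι F)).2 hWinv⟩
    · exfalso
      apply hno
      refine ⟨x, hx, ?_⟩
      have : ((x ^ 2 : GL ι F) : Matrix ι ι F) = (x : Matrix ι ι F) * (x : Matrix ι ι F) := by
        rw [pow_two, Units.val_mul]
      rw [← this, hz]
      simp

end Cfsg.Agent.Lib.Helper1.ODN
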