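import Mathlib
import Cfsg.Agent.Lib.helper14.ODNTWOSTDcore
import Cfsg.Agent.Lib.helper8.ODNINVOLABS

/-!
# ODN row TWOSTD (`odn_two_std`, helper14): `odntwostd_core` + helper8's INVOLABS.
-/

set_option autoImplicit false

namespace Cfsg.Agent.Lib.Helper1.ODN

open Polynomial Module Matrix Cfsg.Agent.Lib.Helper13.S5955 Cfsg.Agent.Lib.helper15.S5972 Cfsg.Agent.Lib.Helper18.ONE
  Cfsg.Agent.Lib.Helper16.OSemi

theorem odn_two_std {F : Type*} [Field F] [Fintype F] {p : ℕ} [Fact p.Prime] [CharP F p]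
    (hodd : Odd (Fintype.card F)) {ι : Type} [Fintype ι] [DecidableEq ι] (Q : QuadraticForm F (ι → F))
    (hQ : (QuadraticMap.polarBilin Q).Nondegenerate) (d m : ℕ) (hd : 4 ≤ d)
    (hcard : Fintype.card ι = 2 * d) (hm : Odd m) (hmd : m < d) (W₀ : Submodule F (ι → F))
    (hW₀ : finrank F ↥W₀ = m ∧ Cfsg.Geo.IsNondegenerateOn (QuadraticMap.polar (⇑Q)) W₀) :
    (∀ x : GL ι F, x ∈ Cfsg.Geo.omegaGL (⇑Q) →
      (∃ z : F, ((x ^ 2 : GL ι F) : Matrix ι ι F) = z • (1 : Matrix ι ι F)) →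
      (∀ z : F, (x : Matrix ι ι F) ≠ z • (1 : Matrix ι ι F)) →
      ∃ W : Submodule F (ι → F), (finrank F ↥W = m ∧ Cfsg.Geo.IsNondegenerateOn (QuadraticMap.polar (⇑Q)) W ∧
        Cfsg.Geo.AreIsometricFor (⇑Q) W W₀) ∧ W.map (Matrix.toLin' (x : Matrix ι ι F)) ≤ W) ↔
    ¬ ∃ x : GL ι F, x ∈ Cfsg.Geo.omegaGL (⇑Q) ∧ (x : Matrix ι ι F) * (x : Matrix ι ι F) = -1 := by
  have h2 : (2 : F) ≠ 0 := odnexplusodd_two_ne hodd
  have hp2 : p ≠ 2 := Cfsg.Agent.Lib.Helper18.ONE.onestd_p_ne_two hodd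
  have hV : finrank F (ι → F) = 2 * d := by
    rw [Module.finrank_fintype_fun_eq_card, hcard]
  obtain ⟨hm1⟩ : ∃ _h : 1 ≤ m, True := ⟨by obtain ⟨k, hk⟩ := hm; omega, trivial⟩
  exact odntwostd_core hodd Q hQ d m hd hcard hm hmd W₀ hW₀
    (fun x hctx => odn_invol_abs (p := p) hp2 hctx d m hV (by omega) hm1 hmd W₀
      ((odn_frozen h2 Q W₀ W₀).1.1 hW₀.2) hW₀.1)

end Cfsg.Agent.Lib.Helper1.ODN
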