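import Mathlib
import Cfsg.Agent.Lib.helper8.OME.Defs
import Cfsg.Agent.Lib.helper14.OMECNTMMh14
import Cfsg.Agent.Lib.Helper26.OMECM2Mcore
import Cfsg.Agent.Lib.helper15.OMESTDh15
import Cfsg.Agent.Lib.Helper27.OMEFROZEN
import Cfsg.Agent.Lib.Helper11.OMEAP3M
import Cfsg.Agent.Lib.Helper24.OMECNTPM

set_option autoImplicit false

/-!
# Project OME (designer helper8), rows CM2M + CNTMM, second copies under own names (helper14),
SAME statements as `ome_ap_count` / `ome_ell_count_ce`, everything cited from main.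
-/

namespace Cfsg.Agent.Lib.helper8.OME

open Polynomial Module Cfsg.Agent.Lib.Helper13.S5955 Cfsg.Agent.Lib.helper15.S5972
  Cfsg.Agent.Lib.Helper18.OPE

/-- the statement of CM2M `ome_ap_count` (helper26's core + helper15 STDFACTS copy + Helper27 FROZEN + Helper11 AP3M) -/
theorem omecm2m_h14 {F : Type*} [Field F] [Fintype F] (d h : ℕ) (hh1 : 1 ≤ h) (hh : h < d) (a b : F)
    (hab : ∀ x y : F, x ^ 2 + a * x * y + b * y ^ 2 = 0 → x = 0 ∧ y = 0)
    (W' : HYPm d (2 * h - 2) F a b) :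
    2 * (Fintype.card F + 1) * Nat.card {W : ELLm d (2 * h) F a b // W'.1 ≤ W.1} =
      Fintype.card F ^ (2 * (d - h)) * (Fintype.card F ^ (d - h + 1) + 1) *
        (Fintype.card F ^ (d - h) + 1) :=
  omecm2m_core d h hh1 hh a b W' (omestdfacts_h15 d (by omega) a b hab)
    (fun m hme W => ome_frozen_iff d m hme a b W)
    (fun N a' hN ha hdim hty => ap_planes_minus (Qm d F a b) N hN a' ha hdim hty)

/-- the statement of CNTMM `ome_ell_count_ce` -/
theorem omecntmm_h14full {F : Type*} [Field F] [Fintype F] {p : ℕ} [Fact p.Prime] [CharP F p]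
    (d m : ℕ) (hm : 2 ≤ m) (hme : Even m) (hmn : m + 2 ≤ 2 * d) (a b : F)
    (hab : ∀ x y : F, x ^ 2 + a * x * y + b * y ^ 2 = 0 → x = 0 ∧ y = 0)
    (r : ℕ) [Fact r.Prime] (hrp : r ≠ p)
    (hr2 : r ≠ 2) (i : ℕ) (hi : i = orderOf ((Fintype.card F : ℕ) : ZMod r))
    (hr : r ∣ Nat.card (ELLm d m F a b)) : CEm i d (m / 2) :=
  omecntmm_h14 (p := p) (fun d h hh1 hh a b hab W' => omecm2m_h14 d h hh1 hh a b hab W')
    (fun d h hh a b hab r _ hrp hr2 i hi hr => ome_hyp_count_ch d h hh a b hab r hrp hr2 i hi hr)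
    d m hm hme hmn a b hab r hrp hr2 i hi hr

end Cfsg.Agent.Lib.helper8.OME
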