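import Mathlib
import Cfsg.Agent.Lib.Helper18.OPE.Defs
import Cfsg.Agent.Lib.helper17.OPEQCTXO
import Cfsg.Agent.Lib.helper17.OPEQTYSUM
import Cfsg.Agent.Lib.helper17.OPEQTYCLASS
import Cfsg.Agent.Lib.helper17.OPEQOTY
import Cfsg.Agent.Lib.helper17.OPEQPERP
import Cfsg.Agent.Lib.helper17.OPEQPEEL
import Cfsg.Agent.Lib.helper17.ONENDSUPS
import Cfsg.Agent.Lib.Helper24.S5972SPLIT
import Cfsg.Agent.Lib.Helper19.ONETYEX

/-!
# Involutions for ALL even `m ≤ 2d - 2` (helper14; for project OME = S5990, OPE vocabulary)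

`omeinv_compl`: passing to the orthogonal complement of an invariant nondegenerate subspace multiplies the type by the type of the
whole space.  `omeinv_full`: an involutory isometry (`p` odd) of a `2d`-space of type `τ`, `d ≥ 3`, fixes nondegenerate subspaces of
every even dimension `2 ≤ m ≤ 2d - 2` of both types.
-/

set_option autoImplicit false
set_option linter.unusedVariables false
set_option linter.unusedSectionVars false

namespace Cfsg.Agent.Lib.Helper18.OPE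

open Polynomial Module Cfsg.Agent.Lib.Helper13.S5955 Cfsg.Agent.Lib.helper15.S5972

theorem omeinv_ty_eq {F : Type*} [Field F] [Fintype F] {V : Type*} [AddCommGroup V] [Module F V]
    (Q : QuadraticForm F V) (W : Submodule F V) (a b : ℤ) (ha : a = 1 ∨ a = -1) (hb : b = 1 ∨ b = -1)
    (h1 : QTy Q W a) (h2 : QTy Q W b) : a = b := by
  rcases ha with rfl | rfl <;> rcases hb with rfl | rfl
  · rfl
  · exact (qty_uniq Q W h1 h2).elim
  · exact (qty_uniq Q W h2 h1).elim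
  · rfl

/-- the orthogonal complement of an invariant nondegenerate subspace of type `s'` has type `τ * s'` -/
theorem omeinv_compl {F : Type*} [Field F] [Fintype F] {V : Type*} [AddCommGroup V] [Module F V]
    [FiniteDimensional F V] {r : ℕ} (hr : 0 < r) {Q : QuadraticForm F V} {x : Module.End F V}
    (h : QCtx r Q x) (d : ℕ) (hV : finrank F V = 2 * d) (τ : ℤ) (hτ : τ = 1 ∨ τ = -1)
    (hty : QTy Q (⊤ : Submodule F V) τ) (e : ℕ) (he : Even e) (s' : ℤ) (hs' : s' = 1 ∨ s' = -1)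
    (hW : QNDt Q x e s') : QNDt Q x (2 * d - e) (τ * s') := by
  obtain ⟨W, hWi, hWnd, hWe, hWs⟩ := hW
  obtain ⟨hPi, hPnd, hcompl, horth, hdim⟩ := q_perp hr h W hWi hWnd
  have hPd : finrank F ↥(LinearMap.BilinForm.orthogonal (QuadraticMap.polarBilin Q) W) = 2 * d - e := by omega
  have hPev : Even (finrank F ↥(LinearMap.BilinForm.orthogonal (QuadraticMap.polarBilin Q) W)) := by
    obtain ⟨j, hj⟩ := he
    exact ⟨d - j, by omega⟩
  have key : ∀ s'' : ℤ, (s'' = 1 ∨ s'' = -1) →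
      QTy Q (LinearMap.BilinForm.orthogonal (QuadraticMap.polarBilin Q) W) s'' → s'' = τ * s' := by
    intro s'' hs'' hP
    have hsum := qty_sum Q W _ hWnd hPnd horth (by rw [hWe]; exact he) hPev s' s'' hWs hP
    rw [hcompl.sup_eq_top] at hsum
    have hprod : s' * s'' = 1 ∨ s' * s'' = -1 := by
      rcases hs' with rfl | rfl <;> rcases hs'' with rfl | rfl <;> simp
    have heq := omeinv_ty_eq Q ⊤ _ _ hprod hτ hsum hty
    rcases hs' with rfl | rfl
    · linarith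
    · linarith
  refine ⟨_, hPi, hPnd, hPd, ?_⟩
  rcases qty_class Q _ hPnd hPev with ⟨-, hP⟩ | ⟨-, hP⟩
  · rw [← key 1 (Or.inl rfl) hP]
    exact hP
  · rw [← key (-1) (Or.inr rfl) hP]
    exact hP

/-- an involutory isometry, `p` odd, of a `2d`-space of type `τ` fixes nondegenerate subspaces of every even dimension
`2 ≤ m ≤ 2d - 2` of both types -/
theorem omeinv_full {F : Type*} [Field F] [Fintype F] {p : ℕ} [Fact p.Prime] [CharP F p]
    (hp2 : p ≠ 2) {V : Type*} [AddCommGroup V] [Module F V] [FiniteDimensional F V]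
    {Q : QuadraticForm F V} {x : Module.End F V} (h : QCtx 2 Q x)
    (d m : ℕ) (hV : finrank F V = 2 * d) (hd : 3 ≤ d) (τ : ℤ) (hτ : τ = 1 ∨ τ = -1)
    (hty : QTy Q (⊤ : Submodule F V) τ) (hme : Even m) (hm : 2 ≤ m) (hmn : m + 2 ≤ 2 * d)
    (s : ℤ) (hs : s = 1 ∨ s = -1) : QNDt Q x m s := by
  haveI : Fact (Nat.Prime 2) := ⟨Nat.prime_two⟩
  have h2 : (2 : F) ≠ 0 := by
    intro h0
    have h1 : ((2 : ℕ) : F) = 0 := by exact_mod_cast h0
    have h3 : p ∣ 2 := (CharP.cast_eq_zero_iff F p 2).mp h1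
    exact hp2 ((Nat.prime_dvd_prime_iff_eq (Fact.out : p.Prime) Nat.prime_two).mp h3)
  have ho := qctx_octx h
  obtain ⟨horth, hcompl, hndp, hndm⟩ := o_split (r := 2) (Ne.symm hp2) ho
  have hdim : finrank F (fixS x) + finrank F (cycS 2 x) = 2 * d := by
    rw [Submodule.finrank_add_eq_of_isCompl hcompl, hV]
  have hfix : ∀ u ∈ fixS x, x u = u := by
    intro u hu
    unfold fixS at hu
    rw [LinearMap.mem_ker] at hu
    simp only [map_sub, aeval_X, map_one, LinearMap.sub_apply, Module.End.one_apply] at hu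
    exact sub_eq_zero.mp hu
  have hcyc : ∀ u ∈ cycS 2 x, x u = -u := by
    intro u hu
    unfold cycS at hu
    rw [Polynomial.cyclotomic_two, LinearMap.mem_ker] at hu
    simp only [map_add, aeval_X, map_one, LinearMap.add_apply, Module.End.one_apply] at hu
    exact eq_neg_of_add_eq_zero_left hu
  -- subspaces inside the eigenspaces
  have hAf : ∀ e : ℕ, Even e → 0 < e → e < finrank F (fixS x) → ∀ s : ℤ, (s = 1 ∨ s = -1) →
      ∃ W : Submodule F V, W ≤ fixS x ∧ SInv x W ∧ SND (QuadraticMap.polarBilin Q) W ∧ finrank F W = e ∧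
        QTy Q W s := by
    intro e hee he0 hef s hs
    obtain ⟨W, hWN, hWnd, hWd, hWs⟩ := Cfsg.Agent.Lib.Helper18.ONE.ty_ex h2 (QuadraticMap.polarBilin Q)
      (opeqtysum_symm Q) (fixS x) hndp e hee he0 hef s hs
    refine ⟨W, hWN, ?_, hWnd, hWd, ((q_oty h2 Q W s).1).mpr hWs⟩
    intro w hw
    rw [hfix w (hWN hw)]
    exact hw
  have hAg : ∀ e : ℕ, Even e → 0 < e → e < finrank F (cycS 2 x) → ∀ s : ℤ, (s = 1 ∨ s = -1) →
      ∃ W : Submodule F V, W ≤ cycS 2 x ∧ SInv x W ∧ SND (QuadraticMap.polarBilin Q) W ∧ finrank F W = e ∧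
        QTy Q W s := by
    intro e hee he0 heg s hs
    obtain ⟨W, hWN, hWnd, hWd, hWs⟩ := Cfsg.Agent.Lib.Helper18.ONE.ty_ex h2 (QuadraticMap.polarBilin Q)
      (opeqtysum_symm Q) (cycS 2 x) hndm e hee he0 heg s hs
    refine ⟨W, hWN, ?_, hWnd, hWd, ((q_oty h2 Q W s).1).mpr hWs⟩
    intro w hw
    rw [hcyc w (hWN hw)]
    exact W.neg_mem hw
  have hA : ∀ e : ℕ, Even e → 0 < e → (e < finrank F (fixS x) ∨ e < finrank F (cycS 2 x)) →
      ∀ s : ℤ, (s = 1 ∨ s = -1) → QNDt Q x e s := by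
    intro e hee he0 hlt s hs
    rcases hlt with hlt | hlt
    · obtain ⟨W, -, hWi, hWnd, hWd, hWs⟩ := hAf e hee he0 hlt s hs
      exact ⟨W, hWi, hWnd, hWd, hWs⟩
    · obtain ⟨W, -, hWi, hWnd, hWd, hWs⟩ := hAg e hee he0 hlt s hs
      exact ⟨W, hWi, hWnd, hWd, hWs⟩
  have hτs : τ * s = 1 ∨ τ * s = -1 := by
    rcases hτ with rfl | rfl <;> rcases hs with rfl | rfl <;> simp
  have hττ : τ * (τ * s) = s := by
    rcases hτ with rfl | rfl <;> ring
  obtain ⟨j, hj⟩ := hme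
  by_cases h1 : m < finrank F (fixS x) ∨ m < finrank F (cycS 2 x)
  · exact hA m ⟨j, hj⟩ (by omega) h1 s hs
  push Not at h1
  by_cases h3 : 2 * d - m < finrank F (fixS x) ∨ 2 * d - m < finrank F (cycS 2 x)
  · have hW' := hA (2 * d - m) ⟨d - j, by omega⟩ (by omega) h3 (τ * s) hτs
    have := omeinv_compl (r := 2) (by norm_num) h d hV τ hτ hty (2 * d - m) ⟨d - j, by omega⟩ (τ * s) hτs hW'
    rw [hττ, show 2 * d - (2 * d - m) = m by omega] at this
    exact this
  push Not at h3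
  -- the corner `f = g = d = m`
  have hfd : finrank F (fixS x) = d := by omega
  have hgd : finrank F (cycS 2 x) = d := by omega
  have hmd : m = d := by omega
  obtain ⟨W₁, hW₁le, hW₁i, hW₁nd, hW₁d, hW₁s⟩ := hAf 2 ⟨1, rfl⟩ (by norm_num) (by omega) s hs
  obtain ⟨W₂, hW₂le, hW₂i, hW₂nd, hW₂d, hW₂s⟩ := hAg (d - 2) ⟨j - 1, by omega⟩ (by omega) (by omega) 1 (Or.inl rfl)
  have ho12 : SOrth (QuadraticMap.polarBilin Q) W₁ W₂ := fun u hu w hw => horth u (hW₁le hu) w (hW₂le hw)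
  obtain ⟨hnd, -, hdimsum⟩ := Cfsg.Agent.Lib.Helper18.ONE.nd_sup_symm (QuadraticMap.polarBilin Q)
    (opeqtysum_symm Q) W₁ W₂ hW₁nd hW₂nd ho12
  refine ⟨W₁ ⊔ W₂, opeqpeel_sup_inv W₁ W₂ hW₁i hW₂i, hnd, by omega, ?_⟩
  have := qty_sum Q W₁ W₂ hW₁nd hW₂nd ho12 (by rw [hW₁d]; exact ⟨1, rfl⟩)
    (by rw [hW₂d]; exact ⟨j - 1, by omega⟩) s 1 hW₁s hW₂s
  rwa [mul_one] at this

end Cfsg.Agent.Lib.Helper18.OPE
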