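import Mathlib
import Cfsg.Agent.Lib.Helper18.OPE.Defs
import Cfsg.Agent.Lib.helper14.OMEINVFULL
import Cfsg.Agent.Lib.helper14.ODNTWONEC
import Cfsg.Agent.Lib.helper14.ODNEXMINUS
import Cfsg.Agent.Lib.helper14.ODNTWOSTDcore
import Cfsg.Agent.Lib.helper15.SQMA
import Cfsg.Agent.Lib.helper17.OPEQPEEL
import Cfsg.Agent.Lib.Helper28.OPESQPLANE
import Cfsg.Agent.Lib.Helper16.OHelp
import Cfsg.Agent.Lib.Helper16.OCnt2

/-!
# The `r = 2 ≠ p` clause of S5990 (project OME) on the standard minus space (helper14, OPE vocabulary)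

`ometwo_neg_ladder`: generic `Qs`, `x * x = -1`: every invariant nondegenerate `N` has even dimension and type `t ^ (dim N / 2)`
(`t = 1` for `q ≡ 1 (4)`, `t = -1` for `q ≡ 3 (4)`), with the ladder of invariant nondegenerate subspaces.
`ometwo_suff` / `ometwo_nec`: every `x ∈ Ω⁻_{2d}(q)` (`q` odd) with `x²` scalar, `x` not scalar fixes an elliptic nondegenerate
`m`-space (`m` even, `2 ≤ m ≤ 2d - 2`) iff `Even d ∨ q % 8 ≠ 7 ∨ m % 4 = 2`.
-/

set_option autoImplicit false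
set_option linter.unusedVariables false
set_option linter.unusedSectionVars false

namespace Cfsg.Agent.Lib.Helper18.OPE

open Polynomial Module Cfsg.Agent.Lib.Helper13.S5955 Cfsg.Agent.Lib.helper15.S5972
open scoped Matrix

/-- the quadratic context of an isometry matrix, generic `Qs` -/
theorem ometwo_qctx {F : Type*} [Field F] {ι : Type} [Fintype ι] [DecidableEq ι]
    (Qs : QuadraticForm F (ι → F)) (hnd : (QuadraticMap.polarBilin Qs).Nondegenerate) (r : ℕ) (x : GL ι F)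
    (hxO : x ∈ Cfsg.isometryGroup F ⇑Qs) (hxr : x ^ r = 1) :
    QCtx r Qs (Matrix.toLin' (x : Matrix ι ι F)) := by
  refine ⟨fun u hu => hnd.1 u hu, ?_, ?_⟩
  · intro v
    rw [Matrix.toLin'_apply]
    exact hxO v v
  · have h1 : ((x ^ r : GL ι F) : Matrix ι ι F) = 1 := by rw [hxr]; rfl
    rw [Units.val_pow_eq_pow_val] at h1
    rw [← Matrix.toLin'_pow, h1, Matrix.toLin'_one]
    rfl

theorem ometwo_neg_ladder {F : Type*} [Field F] [Fintype F] (h2 : (2 : F) ≠ 0) {ι : Type} [Fintype ι]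
    [DecidableEq ι] (Qs : QuadraticForm F (ι → F)) (hnd : (QuadraticMap.polarBilin Qs).Nondegenerate)
    (x : GL ι F) (hxO : x ∈ Cfsg.isometryGroup F ⇑Qs)
    (hxx : (x : Matrix ι ι F) * (x : Matrix ι ι F) = -1) :
    ∃ t : ℤ, ((t = 1 ∧ Fintype.card F % 4 = 1) ∨ (t = -1 ∧ Fintype.card F % 4 = 3)) ∧
      ∀ N : Submodule F (ι → F), SInv (Matrix.toLin' (x : Matrix ι ι F)) N →
        SND (QuadraticMap.polarBilin Qs) N →
        Even (finrank F N) ∧ QTy Qs N (t ^ (finrank F N / 2)) ∧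
          ∀ k : ℕ, 2 * k ≤ finrank F N → ∃ W : Submodule F (ι → F), W ≤ N ∧
            SInv (Matrix.toLin' (x : Matrix ι ι F)) W ∧ SND (QuadraticMap.polarBilin Qs) W ∧
            finrank F W = 2 * k ∧ QTy Qs W (t ^ k) := by
  have hx4 : x ^ 4 = 1 := by
    apply Units.ext
    have : ((x ^ 4 : GL ι F) : Matrix ι ι F) =
        ((x : Matrix ι ι F) * (x : Matrix ι ι F)) * ((x : Matrix ι ι F) * (x : Matrix ι ι F)) := by
      rw [Units.val_pow_eq_pow_val]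
      noncomm_ring
    rw [this, hxx]
    simp
  have hctx := ometwo_qctx Qs hnd 4 x hxO hx4
  have hxx' : Matrix.toLin' (x : Matrix ι ι F) * Matrix.toLin' (x : Matrix ι ι F) = -1 := by
    rw [Module.End.mul_eq_comp, ← Matrix.toLin'_mul, hxx, map_neg, Matrix.toLin'_one]
    rfl
  by_cases hsq : IsSquare (-1 : F)
  · obtain ⟨ι₀, hι⟩ := hsq
    have hq4 : Fintype.card F % 4 = 1 := by
      have hodd : Fintype.card F % 2 = 1 := by
        by_contra hcon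
        have h0 : Fintype.card F % 2 = 0 := by omega
        rw [← FiniteField.even_card_iff_char_two] at h0
        apply h2
        have := ringChar.Nat.cast_ringChar (R := F)
        rw [h0] at this
        exact_mod_cast this
      have := FiniteField.isSquare_neg_one_iff.1 ⟨ι₀, hι⟩
      omega
    refine ⟨1, Or.inl ⟨rfl, hq4⟩, ?_⟩
    intro N hN hNnd
    exact q_peel (r := 4) (by norm_num) hctx 1
      (fun N' hN' hNnd' hN0' => q_sq_split_plane h2 hctx hxx' ι₀ hι.symm N' hN' hNnd' hN0') N hN hNnd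
  · have hq4 : Fintype.card F % 4 = 3 := by
      have hodd : Fintype.card F % 2 = 1 := by
        by_contra hcon
        have h0 : Fintype.card F % 2 = 0 := by omega
        rw [← FiniteField.even_card_iff_char_two] at h0
        apply h2
        have := ringChar.Nat.cast_ringChar (R := F)
        rw [h0] at this
        exact_mod_cast this
      have := mt FiniteField.isSquare_neg_one_iff.2 hsq
      omega
    refine ⟨-1, Or.inr ⟨rfl, hq4⟩, ?_⟩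
    intro N hN hNnd
    exact q_peel (r := 4) (by norm_num) hctx (-1)
      (fun N' hN' hNnd' hN0' => q_sq_nonsplit_plane h2 hctx hxx' (fun a ha => hsq ⟨a, ha.symm⟩) N' hN' hNnd' hN0')
      N hN hNnd

section std
variable {F : Type*} [Field F] [Fintype F]

/-- facts about the standard minus space -/
theorem ometwo_std_facts (k : ℕ) (a b : F)
    (hab : ∀ x y : F, x ^ 2 + a * x * y + b * y ^ 2 = 0 → x = 0 ∧ y = 0) :
    finrank F ((Fin k ⊕ Fin k) ⊕ Fin 2 → F) = 2 * (k + 1) ∧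
      QTy (Cfsg.Agent.Lib.Helper16.qfMinus k F a b) (⊤ : Submodule F ((Fin k ⊕ Fin k) ⊕ Fin 2 → F)) (-1) := by
  have hfr : finrank F ((Fin k ⊕ Fin k) ⊕ Fin 2 → F) = 2 * (k + 1) := by
    rw [Module.finrank_fintype_fun_eq_card, Fintype.card_sum, Fintype.card_sum, Fintype.card_fin, Fintype.card_fin]
    omega
  refine ⟨hfr, ?_⟩
  unfold QTy
  have hd : finrank F ↥(⊤ : Submodule F ((Fin k ⊕ Fin k) ⊕ Fin 2 → F)) / 2 = k + 1 := by
    rw [finrank_top, hfr]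
    omega
  rw [hd]
  refine (Cfsg.Agent.Lib.Helper16.OSemi.isType_congr
    (Submodule.topEquiv (R := F) (M := (Fin k ⊕ Fin k) ⊕ Fin 2 → F)).toEquiv
    (Cfsg.quadFormMinus k F a b) _ ?_ (k + 1) (-1)).mp (Cfsg.Agent.Lib.Helper16.OSemi.isType_minus k a b hab)
  intro w
  rfl

/-- SUFFICIENCY for `r = 2 ≠ p` on the standard minus space `quadFormMinus k`, `d = k + 1` -/
theorem ometwo_suff {p : ℕ} [Fact p.Prime] [CharP F p] (hp2 : p ≠ 2) (k m : ℕ) (hk : 2 ≤ k) (a b : F)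
    (hab : ∀ x y : F, x ^ 2 + a * x * y + b * y ^ 2 = 0 → x = 0 ∧ y = 0)
    (hm : 2 ≤ m) (hme : Even m) (hmn : m + 2 ≤ 2 * (k + 1))
    (hcond : Even (k + 1) ∨ Fintype.card F % 8 ≠ 7 ∨ m % 4 = 2)
    (x : GL ((Fin k ⊕ Fin k) ⊕ Fin 2) F) (hx : x ∈ Cfsg.Geo.omegaGL (Cfsg.quadFormMinus k F a b))
    (hz : ∃ z : F, ((x ^ 2 : GL ((Fin k ⊕ Fin k) ⊕ Fin 2) F) : Matrix ((Fin k ⊕ Fin k) ⊕ Fin 2) ((Fin k ⊕ Fin k) ⊕ Fin 2) F) =
      z • (1 : Matrix ((Fin k ⊕ Fin k) ⊕ Fin 2) ((Fin k ⊕ Fin k) ⊕ Fin 2) F)) :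
    QNDt (Cfsg.Agent.Lib.Helper16.qfMinus k F a b)
      (Matrix.toLin' (x : Matrix ((Fin k ⊕ Fin k) ⊕ Fin 2) ((Fin k ⊕ Fin k) ⊕ Fin 2) F)) m (-1) := by
  have h2 : (2 : F) ≠ 0 := by
    intro h0
    have h1 : ((2 : ℕ) : F) = 0 := by exact_mod_cast h0
    have h3 : p ∣ 2 := (CharP.cast_eq_zero_iff F p 2).mp h1
    exact hp2 ((Nat.prime_dvd_prime_iff_eq (Fact.out : p.Prime) Nat.prime_two).mp h3)
  have hodd : Odd (Fintype.card F) := by
    rw [Nat.odd_iff]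
    by_contra hcon
    have h0 : Fintype.card F % 2 = 0 := by omega
    rw [← FiniteField.even_card_iff_char_two] at h0
    apply h2
    have := ringChar.Nat.cast_ringChar (R := F)
    rw [h0] at this
    exact_mod_cast this
  have hnd := Cfsg.Agent.Lib.Helper16.OSemi.qfMinus_nondeg k a b hab
  obtain ⟨hV, hτ⟩ := ometwo_std_facts k a b hab
  have hxO := Cfsg.Agent.Lib.helper14.ODNSQ.odnsq_omegaGL_le _ x hx
  have hne : ∃ v, Cfsg.Agent.Lib.Helper16.qfMinus k F a b v ≠ 0 :=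
    Cfsg.Agent.Lib.Helper1.ODN.odntwostd_exists_ne h2 _ hnd (by
      rw [Fintype.card_sum, Fintype.card_sum, Fintype.card_fin, Fintype.card_fin]; omega)
  obtain ⟨z, hz⟩ := hz
  rcases Cfsg.Agent.Lib.helper15.SQM.sqm_scalar (Cfsg.Agent.Lib.Helper16.qfMinus k F a b) hne x hxO z hz with rfl | rfl
  · -- involution
    have hx2 : x ^ 2 = 1 := by
      apply Units.ext
      rw [hz]
      simp
    have hctx := ometwo_qctx _ hnd 2 x hxO hx2
    exact omeinv_full (p := p) hp2 hctx (k + 1) m hV (by omega) (-1) (Or.inr rfl) hτ hme hm hmn (-1) (Or.inr rfl)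
  · -- `x * x = -1`
    have hxx : (x : Matrix ((Fin k ⊕ Fin k) ⊕ Fin 2) ((Fin k ⊕ Fin k) ⊕ Fin 2) F) *
        (x : Matrix ((Fin k ⊕ Fin k) ⊕ Fin 2) ((Fin k ⊕ Fin k) ⊕ Fin 2) F) = -1 := by
      have : ((x ^ 2 : GL ((Fin k ⊕ Fin k) ⊕ Fin 2) F) : Matrix ((Fin k ⊕ Fin k) ⊕ Fin 2) ((Fin k ⊕ Fin k) ⊕ Fin 2) F) =
          (x : Matrix ((Fin k ⊕ Fin k) ⊕ Fin 2) ((Fin k ⊕ Fin k) ⊕ Fin 2) F) *
            (x : Matrix ((Fin k ⊕ Fin k) ⊕ Fin 2) ((Fin k ⊕ Fin k) ⊕ Fin 2) F) := by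
        rw [pow_two, Units.val_mul]
      rw [← this, hz]
      simp
    have hcard : Fintype.card ((Fin k ⊕ Fin k) ⊕ Fin 2) = 2 * (k + 1) := by
      rw [Fintype.card_sum, Fintype.card_sum, Fintype.card_fin, Fintype.card_fin]
      omega
    have hnec := Cfsg.Agent.Lib.Helper1.ODN.odn_two_nec hodd (Cfsg.Agent.Lib.Helper16.qfMinus k F a b) hnd
      (k + 1) (by omega) hcard (-1) (Or.inr rfl) (Cfsg.Agent.Lib.Helper16.OSemi.isType_minus k a b hab)
      ⟨x, hx, hxx⟩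
    have hd8 : Odd (k + 1) ∧ Fintype.card F % 8 = 7 := by
      rcases hnec with ⟨h, -⟩ | ⟨-, h⟩
      · norm_num at h
      · exact h
    have hm4 : m % 4 = 2 := by
      rcases hcond with h | h | h
      · exact absurd h (Nat.not_even_iff_odd.2 hd8.1)
      · exact absurd hd8.2 h
      · exact h
    obtain ⟨t, ht, hlad⟩ := ometwo_neg_ladder h2 _ hnd x hxO hxx
    have ht1 : t = -1 := by
      rcases ht with ⟨-, hq⟩ | ⟨h, -⟩
      · omega
      · exact h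
    subst ht1
    obtain ⟨-, -, hk'⟩ := hlad ⊤ (fun w _ => Submodule.mem_top)
      (fun u _ hu => hnd.1 u (fun v => hu v Submodule.mem_top))
    rw [finrank_top, hV] at hk'
    obtain ⟨W, -, hWi, hWnd, hWm, hWt⟩ := hk' (m / 2) (by omega)
    refine ⟨W, hWi, hWnd, by omega, ?_⟩
    have hodd2 : Odd (m / 2) := by
      rw [Nat.odd_iff]
      omega
    rwa [hodd2.neg_one_pow] at hWt

/-- NECESSITY for `r = 2 ≠ p` on the standard minus space: if `d = k + 1` is odd, `q ≡ 7 (mod 8)` and `4 ∣ m`, some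
`x ∈ Ω⁻` with `x² = -1` (not scalar) fixes no elliptic nondegenerate `m`-space. -/
theorem ometwo_nec (hq : Fintype.card F % 8 = 7) (k m : ℕ) (hkd : Odd (k + 1)) (a b : F)
    (hab : ∀ x y : F, x ^ 2 + a * x * y + b * y ^ 2 = 0 → x = 0 ∧ y = 0) (hm4 : m % 4 = 0) :
    ∃ x : GL ((Fin k ⊕ Fin k) ⊕ Fin 2) F, x ∈ Cfsg.Geo.omegaGL (Cfsg.quadFormMinus k F a b) ∧
      ((x ^ 2 : GL ((Fin k ⊕ Fin k) ⊕ Fin 2) F) : Matrix ((Fin k ⊕ Fin k) ⊕ Fin 2) ((Fin k ⊕ Fin k) ⊕ Fin 2) F) =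
        (-1 : F) • (1 : Matrix ((Fin k ⊕ Fin k) ⊕ Fin 2) ((Fin k ⊕ Fin k) ⊕ Fin 2) F) ∧
      (∀ z : F, (x : Matrix ((Fin k ⊕ Fin k) ⊕ Fin 2) ((Fin k ⊕ Fin k) ⊕ Fin 2) F) ≠
        z • (1 : Matrix ((Fin k ⊕ Fin k) ⊕ Fin 2) ((Fin k ⊕ Fin k) ⊕ Fin 2) F)) ∧
      ¬ QNDt (Cfsg.Agent.Lib.Helper16.qfMinus k F a b)
        (Matrix.toLin' (x : Matrix ((Fin k ⊕ Fin k) ⊕ Fin 2) ((Fin k ⊕ Fin k) ⊕ Fin 2) F)) m (-1) := by
  have h2 : (2 : F) ≠ 0 := Cfsg.Agent.Lib.Helper1.ODN.odnexplusodd_two_ne (by rw [Nat.odd_iff]; omega)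
  have hnd := Cfsg.Agent.Lib.Helper16.OSemi.qfMinus_nondeg k a b hab
  have hex : ∃ x : GL ((Fin k ⊕ Fin k) ⊕ Fin 2) F, x ∈ Cfsg.Geo.omegaGL (Cfsg.quadFormMinus k F a b) ∧
      (x : Matrix ((Fin k ⊕ Fin k) ⊕ Fin 2) ((Fin k ⊕ Fin k) ⊕ Fin 2) F) *
        (x : Matrix ((Fin k ⊕ Fin k) ⊕ Fin 2) ((Fin k ⊕ Fin k) ⊕ Fin 2) F) = -1 :=
    Cfsg.Agent.Lib.Helper1.ODN.odn_ex_minus hq (k + 1) hkd a b hab
  obtain ⟨x, hx, hxx⟩ := hex
  have hxO := Cfsg.Agent.Lib.helper14.ODNSQ.odnsq_omegaGL_le _ x hx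
  have hns : ¬ IsSquare (-1 : F) := by
    rw [FiniteField.isSquare_neg_one_iff]
    omega
  refine ⟨x, hx, ?_, ?_, ?_⟩
  · rw [pow_two, Units.val_mul, hxx]
    simp
  · intro z hz
    have h3 := hxx
    rw [hz] at h3
    have h4 := congrFun (congrFun h3 (Sum.inr 0)) (Sum.inr 0)
    have h5 : z * z = -1 := by simpa using h4
    exact hns ⟨z, h5.symm⟩
  · rintro ⟨W, hWi, hWnd, hWm, hWt⟩
    obtain ⟨t, ht, hlad⟩ := ometwo_neg_ladder h2 _ hnd x hxO hxx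
    have ht1 : t = -1 := by
      rcases ht with ⟨-, hq'⟩ | ⟨h, -⟩
      · omega
      · exact h
    subst ht1
    obtain ⟨-, hty, -⟩ := hlad W hWi hWnd
    rw [hWm] at hty
    have hev2 : Even (m / 2) := ⟨m / 4, by omega⟩
    rw [hev2.neg_one_pow] at hty
    exact qty_uniq _ _ hty hWt

end std

end Cfsg.Agent.Lib.Helper18.OPE
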