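import Mathlib
import Cfsg.Agent.Lib.helper8.OME.Defs
import Cfsg.Agent.Lib.helper14.OMEINVFULL
import Cfsg.Agent.Lib.helper14.OMETWO

set_option autoImplicit false

/-!
# Project OME (designer helper8), rows QINVOLALL, TWOSUFFODD, TWONECODD (helper14).
Thin wrappers of `omeinv_full`, `ometwo_suff`, `ometwo_nec` (helper14/OMEINVFULL.lean, helper14/OMETWO.lean).
-/

namespace Cfsg.Agent.Lib.helper8.OME

open Polynomial Module Cfsg.Agent.Lib.Helper13.S5955 Cfsg.Agent.Lib.helper15.S5972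
  Cfsg.Agent.Lib.Helper18.OPE
open scoped Matrix

/-- QINVOLALL -/
theorem q_invol_all {F : Type*} [Field F] [Fintype F] {p : ℕ} [Fact p.Prime] [CharP F p]
    (hp2 : p ≠ 2) {V : Type*} [AddCommGroup V] [Module F V] [FiniteDimensional F V]
    {Q : QuadraticForm F V} {x : Module.End F V} (h : QCtx 2 Q x)
    (d m : ℕ) (hd : 3 ≤ d) (hV : finrank F V = 2 * d) (hme : Even m) (hm0 : 0 < m)
    (hmn : m + 2 ≤ 2 * d) (s : ℤ) (hs : s = 1 ∨ s = -1) : QNDt Q x m s := by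
  have hnd : SND (QuadraticMap.polarBilin Q) (⊤ : Submodule F V) :=
    fun u _ hu => h.nd u (fun v => hu v Submodule.mem_top)
  have hev : Even (finrank F (⊤ : Submodule F V)) := by
    rw [finrank_top, hV]; exact even_two_mul d
  have hm2 : 2 ≤ m := by
    obtain ⟨j, hj⟩ := hme
    omega
  rcases qty_class Q ⊤ hnd hev with ⟨-, hty⟩ | ⟨-, hty⟩
  · exact omeinv_full hp2 h d m hV hd 1 (Or.inl rfl) hty hme hm2 hmn s hs
  · exact omeinv_full hp2 h d m hV hd (-1) (Or.inr rfl) hty hme hm2 hmn s hs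

/-- from `QNDt` to `FixM` (standard minus space, index `k + 1`) -/
theorem omeqinvolall_fix_of_qndt {F : Type*} [Field F] [Fintype F] (d m : ℕ) (s : ℤ) (a b : F)
    (x : Matrix (MI d) (MI d) F)
    (h : QNDt (Qm d F a b) (Matrix.toLin' x) m s) : FixM d m s a b x := by
  obtain ⟨W, hWi, hWnd, hWm, hWt⟩ := h
  refine ⟨W, hWm, hWnd, hWt, ?_⟩
  rintro _ ⟨w, hw, rfl⟩
  exact hWi w hw

/-- from `FixM` to `QNDt` -/
theorem omeqinvolall_qndt_of_fix {F : Type*} [Field F] [Fintype F] (d m : ℕ) (s : ℤ) (a b : F)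
    (x : Matrix (MI d) (MI d) F)
    (h : FixM d m s a b x) : QNDt (Qm d F a b) (Matrix.toLin' x) m s := by
  obtain ⟨W, hWm, hWnd, hWt, hWi⟩ := h
  refine ⟨W, ?_, hWnd, hWm, hWt⟩
  intro w hw
  exact hWi ⟨w, hw, rfl⟩

/-- TWOSUFFODD -/
theorem ome_two_suff_odd {F : Type*} [Field F] [Fintype F] {p : ℕ} [Fact p.Prime] [CharP F p]
    (hp2 : p ≠ 2) (d m : ℕ) (hd : 4 ≤ d) (hm : 2 ≤ m) (hme : Even m) (hmn : m + 2 ≤ 2 * d)
    (a b : F) (hab : ∀ x y : F, x ^ 2 + a * x * y + b * y ^ 2 = 0 → x = 0 ∧ y = 0)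
    (hcond : Even d ∨ Fintype.card F % 8 ≠ 7 ∨ m % 4 = 2) : AllFixM F d m (-1) 2 a b := by
  obtain ⟨k, rfl⟩ : ∃ k, d = k + 1 := ⟨d - 1, by omega⟩
  intro x hx hz _
  apply omeqinvolall_fix_of_qndt
  exact ometwo_suff hp2 k m (by omega) a b hab hm hme hmn hcond x hx hz

/-- TWONECODD -/
theorem ome_two_nec_odd {F : Type*} [Field F] [Fintype F] {p : ℕ} [Fact p.Prime] [CharP F p]
    (hp2 : p ≠ 2) (d m : ℕ) (hd : 4 ≤ d) (hm : 2 ≤ m) (hme : Even m) (hmn : m + 2 ≤ 2 * d)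
    (a b : F) (hab : ∀ x y : F, x ^ 2 + a * x * y + b * y ^ 2 = 0 → x = 0 ∧ y = 0)
    (hall : AllFixM F d m (-1) 2 a b) : Even d ∨ Fintype.card F % 8 ≠ 7 ∨ m % 4 = 2 := by
  by_contra hcon
  push_neg at hcon
  obtain ⟨hdo, hq, hm4⟩ := hcon
  obtain ⟨k, rfl⟩ : ∃ k, d = k + 1 := ⟨d - 1, by omega⟩
  have hm0 : m % 4 = 0 := by
    obtain ⟨j, hj⟩ := hme
    omega
  obtain ⟨x, hx, hxx, hns, hno⟩ := ometwo_nec hq k m (Nat.not_even_iff_odd.mp hdo) a b hab hm0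
  apply hno
  apply omeqinvolall_qndt_of_fix (k + 1) m (-1) a b
  exact hall x hx ⟨-1, hxx⟩ hns

end Cfsg.Agent.Lib.helper8.OME
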