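import Mathlib
import Cfsg.Agent.Lib.Helper18.OPE.Defs2
import Cfsg.Agent.Lib.helper15.SQMA
import Cfsg.Agent.Lib.helper17.OPEQCTXO
import Cfsg.Agent.Lib.helper17.OPEQINVOL
import Cfsg.Agent.Lib.helper17.OPEQPEEL
import Cfsg.Agent.Lib.Helper28.OPESQNEG
import Cfsg.Agent.Lib.Helper28.OPESQPLANE
import Cfsg.Agent.Lib.Helper24.OPESTDCTX
import Cfsg.Agent.Lib.Helper16.OA52

/-!
# OPE rows TWOSUFF74 / TWONEC74, cores (helper14): the `r = 2` clause of S5974 on the standard hyperbolic space.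

`opetwo74_suff_core` takes the statement of ESUFF (`e_suff`, characteristic 2) as a hypothesis;
`opetwo74_nec_core` takes the statements of UEX (`u_ex`) and UFOUR (`u_four`) as hypotheses.
-/

set_option autoImplicit false
set_option linter.unusedVariables false
set_option linter.unusedSectionVars false

namespace Cfsg.Agent.Lib.Helper18.OPE

open Polynomial Module Cfsg.Agent.Lib.Helper13.S5955 Cfsg.Agent.Lib.helper15.S5972
open scoped Matrix

section aux
variable {F : Type*} [Field F]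

/-- `omegaGL ≤ isometryGroup` -/
theorem opetwo74_omega_le (d : ℕ) (x : GL (Fin d ⊕ Fin d) F)
    (hx : x ∈ Cfsg.Geo.omegaGL (Cfsg.quadFormPlus d F)) : x ∈ Cfsg.isometryGroup F (Cfsg.quadFormPlus d F) := by
  unfold Cfsg.Geo.omegaGL at hx
  rw [Subgroup.mem_map] at hx
  obtain ⟨g, -, rfl⟩ := hx
  exact g.2

/-- from `QNDt` to `Fix` -/
theorem opetwo74_fix_of_qndt [Fintype F] (d m : ℕ) (s : ℤ) (x : Matrix (Fin d ⊕ Fin d) (Fin d ⊕ Fin d) F)
    (h : QNDt (Cfsg.Agent.Lib.Helper16.qfPlus d F) (Matrix.toLin' x) m s) : Fix d m s x := by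
  obtain ⟨W, hWi, hWnd, hWm, hWt⟩ := h
  refine ⟨W, hWm, hWnd, hWt, ?_⟩
  rintro _ ⟨w, hw, rfl⟩
  exact hWi w hw

theorem opetwo74_toLin_sq (d : ℕ) (x : Matrix (Fin d ⊕ Fin d) (Fin d ⊕ Fin d) F)
    (hxx : x * x = -1) : Matrix.toLin' x * Matrix.toLin' x = (-1 : Module.End F (Fin d ⊕ Fin d → F)) := by
  rw [Module.End.mul_eq_comp, ← Matrix.toLin'_mul, hxx, map_neg, Matrix.toLin'_one]
  rfl

theorem opetwo74_top_inv (d : ℕ) (y : Module.End F (Fin d ⊕ Fin d → F)) :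
    SInv y (⊤ : Submodule F (Fin d ⊕ Fin d → F)) := fun w _ => Submodule.mem_top

theorem opetwo74_top_nd (d : ℕ) (r : ℕ) (y : Module.End F (Fin d ⊕ Fin d → F))
    (h : QCtx r (Cfsg.Agent.Lib.Helper16.qfPlus d F) y) :
    SND (QuadraticMap.polarBilin (Cfsg.Agent.Lib.Helper16.qfPlus d F)) (⊤ : Submodule F (Fin d ⊕ Fin d → F)) :=
  fun u _ hu => h.nd u (fun v => hu v Submodule.mem_top)

end aux

/-- the case `x * x = -1` with `q` odd: the peel ladder of type `t` planes -/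
theorem opetwo74_neg_ladder {F : Type*} [Field F] [Fintype F] (h2 : (2 : F) ≠ 0) (d : ℕ)
    (x : GL (Fin d ⊕ Fin d) F) (hxO : x ∈ Cfsg.isometryGroup F (Cfsg.quadFormPlus d F))
    (hxx : (x : Matrix (Fin d ⊕ Fin d) (Fin d ⊕ Fin d) F) * (x : Matrix (Fin d ⊕ Fin d) (Fin d ⊕ Fin d) F) = -1) :
    ∃ t : ℤ, ((t = 1 ∧ Fintype.card F % 4 = 1) ∨ (t = -1 ∧ Fintype.card F % 4 = 3)) ∧
      ∀ N : Submodule F (Fin d ⊕ Fin d → F),
        SInv (Matrix.toLin' (x : Matrix (Fin d ⊕ Fin d) (Fin d ⊕ Fin d) F)) N →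
        SND (QuadraticMap.polarBilin (Cfsg.Agent.Lib.Helper16.qfPlus d F)) N →
        Even (finrank F N) ∧ QTy (Cfsg.Agent.Lib.Helper16.qfPlus d F) N (t ^ (finrank F N / 2)) ∧
          ∀ k : ℕ, 2 * k ≤ finrank F N → ∃ W : Submodule F (Fin d ⊕ Fin d → F), W ≤ N ∧
            SInv (Matrix.toLin' (x : Matrix (Fin d ⊕ Fin d) (Fin d ⊕ Fin d) F)) W ∧
            SND (QuadraticMap.polarBilin (Cfsg.Agent.Lib.Helper16.qfPlus d F)) W ∧ finrank F W = 2 * k ∧
            QTy (Cfsg.Agent.Lib.Helper16.qfPlus d F) W (t ^ k) := by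
  have hx4 : x ^ 4 = 1 := by
    apply Units.ext
    have : ((x ^ 4 : GL (Fin d ⊕ Fin d) F) : Matrix (Fin d ⊕ Fin d) (Fin d ⊕ Fin d) F) =
        ((x : Matrix (Fin d ⊕ Fin d) (Fin d ⊕ Fin d) F) * (x : Matrix (Fin d ⊕ Fin d) (Fin d ⊕ Fin d) F)) *
        ((x : Matrix (Fin d ⊕ Fin d) (Fin d ⊕ Fin d) F) * (x : Matrix (Fin d ⊕ Fin d) (Fin d ⊕ Fin d) F)) := by
      rw [Units.val_pow_eq_pow_val]
      noncomm_ring
    rw [this, hxx]
    simp
  have hctx := std_qctx d 4 x hxO hx4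
  have hxx' : Matrix.toLin' (x : Matrix (Fin d ⊕ Fin d) (Fin d ⊕ Fin d) F) *
      Matrix.toLin' (x : Matrix (Fin d ⊕ Fin d) (Fin d ⊕ Fin d) F) = -1 := by
    exact opetwo74_toLin_sq d _ hxx
  have hodd : Fintype.card F % 2 = 1 := by
    by_contra hcon
    have h0 : Fintype.card F % 2 = 0 := by omega
    rw [← FiniteField.even_card_iff_char_two] at h0
    apply h2
    have := ringChar.Nat.cast_ringChar (R := F)
    rw [h0] at this
    exact_mod_cast this
  by_cases hsq : IsSquare (-1 : F)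
  · obtain ⟨ι, hι⟩ := hsq
    have hq4 : Fintype.card F % 4 = 1 := by
      have := FiniteField.isSquare_neg_one_iff.1 ⟨ι, hι⟩
      omega
    refine ⟨1, Or.inl ⟨rfl, hq4⟩, ?_⟩
    intro N hN hNnd
    exact q_peel (r := 4) (by norm_num) hctx 1
      (fun N' hN' hNnd' hN0' => q_sq_split_plane h2 hctx hxx' ι hι.symm N' hN' hNnd' hN0') N hN hNnd
  · have hq4 : Fintype.card F % 4 = 3 := by
      have := mt FiniteField.isSquare_neg_one_iff.2 hsq
      omega
    refine ⟨-1, Or.inr ⟨rfl, hq4⟩, ?_⟩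
    intro N hN hNnd
    exact q_peel (r := 4) (by norm_num) hctx (-1)
      (fun N' hN' hNnd' hN0' => q_sq_nonsplit_plane h2 hctx hxx' (fun a ha => hsq ⟨a, ha.symm⟩) N' hN' hNnd' hN0')
      N hN hNnd

/-- TWOSUFF74 from the statement of ESUFF -/
theorem opetwo74_suff_core {F : Type*} [Field F] [Fintype F] {p : ℕ} [Fact p.Prime] [CharP F p]
    (d m : ℕ) (hd : 4 ≤ d) (hm : 2 ≤ m) (hme : Even m) (hmd : m < d)
    (hESUFF : (2 : F) = 0 → ∀ y : Module.End F (Fin d ⊕ Fin d → F),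
      QCtx 2 (Cfsg.Agent.Lib.Helper16.qfPlus d F) y → (Odd d ∨ 4 ∣ m) →
      QNDt (Cfsg.Agent.Lib.Helper16.qfPlus d F) y m 1)
    (hcond : (2 * d) % 4 = 2 ∨ m % 4 = 0 ∨ Fintype.card F % 4 = 1) : AllFix F d m 1 2 := by
  intro x hx ⟨z, hz⟩ hns
  have hxO := opetwo74_omega_le d x hx
  have hne : ∃ v, Cfsg.Agent.Lib.Helper16.qfPlus d F v ≠ 0 :=
    Cfsg.Agent.Lib.Helper16.OA.plus_exists_ne_zero d (by omega)
  obtain ⟨hV, hτ, -⟩ := std_facts (F := F) d
  apply opetwo74_fix_of_qndt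
  by_cases h2 : (2 : F) = 0
  · -- characteristic 2
    have hz1 : z = 1 := by
      rcases Cfsg.Agent.Lib.helper15.SQM.sqm_scalar (Cfsg.Agent.Lib.Helper16.qfPlus d F) hne x hxO z hz with h | h
      · exact h
      · rw [h]
        have : (-1 : F) = 1 := by linear_combination -h2
        exact this
    have hx2 : x ^ 2 = 1 := by
      apply Units.ext
      rw [hz, hz1]
      simp
    have hctx := std_qctx d 2 x hxO hx2
    apply hESUFF h2 _ hctx
    rcases hcond with h | h | h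
    · left
      rw [Nat.odd_iff]
      omega
    · right
      exact Nat.dvd_of_mod_eq_zero h
    · exfalso
      have hchar : ringChar F = 2 := CharP.ringChar_of_prime_eq_zero Nat.prime_two (by exact_mod_cast h2)
      have := FiniteField.even_card_of_char_two hchar
      omega
  · -- odd characteristic
    have hp2 : p ≠ 2 := by
      rintro rfl
      apply h2
      have := CharP.cast_eq_zero F 2
      exact_mod_cast this
    rcases Cfsg.Agent.Lib.helper15.SQM.sqm_scalar (Cfsg.Agent.Lib.Helper16.qfPlus d F) hne x hxO z hz with rfl | rfl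
    · have hx2 : x ^ 2 = 1 := by
        apply Units.ext
        rw [hz]
        simp
      have hctx := std_qctx d 2 x hxO hx2
      exact q_invol (p := p) hp2 hctx d m hV hme (by omega) hmd 1 (Or.inl rfl)
    · have hxx : (x : Matrix (Fin d ⊕ Fin d) (Fin d ⊕ Fin d) F) * (x : Matrix (Fin d ⊕ Fin d) (Fin d ⊕ Fin d) F) = -1 := by
        have : ((x ^ 2 : GL (Fin d ⊕ Fin d) F) : Matrix (Fin d ⊕ Fin d) (Fin d ⊕ Fin d) F) =
            (x : Matrix (Fin d ⊕ Fin d) (Fin d ⊕ Fin d) F) * (x : Matrix (Fin d ⊕ Fin d) (Fin d ⊕ Fin d) F) := by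
          rw [pow_two, Units.val_mul]
        rw [← this, hz]
        simp
      obtain ⟨t, ht, hlad⟩ := opetwo74_neg_ladder h2 d x hxO hxx
      obtain ⟨hev, htop, hk⟩ := hlad ⊤ (opetwo74_top_inv d _)
        (fun u _ hu => (Cfsg.Agent.Lib.Helper16.qfPlus_nondeg d F).1 u (fun v => hu v Submodule.mem_top))
      rw [finrank_top, hV] at htop hk
      obtain ⟨j, hj⟩ := hme
      rcases ht with ⟨rfl, hq⟩ | ⟨rfl, hq⟩
      · obtain ⟨W, -, hWi, hWnd, hWm, hWt⟩ := hk j (by omega)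
        refine ⟨W, hWi, hWnd, by omega, ?_⟩
        rwa [one_pow] at hWt
      · -- `d` is even
        have hd2 : 2 * d / 2 = d := by omega
        rw [hd2] at htop
        have hde : Even d := by
          by_contra hdo
          rw [Nat.not_even_iff_odd] at hdo
          rw [hdo.neg_one_pow] at htop
          exact qty_uniq _ _ hτ htop
        have hm4 : m % 4 = 0 := by
          obtain ⟨e, he⟩ := hde
          rcases hcond with h | h | h
          · omega
          · exact h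
          · omega
        obtain ⟨W, -, hWi, hWnd, hWm, hWt⟩ := hk j (by omega)
        refine ⟨W, hWi, hWnd, by omega, ?_⟩
        have hje : Even j := ⟨j / 2, by omega⟩
        rwa [hje.neg_one_pow] at hWt

/-- TWONEC74 from the statements of UEX and UFOUR -/
theorem opetwo74_nec_core {F : Type*} [Field F] [Fintype F] {p : ℕ} [Fact p.Prime] [CharP F p]
    (d m : ℕ) (hd : 4 ≤ d) (hm : 2 ≤ m) (hme : Even m) (hmd : m < d)
    (hUEX : ∃ x : GL (Fin d ⊕ Fin d) F, x ∈ Cfsg.Geo.omegaGL (Cfsg.quadFormPlus d F) ∧ x ^ p = 1 ∧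
      (∀ z : F, (x : Matrix (Fin d ⊕ Fin d) (Fin d ⊕ Fin d) F) ≠ z • (1 : Matrix (Fin d ⊕ Fin d) (Fin d ⊕ Fin d) F)) ∧
      (Matrix.toLin' (x : Matrix (Fin d ⊕ Fin d) (Fin d ⊕ Fin d) F) - 1) *
        (Matrix.toLin' (x : Matrix (Fin d ⊕ Fin d) (Fin d ⊕ Fin d) F) - 1) = 0 ∧
      (∀ v, Cfsg.quadFormPlus d F ((Matrix.toLin' (x : Matrix (Fin d ⊕ Fin d) (Fin d ⊕ Fin d) F) - 1) v) = 0) ∧
      finrank F (LinearMap.ker (Matrix.toLin' (x : Matrix (Fin d ⊕ Fin d) (Fin d ⊕ Fin d) F) - 1)) =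
        finrank F (LinearMap.range (Matrix.toLin' (x : Matrix (Fin d ⊕ Fin d) (Fin d ⊕ Fin d) F) - 1)) +
          2 * (d % 2))
    (hUFOUR : ∀ y : Module.End F (Fin d ⊕ Fin d → F), QCtx 2 (Cfsg.Agent.Lib.Helper16.qfPlus d F) y →
      (y - 1) * (y - 1) = 0 → (∀ v, Cfsg.Agent.Lib.Helper16.qfPlus d F ((y - 1) v) = 0) →
      finrank F (LinearMap.ker (y - 1)) = finrank F (LinearMap.range (y - 1)) →
      ∀ W : Submodule F (Fin d ⊕ Fin d → F), SInv y W →
        SND (QuadraticMap.polarBilin (Cfsg.Agent.Lib.Helper16.qfPlus d F)) W → 4 ∣ finrank F W)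
    (hall : AllFix F d m 1 2) :
    (2 * d) % 4 = 2 ∨ m % 4 = 0 ∨ Fintype.card F % 4 = 1 := by
  by_contra hcon
  push Not at hcon
  obtain ⟨hc1, hc2, hc3⟩ := hcon
  have hde : d % 2 = 0 := by omega
  have hm2 : m % 4 = 2 := by
    obtain ⟨j, hj⟩ := hme
    omega
  by_cases h2 : (2 : F) = 0
  · -- characteristic 2
    have hp : p = 2 := by
      have h' : ((2 : ℕ) : F) = 0 := by exact_mod_cast h2
      rw [CharP.cast_eq_zero_iff F p] at h'
      exact (Nat.prime_dvd_prime_iff_eq Fact.out Nat.prime_two).mp h'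
    subst hp
    obtain ⟨x, hx, hx2, hns, hNN, hQN, hδ⟩ := hUEX
    have hxO := opetwo74_omega_le d x hx
    obtain ⟨W, hWm, hWnd, -, hWinv⟩ := hall x hx ⟨1, by rw [hx2]; simp⟩ hns
    have hctx := std_qctx d 2 x hxO hx2
    rw [hde, mul_zero, add_zero] at hδ
    have h4 := hUFOUR _ hctx hNN hQN hδ W (fun w hw => hWinv (Submodule.mem_map_of_mem hw)) hWnd
    rw [hWm] at h4
    omega
  · -- odd characteristic: `q % 4 = 3`
    obtain ⟨x, hx, hxx⟩ := sq_neg_ex h2 d ⟨d / 2, by omega⟩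
    have hxO := opetwo74_omega_le d x hx
    obtain ⟨t, ht, hlad⟩ := opetwo74_neg_ladder h2 d x hxO hxx
    have hns : ∀ z : F, (x : Matrix (Fin d ⊕ Fin d) (Fin d ⊕ Fin d) F) ≠
        z • (1 : Matrix (Fin d ⊕ Fin d) (Fin d ⊕ Fin d) F) := by
      intro z hz
      rcases ht with ⟨-, hq⟩ | ⟨-, hq⟩
      · exact hc3 hq
      · have h3 := hxx
        rw [hz] at h3
        have h4 := congrFun (congrFun h3 (Sum.inl ⟨0, by omega⟩)) (Sum.inl ⟨0, by omega⟩)
        have h5 : z * z = -1 := by simpa using h4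
        have : IsSquare (-1 : F) := ⟨z, h5.symm⟩
        rw [FiniteField.isSquare_neg_one_iff] at this
        omega
    have hpow : ((x ^ 2 : GL (Fin d ⊕ Fin d) F) : Matrix (Fin d ⊕ Fin d) (Fin d ⊕ Fin d) F) =
        (-1 : F) • (1 : Matrix (Fin d ⊕ Fin d) (Fin d ⊕ Fin d) F) := by
      rw [pow_two, Units.val_mul, hxx]
      simp
    obtain ⟨W, hWm, hWnd, hWt, hWinv⟩ := hall x hx ⟨-1, hpow⟩ hns
    rcases ht with ⟨-, hq⟩ | ⟨rfl, hq⟩
    · exact hc3 hq
    · obtain ⟨-, hty, -⟩ := hlad W (fun w hw => hWinv (Submodule.mem_map_of_mem hw)) hWnd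
      rw [hWm] at hty
      have hodd : Odd (m / 2) := by
        rw [Nat.odd_iff]
        omega
      rw [hodd.neg_one_pow] at hty
      exact qty_uniq _ _ hWt hty

end Cfsg.Agent.Lib.Helper18.OPE
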