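import Mathlib
import Cfsg.Agent.Lib.helper14.OPETWO74core
import Cfsg.Agent.Lib.Helper28.OPEESUFF
import Cfsg.Agent.Lib.Lead.OPEUEX
import Cfsg.Agent.Lib.Helper5.OPEUFOUR

/-!
# OPE rows TWOSUFF74 (`two_suff_74`) and TWONEC74 (`two_nec_74`) (helper14): the cores + ESUFF (helper28), UEX (lead), UFOUR (helper5).
-/

set_option autoImplicit false

namespace Cfsg.Agent.Lib.Helper18.OPE

open Polynomial Module Cfsg.Agent.Lib.Helper13.S5955 Cfsg.Agent.Lib.helper15.S5972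
open scoped Matrix

theorem two_suff_74 {F : Type*} [Field F] [Fintype F] {p : ℕ} [Fact p.Prime] [CharP F p]
    (d m : ℕ) (hd : 4 ≤ d) (hm : 2 ≤ m) (hme : Even m) (hmd : m < d)
    (hcond : (2 * d) % 4 = 2 ∨ m % 4 = 0 ∨ Fintype.card F % 4 = 1) : AllFix F d m 1 2 :=
  opetwo74_suff_core (p := p) d m hd hm hme hmd
    (fun h2 y hctx hcase => e_suff h2 hctx d m (std_facts d).1 (std_facts d).2.1 hme (by omega) hmd hcase) hcond

theorem two_nec_74 {F : Type*} [Field F] [Fintype F] {p : ℕ} [Fact p.Prime] [CharP F p]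
    (d m : ℕ) (hd : 4 ≤ d) (hm : 2 ≤ m) (hme : Even m) (hmd : m < d) (hall : AllFix F d m 1 2) :
    (2 * d) % 4 = 2 ∨ m % 4 = 0 ∨ Fintype.card F % 4 = 1 :=
  opetwo74_nec_core (p := p) d m hd hm hme hmd (u_ex (p := p) d (by omega))
    (fun y hctx hNN hQN hδ W hW hWnd => u_four (r := 2) (by norm_num) hctx hNN hQN hδ W hW hWnd) hall

end Cfsg.Agent.Lib.Helper18.OPE
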