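import Mathlib
import Cfsg.Agent.Lib.helper14.OmegaInv
import Cfsg.Agent.Lib.Lead.WittIndex
import Cfsg.Agent.Lib.Helper16.OHelp

set_option autoImplicit false

/-! Variants of Helper16's generation / kernel theorems for the orthogonal groups in characteristic
two, with the exclusion `(q, n) ≠ (2, 4)` replaced by a transitivity hypothesis `TransR`; the
hypothesis is verified for the minus-type form in dimension four over the field of two elements
(where `O⁻_4(2)` is still generated by reflections). The proofs follow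
`Lib/Helper16/Char2H`, `Char2I`, `Char2J`. -/

namespace Cfsg.Agent.Lib.helper14.OmegaGen

open Cfsg.Agent.Lib.Helper16 Cfsg.Agent.Lib.helper6 Cfsg.Agent.Lib.helper14.OrthInv
  Cfsg.Agent.Lib.helper14.OmegaInv Matrix Module
open scoped commutatorElement

variable {ι : Type} [Fintype ι] [DecidableEq ι] {F : Type*} [Field F]

/-- transitivity of the reflection subgroup on nonsingular vectors of equal norm -/
def TransR (Q : QuadraticForm F (ι → F)) : Prop :=
  ∀ u u' : ι → F, Q u ≠ 0 → Q u' = Q u →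
    ∃ t ∈ Subgroup.closure (CDG.Rset Q), ((t : GL ι F) : Matrix ι ι F) *ᵥ u' = u

theorem transR_of_small [Fintype F] [CharP F 2] (Q : QuadraticForm F (ι → F))
    (hQ : (QuadraticMap.polarBilin Q).Nondegenerate)
    (h : Fintype.card F ≠ 2 ∨ Fintype.card ι ≠ 4) : TransR Q :=
  fun u u' hu hQuu => C2.trans_nonsing Q hQ h u u' hu hQuu

/-- transitivity from the existence of intermediate vectors -/
theorem transR_of_mid [Fintype F] [CharP F 2] (Q : QuadraticForm F (ι → F))
    (hmid : ∀ u u' : ι → F, Q u ≠ 0 → Q u' = Q u → QuadraticMap.polar (⇑Q) u' u = 0 → u' ≠ u →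
      ∃ w : ι → F, Q w = Q u ∧ QuadraticMap.polar (⇑Q) w u ≠ 0 ∧
        QuadraticMap.polar (⇑Q) u' w ≠ 0) : TransR Q := by
  intro u u' hu hQuu
  by_cases hB : QuadraticMap.polar (⇑Q) u' u ≠ 0
  · obtain ⟨t, ht, htu, _⟩ := C2.move_one' Q ⊤ u u' Submodule.mem_top hQuu hB
    exact ⟨t, ht, htu⟩
  · push Not at hB
    by_cases hne : u' = u
    · refine ⟨1, Subgroup.one_mem _, ?_⟩
      rw [hne]
      show (1 : Matrix ι ι F) *ᵥ u = u
      rw [Matrix.one_mulVec]
    · obtain ⟨w, hw1, hw2, hw3⟩ := hmid u u' hu hQuu hB hne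
      obtain ⟨t, ht, htu, _⟩ := C2.move_two' Q ⊤ u u' w Submodule.mem_top Submodule.mem_top hQuu
        hw1 hw2 hw3
      exact ⟨t, ht, htu⟩

theorem generation_of_trans [Fintype F] [CharP F 2] (Q : QuadraticForm F (ι → F))
    (hQ : (QuadraticMap.polarBilin Q).Nondegenerate) (htr : TransR Q) :
    Subgroup.closure (CDG.Rset Q) = ⊤ := by
  rw [eq_top_iff]
  intro g _
  by_cases hι : Nonempty ι
  · obtain ⟨v, hv⟩ := C2.exists_nonsing Q hQ
    set u' := ((g : GL ι F) : Matrix ι ι F) *ᵥ v with hu'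
    have hQu' : Q u' = Q v := iso_pres (⇑Q) g v
    obtain ⟨t, ht, htu⟩ := htr v u' hv hQu'
    have h1 : t * g ∈ Subgroup.closure (CDG.Rset Q) := by
      apply C2.stab_mem_closure Q hQ v hv
      rw [CDG.mul_mulVec, ← hu', htu]
    have : g = t⁻¹ * (t * g) := by group
    rw [this]
    exact Subgroup.mul_mem _ (Subgroup.inv_mem _ ht) h1
  · have : g = 1 := by
      apply CDG.iso_ext
      ext i j
      exact absurd ⟨i⟩ hι
    rw [this]
    exact Subgroup.one_mem _

theorem refl_pair_mem_omega_of_trans [Fintype F] [CharP F 2] (Q : QuadraticForm F (ι → F))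
    (htr : TransR Q) (u v : ι → F) (hu : Q u ≠ 0) (hv : Q v ≠ 0) :
    CDG.refl Q u hu * CDG.refl Q v hv ∈ Cfsg.Omega F ⇑Q := by
  obtain ⟨u1, hu1, hru⟩ := C2.exists_unit_scale Q u hu
  obtain ⟨v1, hv1, hrv⟩ := C2.exists_unit_scale Q v hv
  have hu1' : Q u1 ≠ 0 := by rw [hu1]; exact one_ne_zero
  have hv1' : Q v1 ≠ 0 := by rw [hv1]; exact one_ne_zero
  have eu : CDG.refl Q u hu = CDG.refl Q u1 hu1' := C2.refl_eq_of_matrix Q u u1 hu hu1' hru.symm
  have ev : CDG.refl Q v hv = CDG.refl Q v1 hv1' := C2.refl_eq_of_matrix Q v v1 hv hv1' hrv.symm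
  obtain ⟨t, _, htv⟩ := htr u1 v1 hu1' (by rw [hu1, hv1])
  have hconj := C2.refl_conj_cdg Q t v1 hv1' (by rw [htv]; exact hu1')
  have eu1 : CDG.refl Q u1 hu1' = t * CDG.refl Q v1 hv1' * t⁻¹ := by
    rw [hconj]
    apply CDG.iso_ext
    rw [CDG.refl_coe, CDG.refl_coe, htv]
  have hcomm : CDG.refl Q u hu * CDG.refl Q v hv = ⁅t, CDG.refl Q v1 hv1'⁆ := by
    rw [commutatorElement_def, eu, ev, eu1, CDG.Rset_inv Q _ (CDG.refl_mem Q v1 hv1')]
  rw [hcomm]
  exact Subgroup.commutator_mem_commutator (Subgroup.mem_top _) (Subgroup.mem_top _)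

theorem mem_omega_or_of_trans [Fintype F] [CharP F 2] (Q : QuadraticForm F (ι → F))
    (hQ : (QuadraticMap.polarBilin Q).Nondegenerate) (htr : TransR Q)
    (v0 : ι → F) (hv0 : Q v0 ≠ 0) (g : ↥(Cfsg.isometryGroup F ⇑Q)) :
    g ∈ Cfsg.Omega F ⇑Q ∨ g * CDG.refl Q v0 hv0 ∈ Cfsg.Omega F ⇑Q := by
  have hN : (Cfsg.Omega F ⇑Q).Normal := by
    show (commutator ↥(Cfsg.isometryGroup F ⇑Q)).Normal
    infer_instance
  set r0 := CDG.refl Q v0 hv0 with hr0
  have hr0sq : r0 * r0 = 1 := CDG.Rset_sq Q _ (CDG.refl_mem Q v0 hv0)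
  have hr0inv : r0⁻¹ = r0 := CDG.Rset_inv Q _ (CDG.refl_mem Q v0 hv0)
  have hg : g ∈ Subgroup.closure (CDG.Rset Q) := by
    rw [generation_of_trans Q hQ htr]; exact Subgroup.mem_top _
  induction hg using Subgroup.closure_induction with
  | mem r hr =>
    right
    obtain ⟨u, hu, hru⟩ := hr
    have e1 : r = CDG.refl Q u hu := CDG.iso_ext Q _ _ hru
    rw [e1]
    exact refl_pair_mem_omega_of_trans Q htr u v0 hu hv0
  | one => left; exact Subgroup.one_mem _
  | mul a b _ _ iha ihb =>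
    rcases iha with ha | ha <;> rcases ihb with hb | hb
    · left; exact Subgroup.mul_mem _ ha hb
    · right
      rw [mul_assoc]
      exact Subgroup.mul_mem _ ha hb
    · right
      have : a * b * r0 = (a * r0) * (r0 * b * r0⁻¹) := by
        rw [hr0inv]
        calc a * b * r0 = a * (r0 * r0) * b * r0 := by rw [hr0sq, mul_one]
          _ = (a * r0) * (r0 * b * r0) := by group
      rw [this]
      exact Subgroup.mul_mem _ ha (hN.conj_mem b hb r0)
    · left
      have : a * b = (a * r0) * (r0 * (b * r0) * r0⁻¹) := by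
        rw [hr0inv]
        calc a * b = a * (r0 * r0) * b * (r0 * r0) := by rw [hr0sq, mul_one, mul_one]
          _ = (a * r0) * (r0 * (b * r0) * r0) := by group
      rw [this]
      exact Subgroup.mul_mem _ ha (hN.conj_mem _ hb r0)
  | inv a _ iha =>
    rcases iha with ha | ha
    · left; exact Subgroup.inv_mem _ ha
    · right
      have : a⁻¹ * r0 = r0 * (a * r0)⁻¹ * r0⁻¹ := by
        rw [hr0inv, _root_.mul_inv_rev, hr0inv]
        calc a⁻¹ * r0 = (r0 * r0) * a⁻¹ * r0 := by rw [hr0sq, one_mul]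
          _ = r0 * (r0 * a⁻¹) * r0 := by group
      rw [this]
      exact hN.conj_mem _ (Subgroup.inv_mem _ ha) r0

theorem ker_eq_omega_of_trans [Fintype F] [CharP F 2] (Q : QuadraticForm F (ι → F))
    (hQ : (QuadraticMap.polarBilin Q).Nondegenerate) (htr : TransR Q)
    (χ : ↥(Cfsg.isometryGroup F ⇑Q) →* ℤˣ)
    (hχ : ∀ (u : ι → F) (hu : Q u ≠ 0), χ (CDG.refl Q u hu) = -1)
    (g : ↥(Cfsg.isometryGroup F ⇑Q)) : χ g = 1 ↔ g ∈ Cfsg.Omega F ⇑Q := by
  constructor
  · intro hg
    by_cases hι : Nonempty ι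
    · obtain ⟨v0, hv0⟩ := C2.exists_nonsing Q hQ
      rcases mem_omega_or_of_trans Q hQ htr v0 hv0 g with h1 | h1
      · exact h1
      · exfalso
        have h2 : χ (g * CDG.refl Q v0 hv0) = 1 :=
          MonoidHom.mem_ker.mp (Abelianization.commutator_subset_ker χ h1)
        rw [map_mul, hg, hχ, one_mul] at h2
        exact absurd h2 (by decide)
    · have : g = 1 := by
        apply CDG.iso_ext
        ext i j
        exact absurd ⟨i⟩ hι
      rw [this]
      exact Subgroup.one_mem _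
  · intro hg
    exact MonoidHom.mem_ker.mp (Abelianization.commutator_subset_ker χ hg)

theorem kerHyp_of_trans [Fintype F] [CharP F 2] (Q : QuadraticForm F (ι → F))
    (hQ : (QuadraticMap.polarBilin Q).Nondegenerate) (htr : TransR Q) : KerHyp Q hQ :=
  fun g => ker_eq_omega_of_trans Q hQ htr (C2.dickson Q hQ) (C2.dickson_refl Q hQ) g

end Cfsg.Agent.Lib.helper14.OmegaGen
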