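import Mathlib
import Cfsg.Agent.Lib.helper14.OmegaInv

set_option autoImplicit false

/-! Counting classes of involutions of `Ω(Q)` in characteristic two when one class of `O(Q)`
(with centraliser inside `Ω`) splits into two classes of `Ω`. -/

namespace Cfsg.Agent.Lib.helper14.OmegaInv

open Cfsg.Agent.Lib.Helper16 Cfsg.Agent.Lib.helper6 Cfsg.Agent.Lib.helper14.OrthInv Matrix Module

section Exc

variable {ι : Type} [Fintype ι] [DecidableEq ι] {F : Type*} [Field F] [Fintype F] [CharP F 2]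
  {Q : QuadraticForm F (ι → F)} {hQ : (QuadraticMap.polarBilin Q).Nondegenerate}
  {B : LinearMap.BilinForm F (ι → F)}

theorem omega_normal : (Cfsg.Omega F ⇑Q).Normal := by
  show (commutator ↥(Cfsg.isometryGroup F ⇑Q)).Normal
  infer_instance

theorem decide_eq_of_iff {p : Prop} [Decidable p] {b : Bool} (h : p ↔ b = true) :
    decide p = b := by
  rw [Bool.eq_iff_iff, decide_eq_true_iff]
  exact h

/-- the number of classes of involutions of `Ω` when exactly one class of `O` splits -/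
theorem card_omega_classes_exc (hQP : Cfsg.Agent.Lib.Lead.OG.IsQP (⇑Q) B) (hk : KerHyp Q hQ)
    (T : Finset (ℕ × Bool))
    (t₀ : ↥(Cfsg.isometryGroup F ⇑Q)) (ht₀2 : mat t₀ * mat t₀ = 1) (ht₀1 : 1 ≤ rk t₀)
    (ht₀Ω : t₀ ∈ Cfsg.Omega F ⇑Q) (b₀ : Bool) (hb₀ : isAltT B t₀ ↔ b₀ = true)
    (hT₀ : (rk t₀, b₀) ∈ T)
    (hcent : ∀ c : ↥(Cfsg.isometryGroup F ⇑Q), c * t₀ = t₀ * c → c ∈ Cfsg.Omega F ⇑Q)
    (r₀ : ↥(Cfsg.isometryGroup F ⇑Q)) (hr₀ : r₀ ∉ Cfsg.Omega F ⇑Q)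
    (hfix : ∀ t : ↥(Cfsg.isometryGroup F ⇑Q), orderOf t = 2 → t ∈ Cfsg.Omega F ⇑Q →
      ¬ (rk t = rk t₀ ∧ (isAltT B t ↔ isAltT B t₀)) →
      ∃ v : ι → F, Q v ≠ 0 ∧ mat t *ᵥ v = v)
    (hmem : ∀ t : ↥(Cfsg.isometryGroup F ⇑Q), orderOf t = 2 → t ∈ Cfsg.Omega F ⇑Q →
      ∃ b : Bool, (rk t, b) ∈ T ∧ (isAltT B t ↔ b = true))
    (hex : ∀ p ∈ T, ∃ t : ↥(Cfsg.isometryGroup F ⇑Q), mat t * mat t = 1 ∧ 1 ≤ rk t ∧
      Even (rk t) ∧ rk t = p.1 ∧ (isAltT B t ↔ p.2 = true)) :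
    Nat.card {C : ConjClasses ↥(Cfsg.Omega F ⇑Q) //
      ∃ g : ↥(Cfsg.Omega F ⇑Q), ConjClasses.mk g = C ∧ orderOf g = 2} = T.card + 1 := by
  classical
  have hN : (Cfsg.Omega F ⇑Q).Normal := omega_normal
  have hord₀ : orderOf t₀ = 2 := order_of_sq t₀ ht₀2 ht₀1
  set t₀' : ↥(Cfsg.Omega F ⇑Q) := ⟨t₀, ht₀Ω⟩ with ht₀'
  set T' : Finset ((ℕ × Bool) × Bool) :=
    (T ×ˢ ({false} : Finset Bool)) ∪ {((rk t₀, b₀), true)} with hT'
  have hcardT' : T'.card = T.card + 1 := by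
    rw [hT', Finset.card_union_of_disjoint, Finset.card_product, Finset.card_singleton,
      Finset.card_singleton, mul_one]
    rw [Finset.disjoint_singleton_right]
    intro h
    simp at h
  have hmemT' : ∀ (p : ℕ × Bool) (e : Bool), (p, e) ∈ T' ↔
      (e = false ∧ p ∈ T) ∨ (e = true ∧ p = (rk t₀, b₀)) := by
    intro p e
    rw [hT']
    simp only [Finset.mem_union, Finset.mem_product, Finset.mem_singleton, Prod.mk.injEq]
    constructor
    · rintro (⟨h1, h2⟩ | ⟨h1, h2⟩)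
      · exact Or.inl ⟨h2, h1⟩
      · exact Or.inr ⟨h2, h1⟩
    · rintro (⟨h1, h2⟩ | ⟨h1, h2⟩)
      · exact Or.inl ⟨h2, h1⟩
      · exact Or.inr ⟨h2, h1⟩
  have hordc : ∀ t : ↥(Cfsg.Omega F ⇑Q), orderOf t = 2 →
      orderOf (t : ↥(Cfsg.isometryGroup F ⇑Q)) = 2 := by
    intro t ht
    rw [Subgroup.orderOf_coe]; exact ht
  rw [← hcardT']
  apply card_inv_classes
    (fun t : ↥(Cfsg.Omega F ⇑Q) => ((rk (t : ↥(Cfsg.isometryGroup F ⇑Q)),
      decide (isAltT B (t : ↥(Cfsg.isometryGroup F ⇑Q)))), decide (IsConj t t₀'))) T'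
  · -- invariance
    intro t s h
    have h' := isConj_coe _ t s h
    rw [Prod.mk.injEq, Prod.mk.injEq]
    refine ⟨⟨rk_conj h', ?_⟩, ?_⟩
    · rw [decide_eq_decide]
      exact isAltT_conj hQP h'
    · rw [decide_eq_decide]
      exact ⟨fun h1 => h.symm.trans h1, fun h1 => h.trans h1⟩
  · -- completeness
    intro t s ht hs h
    rw [Prod.mk.injEq, Prod.mk.injEq, decide_eq_decide, decide_eq_decide] at h
    obtain ⟨⟨hrk, halt⟩, hε⟩ := h
    by_cases hts : IsConj t t₀'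
    · exact hts.trans (hε.mp hts).symm
    · have hss : ¬ IsConj s t₀' := fun h1 => hts (hε.mpr h1)
      have ht' := hordc t ht
      have hs' := hordc s hs
      have hc := conj_of_invariants hQP (t : ↥(Cfsg.isometryGroup F ⇑Q)) s (mat_sq _ ht')
        (mat_sq _ hs') hrk halt
      by_cases hexc : rk (t : ↥(Cfsg.isometryGroup F ⇑Q)) = rk t₀ ∧
          (isAltT B (t : ↥(Cfsg.isometryGroup F ⇑Q)) ↔ isAltT B t₀)
      · have hc1 := conj_of_invariants hQP (t : ↥(Cfsg.isometryGroup F ⇑Q)) t₀ (mat_sq _ ht')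
          ht₀2 hexc.1 hexc.2
        have hc2 := conj_of_invariants hQP (s : ↥(Cfsg.isometryGroup F ⇑Q)) t₀ (mat_sq _ hs')
          ht₀2 (hrk.symm.trans hexc.1) (halt.symm.trans hexc.2)
        obtain ⟨g₁, hg₁⟩ := isConj_iff.mp hc1
        obtain ⟨g₂, hg₂⟩ := isConj_iff.mp hc2
        have hg₁Ω : g₁ ∉ Cfsg.Omega F ⇑Q := fun hmem1 => hts (isConj_sub _ t t₀' g₁ hmem1 hg₁)
        have hg₂Ω : g₂ ∉ Cfsg.Omega F ⇑Q := fun hmem2 => hss (isConj_sub _ s t₀' g₂ hmem2 hg₂)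
        have hg₂Ω' : g₂⁻¹ ∉ Cfsg.Omega F ⇑Q := fun hmem2 =>
          hg₂Ω (by have := Subgroup.inv_mem _ hmem2; rwa [inv_inv] at this)
        apply isConj_sub _ t s (g₂⁻¹ * g₁) (mul_mem_omega_of_not hk _ _ hg₂Ω' hg₁Ω)
        have e1 : (s : ↥(Cfsg.isometryGroup F ⇑Q)) = g₂⁻¹ * t₀ * g₂ := by
          rw [← hg₂]; group
        rw [e1, ← hg₁]
        group
      · obtain ⟨v, hv, htv⟩ := hfix _ ht' t.2 hexc
        obtain ⟨g, hg, hgts⟩ := exists_omega_conj hk _ _ hc v hv htv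
        exact isConj_sub _ t s g hg hgts
  · -- membership
    intro t ht
    have ht' := hordc t ht
    show ((rk (t : ↥(Cfsg.isometryGroup F ⇑Q)),
      decide (isAltT B (t : ↥(Cfsg.isometryGroup F ⇑Q)))), decide (IsConj t t₀')) ∈ T'
    rw [hmemT']
    by_cases hts : IsConj t t₀'
    · right
      refine ⟨decide_eq_true hts, ?_⟩
      have h' := isConj_coe _ t t₀' hts
      rw [Prod.mk.injEq]
      refine ⟨rk_conj h', decide_eq_of_iff ?_⟩
      rw [isAltT_conj hQP h']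
      exact hb₀
    · left
      refine ⟨decide_eq_false hts, ?_⟩
      obtain ⟨b, hb1, hb2⟩ := hmem _ ht' t.2
      rw [decide_eq_of_iff hb2]
      exact hb1
  · -- existence
    rintro ⟨p, e⟩ hp
    rw [hmemT'] at hp
    rcases hp with ⟨he, hpT⟩ | ⟨he, hp0⟩
    · by_cases hp0 : p = (rk t₀, b₀)
      · -- the second class inside the split class
        set t₁ : ↥(Cfsg.isometryGroup F ⇑Q) := r₀ * t₀ * r₀⁻¹ with ht₁
        have ht₁Ω : t₁ ∈ Cfsg.Omega F ⇑Q := hN.conj_mem t₀ ht₀Ω r₀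
        have hconj₁ : IsConj t₀ t₁ := isConj_iff.mpr ⟨r₀, rfl⟩
        have ht₁2 : mat t₁ * mat t₁ = 1 := by
          have : t₁ * t₁ = 1 := by
            have h0 : t₀ * t₀ = 1 := by
              apply mat_injective
              rw [mat_mul, ht₀2, mat_one]
            rw [ht₁]
            calc r₀ * t₀ * r₀⁻¹ * (r₀ * t₀ * r₀⁻¹) = r₀ * (t₀ * t₀) * r₀⁻¹ := by group
              _ = 1 := by rw [h0]; group
          rw [← mat_mul, this, mat_one]
        have hrk₁ : rk t₁ = rk t₀ := (rk_conj hconj₁).symm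
        refine ⟨⟨t₁, ht₁Ω⟩, ?_, ?_⟩
        · rw [← Subgroup.orderOf_coe]
          exact order_of_sq t₁ ht₁2 (by rw [hrk₁]; exact ht₀1)
        · show ((rk t₁, decide (isAltT B t₁)), decide (IsConj (⟨t₁, ht₁Ω⟩ : ↥(Cfsg.Omega F ⇑Q)) t₀')) =
            (p, e)
          rw [Prod.mk.injEq, hp0, he, Prod.mk.injEq]
          refine ⟨⟨hrk₁, decide_eq_of_iff ?_⟩, decide_eq_false ?_⟩
          · rw [← isAltT_conj hQP hconj₁]
            exact hb₀
          · intro hcon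
            obtain ⟨c, hc⟩ := isConj_iff.mp hcon
            have hc' : (c : ↥(Cfsg.isometryGroup F ⇑Q)) * t₁ * (c : ↥(Cfsg.isometryGroup F ⇑Q))⁻¹ =
                t₀ := by
              have := congrArg Subtype.val hc
              simpa using this
            have hcomm : ((c : ↥(Cfsg.isometryGroup F ⇑Q)) * r₀) * t₀ =
                t₀ * ((c : ↥(Cfsg.isometryGroup F ⇑Q)) * r₀) := by
              have e2 : ((c : ↥(Cfsg.isometryGroup F ⇑Q)) * r₀) * t₀ *
                  ((c : ↥(Cfsg.isometryGroup F ⇑Q)) * r₀)⁻¹ = t₀ := by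
                calc ((c : ↥(Cfsg.isometryGroup F ⇑Q)) * r₀) * t₀ *
                    ((c : ↥(Cfsg.isometryGroup F ⇑Q)) * r₀)⁻¹
                    = (c : ↥(Cfsg.isometryGroup F ⇑Q)) * (r₀ * t₀ * r₀⁻¹) *
                      (c : ↥(Cfsg.isometryGroup F ⇑Q))⁻¹ := by group
                  _ = t₀ := by rw [← ht₁]; exact hc'
              exact mul_inv_eq_iff_eq_mul.mp e2
            have h1 := hcent _ hcomm
            apply hr₀
            have : r₀ = (c : ↥(Cfsg.isometryGroup F ⇑Q))⁻¹ *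
                ((c : ↥(Cfsg.isometryGroup F ⇑Q)) * r₀) := by group
            rw [this]
            exact Subgroup.mul_mem _ (Subgroup.inv_mem _ c.2) h1
      · obtain ⟨t, ht2, ht1, hte, htr, hta⟩ := hex p hpT
        have hmemΩ : t ∈ Cfsg.Omega F ⇑Q := (mem_omega_iff_even hk t).mpr hte
        refine ⟨⟨t, hmemΩ⟩, ?_, ?_⟩
        · rw [← Subgroup.orderOf_coe]
          exact order_of_sq t ht2 ht1
        · show ((rk t, decide (isAltT B t)), decide (IsConj (⟨t, hmemΩ⟩ : ↥(Cfsg.Omega F ⇑Q)) t₀')) =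
            (p, e)
          have hpe : (rk t, decide (isAltT B t)) = p := by
            rw [Prod.ext_iff]
            exact ⟨htr, decide_eq_of_iff hta⟩
          rw [Prod.mk.injEq, he]
          refine ⟨hpe, decide_eq_false ?_⟩
          intro hcon
          have h' := isConj_coe _ _ _ hcon
          apply hp0
          rw [← hpe, Prod.mk.injEq]
          refine ⟨rk_conj h', decide_eq_of_iff ?_⟩
          rw [isAltT_conj hQP h']
          exact hb₀
    · refine ⟨t₀', ?_, ?_⟩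
      · rw [← Subgroup.orderOf_coe]
        exact hord₀
      · show ((rk t₀, decide (isAltT B t₀)), decide (IsConj t₀' t₀')) = (p, e)
        rw [Prod.mk.injEq, hp0, he, Prod.mk.injEq]
        exact ⟨⟨rfl, decide_eq_of_iff hb₀⟩, decide_eq_true (IsConj.refl _)⟩

end Exc

end Cfsg.Agent.Lib.helper14.OmegaInv
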