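import Mathlib
import Cfsg.Prelude.Def_Classical
import Cfsg.Agent.Lib.helper23.P4S.Defs
import Cfsg.Agent.S2469
import Cfsg.Agent.Lib.helper15.SpCons

set_option autoImplicit false

/-!
# P4S row L4A (`exists_nine`), helper14: an element of order 9 in `PSp_4(F)`, characteristic 3.
-/

namespace Cfsg.Agent.Lib.helper23.P4S

open Matrix Polynomial

theorem exists_nine {F : Type*} [Field F] [Fintype F] [CharP F 3] : ∃ y : Cfsg.PSp 2 F, orderOf y = 9 := by
  haveI : Fact (Nat.Prime 3) := ⟨Nat.prime_three⟩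
  obtain ⟨y, hy⟩ := Cfsg.Agent.Lib.helper15.SpCons.exists_unip_order (F := F) 3 (by norm_num) 2 2
    (Or.inr (by norm_num))
  have h9 : orderOf y = 9 := by rw [hy]; norm_num
  obtain ⟨z, hz⟩ := Cfsg.Agent.S2469.to_psp 2 (by norm_num) y 9 h9 (by decide)
  exact ⟨z, hz⟩

end Cfsg.Agent.Lib.helper23.P4S
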