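import Mathlib
import Cfsg.Prelude.Def_Classical
import Cfsg.Agent.Lib.helper23.P4S.Defs
import Cfsg.Agent.Lib.helper2.SO8A1

set_option autoImplicit false

/-!
# P4S row L4B (`exists_four`), helper14: an element of order 4 in `PSp_4(F)`, characteristic 2.
-/

namespace Cfsg.Agent.Lib.helper23.P4S

open Matrix Polynomial

/-- the regular unipotent matrix -/
def p4sl4b_g (F : Type*) [Field F] : Matrix (Fin 2 ⊕ Fin 2) (Fin 2 ⊕ Fin 2) F :=
  Matrix.fromBlocks !![1, 1; 0, 1] !![0, 0; 1, 1] 0 !![1, 0; 1, 1]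

theorem p4sl4b_two {F : Type*} [Field F] [CharP F 2] : (2 : F) = 0 := CharTwo.two_eq_zero

theorem p4sl4b_one_add_one {F : Type*} [Field F] [CharP F 2] : (1 : F) + 1 = 0 := by
  rw [one_add_one_eq_two]; exact p4sl4b_two

theorem p4sl4b_mem {F : Type*} [Field F] [CharP F 2] : p4sl4b_g F ∈ Matrix.symplecticGroup (Fin 2) F := by
  rw [SymplecticGroup.mem_iff]
  unfold p4sl4b_g Matrix.J
  rw [Matrix.fromBlocks_transpose, Matrix.fromBlocks_multiply, Matrix.fromBlocks_multiply]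
  have h2 : (2 : F) = 0 := p4sl4b_two
  have h11 : (1 : F) + 1 = 0 := p4sl4b_one_add_one
  have hn1 : (-1 : F) = 1 := by
    rw [neg_eq_iff_add_eq_zero]; exact h11
  congr 1
  · ext i j
    fin_cases i <;> fin_cases j <;> simp [Matrix.mul_apply, Matrix.vecMul, dotProduct, Matrix.transpose_apply, Fin.sum_univ_two, hn1, h11]
  · ext i j
    fin_cases i <;> fin_cases j <;> simp [Matrix.mul_apply, Matrix.vecMul, dotProduct, Matrix.transpose_apply, Fin.sum_univ_two, hn1, h11]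
  · ext i j
    fin_cases i <;> fin_cases j <;> simp [Matrix.mul_apply, Matrix.vecMul, dotProduct, Matrix.transpose_apply, Fin.sum_univ_two, hn1, h11]
  · ext i j
    fin_cases i <;> fin_cases j <;> simp [Matrix.mul_apply, Matrix.vecMul, dotProduct, Matrix.transpose_apply, Fin.sum_univ_two, hn1, h11]

theorem p4sl4b_sq {F : Type*} [Field F] [CharP F 2] :
    p4sl4b_g F * p4sl4b_g F = Matrix.fromBlocks 1 !![1, 1; 1, 0] 0 1 := by
  unfold p4sl4b_g
  rw [Matrix.fromBlocks_multiply]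
  have h2 : (2 : F) = 0 := p4sl4b_two
  have h11 : (1 : F) + 1 = 0 := p4sl4b_one_add_one
  congr 1
  · ext i j
    fin_cases i <;> fin_cases j <;> simp [Matrix.mul_apply, Matrix.vecMul, dotProduct, Matrix.transpose_apply, Fin.sum_univ_two, h11]
  · ext i j
    fin_cases i <;> fin_cases j <;> simp [Matrix.mul_apply, Matrix.vecMul, dotProduct, Matrix.transpose_apply, Fin.sum_univ_two, h11]
  · ext i j
    fin_cases i <;> fin_cases j <;> simp [Matrix.mul_apply, Matrix.vecMul, dotProduct, Matrix.transpose_apply, Fin.sum_univ_two, h11]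
  · ext i j
    fin_cases i <;> fin_cases j <;> simp [Matrix.mul_apply, Matrix.vecMul, dotProduct, Matrix.transpose_apply, Fin.sum_univ_two, h11]

theorem p4sl4b_four {F : Type*} [Field F] [CharP F 2] :
    (Matrix.fromBlocks 1 !![1, 1; 1, 0] 0 1 : Matrix (Fin 2 ⊕ Fin 2) (Fin 2 ⊕ Fin 2) F) *
      Matrix.fromBlocks 1 !![1, 1; 1, 0] 0 1 = 1 := by
  rw [Matrix.fromBlocks_multiply, ← Matrix.fromBlocks_one]
  have h11 : (1 : F) + 1 = 0 := p4sl4b_one_add_one
  congr 1
  · simp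
  · ext i j
    fin_cases i <;> fin_cases j <;> simp [h11]
  · simp
  · simp

theorem p4sl4b_sq_ne {F : Type*} [Field F] :
    (Matrix.fromBlocks 1 !![1, 1; 1, 0] 0 1 : Matrix (Fin 2 ⊕ Fin 2) (Fin 2 ⊕ Fin 2) F) ≠ 1 := by
  intro h
  have := congrFun (congrFun h (Sum.inl 0)) (Sum.inr 0)
  simp at this

/-- the element of `Sp_4(F)` -/
theorem p4sl4b_sp {F : Type*} [Field F] [CharP F 2] :
    ∃ x : Matrix.symplecticGroup (Fin 2) F, orderOf x = 4 := by
  refine ⟨⟨p4sl4b_g F, p4sl4b_mem⟩, ?_⟩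
  have h4 : (4 : ℕ) = 2 ^ (1 + 1) := by norm_num
  rw [h4]
  haveI : Fact (Nat.Prime 2) := ⟨Nat.prime_two⟩
  apply orderOf_eq_prime_pow
  · intro h
    have h' := congrArg Subtype.val h
    rw [pow_one, sq] at h'
    change p4sl4b_g F * p4sl4b_g F = 1 at h'
    rw [p4sl4b_sq] at h'
    exact p4sl4b_sq_ne h'
  · apply Subtype.ext
    have e : (2 : ℕ) ^ (1 + 1) = 2 * 2 := by norm_num
    rw [e, pow_mul, sq, sq]
    change (p4sl4b_g F * p4sl4b_g F) * (p4sl4b_g F * p4sl4b_g F) = 1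
    rw [p4sl4b_sq, p4sl4b_four]

theorem exists_four {F : Type*} [Field F] [Fintype F] [CharP F 2] : ∃ y : Cfsg.PSp 2 F, orderOf y = 4 := by
  obtain ⟨x, hx⟩ := p4sl4b_sp (F := F)
  have h : (4 : ℕ) ∈ Set.range (orderOf : Matrix.symplecticGroup (Fin 2) F → ℕ) := ⟨x, hx⟩
  rw [← Cfsg.Agent.Lib.Helper19.SO8.psp_range (F := F) 2 (by norm_num)] at h
  exact h

end Cfsg.Agent.Lib.helper23.P4S
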