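import Cfsg.Agent.Lib.helper14.PgV2

set_option autoImplicit false

/-!
# Conjugating elements in a stabiliser chain whose base is an orbit segment

Elements `h` of the group of a chain with `h v = w h`, where the base of the chain is
`b, v b, v² b, …`: such an element is determined by the image `y` of `b` (the images of the base
points are `y, w y, w² y, …`), and the candidate for `y` is found by a descent without search.
If no candidate passes the final test `h v = w h` at the sample points, then `v` and `w` are not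
conjugate by an element of the group with `h v = w h`.
-/

namespace Cfsg.Agent.Lib.helper14.PV

open Cfsg.Agent.Lib.helper23 Subgroup MulAction

theorem pgDescVW_sound {n : ℕ} (vf wf : ℕ → ℕ) (v w : Equiv.Perm (Fin n)) (hv : PgRep vf v)
    (hw : PgRep wf w)
    (final : (ℕ → ℕ) → Bool) (h : Equiv.Perm (Fin n)) (hc : ∀ p : Fin n, h (v p) = w (h p)) :
    ∀ C : List PgLvlW, PgValidW n C → pgAdaptedW vf C = true →
    ∀ (pre preinv : ℕ → ℕ) (W : Equiv.Perm (Fin n)) (y : ℕ),
      (∀ p : Fin n, pre p.1 = (W p).1) → (∀ p : Fin n, preinv p.1 = (W⁻¹ p).1) →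
      (∀ L ∈ C.head?, ∀ hb : L.b < n, (h ⟨L.b, hb⟩).1 = y) →
      pgDescV n wf final C pre preinv y = true →
      ∀ h' ∈ pgGrpW n C, h = W * h' →
      ∃ f : ℕ → ℕ, (∀ p : Fin n, f p.1 = (h p).1) ∧ final f = true := by
  intro C
  induction C with
  | nil =>
    intro _ _ pre preinv W y hpre _ _ hen h' hh' hW
    rw [pgGrpW_nil, Subgroup.mem_bot] at hh'
    rw [hh', mul_one] at hW
    refine ⟨pre, ?_, hen⟩
    intro p
    rw [hW]
    exact hpre p
  | cons L C ih =>
    intro hval hadapt pre preinv W y hpre hpreinv hhead hen h' hh' hW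
    obtain ⟨h0, horbAll, hstabAll, hvalC⟩ := hval
    obtain ⟨hb, -, hok, -, -, hU, -⟩ := pgChkLvlW0_spec h0
    have horb := horbAll h' hh' hb
    set z : Fin n := h' ⟨L.b, hb⟩ with hz
    have hy : (h ⟨L.b, hb⟩).1 = y := hhead L (by simp) hb
    have hpz : preinv y = z.1 := by
      rw [← hy, hpreinv, hW, Equiv.Perm.mul_apply]
      simp [hz]
    have hen' : pgDescV n wf final C (fun p => pre (pgEvalW L.own (L.path z.1) p))
        (fun p => pgEvalW L.own (pgInvW L.own.length (L.path z.1)) (preinv p)) (wf y) = true := by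
      have e : pgDescV n wf final (L :: C) pre preinv y =
          pgForce (preinv y) (fun z => cond (L.inO z)
            (pgDescV n wf final C (fun p => pre (pgEvalW L.own (L.path z) p))
              (fun p => pgEvalW L.own (pgInvW L.own.length (L.path z)) (preinv p)) (wf y))
            true) := rfl
      rw [e, pgForce_eq, hpz, horb] at hen
      exact hen
    set u := pgWordPerm n L.own (L.path z.1) with hu
    have humem : u ∈ pgGrpW n (L :: C) := pgWordPerm_mem hok _
    obtain ⟨hlet, hUz⟩ := hU z.1 z.2 horb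
    have hub : u ⟨L.b, hb⟩ = z := by
      apply Fin.ext
      rw [hu, pgWordPerm_apply hok]
      exact hUz
    have hinv := pgInvW_perm hok (L.path z.1) hlet
    have hh'' : u⁻¹ * h' ∈ pgGrpW n C := by
      apply hstabAll _ (mul_mem (inv_mem humem) hh') hb
      rw [Equiv.Perm.mul_apply, ← hz, ← hub]
      simp
    refine ih hvalC ?_ _ _ (W * u) (wf y) ?_ ?_ ?_ hen' _ hh'' ?_
    · rw [pgAdaptedW_cons, Bool.and_eq_true] at hadapt
      exact hadapt.2
    · intro p
      show pre (pgEvalW L.own (L.path z.1) p.1) = _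
      rw [Equiv.Perm.mul_apply, ← hpre, hu, pgWordPerm_apply hok]
    · intro p
      show pgEvalW L.own (pgInvW L.own.length (L.path z.1)) (preinv p.1) = _
      rw [mul_inv_rev, Equiv.Perm.mul_apply, hpreinv p, ← pgWordPerm_apply hok, hinv]
    · intro L' hL' hb'
      cases C with
      | nil => simp at hL'
      | cons L'' C' =>
        simp only [List.head?_cons, Option.mem_def, Option.some.injEq] at hL'
        subst hL'
        rw [pgAdaptedW_cons, pgHeadOk_cons, Bool.and_eq_true, Nat.beq_eq] at hadapt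
        have hbb : (⟨L''.b, hb'⟩ : Fin n) = v ⟨L.b, hb⟩ := by
          apply Fin.ext
          rw [← hv]
          exact hadapt.1
        have hyn : y < n := by rw [← hy]; exact (h ⟨L.b, hb⟩).2
        have e1 : (h ⟨L.b, hb⟩) = ⟨y, hyn⟩ := Fin.ext hy
        rw [hbb, hc, e1, ← hw]
    · rw [hW]
      group

/-- the candidate does not satisfy `h v = w h` at one of the sample points -/
def pgNonConj (n : ℕ) (vf wf : ℕ → ℕ) (samples : List ℕ) (f : ℕ → ℕ) : Bool :=
  pgAnyL samples (fun s => Nat.blt s n && !(Nat.beq (f (vf s)) (wf (f s))))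

/-- the check: for no image `y` of the first base point there is a conjugating element -/
def pgNoConjChk (n : ℕ) (vf wf : ℕ → ℕ) (samples : List ℕ) (C : List PgLvlW) (lo cnt : ℕ) : Bool :=
  pgAll cnt (fun k => pgForce (Nat.add lo k) (fun y =>
    pgDescV n wf (pgNonConj n vf wf samples) C (fun p => p) (fun p => p) y))

/-- no element `h` of the group of the chain satisfies `h v = w h` -/
theorem pgNoConj {n : ℕ} {L : PgLvlW} {C : List PgLvlW} (hval : PgValidW n (L :: C))
    (vf wf : ℕ → ℕ) (v w : Equiv.Perm (Fin n)) (hv : PgRep vf v) (hw : PgRep wf w)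
    (hadapt : pgAdaptedW vf (L :: C) = true) (samples : List ℕ)
    (hen : pgNoConjChk n vf wf samples (L :: C) 0 n = true) :
    ∀ h ∈ pgGrpW n (L :: C), h * v ≠ w * h := by
  intro h hh hcomm
  have hc : ∀ p : Fin n, h (v p) = w (h p) := by
    intro p
    rw [← Equiv.Perm.mul_apply, ← Equiv.Perm.mul_apply, hcomm]
  obtain ⟨hb, -⟩ := pgChkLvlW0_spec hval.1
  set y : Fin n := h ⟨L.b, hb⟩ with hy
  unfold pgNoConjChk at hen
  have hen1 := (pgAll_iff _ _).1 hen y.1 y.2
  rw [pgForce_eq] at hen1
  have e0 : Nat.add 0 y.1 = y.1 := Nat.zero_add _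
  rw [e0] at hen1
  obtain ⟨f, hf, hfin⟩ := pgDescVW_sound vf wf v w hv hw (pgNonConj n vf wf samples) h hc (L :: C)
    hval hadapt (fun p => p) (fun p => p) 1 y.1 (fun _ => rfl) (fun _ => rfl)
    (by
      intro L' hL' hb'
      simp only [List.head?_cons, Option.mem_def, Option.some.injEq] at hL'
      subst hL'
      rfl)
    hen1 h hh (one_mul h).symm
  unfold pgNonConj at hfin
  obtain ⟨s, -, hs⟩ := (pgAnyL_iff _ _).1 hfin
  rw [Bool.and_eq_true, Nat.blt_eq] at hs
  obtain ⟨hsn, hs2⟩ := hs
  have : f (vf s) = wf (f s) := by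
    have e1 : vf s = (v ⟨s, hsn⟩).1 := hv ⟨s, hsn⟩
    have e2 : f s = (h ⟨s, hsn⟩).1 := hf ⟨s, hsn⟩
    rw [e1, e2, hf, hw, hc]
  have hbeq : Nat.beq (wf (f s)) (wf (f s)) = true := by rw [Nat.beq_eq]
  rw [this, hbeq] at hs2
  exact absurd hs2 (by decide)

end Cfsg.Agent.Lib.helper14.PV
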