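import Mathlib
import Cfsg.Prelude.Def_ClassicalGeometry
import Cfsg.Agent.Lib.helper6.SympBasis
import Cfsg.Agent.Lib.Lead.SympCount

set_option autoImplicit false

/-!
# Counting pairs of complementary totally isotropic subspaces of the symplectic space
-/

namespace Cfsg.Agent.Lib.helper14.PolB

open Cfsg.Agent.Lib.helper6 Cfsg.Agent.Lib.helper6.SB Cfsg.Agent.Lib.Lead Module

/-- the set of polar pairs -/
abbrev PP (d : ℕ) (F : Type*) [Field F] : Type _ :=
  {P : Submodule F (Fin d ⊕ Fin d → F) × Submodule F (Fin d ⊕ Fin d → F) //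
    IsCompl P.1 P.2 ∧ (∀ u ∈ P.1, ∀ v ∈ P.1, Cfsg.sympForm d F u v = 0) ∧
      (∀ u ∈ P.2, ∀ v ∈ P.2, Cfsg.sympForm d F u v = 0)}

variable {F : Type*} [Field F] (d : ℕ)

theorem isCompl_map {V : Type*} [AddCommGroup V] [Module F V] (L L' : V →ₗ[F] V)
    (h1 : ∀ v, L (L' v) = v) (h2 : ∀ v, L' (L v) = v) (U W : Submodule F V) (hc : IsCompl U W) :
    IsCompl (U.map L) (W.map L) := by
  constructor
  · rw [Submodule.disjoint_def]
    rintro x ⟨u, hu, rfl⟩ ⟨w, hw, hwe⟩
    have : w = u := by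
      have := congrArg L' hwe
      rwa [h2, h2] at this
    subst this
    have h0 : w = 0 := (Submodule.disjoint_def.mp hc.disjoint) w hu hw
    rw [h0, map_zero]
  · rw [codisjoint_iff, ← Submodule.map_sup, hc.sup_eq_top, Submodule.map_top,
      LinearMap.range_eq_top]
    intro v
    exact ⟨L' v, h1 v⟩

/-- the linear map of a symplectic matrix -/
noncomputable def Lg (g : Matrix.symplecticGroup (Fin d) F) :
    (Fin d ⊕ Fin d → F) →ₗ[F] (Fin d ⊕ Fin d → F) :=
  Matrix.toLin' (g : Matrix (Fin d ⊕ Fin d) (Fin d ⊕ Fin d) F)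

theorem Lg_apply (g : Matrix.symplecticGroup (Fin d) F) (v : Fin d ⊕ Fin d → F) :
    Lg d g v = (g : Matrix (Fin d ⊕ Fin d) (Fin d ⊕ Fin d) F).mulVec v := Matrix.toLin'_apply _ _

theorem Lg_one : Lg d (1 : Matrix.symplecticGroup (Fin d) F) = LinearMap.id := Matrix.toLin'_one

theorem Lg_mul (g h : Matrix.symplecticGroup (Fin d) F) :
    Lg d (g * h) = Lg d g ∘ₗ Lg d h := Matrix.toLin'_mul _ _

theorem Lg_symp (g : Matrix.symplecticGroup (Fin d) F) (u v : Fin d ⊕ Fin d → F) :
    Cfsg.sympForm d F (Lg d g u) (Lg d g v) = Cfsg.sympForm d F u v := by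
  rw [Lg_apply, Lg_apply]
  exact (mem_symplecticGroup_iff_sympForm d _).mp g.2 u v

theorem Lg_inv_left (g : Matrix.symplecticGroup (Fin d) F) (v : Fin d ⊕ Fin d → F) :
    Lg d g (Lg d g⁻¹ v) = v := by
  rw [← LinearMap.comp_apply, ← Lg_mul, mul_inv_cancel, Lg_one, LinearMap.id_apply]

theorem Lg_inv_right (g : Matrix.symplecticGroup (Fin d) F) (v : Fin d ⊕ Fin d → F) :
    Lg d g⁻¹ (Lg d g v) = v := by
  rw [← LinearMap.comp_apply, ← Lg_mul, inv_mul_cancel, Lg_one, LinearMap.id_apply]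

theorem ti_map (g : Matrix.symplecticGroup (Fin d) F) (U : Submodule F (Fin d ⊕ Fin d → F))
    (hU : ∀ u ∈ U, ∀ v ∈ U, Cfsg.sympForm d F u v = 0) :
    ∀ u ∈ U.map (Lg d g), ∀ v ∈ U.map (Lg d g), Cfsg.sympForm d F u v = 0 := by
  rintro _ ⟨u, hu, rfl⟩ _ ⟨v, hv, rfl⟩
  rw [Lg_symp]
  exact hU u hu v hv

noncomputable instance instMulActionPP : MulAction (Matrix.symplecticGroup (Fin d) F) (PP d F) where
  smul g P := ⟨(P.1.1.map (Lg d g), P.1.2.map (Lg d g)),
    ⟨isCompl_map (Lg d g) (Lg d g⁻¹) (Lg_inv_left d g) (Lg_inv_right d g) _ _ P.2.1,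
      ti_map d g _ P.2.2.1, ti_map d g _ P.2.2.2⟩⟩
  one_smul P := by
    apply Subtype.ext
    apply Prod.ext
    · show P.1.1.map (Lg d 1) = P.1.1
      rw [Lg_one, Submodule.map_id]
    · show P.1.2.map (Lg d 1) = P.1.2
      rw [Lg_one, Submodule.map_id]
  mul_smul g h P := by
    apply Subtype.ext
    apply Prod.ext
    · show P.1.1.map (Lg d (g * h)) = (P.1.1.map (Lg d h)).map (Lg d g)
      rw [Lg_mul, Submodule.map_comp]
    · show P.1.2.map (Lg d (g * h)) = (P.1.2.map (Lg d h)).map (Lg d g)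
      rw [Lg_mul, Submodule.map_comp]

theorem smul_fst (g : Matrix.symplecticGroup (Fin d) F) (P : PP d F) :
    (g • P).1.1 = P.1.1.map (Lg d g) := rfl

theorem smul_snd (g : Matrix.symplecticGroup (Fin d) F) (P : PP d F) :
    (g • P).1.2 = P.1.2.map (Lg d g) := rfl

/-- the standard Lagrangians -/
def E1 : Submodule F (Fin d ⊕ Fin d → F) := LinearMap.ker (LinearMap.funLeft F F Sum.inr)

def E2 : Submodule F (Fin d ⊕ Fin d → F) := LinearMap.ker (LinearMap.funLeft F F Sum.inl)

theorem mem_E1 (v : Fin d ⊕ Fin d → F) : v ∈ E1 (F := F) d ↔ ∀ i, v (Sum.inr i) = 0 := by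
  unfold E1
  rw [LinearMap.mem_ker]
  constructor
  · intro h i
    exact congrFun h i
  · intro h
    funext i
    exact h i

theorem mem_E2 (v : Fin d ⊕ Fin d → F) : v ∈ E2 (F := F) d ↔ ∀ i, v (Sum.inl i) = 0 := by
  unfold E2
  rw [LinearMap.mem_ker]
  constructor
  · intro h i
    exact congrFun h i
  · intro h
    funext i
    exact h i

theorem isCompl_E : IsCompl (E1 (F := F) d) (E2 d) := by
  constructor
  · rw [Submodule.disjoint_def]
    intro v h1 h2
    rw [mem_E1] at h1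
    rw [mem_E2] at h2
    funext s
    rcases s with i | i
    · exact h2 i
    · exact h1 i
  · rw [codisjoint_iff, eq_top_iff]
    intro v _
    rw [Submodule.mem_sup]
    refine ⟨Sum.elim (fun i => v (Sum.inl i)) 0, ?_, Sum.elim 0 (fun i => v (Sum.inr i)), ?_, ?_⟩
    · rw [mem_E1]
      intro i
      rfl
    · rw [mem_E2]
      intro i
      rfl
    · funext s
      rcases s with i | i
      · simp
      · simp

theorem ti_E1 : ∀ u ∈ E1 (F := F) d, ∀ v ∈ E1 (F := F) d, Cfsg.sympForm d F u v = 0 := by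
  intro u hu v hv
  rw [mem_E1] at hu hv
  rw [sympForm_eq_sum]
  apply Finset.sum_eq_zero
  intro i _
  rw [hu i, hv i]
  ring

theorem ti_E2 : ∀ u ∈ E2 (F := F) d, ∀ v ∈ E2 (F := F) d, Cfsg.sympForm d F u v = 0 := by
  intro u hu v hv
  rw [mem_E2] at hu hv
  rw [sympForm_eq_sum]
  apply Finset.sum_eq_zero
  intro i _
  rw [hu i, hv i]
  ring

/-- the standard pair -/
def P0 : PP d F := ⟨(E1 d, E2 d), ⟨isCompl_E d, ti_E1 d, ti_E2 d⟩⟩

/-! ### the Levi factor -/

theorem levi_mem (A : Matrix.GeneralLinearGroup (Fin d) F) :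
    Matrix.fromBlocks (A : Matrix (Fin d) (Fin d) F) 0 0
      ((↑A⁻¹ : Matrix (Fin d) (Fin d) F).transpose) ∈ Matrix.symplecticGroup (Fin d) F := by
  rw [SymplecticGroup.mem_iff]
  unfold Matrix.J
  rw [Matrix.fromBlocks_transpose, Matrix.fromBlocks_multiply, Matrix.fromBlocks_multiply]
  simp only [Matrix.mul_zero, Matrix.zero_mul, add_zero, zero_add, Matrix.mul_one, Matrix.mul_neg,
    Matrix.neg_mul, Matrix.transpose_zero, Matrix.transpose_transpose, Matrix.one_mul, neg_zero]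
  have h1 : (A : Matrix (Fin d) (Fin d) F) * (↑A⁻¹ : Matrix (Fin d) (Fin d) F) = 1 := by
    rw [← Units.val_mul, mul_inv_cancel, Units.val_one]
  have h2 : (↑A⁻¹ : Matrix (Fin d) (Fin d) F).transpose * (A : Matrix (Fin d) (Fin d) F).transpose
      = 1 := by
    rw [← Matrix.transpose_mul, h1, Matrix.transpose_one]
  rw [h1, h2]

/-- the Levi embedding `GL_d → Sp_{2d}` -/
noncomputable def levi : Matrix.GeneralLinearGroup (Fin d) F →* Matrix.symplecticGroup (Fin d) F where
  toFun A := ⟨_, levi_mem d A⟩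
  map_one' := by
    apply Subtype.ext
    show Matrix.fromBlocks ((1 : Matrix.GeneralLinearGroup (Fin d) F) : Matrix (Fin d) (Fin d) F) 0 0
      ((↑(1 : Matrix.GeneralLinearGroup (Fin d) F)⁻¹ : Matrix (Fin d) (Fin d) F).transpose) = 1
    rw [inv_one, Units.val_one, Matrix.transpose_one, Matrix.fromBlocks_one]
  map_mul' A B := by
    apply Subtype.ext
    show Matrix.fromBlocks ((A * B : Matrix.GeneralLinearGroup (Fin d) F) : Matrix (Fin d) (Fin d) F)
      0 0 ((↑(A * B)⁻¹ : Matrix (Fin d) (Fin d) F).transpose) =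
      Matrix.fromBlocks (A : Matrix (Fin d) (Fin d) F) 0 0
        ((↑A⁻¹ : Matrix (Fin d) (Fin d) F).transpose) *
      Matrix.fromBlocks (B : Matrix (Fin d) (Fin d) F) 0 0
        ((↑B⁻¹ : Matrix (Fin d) (Fin d) F).transpose)
    rw [Matrix.fromBlocks_multiply, mul_inv_rev, Units.val_mul, Units.val_mul, Matrix.transpose_mul]
    simp only [Matrix.mul_zero, Matrix.zero_mul, add_zero, zero_add]

theorem levi_val (A : Matrix.GeneralLinearGroup (Fin d) F) :
    ((levi d A : Matrix.symplecticGroup (Fin d) F) : Matrix (Fin d ⊕ Fin d) (Fin d ⊕ Fin d) F) =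
      Matrix.fromBlocks (A : Matrix (Fin d) (Fin d) F) 0 0
        ((↑A⁻¹ : Matrix (Fin d) (Fin d) F).transpose) := rfl

theorem levi_injective : Function.Injective (levi (F := F) d) := by
  intro A B h
  have h1 := congrArg Subtype.val h
  rw [levi_val, levi_val, Matrix.fromBlocks_inj] at h1
  exact Units.ext h1.1

theorem levi_E1_le (A : Matrix.GeneralLinearGroup (Fin d) F) :
    (E1 (F := F) d).map (Lg d (levi d A)) ≤ E1 d := by
  rintro _ ⟨v, hv, rfl⟩
  rw [SetLike.mem_coe] at hv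
  rw [mem_E1] at hv ⊢
  intro i
  rw [Lg_apply, levi_val, Matrix.fromBlocks_mulVec, Sum.elim_inr]
  have : v ∘ Sum.inr = 0 := funext hv
  rw [this, Matrix.mulVec_zero, Matrix.zero_mulVec, add_zero]
  rfl

theorem levi_E2_le (A : Matrix.GeneralLinearGroup (Fin d) F) :
    (E2 (F := F) d).map (Lg d (levi d A)) ≤ E2 d := by
  rintro _ ⟨v, hv, rfl⟩
  rw [SetLike.mem_coe] at hv
  rw [mem_E2] at hv ⊢
  intro i
  rw [Lg_apply, levi_val, Matrix.fromBlocks_mulVec, Sum.elim_inl]
  have : v ∘ Sum.inl = 0 := funext hv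
  rw [this, Matrix.mulVec_zero, Matrix.zero_mulVec, add_zero]
  rfl

theorem map_eq_of_le (f : Matrix.GeneralLinearGroup (Fin d) F →* Matrix.symplecticGroup (Fin d) F)
    (U : Submodule F (Fin d ⊕ Fin d → F)) (h : ∀ A, U.map (Lg d (f A)) ≤ U)
    (A : Matrix.GeneralLinearGroup (Fin d) F) : U.map (Lg d (f A)) = U := by
  apply le_antisymm (h A)
  have h1 : U = (U.map (Lg d (f A⁻¹))).map (Lg d (f A)) := by
    rw [← Submodule.map_comp, ← Lg_mul, ← map_mul, mul_inv_cancel, map_one, Lg_one,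
      Submodule.map_id]
  calc U = (U.map (Lg d (f A⁻¹))).map (Lg d (f A)) := h1
    _ ≤ U.map (Lg d (f A)) := Submodule.map_mono (h A⁻¹)

theorem levi_le_stab : (levi (F := F) d).range ≤ MulAction.stabilizer _ (P0 (F := F) d) := by
  rintro _ ⟨A, rfl⟩
  rw [MulAction.mem_stabilizer_iff]
  apply Subtype.ext
  apply Prod.ext
  · rw [smul_fst]
    exact map_eq_of_le d (levi d) (E1 d) (levi_E1_le d) A
  · rw [smul_snd]
    exact map_eq_of_le d (levi d) (E2 d) (levi_E2_le d) A

/-! ### transitivity -/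

theorem pair_nondeg (U W : Submodule F (Fin d ⊕ Fin d → F)) (hc : IsCompl U W)
    (hW : ∀ u ∈ W, ∀ v ∈ W, Cfsg.sympForm d F u v = 0) :
    ∀ w ∈ W, (∀ u ∈ U, Cfsg.sympForm d F u w = 0) → w = 0 := by
  intro w hw h
  by_contra hne
  obtain ⟨y, hy⟩ := sympForm_nondeg d w hne
  apply hy
  have hy' : y ∈ U ⊔ W := by rw [hc.sup_eq_top]; exact Submodule.mem_top
  obtain ⟨u, hu, w', hw', rfl⟩ := Submodule.mem_sup.mp hy'
  rw [sympForm_add_right, hW w hw w' hw', add_zero, sympForm_swap, h u hu, neg_zero]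

theorem exists_frame (U W : Submodule F (Fin d ⊕ Fin d → F)) (hc : IsCompl U W)
    (hU : ∀ u ∈ U, ∀ v ∈ U, Cfsg.sympForm d F u v = 0)
    (hW : ∀ u ∈ W, ∀ v ∈ W, Cfsg.sympForm d F u v = 0) :
    ∃ e h : Fin d → (Fin d ⊕ Fin d → F), (∀ a, e a ∈ U) ∧ (∀ a, h a ∈ W) ∧
      IsHFrame (sympB F d) (-1) e h := by
  classical
  have hB : ∀ u v, sympB F d u v = Cfsg.sympForm d F u v := fun u v => sympB_apply u v
  -- the two pairings
  let Φ : W →ₗ[F] U →ₗ[F] F := (sympB F d).flip.domRestrict₁₂ W U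
  let Ψ : U →ₗ[F] W →ₗ[F] F := (sympB F d).domRestrict₁₂ U W
  have hΦ : ∀ (w : W) (u : U), Φ w u = Cfsg.sympForm d F u w := fun w u => hB _ _
  have hΨ : ∀ (u : U) (w : W), Ψ u w = Cfsg.sympForm d F u w := fun u w => hB _ _
  have hΦinj : Function.Injective Φ := by
    rw [injective_iff_map_eq_zero]
    intro w hw
    apply Subtype.ext
    apply pair_nondeg d U W hc hW w w.2
    intro u hu
    have := LinearMap.congr_fun hw ⟨u, hu⟩
    rw [hΦ, LinearMap.zero_apply] at this
    exact this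
  have hΨinj : Function.Injective Ψ := by
    rw [injective_iff_map_eq_zero]
    intro u hu
    apply Subtype.ext
    apply pair_nondeg d W U hc.symm hU u u.2
    intro w hw
    have := LinearMap.congr_fun hu ⟨w, hw⟩
    rw [hΨ, LinearMap.zero_apply] at this
    rw [sympForm_swap, this, neg_zero]
  have h1 : finrank F W ≤ finrank F U := by
    have := LinearMap.finrank_le_finrank_of_injective hΦinj
    rwa [Subspace.dual_finrank_eq] at this
  have h2 : finrank F U ≤ finrank F W := by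
    have := LinearMap.finrank_le_finrank_of_injective hΨinj
    rwa [Subspace.dual_finrank_eq] at this
  have h3 : finrank F U + finrank F W = 2 * d := by
    rw [Submodule.finrank_add_eq_of_isCompl hc, Module.finrank_fintype_fun_eq_card,
      Fintype.card_sum, Fintype.card_fin]
    ring
  have hUd : finrank F U = d := by omega
  have hWd : finrank F W = d := by omega
  have hΦsurj : Function.Surjective Φ := by
    apply (LinearMap.injective_iff_surjective_of_finrank_eq_finrank _).mp hΦinj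
    rw [Subspace.dual_finrank_eq, hUd, hWd]
  let b : Basis (Fin d) F U := Module.finBasisOfFinrankEq F U hUd
  choose w hw using fun a => hΦsurj (-(b.dualBasis a))
  refine ⟨fun a => (b a : Fin d ⊕ Fin d → F), fun a => (w a : Fin d ⊕ Fin d → F),
    fun a => (b a).2, fun a => (w a).2, ?_, ?_, ?_⟩
  · intro a c
    rw [hB]
    exact hU _ (b a).2 _ (b c).2
  · intro a c
    rw [hB]
    exact hW _ (w a).2 _ (w c).2
  · intro a c
    rw [hB, ← hΦ (w c) (b a), hw c, LinearMap.neg_apply, Basis.dualBasis_apply_self]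
    split_ifs <;> simp

theorem eq_of_le_of_isCompl {V : Type*} [AddCommGroup V] [Module F V] (A B U W : Submodule F V)
    (hA : A ≤ U) (hB : B ≤ W) (hAB : IsCompl A B) (hUW : IsCompl U W) : A = U := by
  apply le_antisymm hA
  intro u hu
  have hu' : u ∈ A ⊔ B := by rw [hAB.sup_eq_top]; exact Submodule.mem_top
  obtain ⟨a, ha, b', hb, rfl⟩ := Submodule.mem_sup.mp hu'
  have hbU : b' ∈ U := by
    have := U.sub_mem hu (hA ha)
    rwa [add_sub_cancel_left] at this
  have hb0 : b' = 0 := (Submodule.disjoint_def.mp hUW.disjoint) b' hbU (hB hb)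
  rw [hb0, add_zero]
  exact ha

theorem transitive (P : PP d F) : ∃ g : Matrix.symplecticGroup (Fin d) F, g • P0 d = P := by
  classical
  obtain ⟨e, h, he, hh, hfr⟩ := exists_frame d P.1.1 P.1.2 P.2.1 P.2.2.1 P.2.2.2
  let g : Matrix.symplecticGroup (Fin d) F := spEquivFrames.symm ⟨(e, h), hfr⟩
  have hg : ∀ v : Fin d ⊕ Fin d → F, Lg d g v =
      ∑ a, (v (Sum.inl a) • e a + v (Sum.inr a) • h a) := by
    intro v
    rw [Lg_apply]
    funext i
    show (Matrix.of (fun i k => Sum.elim (fun a => e a i) (fun a => h a i) k)).mulVec v i = _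
    simp only [Matrix.mulVec, dotProduct, Fintype.sum_sum_type, Matrix.of_apply, Sum.elim_inl,
      Sum.elim_inr, Finset.sum_apply, Pi.add_apply, Pi.smul_apply, smul_eq_mul,
      Finset.sum_add_distrib]
    congr 1 <;> exact Finset.sum_congr rfl (fun a _ => mul_comm _ _)
  have hA : (E1 (F := F) d).map (Lg d g) ≤ P.1.1 := by
    rintro _ ⟨v, hv, rfl⟩
    rw [SetLike.mem_coe, mem_E1] at hv
    rw [hg]
    apply Submodule.sum_mem
    intro a _
    rw [hv a, zero_smul, add_zero]
    exact Submodule.smul_mem _ _ (he a)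
  have hB : (E2 (F := F) d).map (Lg d g) ≤ P.1.2 := by
    rintro _ ⟨v, hv, rfl⟩
    rw [SetLike.mem_coe, mem_E2] at hv
    rw [hg]
    apply Submodule.sum_mem
    intro a _
    rw [hv a, zero_smul, zero_add]
    exact Submodule.smul_mem _ _ (hh a)
  have hc : IsCompl ((E1 (F := F) d).map (Lg d g)) ((E2 (F := F) d).map (Lg d g)) :=
    (g • P0 (F := F) d).2.1
  refine ⟨g, ?_⟩
  apply Subtype.ext
  apply Prod.ext
  · rw [smul_fst]
    exact eq_of_le_of_isCompl _ _ _ _ hA hB hc P.2.1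
  · rw [smul_snd]
    exact eq_of_le_of_isCompl _ _ _ _ hB hA hc.symm P.2.1.symm

/-- the count: `|𝒫| · |GL_d(F)|` divides `|Sp_{2d}(F)|` -/
theorem card_mul_dvd [Fintype F] :
    Nat.card (PP d F) * Nat.card (Matrix.GeneralLinearGroup (Fin d) F) ∣
      Nat.card (Matrix.symplecticGroup (Fin d) F) := by
  have h1 := Subgroup.index_mul_card (MulAction.stabilizer (Matrix.symplecticGroup (Fin d) F)
    (P0 (F := F) d))
  rw [MulAction.index_stabilizer] at h1
  have horb : MulAction.orbit (Matrix.symplecticGroup (Fin d) F) (P0 (F := F) d) = Set.univ := by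
    rw [Set.eq_univ_iff_forall]
    intro P
    obtain ⟨g, hg⟩ := transitive d P
    exact ⟨g, hg⟩
  rw [horb, Set.ncard_univ] at h1
  rw [← h1]
  apply Nat.mul_dvd_mul_left
  have h2 : Nat.card (Matrix.GeneralLinearGroup (Fin d) F) = Nat.card (levi (F := F) d).range :=
    Nat.card_congr (MonoidHom.ofInjective (levi_injective d)).toEquiv
  rw [h2]
  exact Subgroup.card_dvd_of_le (levi_le_stab d)

end Cfsg.Agent.Lib.helper14.PolB
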