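import Mathlib
import Cfsg.Agent.Lib.helper14.PolB
import Cfsg.Agent.Lib.helper3.A7Trans
import Cfsg.Agent.S0245

set_option autoImplicit false

/-!
# Arithmetic for the polar pair count
-/

namespace Cfsg.Agent.Lib.helper14.PolD

open Finset

theorem sum_sq (d : ℕ) : ∑ i ∈ range d, i + ∑ i ∈ range d, (i + 1) = d ^ 2 := by
  induction d with
  | zero => simp
  | succ n ih =>
    rw [sum_range_succ, sum_range_succ]
    have : (n + 1) ^ 2 = n ^ 2 + (n + (n + 1)) := by ring
    rw [this, ← ih]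
    ring

theorem card_identity (q d : ℕ) (hq : 1 ≤ q) :
    q ^ (d ^ 2) * ∏ i ∈ range d, (q ^ (2 * (i + 1)) - 1) =
      (∏ i : Fin d, (q ^ d - q ^ (i : ℕ))) *
        (q ^ (∑ i ∈ range d, (i + 1)) * ∏ i ∈ range d, (q ^ (i + 1) + 1)) := by
  have h1 : ∏ i : Fin d, (q ^ d - q ^ (i : ℕ)) = ∏ i ∈ range d, (q ^ d - q ^ i) :=
    (Finset.prod_range (fun i => q ^ d - q ^ i)).symm
  have h2 : ∏ i ∈ range d, (q ^ d - q ^ i) = ∏ i ∈ range d, (q ^ i * (q ^ (d - i) - 1)) := by
    apply Finset.prod_congr rfl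
    intro i hi
    rw [Finset.mem_range] at hi
    rw [Nat.mul_sub, mul_one, ← pow_add]
    congr 2
    omega
  have h3 : ∏ i ∈ range d, (q ^ (d - i) - 1) = ∏ i ∈ range d, (q ^ (i + 1) - 1) := by
    rw [← Finset.prod_range_reflect (fun i => q ^ (i + 1) - 1) d]
    apply Finset.prod_congr rfl
    intro i hi
    rw [Finset.mem_range] at hi
    congr 2
    omega
  have h4 : ∏ i ∈ range d, (q ^ (2 * (i + 1)) - 1) =
      (∏ i ∈ range d, (q ^ (i + 1) - 1)) * ∏ i ∈ range d, (q ^ (i + 1) + 1) := by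
    rw [← Finset.prod_mul_distrib]
    apply Finset.prod_congr rfl
    intro i _
    have h1 : 1 ≤ q ^ (i + 1) := Nat.one_le_pow _ _ hq
    obtain ⟨b, hb⟩ := Nat.exists_eq_add_of_le' h1
    have e : q ^ (2 * (i + 1)) = q ^ (i + 1) * q ^ (i + 1) := by rw [two_mul, pow_add]
    rw [e, hb, Nat.add_sub_cancel]
    have : (b + 1) * (b + 1) = b * (b + 1 + 1) + 1 := by ring
    rw [this, Nat.add_sub_cancel]
  rw [h1, h2, Finset.prod_mul_distrib, Finset.prod_pow_eq_pow_sum, h3, h4, ← sum_sq d, pow_add]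
  ring

theorem two_le_card {F : Type*} [Field F] [Fintype F] : 2 ≤ Fintype.card F :=
  Fintype.one_lt_card

theorem not_dvd_q {F : Type*} [Field F] [Fintype F] {p : ℕ} [hp : Fact p.Prime] [CharP F p] {q : ℕ}
    (hq : Fintype.card F = q) (r : ℕ) [hr : Fact r.Prime] (hrp : r ≠ p) : ¬ r ∣ q := by
  intro h
  obtain ⟨n, _, hn⟩ := FiniteField.card F p
  rw [hq] at hn
  rw [hn] at h
  exact hrp ((Nat.prime_dvd_prime_iff_eq hr.out hp.out).mp (hr.out.dvd_of_dvd_pow h))

theorem exists_j {F : Type*} [Field F] [Fintype F] {p : ℕ} [hp : Fact p.Prime] [CharP F p] {q : ℕ}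
    (hq : Fintype.card F = q) (d : ℕ) (r : ℕ) [hr : Fact r.Prime] (hrp : r ≠ p)
    (hN : r ∣ Nat.card (PolB.PP d F)) : ∃ j, 1 ≤ j ∧ j ≤ d ∧ r ∣ q ^ j + 1 := by
  have hq2 : 2 ≤ q := hq ▸ two_le_card
  have h := PolB.card_mul_dvd (F := F) d
  rw [Cfsg.Agent.S0245.result hq d, Matrix.card_GL_field, hq, card_identity q d (by omega)] at h
  have hG : 0 < ∏ i : Fin d, (q ^ d - q ^ (i : ℕ)) := by
    apply Finset.prod_pos
    intro i _
    have : q ^ (i : ℕ) < q ^ d := Nat.pow_lt_pow_right (by omega) i.2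
    omega
  have h2 : (∏ i : Fin d, (q ^ d - q ^ (i : ℕ))) * r ∣ (∏ i : Fin d, (q ^ d - q ^ (i : ℕ))) *
      (q ^ (∑ i ∈ range d, (i + 1)) * ∏ i ∈ range d, (q ^ (i + 1) + 1)) := by
    refine dvd_trans ?_ h
    rw [mul_comm]
    exact Nat.mul_dvd_mul_right hN _
  have h3 := Nat.dvd_of_mul_dvd_mul_left hG h2
  rcases (Nat.Prime.dvd_mul hr.out).mp h3 with h4 | h4
  · exact absurd (hr.out.dvd_of_dvd_pow h4) (not_dvd_q hq r hrp)
  · obtain ⟨i, hi, hdiv⟩ := (Prime.dvd_finset_prod_iff (Nat.Prime.prime hr.out) _).mp h4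
    rw [Finset.mem_range] at hi
    exact ⟨i + 1, by omega, by omega, hdiv⟩

/-- the order of `q` modulo `r` is `2j` when `j` is minimal with `r ∣ q^j + 1` -/
theorem ord_facts (q r j : ℕ) [hr : Fact r.Prime] (hr2 : r ≠ 2) (hj : 1 ≤ j)
    (hdiv : r ∣ q ^ j + 1) (hmin : ∀ i, 1 ≤ i → i < j → ¬ r ∣ q ^ i + 1) :
    r ∣ q ^ (2 * j) - 1 ∧ ∀ m, 0 < m → m < 2 * j → ¬ r ∣ q ^ m - 1 := by
  have hq0 : 1 ≤ q := by
    rcases Nat.eq_zero_or_pos q with h0 | h0
    · exfalso
      rw [h0, zero_pow (by omega), zero_add] at hdiv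
      exact hr.out.one_lt.ne' (Nat.dvd_one.mp hdiv)
    · exact h0
  have h2r : Fact (2 < r) := ⟨by have := hr.out.two_le; omega⟩
  set a : ZMod r := (q : ZMod r) with ha
  have haj : a ^ j = -1 := by
    have : ((q ^ j + 1 : ℕ) : ZMod r) = 0 := (ZMod.natCast_eq_zero_iff _ _).mpr hdiv
    rw [Nat.cast_add, Nat.cast_pow, Nat.cast_one] at this
    exact eq_neg_of_add_eq_zero_left this
  have ha2j : a ^ (2 * j) = 1 := by
    rw [mul_comm, pow_mul, haj]
    ring
  have cast_sub : ∀ m, ((q ^ m - 1 : ℕ) : ZMod r) = a ^ m - 1 := by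
    intro m
    rw [Nat.cast_sub (Nat.one_le_pow _ _ hq0), Nat.cast_pow, Nat.cast_one]
  refine ⟨?_, ?_⟩
  · rw [← ZMod.natCast_eq_zero_iff, cast_sub, ha2j, sub_self]
  · intro m hm0 hm hdvd
    have ham : a ^ m = 1 := by
      have := (ZMod.natCast_eq_zero_iff _ _).mpr hdvd
      rw [cast_sub] at this
      exact sub_eq_zero.mp this
    have ho1 : orderOf a ∣ 2 * j := orderOf_dvd_of_pow_eq_one ha2j
    have ho2 : orderOf a ∣ m := orderOf_dvd_of_pow_eq_one ham
    have ho3 : ¬ orderOf a ∣ j := by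
      intro h
      have := orderOf_dvd_iff_pow_eq_one.mp h
      rw [haj] at this
      exact ZMod.neg_one_ne_one this
    have hopos : 0 < orderOf a := by
      apply Nat.pos_of_ne_zero
      intro h0
      rw [h0] at ho2
      have := Nat.eq_zero_of_zero_dvd ho2
      omega
    have heven : 2 ∣ orderOf a := by
      by_contra hodd
      apply ho3
      have hcop : Nat.Coprime (orderOf a) 2 := by
        rw [Nat.coprime_comm]
        exact (Nat.Prime.coprime_iff_not_dvd Nat.prime_two).mpr hodd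
      exact hcop.dvd_of_dvd_mul_left ho1
    obtain ⟨t, ht⟩ := heven
    have htj : t ∣ j := by
      rw [ht] at ho1
      exact (Nat.mul_dvd_mul_iff_left (by norm_num)).mp ho1
    have ht0 : 0 < t := by omega
    have hat1 : a ^ t ≠ 1 := by
      apply pow_ne_one_of_lt_orderOf (by omega)
      omega
    have hat2 : a ^ t = -1 := by
      have h1 : (a ^ t - 1) * (a ^ t + 1) = 0 := by
        have : a ^ (2 * t) = 1 := by rw [← ht]; exact pow_orderOf_eq_one a
        rw [mul_comm, pow_mul] at this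
        linear_combination this
      rcases mul_eq_zero.mp h1 with h | h
      · exact absurd (sub_eq_zero.mp h) hat1
      · exact eq_neg_of_add_eq_zero_left h
    have hdt : r ∣ q ^ t + 1 := by
      rw [← ZMod.natCast_eq_zero_iff, Nat.cast_add, Nat.cast_pow, Nat.cast_one, ← ha, hat2]
      ring
    have htj' : t ≤ j := Nat.le_of_dvd (by omega) htj
    have : ¬ t < j := fun hlt => hmin t ht0 hlt hdt
    have hteq : t = j := by omega
    have := Nat.le_of_dvd hm0 ho2
    omega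

/-- the number of polar pairs is even -/
theorem even_card {F : Type*} [Field F] [Fintype F] (d : ℕ) (hd : 1 ≤ d) :
    2 ∣ Nat.card (PolB.PP d F) := by
  classical
  have hfinS : Finite (Submodule F (Fin d ⊕ Fin d → F)) :=
    Finite.of_injective (fun U : Submodule F (Fin d ⊕ Fin d → F) => (U : Set (Fin d ⊕ Fin d → F)))
      SetLike.coe_injective
  have hfin : Finite (PolB.PP d F) := inferInstance
  let σ : Equiv.Perm (PolB.PP d F) :=
    { toFun := fun P => ⟨(P.1.2, P.1.1), ⟨P.2.1.symm, P.2.2.2, P.2.2.1⟩⟩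
      invFun := fun P => ⟨(P.1.2, P.1.1), ⟨P.2.1.symm, P.2.2.2, P.2.2.1⟩⟩
      left_inv := fun P => rfl
      right_inv := fun P => rfl }
  have hσ2 : σ ^ 2 = 1 := by
    ext1 P
    rfl
  have h := Cfsg.Agent.Lib.helper3.card_modEq_fixed_of_prime_order σ 2 hσ2
    (Set.univ : Set (PolB.PP d F)) (fun _ _ => Set.mem_univ _)
  rw [Nat.card_congr (Equiv.Set.univ _)] at h
  have hempty : IsEmpty {P : PolB.PP d F // P ∈ (Set.univ : Set (PolB.PP d F)) ∧ σ • P = P} := by
    constructor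
    rintro ⟨P, _, hP⟩
    have h1 : P.1.2 = P.1.1 := congrArg (fun Q : PolB.PP d F => Q.1.1) hP
    have hc := P.2.1
    rw [h1] at hc
    have hbot : P.1.1 = ⊥ := by
      have := hc.inf_eq_bot
      rwa [inf_idem] at this
    have htop : P.1.1 = ⊤ := by
      have := hc.sup_eq_top
      rwa [sup_idem] at this
    have hmem : (Pi.single (Sum.inl ⟨0, hd⟩) 1 : Fin d ⊕ Fin d → F) ∈ P.1.1 := by
      rw [htop]
      exact Submodule.mem_top
    rw [hbot, Submodule.mem_bot] at hmem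
    have := congrFun hmem (Sum.inl ⟨0, hd⟩)
    simp at this
  have h0 : Nat.card {P : PolB.PP d F // P ∈ (Set.univ : Set (PolB.PP d F)) ∧ σ • P = P} = 0 :=
    Nat.card_of_isEmpty
  rw [h0] at h
  exact (Nat.modEq_zero_iff_dvd).mp h

end Cfsg.Agent.Lib.helper14.PolD
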