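import Mathlib

/-!
# Points of a projective space lying in a subspace, and their number
-/

set_option autoImplicit false

open scoped LinearAlgebra.Projectivization

namespace Cfsg.Agent.Lib.helper14.ProjPts

variable {K V : Type*} [Field K] [AddCommGroup V] [Module K V]

/-- the points of the projective space lying in the subspace `W` -/
def ptsIn (W : Submodule K V) : Set (ℙ K V) := {x | x.rep ∈ W}

theorem mk_mem_ptsIn (W : Submodule K V) (v : V) (hv : v ≠ 0) :
    Projectivization.mk K v hv ∈ ptsIn W ↔ v ∈ W := by
  obtain ⟨a, ha⟩ := Projectivization.exists_smul_eq_mk_rep K v hv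
  show (Projectivization.mk K v hv).rep ∈ W ↔ v ∈ W
  rw [← ha]
  constructor
  · intro h
    have := W.smul_mem ((a⁻¹ : Kˣ) : K) h
    rwa [Units.smul_def, smul_smul, Units.inv_mul, one_smul] at this
  · intro h
    exact W.smul_mem (a : K) h

/-- the points of `W` are the projective space of `W`. -/
theorem card_ptsIn [Finite K] [Finite V] (W : Submodule K V) :
    Nat.card (ptsIn W) * (Nat.card K - 1) + 1 = Nat.card W := by
  have hinj : Function.Injective (W.subtype) := W.injective_subtype
  have key : Nat.card (ℙ K W) = Nat.card (ptsIn W) := by
    refine Nat.card_congr (Equiv.ofBijective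
      (fun x => ⟨Projectivization.map W.subtype hinj x, ?_⟩) ⟨?_, ?_⟩)
    · induction x using Projectivization.ind with | h v hv =>
      rw [Projectivization.map_mk, mk_mem_ptsIn]
      exact v.2
    · intro x y hxy
      have := congrArg Subtype.val hxy
      exact Projectivization.map_injective (τ := RingHom.id K) W.subtype hinj this
    · rintro ⟨y, hy⟩
      have hy0 : (⟨y.rep, hy⟩ : W) ≠ 0 := by
        intro h
        exact y.rep_nonzero (congrArg Subtype.val h)
      refine ⟨Projectivization.mk K ⟨y.rep, hy⟩ hy0, ?_⟩
      apply Subtype.ext
      show Projectivization.map W.subtype hinj (Projectivization.mk K ⟨y.rep, hy⟩ hy0) = y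
      rw [Projectivization.map_mk]
      exact Projectivization.mk_rep y
  rw [← key]
  exact (Projectivization.card' K W).symm

end Cfsg.Agent.Lib.helper14.ProjPts
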