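import Mathlib
import Cfsg.Prelude.Def_PLocal
import Cfsg.Agent.Lib.helper15.Qd
import Cfsg.Agent.Lib.helper14.PCl

set_option autoImplicit false

/-! `Qd(p)` (p odd) is not `p`-closed and has a nontrivial normal `p`-subgroup. -/

namespace Cfsg.Agent.Lib.helper14.QdNotPC

open Matrix Cfsg.Agent.Lib.helper14.PCl

variable {p : ℕ} [Fact p.Prime]

def xE : SpecialLinearGroup (Fin 2) (ZMod p) := ⟨!![1, -1; 0, 1], by simp [Matrix.det_fin_two]⟩
def yE : SpecialLinearGroup (Fin 2) (ZMod p) := ⟨!![1, 0; 1, 1], by simp [Matrix.det_fin_two]⟩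

theorem xE_coe : ((xE (p := p) : SpecialLinearGroup (Fin 2) (ZMod p)) : Matrix (Fin 2) (Fin 2) (ZMod p)) = !![1, -1; 0, 1] := rfl
theorem yE_coe : ((yE (p := p) : SpecialLinearGroup (Fin 2) (ZMod p)) : Matrix (Fin 2) (Fin 2) (ZMod p)) = !![1, 0; 1, 1] := rfl

theorem xE_pow (k : ℕ) : ((xE (p := p) ^ k : SpecialLinearGroup (Fin 2) (ZMod p)) : Matrix (Fin 2) (Fin 2) (ZMod p)) = !![1, -(k : ZMod p); 0, 1] := by
  induction k with
  | zero =>
    ext i j; fin_cases i <;> fin_cases j <;> simp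
  | succ k ih =>
    rw [pow_succ, Matrix.SpecialLinearGroup.coe_mul, ih, xE_coe]
    ext i j; fin_cases i <;> fin_cases j <;> simp [Matrix.mul_apply, Fin.sum_univ_two] <;> ring

theorem yE_pow (k : ℕ) : ((yE (p := p) ^ k : SpecialLinearGroup (Fin 2) (ZMod p)) : Matrix (Fin 2) (Fin 2) (ZMod p)) = !![1, 0; (k : ZMod p), 1] := by
  induction k with
  | zero =>
    ext i j; fin_cases i <;> fin_cases j <;> simp
  | succ k ih =>
    rw [pow_succ, Matrix.SpecialLinearGroup.coe_mul, ih, yE_coe]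
    ext i j; fin_cases i <;> fin_cases j <;> simp [Matrix.mul_apply, Fin.sum_univ_two] <;> ring

theorem xE_isPElt : IsPElt p (xE (p := p)) := by
  refine ⟨1, ?_⟩
  apply Subtype.ext
  show ((xE (p := p) ^ p ^ 1 : SpecialLinearGroup (Fin 2) (ZMod p)) : Matrix (Fin 2) (Fin 2) (ZMod p)) = 1
  rw [pow_one, xE_pow]
  ext i j; fin_cases i <;> fin_cases j <;> simp

theorem yE_isPElt : IsPElt p (yE (p := p)) := by
  refine ⟨1, ?_⟩
  apply Subtype.ext
  show ((yE (p := p) ^ p ^ 1 : SpecialLinearGroup (Fin 2) (ZMod p)) : Matrix (Fin 2) (Fin 2) (ZMod p)) = 1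
  rw [pow_one, yE_pow]
  ext i j; fin_cases i <;> fin_cases j <;> simp

theorem sq_eq : (((xE (p := p) * yE * xE) * (xE * yE * xE) : SpecialLinearGroup (Fin 2) (ZMod p)) : Matrix (Fin 2) (Fin 2) (ZMod p)) = -1 := by
  simp only [Matrix.SpecialLinearGroup.coe_mul, xE_coe, yE_coe]
  ext i j; fin_cases i <;> fin_cases j <;>
    simp [Matrix.mul_apply, Fin.sum_univ_two]

theorem not_pc_sl2 (hp : p ≠ 2) : ¬ PC p (SpecialLinearGroup (Fin 2) (ZMod p)) := by
  intro h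
  have h1 := h _ _ (xE_isPElt (p := p)) yE_isPElt
  have h2 := h _ _ h1 xE_isPElt
  obtain ⟨k, hk⟩ := h _ _ h2 h2
  have hk' : (((xE (p := p) * yE * xE * (xE * yE * xE)) ^ p ^ k : SpecialLinearGroup (Fin 2) (ZMod p)) : Matrix (Fin 2) (Fin 2) (ZMod p)) = 1 := by
    rw [hk]; rfl
  rw [Matrix.SpecialLinearGroup.coe_pow, sq_eq] at hk'
  have hodd : Odd (p ^ k) := Odd.pow ((Fact.out : p.Prime).odd_of_ne_two hp)
  rw [Odd.neg_pow hodd, one_pow] at hk'
  have h00 := congrFun (congrFun hk' 0) 0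
  simp at h00
  have h2' : (2 : ZMod p) = 0 := by
    have : (1 : ZMod p) + 1 = 0 := by linear_combination -h00
    rw [← this]; norm_num
  have : ((2 : ℕ) : ZMod p) = 0 := by exact_mod_cast h2'
  rw [ZMod.natCast_eq_zero_iff] at this
  exact hp ((Nat.prime_dvd_prime_iff_eq Fact.out Nat.prime_two).mp this)

theorem not_pc_qd (hp : p ≠ 2) : ¬ PC p ↥(Cfsg.qdOver (ZMod p)) := by
  intro h
  exact not_pc_sl2 hp (pc_of_injective _ Cfsg.Agent.Lib.helper15.Qd.emb_injective h)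

/-- the translation subgroup of `Qd(p)` -/
def Vq (p : ℕ) [Fact p.Prime] : Subgroup ↥(Cfsg.qdOver (ZMod p)) :=
  (Cfsg.Agent.Lib.helper15.Qd.blk (ZMod p)).ker

instance : (Vq p).Normal := MonoidHom.normal_ker _

theorem Vq_isPGroup : IsPGroup p ↥(Vq p) :=
  Cfsg.Agent.Lib.helper15.Qd.isPGroup_ker (F := ZMod p) (p := p)

theorem Vq_ne_bot : Vq p ≠ ⊥ := by
  intro h
  have hmem : Cfsg.Agent.Lib.helper15.Qd.mk (1 : SpecialLinearGroup (Fin 2) (ZMod p)) ![1, 0] ∈ Vq p :=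
    Cfsg.Agent.Lib.helper15.Qd.mk_one_mem_ker _
  rw [h, Subgroup.mem_bot] at hmem
  have h2 := congrArg Cfsg.Agent.Lib.helper15.Qd.vec hmem
  rw [Cfsg.Agent.Lib.helper15.Qd.vec_mk, ← Cfsg.Agent.Lib.helper15.Qd.mk_one_zero,
    Cfsg.Agent.Lib.helper15.Qd.vec_mk] at h2
  have := congrFun h2 0
  simp at this

theorem qd_eq : Cfsg.qd p = Cfsg.qdOver (ZMod p) := rfl

/-- `Qd(p)` is not involved in a finite group all of whose `p`-local subgroups are `p`-closed. -/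
theorem not_involves_qd {G : Type*} [Group G] [Finite G] (hp : p ≠ 2)
    (hloc : ∀ P : Subgroup G, IsPGroup p P → P ≠ ⊥ → PC p ↥(Subgroup.normalizer (P : Set G))) :
    ¬ Cfsg.Involves ↥(Cfsg.qd p) G := by
  show ¬ Cfsg.Involves ↥(Cfsg.qdOver (ZMod p)) G
  exact not_involves_of_local_pc hloc (Vq p) Vq_isPGroup Vq_ne_bot (not_pc_qd hp)

end Cfsg.Agent.Lib.helper14.QdNotPC
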