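import Mathlib

set_option autoImplicit false
set_option linter.unusedSectionVars false

namespace Cfsg.Agent.Lib.helper14

def conjClassesCongr {G H : Type*} [Group G] [Group H] (e : G ≃* H) : ConjClasses G ≃ ConjClasses H where
  toFun := ConjClasses.map e.toMonoidHom
  invFun := ConjClasses.map e.symm.toMonoidHom
  left_inv := by
    intro x
    induction x using Quotient.inductionOn with | _ a => ?_
    show ConjClasses.mk (e.symm (e a)) = ConjClasses.mk a
    rw [MulEquiv.symm_apply_apply]
  right_inv := by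
    intro x
    induction x using Quotient.inductionOn with | _ a => ?_
    show ConjClasses.mk (e (e.symm a)) = ConjClasses.mk a
    rw [MulEquiv.apply_symm_apply]

section
variable (n : ℕ) [NeZero n]

abbrev QT := Fin (n + 1) ⊕ ZMod 2

theorem two_n_pos : 0 < 2 * n := by
  have := NeZero.pos n
  omega

instance neZero_two_mul : NeZero (2 * n) := ⟨(two_n_pos n).ne'⟩

def parHom : ZMod (2 * n) →+* ZMod 2 := ZMod.castHom (dvd_mul_right 2 n) (ZMod 2)

theorem parHom_two_mul (j : ZMod (2 * n)) : parHom n (2 * j) = 0 := by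
  rw [map_mul]
  have : parHom n 2 = 0 := by
    rw [map_ofNat]
    rfl
  rw [this, zero_mul]

theorem zmod2_neg (x : ZMod 2) : -x = x := by
  revert x; decide

theorem exists_two_mul_of_parHom (x : ZMod (2 * n)) (h : parHom n x = 0) : ∃ j : ZMod (2 * n), x = 2 * j := by
  have h1 : parHom n x = ((x.val : ℕ) : ZMod 2) := by
    conv_lhs => rw [← ZMod.natCast_zmod_val x]
    rw [map_natCast]
  rw [h1, ZMod.natCast_eq_zero_iff] at h
  obtain ⟨k, hk⟩ := h
  refine ⟨(k : ZMod (2 * n)), ?_⟩
  conv_lhs => rw [← ZMod.natCast_zmod_val x, hk]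
  push_cast
  rfl

def qinvA (i : ZMod (2 * n)) : Fin (n + 1) :=
  ⟨min i.val (2 * n - i.val), by
    have := ZMod.val_lt i
    omega⟩

def qinv : QuaternionGroup n → QT n
  | QuaternionGroup.a i => Sum.inl (qinvA n i)
  | QuaternionGroup.xa i => Sum.inr (parHom n i)

def qcanon : QT n → QuaternionGroup n
  | Sum.inl k => QuaternionGroup.a ((k.val : ℕ) : ZMod (2 * n))
  | Sum.inr b => QuaternionGroup.xa ((b.val : ℕ) : ZMod (2 * n))

theorem qa_inv (i : ZMod (2 * n)) : (QuaternionGroup.a i : QuaternionGroup n)⁻¹ = QuaternionGroup.a (-i) := rfl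

theorem qxa_inv (i : ZMod (2 * n)) :
    (QuaternionGroup.xa i : QuaternionGroup n)⁻¹ = QuaternionGroup.xa ((n : ZMod (2 * n)) + i) := rfl

theorem two_n_cast : ((2 : ZMod (2 * n)) * (n : ZMod (2 * n))) = 0 := by
  have := ZMod.natCast_self (2 * n)
  push_cast at this
  exact this

theorem conj_a_a (j i : ZMod (2 * n)) :
    (QuaternionGroup.a j : QuaternionGroup n) * QuaternionGroup.a i * (QuaternionGroup.a j)⁻¹ = QuaternionGroup.a i := by
  rw [qa_inv, QuaternionGroup.a_mul_a, QuaternionGroup.a_mul_a]
  congr 1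
  ring

theorem conj_xa_a (j i : ZMod (2 * n)) :
    (QuaternionGroup.xa j : QuaternionGroup n) * QuaternionGroup.a i * (QuaternionGroup.xa j)⁻¹ = QuaternionGroup.a (-i) := by
  rw [qxa_inv, QuaternionGroup.xa_mul_a, QuaternionGroup.xa_mul_xa]
  congr 1
  have := two_n_cast n
  linear_combination this

theorem conj_a_xa (j i : ZMod (2 * n)) :
    (QuaternionGroup.a j : QuaternionGroup n) * QuaternionGroup.xa i * (QuaternionGroup.a j)⁻¹ =
      QuaternionGroup.xa (i - 2 * j) := by
  rw [qa_inv, QuaternionGroup.a_mul_xa, QuaternionGroup.xa_mul_a]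
  congr 1
  ring

theorem conj_xa_xa (j i : ZMod (2 * n)) :
    (QuaternionGroup.xa j : QuaternionGroup n) * QuaternionGroup.xa i * (QuaternionGroup.xa j)⁻¹ =
      QuaternionGroup.xa (2 * j - i) := by
  rw [qxa_inv, QuaternionGroup.xa_mul_xa, QuaternionGroup.a_mul_xa]
  congr 1
  ring

theorem qinvA_neg (i : ZMod (2 * n)) : qinvA n (-i) = qinvA n i := by
  unfold qinvA
  apply Fin.ext
  show min (-i).val (2 * n - (-i).val) = min i.val (2 * n - i.val)
  rw [ZMod.neg_val]
  have := ZMod.val_lt i
  split_ifs with h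
  · rw [h, ZMod.val_zero]
  · have h0 : i.val ≠ 0 := fun h' => h ((ZMod.val_eq_zero i).mp h')
    have e : 2 * n - (2 * n - i.val) = i.val := by omega
    rw [e, min_comm]

theorem qinv_conj (g h : QuaternionGroup n) (hc : IsConj g h) : qinv n g = qinv n h := by
  obtain ⟨c, hc⟩ := isConj_iff.mp hc
  subst hc
  rcases c with j | j <;> rcases g with i | i
  · rw [conj_a_a]
  · rw [conj_a_xa]
    show Sum.inr (parHom n i) = Sum.inr (parHom n (i - 2 * j))
    rw [map_sub, parHom_two_mul, sub_zero]
  · rw [conj_xa_a]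
    show Sum.inl (qinvA n i) = Sum.inl (qinvA n (-i))
    rw [qinvA_neg]
  · rw [conj_xa_xa]
    show Sum.inr (parHom n i) = Sum.inr (parHom n (2 * j - i))
    rw [map_sub, parHom_two_mul, zero_sub, zmod2_neg]

theorem qinv_qcanon (τ : QT n) : qinv n (qcanon n τ) = τ := by
  rcases τ with k | b
  · show Sum.inl (qinvA n ((k.val : ℕ) : ZMod (2 * n))) = Sum.inl k
    congr 1
    apply Fin.ext
    show min ((k.val : ℕ) : ZMod (2 * n)).val (2 * n - ((k.val : ℕ) : ZMod (2 * n)).val) = k.val
    have hk := k.isLt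
    have hn := NeZero.pos n
    rw [ZMod.val_natCast_of_lt (by omega)]
    omega
  · show Sum.inr (parHom n ((b.val : ℕ) : ZMod (2 * n))) = Sum.inr b
    rw [map_natCast, ZMod.natCast_zmod_val]

theorem conj_qcanon (g : QuaternionGroup n) : IsConj (qcanon n (qinv n g)) g := by
  rcases g with i | i
  · show IsConj (QuaternionGroup.a (((min i.val (2 * n - i.val) : ℕ)) : ZMod (2 * n))) (QuaternionGroup.a i)
    rcases le_total i.val (2 * n - i.val) with h | h
    · rw [min_eq_left h, ZMod.natCast_zmod_val]
    · rw [min_eq_right h]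
      have hlt := ZMod.val_lt i
      have e : (((2 * n - i.val : ℕ)) : ZMod (2 * n)) = -i := by
        rw [Nat.cast_sub hlt.le, ZMod.natCast_self, ZMod.natCast_zmod_val, zero_sub]
      rw [e]
      refine isConj_iff.mpr ⟨QuaternionGroup.xa 0, ?_⟩
      rw [conj_xa_a, neg_neg]
  · show IsConj (QuaternionGroup.xa (((parHom n i).val : ℕ) : ZMod (2 * n))) (QuaternionGroup.xa i)
    have h0 : parHom n (((parHom n i).val : ℕ) : ZMod (2 * n)) = parHom n i := by
      rw [map_natCast, ZMod.natCast_zmod_val]
    obtain ⟨j, hj⟩ := exists_two_mul_of_parHom n ((((parHom n i).val : ℕ) : ZMod (2 * n)) - i) (by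
      rw [map_sub, h0, sub_self])
    refine isConj_iff.mpr ⟨QuaternionGroup.a j, ?_⟩
    rw [conj_a_xa]
    congr 1
    linear_combination hj

noncomputable def quatClassEquiv : ConjClasses (QuaternionGroup n) ≃ QT n :=
  Equiv.ofBijective
    (Quotient.lift (s := IsConj.setoid (QuaternionGroup n)) (qinv n) (fun a b hab => qinv_conj n a b hab))
    ⟨by
      intro x y hxy
      induction x using Quotient.inductionOn with | _ a => ?_
      induction y using Quotient.inductionOn with | _ b => ?_
      apply Quotient.sound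
      show IsConj a b
      have hxy' : qinv n a = qinv n b := hxy
      have h1 := conj_qcanon n a
      have h2 := conj_qcanon n b
      rw [hxy'] at h1
      exact h1.symm.trans h2,
    by
      intro τ
      exact ⟨Quotient.mk _ (qcanon n τ), qinv_qcanon n τ⟩⟩

theorem card_conjClasses_quaternionGroup : Nat.card (ConjClasses (QuaternionGroup n)) = n + 3 := by
  rw [Nat.card_congr (quatClassEquiv n), Nat.card_eq_fintype_card, Fintype.card_sum, Fintype.card_fin,
    ZMod.card]

end

theorem card_conjClasses_of_mulEquiv_quaternion {G : Type*} [Group G] (n : ℕ) [NeZero n]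
    (e : G ≃* QuaternionGroup n) : Nat.card (ConjClasses G) = n + 3 := by
  rw [Nat.card_congr (conjClassesCongr e), card_conjClasses_quaternionGroup]

end Cfsg.Agent.Lib.helper14
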