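import Mathlib

/-!
# Generalized quaternion direct factors of a 2-group (helper14)

Facts on `QuaternionGroup (2^n)` and on internal direct decompositions used for S3269.
-/

set_option autoImplicit false

namespace Cfsg.Agent.Lib.helper14.QuatFactor

open QuaternionGroup

/-- the central involution of `QuaternionGroup m`. -/
def z0 (m : ℕ) : QuaternionGroup m := a (m : ZMod (2 * m))

lemma z0_ne_one (m : ℕ) (hm : 0 < m) : z0 m ≠ 1 := by
  intro h
  rw [z0, one_def] at h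
  have h1 : ((m : ℕ) : ZMod (2 * m)) = 0 := by
    injection h
  rw [ZMod.natCast_eq_zero_iff] at h1
  have := Nat.le_of_dvd hm h1
  omega

lemma z0_mul_self (m : ℕ) : z0 m * z0 m = 1 := by
  rw [z0, a_mul_a, one_def]
  congr 1
  have : ((2 * m : ℕ) : ZMod (2 * m)) = 0 := ZMod.natCast_self _
  rw [← this]
  push_cast
  ring

lemma orderOf_z0 (m : ℕ) (hm : 0 < m) : orderOf (z0 m) = 2 := by
  refine orderOf_eq_prime ?_ (z0_ne_one m hm)
  rw [sq]
  exact z0_mul_self m

lemma eq_z0_of_orderOf (m : ℕ) (hm : 0 < m) (x : QuaternionGroup m) (hx : orderOf x = 2) :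
    x = z0 m := by
  haveI : NeZero (2 * m) := ⟨by omega⟩
  have hx2 : x * x = 1 := by
    have := pow_orderOf_eq_one x
    rw [hx, sq] at this
    exact this
  have hx1 : x ≠ 1 := by
    intro h
    rw [h, orderOf_one] at hx
    omega
  cases x with
  | a i =>
    rw [a_mul_a, one_def] at hx2
    have h0 : i + i = 0 := by injection hx2
    have hi : ((i.val : ℕ) : ZMod (2 * m)) = i := ZMod.natCast_zmod_val i
    have h1 : ((2 * i.val : ℕ) : ZMod (2 * m)) = 0 := by
      have : ((2 * i.val : ℕ) : ZMod (2 * m)) = (i.val : ZMod (2 * m)) + (i.val : ZMod (2 * m)) := by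
        push_cast
        ring
      rw [this, hi]
      exact h0
    rw [ZMod.natCast_eq_zero_iff] at h1
    have h2 : m ∣ i.val := by
      obtain ⟨c, hc⟩ := h1
      exact ⟨c, by nlinarith⟩
    have hlt : i.val < 2 * m := ZMod.val_lt i
    obtain ⟨c, hc⟩ := h2
    have hc2 : c = 0 ∨ c = 1 := by
      rcases c with _ | _ | c
      · left; rfl
      · right; rfl
      · exfalso
        have : m * (c + 1 + 1) ≥ 2 * m := by nlinarith
        omega
    rcases hc2 with rfl | rfl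
    · exfalso
      apply hx1
      rw [one_def]
      congr 1
      rw [← hi, hc]
      simp
    · rw [z0]
      congr 1
      rw [← hi, hc]
      simp
  | xa i =>
    exfalso
    rw [xa_mul_xa] at hx2
    have : (m : ZMod (2 * m)) + i - i = m := by ring
    rw [this] at hx2
    exact z0_ne_one m hm hx2

lemma a_pow (m : ℕ) (i : ZMod (2 * m)) (k : ℕ) :
    (a i : QuaternionGroup m) ^ k = a ((k : ZMod (2 * m)) * i) := by
  induction k with
  | zero =>
    rw [pow_zero, one_def]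
    congr 1
    simp
  | succ k ih =>
    rw [pow_succ, ih, a_mul_a]
    congr 1
    push_cast
    ring

lemma z0_eq_comm_pow (n : ℕ) (hn : 1 ≤ n) :
    z0 (2 ^ n) = ((a 1 : QuaternionGroup (2 ^ n)) * xa 0 * (a 1)⁻¹ * (xa 0)⁻¹) ^ (2 ^ (n - 1)) := by
  have hinv1 : (a 1 : QuaternionGroup (2 ^ n))⁻¹ = a (-1) := by
    apply inv_eq_of_mul_eq_one_right
    rw [a_mul_a, one_def]
    congr 1
    ring
  have hinv2 : (xa 0 : QuaternionGroup (2 ^ n))⁻¹ = xa ((2 ^ n : ℕ) : ZMod (2 * 2 ^ n)) := by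
    apply inv_eq_of_mul_eq_one_right
    rw [xa_mul_xa, one_def]
    congr 1
    have h0 : ((2 * 2 ^ n : ℕ) : ZMod (2 * 2 ^ n)) = 0 := ZMod.natCast_self _
    have h2 : (((2 ^ n : ℕ) : ZMod (2 * 2 ^ n)) + ((2 ^ n : ℕ) : ZMod (2 * 2 ^ n))) = 0 := by
      rw [← h0]
      push_cast
      ring
    rw [sub_zero]
    exact h2
  have hc : (a 1 : QuaternionGroup (2 ^ n)) * xa 0 * (a 1)⁻¹ * (xa 0)⁻¹ = a 2 := by
    rw [hinv1, hinv2, a_mul_xa, xa_mul_a, xa_mul_xa]
    congr 1
    have : ((2 * 2 ^ n : ℕ) : ZMod (2 * 2 ^ n)) = 0 := ZMod.natCast_self _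
    have h2 : (((2 ^ n : ℕ) : ZMod (2 * 2 ^ n)) + ((2 ^ n : ℕ) : ZMod (2 * 2 ^ n))) = 0 := by
      rw [← this]
      push_cast
      ring
    calc ((2 ^ n : ℕ) : ZMod (2 * 2 ^ n)) + ((2 ^ n : ℕ) : ZMod (2 * 2 ^ n)) - (0 - 1 + -1)
        = (((2 ^ n : ℕ) : ZMod (2 * 2 ^ n)) + ((2 ^ n : ℕ) : ZMod (2 * 2 ^ n))) + 2 := by ring
      _ = 2 := by rw [h2, zero_add]
  rw [hc, a_pow, z0]
  congr 1
  have : 2 ^ n = 2 ^ (n - 1) * 2 := by
    rw [← pow_succ]
    congr 1
    omega
  rw [this]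
  push_cast
  ring

end Cfsg.Agent.Lib.helper14.QuatFactor
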