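import Mathlib
import Cfsg.Prelude.Def_TwoFusion

/-!
# Internal direct decompositions with a quaternion-like factor (helper14)

If a finite 2-group `S` (inside `G`) is an internal direct product `Q × R`, `Q` has a unique
involution `z` which is a power of a commutator of `Q`, and all involutions of `R` are central
in `R`, then all involutions of `S` are central in `S` and there is an involution of `S` fixed
by `N_G(S)`: the product of the involutions of all direct factors of `S` of the same kind and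
order as `Q`.
-/

set_option autoImplicit false

namespace Cfsg.Agent.Lib.helper14.QuatFactor

variable {G : Type*} [Group G]

/-- shorthand. -/
abbrev IDP (Q R S : Subgroup G) : Prop := Cfsg.IsInternalDirectProduct Q R S

lemma idp_mem {Q R S : Subgroup G} (h : IDP Q R S) {s : G} (hs : s ∈ S) :
    ∃ q ∈ Q, ∃ r ∈ R, s = q * r := by
  obtain ⟨hQ, hR, hc, hi, hsup⟩ := h
  let T : Subgroup G :=
    { carrier := {x | ∃ q ∈ Q, ∃ r ∈ R, x = q * r}
      mul_mem' := by
        rintro _ _ ⟨q, hq, r, hr, rfl⟩ ⟨q', hq', r', hr', rfl⟩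
        refine ⟨q * q', Q.mul_mem hq hq', r * r', R.mul_mem hr hr', ?_⟩
        have := hc q' hq' r hr
        calc q * r * (q' * r') = q * (r * q') * r' := by group
          _ = q * (q' * r) * r' := by rw [← this]
          _ = q * q' * (r * r') := by group
      one_mem' := ⟨1, Q.one_mem, 1, R.one_mem, by simp⟩
      inv_mem' := by
        rintro _ ⟨q, hq, r, hr, rfl⟩
        refine ⟨q⁻¹, Q.inv_mem hq, r⁻¹, R.inv_mem hr, ?_⟩
        have := hc q hq r hr
        rw [this]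
        group }
  have hle : Q ⊔ R ≤ T :=
    sup_le (fun q hq => ⟨q, hq, 1, R.one_mem, by simp⟩) (fun r hr => ⟨1, Q.one_mem, r, hr, by simp⟩)
  rw [← hsup] at hs
  exact hle hs

lemma idp_unique {Q R S : Subgroup G} (h : IDP Q R S) {q q' r r' : G} (hq : q ∈ Q) (hq' : q' ∈ Q)
    (hr : r ∈ R) (hr' : r' ∈ R) (he : q * r = q' * r') : q = q' ∧ r = r' := by
  obtain ⟨hQ, hR, hc, hi, hsup⟩ := h
  have h1 : q'⁻¹ * q = r' * r⁻¹ := by
    calc q'⁻¹ * q = q'⁻¹ * (q * r) * r⁻¹ := by group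
      _ = q'⁻¹ * (q' * r') * r⁻¹ := by rw [he]
      _ = r' * r⁻¹ := by group
  have h2 : q'⁻¹ * q ∈ Q ⊓ R :=
    ⟨Q.mul_mem (Q.inv_mem hq') hq, by rw [h1]; exact R.mul_mem hr' (R.inv_mem hr)⟩
  rw [hi, Subgroup.mem_bot] at h2
  have hqq : q = q' := (inv_mul_eq_one.mp h2).symm
  refine ⟨hqq, ?_⟩
  subst hqq
  exact mul_left_cancel he

lemma idp_conj_mem {Q R S : Subgroup G} (h : IDP Q R S) {x s : G} (hx : x ∈ Q) (hs : s ∈ S) :
    s * x * s⁻¹ ∈ Q := by
  obtain ⟨q, hq, r, hr, rfl⟩ := idp_mem h hs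
  have hc := h.2.2.1
  have : q * r * x * (q * r)⁻¹ = q * x * q⁻¹ := by
    have := hc x hx r hr
    calc q * r * x * (q * r)⁻¹ = q * (r * x) * r⁻¹ * q⁻¹ := by group
      _ = q * (x * r) * r⁻¹ * q⁻¹ := by rw [this]
      _ = q * x * q⁻¹ := by group
  rw [this]
  exact Q.mul_mem (Q.mul_mem hq hx) (Q.inv_mem hq)

/-- the projection to the first factor, as a function. -/
noncomputable def projFun {Q R S : Subgroup G} (h : IDP Q R S) (s : ↥S) : ↥Q :=
  ⟨Classical.choose (idp_mem h s.2), (Classical.choose_spec (idp_mem h s.2)).1⟩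

lemma projFun_spec {Q R S : Subgroup G} (h : IDP Q R S) (s : ↥S) :
    ∃ r ∈ R, (s : G) = (projFun h s : G) * r :=
  (Classical.choose_spec (idp_mem h s.2)).2

lemma projFun_eq {Q R S : Subgroup G} (h : IDP Q R S) (s : ↥S) {q r : G} (hq : q ∈ Q) (hr : r ∈ R)
    (he : (s : G) = q * r) : (projFun h s : G) = q := by
  obtain ⟨r', hr', he'⟩ := projFun_spec h s
  exact (idp_unique h (projFun h s).2 hq hr' hr (he'.symm.trans he)).1

/-- the projection to the first factor, as a homomorphism. -/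
noncomputable def proj {Q R S : Subgroup G} (h : IDP Q R S) : ↥S →* ↥Q where
  toFun := projFun h
  map_one' := Subtype.ext (projFun_eq h 1 Q.one_mem R.one_mem (by simp))
  map_mul' s t := by
    obtain ⟨r, hr, he⟩ := projFun_spec h s
    obtain ⟨r', hr', he'⟩ := projFun_spec h t
    apply Subtype.ext
    apply projFun_eq h (s * t) (Q.mul_mem (projFun h s).2 (projFun h t).2) (R.mul_mem hr hr')
    have hc := h.2.2.1 _ (projFun h t).2 r hr
    rw [Subgroup.coe_mul, he, he']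
    calc (projFun h s : G) * r * ((projFun h t : G) * r')
        = (projFun h s : G) * (r * (projFun h t : G)) * r' := by group
      _ = (projFun h s : G) * ((projFun h t : G) * r) * r' := by rw [← hc]
      _ = (projFun h s : G) * (projFun h t : G) * (r * r') := by group

lemma proj_spec {Q R S : Subgroup G} (h : IDP Q R S) (s : ↥S) :
    ∃ r ∈ R, (s : G) = (proj h s : G) * r := projFun_spec h s

lemma proj_eq {Q R S : Subgroup G} (h : IDP Q R S) (s : ↥S) {q r : G} (hq : q ∈ Q) (hr : r ∈ R)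
    (he : (s : G) = q * r) : (proj h s : G) = q := projFun_eq h s hq hr he

/-- `Q` has the unique involution `z`, which is a power of a commutator of elements of `Q`. -/
structure QP (Q : Subgroup G) (z : G) : Prop where
  mem : z ∈ Q
  ord : orderOf z = 2
  uniq : ∀ x ∈ Q, orderOf x = 2 → x = z
  comm : ∃ x ∈ Q, ∃ y ∈ Q, ∃ k : ℕ, z = (x * y * x⁻¹ * y⁻¹) ^ k

lemma claimA [Finite G] {S : Subgroup G} (hS : IsPGroup 2 S) {Q1 R1 Q2 R2 : Subgroup G}
    (h1 : IDP Q1 R1 S) (h2 : IDP Q2 R2 S) {z1 z2 : G} (hz1 : QP Q1 z1) (hz2 : QP Q2 z2)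
    (hcard : Nat.card Q1 = Nat.card Q2) {a b : G} (ha : a ∈ Q1) (hb : b ∈ R1) (hab : z2 = a * b)
    (ha1 : a ≠ 1) : z1 = z2 := by
  let f : ↥Q2 →* ↥Q1 := (proj h1).comp (Subgroup.inclusion h2.1)
  have hfz : (f ⟨z2, hz2.mem⟩ : G) = a := proj_eq h1 _ ha hb hab
  have hinj : Function.Injective f := by
    rw [injective_iff_map_eq_one]
    intro x hx
    by_contra hx1
    have hxS : (x : G) ∈ S := h2.1 x.2
    obtain ⟨j, hj⟩ := (IsPGroup.iff_orderOf.mp hS) ⟨(x : G), hxS⟩
    rw [← Subgroup.orderOf_coe] at hj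
    simp only at hj
    have hj0 : j ≠ 0 := by
      rintro rfl
      rw [pow_zero, orderOf_eq_one_iff] at hj
      exact hx1 (Subtype.ext hj)
    have hw : orderOf ((x : G) ^ 2 ^ (j - 1)) = 2 := by
      rw [orderOf_pow_of_dvd (by positivity) (by rw [hj]; exact pow_dvd_pow 2 (by omega)), hj]
      have : 2 ^ j = 2 ^ (j - 1) * 2 := by
        rw [← pow_succ]
        congr 1
        omega
      rw [this, Nat.mul_div_cancel_left _ (by positivity)]
    have hwz : (x : G) ^ 2 ^ (j - 1) = z2 := hz2.uniq _ (Q2.pow_mem x.2 _) hw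
    have : f ⟨z2, hz2.mem⟩ = 1 := by
      have : (⟨z2, hz2.mem⟩ : ↥Q2) = x ^ 2 ^ (j - 1) := Subtype.ext (by
        show z2 = ((x ^ 2 ^ (j - 1) : ↥Q2) : G)
        rw [Subgroup.coe_pow]
        exact hwz.symm)
      rw [this, map_pow, hx, one_pow]
    rw [this] at hfz
    exact ha1 hfz.symm
  have hbij : Function.Bijective f :=
    hinj.bijective_of_nat_card_le (by rw [hcard])
  obtain ⟨x, hx, y, hy, k, hk⟩ := hz1.comm
  obtain ⟨xt, hxt⟩ := hbij.2 ⟨x, hx⟩
  obtain ⟨r, hr, he⟩ := proj_spec h1 (Subgroup.inclusion h2.1 xt)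
  have he' : (xt : G) = x * r := by
    have : (proj h1 (Subgroup.inclusion h2.1 xt) : G) = x := congrArg Subtype.val hxt
    rw [this] at he
    exact he
  have hc := h1.2.2.1 y hy r hr
  have hcomm : (xt : G) * y * (xt : G)⁻¹ * y⁻¹ = x * y * x⁻¹ * y⁻¹ := by
    rw [he']
    calc x * r * y * (x * r)⁻¹ * y⁻¹ = x * (r * y) * r⁻¹ * x⁻¹ * y⁻¹ := by group
      _ = x * (y * r) * r⁻¹ * x⁻¹ * y⁻¹ := by rw [hc]
      _ = x * y * x⁻¹ * y⁻¹ := by group
  have hmem : (xt : G) * y * (xt : G)⁻¹ * y⁻¹ ∈ Q2 := by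
    have h3 : y * (xt : G)⁻¹ * y⁻¹ ∈ Q2 := idp_conj_mem h2 (Q2.inv_mem xt.2) (h1.1 hy)
    have : (xt : G) * y * (xt : G)⁻¹ * y⁻¹ = (xt : G) * (y * (xt : G)⁻¹ * y⁻¹) := by group
    rw [this]
    exact Q2.mul_mem xt.2 h3
  have hz1mem : z1 ∈ Q2 := by
    rw [hk, ← hcomm]
    exact Q2.pow_mem hmem k
  exact hz2.uniq z1 hz1mem hz1.ord

end Cfsg.Agent.Lib.helper14.QuatFactor
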