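import Mathlib
import Cfsg.Agent.Lib.helper14.QuatFactor2

/-!
# A characteristic involution in `Q × R` (helper14)
-/

set_option autoImplicit false

namespace Cfsg.Agent.Lib.helper14.QuatFactor

variable {G : Type*} [Group G]

/-- `z` is the involution of a quaternion-like direct factor of order `N` of `S`. -/
def IsQZ (S : Subgroup G) (N : ℕ) (z : G) : Prop :=
  ∃ Q R : Subgroup G, IDP Q R S ∧ Nat.card Q = N ∧ QP Q z

lemma orderOf_conj' (ν x : G) : orderOf (ν * x * ν⁻¹) = orderOf x := by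
  have := MulEquiv.orderOf_eq (MulAut.conj ν) x
  rwa [MulAut.conj_apply] at this

lemma qp_central {Q R S : Subgroup G} (h : IDP Q R S) {z : G} (hz : QP Q z) :
    ∀ q ∈ Q, q * z = z * q := by
  intro q hq
  have h1 : q * z * q⁻¹ ∈ Q := Q.mul_mem (Q.mul_mem hq hz.mem) (Q.inv_mem hq)
  have h2 : q * z * q⁻¹ = z := hz.uniq _ h1 (by rw [orderOf_conj', hz.ord])
  calc q * z = q * z * q⁻¹ * q := by group
    _ = z * q := by rw [h2]

lemma isQZ_central {S : Subgroup G} {N : ℕ} {z : G} (hz : IsQZ S N z) :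
    z ∈ S ∧ z ∈ Subgroup.centralizer (S : Set G) := by
  obtain ⟨Q, R, h, -, hq⟩ := hz
  refine ⟨h.1 hq.mem, ?_⟩
  rw [Subgroup.mem_centralizer_iff]
  intro s hs
  obtain ⟨q, hq', r, hr, rfl⟩ := idp_mem h hs
  have h1 := qp_central h hq q hq'
  have h2 := h.2.2.1 z hq.mem r hr
  calc q * r * z = q * (r * z) := by group
    _ = q * (z * r) := by rw [h2]
    _ = (q * z) * r := by group
    _ = z * q * r := by rw [h1]
    _ = z * (q * r) := by group

lemma isQZ_conj {S : Subgroup G} {N : ℕ} {z ν : G} (hν : ν ∈ Subgroup.normalizer (S : Set G)) (hz : IsQZ S N z) :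
    IsQZ S N (ν * z * ν⁻¹) := by
  obtain ⟨Q, R, h, hN, hq⟩ := hz
  obtain ⟨hQ, hR, hc, hi, hsup⟩ := h
  have hinj : Function.Injective (MulAut.conj ν).toMonoidHom := (MulAut.conj ν).injective
  have hmem : ∀ (H : Subgroup G) (x : G), x ∈ H.map (MulAut.conj ν).toMonoidHom ↔
      ∃ y ∈ H, ν * y * ν⁻¹ = x := by
    intro H x
    rw [Subgroup.mem_map]
    rfl
  have hνS : ∀ s, s ∈ S ↔ ν * s * ν⁻¹ ∈ S := fun s => (Subgroup.mem_normalizer_iff.mp hν) s
  refine ⟨Q.map (MulAut.conj ν).toMonoidHom, R.map (MulAut.conj ν).toMonoidHom,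
    ⟨?_, ?_, ?_, ?_, ?_⟩, ?_, ?_⟩
  · intro x hx
    obtain ⟨y, hy, rfl⟩ := (hmem Q x).mp hx
    exact (hνS y).mp (hQ hy)
  · intro x hx
    obtain ⟨y, hy, rfl⟩ := (hmem R x).mp hx
    exact (hνS y).mp (hR hy)
  · intro a ha b hb
    obtain ⟨a', ha', rfl⟩ := (hmem Q a).mp ha
    obtain ⟨b', hb', rfl⟩ := (hmem R b).mp hb
    have := hc a' ha' b' hb'
    calc ν * a' * ν⁻¹ * (ν * b' * ν⁻¹) = ν * (a' * b') * ν⁻¹ := by group
      _ = ν * (b' * a') * ν⁻¹ := by rw [this]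
      _ = ν * b' * ν⁻¹ * (ν * a' * ν⁻¹) := by group
  · rw [eq_bot_iff]
    rintro x ⟨hx1, hx2⟩
    obtain ⟨a', ha', rfl⟩ := (hmem Q x).mp hx1
    obtain ⟨b', hb', hb⟩ := (hmem R _).mp hx2
    have hab : b' = a' := by
      have : ν * b' * ν⁻¹ = ν * a' * ν⁻¹ := hb
      have := mul_right_cancel this
      exact mul_left_cancel this
    subst hab
    have : b' ∈ Q ⊓ R := ⟨ha', hb'⟩
    rw [hi, Subgroup.mem_bot] at this
    rw [Subgroup.mem_bot, this]
    group
  · apply le_antisymm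
    · apply sup_le
      · intro x hx
        obtain ⟨y, hy, rfl⟩ := (hmem Q x).mp hx
        exact (hνS y).mp (hQ hy)
      · intro x hx
        obtain ⟨y, hy, rfl⟩ := (hmem R x).mp hx
        exact (hνS y).mp (hR hy)
    · intro s hs
      have hs' : ν⁻¹ * s * ν ∈ S := by
        rw [hνS]
        have : ν * (ν⁻¹ * s * ν) * ν⁻¹ = s := by group
        rw [this]
        exact hs
      obtain ⟨q, hq', r, hr, he⟩ := idp_mem ⟨hQ, hR, hc, hi, hsup⟩ hs'
      have : s = (ν * q * ν⁻¹) * (ν * r * ν⁻¹) := by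
        calc s = ν * (ν⁻¹ * s * ν) * ν⁻¹ := by group
          _ = ν * (q * r) * ν⁻¹ := by rw [he]
          _ = (ν * q * ν⁻¹) * (ν * r * ν⁻¹) := by group
      rw [this]
      exact Subgroup.mul_mem_sup ((hmem Q _).mpr ⟨q, hq', rfl⟩) ((hmem R _).mpr ⟨r, hr, rfl⟩)
  · rw [← hN]
    exact Nat.card_congr (Q.equivMapOfInjective _ hinj).toEquiv.symm
  · refine ⟨(hmem Q _).mpr ⟨z, hq.mem, rfl⟩, by rw [orderOf_conj', hq.ord], ?_, ?_⟩
    · intro x hx hx2
      obtain ⟨y, hy, rfl⟩ := (hmem Q x).mp hx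
      rw [orderOf_conj'] at hx2
      rw [hq.uniq y hy hx2]
    · obtain ⟨x, hx, y, hy, k, hk⟩ := hq.comm
      refine ⟨ν * x * ν⁻¹, (hmem Q _).mpr ⟨x, hx, rfl⟩, ν * y * ν⁻¹, (hmem Q _).mpr ⟨y, hy, rfl⟩, k, ?_⟩
      rw [hk]
      have : ν * x * ν⁻¹ * (ν * y * ν⁻¹) * (ν * x * ν⁻¹)⁻¹ * (ν * y * ν⁻¹)⁻¹
          = ν * (x * y * x⁻¹ * y⁻¹) * ν⁻¹ := by group
      rw [this, conj_pow]

lemma invol_central {Q R S : Subgroup G} (h : IDP Q R S) {z : G} (hz : QP Q z)
    (hR : ∀ r ∈ R, orderOf r = 2 → ∀ s ∈ R, r * s = s * r) :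
    ∀ y ∈ S, orderOf y = 2 → y ∈ Subgroup.centralizer (S : Set G) := by
  intro y hy hy2
  obtain ⟨q, hq, r, hr, rfl⟩ := idp_mem h hy
  have hc := h.2.2.1
  have hsq : (q * r) * (q * r) = 1 := by
    have := pow_orderOf_eq_one (q * r)
    rwa [hy2, sq] at this
  have hsq' : (q * q) * (r * r) = 1 * 1 := by
    rw [mul_one, ← hsq]
    have := hc q hq r hr
    calc q * q * (r * r) = q * (q * r) * r := by group
      _ = q * (r * q) * r := by rw [this]
      _ = q * r * (q * r) := by group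
  obtain ⟨hqq, hrr⟩ := idp_unique h (Q.mul_mem hq hq) Q.one_mem (R.mul_mem hr hr) R.one_mem hsq'
  have hqc : ∀ q' ∈ Q, q' * q = q * q' := by
    intro q' hq'
    by_cases hq1 : q = 1
    · rw [hq1]; simp
    · have : orderOf q = 2 := orderOf_eq_prime (by rw [sq]; exact hqq) hq1
      rw [hz.uniq q hq this]
      exact qp_central h hz q' hq'
  have hrc : ∀ r' ∈ R, r' * r = r * r' := by
    intro r' hr'
    by_cases hr1 : r = 1
    · rw [hr1]; simp
    · have : orderOf r = 2 := orderOf_eq_prime (by rw [sq]; exact hrr) hr1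
      exact (hR r hr this r' hr').symm
  rw [Subgroup.mem_centralizer_iff]
  intro s hs
  obtain ⟨q', hq', r', hr', rfl⟩ := idp_mem h hs
  have e1 := hc q hq r' hr'
  have e2 := hqc q' hq'
  have e3 := hrc r' hr'
  have e4 := hc q' hq' r hr
  calc q' * r' * (q * r) = q' * (r' * q) * r := by group
    _ = q' * (q * r') * r := by rw [← e1]
    _ = (q' * q) * (r' * r) := by group
    _ = (q * q') * (r * r') := by rw [e2, e3]
    _ = q * (q' * r) * r' := by group
    _ = q * (r * q') * r' := by rw [e4]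
    _ = q * r * (q' * r') := by group

end Cfsg.Agent.Lib.helper14.QuatFactor
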