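import Mathlib
import Cfsg.Agent.Lib.helper14.QuatFactor3

/-!
# The invariant involution of `Q × R` (helper14)
-/

set_option autoImplicit false

namespace Cfsg.Agent.Lib.helper14.QuatFactor

variable {G : Type*} [Group G]

theorem exists_invariant_involution [Finite G] (S Q R : Subgroup G) (hS : IsPGroup 2 S)
    (h : IDP Q R S) (z : G) (hz : QP Q z) :
    ∃ u : G, u ∈ S ∧ orderOf u = 2 ∧
      ∀ ν ∈ Subgroup.normalizer (S : Set G), ν * u * ν⁻¹ = u := by
  classical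
  let Z : Subgroup G := S ⊓ Subgroup.centralizer (S : Set G)
  letI instC : CommGroup ↥Z :=
    { (inferInstance : Group ↥Z) with
      mul_comm := fun a b => Subtype.ext (Subgroup.mem_centralizer_iff.mp b.2.2 a.1 a.2.1) }
  haveI : Fintype ↥Z := Fintype.ofFinite _
  let N := Nat.card Q
  let 𝒵 : Finset ↥Z := Finset.univ.filter (fun w => IsQZ S N w.1)
  let u : ↥Z := ∏ w ∈ 𝒵, w
  have hmem𝒵 : ∀ w : ↥Z, w ∈ 𝒵 ↔ IsQZ S N w.1 := by
    intro w
    simp only [𝒵, Finset.mem_filter, Finset.mem_univ, true_and]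
  have hzQ : IsQZ S N z := ⟨Q, R, h, rfl, hz⟩
  have hzZ : z ∈ Z := isQZ_central hzQ
  let zz : ↥Z := ⟨z, hzZ⟩
  have hzz : zz ∈ 𝒵 := (hmem𝒵 zz).mpr hzQ
  have hsplit : u = zz * ∏ w ∈ 𝒵.erase zz, w := (Finset.mul_prod_erase 𝒵 (fun w => w) hzz).symm
  have hrest : ((∏ w ∈ 𝒵.erase zz, w : ↥Z) : G) ∈ R := by
    apply Finset.prod_induction (fun w : ↥Z => w) (fun w : ↥Z => (w : G) ∈ R)
    · intro a b ha hb
      exact R.mul_mem ha hb
    · exact R.one_mem
    · intro w hw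
      rw [Finset.mem_erase] at hw
      obtain ⟨hne, hw⟩ := hw
      obtain ⟨Q2, R2, h2, hc2, hq2⟩ := (hmem𝒵 w).mp hw
      obtain ⟨a, ha, b, hb, hab⟩ := idp_mem h (h2.1 hq2.mem)
      by_cases ha1 : a = 1
      · rw [hab, ha1, one_mul]
        exact hb
      · exfalso
        apply hne
        apply Subtype.ext
        exact (claimA hS h h2 hz hq2 hc2.symm ha hb hab ha1).symm
  have hu1 : u ≠ 1 := by
    intro hu
    rw [hu] at hsplit
    have h1 : (1 : G) = z * ((∏ w ∈ 𝒵.erase zz, w : ↥Z) : G) := congrArg Subtype.val hsplit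
    have h2 : z = (((∏ w ∈ 𝒵.erase zz, w : ↥Z) : G))⁻¹ := eq_inv_of_mul_eq_one_left h1.symm
    have h3 : z ∈ Q ⊓ R := ⟨hz.mem, by rw [h2]; exact R.inv_mem hrest⟩
    rw [h.2.2.2.1, Subgroup.mem_bot] at h3
    have := hz.ord
    rw [h3, orderOf_one] at this
    omega
  have hu2 : u ^ 2 = 1 := by
    show (∏ w ∈ 𝒵, w) ^ 2 = 1
    rw [← Finset.prod_pow]
    apply Finset.prod_eq_one
    intro w hw
    obtain ⟨Q2, R2, h2, hc2, hq2⟩ := (hmem𝒵 w).mp hw
    apply Subtype.ext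
    have := pow_orderOf_eq_one (w : G)
    rw [hq2.ord] at this
    exact this
  have hZconj : ∀ ν ∈ Subgroup.normalizer (S : Set G), ∀ w : ↥Z, ν * w.1 * ν⁻¹ ∈ Z := by
    intro ν hν w
    have hνS : ∀ s, s ∈ S ↔ ν * s * ν⁻¹ ∈ S := fun s => (Subgroup.mem_normalizer_iff.mp hν) s
    refine ⟨(hνS _).mp w.2.1, ?_⟩
    show ν * w.1 * ν⁻¹ ∈ Subgroup.centralizer (S : Set G)
    rw [Subgroup.mem_centralizer_iff]
    intro s hs
    have hs' : ν⁻¹ * s * ν ∈ S := by
      rw [hνS]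
      have : ν * (ν⁻¹ * s * ν) * ν⁻¹ = s := by group
      rw [this]
      exact hs
    have := Subgroup.mem_centralizer_iff.mp w.2.2 _ hs'
    calc s * (ν * w.1 * ν⁻¹) = ν * ((ν⁻¹ * s * ν) * w.1) * ν⁻¹ := by group
      _ = ν * (w.1 * (ν⁻¹ * s * ν)) * ν⁻¹ := by rw [this]
      _ = ν * w.1 * ν⁻¹ * s := by group
  refine ⟨(u : G), u.2.1, ?_, ?_⟩
  · haveI : Fact (Nat.Prime 2) := ⟨Nat.prime_two⟩
    apply orderOf_eq_prime
    · have := congrArg Subtype.val hu2
      exact this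
    · intro hu
      exact hu1 (Subtype.ext hu)
  · intro ν hν
    let c : ↥Z →* ↥Z :=
      { toFun := fun w => ⟨ν * w.1 * ν⁻¹, hZconj ν hν w⟩
        map_one' := by
          apply Subtype.ext
          show ν * 1 * ν⁻¹ = 1
          group
        map_mul' := by
          intro a b
          apply Subtype.ext
          show ν * (a.1 * b.1) * ν⁻¹ = (ν * a.1 * ν⁻¹) * (ν * b.1 * ν⁻¹)
          group }
    have hν' : ν⁻¹ ∈ Subgroup.normalizer (S : Set G) := inv_mem hν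
    let c' : ↥Z → ↥Z := fun w => ⟨ν⁻¹ * w.1 * ν⁻¹⁻¹, hZconj ν⁻¹ hν' w⟩
    have h1 : c u = u := by
      show c (∏ w ∈ 𝒵, w) = ∏ w ∈ 𝒵, w
      rw [map_prod]
      apply Finset.prod_nbij' (fun w => c w) c'
      · intro w hw
        rw [hmem𝒵] at hw ⊢
        exact isQZ_conj hν hw
      · intro w hw
        rw [hmem𝒵] at hw ⊢
        exact isQZ_conj hν' hw
      · intro w _
        apply Subtype.ext
        show ν⁻¹ * (ν * w.1 * ν⁻¹) * ν⁻¹⁻¹ = w.1
        group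
      · intro w _
        apply Subtype.ext
        show ν * (ν⁻¹ * w.1 * ν⁻¹⁻¹) * ν⁻¹ = w.1
        group
      · intro w _
        rfl
    exact congrArg Subtype.val h1

end Cfsg.Agent.Lib.helper14.QuatFactor
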