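import Mathlib

set_option autoImplicit false
set_option linter.unusedSectionVars false

namespace Cfsg.Agent.Lib.helper14

section
variable {G : Type*} [Group G]

theorem conj_pow_iter (h a : G) (i : ℕ) (hc : h * a * h⁻¹ = a ^ i) (n : ℕ) :
    h ^ n * a * (h ^ n)⁻¹ = a ^ (i ^ n) := by
  induction n with
  | zero => simp
  | succ n ih =>
    have e1 : h ^ (n + 1) * a * (h ^ (n + 1))⁻¹ = h * (h ^ n * a * (h ^ n)⁻¹) * h⁻¹ := by
      rw [pow_succ']; group
    rw [e1, ih, ← conj_pow, hc, ← pow_mul, pow_succ']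

theorem conj_eq_self_of_odd (h a : G) (m r i : ℕ) (ha : orderOf a = 2 ^ m) (hr : Odd r) (hh : h ^ r = 1)
    (hc : h * a * h⁻¹ = a ^ i) : h * a * h⁻¹ = a := by
  have h1 := conj_pow_iter h a i hc r
  rw [hh] at h1
  simp only [one_mul, inv_one, mul_one] at h1
  have h2 : i ^ r ≡ 1 [MOD 2 ^ m] := by
    rw [← ha]
    apply pow_eq_pow_iff_modEq.mp
    rw [pow_one]
    exact h1.symm
  have h3 : ((i : ZMod (2 ^ m)) ^ r) = 1 := by
    have := (ZMod.natCast_eq_natCast_iff _ _ _).mpr h2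
    push_cast at this
    exact this
  have hr0 : r ≠ 0 := by
    rcases hr with ⟨k, rfl⟩
    omega
  obtain ⟨u, hu⟩ : IsUnit (i : ZMod (2 ^ m)) := IsUnit.of_pow_eq_one h3 hr0
  have hur : u ^ r = 1 := by
    apply Units.ext
    rw [Units.val_pow_eq_pow_val, hu, h3]
    rfl
  haveI : NeZero (2 ^ m) := ⟨by positivity⟩
  have hcard : u ^ (2 ^ m) = 1 := by
    have hd : orderOf u ∣ 2 ^ m := by
      have h4 : orderOf u ∣ Fintype.card (ZMod (2 ^ m))ˣ := orderOf_dvd_card
      rw [ZMod.card_units_eq_totient] at h4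
      rcases Nat.eq_zero_or_pos m with hm | hm
      · subst hm
        simpa using h4
      · rw [Nat.totient_prime_pow Nat.prime_two hm] at h4
        refine h4.trans ?_
        simp only [Nat.add_one_sub_one, mul_one]
        exact pow_dvd_pow 2 (Nat.sub_le m 1)
    exact orderOf_dvd_iff_pow_eq_one.mp hd
  have hg : r.gcd (2 ^ m) = 1 := by
    have : Nat.Coprime r 2 := Nat.coprime_two_right.mpr hr
    exact Nat.Coprime.pow_right m this
  have hu1 : u = 1 := by
    have := pow_gcd_eq_one.mpr ⟨hur, hcard⟩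
    rwa [hg, pow_one] at this
  have h5 : (i : ZMod (2 ^ m)) = ((1 : ℕ) : ZMod (2 ^ m)) := by
    rw [← hu, hu1]
    simp
  have h6 : i ≡ 1 [MOD orderOf a] := by
    rw [ha]
    exact (ZMod.natCast_eq_natCast_iff _ _ _).mp h5
  rw [hc]
  have := pow_eq_pow_iff_modEq.mpr h6
  rwa [pow_one] at this

theorem conj_mul_pow_iter (h w a : G) (j : ℕ) (ha : h * a * h⁻¹ = a) (hw : h * w * h⁻¹ = w * a ^ j) (n : ℕ) :
    h ^ n * w * (h ^ n)⁻¹ = w * a ^ (j * n) := by
  induction n with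
  | zero => simp
  | succ n ih =>
    have e1 : h ^ (n + 1) * w * (h ^ (n + 1))⁻¹ = h * (h ^ n * w * (h ^ n)⁻¹) * h⁻¹ := by
      rw [pow_succ']; group
    have e2 : h * (w * a ^ (j * n)) * h⁻¹ = (h * w * h⁻¹) * (h * a * h⁻¹) ^ (j * n) := by
      rw [conj_pow]; group
    rw [e1, ih, e2, hw, ha, mul_assoc, ← pow_add, mul_add, mul_one, add_comm]

theorem quat_cases (n : ℕ) [NeZero n] (x : QuaternionGroup n) :
    (∃ i : ℕ, x = QuaternionGroup.a 1 ^ i) ∨ (∃ i : ℕ, x = QuaternionGroup.xa 0 * QuaternionGroup.a 1 ^ i) := by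
  haveI : NeZero (2 * n) := ⟨by have := NeZero.pos n; omega⟩
  rcases x with j | j
  · left
    refine ⟨j.val, ?_⟩
    rw [QuaternionGroup.a_one_pow, ZMod.natCast_zmod_val]
  · right
    refine ⟨j.val, ?_⟩
    rw [QuaternionGroup.a_one_pow, ZMod.natCast_zmod_val, QuaternionGroup.xa_mul_a, zero_add]

theorem centralizes_of_odd_of_quaternion (S : Subgroup G) (k : ℕ) (hk : 2 ≤ k)
    (e : S ≃* QuaternionGroup (2 ^ k))
    (h : G) (hN : h ∈ Subgroup.normalizer (S : Set G)) (r : ℕ) (hr : Odd r) (hh : h ^ r = 1) :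
    h ∈ Subgroup.centralizer (S : Set G) := by
  haveI : NeZero (2 ^ k) := ⟨by positivity⟩
  obtain ⟨a, hadef⟩ : ∃ a : S, a = e.symm (QuaternionGroup.a 1) := ⟨_, rfl⟩
  obtain ⟨w, hwdef⟩ : ∃ w : S, w = e.symm (QuaternionGroup.xa 0) := ⟨_, rfl⟩
  have hcases : ∀ s : S, (∃ i : ℕ, s = a ^ i) ∨ (∃ i : ℕ, s = w * a ^ i) := by
    intro s
    rcases quat_cases (2 ^ k) (e s) with ⟨i, hi⟩ | ⟨i, hi⟩
    · left
      refine ⟨i, ?_⟩
      rw [hadef, ← map_pow, ← hi, MulEquiv.symm_apply_apply]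
    · right
      refine ⟨i, ?_⟩
      rw [hadef, hwdef, ← map_pow, ← map_mul, ← hi, MulEquiv.symm_apply_apply]
  have hord : orderOf (a : G) = 2 ^ (k + 1) := by
    rw [Subgroup.orderOf_coe, hadef, MulEquiv.orderOf_eq, QuaternionGroup.orderOf_a_one, pow_succ, mul_comm]
  have hord4 : ∀ i : ℕ, ((w * a ^ i : S) : G) ^ 4 = 1 := by
    intro i
    have h1 : e (w * a ^ i) = QuaternionGroup.xa (i : ZMod (2 * 2 ^ k)) := by
      rw [map_mul, map_pow, hadef, hwdef, MulEquiv.apply_symm_apply, MulEquiv.apply_symm_apply,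
        QuaternionGroup.a_one_pow, QuaternionGroup.xa_mul_a, zero_add]
    have h2 : (w * a ^ i) ^ 4 = 1 := by
      apply e.injective
      rw [map_pow, h1, QuaternionGroup.xa_pow_four, map_one]
    rw [← Subgroup.coe_pow, h2, Subgroup.coe_one]
  have hw_notin : ∀ i : ℕ, (w : G) ≠ (a : G) ^ i := by
    intro i hi
    have h1 : w = a ^ i := Subtype.ext (by rw [Subgroup.coe_pow]; exact hi)
    have h2 := congrArg e h1
    rw [map_pow, hadef, hwdef, MulEquiv.apply_symm_apply, MulEquiv.apply_symm_apply,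
      QuaternionGroup.a_one_pow] at h2
    cases h2
  have hconj_mem : ∀ s : S, h * (s : G) * h⁻¹ ∈ S := fun s =>
    (Subgroup.mem_set_normalizer_iff.mp hN s).mp s.2
  have step1 : ∃ i : ℕ, h * (a : G) * h⁻¹ = (a : G) ^ i := by
    rcases hcases ⟨_, hconj_mem a⟩ with ⟨i, hi⟩ | ⟨i, hi⟩
    · refine ⟨i, ?_⟩
      have := congrArg (Subtype.val) hi
      rwa [Subgroup.coe_pow] at this
    · exfalso
      have h1 := congrArg (Subtype.val) hi
      have h2 := hord4 i
      rw [← h1] at h2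
      have h3 : (h * (a : G) * h⁻¹) ^ 4 = h * (a : G) ^ 4 * h⁻¹ := conj_pow
      rw [h3] at h2
      have h4 : (a : G) ^ 4 = 1 := by
        have : (a : G) ^ 4 = h⁻¹ * (h * (a : G) ^ 4 * h⁻¹) * h := by group
        rw [this, h2]; group
      have h5 := orderOf_dvd_of_pow_eq_one h4
      rw [hord] at h5
      have h6 : 2 ^ (k + 1) ≤ 4 := Nat.le_of_dvd (by norm_num) h5
      have h7 : 2 ^ 3 ≤ 2 ^ (k + 1) := Nat.pow_le_pow_right (by norm_num) (by omega)
      omega
  obtain ⟨i, hi⟩ := step1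
  have step2 : h * (a : G) * h⁻¹ = (a : G) := conj_eq_self_of_odd h a (k + 1) r i hord hr hh hi
  have step3 : ∃ j : ℕ, h * (w : G) * h⁻¹ = (w : G) * (a : G) ^ j := by
    rcases hcases ⟨_, hconj_mem w⟩ with ⟨j, hj⟩ | ⟨j, hj⟩
    · exfalso
      have h1 := congrArg (Subtype.val) hj
      rw [Subgroup.coe_pow] at h1
      have h2 : h * (w : G) * h⁻¹ = (a : G) ^ j := h1
      have h3 : h * (a : G) ^ j * h⁻¹ = (a : G) ^ j := by rw [← conj_pow, step2]
      apply hw_notin j
      have e3 : (w : G) = h⁻¹ * (h * (w : G) * h⁻¹) * h := by group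
      rw [e3, h2]
      nth_rewrite 1 [← h3]
      group
    · refine ⟨j, ?_⟩
      have h1 := congrArg (Subtype.val) hj
      rwa [Subgroup.coe_mul, Subgroup.coe_pow] at h1
  obtain ⟨j, hj⟩ := step3
  have step4 : h * (w : G) * h⁻¹ = (w : G) := by
    have h1 := conj_mul_pow_iter h w a j step2 hj r
    rw [hh] at h1
    simp only [one_mul, inv_one, mul_one] at h1
    have h2 : (a : G) ^ (j * r) = 1 := by
      have : (w : G) * (a : G) ^ (j * r) = (w : G) * 1 := by rw [mul_one]; exact h1.symm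
      exact mul_left_cancel this
    have h3 := orderOf_dvd_of_pow_eq_one h2
    rw [hord] at h3
    have hcop : Nat.Coprime (2 ^ (k + 1)) r := by
      have : Nat.Coprime 2 r := Nat.coprime_two_left.mpr hr
      exact Nat.Coprime.pow_left (k + 1) this
    have h4 : 2 ^ (k + 1) ∣ j := hcop.dvd_of_dvd_mul_right h3
    have h5 : (a : G) ^ j = 1 := by
      rw [← hord] at h4
      exact orderOf_dvd_iff_pow_eq_one.mp h4
    rw [hj, h5, mul_one]
  rw [Subgroup.mem_centralizer_iff]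
  intro s hs
  have hac : (a : G) * h = h * (a : G) := by
    calc (a : G) * h = (h * (a : G) * h⁻¹) * h := by rw [step2]
      _ = h * (a : G) := by group
  have hwc : (w : G) * h = h * (w : G) := by
    calc (w : G) * h = (h * (w : G) * h⁻¹) * h := by rw [step4]
      _ = h * (w : G) := by group
  have hapow : ∀ n : ℕ, (a : G) ^ n * h = h * (a : G) ^ n := by
    intro n
    exact ((Commute.pow_left (show Commute (a : G) h from hac) n)).eq
  rcases hcases ⟨s, hs⟩ with ⟨n, hn⟩ | ⟨n, hn⟩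
  · have h1 := congrArg (Subtype.val) hn
    rw [Subgroup.coe_pow] at h1
    change s = (a : G) ^ n at h1
    rw [h1]
    exact hapow n
  · have h1 := congrArg (Subtype.val) hn
    rw [Subgroup.coe_mul, Subgroup.coe_pow] at h1
    change s = (w : G) * (a : G) ^ n at h1
    rw [h1, mul_assoc, hapow n, ← mul_assoc, hwc, mul_assoc]

theorem normalizer_eq_of_quaternion [Finite G] (S : Sylow 2 G) (k : ℕ) (hk : 2 ≤ k)
    (e : (S : Subgroup G) ≃* QuaternionGroup (2 ^ k))
    (hC : ∀ g ∈ Subgroup.centralizer ((S : Subgroup G) : Set G), g * g = 1) :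
    Subgroup.normalizer ((S : Subgroup G) : Set G) = (S : Subgroup G) := by
  apply S.is_maximal'
  · intro g
    have hg0 : orderOf (g : G) ≠ 0 := (orderOf_pos (g : G)).ne'
    obtain ⟨j, r, hr, hjr⟩ := Nat.exists_eq_two_pow_mul_odd hg0
    refine ⟨j, ?_⟩
    have hN : (g : G) ^ 2 ^ j ∈ Subgroup.normalizer ((S : Subgroup G) : Set G) :=
      Subgroup.pow_mem _ g.2 _
    have hh : ((g : G) ^ 2 ^ j) ^ r = 1 := by
      rw [← pow_mul, ← hjr]
      exact pow_orderOf_eq_one _
    have hcen := centralizes_of_odd_of_quaternion (S : Subgroup G) k hk e _ hN r hr hh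
    have h2 := hC _ hcen
    have h3 : ((g : G) ^ 2 ^ j) ^ 2 = 1 := by rw [pow_two]; exact h2
    have h4 : ((g : G) ^ 2 ^ j) ^ (Nat.gcd r 2) = 1 := pow_gcd_eq_one.mpr ⟨hh, h3⟩
    have h5 : Nat.gcd r 2 = 1 := Nat.coprime_two_right.mpr hr
    rw [h5, pow_one] at h4
    apply Subtype.ext
    rw [Subgroup.coe_pow, h4]
    rfl
  · exact Subgroup.le_normalizer

end

end Cfsg.Agent.Lib.helper14
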