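import Mathlib
import Cfsg.Agent.Lib.helper7.REE.Defs
import Cfsg.Agent.Lib.Helper29.REEG3core

set_option autoImplicit false

/-!
# RSS row T3A (`rss_sylow3`), helper14: every conjugate of `U` is a Sylow 3-subgroup (uses helper29's `reeg3_U_pgroup`, `reeg3_U_index`).
-/

namespace Cfsg.Agent.Lib.helper7.REE

open Matrix Cfsg.Agent.Lib.helper8

universe u v

namespace ReeAx

variable {G : Type u} [Group G] [Finite G] {K : Type v} [Field K] [Fintype K] {m : ℕ}

theorem rss_sylow3 (R : ReeAx G K m) (g : G) :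
    ∃ P : Sylow 3 G, (P : Subgroup G) = R.U.map (MulAut.conj g).toMonoidHom := by
  have : Fact (Nat.Prime 3) := ⟨Nat.prime_three⟩
  refine ⟨g • (R.reeg3_U_pgroup.toSylow R.reeg3_U_index), ?_⟩
  rw [Sylow.coe_subgroup_smul, IsPGroup.toSylow_coe, Subgroup.pointwise_smul_def]
  rfl

end ReeAx

end Cfsg.Agent.Lib.helper7.REE
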