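import Mathlib
import Cfsg.Prelude.Def_Spor_Ru
import Cfsg.Agent.Lib.Helper29.RvLBasic
import Cfsg.Agent.Lib.Helper29.RvLData
import Cfsg.Agent.Lib.Helper29.RvLCode
import Cfsg.Agent.Lib.Helper29.RvLMain
import Cfsg.Agent.Lib.helper14.RuSpan
import Cfsg.Agent.Lib.helper14.RuAut

/-!
# Project RU, piece P5: constructors of elements of `fourRu`

* `ruAut_of_mat` : a Gaussian matrix `M` with `Mᴴ M = M Mᴴ = 16` mapping the basis `ruB` into four
  times the lattice gives `f ∈ fourRu` with `4 • f x = M *ᵥ x`;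
* `ruAut_of_data` : the same with `M` given by a list of rows and the hypotheses in decidable form.
-/

set_option autoImplicit false
set_option maxRecDepth 100000

namespace Cfsg.Agent.Lib.helper14

open Cfsg.Spor Cfsg.Agent.Lib.Helper29 Matrix

/-- Gaussian matrices on the 28 coordinates -/
abbrev RuMat : Type := Matrix RuIdx RuIdx GaussianInt

theorem rvlHerm_eq_dot (x y : RuVec) : rvlHerm x y = x ⬝ᵥ star y := rfl

theorem rvlHerm_mulVec_left (M : RuMat) (x y : RuVec) :
    rvlHerm (M *ᵥ x) y = rvlHerm x (Mᴴ *ᵥ y) := by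
  rw [rvlHerm_eq_dot, rvlHerm_eq_dot, star_mulVec, conjTranspose_conjTranspose, dotProduct_comm,
    dotProduct_mulVec, dotProduct_comm]

theorem rvlHerm_mulVec_right (M : RuMat) (x y : RuVec) :
    rvlHerm x (M *ᵥ y) = rvlHerm (Mᴴ *ᵥ x) y := by
  rw [rvlHerm_mulVec_left, conjTranspose_conjTranspose]

theorem ru_star_four : star (4 : GaussianInt) = 4 := by
  apply Zsqrtd.ext <;> simp

theorem ru_star_sixteen : star (16 : GaussianInt) = 16 := by
  apply Zsqrtd.ext <;> simp

theorem ru_norm_four : (4 : GaussianInt).norm = 16 := by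
  simp [Zsqrtd.norm_def]

theorem ruNorm_mulVec {M : RuMat} (h1 : Mᴴ * M = (16 : GaussianInt) • (1 : RuMat)) (x : RuVec) :
    ruNorm (M *ᵥ x) = 16 * ruNorm x := by
  have h : rvlHerm (M *ᵥ x) (M *ᵥ x) = 16 * rvlHerm x x := by
    rw [rvlHerm_mulVec_left, mulVec_mulVec, h1, smul_mulVec, one_mulVec, rvlHerm_smul_right,
      ru_star_sixteen]
  rw [rvlHerm_self, rvlHerm_self] at h
  exact_mod_cast h

/-- a matrix mapping the basis into four times the lattice maps the lattice into four times the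
lattice -/
theorem ru_pres_of_basis {M : RuMat}
    (hM : ∀ t, ∃ y ∈ ruLattice, M *ᵥ ruB t = (4 : GaussianInt) • y) :
    ∀ x ∈ ruLattice, ∃ y ∈ ruLattice, M *ᵥ x = (4 : GaussianInt) • y := by
  choose y hy hMy using hM
  intro x hx
  obtain ⟨c, -, rfl⟩ := ru_span hx
  refine ⟨∑ t, c t • y t, sum_mem fun t _ => ru_smul_mem _ (hy t), ?_⟩
  have : M *ᵥ (∑ t, c t • ruB t) = ∑ t, c t • (M *ᵥ ruB t) := by
    have := map_sum (Matrix.mulVecLin M) (fun t => c t • ruB t) Finset.univ
    simp only [Matrix.mulVecLin_apply, Matrix.mulVec_smul] at this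
    exact this
  rw [this, Finset.smul_sum]
  refine Finset.sum_congr rfl fun t _ => ?_
  rw [hMy t, smul_comm]

/-- the main constructor -/
theorem ruAut_of_mat (M : RuMat) (h1 : Mᴴ * M = (16 : GaussianInt) • (1 : RuMat))
    (h2 : M * Mᴴ = (16 : GaussianInt) • (1 : RuMat))
    (hM : ∀ t, ∃ y ∈ ruLattice, M *ᵥ ruB t = (4 : GaussianInt) • y) :
    ∃ f : Equiv.Perm ruLattice, f ∈ fourRu ∧
      ∀ x : ruLattice, (4 : GaussianInt) • ((f x : ruLattice) : RuVec) = M *ᵥ (x : RuVec) := by
  have hpres := ru_pres_of_basis hM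
  choose F hF hMF using hpres
  let G : ruLattice → ruLattice := fun x => ⟨F x x.2, hF x x.2⟩
  have hG : ∀ x : ruLattice, (4 : GaussianInt) • ((G x : ruLattice) : RuVec) = M *ᵥ (x : RuVec) :=
    fun x => (hMF x x.2).symm
  have hinj : Function.Injective G := by
    intro x y hxy
    have e : M *ᵥ (x : RuVec) = M *ᵥ (y : RuVec) := by rw [← hG x, ← hG y, hxy]
    have e2 := congrArg (fun v => Mᴴ *ᵥ v) e
    simp only [mulVec_mulVec, h1, smul_mulVec, one_mulVec] at e2
    apply Subtype.ext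
    funext p
    have := congrFun e2 p
    simp only [Pi.smul_apply, smul_eq_mul] at this
    exact mul_left_cancel₀ (by norm_num : (16 : GaussianInt) ≠ 0) this
  have hsurj : Function.Surjective G := by
    intro x
    -- `δ t = M (ruD t) / 4`
    have hc : ∀ t, ∃ c : GaussianInt, rvlHerm (x : RuVec) (F (ruD t) (ruD_mem t)) = 4 * c :=
      fun t => rvl_bil x.2 (hF _ (ruD_mem t))
    choose c hc using hc
    have hz : ∑ t, c t • ruB t ∈ ruLattice := ru_sum_mem c
    refine ⟨⟨_, hz⟩, ?_⟩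
    -- `4 • z = Mᴴ x`
    have e1 : (4 : GaussianInt) • ((4 : GaussianInt) • ∑ t, c t • ruB t)
        = (4 : GaussianInt) • (Mᴴ *ᵥ (x : RuVec)) := by
      rw [ru_expand (Mᴴ *ᵥ (x : RuVec)), Finset.smul_sum, Finset.smul_sum]
      refine Finset.sum_congr rfl fun t _ => ?_
      rw [← rvlHerm_mulVec_right, hMF _ (ruD_mem t), rvlHerm_smul_right, ru_star_four, hc t,
        smul_smul, smul_smul]
      congr 1; ring
    have e2 : (4 : GaussianInt) • ∑ t, c t • ruB t = Mᴴ *ᵥ (x : RuVec) := ru_smul_four_cancel e1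
    have e3 : (4 : GaussianInt) • (M *ᵥ ∑ t, c t • ruB t)
        = (4 : GaussianInt) • ((4 : GaussianInt) • (x : RuVec)) := by
      rw [← mulVec_smul, e2, mulVec_mulVec, h2, smul_mulVec, one_mulVec, smul_smul]
      norm_num
    have e4 : M *ᵥ ∑ t, c t • ruB t = (4 : GaussianInt) • (x : RuVec) := ru_smul_four_cancel e3
    apply Subtype.ext
    apply ru_smul_four_cancel
    rw [hG]
    exact e4
  have hE : ∀ x : ruLattice, (4 : GaussianInt) •
      (((Equiv.ofBijective G ⟨hinj, hsurj⟩ : Equiv.Perm ruLattice) x : ruLattice) : RuVec)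
        = M *ᵥ (x : RuVec) := fun x => hG x
  refine ⟨Equiv.ofBijective G ⟨hinj, hsurj⟩, ⟨?_, ?_, ?_⟩, hE⟩
  · intro v w
    apply Subtype.ext
    apply ru_smul_four_cancel
    rw [AddSubgroup.coe_add, smul_add, hE, hE, hE, AddSubgroup.coe_add, mulVec_add]
  · intro v
    apply Subtype.ext
    apply ru_smul_four_cancel
    have e1 : ∀ y : ruLattice, ((ruI y : ruLattice) : RuVec) = gI • (y : RuVec) := fun _ => rfl
    rw [hE, e1, e1, mulVec_smul, smul_comm, hE]
  · intro v
    have h := ruNorm_mulVec h1 (v : RuVec)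
    rw [← hE v, ruNorm_smul, ru_norm_four] at h
    omega

end Cfsg.Agent.Lib.helper14
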