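import Mathlib
import Cfsg.Prelude.Def_Spor_Ru
import Cfsg.Agent.Lib.Helper29.RvLBasic
import Cfsg.Agent.Lib.Helper29.RvLData
import Cfsg.Agent.Lib.Helper29.RvLCode
import Cfsg.Agent.Lib.Helper29.RvLMain
import Cfsg.Agent.Lib.helper14.RuSpan
import Cfsg.Agent.Lib.helper14.RuAut
import Cfsg.Agent.Lib.helper14.RuAutMat

/-!
# Project RU, piece P5: elements of `fourRu` from explicit matrix data

`ruAut_of_data` : a matrix given by a list of 28 rows, with the four hypotheses of `ruAut_of_mat` in
decidable form (`YL` = the images of the basis vectors divided by four).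
-/

set_option autoImplicit false
set_option maxRecDepth 100000

namespace Cfsg.Agent.Lib.helper14

open Cfsg.Spor Cfsg.Agent.Lib.Helper29 Matrix

/-- the matrix with the given rows (each row a list of 28 integer pairs) -/
def ruMatL (L : List (List (ℤ × ℤ))) : RuMat :=
  fun p q => rvlMk (L.getD (p.1.val * 4 + p.2.val) []) q

theorem ruAut_of_data (ML YL : List (List (ℤ × ℤ)))
    (c1 : ∀ q r : RuIdx, ∑ p, star (ruMatL ML p q) * ruMatL ML p r = if q = r then 16 else 0)
    (c2 : ∀ p r : RuIdx, ∑ q, ruMatL ML p q * star (ruMatL ML r q) = if p = r then 16 else 0)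
    (c3 : ∀ t : Fin 28, ∀ p : RuIdx,
      ∑ q, ruMatL ML p q * ruB t q = 4 * rvlMk (YL.getD t.val []) p)
    (c4 : ∀ t s : Fin 28, rvlD4 (rvlHerm (rvlMk (YL.getD t.val [])) (ruB s))) :
    ∃ f : Equiv.Perm ruLattice, f ∈ fourRu ∧ ∀ x : ruLattice,
      (4 : GaussianInt) • ((f x : ruLattice) : RuVec) = ruMatL ML *ᵥ (x : RuVec) := by
  apply ruAut_of_mat
  · refine Matrix.ext fun q r => ?_
    rw [Matrix.mul_apply, Matrix.smul_apply, Matrix.one_apply, smul_eq_mul]
    simp only [conjTranspose_apply]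
    rw [c1 q r]; split_ifs <;> simp
  · refine Matrix.ext fun p r => ?_
    rw [Matrix.mul_apply, Matrix.smul_apply, Matrix.one_apply, smul_eq_mul]
    simp only [conjTranspose_apply]
    rw [c2 p r]; split_ifs <;> simp
  · intro t
    refine ⟨rvlMk (YL.getD t.val []), ?_, ?_⟩
    · exact ru_mem_of_basis fun s => (rvl_four_dvd_iff _).2 (c4 t s)
    · funext p
      simp only [Matrix.mulVec, dotProduct, Pi.smul_apply, smul_eq_mul]
      exact c3 t p

end Cfsg.Agent.Lib.helper14
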