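import Mathlib
import Cfsg.Prelude.Def_Spor_Ru
import Cfsg.Agent.Lib.Helper29.RvLBasic
import Cfsg.Agent.Lib.Helper29.RvLData
import Cfsg.Agent.Lib.Helper29.RvLCode
import Cfsg.Agent.Lib.Helper29.RvLMain
import Cfsg.Agent.Lib.helper14.RuSpan
import Cfsg.Agent.Lib.helper14.RuAut
import Cfsg.Agent.Lib.helper14.RuAutMat
import Cfsg.Agent.Lib.helper14.RuAutData

/-! # Project RU: the automorphism `G2` of the Rudvalis lattice (four times its matrix, and the images of the basis) -/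

set_option autoImplicit false
set_option maxRecDepth 100000

namespace Cfsg.Agent.Lib.helper14

open Cfsg.Spor Cfsg.Agent.Lib.Helper29 Matrix

/-- four times the matrix of the automorphism, by rows -/
def ruMG2 : List (List (ℤ × ℤ)) := [
  [(1, 0), (0, 1), (0, 1), (-1, 0), (0, 0), (1, 0), (0, -1), (0, 0), (-1, 0), (-1, 0), (0, 0), (0, 0), (0, 0), (0, 0), (1, 0), (-1, 0), (0, 0), (-1, 0), (0, 0), (0, 1), (0, 0), (-1, 0), (1, 0), (0, 0), (0, 0), (0, 1), (0, 0), (0, -1)],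
  [(0, 0), (1, 0), (0, -1), (0, 0), (0, 1), (0, 1), (0, 0), (0, 0), (-1, 0), (0, 1), (0, 0), (0, 0), (1, 0), (0, 0), (-1, 0), (0, 0), (0, 0), (-1, 0), (1, 0), (0, 0), (0, 0), (0, -1), (0, 0), (0, -1), (0, 1), (0, -1), (0, 1), (0, -1)],
  [(0, -1), (-1, 0), (0, 0), (0, 0), (0, 0), (1, 0), (0, 0), (0, 1), (0, 1), (0, 0), (0, 0), (1, 0), (0, 1), (0, 0), (1, 0), (0, 0), (1, 0), (1, 0), (1, 0), (1, 0), (0, 0), (0, -1), (-1, 0), (0, 0), (0, 0), (0, 0), (0, 1), (1, 0)],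
  [(0, 0), (0, 1), (0, 0), (0, -1), (0, -1), (0, -1), (-1, 0), (1, 0), (-1, 0), (0, 0), (0, 0), (-1, 0), (0, 0), (0, 0), (0, 1), (1, 0), (0, 1), (1, 0), (0, 0), (0, 0), (0, 0), (0, -1), (0, 0), (1, 0), (0, 1), (0, 0), (0, 0), (-1, 0)],
  [(0, -1), (0, 0), (-1, 0), (0, 0), (1, 0), (0, -1), (0, 1), (1, 0), (0, 0), (0, 1), (-1, 0), (0, 0), (0, 0), (0, 0), (-1, 0), (0, -1), (0, 0), (0, 0), (0, 1), (0, 1), (-1, 0), (0, 0), (1, 0), (0, 0), (0, -1), (0, 0), (0, 0), (1, 0)],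
  [(0, 1), (0, -1), (0, 1), (0, -1), (0, 1), (0, 0), (0, 0), (0, -1), (0, 0), (0, 0), (-1, 0), (0, -1), (0, 0), (0, 0), (0, -1), (0, 1), (0, 0), (1, 0), (0, 0), (0, 1), (0, 1), (0, 0), (0, 0), (1, 0), (1, 0), (0, 0), (0, 1), (0, 0)],
  [(0, -1), (-1, 0), (0, 0), (0, 0), (-1, 0), (0, 0), (1, 0), (0, 0), (0, 0), (0, 1), (0, 1), (0, 0), (1, 0), (0, 0), (0, 1), (0, 0), (0, -1), (0, 1), (-1, 0), (-1, 0), (1, 0), (0, 0), (0, 0), (1, 0), (1, 0), (1, 0), (0, 0), (0, 0)],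
  [(0, 1), (0, 0), (0, 0), (0, 1), (0, 1), (0, -1), (0, 0), (0, 0), (0, 0), (0, 0), (-1, 0), (1, 0), (0, -1), (0, 0), (0, 1), (0, 0), (0, 1), (0, 0), (0, 0), (1, 0), (1, 0), (0, 0), (0, 1), (0, 0), (0, 1), (1, 0), (0, -1), (1, 0)],
  [(0, -1), (1, 0), (0, 1), (1, 0), (0, 0), (1, 0), (0, 1), (0, 0), (0, -1), (0, -1), (0, 0), (0, 0), (0, -1), (-1, 0), (0, 0), (0, 0), (1, 0), (0, 0), (-1, 0), (0, 0), (1, 0), (0, 0), (0, 0), (0, -1), (-1, 0), (0, 0), (0, 1), (0, 0)],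
  [(0, 0), (1, 0), (0, 0), (-1, 0), (1, 0), (1, 0), (1, 0), (1, 0), (1, 0), (0, 0), (0, 0), (-1, 0), (-1, 0), (1, 0), (0, 0), (0, 0), (0, 0), (0, 0), (1, 0), (-1, 0), (1, 0), (0, 0), (-1, 0), (0, 0), (0, 0), (1, 0), (-1, 0), (0, 0)],
  [(0, 0), (0, 0), (0, 1), (0, 1), (0, 1), (0, 0), (0, -1), (0, 0), (0, -1), (0, 0), (0, 0), (-1, 0), (0, 0), (0, 1), (0, 0), (0, -1), (1, 0), (0, 1), (1, 0), (0, -1), (-1, 0), (0, 0), (0, 0), (1, 0), (0, 0), (0, 0), (1, 0), (0, 1)],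
  [(0, 1), (0, 0), (0, 0), (0, 1), (0, 0), (0, 0), (1, 0), (0, 1), (0, 1), (-1, 0), (0, 0), (0, 0), (0, 0), (1, 0), (0, 0), (0, -1), (0, 0), (1, 0), (-1, 0), (0, 0), (0, 1), (0, 0), (1, 0), (0, 0), (-1, 0), (0, -1), (0, 1), (-1, 0)],
  [(0, 0), (0, 0), (0, 0), (0, 0), (0, 0), (0, 0), (0, 0), (0, 0), (0, 1), (0, -1), (-1, 0), (0, -1), (0, 0), (0, 0), (0, 0), (0, 0), (0, -1), (-1, 0), (0, -1), (0, 1), (0, -1), (0, -1), (0, -1), (1, 0), (-1, 0), (0, -1), (0, -1), (0, 1)],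
  [(0, 0), (0, 0), (1, 0), (0, 1), (0, 0), (0, 0), (0, 1), (0, 1), (0, -1), (0, 0), (0, 1), (0, 0), (0, -1), (0, 0), (0, 0), (-1, 0), (0, 0), (0, -1), (0, 0), (0, 1), (-1, 0), (0, -1), (-1, 0), (0, 1), (1, 0), (0, 0), (0, 0), (-1, 0)],
  [(-1, 0), (0, -1), (-1, 0), (-1, 0), (1, 0), (-1, 0), (-1, 0), (0, 1), (0, -1), (-1, 0), (1, 0), (1, 0), (0, 0), (0, 0), (0, 0), (0, 0), (0, 0), (0, 0), (0, 0), (0, 0), (1, 0), (-1, 0), (0, -1), (1, 0), (0, 0), (0, 0), (0, 0), (0, 0)],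
  [(0, 1), (0, -1), (0, 0), (0, 0), (0, -1), (1, 0), (0, 0), (0, 0), (1, 0), (0, 0), (1, 0), (0, 0), (1, 0), (0, 0), (0, 0), (0, 1), (1, 0), (0, 0), (0, 1), (0, 0), (-1, 0), (0, -1), (1, 0), (0, -1), (0, 0), (1, 0), (0, -1), (0, 0)],
  [(0, 0), (0, 1), (0, -1), (0, 0), (0, -1), (0, 0), (1, 0), (0, 0), (0, -1), (0, -1), (-1, 0), (1, 0), (0, 0), (1, 0), (0, -1), (0, 0), (0, 1), (0, 1), (0, 0), (0, 0), (0, 0), (0, 0), (0, -1), (0, -1), (1, 0), (0, 0), (1, 0), (0, 0)],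
  [(0, 0), (0, 0), (0, 0), (0, 0), (-1, 0), (0, 1), (-1, 0), (1, 0), (1, 0), (-1, 0), (-1, 0), (0, 1), (-1, 0), (0, 1), (0, 1), (0, 1), (0, 0), (0, 0), (0, 0), (0, 0), (0, 0), (0, 0), (0, 0), (0, 0), (0, -1), (0, -1), (1, 0), (0, -1)],
  [(0, 1), (0, 1), (1, 0), (0, -1), (0, 0), (0, 0), (0, 0), (0, 0), (1, 0), (0, 1), (1, 0), (1, 0), (-1, 0), (-1, 0), (-1, 0), (0, -1), (1, 0), (0, 1), (0, -1), (0, 1), (0, 0), (0, 0), (0, 0), (0, 0), (0, 0), (0, 0), (0, 0), (0, 0)],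
  [(0, -1), (0, 0), (0, 0), (1, 0), (0, 0), (-1, 0), (0, 0), (-1, 0), (1, 0), (-1, 0), (0, -1), (0, -1), (0, 0), (1, 0), (0, 1), (0, 0), (0, 0), (0, 0), (1, 0), (0, 1), (0, 0), (0, 0), (0, 1), (0, -1), (0, 0), (0, 1), (0, 0), (-1, 0)],
  [(0, 0), (-1, 0), (0, -1), (0, 0), (0, 0), (0, 0), (-1, 0), (0, -1), (0, 0), (0, 0), (0, 1), (0, -1), (0, 0), (0, 1), (0, 0), (-1, 0), (0, 1), (0, 0), (0, 0), (-1, 0), (0, 0), (-1, 0), (0, 0), (-1, 0), (-1, 0), (1, 0), (0, 1), (0, 1)],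
  [(1, 0), (0, 0), (0, 1), (0, 0), (0, 1), (-1, 0), (0, 1), (1, 0), (0, 0), (0, -1), (1, 0), (0, 0), (0, 1), (0, -1), (0, 0), (0, 0), (-1, 0), (0, 1), (0, 0), (0, 0), (0, 0), (0, -1), (0, 0), (-1, 0), (0, 0), (1, 0), (1, 0), (0, 0)],
  [(0, 0), (0, 0), (1, 0), (-1, 0), (0, 0), (-1, 0), (0, 0), (0, 1), (0, 0), (1, 0), (-1, 0), (0, 0), (0, 0), (0, -1), (0, 0), (0, 1), (1, 0), (0, 1), (0, 1), (-1, 0), (0, 0), (-1, 0), (0, 1), (0, 0), (-1, 0), (-1, 0), (0, 0), (0, 0)],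
  [(0, -1), (0, -1), (1, 0), (-1, 0), (-1, 0), (0, 0), (0, 0), (1, 0), (0, 0), (0, 0), (1, 0), (0, -1), (0, -1), (1, 0), (0, 0), (0, 0), (0, 1), (0, 0), (0, -1), (0, 0), (0, 0), (1, 0), (1, 0), (0, 0), (0, 0), (-1, 0), (0, 0), (1, 0)],
  [(0, -1), (0, 0), (0, 1), (0, 0), (0, 0), (0, 1), (0, -1), (0, 0), (0, 0), (1, 0), (0, 0), (1, 0), (-1, 0), (1, 0), (-1, 0), (1, 0), (0, 0), (0, -1), (-1, 0), (0, 0), (-1, 0), (-1, 0), (0, 0), (0, 0), (0, 1), (1, 0), (0, 0), (0, 0)],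
  [(0, 0), (0, 1), (0, 0), (-1, 0), (1, 0), (0, 0), (0, 0), (0, -1), (0, 0), (-1, 0), (0, 0), (1, 0), (0, -1), (0, -1), (0, 1), (0, 1), (0, -1), (0, 0), (0, 0), (0, -1), (-1, 0), (1, 0), (0, 0), (0, 0), (0, 0), (0, 0), (0, 1), (0, 1)],
  [(0, 0), (0, 0), (0, 0), (0, 0), (1, 0), (-1, 0), (0, -1), (1, 0), (0, 0), (0, 0), (0, 0), (0, 0), (1, 0), (0, 1), (1, 0), (1, 0), (1, 0), (-1, 0), (-1, 0), (0, 1), (0, 1), (1, 0), (-1, 0), (-1, 0), (0, 0), (0, 0), (0, 0), (0, 0)],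
  [(1, 0), (0, -1), (0, -1), (0, -1), (0, 0), (0, 0), (0, 0), (0, 0), (0, 0), (0, 0), (0, 0), (0, 0), (0, -1), (0, -1), (1, 0), (0, -1), (0, 0), (0, 0), (0, 0), (0, 0), (-1, 0), (0, 1), (-1, 0), (1, 0), (-1, 0), (1, 0), (1, 0), (0, -1)]
]

/-- the images of the basis vectors `ruB t` -/
def ruYG2 : List (List (ℤ × ℤ)) := [
  [(0, -1), (0, 0), (0, 1), (0, 0), (0, 1), (0, 0), (0, 0), (-1, 0), (0, 1), (0, 0), (-1, 0), (0, 0), (-1, 0), (0, 1), (1, 0), (0, 1), (0, 0), (0, 1), (1, 0), (0, 0), (-1, 0), (-1, 0), (0, 0), (0, 0), (1, 0), (0, 1), (0, 0), (0, 0)],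
  [(0, -1), (0, 0), (0, 0), (0, -1), (1, 0), (-1, 0), (0, 0), (0, 0), (1, 0), (0, 1), (0, 0), (0, 0), (0, 0), (0, 1), (0, 0), (-1, 0), (0, -1), (0, 0), (0, 0), (1, 0), (1, 0), (0, 0), (0, 1), (0, 0), (0, 1), (0, -1), (1, 0), (1, 0)],
  [(1, 0), (0, 0), (0, 0), (0, 1), (0, 1), (0, 0), (1, 0), (0, 0), (1, 0), (0, 1), (-1, 0), (0, 1), (1, 0), (0, 0), (0, 0), (1, 0), (1, 0), (-1, 0), (0, 0), (0, 0), (0, 0), (0, 0), (0, -1), (0, 1), (-1, 0), (0, 0), (1, 0), (0, 0)],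
  [(0, 0), (0, 0), (1, 0), (0, -1), (0, 0), (0, 0), (-1, 0), (1, 0), (0, 0), (0, -1), (0, 0), (-1, 0), (0, 0), (0, -1), (0, -1), (0, 0), (0, -1), (0, 0), (1, 0), (0, 0), (0, 1), (-1, 0), (-1, 0), (0, -1), (0, 0), (1, 0), (0, 1), (0, 0)],
  [(0, 1), (0, 1), (-1, 0), (0, -1), (0, 0), (0, 0), (0, 0), (0, 0), (0, 1), (-1, 0), (0, -1), (0, 1), (0, -1), (0, 1), (0, -1), (1, 0), (-1, 0), (0, -1), (0, -1), (0, -1), (0, 0), (0, 0), (0, 0), (0, 0), (0, 0), (0, 0), (0, 0), (0, 0)],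
  [(-1, 0), (1, 0), (1, 0), (-1, 0), (0, 1), (0, 0), (0, 0), (0, -1), (0, 0), (0, 0), (0, -1), (1, 0), (0, 0), (0, 0), (0, -1), (0, 1), (1, 0), (0, 0), (1, 0), (0, 0), (0, 0), (-1, 0), (-1, 0), (0, 0), (0, 1), (0, 0), (-1, 0), (0, 0)],
  [(-1, 0), (0, 0), (0, 0), (-1, 0), (0, 0), (0, 0), (-1, 0), (0, 1), (0, -1), (1, 0), (0, 0), (0, 0), (0, -1), (0, 0), (0, -1), (0, 0), (0, 0), (-1, 0), (1, 0), (0, 0), (0, 0), (-1, 0), (0, 0), (-1, 0), (-1, 0), (-1, 0), (0, 1), (0, -1)],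
  [(0, 0), (0, -1), (0, 1), (0, 0), (0, 0), (0, -1), (0, 0), (0, 1), (0, -1), (-1, 0), (0, 1), (-1, 0), (0, 1), (0, 0), (0, 0), (0, 1), (0, 0), (0, 0), (-1, 0), (0, 1), (0, 0), (0, 0), (1, 0), (-1, 0), (0, 0), (1, 0), (0, 0), (0, -1)],
  [(0, 1), (0, 0), (0, 0), (1, 0), (0, -1), (0, 0), (1, 0), (0, 0), (-1, 0), (0, -1), (0, 1), (-1, 0), (0, 0), (0, 1), (1, 0), (0, 0), (0, 0), (0, 0), (-1, 0), (0, 1), (0, 0), (0, 0), (0, -1), (0, -1), (1, 0), (0, 0), (-1, 0), (0, 0)],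
  [(0, -1), (0, 0), (0, 0), (1, 0), (0, 0), (0, -1), (0, 0), (0, 1), (1, 0), (0, -1), (1, 0), (0, 1), (1, 0), (0, 0), (0, 0), (-1, 0), (0, 0), (0, 0), (1, 0), (0, -1), (0, 0), (0, 0), (0, 1), (0, 1), (0, 1), (0, 0), (0, -1), (0, 0)],
  [(1, 0), (0, 0), (0, 0), (0, -1), (0, 0), (0, -1), (0, 0), (0, 1), (0, 1), (0, -1), (0, -1), (0, 1), (0, 0), (0, 1), (-1, 0), (0, 0), (0, -1), (0, 1), (0, 0), (0, 0), (0, 1), (-1, 0), (0, 0), (0, 0), (0, 0), (0, 1), (0, 0), (-1, 0)],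
  [(0, -4), (0, 0), (0, 0), (0, 0), (0, 0), (0, 0), (0, 0), (0, 0), (0, 0), (0, 0), (0, 0), (0, 0), (0, 0), (0, 0), (0, 0), (0, 0), (0, 0), (0, 0), (0, 0), (0, 0), (0, 0), (0, 0), (0, 0), (0, 0), (0, 0), (0, 0), (0, 0), (0, 0)],
  [(0, 1), (0, 1), (0, 1), (0, 1), (1, 0), (0, 0), (0, 0), (1, 0), (-1, 0), (-1, 0), (0, 0), (0, 0), (0, 0), (0, 0), (-1, 0), (-1, 0), (1, 0), (0, 0), (1, 0), (0, 0), (0, 0), (-1, 0), (-1, 0), (0, 0), (0, 0), (1, 0), (0, 0), (1, 0)],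
  [(0, 0), (0, -1), (0, 0), (0, 1), (-1, 0), (0, -1), (0, -1), (1, 0), (1, 0), (0, 0), (0, 0), (-1, 0), (1, 0), (1, 0), (0, 0), (0, 0), (1, 0), (0, 1), (0, 0), (0, 0), (-1, 0), (0, 0), (1, 0), (0, 0), (0, 1), (0, 0), (0, 0), (1, 0)],
  [(0, -1), (0, 1), (0, 0), (0, 0), (0, 0), (0, 0), (0, -1), (0, 1), (1, 0), (0, 0), (-1, 0), (0, 0), (0, 0), (0, 1), (0, 1), (0, 0), (0, 1), (0, 0), (-1, 0), (0, 0), (1, 0), (1, 0), (0, 1), (0, -1), (0, 0), (-1, 0), (0, 1), (0, 0)],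
  [(-1, 0), (0, 0), (0, 0), (-1, 0), (-1, 0), (1, 0), (0, 0), (0, 0), (1, 0), (0, -1), (0, 0), (0, 0), (1, 0), (0, 0), (1, 0), (0, 0), (0, -1), (0, 0), (0, 0), (1, 0), (0, 0), (0, 1), (0, 0), (0, 1), (0, 1), (-1, 0), (-1, 0), (0, -1)],
  [(0, 1), (0, -1), (0, -1), (0, 1), (0, 0), (1, 0), (0, -1), (0, 0), (-1, 0), (-1, 0), (0, 0), (0, 0), (1, 0), (0, -1), (0, 0), (0, 0), (0, 0), (1, 0), (0, 0), (0, -1), (0, -1), (0, 0), (0, 0), (1, 0), (0, 0), (1, 0), (0, 0), (1, 0)],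
  [(0, -1), (0, 0), (-1, 0), (0, 0), (0, -1), (1, 0), (0, -1), (-1, 0), (0, -1), (0, 0), (0, 0), (0, 1), (-1, 0), (1, 0), (0, 0), (0, 0), (0, 0), (0, 0), (-1, 0), (-1, 0), (0, 0), (0, 1), (0, 0), (1, 0), (0, 0), (-1, 0), (1, 0), (0, 0)],
  [(0, 1), (0, 0), (0, 0), (0, 1), (1, 0), (-1, 0), (0, 0), (0, 0), (1, 0), (0, 1), (0, 0), (0, 0), (0, 0), (0, 1), (0, 0), (-1, 0), (0, 1), (0, 0), (0, 0), (-1, 0), (-1, 0), (0, 0), (0, -1), (0, 0), (0, 1), (0, -1), (1, 0), (1, 0)],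
  [(0, 0), (0, 0), (0, 1), (0, 1), (0, 0), (0, -1), (0, 0), (1, 0), (0, 1), (0, 0), (0, 0), (-1, 0), (0, 0), (1, 0), (0, 0), (-1, 0), (0, 1), (0, -1), (-1, 0), (-1, 0), (0, 0), (-1, 0), (0, -1), (0, 0), (0, 0), (0, 0), (-1, 0), (0, -1)],
  [(0, 0), (0, 0), (0, 1), (1, 0), (1, 0), (0, -1), (0, 0), (0, 0), (0, 0), (1, 0), (0, 0), (0, 1), (0, 0), (0, -1), (0, -1), (0, 0), (0, 0), (-1, 0), (0, 0), (1, 0), (0, -1), (1, 0), (0, 1), (1, 0), (0, 0), (0, 1), (-1, 0), (0, 0)],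
  [(0, 1), (1, 0), (0, 1), (-1, 0), (0, 1), (0, 0), (0, 0), (0, -1), (0, 0), (0, 0), (0, 1), (1, 0), (0, 0), (0, 0), (-1, 0), (-1, 0), (-1, 0), (0, 0), (1, 0), (0, 0), (1, 0), (0, 0), (0, 0), (0, 1), (0, 0), (1, 0), (0, 0), (-1, 0)],
  [(0, -1), (0, 0), (0, 0), (0, -1), (0, 0), (0, 0), (-1, 0), (0, -1), (-1, 0), (0, -1), (0, 0), (0, 0), (0, 0), (1, 0), (0, 0), (0, -1), (1, 0), (0, 0), (0, 0), (0, -1), (0, 0), (1, 0), (0, 0), (-1, 0), (1, 0), (1, 0), (0, 1), (0, -1)],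
  [(0, 0), (-1, 0), (1, 0), (0, 0), (0, 0), (1, 0), (0, 0), (-1, 0), (-1, 0), (0, 1), (1, 0), (0, 1), (1, 0), (0, 0), (0, 0), (1, 0), (0, 0), (0, 0), (0, 1), (1, 0), (0, 0), (0, 0), (0, 1), (0, -1), (0, 0), (0, 1), (0, 0), (1, 0)],
  [(0, 0), (0, 0), (0, 0), (0, 0), (-1, 0), (0, -1), (-1, 0), (1, 0), (1, 0), (-1, 0), (-1, 0), (0, -1), (-1, 0), (0, -1), (0, -1), (0, -1), (0, 0), (0, 0), (0, 0), (0, 0), (0, 0), (0, 0), (0, 0), (0, 0), (0, 1), (0, 1), (1, 0), (0, 1)],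
  [(0, 0), (0, 1), (0, 0), (0, 1), (0, 1), (0, 1), (0, -1), (0, -1), (1, 0), (0, 0), (0, 0), (-1, 0), (0, 1), (0, 1), (0, 0), (0, 0), (0, 0), (0, 0), (-1, 0), (1, 0), (0, 0), (1, 0), (0, 0), (0, 1), (0, 1), (0, 0), (0, 0), (1, 0)],
  [(-1, 0), (0, -1), (0, -1), (1, 0), (1, 0), (0, 0), (0, 0), (-1, 0), (1, 0), (1, 0), (0, 0), (0, 0), (1, 0), (0, 1), (0, 0), (0, 0), (-1, 0), (0, 0), (1, 0), (0, 0), (0, 1), (0, 0), (0, 0), (1, 0), (0, 0), (0, -1), (0, 0), (0, 1)],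
  [(0, 0), (0, 0), (0, -1), (0, 1), (0, 0), (1, 0), (0, 0), (0, 1), (-1, 0), (0, 0), (0, 0), (0, -1), (-1, 0), (0, 0), (0, 1), (0, 0), (0, 1), (0, 1), (1, 0), (-1, 0), (0, 0), (-1, 0), (0, 1), (0, 0), (1, 0), (1, 0), (0, 0), (0, 0)]
]

theorem ruG2_c1 : ∀ q r : RuIdx,
    ∑ p, star (ruMatL ruMG2 p q) * ruMatL ruMG2 p r = if q = r then 16 else 0 := by
  decide +kernel

theorem ruG2_c2 : ∀ p r : RuIdx,
    ∑ q, ruMatL ruMG2 p q * star (ruMatL ruMG2 r q) = if p = r then 16 else 0 := by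
  decide +kernel

theorem ruG2_c3 : ∀ t : Fin 28, ∀ p : RuIdx,
    ∑ q, ruMatL ruMG2 p q * ruB t q = 4 * rvlMk (ruYG2.getD t.val []) p := by
  decide +kernel

theorem ruG2_c4 : ∀ t s : Fin 28, rvlD4 (rvlHerm (rvlMk (ruYG2.getD t.val [])) (ruB s)) := by
  decide +kernel

/-- the automorphism as an element of `fourRu` -/
theorem ruG2_exists : ∃ f : Equiv.Perm ruLattice, f ∈ fourRu ∧ ∀ x : ruLattice,
    (4 : GaussianInt) • ((f x : ruLattice) : RuVec) = ruMatL ruMG2 *ᵥ (x : RuVec) :=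
  ruAut_of_data ruMG2 ruYG2 ruG2_c1 ruG2_c2 ruG2_c3 ruG2_c4

end Cfsg.Agent.Lib.helper14
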