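import Mathlib
import Cfsg.Prelude.Def_Spor_Ru
import Cfsg.Agent.Lib.helper14.RuAutMat

/-!
# Project RU: checking `M *ᵥ x = 4 • y` for packed small vectors by evaluation at a base

Real coordinates `ruCo x k` (`k < 56`), the evaluation `ruPhi B x = ∑ k, ruCo x k * B ^ k` (additive,
injective on vectors with small coordinates), packed vectors `ruDec E` (56 digits of four bits,
coordinate = digit - 8) and the fast dot product `ruDot`.
-/

set_option autoImplicit false
set_option maxRecDepth 100000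

namespace Cfsg.Agent.Lib.helper14

open Cfsg.Spor Cfsg.Agent.Lib.Helper29 Matrix

/-- Gaussian coordinate number `n < 28` as an index -/
def ruIdxN (n : ℕ) : RuIdx := (Fin.ofNat 7 (n / 4), Fin.ofNat 4 (n % 4))

theorem ruIdxN_val : ∀ p : RuIdx, ruIdxN (4 * p.1.val + p.2.val) = p := by decide

/-- real coordinate `k < 56` -/
def ruCo (x : RuVec) (k : ℕ) : ℤ :=
  if k % 2 = 0 then (x (ruIdxN (k / 2))).re else (x (ruIdxN (k / 2))).im

theorem ruCo_even (x : RuVec) (p : RuIdx) :
    ruCo x (2 * (4 * p.1.val + p.2.val)) = (x p).re := by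
  have h1 : 2 * (4 * p.1.val + p.2.val) % 2 = 0 := by omega
  have h2 : 2 * (4 * p.1.val + p.2.val) / 2 = 4 * p.1.val + p.2.val := by omega
  rw [ruCo, if_pos h1, h2, ruIdxN_val]

theorem ruCo_odd (x : RuVec) (p : RuIdx) :
    ruCo x (2 * (4 * p.1.val + p.2.val) + 1) = (x p).im := by
  have h1 : ¬ (2 * (4 * p.1.val + p.2.val) + 1) % 2 = 0 := by omega
  have h2 : (2 * (4 * p.1.val + p.2.val) + 1) / 2 = 4 * p.1.val + p.2.val := by omega
  rw [ruCo, if_neg h1, h2, ruIdxN_val]

theorem ru_idx_lt (p : RuIdx) : 2 * (4 * p.1.val + p.2.val) + 1 < 56 := by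
  have := p.1.isLt; have := p.2.isLt; omega

theorem ruCo_ext {x y : RuVec} (h : ∀ k < 56, ruCo x k = ruCo y k) : x = y := by
  funext p
  apply Zsqrtd.ext
  · rw [← ruCo_even x p, ← ruCo_even y p]
    exact h _ (by have := ru_idx_lt p; omega)
  · rw [← ruCo_odd x p, ← ruCo_odd y p]
    exact h _ (ru_idx_lt p)

theorem ruCo_add (x y : RuVec) (k : ℕ) : ruCo (x + y) k = ruCo x k + ruCo y k := by
  unfold ruCo; split_ifs <;> simp

theorem ruCo_zero (k : ℕ) : ruCo 0 k = 0 := by
  unfold ruCo; split_ifs <;> simp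

theorem ruCo_sub (x y : RuVec) (k : ℕ) : ruCo (x - y) k = ruCo x k - ruCo y k := by
  unfold ruCo; split_ifs <;> simp

theorem ruCo_zsmul (n : ℤ) (x : RuVec) (k : ℕ) : ruCo (n • x) k = n * ruCo x k := by
  unfold ruCo; split_ifs <;> simp

theorem ruCo_four (x : RuVec) (k : ℕ) : ruCo ((4 : GaussianInt) • x) k = 4 * ruCo x k := by
  unfold ruCo; split_ifs <;> simp

/-- evaluation at the base `B` -/
def ruPhi (B : ℤ) : RuVec →+ ℤ where
  toFun x := ∑ k ∈ Finset.range 56, ruCo x k * B ^ k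
  map_zero' := by simp [ruCo_zero]
  map_add' x y := by simp only [ruCo_add, add_mul, Finset.sum_add_distrib]

theorem ruPhi_apply (B : ℤ) (x : RuVec) : ruPhi B x = ∑ k ∈ Finset.range 56, ruCo x k * B ^ k := rfl

theorem ru_digits_zero {B : ℤ} : ∀ (n : ℕ) (d : ℕ → ℤ), (∀ k < n, |d k| < B) →
    ∑ k ∈ Finset.range n, d k * B ^ k = 0 → ∀ k < n, d k = 0 := by
  intro n
  induction n with
  | zero => intro d _ _ k hk; omega
  | succ n ih =>
    intro d hd hs k hk
    rw [Finset.sum_range_succ'] at hs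
    have h0 := hd 0 (by omega)
    have hB : 0 < B := lt_of_le_of_lt (abs_nonneg _) h0
    have e : ∑ k ∈ Finset.range n, d (k + 1) * B ^ (k + 1)
        = B * ∑ k ∈ Finset.range n, d (k + 1) * B ^ k := by
      rw [Finset.mul_sum]
      exact Finset.sum_congr rfl fun k _ => by ring
    rw [e, pow_zero, mul_one] at hs
    have hdvd : B ∣ d 0 := ⟨-∑ k ∈ Finset.range n, d (k + 1) * B ^ k, by linarith⟩
    have hd0 : d 0 = 0 := Int.eq_zero_of_abs_lt_dvd hdvd h0
    rw [hd0, add_zero] at hs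
    have hs' : ∑ k ∈ Finset.range n, d (k + 1) * B ^ k = 0 := by
      rcases mul_eq_zero.1 hs with h | h
      · omega
      · exact h
    rcases k with _ | k
    · exact hd0
    · exact ih (fun k => d (k + 1)) (fun k hk => hd (k + 1) (by omega)) hs' k (by omega)

theorem ruPhi_inj {B : ℤ} {x y : RuVec} (hB : ∀ k < 56, |ruCo x k - ruCo y k| < B)
    (h : ruPhi B x = ruPhi B y) : x = y := by
  apply ruCo_ext
  intro k hk
  have hs : ∑ k ∈ Finset.range 56, (ruCo x k - ruCo y k) * B ^ k = 0 := by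
    have : ruPhi B x - ruPhi B y = 0 := sub_eq_zero.2 h
    rw [ruPhi_apply, ruPhi_apply, ← Finset.sum_sub_distrib] at this
    rw [← this]
    exact Finset.sum_congr rfl fun k _ => by ring
  have := ru_digits_zero 56 (fun k => ruCo x k - ruCo y k) hB hs k hk
  simpa [sub_eq_zero] using this

/-! ### the real columns of a matrix -/

/-- real column `k` of `M`: the image of the `k`-th real unit vector -/
def ruColR (M : RuMat) (k : ℕ) : RuVec :=
  fun p => if k % 2 = 0 then M p (ruIdxN (k / 2)) else M p (ruIdxN (k / 2)) * gI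

theorem ru_sum_pairs {A : Type*} [AddCommMonoid A] (F : ℕ → A) :
    ∑ q : RuIdx, (F (2 * (4 * q.1.val + q.2.val)) + F (2 * (4 * q.1.val + q.2.val) + 1))
      = ∑ k ∈ Finset.range 56, F k := by
  simp only [Fintype.sum_prod_type, Fin.sum_univ_succ, Finset.sum_range_succ, Fin.sum_univ_zero,
    Finset.sum_range_zero, Fin.val_zero, Fin.val_succ]
  abel

theorem ru_gauss_split (z : GaussianInt) : z = (z.re : GaussianInt) + (z.im : GaussianInt) * gI := by
  apply Zsqrtd.ext <;> simp [gI]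

theorem ru_mulVec_expand (M : RuMat) (x : RuVec) :
    M *ᵥ x = ∑ k ∈ Finset.range 56, ruCo x k • ruColR M k := by
  funext p
  rw [Finset.sum_apply, ← ru_sum_pairs (fun k => (ruCo x k • ruColR M k) p)]
  simp only [Matrix.mulVec, dotProduct]
  refine Finset.sum_congr rfl fun q _ => ?_
  have h1 : 2 * (4 * q.1.val + q.2.val) % 2 = 0 := by omega
  have h2 : 2 * (4 * q.1.val + q.2.val) / 2 = 4 * q.1.val + q.2.val := by omega
  have h3 : ¬ (2 * (4 * q.1.val + q.2.val) + 1) % 2 = 0 := by omega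
  have h4 : (2 * (4 * q.1.val + q.2.val) + 1) / 2 = 4 * q.1.val + q.2.val := by omega
  simp only [Pi.smul_apply, ruCo_even, ruCo_odd, ruColR, if_pos h1, h2, if_neg h3, h4, ruIdxN_val,
    zsmul_eq_mul]
  conv_lhs => rw [ru_gauss_split (x q)]
  ring

theorem ruPhi_mulVec (B : ℤ) (M : RuMat) (x : RuVec) :
    ruPhi B (M *ᵥ x) = ∑ k ∈ Finset.range 56, ruCo x k * ruPhi B (ruColR M k) := by
  rw [ru_mulVec_expand, map_sum]
  exact Finset.sum_congr rfl fun k _ => by rw [map_zsmul, smul_eq_mul]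

/-! ### packed vectors -/

/-- digit `k` (four bits) of `E`, shifted to the range `-8 .. 7` -/
def ruDig (E k : ℕ) : ℤ := ((E / 16 ^ k % 16 : ℕ) : ℤ) - 8

/-- the vector with packed real coordinates `E` -/
def ruDec (E : ℕ) : RuVec :=
  fun p => ⟨ruDig E (2 * (4 * p.1.val + p.2.val)), ruDig E (2 * (4 * p.1.val + p.2.val) + 1)⟩

theorem ruCo_dec (E : ℕ) : ∀ k < 56, ruCo (ruDec E) k = ruDig E k := by
  intro k hk
  unfold ruCo
  have hv : ∀ n < 28, 4 * (ruIdxN n).1.val + (ruIdxN n).2.val = n := by decide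
  split_ifs with h
  · simp only [ruDec, hv (k / 2) (by omega)]
    congr 1; omega
  · simp only [ruDec, hv (k / 2) (by omega)]
    congr 1; omega

theorem ruDig_abs (E k : ℕ) : |ruDig E k| ≤ 8 := by
  unfold ruDig
  have : E / 16 ^ k % 16 < 16 := Nat.mod_lt _ (by norm_num)
  rw [abs_le]; omega

/-- force the evaluation of a natural number (for kernel reduction) -/
def ruForce {α : Sort*} (x : ℕ) (k : ℕ → α) : α :=
  @Nat.rec (fun _ => α) (k 0) (fun n _ => k (Nat.succ n)) x

theorem ruForce_eq {α : Sort*} (x : ℕ) (k : ℕ → α) : ruForce x k = k x := by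
  cases x <;> rfl

/-- fast dot product of the digits of `E` with a list of integers -/
def ruDot : ℕ → List ℤ → ℤ
  | _, [] => 0
  | E, t :: T => ruForce (E / 16) fun E' => (((E % 16 : ℕ) : ℤ) - 8) * t + ruDot E' T

theorem ruDig_succ (E k : ℕ) : ruDig (E / 16) k = ruDig E (k + 1) := by
  unfold ruDig
  rw [Nat.div_div_eq_div_mul, pow_succ, mul_comm]

theorem ruDot_eq : ∀ (T : List ℤ) (E : ℕ),
    ruDot E T = ∑ k ∈ Finset.range T.length, ruDig E k * T.getD k 0 := by
  intro T
  induction T with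
  | nil => intro E; simp [ruDot]
  | cons t T ih =>
    intro E
    rw [ruDot, ruForce_eq, ih, List.length_cons, Finset.sum_range_succ']
    simp only [List.getD_cons_succ, List.getD_cons_zero, ruDig_succ]
    have : ruDig E 0 = ((E % 16 : ℕ) : ℤ) - 8 := by simp [ruDig]
    rw [this]; ring

/-- fast dot product of the raw digits of `E` with a list of natural numbers (explicit recursor,
for kernel reduction) -/
def ruDotN (E : ℕ) (T : List ℕ) : ℕ :=
  @List.rec ℕ (fun _ => ℕ → ℕ) (fun _ => 0)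
    (fun t _ ih E => ruForce (Nat.div E 16) fun E' => Nat.add (Nat.mul (Nat.mod E 16) t) (ih E'))
    T E

theorem ruDotN_nil (E : ℕ) : ruDotN E [] = 0 := rfl

theorem ruDotN_cons (E t : ℕ) (T : List ℕ) :
    ruDotN E (t :: T) = E % 16 * t + ruDotN (E / 16) T := by
  show ruForce (Nat.div E 16) (fun E' => Nat.add (Nat.mul (Nat.mod E 16) t) (ruDotN E' T)) = _
  rw [ruForce_eq]; rfl

theorem ruDotN_eq : ∀ (T : List ℕ) (E : ℕ),
    ((ruDotN E T : ℕ) : ℤ) = ∑ k ∈ Finset.range T.length, (ruDig E k + 8) * (T.getD k 0 : ℕ) := by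
  intro T
  induction T with
  | nil => intro E; simp [ruDotN_nil]
  | cons t T ih =>
    intro E
    rw [ruDotN_cons, Nat.cast_add, ih, List.length_cons, Finset.sum_range_succ']
    simp only [List.getD_cons_succ, List.getD_cons_zero, ruDig_succ]
    have : ruDig E 0 + 8 = ((E % 16 : ℕ) : ℤ) := by simp [ruDig]
    rw [this]; push_cast; ring

/-- the list of differences -/
def ruDiffL : List ℕ → List ℕ → List ℤ
  | a :: A, b :: B => ((a : ℤ) - (b : ℤ)) :: ruDiffL A B
  | _, _ => []

theorem ruDiffL_length : ∀ (A B : List ℕ), A.length = B.length → (ruDiffL A B).length = A.length := by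
  intro A
  induction A with
  | nil => intro B _; cases B <;> rfl
  | cons a A ih =>
    intro B h
    cases B with
    | nil => simp at h
    | cons b B => simp only [ruDiffL, List.length_cons]; rw [ih B (by simpa using h)]

theorem ruDiffL_getD : ∀ (A B : List ℕ), A.length = B.length → ∀ k,
    (ruDiffL A B).getD k 0 = ((A.getD k 0 : ℕ) : ℤ) - ((B.getD k 0 : ℕ) : ℤ) := by
  intro A
  induction A with
  | nil =>
    intro B h k
    cases B with
    | nil => simp [ruDiffL]
    | cons b B => simp at h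
  | cons a A ih =>
    intro B h k
    cases B with
    | nil => simp at h
    | cons b B =>
      cases k with
      | zero => simp [ruDiffL]
      | succ k => simp only [ruDiffL, List.getD_cons_succ]; exact ih B (by simpa using h) k

/-- sum of the first entries of a list -/
theorem ru_list_sum_getD : ∀ (A : List ℕ), ((A.sum : ℕ) : ℤ) = ∑ k ∈ Finset.range A.length, ((A.getD k 0 : ℕ) : ℤ) := by
  intro A
  induction A with
  | nil => simp
  | cons a A ih =>
    rw [List.sum_cons, List.length_cons, Finset.sum_range_succ']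
    simp only [List.getD_cons_succ, List.getD_cons_zero]
    rw [Nat.cast_add, ih]; ring

/-- the integer dot product through two natural ones -/
theorem ruDot_nat (E : ℕ) (A B : List ℕ) (h : A.length = B.length) :
    ruDot E (ruDiffL A B) = ((ruDotN E A : ℕ) : ℤ) - ((ruDotN E B : ℕ) : ℤ)
      - 8 * (((A.sum : ℕ) : ℤ) - ((B.sum : ℕ) : ℤ)) := by
  rw [ruDot_eq, ruDiffL_length A B h, ruDotN_eq, ruDotN_eq, ru_list_sum_getD, ru_list_sum_getD, ← h]
  simp only [← Finset.sum_sub_distrib, Finset.mul_sum]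
  refine Finset.sum_congr rfl fun k _ => ?_
  rw [ruDiffL_getD A B h]; ring

theorem ruDot_of_nat (E E' : ℕ) (Gp Gn Hp Hn : List ℕ) (hG : Gp.length = Gn.length)
    (hH : Hp.length = Hn.length) (K1 K2 : ℕ) (hK1 : K1 = 8 * (Gn.sum + Hp.sum))
    (hK2 : K2 = 8 * (Gp.sum + Hn.sum))
    (h : ruDotN E Gp + ruDotN E' Hn + K1 = ruDotN E' Hp + ruDotN E Gn + K2) :
    ruDot E (ruDiffL Gp Gn) = ruDot E' (ruDiffL Hp Hn) := by
  rw [ruDot_nat E Gp Gn hG, ruDot_nat E' Hp Hn hH]
  have := congrArg (Nat.cast : ℕ → ℤ) h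
  rw [hK1, hK2] at this
  simp only [Nat.cast_add, Nat.cast_mul, Nat.cast_ofNat] at this
  linarith

/-- the powers of the base -/
def ruPows (B : ℤ) : ℕ → List ℤ
  | 0 => []
  | n + 1 => 1 :: (ruPows B n).map (B * ·)

theorem ruPows_length (B : ℤ) : ∀ n, (ruPows B n).length = n := by
  intro n; induction n with
  | zero => rfl
  | succ n ih => simp [ruPows, ih]

theorem ruPows_getD (B : ℤ) : ∀ n k, k < n → (ruPows B n).getD k 0 = B ^ k := by
  intro n
  induction n with
  | zero => intro k hk; omega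
  | succ n ih =>
    intro k hk
    rcases k with _ | k
    · simp [ruPows]
    · have hk' : k < n := by omega
      have hl : k < ((ruPows B n).map (B * ·)).length := by simp [ruPows_length, hk']
      simp only [ruPows, List.getD_cons_succ]
      rw [List.getD_eq_getElem _ _ hl, List.getElem_map]
      have := ih k hk'
      rw [List.getD_eq_getElem _ _ (by simp [ruPows_length, hk'])] at this
      rw [this, pow_succ]; ring

theorem ruPhi_dec (B : ℤ) (E : ℕ) : ruPhi B (ruDec E) = ruDot E (ruPows B 56) := by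
  rw [ruDot_eq, ruPows_length, ruPhi_apply]
  refine Finset.sum_congr rfl fun k hk => ?_
  rw [ruCo_dec E k (Finset.mem_range.1 hk), ruPows_getD B 56 k (Finset.mem_range.1 hk)]

theorem ruPhi_mulVec_dec (B : ℤ) (M : RuMat) (G : List ℤ) (hl : G.length = 56)
    (hG : ∀ k < 56, ruPhi B (ruColR M k) = G.getD k 0) (E : ℕ) :
    ruPhi B (M *ᵥ ruDec E) = ruDot E G := by
  rw [ruPhi_mulVec, ruDot_eq, hl]
  refine Finset.sum_congr rfl fun k hk => ?_
  rw [ruCo_dec E k (Finset.mem_range.1 hk), hG k (Finset.mem_range.1 hk)]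

/-! ### bounds -/

theorem ruCo_mulVec_abs {M : RuMat} {m : ℤ} (hM : ∀ p q, |(M p q).re| ≤ m ∧ |(M p q).im| ≤ m)
    {x : RuVec} {c : ℤ} (hx : ∀ p, |(x p).re| ≤ c ∧ |(x p).im| ≤ c) (k : ℕ) :
    |ruCo (M *ᵥ x) k| ≤ 56 * (m * c) := by
  have hc : 0 ≤ c := le_trans (abs_nonneg _) (hx (0, 0)).1
  have key : ∀ p q, |(M p q * x q).re| ≤ 2 * (m * c) ∧ |(M p q * x q).im| ≤ 2 * (m * c) := by
    intro p q
    obtain ⟨h1, h2⟩ := hM p q
    obtain ⟨h3, h4⟩ := hx q
    simp only [Zsqrtd.re_mul, Zsqrtd.im_mul]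
    have a1 : |(M p q).re * (x q).re| ≤ m * c := by
      rw [abs_mul]; exact mul_le_mul h1 h3 (abs_nonneg _) (le_trans (abs_nonneg _) h1)
    have a2 : |(M p q).im * (x q).im| ≤ m * c := by
      rw [abs_mul]; exact mul_le_mul h2 h4 (abs_nonneg _) (le_trans (abs_nonneg _) h1)
    have a3 : |(M p q).re * (x q).im| ≤ m * c := by
      rw [abs_mul]; exact mul_le_mul h1 h4 (abs_nonneg _) (le_trans (abs_nonneg _) h1)
    have a4 : |(M p q).im * (x q).re| ≤ m * c := by
      rw [abs_mul]; exact mul_le_mul h2 h3 (abs_nonneg _) (le_trans (abs_nonneg _) h1)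
    constructor
    · have := abs_add_le ((M p q).re * (x q).re) (-1 * (M p q).im * (x q).im)
      have e : |(-1 : ℤ) * (M p q).im * (x q).im| = |(M p q).im * (x q).im| := by
        rw [mul_assoc, abs_mul]; simp
      rw [e] at this
      linarith
    · have := abs_add_le ((M p q).re * (x q).im) ((M p q).im * (x q).re)
      linarith
  have hcard : (Finset.univ : Finset RuIdx).card = 28 := by decide
  unfold ruCo
  split_ifs
  · simp only [Matrix.mulVec, dotProduct]
    have : (∑ q, M (ruIdxN (k / 2)) q * x q).re = ∑ q, (M (ruIdxN (k / 2)) q * x q).re :=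
      map_sum rvlReHom (fun q => M (ruIdxN (k / 2)) q * x q) Finset.univ
    rw [this]
    calc |∑ q, (M (ruIdxN (k / 2)) q * x q).re|
        ≤ ∑ q, |(M (ruIdxN (k / 2)) q * x q).re| := Finset.abs_sum_le_sum_abs _ _
      _ ≤ ∑ _q : RuIdx, 2 * (m * c) := Finset.sum_le_sum fun q _ => (key _ q).1
      _ = 56 * (m * c) := by rw [Finset.sum_const, hcard]; simp; ring
  · simp only [Matrix.mulVec, dotProduct]
    have : (∑ q, M (ruIdxN (k / 2)) q * x q).im = ∑ q, (M (ruIdxN (k / 2)) q * x q).im := by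
      have := map_sum (⟨⟨Zsqrtd.im, rfl⟩, Zsqrtd.im_add⟩ : GaussianInt →+ ℤ)
        (fun q => M (ruIdxN (k / 2)) q * x q) Finset.univ
      exact this
    rw [this]
    calc |∑ q, (M (ruIdxN (k / 2)) q * x q).im|
        ≤ ∑ q, |(M (ruIdxN (k / 2)) q * x q).im| := Finset.abs_sum_le_sum_abs _ _
      _ ≤ ∑ _q : RuIdx, 2 * (m * c) := Finset.sum_le_sum fun q _ => (key _ q).2
      _ = 56 * (m * c) := by rw [Finset.sum_const, hcard]; simp; ring

theorem ruDec_abs (E : ℕ) (p : RuIdx) : |(ruDec E p).re| ≤ 8 ∧ |(ruDec E p).im| ≤ 8 :=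
  ⟨ruDig_abs _ _, ruDig_abs _ _⟩

/-- the line check: two matrices with entries of absolute value at most four agree on two packed
vectors as soon as the evaluations at the base `4096` agree -/
theorem ru_line_check (M N : RuMat) (hM : ∀ p q, |(M p q).re| ≤ 4 ∧ |(M p q).im| ≤ 4)
    (hN : ∀ p q, |(N p q).re| ≤ 4 ∧ |(N p q).im| ≤ 4)
    (G H : List ℤ) (hl : G.length = 56) (hG : ∀ k < 56, ruPhi 4096 (ruColR M k) = G.getD k 0)
    (hl' : H.length = 56) (hH : ∀ k < 56, ruPhi 4096 (ruColR N k) = H.getD k 0)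
    (E E' : ℕ) (h : ruDot E G = ruDot E' H) :
    M *ᵥ ruDec E = N *ᵥ ruDec E' := by
  apply ruPhi_inj (B := 4096)
  · intro k _
    have h1 := ruCo_mulVec_abs hM (ruDec_abs E) k
    have h2 := ruCo_mulVec_abs hN (ruDec_abs E') k
    have := abs_sub (ruCo (M *ᵥ ruDec E) k) (ruCo (N *ᵥ ruDec E') k)
    omega
  · rw [ruPhi_mulVec_dec 4096 M G hl hG E, ruPhi_mulVec_dec 4096 N H hl' hH E', h]

/-- bounded universal quantifier, kernel friendly -/
def ruAll : ℕ → (ℕ → Bool) → Bool
  | 0, _ => true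
  | n + 1, f => f n && ruAll n f

theorem ruAll_spec {n : ℕ} {f : ℕ → Bool} (h : ruAll n f = true) : ∀ j < n, f j = true := by
  induction n with
  | zero => intro j hj; omega
  | succ n ih =>
    simp only [ruAll, Bool.and_eq_true] at h
    intro j hj
    rcases Nat.lt_succ_iff_lt_or_eq.1 hj with h1 | rfl
    · exact ih h.2 j h1
    · exact h.1

end Cfsg.Agent.Lib.helper14
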