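import Mathlib
import Cfsg.Prelude.Def_Spor_Ru
import Cfsg.Agent.Lib.Helper29.RUGens1
import Cfsg.Agent.Lib.Helper29.RUGens2
import Cfsg.Agent.Lib.helper14.RuAutG1
import Cfsg.Agent.Lib.helper14.RuAutG2

/-!
# Project RU, piece GENS (direct route): the two generators of helper23's model are induced by
elements of `fourRu`

`ruAut_of_data` (matrices of `g1`, `g2`) + helper29's mask-level line checks `ru_gens_1`, `ru_gens_2`.
-/

set_option autoImplicit false
set_option maxRecDepth 100000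

namespace Cfsg.Agent.Lib.helper14

open Cfsg.Spor Cfsg.Agent.Lib.Helper29 Cfsg.Agent.Lib.helper23 Matrix

theorem ruG1_frame' : ∀ p q : RuIdx,
    rvlMk (ruMG1.getD (p.1.val * 4 + p.2.val) []) q = star (rugW rugF1 p q) := by
  decide +kernel

theorem ruG1_frame : ∀ p q : RuIdx, ruMatL ruMG1 p q = star (rugW rugF1 p q) :=
  fun p q => ruG1_frame' p q

theorem ruG2_frame' : ∀ p q : RuIdx,
    rvlMk (ruMG2.getD (p.1.val * 4 + p.2.val) []) q = star (rugW rugF2 p q) := by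
  decide +kernel

theorem ruG2_frame : ∀ p q : RuIdx, ruMatL ruMG2 p q = star (rugW rugF2 p q) :=
  fun p q => ruG2_frame' p q

theorem ru_mulVec_frame {M : RuMat} {W : RuIdx → RuVec} (h : ∀ p q, M p q = star (W p q))
    (x : RuVec) (p : RuIdx) : (M *ᵥ x) p = rvlHerm x (W p) := by
  simp only [Matrix.mulVec, dotProduct, rvlHerm]
  exact Finset.sum_congr rfl fun q _ => by rw [h p q, mul_comm]

/-- the element of `fourRu` with the frame of `g1` -/
theorem ruG1_elt : ∃ f : Equiv.Perm ruLattice, f ∈ fourRu ∧ ∀ (x : ruLattice) (p : RuIdx),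
    4 * ((f x : ruLattice) : RuVec) p = rvlHerm (x : RuVec) (rugW rugF1 p) := by
  obtain ⟨f, hf, hM⟩ := ruG1_exists
  refine ⟨f, hf, fun x p => ?_⟩
  rw [← ru_mulVec_frame ruG1_frame, ← hM x]; rfl

/-- the element of `fourRu` with the frame of `g2` -/
theorem ruG2_elt : ∃ f : Equiv.Perm ruLattice, f ∈ fourRu ∧ ∀ (x : ruLattice) (p : RuIdx),
    4 * ((f x : ruLattice) : RuVec) p = rvlHerm (x : RuVec) (rugW rugF2 p) := by
  obtain ⟨f, hf, hM⟩ := ruG2_exists
  refine ⟨f, hf, fun x p => ?_⟩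
  rw [← ru_mulVec_frame ruG2_frame, ← hM x]; rfl

/-- GENS for the first generator of `ruC` -/
theorem ru_gens_elt1 : ∃ f : Equiv.Perm ruLattice, f ∈ fourRu ∧ ∀ j < 4060,
    ∀ h : ruLineRep j ∈ ruLattice, ∃ k : ℕ,
      ((f ⟨ruLineRep j, h⟩ : ruLattice) : RuVec) = gI ^ k • ruLineRep (rulk ruT1x0 j) := by
  obtain ⟨f, hf, hF⟩ := ruG1_elt
  refine ⟨f, hf, fun j hj h => ?_⟩
  obtain ⟨k, hk⟩ := ru_gens_1 hj
  refine ⟨k, ?_⟩
  funext p
  have := (hF ⟨ruLineRep j, h⟩ p).trans (hk p)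
  exact mul_left_cancel₀ (by norm_num : (4 : GaussianInt) ≠ 0) this

/-- GENS for the second generator of `ruC` -/
theorem ru_gens_elt2 : ∃ f : Equiv.Perm ruLattice, f ∈ fourRu ∧ ∀ j < 4060,
    ∀ h : ruLineRep j ∈ ruLattice, ∃ k : ℕ,
      ((f ⟨ruLineRep j, h⟩ : ruLattice) : RuVec) = gI ^ k • ruLineRep (rulk ruT1x1 j) := by
  obtain ⟨f, hf, hF⟩ := ruG2_elt
  refine ⟨f, hf, fun j hj h => ?_⟩
  obtain ⟨k, hk⟩ := ru_gens_2 hj
  refine ⟨k, ?_⟩
  funext p
  have := (hF ⟨ruLineRep j, h⟩ p).trans (hk p)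
  exact mul_left_cancel₀ (by norm_num : (4 : GaussianInt) ≠ 0) this

end Cfsg.Agent.Lib.helper14
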