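import Mathlib
import Cfsg.Agent.Lib.Helper5.S1906.Defs
import Cfsg.Agent.Lib.helper14.InvD

set_option autoImplicit false

/-!
# Project S1906, row L2 (`diag_involution`), written by helper14.

An involution `g ≠ 1` of determinant `1` in `GL₃(F)`, `2 ≠ 0`, is conjugate to `diag(-1,-1,1)`: basis of eigenvectors
(`InvD.eigen_basis`), determinant count (`InvD.det_of_eigen`).
-/

namespace Cfsg.Agent.Lib.Helper5.S1906

open Matrix Module

/-- the reindexing `Fin 3 ≃ Fin 1 ⊕ Fin 2` putting the `-1`-eigenvectors first -/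
def s1906l2_e : Fin 3 ≃ Fin 1 ⊕ Fin 2 where
  toFun := ![Sum.inr 0, Sum.inr 1, Sum.inl 0]
  invFun := Sum.elim (fun _ => 2) (fun j => j.castSucc)
  left_inv := by decide
  right_inv := by decide

theorem s1906l2_of_basis {F : Type*} [Field F] (g : Matrix (Fin 3) (Fin 3) F) (d : Fin 3 → F)
    (B : Basis (Fin 3) F (Fin 3 → F)) (hB : ∀ i, g *ᵥ B i = d i • B i) :
    ∃ T : GL (Fin 3) F, (T : Matrix (Fin 3) (Fin 3) F) * g *
      ((T⁻¹ : GL (Fin 3) F) : Matrix (Fin 3) (Fin 3) F) = Matrix.diagonal d := by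
  set P : Matrix (Fin 3) (Fin 3) F := (Pi.basisFun F (Fin 3)).toMatrix B with hP
  set P' : Matrix (Fin 3) (Fin 3) F := B.toMatrix (Pi.basisFun F (Fin 3)) with hP'
  have h1 : P * P' = 1 := Basis.toMatrix_mul_toMatrix_flip _ _
  have h2 : P' * P = 1 := Basis.toMatrix_mul_toMatrix_flip _ _
  have hPij : ∀ i j, P i j = B j i := by
    intro i j
    rw [hP, Basis.toMatrix_apply, Pi.basisFun_repr]
  have h3 : g * P = P * Matrix.diagonal d := by
    ext i j
    rw [Matrix.mul_diagonal, hPij]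
    have := congrFun (hB j) i
    rw [Pi.smul_apply, smul_eq_mul] at this
    rw [mul_comm, ← this]
    simp only [Matrix.mul_apply, Matrix.mulVec, dotProduct, hPij]
  refine ⟨⟨P', P, h2, h1⟩, ?_⟩
  show P' * g * P = _
  rw [Matrix.mul_assoc, h3, ← Matrix.mul_assoc, h2, Matrix.one_mul]

/-- L2 -/
theorem diag_involution {F : Type*} [Field F] (h2 : (2 : F) ≠ 0) (g : Matrix (Fin 3) (Fin 3) F)
    (hg : g * g = 1) (hg1 : g ≠ 1) (hdet : g.det = 1) :
    ∃ T : GL (Fin 3) F, (T : Matrix (Fin 3) (Fin 3) F) * g *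
      ((T⁻¹ : GL (Fin 3) F) : Matrix (Fin 3) (Fin 3) F) = Matrix.diagonal ![-1, -1, 1] := by
  obtain ⟨a, b, B, hB1, hB2⟩ := Cfsg.Agent.Lib.helper14.InvD.eigen_basis g 1 one_ne_zero h2
    (by rw [hg, mul_one, one_smul])
  obtain ⟨hd, hab⟩ := Cfsg.Agent.Lib.helper14.InvD.det_of_eigen g 1 a b B hB1 hB2
  rw [hdet, one_pow, one_mul] at hd
  have hneg : (-1 : F) ≠ 1 := by
    intro h
    apply h2
    linear_combination -h
  have hb : b = 2 := by
    have hb3 : b ≤ 3 := by omega
    interval_cases b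
    · exfalso
      apply hg1
      have h0 : Matrix.toLin' g = LinearMap.id := by
        apply B.ext
        intro i
        rcases i with i | j
        · rw [Matrix.toLin'_apply, hB1 i, one_smul, LinearMap.id_apply]
        · exact j.elim0
      have := congrArg LinearMap.toMatrix' h0
      rwa [LinearMap.toMatrix'_toLin', LinearMap.toMatrix'_id] at this
    · exfalso
      rw [pow_one] at hd
      exact hneg hd.symm
    · rfl
    · exfalso
      have h3 : ((-1 : F)) ^ 3 = -1 := by ring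
      rw [h3] at hd
      exact hneg hd.symm
  subst hb
  have ha : a = 1 := by omega
  subst ha
  apply s1906l2_of_basis g ![-1, -1, 1] (B.reindex s1906l2_e.symm)
  intro i
  rw [Basis.reindex_apply, Equiv.symm_symm]
  fin_cases i
  · show g *ᵥ B (Sum.inr 0) = (-1 : F) • B (Sum.inr 0)
    exact hB2 0
  · show g *ᵥ B (Sum.inr 1) = (-1 : F) • B (Sum.inr 1)
    exact hB2 1
  · show g *ᵥ B (Sum.inl 0) = (1 : F) • B (Sum.inl 0)
    exact hB1 0

end Cfsg.Agent.Lib.Helper5.S1906
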