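import Mathlib
import Cfsg.Agent.Lib.Helper5.S1906.Defs

set_option autoImplicit false

/-!
# Project S1906, row L3 (`block_hom`), written by helper14.

Matrices commuting with `diag(-1,-1,1)` (`2 ≠ 0`) are block diagonal `2 + 1`; the two blocks give a homomorphism to
`GL₂(F) × Fˣ`.
-/

namespace Cfsg.Agent.Lib.Helper5.S1906

open Matrix

/-- the upper left `2 × 2` block -/
def s1906l3_blk {F : Type*} [Field F] (M : Matrix (Fin 3) (Fin 3) F) : Matrix (Fin 2) (Fin 2) F :=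
  M.submatrix Fin.castSucc Fin.castSucc

theorem s1906l3_zero {F : Type*} [Field F] (h2 : (2 : F) ≠ 0) (M : Matrix (Fin 3) (Fin 3) F)
    (hD : M * Matrix.diagonal ![-1, -1, 1] = Matrix.diagonal ![-1, -1, 1] * M) :
    (∀ i : Fin 2, M (Fin.castSucc i) 2 = 0) ∧ (∀ i : Fin 2, M 2 (Fin.castSucc i) = 0) := by
  have h : ∀ i j, M i j * (![-1, -1, 1] : Fin 3 → F) j = (![-1, -1, 1] : Fin 3 → F) i * M i j := by
    intro i j
    have := congrFun (congrFun hD i) j
    rwa [Matrix.mul_diagonal, Matrix.diagonal_mul] at this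
  have key1 : ∀ a : F, a * 1 = -1 * a → a = 0 := by
    intro a ha
    have : (2 : F) * a = 0 := by linear_combination ha
    exact (mul_eq_zero.1 this).resolve_left h2
  have key2 : ∀ a : F, a * -1 = 1 * a → a = 0 := by
    intro a ha
    have : (2 : F) * a = 0 := by linear_combination -ha
    exact (mul_eq_zero.1 this).resolve_left h2
  constructor
  · intro i
    fin_cases i
    · exact key1 _ (h 0 2)
    · exact key1 _ (h 1 2)
  · intro i
    fin_cases i
    · exact key2 _ (h 2 0)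
    · exact key2 _ (h 2 1)

theorem s1906l3_blk_mul {F : Type*} [Field F] (M N : Matrix (Fin 3) (Fin 3) F)
    (hM : ∀ i : Fin 2, M (Fin.castSucc i) 2 = 0) :
    s1906l3_blk (M * N) = s1906l3_blk M * s1906l3_blk N := by
  ext i j
  simp only [s1906l3_blk, Matrix.submatrix_apply, Matrix.mul_apply, Fin.sum_univ_three,
    Fin.sum_univ_two, hM i, zero_mul, add_zero]
  rfl

theorem s1906l3_corner_mul {F : Type*} [Field F] (M N : Matrix (Fin 3) (Fin 3) F)
    (hM : ∀ i : Fin 2, M 2 (Fin.castSucc i) = 0) :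
    (M * N) 2 2 = M 2 2 * N 2 2 := by
  have h0 : M 2 0 = 0 := hM 0
  have h1 : M 2 1 = 0 := hM 1
  simp only [Matrix.mul_apply, Fin.sum_univ_three, h0, h1, zero_mul, zero_add]

theorem s1906l3_ext {F : Type*} [Field F] (M N : Matrix (Fin 3) (Fin 3) F)
    (hM1 : ∀ i : Fin 2, M (Fin.castSucc i) 2 = 0) (hM2 : ∀ i : Fin 2, M 2 (Fin.castSucc i) = 0)
    (hN1 : ∀ i : Fin 2, N (Fin.castSucc i) 2 = 0) (hN2 : ∀ i : Fin 2, N 2 (Fin.castSucc i) = 0)
    (hb : s1906l3_blk M = s1906l3_blk N) (hc : M 2 2 = N 2 2) : M = N := by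
  ext i j
  refine Fin.lastCases ?_ (fun i' => ?_) i
  · refine Fin.lastCases ?_ (fun j' => ?_) j
    · exact hc
    · show M 2 (Fin.castSucc j') = N 2 (Fin.castSucc j')
      rw [hM2, hN2]
  · refine Fin.lastCases ?_ (fun j' => ?_) j
    · show M (Fin.castSucc i') 2 = N (Fin.castSucc i') 2
      rw [hM1, hN1]
    · exact congrFun (congrFun hb i') j'

/-- L3 -/
theorem block_hom {H : Type*} [Group H] {F : Type*} [Field F] (h2 : (2 : F) ≠ 0)
    (f : H →* GL (Fin 3) F) (hf : Function.Injective f)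
    (hD : ∀ x : H, (f x : Matrix (Fin 3) (Fin 3) F) * Matrix.diagonal ![-1, -1, 1] =
      Matrix.diagonal ![-1, -1, 1] * (f x : Matrix (Fin 3) (Fin 3) F)) :
    ∃ φ : H →* GL (Fin 2) F × Fˣ, Function.Injective φ ∧ ∀ x : H,
      (∀ i j : Fin 2, ((φ x).1 : Matrix (Fin 2) (Fin 2) F) i j =
        (f x : Matrix (Fin 3) (Fin 3) F) (Fin.castSucc i) (Fin.castSucc j)) ∧
      ((φ x).2 : F) = (f x : Matrix (Fin 3) (Fin 3) F) 2 2 := by
  have hz : ∀ x : H, (∀ i : Fin 2, (f x : Matrix (Fin 3) (Fin 3) F) (Fin.castSucc i) 2 = 0) ∧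
      (∀ i : Fin 2, (f x : Matrix (Fin 3) (Fin 3) F) 2 (Fin.castSucc i) = 0) :=
    fun x => s1906l3_zero h2 _ (hD x)
  let ψ : H →* Matrix (Fin 2) (Fin 2) F × F :=
    { toFun := fun x => (s1906l3_blk (f x : Matrix (Fin 3) (Fin 3) F), (f x : Matrix (Fin 3) (Fin 3) F) 2 2)
      map_one' := by
        rw [map_one]
        refine Prod.ext ?_ ?_
        · ext i j
          simp [s1906l3_blk, Matrix.one_apply]
        · simp
      map_mul' := by
        intro x y
        rw [map_mul, Units.val_mul]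
        refine Prod.ext ?_ ?_
        · exact s1906l3_blk_mul _ _ (hz x).1
        · exact s1906l3_corner_mul _ _ (hz x).2 }
  have hψ : ∀ x, ψ x = (s1906l3_blk (f x : Matrix (Fin 3) (Fin 3) F), (f x : Matrix (Fin 3) (Fin 3) F) 2 2) :=
    fun x => rfl
  refine ⟨(MulEquiv.prodUnits.toMonoidHom).comp ψ.toHomUnits, ?_, ?_⟩
  · intro x y hxy
    apply hf
    apply Units.ext
    have h1 : (ψ x).1 = (ψ y).1 := congrArg (fun u : GL (Fin 2) F × Fˣ => ((u.1 : GL (Fin 2) F) : Matrix (Fin 2) (Fin 2) F)) hxy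
    have h2' : (ψ x).2 = (ψ y).2 := congrArg (fun u : GL (Fin 2) F × Fˣ => ((u.2 : Fˣ) : F)) hxy
    rw [hψ, hψ] at h1 h2'
    exact s1906l3_ext _ _ (hz x).1 (hz x).2 (hz y).1 (hz y).2 h1 h2'
  · intro x
    exact ⟨fun i j => rfl, rfl⟩

end Cfsg.Agent.Lib.Helper5.S1906
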