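import Mathlib
import Cfsg.Agent.Lib.Helper5.S1906.Defs
import Cfsg.Agent.Lib.helper14.S1906L2
import Cfsg.Agent.Lib.helper14.S1906L3

set_option autoImplicit false

/-!
# Project S1906, row L4 (`block_embedding`), written by helper14 (from L2 `diag_involution` and L3 `block_hom`).
-/

namespace Cfsg.Agent.Lib.Helper5.S1906

open Matrix

/-- L4 -/
theorem block_embedding {H : Type*} [Group H] {F : Type*} [Field F] (h2 : (2 : F) ≠ 0)
    (f : H →* GL (Fin 3) F) (hf : Function.Injective f) (c : H) (hcc : ∀ x : H, x * c = c * x)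
    (hc2 : c * c = 1) (hc1 : c ≠ 1) (hcD : c ∈ commutator H) :
    ∃ φ : H →* GL (Fin 2) F × Fˣ, Function.Injective φ ∧ φ c = (-1, 1) := by
  -- the involution `g = f c`
  have hg : (f c : Matrix (Fin 3) (Fin 3) F) * (f c : Matrix (Fin 3) (Fin 3) F) = 1 := by
    rw [← Units.val_mul, ← map_mul, hc2, map_one, Units.val_one]
  have hg1 : (f c : Matrix (Fin 3) (Fin 3) F) ≠ 1 := by
    intro h
    apply hc1
    apply hf
    rw [map_one]
    exact Units.ext h
  have hdet : (f c : Matrix (Fin 3) (Fin 3) F).det = 1 := by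
    have hker : c ∈ ((Matrix.GeneralLinearGroup.det : GL (Fin 3) F →* Fˣ).comp f).ker :=
      Abelianization.commutator_subset_ker _ hcD
    rw [MonoidHom.mem_ker, MonoidHom.comp_apply] at hker
    have := congrArg Units.val hker
    rwa [Matrix.GeneralLinearGroup.val_det_apply, Units.val_one] at this
  obtain ⟨T, hT⟩ := diag_involution h2 _ hg hg1 hdet
  -- conjugate `f` by `T`
  set f' : H →* GL (Fin 3) F := (MulAut.conj T).toMonoidHom.comp f with hf'
  have hf'x : ∀ x, f' x = T * f x * T⁻¹ := fun x => rfl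
  have hf'inj : Function.Injective f' := by
    intro x y hxy
    apply hf
    rw [hf'x, hf'x] at hxy
    exact mul_left_cancel (mul_right_cancel hxy)
  have hf'c : (f' c : Matrix (Fin 3) (Fin 3) F) = Matrix.diagonal ![-1, -1, 1] := by
    rw [hf'x, Units.val_mul, Units.val_mul]
    exact hT
  have hD : ∀ x : H, (f' x : Matrix (Fin 3) (Fin 3) F) * Matrix.diagonal ![-1, -1, 1] =
      Matrix.diagonal ![-1, -1, 1] * (f' x : Matrix (Fin 3) (Fin 3) F) := by
    intro x
    rw [← hf'c, ← Units.val_mul, ← Units.val_mul, ← map_mul, ← map_mul, hcc x]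
  obtain ⟨φ, hφinj, hφ⟩ := block_hom h2 f' hf'inj hD
  refine ⟨φ, hφinj, ?_⟩
  obtain ⟨h1, h2'⟩ := hφ c
  refine Prod.ext ?_ ?_
  · apply Units.ext
    show ((φ c).1 : Matrix (Fin 2) (Fin 2) F) = ((-1 : GL (Fin 2) F) : Matrix (Fin 2) (Fin 2) F)
    rw [Units.val_neg, Units.val_one]
    ext i j
    rw [h1, hf'c]
    fin_cases i <;> fin_cases j <;> simp
  · apply Units.ext
    show ((φ c).2 : F) = ((1 : Fˣ) : F)
    rw [h2', hf'c]
    simp

end Cfsg.Agent.Lib.Helper5.S1906
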