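import Mathlib
import Cfsg.Agent.Lib.helper14.SGUDefs

set_option autoImplicit false
set_option linter.unusedVariables false
set_option linter.unusedSectionVars false

namespace Cfsg.Agent.Lib.helper14.SGU

open Polynomial Module Cfsg.Agent.Lib.Lead.SPU Cfsg.Agent.Lib.Helper19.SPD

variable {F : Type*} [Field F] {d : ℕ}

/-- PAR -/
theorem par (c0 : F) (hnsq : ∀ x : F, x * x ≠ c0) (J : (Fin d ⊕ Fin d → F) →ₗ[F] (Fin d ⊕ Fin d → F))
    (hJ2 : ∀ v, J (J v) = c0 • v) (U : Submodule F (Fin d ⊕ Fin d → F)) (hU : ∀ u ∈ U, J u ∈ U) :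
    Even (finrank F U) := by
  by_contra hne
  rw [Nat.not_even_iff_odd] at hne
  obtain ⟨m, hm⟩ := hne
  set JU : U →ₗ[F] U := J.restrict hU with hJU
  have hsq : JU * JU = c0 • (1 : U →ₗ[F] U) := by
    apply LinearMap.ext
    intro u
    apply Subtype.ext
    simp only [Module.End.mul_apply, LinearMap.smul_apply, Module.End.one_apply, hJU,
      LinearMap.coe_restrict_apply, Submodule.coe_smul]
    exact hJ2 u
  have hdet : LinearMap.det JU * LinearMap.det JU = c0 ^ (2 * m + 1) := by
    rw [← map_mul, hsq, LinearMap.det_smul, map_one, mul_one, hm]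
  have hc0 : c0 ≠ 0 := by
    intro h
    exact hnsq 0 (by rw [h, mul_zero])
  apply hnsq (LinearMap.det JU / c0 ^ m)
  field_simp
  rw [← pow_two] at hdet
  rw [hdet]
  ring

end Cfsg.Agent.Lib.helper14.SGU
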