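import Mathlib
import Cfsg.Agent.Lib.helper14.SGUDefs
import Cfsg.Agent.Lib.Helper22.SPDSEMI
import Cfsg.Agent.Lib.Lead.SPDFIXND
import Cfsg.Agent.Lib.Helper24.SPDADJ
import Cfsg.Agent.Lib.Helper20.SPDK3
import Cfsg.Agent.Lib.Helper11.SPDKERFAC
import Cfsg.Agent.Lib.Helper16.PSemi4
import Cfsg.Agent.Lib.helper14.SGUPAR
import Cfsg.Agent.Lib.helper2.SGUNSD

set_option autoImplicit false
set_option linter.unusedVariables false
set_option linter.unusedSectionVars false

namespace Cfsg.Agent.Lib.helper14.SGU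

open Polynomial Module Cfsg.Agent.Lib.Lead.SPU Cfsg.Agent.Lib.Helper19.SPD

variable {F : Type*} [Field F] {d : ℕ}

/-- `J` commutes with the powers of `y`. -/
theorem sgudera_comm_pow (y J : (Fin d ⊕ Fin d → F) →ₗ[F] (Fin d ⊕ Fin d → F))
    (hJy : ∀ v, J (y v) = y (J v)) (n : ℕ) (v : Fin d ⊕ Fin d → F) : J ((y ^ n) v) = (y ^ n) (J v) := by
  induction n generalizing v with
  | zero => simp
  | succ n ih => rw [pow_succ, Module.End.mul_apply, Module.End.mul_apply, ih, hJy]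

/-- `J` commutes with the polynomials in `y`. -/
theorem sgudera_comm_aeval (y J : (Fin d ⊕ Fin d → F) →ₗ[F] (Fin d ⊕ Fin d → F))
    (hJy : ∀ v, J (y v) = y (J v)) (g : F[X]) (v : Fin d ⊕ Fin d → F) :
    J (aeval y g v) = aeval y g (J v) := by
  rw [Polynomial.aeval_eq_sum_range, LinearMap.sum_apply, LinearMap.sum_apply, map_sum]
  refine Finset.sum_congr rfl (fun n _ => ?_)
  rw [LinearMap.smul_apply, LinearMap.smul_apply, map_smul, sgudera_comm_pow y J hJy]

theorem der_A_core [Fintype F] {p q : ℕ} [Fact p.Prime] [CharP F p] (hq : Fintype.card F = q) (hodd : Odd q)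
    (r : ℕ) [Fact r.Prime] (hr2 : r ≠ 2) (hrp : r ≠ p) (i : ℕ) (hi : i = orderOf (q : ZMod r)) (hio : Odd i)
    (y : (Fin d ⊕ Fin d → F) →ₗ[F] (Fin d ⊕ Fin d → F)) (hiso : Isom y) (hy : y ^ r = 1)
    (hfx : finrank F (Fx y) + 2 * i = 2 * d)
    (c0 : F) (hnsq : ∀ x : F, x * x ≠ c0) (J : (Fin d ⊕ Fin d → F) →ₗ[F] (Fin d ⊕ Fin d → F))
    (hJ2 : ∀ v, J (J v) = c0 • v) (hJy : ∀ v, J (y v) = y (J v)) : False := by
  classical
  have hrprime : r.Prime := Fact.out
  have hpprime : p.Prime := Fact.out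
  have hr0 : 0 < r := hrprime.pos
  have hrodd : Odd r := hrprime.odd_of_ne_two hr2
  have hrF : (r : F) ≠ 0 := by
    intro h
    rw [CharP.cast_eq_zero_iff F p] at h
    exact hrp ((Nat.prime_dvd_prime_iff_eq hpprime hrprime).1 h).symm
  have h2F : (2 : F) ≠ 0 := by
    have hoddF : Odd (Fintype.card F) := by rw [hq]; exact hodd
    exact Cfsg.Agent.S0292.two_ne_zero_of_odd rfl hoddF
  have hi0 : 0 < i := hio.pos
  -- `i ∣ r - 1`
  have hqr : (q : ZMod r) ≠ 0 := by
    intro h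
    rw [hi, orderOf_eq_zero_iff.2 ?_] at hi0
    · exact lt_irrefl _ hi0
    · rw [h]
      intro hfin
      obtain ⟨n, hn, hn1⟩ := hfin.exists_pow_eq_one
      rw [zero_pow hn.ne'] at hn1
      exact zero_ne_one hn1
  have hidvd : i ∣ r - 1 := by
    rw [hi]
    exact ZMod.orderOf_dvd_card_sub_one hqr
  obtain ⟨t, ht⟩ := hidvd
  obtain ⟨κ, hκ, hκd, f, -, hirr, hdeg, -, -, hprod, -⟩ :=
    Cfsg.Agent.Lib.Helper16.PSemi.cyclo_data hq r i t hrprime hrp hi (by rw [ht, mul_comm])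
  -- dimensions
  have hcompl := semi_compl r hrF y hy
  have hdimV : finrank F (Fin d ⊕ Fin d → F) = 2 * d := by
    rw [Module.finrank_fintype_fun_eq_card, Fintype.card_sum, Fintype.card_fin]
    ring
  have hsum : finrank F (Fx y) + finrank F (Mv y) = 2 * d := by
    rw [← hdimV]
    exact Submodule.finrank_add_eq_of_isCompl hcompl
  have hdimW : finrank F (Mv y) = 2 * i := by omega
  have hndtop : ND (⊤ : Submodule F (Fin d ⊕ Fin d → F)) := by
    intro u _ hu
    by_contra hne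
    obtain ⟨x, hx⟩ := Cfsg.Agent.Lib.helper6.sympForm_nondeg d u hne
    exact hx (hu x Submodule.mem_top)
  have hInvtop : Inv y (⊤ : Submodule F (Fin d ⊕ Fin d → F)) := fun v _ => Submodule.mem_top
  obtain ⟨-, hndW, -, -, hInvW, hffW⟩ := fix_nd r hrF y hiso hy ⊤ hInvtop hndtop
  rw [top_inf_eq] at hndW hInvW hffW
  have hJW : ∀ w ∈ Mv y, J w ∈ Mv y := by
    intro w hw
    obtain ⟨u, rfl⟩ := hw
    refine ⟨J u, ?_⟩
    simp only [LinearMap.sub_apply, Module.End.one_apply, map_sub, hJy]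
  have hWne : Mv y ≠ ⊥ := by
    intro h
    rw [h, finrank_bot] at hdimW
    omega
  obtain ⟨k, v, hvW, hv0, hvk⟩ := ker_fac r y hy f hprod (Mv y) hInvW hffW hWne
  -- the primary component
  set Wk : Submodule F (Fin d ⊕ Fin d → F) := Mv y ⊓ LinearMap.ker (aeval y (f k)) with hWk
  have hvWk : v ∈ Wk := Submodule.mem_inf.2 ⟨hvW, LinearMap.mem_ker.2 hvk⟩
  have hInvWk : Inv y Wk := by
    intro w hw
    have hw' := Submodule.mem_inf.1 hw
    refine Submodule.mem_inf.2 ⟨hInvW w hw'.1, LinearMap.mem_ker.2 ?_⟩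
    have h1 : aeval y (f k) w = 0 := LinearMap.mem_ker.1 hw'.2
    have h2 := sgudera_comm_aeval y y (fun _ => rfl) (f k) w
    rw [← h2, h1, map_zero]
  have hffWk : FF y Wk := fun w hw => hffW w (Submodule.mem_inf.1 hw).1
  have hJWk : ∀ w ∈ Wk, J w ∈ Wk := by
    intro w hw
    have hw' := Submodule.mem_inf.1 hw
    refine Submodule.mem_inf.2 ⟨hJW w hw'.1, LinearMap.mem_ker.2 ?_⟩
    have h1 : aeval y (f k) w = 0 := LinearMap.mem_ker.1 hw'.2
    rw [← sgudera_comm_aeval y J hJy, h1, map_zero]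
  have hk3 : i ∣ finrank F Wk := by
    rw [hi]
    exact k3_dvd hq r y hy Wk hInvWk hffWk
  have hpar : Even (finrank F Wk) := par c0 hnsq J hJ2 Wk hJWk
  have hle : finrank F Wk ≤ 2 * i := by
    rw [← hdimW]
    exact Submodule.finrank_mono inf_le_left
  have hpos : 0 < finrank F Wk := by
    rw [Module.finrank_pos_iff_exists_ne_zero]
    exact ⟨⟨v, hvWk⟩, fun h => hv0 (congrArg Subtype.val h)⟩
  have hdimWk : finrank F Wk = 2 * i := by
    obtain ⟨a, ha⟩ := hk3
    obtain ⟨b, hb⟩ := hpar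
    obtain ⟨c, hc⟩ := hio
    have ha1 : a ≤ 2 := by
      by_contra h
      push Not at h
      have : i * 3 ≤ i * a := Nat.mul_le_mul_left i h
      omega
    have ha0 : a ≠ 0 := by
      intro h
      rw [h, mul_zero] at ha
      omega
    have ha2 : a ≠ 1 := by
      intro h
      rw [h, mul_one] at ha
      omega
    have : a = 2 := by omega
    rw [ha, this]
    ring
  have hWkW : Wk = Mv y := by
    apply Submodule.eq_of_le_of_finrank_eq inf_le_left
    rw [hdimWk, hdimW]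
  have hkill : ∀ w ∈ Mv y, aeval y (f k) w = 0 := by
    intro w hw
    rw [← hWkW] at hw
    exact LinearMap.mem_ker.1 (Submodule.mem_inf.1 hw).2
  -- the adjoint kills `W` too
  have hInvW' : Inv (y ^ (r - 1)) (Mv y) := fun w hw => spdkerfac_pow_mem y (Mv y) hInvW (r - 1) w hw
  have hkill' : ∀ w ∈ Mv y, aeval (y ^ (r - 1)) (f k) w = 0 := by
    intro w hw
    have hmem : aeval (y ^ (r - 1)) (f k) w ∈ Mv y := spdkerfac_aeval_mem (y ^ (r - 1)) (Mv y) hInvW' (f k) w hw
    apply hndW _ hmem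
    intro u hu
    rw [Cfsg.Agent.Lib.helper6.sympForm_swap, ← adj_aeval r hr0 y hiso hy (f k) u w, hkill u hu]
    rw [Cfsg.Agent.Lib.helper6.sympForm_zero_left, neg_zero]
  have hv := nsd h2F r hrodd y hy (f k) (hirr k) (by rw [hdeg k]; exact hio) v hvk (hkill' v hvW)
    (fun h => hffW v hvW h)
  exact hv0 hv

end Cfsg.Agent.Lib.helper14.SGU
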