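import Mathlib
import Cfsg.Agent.Lib.helper14.SGUDefs
import Cfsg.Agent.Lib.Helper11.SPDSELFDUAL

set_option autoImplicit false
set_option linter.unusedVariables false
set_option linter.unusedSectionVars false

namespace Cfsg.Agent.Lib.helper14.SGU

open Polynomial Module Cfsg.Agent.Lib.Lead.SPU Cfsg.Agent.Lib.Helper19.SPD

variable {F : Type*} [Field F] {d : ℕ}

/-- FROB (the computation is the one of helper11's `selfdual_even`). -/
theorem frob_adj [Fintype F] {p q : ℕ} [Fact p.Prime] [CharP F p] (hq : Fintype.card F = q) (r : ℕ) [Fact r.Prime] (hrp : r ≠ p)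
    (i : ℕ) (hi : i = orderOf (q : ZMod r)) (hie : Even i)
    (y : (Fin d ⊕ Fin d → F) →ₗ[F] (Fin d ⊕ Fin d → F)) (hy : y ^ r = 1) (h : F[X]) :
    aeval (y ^ (r - 1)) h = (aeval y h) ^ (q ^ (i / 2)) := by
  have hr : r.Prime := Fact.out
  have hp : p.Prime := Fact.out
  obtain ⟨n, _, hn⟩ := FiniteField.card F p
  have hqn : q = p ^ (n : ℕ) := by rw [← hq, hn]
  have hq0 : (q : ZMod r) ≠ 0 := by
    intro h0
    rw [ZMod.natCast_eq_zero_iff] at h0
    rw [hqn] at h0
    have := hr.dvd_of_dvd_pow h0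
    exact hrp ((Nat.prime_dvd_prime_iff_eq hr hp).mp this)
  have hi0 : 0 < i := by
    rw [hi]
    apply orderOf_pos_iff.mpr
    rw [isOfFinOrder_iff_pow_eq_one]
    exact ⟨r - 1, by have := hr.two_le; omega, ZMod.pow_card_sub_one_eq_one hq0⟩
  have hhalf : (q : ZMod r) ^ (i / 2) = -1 := spdselfdual_half_pow r _ i hi hi0 hie
  set N : ℕ := q ^ (i / 2) with hN
  have hNcast : ((N + 1 : ℕ) : ZMod r) = 0 := by
    rw [hN]; push_cast; rw [hhalf]; ring
  rw [ZMod.natCast_eq_zero_iff] at hNcast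
  obtain ⟨m, hm⟩ := hNcast
  have hmpos : 0 < m := by
    rcases Nat.eq_zero_or_pos m with h | h
    · rw [h] at hm; omega
    · exact h
  have hr2 := hr.two_le
  have hNeq : N = r * (m - 1) + (r - 1) := by
    obtain ⟨m', rfl⟩ : ∃ m', m = m' + 1 := ⟨m - 1, by omega⟩
    have : r * (m' + 1) = r * m' + r := by ring
    simp only [Nat.add_sub_cancel]
    omega
  have hyN : y ^ N = y ^ (r - 1) := by
    rw [hNeq, pow_add, pow_mul, hy, one_pow, one_mul]
  rw [← hyN, ← Polynomial.expand_aeval, hN, ← hq, spdselfdual_expand_card_pow, map_pow]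

end Cfsg.Agent.Lib.helper14.SGU
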