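import Mathlib
import Cfsg.Agent.Lib.helper14.SGUDefs

set_option autoImplicit false
set_option linter.unusedVariables false
set_option linter.unusedSectionVars false

namespace Cfsg.Agent.Lib.helper14.SGU

open Polynomial Module Cfsg.Agent.Lib.Lead.SPU Cfsg.Agent.Lib.Helper19.SPD

variable {F : Type*} [Field F] {d : ℕ}

/-- POWC0 -/
theorem pow_c0 [Fintype F] {q : ℕ} (hq : Fintype.card F = q) (hodd : Odd q) (c0 : F) (hc : c0 ≠ 0) (i : ℕ) (h4 : 4 ∣ i) :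
    ∃ M : ℕ, q ^ (i / 2) = 2 * M + 1 ∧ c0 ^ M = 1 := by
  obtain ⟨k, rfl⟩ := h4
  have h1 : 4 * k / 2 = 2 * k := by omega
  rw [h1]
  obtain ⟨a, ha⟩ := hodd
  -- q^2 - 1 = (q - 1) (q + 1) = 2 a (2 a + 2) = (q - 1) * 2 (a + 1)
  have hq1 : q - 1 = 2 * a := by omega
  -- `q ^ 2 ^ k - 1` is divisible by `q ^ 2 - 1`
  have hdvd : (q ^ 2 - 1) ∣ (q ^ 2) ^ k - 1 := by
    simpa using Nat.sub_dvd_pow_sub_pow (q ^ 2) 1 k
  obtain ⟨t, ht⟩ := hdvd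
  have hq2 : q ^ 2 - 1 = (q - 1) * (2 * (a + 1)) := by
    rw [ha]
    have : (2 * a + 1) ^ 2 - 1 = (2 * a) * (2 * (a + 1)) := by
      have h : (2 * a + 1) ^ 2 = (2 * a) * (2 * (a + 1)) + 1 := by ring
      omega
    rw [this]
    congr 1
  have hpos : 1 ≤ (q ^ 2) ^ k := Nat.one_le_pow _ _ (by rw [ha]; positivity)
  refine ⟨(q - 1) * ((a + 1) * t), ?_, ?_⟩
  · rw [pow_mul]
    have : (q ^ 2) ^ k - 1 = 2 * ((q - 1) * ((a + 1) * t)) := by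
      rw [ht, hq2]
      ring
    omega
  · rw [pow_mul, ← hq, FiniteField.pow_card_sub_one_eq_one c0 hc, one_pow]

end Cfsg.Agent.Lib.helper14.SGU
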