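import Mathlib
import Cfsg.Agent.Lib.helper14.SGUDefs
import Cfsg.Agent.Lib.Helper22.SPDSEMI
import Cfsg.Agent.Lib.Lead.SPDFIXND
import Cfsg.Agent.Lib.Helper24.SPDADJ
import Cfsg.Agent.Lib.helper17.SPDARITH
import Cfsg.Agent.Lib.Helper25.SGUCYCGEN
import Cfsg.Agent.Lib.helper14.SGUFROB
import Cfsg.Agent.Lib.helper14.SGUPOWC0

set_option autoImplicit false
set_option linter.unusedVariables false
set_option linter.unusedSectionVars false

namespace Cfsg.Agent.Lib.helper14.SGU

open Polynomial Module Cfsg.Agent.Lib.Lead.SPU Cfsg.Agent.Lib.Helper19.SPD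

variable {F : Type*} [Field F] {d : ℕ}

/-- `J ^ n` on `W` agrees with `(h(y)) ^ n`. -/
theorem sguderb_pow_eq (W : Submodule F (Fin d ⊕ Fin d → F))
    (J A : (Fin d ⊕ Fin d → F) →ₗ[F] (Fin d ⊕ Fin d → F)) (hJW : ∀ w ∈ W, J w ∈ W)
    (hA : ∀ w ∈ W, J w = A w) (n : ℕ) : ∀ w ∈ W, (A ^ n) w = (J ^ n) w ∧ (J ^ n) w ∈ W := by
  induction n with
  | zero =>
    intro w hw
    simp [hw]
  | succ n ih =>
    intro w hw
    rw [pow_succ, pow_succ, Module.End.mul_apply, Module.End.mul_apply, ← hA w hw]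
    exact ih (J w) (hJW w hw)

theorem sguderb_pow_odd (c0 : F) (J : (Fin d ⊕ Fin d → F) →ₗ[F] (Fin d ⊕ Fin d → F))
    (hJ2 : ∀ v, J (J v) = c0 • v) (M : ℕ) (w : Fin d ⊕ Fin d → F) :
    (J ^ (2 * M + 1)) w = c0 ^ M • J w := by
  induction M generalizing w with
  | zero => simp
  | succ M ih =>
    have : 2 * (M + 1) + 1 = (2 * M + 1) + 2 := by ring
    rw [this, pow_add, Module.End.mul_apply, pow_two, Module.End.mul_apply, hJ2, map_smul, ih, smul_smul,
      pow_succ, mul_comm]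

theorem der_B_core [Fintype F] {p q : ℕ} [Fact p.Prime] [CharP F p] (hq : Fintype.card F = q) (hodd : Odd q)
    (r : ℕ) [Fact r.Prime] (hr2 : r ≠ 2) (hrp : r ≠ p) (i : ℕ) (hi : i = orderOf (q : ZMod r)) (h4 : 4 ∣ i)
    (y : (Fin d ⊕ Fin d → F) →ₗ[F] (Fin d ⊕ Fin d → F)) (hiso : Isom y) (hy : y ^ r = 1)
    (hfx : finrank F (Fx y) + i = 2 * d)
    (c0 : F) (hc : c0 ≠ 0) (J : (Fin d ⊕ Fin d → F) →ₗ[F] (Fin d ⊕ Fin d → F))
    (hJ2 : ∀ v, J (J v) = c0 • v)
    (hadj : ∀ u v, Cfsg.sympForm d F (J u) v = - Cfsg.sympForm d F u (J v))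
    (hJy : ∀ v, J (y v) = y (J v)) : False := by
  have hrprime : r.Prime := Fact.out
  have hpprime : p.Prime := Fact.out
  have hr0 : 0 < r := hrprime.pos
  have hrF : (r : F) ≠ 0 := by
    intro h
    rw [CharP.cast_eq_zero_iff F p] at h
    exact hrp ((Nat.prime_dvd_prime_iff_eq hpprime hrprime).1 h).symm
  have h2F : (2 : F) ≠ 0 := by
    have hoddF : Odd (Fintype.card F) := by rw [hq]; exact hodd
    exact Cfsg.Agent.S0292.two_ne_zero_of_odd rfl hoddF
  obtain ⟨hi0, -, -, -⟩ := cc_facts hq r hr2 hrp i hi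
  -- dimensions
  have hcompl := semi_compl r hrF y hy
  have hdimV : finrank F (Fin d ⊕ Fin d → F) = 2 * d := by
    rw [Module.finrank_fintype_fun_eq_card, Fintype.card_sum, Fintype.card_fin]
    ring
  have hsum : finrank F (Fx y) + finrank F (Mv y) = 2 * d := by
    rw [← hdimV]
    exact Submodule.finrank_add_eq_of_isCompl hcompl
  have hdimW : finrank F (Mv y) = i := by omega
  -- nondegeneracy
  have hndtop : ND (⊤ : Submodule F (Fin d ⊕ Fin d → F)) := by
    intro u _ hu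
    by_contra hne
    obtain ⟨x, hx⟩ := Cfsg.Agent.Lib.helper6.sympForm_nondeg d u hne
    exact hx (hu x Submodule.mem_top)
  have hInvtop : Inv y (⊤ : Submodule F (Fin d ⊕ Fin d → F)) := fun v _ => Submodule.mem_top
  obtain ⟨-, hndW, -, -, hInvW, hffW⟩ := fix_nd r hrF y hiso hy ⊤ hInvtop hndtop
  rw [top_inf_eq] at hndW hInvW hffW
  -- J preserves W
  have hJW : ∀ w ∈ Mv y, J w ∈ Mv y := by
    intro w hw
    obtain ⟨u, rfl⟩ := hw
    refine ⟨J u, ?_⟩
    simp only [LinearMap.sub_apply, Module.End.one_apply, map_sub, hJy]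
  obtain ⟨h, hh⟩ := cyc_gen hq r i hi y hy (Mv y) hInvW hffW hdimW J hJW hJy
  obtain ⟨M, hN, hcM⟩ := pow_c0 hq hodd c0 hc i h4
  have hie : Even i := by
    obtain ⟨k, hk⟩ := h4
    exact ⟨2 * k, by omega⟩
  have hfrob := frob_adj hq r hrp i hi hie y hy h
  -- every w in W is zero
  have hzero : ∀ w ∈ Mv y, w = 0 := by
    intro w hw
    have hJw : J w ∈ Mv y := hJW w hw
    have key : ∀ u ∈ Mv y, Cfsg.sympForm d F (J w + J w) u = 0 := by
      intro u hu
      have h1 : Cfsg.sympForm d F (J u) w = Cfsg.sympForm d F u (aeval (y ^ (r - 1)) h w) := by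
        rw [hh u hu]
        exact adj_aeval r hr0 y hiso hy h u w
      have h2 : aeval (y ^ (r - 1)) h w = J w := by
        rw [hfrob]
        have := (sguderb_pow_eq (Mv y) J (aeval y h) hJW hh (q ^ (i / 2)) w hw).1
        rw [this, hN, sguderb_pow_odd c0 J hJ2, hcM, one_smul]
      rw [h2, hadj] at h1
      have h3 : Cfsg.sympForm d F u (J w) = 0 := by
        have : Cfsg.sympForm d F u (J w) + Cfsg.sympForm d F u (J w) = 0 := by
          linear_combination -h1
        have h4' : (2 : F) * Cfsg.sympForm d F u (J w) = 0 := by rw [two_mul]; exact this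
        rcases mul_eq_zero.1 h4' with h5 | h5
        · exact absurd h5 h2F
        · exact h5
      rw [Cfsg.Agent.Lib.helper6.sympForm_add_left, Cfsg.Agent.Lib.helper6.sympForm_swap, h3]
      simp
    have h5 : J w + J w = 0 := hndW _ ((Mv y).add_mem hJw hJw) key
    have h6 : (2 : F) • J w = 0 := by rw [two_smul]; exact h5
    have h7 : J w = 0 := by
      rcases smul_eq_zero.1 h6 with h8 | h8
      · exact absurd h8 h2F
      · exact h8
    have h8 : c0 • w = 0 := by rw [← hJ2, h7, map_zero]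
    rcases smul_eq_zero.1 h8 with h9 | h9
    · exact absurd h9 hc
    · exact h9
  have hbot : Mv y = ⊥ := by
    rw [eq_bot_iff]
    intro w hw
    rw [Submodule.mem_bot]
    exact hzero w hw
  rw [hbot, finrank_bot] at hdimW
  omega

end Cfsg.Agent.Lib.helper14.SGU
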