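import Mathlib
import Cfsg.Agent.Lib.helper14.SGUDefs
import Cfsg.Agent.Lib.Helper16.SPDEXIST
import Cfsg.Agent.Lib.helper3.SPDNONSC
import Cfsg.Agent.Lib.helper17.SPDARITH
import Cfsg.Agent.Lib.helper14.SGUDERA
import Cfsg.Agent.Lib.helper14.SGUDERB

set_option autoImplicit false
set_option linter.unusedVariables false
set_option linter.unusedSectionVars false

namespace Cfsg.Agent.Lib.helper14.SGU

open Polynomial Module Cfsg.Agent.Lib.Lead.SPU Cfsg.Agent.Lib.Helper19.SPD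

variable {F : Type*} [Field F] {d : ℕ}

/-- a symplectic matrix as an element of `spGL`. -/
theorem sguder_toGL (x : ↥(Matrix.symplecticGroup (Fin d) F)) :
    ∃ g : Matrix.GeneralLinearGroup (Fin d ⊕ Fin d) F, g ∈ Cfsg.spGL d F ∧
      (g : Matrix (Fin d ⊕ Fin d) (Fin d ⊕ Fin d) F) = (x : Matrix (Fin d ⊕ Fin d) (Fin d ⊕ Fin d) F) := by
  have h1 : (x : Matrix (Fin d ⊕ Fin d) (Fin d ⊕ Fin d) F) *
      ((x⁻¹ : ↥(Matrix.symplecticGroup (Fin d) F)) : Matrix (Fin d ⊕ Fin d) (Fin d ⊕ Fin d) F) = 1 := by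
    have h : ((x * x⁻¹ : ↥(Matrix.symplecticGroup (Fin d) F)) : Matrix (Fin d ⊕ Fin d) (Fin d ⊕ Fin d) F) = 1 := by
      rw [mul_inv_cancel]; rfl
    exact h
  have h2 : ((x⁻¹ : ↥(Matrix.symplecticGroup (Fin d) F)) : Matrix (Fin d ⊕ Fin d) (Fin d ⊕ Fin d) F) *
      (x : Matrix (Fin d ⊕ Fin d) (Fin d ⊕ Fin d) F) = 1 := by
    have h : ((x⁻¹ * x : ↥(Matrix.symplecticGroup (Fin d) F)) : Matrix (Fin d ⊕ Fin d) (Fin d ⊕ Fin d) F) = 1 := by
      rw [inv_mul_cancel]; rfl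
    exact h
  refine ⟨⟨x, _, h1, h2⟩, ?_, rfl⟩
  rw [Cfsg.Agent.S5646.mem_spGL_iff]
  exact (Cfsg.Agent.Lib.helper6.mem_symplecticGroup_iff_sympForm d _).1 x.2

theorem der_odd [Fintype F] {p q : ℕ} [Fact p.Prime] [CharP F p] (hq : Fintype.card F = q) (hodd : Odd q) (hd : 1 ≤ d)
    (r : ℕ) [Fact r.Prime] (hr2 : r ≠ 2) (hrp : r ≠ p)
    (hcase : (Odd (orderOf (q : ZMod r)) ∧ orderOf (q : ZMod r) ≤ d) ∨
      (4 ∣ orderOf (q : ZMod r) ∧ orderOf (q : ZMod r) ≤ 2 * d)) :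
    ∃ x : Matrix.GeneralLinearGroup (Fin d ⊕ Fin d) F, x ∈ Cfsg.spGL d F ∧ x ^ r = 1 ∧
      (∀ z : F, (x : Matrix (Fin d ⊕ Fin d) (Fin d ⊕ Fin d) F) ≠ z • (1 : Matrix (Fin d ⊕ Fin d) (Fin d ⊕ Fin d) F)) ∧
      ∀ (j' : Matrix (Fin d ⊕ Fin d) (Fin d ⊕ Fin d) F) (c0' : F), JS j' c0' →
        (x : Matrix (Fin d ⊕ Fin d) (Fin d ⊕ Fin d) F) * j' ≠ j' * (x : Matrix (Fin d ⊕ Fin d) (Fin d ⊕ Fin d) F) := by
  classical
  have hrprime : r.Prime := Fact.out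
  have hrodd : Odd r := hrprime.odd_of_ne_two hr2
  set i : ℕ := orderOf (q : ZMod r) with hi
  obtain ⟨hi0, -, hcc2, -⟩ := cc_facts hq r hr2 hrp i hi
  have hccle : cc i * 1 ≤ 2 * d := by
    unfold cc
    rcases hcase with ⟨ho, hle⟩ | ⟨h4, hle⟩
    · rw [if_neg (Nat.not_even_iff_odd.2 ho)]
      omega
    · have he : Even i := by
        obtain ⟨k, hk⟩ := h4
        exact ⟨2 * k, by omega⟩
      rw [if_pos he]
      omega
  obtain ⟨x, hxr, hfx⟩ := exists_elt hq r hr2 hrp i hi 1 hccle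
  obtain ⟨g, hg, hgx⟩ := sguder_toGL x
  have hxm : (x : Matrix (Fin d ⊕ Fin d) (Fin d ⊕ Fin d) F) ^ r = 1 := by
    have h : ((x ^ r : ↥(Matrix.symplecticGroup (Fin d) F)) : Matrix (Fin d ⊕ Fin d) (Fin d ⊕ Fin d) F) = 1 := by
      rw [hxr]; rfl
    rw [← h]
    exact (SubmonoidClass.coe_pow x r).symm
  have hgr : g ^ r = 1 := by
    apply Units.ext
    rw [Units.val_pow_eq_pow_val, hgx, hxm, Units.val_one]
  have hns := nonscalar r hrodd hd x hxr (by rw [hfx]; omega)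
  refine ⟨g, hg, hgr, by rw [hgx]; exact hns, ?_⟩
  intro j' c0' hJ' hcomm
  rw [hgx] at hcomm
  set y : (Fin d ⊕ Fin d → F) →ₗ[F] (Fin d ⊕ Fin d → F) :=
    Matrix.toLin' (x : Matrix (Fin d ⊕ Fin d) (Fin d ⊕ Fin d) F) with hy
  set J : (Fin d ⊕ Fin d → F) →ₗ[F] (Fin d ⊕ Fin d → F) := Matrix.toLin' j' with hJdef
  have hiso : Isom y := by
    intro u v
    rw [hy, Matrix.toLin'_apply, Matrix.toLin'_apply]
    exact (Cfsg.Agent.Lib.helper6.mem_symplecticGroup_iff_sympForm d _).1 x.2 u v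
  have hyr : y ^ r = 1 := by
    rw [hy, ← Matrix.toLin'_pow, hxm, Matrix.toLin'_one]
    rfl
  have hJ2 : ∀ v, J (J v) = c0' • v := by
    intro v
    rw [hJdef, Matrix.toLin'_apply, Matrix.toLin'_apply, Matrix.mulVec_mulVec, hJ'.sq, Matrix.smul_mulVec,
      Matrix.one_mulVec]
  have hJy : ∀ v, J (y v) = y (J v) := by
    intro v
    rw [hJdef, hy, Matrix.toLin'_apply, Matrix.toLin'_apply, Matrix.toLin'_apply, Matrix.toLin'_apply,
      Matrix.mulVec_mulVec, Matrix.mulVec_mulVec, hcomm]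
  have hadj : ∀ u v, Cfsg.sympForm d F (J u) v = - Cfsg.sympForm d F u (J v) := by
    intro u v
    rw [hJdef, Matrix.toLin'_apply, Matrix.toLin'_apply]
    exact hJ'.adj u v
  have hc0 : c0' ≠ 0 := by
    intro h
    exact hJ'.nsq 0 (by rw [h, mul_zero])
  rcases hcase with ⟨ho, hle⟩ | ⟨h4, hle⟩
  · have hcc : cc i = 2 * i := by
      unfold cc
      rw [if_neg (Nat.not_even_iff_odd.2 ho)]
    rw [hcc, mul_one] at hfx
    exact der_A_core hq hodd r hr2 hrp i hi ho y hiso hyr (by rw [hfx]; omega) c0' hJ'.nsq J hJ2 hJy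
  · have he : Even i := by
      obtain ⟨k, hk⟩ := h4
      exact ⟨2 * k, by omega⟩
    have hcc : cc i = i := by
      unfold cc
      rw [if_pos he]
    rw [hcc, mul_one] at hfx
    exact der_B_core hq hodd r hr2 hrp i hi h4 y hiso hyr (by rw [hfx]; omega) c0' hc0 J hJ2 hadj hJy

end Cfsg.Agent.Lib.helper14.SGU
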