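import Mathlib
import Cfsg.Agent.Lib.helper14.SGUDefs
import Cfsg.Agent.Lib.Helper20.SGUQNE
import Cfsg.Agent.Lib.Helper20.SGUNORM

set_option autoImplicit false
set_option linter.unusedVariables false
set_option linter.unusedSectionVars false

namespace Cfsg.Agent.Lib.helper14.SGU

open Polynomial Module Cfsg.Agent.Lib.Lead.SPU Cfsg.Agent.Lib.Helper19.SPD Cfsg.Agent.Lib.helper6
  Cfsg.Agent.Lib.helper6.SB

variable {F : Type*} [Field F] {d : ℕ}

/-- the inductive statement of FRAME. -/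
theorem sguframe14_ind [Fintype F] (hodd : Odd (Fintype.card F)) {j : Matrix (Fin d ⊕ Fin d) (Fin d ⊕ Fin d) F} {c0 : F}
    (hJ : JS j c0) (n : ℕ) :
    ∀ U : Submodule F (Fin d ⊕ Fin d → F), (∀ u ∈ U, j.mulVec u ∈ U) → ND U → finrank F U = 2 * n →
      ∃ v : Fin n → (Fin d ⊕ Fin d → F), (∀ k, v k ∈ U) ∧
        (∀ k, Cfsg.sympForm d F (v k) (j.mulVec (v k)) = -1) ∧
        ∀ k l, k ≠ l → Cfsg.sympForm d F (v k) (v l) = 0 ∧ Cfsg.sympForm d F (v k) (j.mulVec (v l)) = 0 := by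
  have hc0 : c0 ≠ 0 := by
    intro h
    exact hJ.nsq 0 (by rw [h, mul_zero])
  have hjj : ∀ x : Fin d ⊕ Fin d → F, j.mulVec (j.mulVec x) = c0 • x := by
    intro x
    rw [Matrix.mulVec_mulVec, hJ.sq, Matrix.smul_mulVec, Matrix.one_mulVec]
  have hadj' : ∀ u v : Fin d ⊕ Fin d → F,
      Cfsg.sympForm d F u (j.mulVec v) = - Cfsg.sympForm d F (j.mulVec u) v := by
    intro u v
    rw [hJ.adj, neg_neg]
  induction n with
  | zero =>
    intro U _ _ _
    exact ⟨Fin.elim0, fun k => k.elim0, fun k => k.elim0, fun k => k.elim0⟩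
  | succ n ih =>
    intro U hUj hnd hdim
    have hUne : U ≠ ⊥ := by
      intro h
      rw [h, finrank_bot] at hdim
      omega
    obtain ⟨v₀, hv₀U, hv₀⟩ := qne hJ U hUj hnd hUne
    set a : F := Cfsg.sympForm d F v₀ (j.mulVec v₀) with ha
    obtain ⟨α, β, hαβ⟩ := norm_surj hodd c0 (-1 / a) hc0
    set w : Fin d ⊕ Fin d → F := α • v₀ + β • j.mulVec v₀ with hw
    have hwU : w ∈ U := U.add_mem (U.smul_mem α hv₀U) (U.smul_mem β (hUj v₀ hv₀U))
    have hjw : j.mulVec w = α • j.mulVec v₀ + (β * c0) • v₀ := by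
      rw [hw, Matrix.mulVec_add, Matrix.mulVec_smul, Matrix.mulVec_smul, hjj, smul_smul]
    have hQw : Cfsg.sympForm d F w (j.mulVec w) = -1 := by
      rw [hjw, hw]
      simp only [sympForm_add_left, sympForm_add_right, sympForm_smul_left, sympForm_smul_right,
        sympForm_self]
      rw [sympForm_swap d (j.mulVec v₀) v₀, ← ha]
      have : (α * α - c0 * (β * β)) * a = -1 := by
        rw [hαβ]
        field_simp
      linear_combination this
    have hjwU : j.mulVec w ∈ U := hUj w hwU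
    set M : Submodule F (Fin d ⊕ Fin d → F) := Cfsg.Agent.S5960.pl d w (j.mulVec w) with hM
    have hne1 : Cfsg.sympForm d F w (j.mulVec w) ≠ 0 := by
      rw [hQw]
      exact neg_ne_zero.2 one_ne_zero
    have hMnd : ND M := Cfsg.Agent.S5960.pl_nd d w (j.mulVec w) hne1
    have hMdim : finrank F M = 2 := Cfsg.Agent.S5960.pl_finrank d w (j.mulVec w) hne1
    have hMle : M ≤ U := Cfsg.Agent.S5960.pl_le d w (j.mulVec w) U hwU hjwU
    obtain ⟨-, -, hU'nd, hU'dim⟩ := Cfsg.Agent.S5960.rel d U M hnd hMnd hMle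
    set U' : Submodule F (Fin d ⊕ Fin d → F) := U ⊓ orth d M with hU'
    have hwM : w ∈ M := Cfsg.Agent.S5960.left_mem_pl d w (j.mulVec w)
    have hjwM : j.mulVec w ∈ M := Cfsg.Agent.S5960.right_mem_pl d w (j.mulVec w)
    have horthU' : ∀ x ∈ U', Cfsg.sympForm d F w x = 0 ∧ Cfsg.sympForm d F (j.mulVec w) x = 0 := by
      intro x hx
      have hx2 := (mem_orth d M x).1 (Submodule.mem_inf.1 hx).2
      exact ⟨hx2 w hwM, hx2 _ hjwM⟩
    have hU'j : ∀ u ∈ U', j.mulVec u ∈ U' := by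
      intro x hx
      obtain ⟨h1, h2⟩ := horthU' x hx
      refine Submodule.mem_inf.2 ⟨hUj x (Submodule.mem_inf.1 hx).1, ?_⟩
      rw [mem_orth]
      intro m hm
      obtain ⟨s, t, rfl⟩ := (Cfsg.Agent.S5960.mem_pl d w (j.mulVec w) m).1 hm
      rw [sympForm_add_left, sympForm_smul_left, sympForm_smul_left, hadj' w x, h2, hadj' (j.mulVec w) x, hjj,
        sympForm_smul_left, h1]
      ring
    have hU'dim2 : finrank F U' = 2 * n := by omega
    obtain ⟨v', hv'U, hv'Q, hv'orth⟩ := ih U' hU'j hU'nd hU'dim2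
    refine ⟨Fin.cons w v', ?_, ?_, ?_⟩
    · intro k
      refine Fin.cases ?_ (fun k' => ?_) k
      · rw [Fin.cons_zero]; exact hwU
      · rw [Fin.cons_succ]; exact (Submodule.mem_inf.1 (hv'U k')).1
    · intro k
      refine Fin.cases ?_ (fun k' => ?_) k
      · rw [Fin.cons_zero]; exact hQw
      · rw [Fin.cons_succ]; exact hv'Q k'
    · intro k l
      refine Fin.cases ?_ (fun k' => ?_) k <;> refine Fin.cases ?_ (fun l' => ?_) l
      · intro h; exact absurd rfl h
      · intro _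
        rw [Fin.cons_zero, Fin.cons_succ]
        obtain ⟨h1, h2⟩ := horthU' (v' l') (hv'U l')
        exact ⟨h1, by rw [hadj', h2, neg_zero]⟩
      · intro _
        rw [Fin.cons_zero, Fin.cons_succ]
        obtain ⟨h1, h2⟩ := horthU' (v' k') (hv'U k')
        exact ⟨by rw [sympForm_swap, h1, neg_zero], by rw [sympForm_swap, h2, neg_zero]⟩
      · intro h
        rw [Fin.cons_succ, Fin.cons_succ]
        exact hv'orth k' l' (fun h' => h (congrArg Fin.succ h'))

/-- FRAME -/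
theorem sguframe14_frame [Fintype F] (hodd : Odd (Fintype.card F)) {j : Matrix (Fin d ⊕ Fin d) (Fin d ⊕ Fin d) F} {c0 : F}
    (hJ : JS j c0) :
    ∃ v : Fin d → (Fin d ⊕ Fin d → F), (∀ k, Cfsg.sympForm d F (v k) (j.mulVec (v k)) = -1) ∧
      ∀ k l, k ≠ l → Cfsg.sympForm d F (v k) (v l) = 0 ∧ Cfsg.sympForm d F (v k) (j.mulVec (v l)) = 0 := by
  have hndtop : ND (⊤ : Submodule F (Fin d ⊕ Fin d → F)) := by
    intro u _ hu
    by_contra hne
    obtain ⟨x, hx⟩ := Cfsg.Agent.Lib.helper6.sympForm_nondeg d u hne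
    exact hx (hu x Submodule.mem_top)
  have hdimV : finrank F (⊤ : Submodule F (Fin d ⊕ Fin d → F)) = 2 * d := by
    rw [finrank_top, Module.finrank_fintype_fun_eq_card, Fintype.card_sum, Fintype.card_fin]
    ring
  obtain ⟨v, -, hQ, horth⟩ := sguframe14_ind hodd hJ d ⊤ (fun _ _ => Submodule.mem_top) hndtop hdimV
  exact ⟨v, hQ, horth⟩

end Cfsg.Agent.Lib.helper14.SGU
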