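import Mathlib
import Cfsg.Agent.Lib.helper14.SGUDefs
import Cfsg.Agent.Lib.helper14.SGUINVEX
import Cfsg.Agent.Lib.helper14.SGUSQNEGEX
import Cfsg.Agent.Lib.Helper27.SPINVCONJ
import Cfsg.Agent.Lib.Helper27.SPSQNEG
import Cfsg.Agent.Lib.helper3.SPDNONSC

set_option autoImplicit false
set_option linter.unusedVariables false
set_option linter.unusedSectionVars false

namespace Cfsg.Agent.Lib.helper14.SGU

open Polynomial Module Cfsg.Agent.Lib.Lead.SPU Cfsg.Agent.Lib.Helper19.SPD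

variable {F : Type*} [Field F] {d : ℕ}

theorem sgutwo14_two_j0 [Fintype F] (hodd : Odd (Fintype.card F)) (hd : 1 ≤ d) (c0 : F) (hc : c0 ≠ 0)
    (x : Matrix.GeneralLinearGroup (Fin d ⊕ Fin d) F) (hx : x ∈ Cfsg.spGL d F) (z : F)
    (hz : ((x ^ 2 : Matrix.GeneralLinearGroup (Fin d ⊕ Fin d) F) : Matrix (Fin d ⊕ Fin d) (Fin d ⊕ Fin d) F) =
      z • (1 : Matrix (Fin d ⊕ Fin d) (Fin d ⊕ Fin d) F)) :
    ∃ g ∈ Cfsg.spGL d F, InN (j0 d c0) (g⁻¹ * x * g) := by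
  classical
  have h2 : (2 : F) ≠ 0 := Cfsg.Agent.S0292.two_ne_zero_of_odd rfl hodd
  set X : Matrix (Fin d ⊕ Fin d) (Fin d ⊕ Fin d) F := (x : Matrix (Fin d ⊕ Fin d) (Fin d ⊕ Fin d) F) with hX
  have hXX : X * X = z • (1 : Matrix (Fin d ⊕ Fin d) (Fin d ⊕ Fin d) F) := by
    rw [← hz, Units.val_pow_eq_pow_val, pow_two]
  have hXf : ∀ u v, Cfsg.sympForm d F (X.mulVec u) (X.mulVec v) = Cfsg.sympForm d F u v :=
    (Cfsg.Agent.S5646.mem_spGL_iff x).1 hx
  have hzmem : z • (1 : Matrix (Fin d ⊕ Fin d) (Fin d ⊕ Fin d) F) ∈ Matrix.symplecticGroup (Fin d) F := by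
    rw [Cfsg.Agent.Lib.helper6.mem_symplecticGroup_iff_sympForm]
    intro u v
    rw [← hXX, ← Matrix.mulVec_mulVec, ← Matrix.mulVec_mulVec, hXf, hXf]
  have hzz : z * z = 1 := spdnonsc_sq_one hd z hzmem
  have hz1 : z = 1 ∨ z = -1 := by
    have : (z - 1) * (z + 1) = 0 := by linear_combination hzz
    rcases mul_eq_zero.1 this with h | h
    · left; exact sub_eq_zero.1 h
    · right; exact eq_neg_of_add_eq_zero_left h
  rcases hz1 with rfl | rfl
  · -- involution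
    rw [one_smul] at hXX
    obtain ⟨k, k', φp, φm, -, -, -, -, -, -, -, hk⟩ :=
      Cfsg.Agent.Lib.Helper27.SpInv.spinv_param h2 d X hXX hXf
    have hkd : k ≤ d := by
      have h1 : finrank F (LinearMap.ker (X.mulVecLin - LinearMap.id)) ≤ finrank F (Fin d ⊕ Fin d → F) :=
        Submodule.finrank_le _
      rw [Module.finrank_fintype_fun_eq_card, Fintype.card_sum, Fintype.card_fin] at h1
      omega
    obtain ⟨y, hy, hyy, hycomm, hydim⟩ := sguinv14_inv_ex h2 c0 k hkd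
    obtain ⟨g, hg, hgxy⟩ := Cfsg.Agent.Lib.Helper27.SpInv.sp_invol_conj h2 d x y hx hy hXX hyy
      (by rw [← hk, hydim])
    refine ⟨g, hg, ?_⟩
    rw [hgxy]
    exact Or.inl hycomm
  · -- square `-1`
    have hXX' : X * X = -1 := by rw [hXX, neg_smul, one_smul]
    obtain ⟨y, hy, hyy, hyanti⟩ := sgusq14_sqneg_ex (d := d) hodd c0 hc
    obtain ⟨g, hg, hgxy⟩ := Cfsg.Agent.Lib.Helper27.SpInv.sp_sqneg_conj h2 d x y hx hy hXX' hyy
    refine ⟨g, hg, ?_⟩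
    rw [hgxy]
    exact Or.inr hyanti

end Cfsg.Agent.Lib.helper14.SGU
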