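import Mathlib
import Cfsg.Agent.Lib.helper14.SGUDefs
import Cfsg.Agent.Lib.Helper20.SPUSETUP
import Cfsg.Agent.Lib.Helper1.SPUCONJ
import Cfsg.Agent.Lib.helper14.SGUFRAME
import Cfsg.Agent.Lib.helper14.SGUNFASM
import Cfsg.Agent.Lib.helper14.SGUTWO
import Cfsg.Agent.Lib.Helper10.SGUIDXcore
import Cfsg.Agent.Lib.helper7.SGUARITH
import Cfsg.Agent.Lib.Helper27.SGUDERP
import Cfsg.Agent.Lib.helper14.SGUDER
import Cfsg.Agent.Lib.Helper25.SGUODDANTI

set_option autoImplicit false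
set_option linter.unusedVariables false
set_option linter.unusedSectionVars false

/-!
# Project SGU (S5976): MAIN assembly (helper14).  Rows: see `SGUSkel.lean.txt`.
-/

namespace Cfsg.Agent.Lib.helper14.SGU

open Polynomial Module Cfsg.Agent.Lib.Lead.SPU Cfsg.Agent.Lib.Helper19.SPD

variable {F : Type*} [Field F] {d : ℕ}

/-! ## MAIN -/

theorem inN_conj (g y : Matrix.GeneralLinearGroup (Fin d ⊕ Fin d) F)
    (j j1 : Matrix (Fin d ⊕ Fin d) (Fin d ⊕ Fin d) F)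
    (hj : j * (g : Matrix (Fin d ⊕ Fin d) (Fin d ⊕ Fin d) F) = (g : Matrix (Fin d ⊕ Fin d) (Fin d ⊕ Fin d) F) * j1)
    (h : InN j1 y) : InN j (g * y * g⁻¹) := by
  set gm : Matrix (Fin d ⊕ Fin d) (Fin d ⊕ Fin d) F := (g : Matrix (Fin d ⊕ Fin d) (Fin d ⊕ Fin d) F) with hgm
  set gi : Matrix (Fin d ⊕ Fin d) (Fin d ⊕ Fin d) F :=
    ((g⁻¹ : Matrix.GeneralLinearGroup (Fin d ⊕ Fin d) F) : Matrix (Fin d ⊕ Fin d) (Fin d ⊕ Fin d) F) with hgi
  set ym : Matrix (Fin d ⊕ Fin d) (Fin d ⊕ Fin d) F := (y : Matrix (Fin d ⊕ Fin d) (Fin d ⊕ Fin d) F) with hym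
  have h1 : gm * gi = 1 := Units.mul_inv g
  have h2 : gi * gm = 1 := Units.inv_mul g
  have h3 : gi * j = j1 * gi := by
    calc gi * j = gi * j * (gm * gi) := by rw [h1, Matrix.mul_one]
      _ = gi * (j * gm) * gi := by simp only [Matrix.mul_assoc]
      _ = gi * (gm * j1) * gi := by rw [hj]
      _ = (gi * gm) * j1 * gi := by simp only [Matrix.mul_assoc]
      _ = j1 * gi := by rw [h2, Matrix.one_mul]
  have hval : ((g * y * g⁻¹ : Matrix.GeneralLinearGroup (Fin d ⊕ Fin d) F) :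
      Matrix (Fin d ⊕ Fin d) (Fin d ⊕ Fin d) F) = gm * ym * gi := by
    rw [Units.val_mul, Units.val_mul]
  unfold InN
  rw [hval]
  rcases h with h | h
  · left
    calc gm * ym * gi * j = gm * ym * (gi * j) := by simp only [Matrix.mul_assoc]
      _ = gm * (ym * j1) * gi := by rw [h3]; simp only [Matrix.mul_assoc]
      _ = gm * (j1 * ym) * gi := by rw [h]
      _ = (gm * j1) * ym * gi := by simp only [Matrix.mul_assoc]
      _ = j * (gm * ym * gi) := by rw [← hj]; simp only [Matrix.mul_assoc]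
  · right
    calc gm * ym * gi * j = gm * ym * (gi * j) := by simp only [Matrix.mul_assoc]
      _ = gm * (ym * j1) * gi := by rw [h3]; simp only [Matrix.mul_assoc]
      _ = gm * (-(j1 * ym)) * gi := by rw [h]
      _ = -((gm * j1) * ym * gi) := by
          simp only [Matrix.mul_neg, Matrix.neg_mul, Matrix.mul_assoc]
      _ = -(j * (gm * ym * gi)) := by rw [← hj]; simp only [Matrix.mul_assoc]

theorem main {F : Type*} [Field F] [Fintype F] {p : ℕ} [Fact p.Prime] [CharP F p] {q : ℕ} (hq : Fintype.card F = q)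
    (hodd : Odd q) (d : ℕ) (hd : 2 ≤ d)
    (K : Subalgebra F (Matrix (Fin d ⊕ Fin d) (Fin d ⊕ Fin d) F)) (hK : Cfsg.Geo.IsFieldSubalgebra 2 K)
    (hKf : Cfsg.Geo.IsAdjointClosedFor (Cfsg.sympForm d F) K) (hKns : ¬ Cfsg.Geo.IsSelfAdjointFor (Cfsg.sympForm d F) K)
    (r : ℕ) [Fact r.Prime]
    (hΩ : r ∣ (Cfsg.Geo.subalgebraNormalizer K).relIndex (Cfsg.spGL d F)) :
    (∀ x ∈ Cfsg.spGL d F, (∃ z : F, ((x ^ r : Matrix.GeneralLinearGroup (Fin d ⊕ Fin d) F) : Matrix (Fin d ⊕ Fin d) (Fin d ⊕ Fin d) F) = z • (1 : Matrix (Fin d ⊕ Fin d) (Fin d ⊕ Fin d) F)) →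
      (∀ z : F, (x : Matrix (Fin d ⊕ Fin d) (Fin d ⊕ Fin d) F) ≠ z • (1 : Matrix (Fin d ⊕ Fin d) (Fin d ⊕ Fin d) F)) →
      ∃ g ∈ Cfsg.spGL d F, g⁻¹ * x * g ∈ Cfsg.Geo.subalgebraNormalizer K) ↔ r = 2 := by
  classical
  have hoddF : Odd (Fintype.card F) := by rw [hq]; exact hodd
  obtain ⟨j, c0, hJ, hN⟩ := Cfsg.Agent.Lib.Lead.SPU.setup hoddF K hK hKf hKns
  have hc0 : c0 ≠ 0 := by
    intro h
    exact hJ.nsq 0 (by rw [h, mul_zero])
  obtain ⟨v, hQ, horth⟩ := sguframe14_frame hoddF hJ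
  obtain ⟨g0, hg0, hjg0⟩ := sgunfasm14_nf_of_frame hJ v hQ horth
  have hrprime : r.Prime := Fact.out
  constructor
  · intro hall
    by_contra hr2
    have hrodd : Odd r := hrprime.odd_of_ne_two hr2
    have hder : ∃ x : Matrix.GeneralLinearGroup (Fin d ⊕ Fin d) F, x ∈ Cfsg.spGL d F ∧ x ^ r = 1 ∧
        (∀ z : F, (x : Matrix (Fin d ⊕ Fin d) (Fin d ⊕ Fin d) F) ≠ z • (1 : Matrix (Fin d ⊕ Fin d) (Fin d ⊕ Fin d) F)) ∧
        ∀ (j' : Matrix (Fin d ⊕ Fin d) (Fin d ⊕ Fin d) F) (c0' : F), JS j' c0' → ¬ InN j' x := by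
      by_cases hrp : r = p
      · subst hrp
        exact der_p hd
      · have hidx := sguidx_core hq hodd hJ ⟨g0, hg0, hjg0⟩ (Cfsg.Geo.subalgebraNormalizer K) (fun g hg => (hN g).2 hg)
        have hdvd : r * ((Cfsg.Geo.subalgebraNormalizer K).relIndex (Cfsg.spGL d F) / r) * guOrd q d ∣ spOrd q d := by
          rw [Nat.mul_div_cancel' hΩ]
          exact hidx
        have hq2 : 2 ≤ q := by
          rw [← hq]
          exact Fintype.one_lt_card
        have hrq : ¬ r ∣ q := by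
          intro h
          obtain ⟨n, hpp, hn⟩ := FiniteField.card F p
          rw [hq] at hn
          rw [hn] at h
          have := (Nat.prime_dvd_prime_iff_eq hrprime hpp).1 (hrprime.dvd_of_dvd_pow h)
          exact hrp this
        have hcase := arith q d r hr2 hq2 hrq _ hdvd
        obtain ⟨x, hx, hxr, hns, hcomm⟩ := der_odd hq hodd (by omega) r hr2 hrp hcase
        refine ⟨x, hx, hxr, hns, ?_⟩
        intro j' c0' hJ' hN'
        rcases hN' with h | h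
        · exact hcomm j' c0' hJ' h
        · have hxm : (x : Matrix (Fin d ⊕ Fin d) (Fin d ⊕ Fin d) F) ^ r = 1 := by
            rw [← Units.val_pow_eq_pow_val, hxr, Units.val_one]
          have hj0 := odd_anti hJ'.two r hrodd _ j' hxm h
          have hsq := hJ'.sq
          rw [hj0, Matrix.mul_zero] at hsq
          have h00 := congrFun (congrFun hsq (Sum.inl ⟨0, by omega⟩)) (Sum.inl ⟨0, by omega⟩)
          simp at h00
          exact hJ'.nsq 0 (by rw [← h00, mul_zero])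
    obtain ⟨x, hx, hxr, hns, hd'⟩ := hder
    obtain ⟨g, hg, hgN⟩ := hall x hx ⟨1, by rw [hxr, Units.val_one, one_smul]⟩ hns
    have h1 : InN j (g⁻¹ * x * g) := (hN _).1 hgN
    have hJ' := js_conj hJ g hg
    apply hd' _ c0 hJ'
    have h2 := inN_conj g (g⁻¹ * x * g)
      ((g : Matrix (Fin d ⊕ Fin d) (Fin d ⊕ Fin d) F) * j *
        ((g⁻¹ : Matrix.GeneralLinearGroup (Fin d ⊕ Fin d) F) : Matrix (Fin d ⊕ Fin d) (Fin d ⊕ Fin d) F)) j
      (by
        have : ((g⁻¹ : Matrix.GeneralLinearGroup (Fin d ⊕ Fin d) F) : Matrix (Fin d ⊕ Fin d) (Fin d ⊕ Fin d) F) *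
          (g : Matrix (Fin d ⊕ Fin d) (Fin d ⊕ Fin d) F) = 1 := Units.inv_mul g
        rw [Matrix.mul_assoc, this, Matrix.mul_one]) h1
    have h3 : g * (g⁻¹ * x * g) * g⁻¹ = x := by group
    rw [h3] at h2
    exact h2
  · intro hr2
    subst hr2
    intro x hx hxz hns
    obtain ⟨z, hz⟩ := hxz
    obtain ⟨g1, hg1, hN1⟩ := sgutwo14_two_j0 hoddF (by omega) c0 hc0 x hx z hz
    refine ⟨g1 * g0⁻¹, (Cfsg.spGL d F).mul_mem hg1 ((Cfsg.spGL d F).inv_mem hg0), ?_⟩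
    rw [hN]
    have h2 := inN_conj g0 (g1⁻¹ * x * g1) j (j0 d c0) hjg0 hN1
    have h3 : g0 * (g1⁻¹ * x * g1) * g0⁻¹ = (g1 * g0⁻¹)⁻¹ * x * (g1 * g0⁻¹) := by group
    rw [h3] at h2
    exact h2

end Cfsg.Agent.Lib.helper14.SGU
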