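import Mathlib
import Cfsg.Agent.Lib.helper14.SL2Odd
import Cfsg.Agent.Lib.helper15.SL2Nonsplit
import Cfsg.Agent.Lib.helper15.SL2Odd

set_option autoImplicit false
set_option linter.unusedSectionVars false

/-!
# Elements of `SL₂(q)` without eigenvalues (`q` odd) and the non-split torus

For a fixed element `g₀` without eigenvalue we compare sums of class functions over all
elements without eigenvalue with sums over the centraliser of `g₀`.
-/

namespace Cfsg.Agent.Lib.helper14

open Cfsg.Agent.Lib.helper15

section Ell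

variable {F : Type*} [Field F]

local notation "S2" => Matrix.SpecialLinearGroup (Fin 2) F
local notation "M2" => Matrix (Fin 2) (Fin 2) F

/-- the polynomial `X² - tX + 1` has no root -/
def NST (t : F) : Prop := ∀ l : F, l ^ 2 - t * l + 1 ≠ 0

/-- the element has no eigenvalue -/
def NSp (s : S2) : Prop := NST (s : M2).trace

theorem not_isScalar2_iff (M : M2) :
    ¬ IsScalar2 M ↔ ∀ c : F, M ≠ c • (1 : M2) := by
  constructor
  · intro h c hc
    apply h
    rw [hc]
    refine ⟨?_, ?_, ?_⟩ <;> simp
  · intro h hs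
    apply h (M 0 0)
    obtain ⟨h1, h2, h3⟩ := hs
    ext i j
    fin_cases i <;> fin_cases j <;> simp [h1, h2, h3]

theorem nst_sq_ne (h2 : (2 : F) ≠ 0) (t : F) (ht : NST t) : t ^ 2 ≠ 4 := by
  intro h
  apply ht (t / 2)
  field_simp
  linear_combination -h

theorem nsp_conj (x s : S2) : NSp (x * s * x⁻¹) ↔ NSp s := by
  unfold NSp
  rw [conj_trace]

theorem nsp_not_scalar (s : S2) (hs : NSp s) : ¬ IsScalar2 (s : M2) := by
  rw [not_isScalar2_iff]
  exact nonscalar_of_nonsplit s hs

/-- a non-scalar element commuting with an element without eigenvalue has no eigenvalue -/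
theorem nsp_of_mem_centralizer (g₀ : S2) (h0 : NSp g₀) (c : S2)
    (hc : c ∈ Subgroup.centralizer ({g₀} : Set S2)) (hns : ¬ IsScalar2 (c : M2)) : NSp c := by
  obtain ⟨⟨a, b⟩, hab⟩ := exists_coords g₀ (nonscalar_of_nonsplit g₀ h0) c hc
  simp only at hab
  have hb : b ≠ 0 := by
    intro hb
    apply hns
    rw [hab, hb, zero_smul, add_zero]
    refine ⟨?_, ?_, ?_⟩ <;> simp
  have hdet : a ^ 2 + a * b * (g₀ : M2).trace + b ^ 2 = 1 := by
    have := c.2
    rw [hab, m2_det_lin _ g₀.2] at this
    exact this
  have htr : (c : M2).trace = 2 * a + b * (g₀ : M2).trace := by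
    rw [hab, Matrix.trace_add, Matrix.trace_smul, Matrix.trace_smul, Matrix.trace_one,
      Fintype.card_fin]
    simp only [smul_eq_mul, Nat.cast_ofNat]
    ring
  intro l hl
  apply h0 ((l - a) / b)
  rw [htr] at hl
  field_simp
  linear_combination hl + hdet

end Ell

section EllFin

variable {F : Type*} [Field F] [Fintype F]

local notation "S2" => Matrix.SpecialLinearGroup (Fin 2) F
local notation "M2" => Matrix (Fin 2) (Fin 2) F

theorem two_ne_zero_of_odd_card (hodd : Odd (Fintype.card F)) : (2 : F) ≠ 0 := by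
  intro h
  have hchar : ringChar F = 2 := by
    have : ringChar F ∣ 2 := by
      rw [← Nat.cast_ofNat] at h
      exact (ringChar.spec F 2).mp h
    rcases (Nat.dvd_prime Nat.prime_two).mp this with h1 | h1
    · exfalso
      exact CharP.ringChar_ne_one (R := F) h1
    · exact h1
  have := FiniteField.even_card_of_char_two hchar
  obtain ⟨m, hm⟩ := hodd
  omega

theorem card_centralizer_nsp (hodd : Odd (Fintype.card F)) (g₀ : S2) (h0 : NSp g₀) :
    Nat.card (Subgroup.centralizer ({g₀} : Set S2)) = Fintype.card F + 1 := by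
  rw [card_centralizer_eq g₀ (nonscalar_of_nonsplit g₀ h0)]
  exact card_normSet_nonsplit_odd (Nat.odd_iff.mp hodd) (two_ne_zero_of_odd_card hodd) _ h0

theorem exists_mem_centralizer_trace (hodd : Odd (Fintype.card F)) (g₀ : S2) (h0 : NSp g₀)
    (t' : F) (ht' : NST t') :
    ∃ c : S2, c ∈ Subgroup.centralizer ({g₀} : Set S2) ∧ (c : M2).trace = t' := by
  have h2 := two_ne_zero_of_odd_card hodd
  obtain ⟨a, b, hab, htr⟩ := exists_coords_of_trace h2 (g₀ : M2).trace t' h0 ht'
  have hdet : (a • (1 : M2) + b • (g₀ : M2)).det = 1 := by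
    rw [m2_det_lin _ g₀.2]
    exact hab
  refine ⟨mkSL _ hdet, lin_mem_centralizer g₀ a b hdet, ?_⟩
  rw [mkSL_coe, Matrix.trace_add, Matrix.trace_smul, Matrix.trace_smul, Matrix.trace_one,
    Fintype.card_fin]
  simp only [smul_eq_mul, Nat.cast_ofNat]
  rw [← htr]
  ring

/-- elements without eigenvalue with the same trace are conjugate -/
theorem nsp_isConj_of_trace (hodd : Odd (Fintype.card F)) (s s' : S2) (hs : NSp s)
    (htr : (s' : M2).trace = (s : M2).trace) : IsConj s s' := by
  have h2 := two_ne_zero_of_odd_card hodd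
  have hs' : NSp s' := by
    unfold NSp
    rw [htr]
    exact hs
  have e1 : (s : M2).trace * (s : M2).trace ≠ 4 := by
    rw [← pow_two]
    exact nst_sq_ne h2 _ hs
  have e2 : (s' : M2).trace * (s' : M2).trace ≠ 4 := by
    rw [htr]
    exact e1
  have c1 := regular_conj (Nat.odd_iff.mp hodd) h2 s (nsp_not_scalar s hs) e1
  have c2 := regular_conj (Nat.odd_iff.mp hodd) h2 s' (nsp_not_scalar s' hs') e2
  rw [htr] at c2
  exact c1.symm.trans c2

theorem exists_conj_mem_centralizer (hodd : Odd (Fintype.card F)) (g₀ : S2) (h0 : NSp g₀)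
    (s : S2) (hs : NSp s) :
    ∃ c : S2, c ∈ Subgroup.centralizer ({g₀} : Set S2) ∧ IsConj s c := by
  obtain ⟨c, hc, htr⟩ := exists_mem_centralizer_trace hodd g₀ h0 (s : M2).trace hs
  exact ⟨c, hc, nsp_isConj_of_trace hodd s c hs htr⟩

theorem trace_eq_cases (hodd : Odd (Fintype.card F)) (g₀ : S2) (h0 : NSp g₀) (c c' : S2)
    (hc : c ∈ Subgroup.centralizer ({g₀} : Set S2))
    (hc' : c' ∈ Subgroup.centralizer ({g₀} : Set S2)) (hcn : NSp c)
    (htr : (c' : M2).trace = (c : M2).trace) : c' = c ∨ c' = c⁻¹ := by
  have h2 := two_ne_zero_of_odd_card hodd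
  apply eq_or_eq_inv_of_trace h2 c (nonscalar_of_nonsplit c hcn) (nst_sq_ne h2 _ hcn) c' _ htr
  rw [Subgroup.mem_centralizer_singleton_iff]
  exact centralizer_comm g₀ (nonscalar_of_nonsplit g₀ h0) c' c hc' hc

/-- the elements with a given trace without roots -/
def trS (t' : F) (p : F × Fˣ) : S2 :=
  ⟨!![p.1, (p.2 : F); (p.1 * (t' - p.1) - 1) / (p.2 : F), t' - p.1], by
    rw [Matrix.det_fin_two_of]
    have : (p.2 : F) ≠ 0 := p.2.ne_zero
    field_simp
    ring⟩

theorem trS_trace (t' : F) (p : F × Fˣ) : ((trS t' p : S2) : M2).trace = t' := by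
  unfold trS
  rw [Matrix.SpecialLinearGroup.coe_mk, Matrix.trace_fin_two_of]
  ring

theorem card_trace_nst (t' : F) (ht' : NST t') :
    Nat.card {s : S2 // (s : M2).trace = t'} = Fintype.card F * (Fintype.card F - 1) := by
  have hbij : Function.Bijective (fun p : F × Fˣ =>
      (⟨trS t' p, trS_trace t' p⟩ : {s : S2 // (s : M2).trace = t'})) := by
    constructor
    · intro p p' h
      have h' : ((trS t' p : S2) : M2) = ((trS t' p' : S2) : M2) :=
        congrArg (fun s : {s : S2 // (s : M2).trace = t'} => ((s : S2) : M2)) h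
      unfold trS at h'
      simp only [Matrix.SpecialLinearGroup.coe_mk] at h'
      have e00 := congrFun (congrFun h' 0) 0
      have e01 := congrFun (congrFun h' 0) 1
      simp at e00 e01
      exact Prod.ext e00 (Units.ext e01)
    · rintro ⟨s, hs⟩
      have hd := sl2_det s
      have h01 : (s : M2) 0 1 ≠ 0 := by
        intro h01
        apply ht' ((s : M2) 0 0)
        rw [← hs, Matrix.trace_fin_two]
        rw [h01, zero_mul, sub_zero] at hd
        linear_combination -hd
      refine ⟨((s : M2) 0 0, Units.mk0 _ h01), ?_⟩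
      apply Subtype.ext
      apply Subtype.ext
      show ((trS t' ((s : M2) 0 0, Units.mk0 _ h01) : S2) : M2) = (s : M2)
      unfold trS
      simp only [Matrix.SpecialLinearGroup.coe_mk, Units.val_mk0]
      have h11 : t' - (s : M2) 0 0 = (s : M2) 1 1 := by
        rw [← hs, Matrix.trace_fin_two]
        ring
      have h10 : ((s : M2) 0 0 * (s : M2) 1 1 - 1) / (s : M2) 0 1 = (s : M2) 1 0 := by
        rw [div_eq_iff h01]
        linear_combination hd
      rw [h11, h10]
      exact (Matrix.eta_fin_two (s : M2)).symm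
  classical
  rw [← Nat.card_eq_of_bijective _ hbij, Nat.card_prod, Nat.card_eq_fintype_card,
    Nat.card_eq_fintype_card, Fintype.card_units]

variable [DecidableEq F]

theorem sum_fiber {α : Type*} [Fintype α] (tr : α → F) (g : α → ℂ) :
    ∑ a : α, g a = ∑ t' : F, ∑ a : α, (if tr a = t' then g a else 0) := by
  rw [Finset.sum_comm]
  apply Finset.sum_congr rfl
  intro a _
  rw [Finset.sum_ite_eq]
  simp

open Classical in
theorem sum_trace_nst (f : S2 → ℂ) (hf : ∀ g h : S2, f (h * g * h⁻¹) = f g)
    (hodd : Odd (Fintype.card F)) (t' : F) (ht' : NST t') (c : S2) (hc : (c : M2).trace = t') :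
    ∑ s : S2, (if (s : M2).trace = t' then f s else 0) =
      ((Fintype.card F : ℂ) * ((Fintype.card F : ℂ) - 1)) * f c := by
  have hcn : NSp c := by
    unfold NSp
    rw [hc]
    exact ht'
  have h1 : ∀ s : S2, (if (s : M2).trace = t' then f s else 0) =
      if (s : M2).trace = t' then f c else 0 := by
    intro s
    split_ifs with h
    · obtain ⟨x, hx⟩ := isConj_iff.mp (nsp_isConj_of_trace hodd c s hcn (by rw [h, hc]))
      rw [← hx, hf]
    · rfl
  rw [Finset.sum_congr rfl (fun s _ => h1 s), ← Finset.sum_filter, Finset.sum_const, nsmul_eq_mul]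
  congr 1
  have h2 : (Finset.univ.filter (fun s : S2 => (s : M2).trace = t')).card =
      Fintype.card F * (Fintype.card F - 1) := by
    rw [← card_trace_nst t' ht', Nat.card_eq_fintype_card, Fintype.card_subtype]
  rw [h2]
  have : 1 ≤ Fintype.card F := Fintype.card_pos
  push_cast [Nat.cast_sub this]
  ring

open Classical in
theorem sum_centralizer_trace (f : S2 → ℂ) (hf : ∀ g h : S2, f (h * g * h⁻¹) = f g)
    (hodd : Odd (Fintype.card F)) (g₀ : S2) (h0 : NSp g₀)
    [Fintype ↥(Subgroup.centralizer ({g₀} : Set S2))] (t' : F) (ht' : NST t') (c : S2)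
    (hcC : c ∈ Subgroup.centralizer ({g₀} : Set S2)) (hc : (c : M2).trace = t') :
    ∑ x : ↥(Subgroup.centralizer ({g₀} : Set S2)),
      (if ((x : S2) : M2).trace = t' then f x else 0) = 2 * f c := by
  have h2 := two_ne_zero_of_odd_card hodd
  have hcn : NSp c := by
    unfold NSp
    rw [hc]
    exact ht'
  have hne : (⟨c, hcC⟩ : ↥(Subgroup.centralizer ({g₀} : Set S2))) ≠ ⟨c⁻¹, inv_mem hcC⟩ := by
    intro h
    have : c = c⁻¹ := congrArg Subtype.val h
    exact inv_ne_self h2 c (nonscalar_of_nonsplit c hcn) this.symm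
  have hfilt : Finset.univ.filter (fun x : ↥(Subgroup.centralizer ({g₀} : Set S2)) =>
      ((x : S2) : M2).trace = t') = {⟨c, hcC⟩, ⟨c⁻¹, inv_mem hcC⟩} := by
    ext x
    simp only [Finset.mem_filter, Finset.mem_univ, true_and, Finset.mem_insert,
      Finset.mem_singleton]
    constructor
    · intro hx
      rcases trace_eq_cases hodd g₀ h0 c x hcC x.2 hcn (by rw [hx, hc]) with h | h
      · left; exact Subtype.ext h
      · right; exact Subtype.ext h
    · rintro (h | h)
      · rw [h]; exact hc
      · rw [h]
        show ((c⁻¹ : S2) : M2).trace = t'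
        rw [inv_trace, hc]
  rw [← Finset.sum_filter, hfilt, Finset.sum_pair hne]
  have : f c⁻¹ = f c := by
    obtain ⟨x, hx⟩ := isConj_iff.mp (nsp_isConj_of_trace hodd c c⁻¹ hcn (inv_trace c))
    rw [← hx, hf]
  show f c + f c⁻¹ = 2 * f c
  rw [this]
  ring

open Classical in
/-- comparison of the sum over the elements without eigenvalue and the sum over the torus -/
theorem sum_nsp_eq (f : S2 → ℂ) (hf : ∀ g h : S2, f (h * g * h⁻¹) = f g)
    (hodd : Odd (Fintype.card F)) (g₀ : S2) (h0 : NSp g₀)
    [Fintype ↥(Subgroup.centralizer ({g₀} : Set S2))] :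
    2 * ∑ s : S2, (if NSp s then f s else 0) =
      ((Fintype.card F : ℂ) * ((Fintype.card F : ℂ) - 1)) *
        ∑ x : ↥(Subgroup.centralizer ({g₀} : Set S2)),
          (if IsScalar2 ((x : S2) : M2) then 0 else f x) := by
  rw [sum_fiber (fun s : S2 => (s : M2).trace) (fun s => if NSp s then f s else 0),
    sum_fiber (fun x : ↥(Subgroup.centralizer ({g₀} : Set S2)) => ((x : S2) : M2).trace)
      (fun x => if IsScalar2 ((x : S2) : M2) then 0 else f x), Finset.mul_sum, Finset.mul_sum]
  apply Finset.sum_congr rfl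
  intro t' _
  by_cases ht' : NST t'
  · obtain ⟨c, hcC, hc⟩ := exists_mem_centralizer_trace hodd g₀ h0 t' ht'
    have e1 : ∀ s : S2, (if (s : M2).trace = t' then (if NSp s then f s else 0) else 0) =
        if (s : M2).trace = t' then f s else 0 := by
      intro s
      split_ifs with h h'
      · rfl
      · exfalso
        apply h'
        unfold NSp
        rw [h]
        exact ht'
      · rfl
    have e2 : ∀ x : ↥(Subgroup.centralizer ({g₀} : Set S2)),
        (if ((x : S2) : M2).trace = t' then (if IsScalar2 ((x : S2) : M2) then 0 else f x) else 0) =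
        if ((x : S2) : M2).trace = t' then f x else 0 := by
      intro x
      split_ifs with h h'
      · exfalso
        have : NSp (x : S2) := by
          unfold NSp
          rw [h]
          exact ht'
        exact nsp_not_scalar _ this h'
      · rfl
      · rfl
    rw [Finset.sum_congr rfl (fun s _ => e1 s), Finset.sum_congr rfl (fun x _ => e2 x),
      sum_trace_nst f hf hodd t' ht' c hc, sum_centralizer_trace f hf hodd g₀ h0 t' ht' c hcC hc]
    ring
  · have e1 : ∀ s : S2, (if (s : M2).trace = t' then (if NSp s then f s else 0) else 0) = 0 := by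
      intro s
      split_ifs with h h'
      · exfalso
        apply ht'
        rw [← h]
        exact h'
      · rfl
      · rfl
    have e2 : ∀ x : ↥(Subgroup.centralizer ({g₀} : Set S2)),
        (if ((x : S2) : M2).trace = t' then (if IsScalar2 ((x : S2) : M2) then 0 else f x) else 0) =
        0 := by
      intro x
      split_ifs with h h'
      · rfl
      · exfalso
        apply ht'
        rw [← h]
        exact nsp_of_mem_centralizer g₀ h0 x x.2 h'
      · rfl
    rw [Finset.sum_congr rfl (fun s _ => e1 s), Finset.sum_congr rfl (fun x _ => e2 x)]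
    simp

open Classical in
/-- splitting a sum over `SL₂` by the type of the element -/
theorem sum_by_type (hodd : Odd (Fintype.card F)) (g : S2 → ℂ) :
    ∑ s : S2, g s = ∑ s : S2, (if (s : M2).trace = 2 * 1 then g s else 0) +
      ∑ s : S2, (if (s : M2).trace = 2 * (-1) then g s else 0) +
      ∑ s : S2, (if (s : M2).trace ≠ 2 ∧ (s : M2).trace ≠ -2 ∧ ¬ NSp s then g s else 0) +
      ∑ s : S2, (if NSp s then g s else 0) := by
  have h2 := two_ne_zero_of_odd_card hodd
  rw [← Finset.sum_add_distrib, ← Finset.sum_add_distrib, ← Finset.sum_add_distrib]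
  apply Finset.sum_congr rfl
  intro s _
  have hne : (2 : F) ≠ -2 := by
    intro h
    apply h2
    have : (2 : F) * 2 = 0 := by linear_combination h
    rcases mul_eq_zero.mp this with h' | h' <;> exact h'
  by_cases hn : NSp s
  · have h4 := nst_sq_ne h2 _ hn
    have e1 : (s : M2).trace ≠ 2 * 1 := by
      intro h
      apply h4
      rw [h]
      ring
    have e2 : (s : M2).trace ≠ 2 * (-1) := by
      intro h
      apply h4
      rw [h]
      ring
    rw [if_neg e1, if_neg e2, if_neg (by tauto), if_pos hn]
    ring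
  · by_cases e1 : (s : M2).trace = 2 * 1
    · have e2 : (s : M2).trace ≠ 2 * (-1) := by
        rw [e1]
        intro h
        apply hne
        linear_combination h
      have e3 : ¬ ((s : M2).trace ≠ 2 ∧ (s : M2).trace ≠ -2 ∧ ¬ NSp s) := by
        intro h
        apply h.1
        rw [e1]
        ring
      rw [if_pos e1, if_neg e2, if_neg e3, if_neg hn]
      ring
    · by_cases e2 : (s : M2).trace = 2 * (-1)
      · have e3 : ¬ ((s : M2).trace ≠ 2 ∧ (s : M2).trace ≠ -2 ∧ ¬ NSp s) := by
          intro h
          apply h.2.1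
          rw [e2]
          ring
        rw [if_neg e1, if_pos e2, if_neg e3, if_neg hn]
        ring
      · have e3 : (s : M2).trace ≠ 2 ∧ (s : M2).trace ≠ -2 ∧ ¬ NSp s := by
          refine ⟨?_, ?_, hn⟩
          · intro h
            apply e1
            rw [h]
            ring
          · intro h
            apply e2
            rw [h]
            ring
        rw [if_neg e1, if_neg e2, if_pos e3, if_neg hn]
        ring

end EllFin

end Cfsg.Agent.Lib.helper14
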