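import Cfsg.Agent.Lib.helper14.BlockSylow
import Cfsg.Agent.Lib.helper14.SL2Ell
import Cfsg.Agent.Lib.helper14.SL2Card
import Cfsg.Agent.Lib.helper15.SL2Order
import Cfsg.Agent.Lib.helper2.PModular

/-!
# `p`-blocks of `SL₂(q)` in the defining characteristic (`q` odd): group-theoretic part

Class sizes of elements with non-central `p'`-part are divisible by `p`.
-/

set_option autoImplicit false
open Cfsg

namespace Cfsg.Agent.Lib.helper14

open Cfsg.Agent.Lib.helper7 Cfsg.Agent.Lib.helper2 Cfsg.Agent.Lib.Helper25
open Cfsg.Agent.Lib.helper15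
open scoped ComplexConjugate

section Blocks

variable {F : Type*} [Field F] [Fintype F]

local notation "S2" => Matrix.SpecialLinearGroup (Fin 2) F
local notation "M2" => Matrix (Fin 2) (Fin 2) F

/-- the field has odd order -/
theorem odd_card_of_char (p : ℕ) [Fact p.Prime] [CharP F p] (hp : p ≠ 2) :
    Odd (Fintype.card F) := by
  obtain ⟨n, hpp, hq⟩ := FiniteField.card F p
  rw [hq]
  exact ((Fact.out : p.Prime).odd_of_ne_two hp).pow

theorem char_dvd_card (p : ℕ) [Fact p.Prime] [CharP F p] : p ∣ Fintype.card F := by
  obtain ⟨n, hpp, hq⟩ := FiniteField.card F p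
  rw [hq]
  exact dvd_pow_self p n.ne_zero

/-- a non-scalar element of order prime to `p` has class size divisible by `p` -/
theorem dvd_index_of_nonscalar (p : ℕ) [Fact p.Prime] [CharP F p] (hp : p ≠ 2) (z : S2)
    (hz : ¬ IsScalar2 (z : M2)) (hord : ¬ p ∣ orderOf z) :
    p ∣ (Subgroup.centralizer ({z} : Set S2)).index := by
  have hpp : p.Prime := Fact.out
  have hodd := odd_card_of_char (F := F) p hp
  have h2 := two_ne_zero_of_odd_card hodd
  have hpq := char_dvd_card (F := F) p
  have hq1 : 1 < Fintype.card F := Fintype.one_lt_card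
  have hzns := (not_isScalar2_iff (z : M2)).mp hz
  have hcard := card_centralizer_eq z hzns
  have hmul := (Subgroup.centralizer ({z} : Set S2)).card_mul_index
  rw [card_sl2] at hmul
  -- the order of the centralizer is prime to `p`
  have hcop : ¬ p ∣ Nat.card (Subgroup.centralizer ({z} : Set S2)) := by
    rw [hcard]
    by_cases hns : ∀ l : F, l ^ 2 - (z : M2).trace * l + 1 ≠ 0
    · rw [card_normSet_nonsplit_odd (Nat.odd_iff.mp hodd) h2 _ hns]
      intro h
      have := (Nat.dvd_add_right hpq).mp h
      exact hpp.one_lt.ne' (Nat.dvd_one.mp this)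
    · push_neg at hns
      obtain ⟨l, hl⟩ := hns
      by_cases hl1 : l ^ 2 = 1
      · exfalso
        have h1 := m2_pow_char_of_double_root p (z : M2) z.2 l hl hl1
        have h3 : z ^ (2 * p) = 1 := by
          apply Subtype.ext
          rw [Matrix.SpecialLinearGroup.coe_pow, Matrix.SpecialLinearGroup.coe_one, mul_comm,
            pow_mul, h1, smul_pow, one_pow, ← pow_mul, mul_comm, pow_mul, hl1, one_pow, one_smul]
        have hdvd : orderOf z ∣ 2 * p := orderOf_dvd_of_pow_eq_one h3
        have hc : Nat.Coprime (orderOf z) p := (Nat.Coprime.symm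
          ((Nat.Prime.coprime_iff_not_dvd hpp).mpr hord))
        have hd2 : orderOf z ∣ 2 := hc.dvd_of_dvd_mul_right hdvd
        have hsq : z ^ 2 = 1 := orderOf_dvd_iff_pow_eq_one.mp hd2
        have hsq' : (z : M2) * (z : M2) = 1 := by
          have := congrArg (fun s : S2 => (s : M2)) hsq
          simpa [pow_two] using this
        rw [m2_sq (z : M2) z.2] at hsq'
        have ht : (z : M2).trace = 2 * l := by
          have h1' : (z : M2).trace * l = 2 := by linear_combination -hl + hl1
          calc (z : M2).trace = (z : M2).trace * (l ^ 2) := by rw [hl1, mul_one]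
            _ = ((z : M2).trace * l) * l := by ring
            _ = 2 * l := by rw [h1']
        have hl0 : l ≠ 0 := by
          intro h0
          rw [h0] at hl1
          norm_num at hl1
        apply hzns l
        have h4 : (2 * l) • (z : M2) = (2 : F) • (1 : M2) := by
          rw [← ht]
          have : (z : M2).trace • (z : M2) = ((z : M2).trace • (z : M2) - 1) + 1 := by abel
          rw [this, hsq']
          rw [two_smul]
        have h5 : (z : M2) = ((2 * l)⁻¹ * 2) • (1 : M2) := by
          rw [mul_smul, ← h4, smul_smul, inv_mul_cancel₀ (mul_ne_zero h2 hl0), one_smul]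
        rw [h5]
        congr 1
        field_simp
        linear_combination (-1 : F) * hl1
      · rw [card_normSet_split _ l hl hl1]
        intro h
        have h5 : p ∣ Fintype.card F - 1 + 1 := by
          rw [Nat.sub_add_cancel (by omega)]
          exact hpq
        have := (Nat.dvd_add_right h).mp h5
        exact hpp.one_lt.ne' (Nat.dvd_one.mp this)
  have hdvd : p ∣ Nat.card (Subgroup.centralizer ({z} : Set S2)) *
      (Subgroup.centralizer ({z} : Set S2)).index := by
    rw [hmul]
    exact Dvd.dvd.mul_right hpq _
  rcases (Nat.Prime.dvd_mul hpp).mp hdvd with h | h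
  · exact absurd h hcop
  · exact h

end Blocks

end Cfsg.Agent.Lib.helper14
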