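import Cfsg.Agent.Lib.helper14.SL2OddChar2
import Cfsg.Agent.S2309

set_option autoImplicit false
set_option linter.unusedSectionVars false
open Cfsg

namespace Cfsg.Agent.Lib.helper14

open Cfsg.Agent.Lib.helper7 Cfsg.Agent.Lib.helper2 Cfsg.Agent.Lib.Helper25 Cfsg.Agent.Lib.Helper11
open Cfsg.Agent.S2304

open scoped ComplexConjugate

section QThree

variable {F : Type*} [Field F] [Fintype F] [DecidableEq F]
variable [Fintype (Cfsg.IrrCharacter (GL (Fin 2) F))] [Fintype (MulChar F ℂ)]

local notation "G2" => GL (Fin 2) F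
local notation "S2" => Matrix.SpecialLinearGroup (Fin 2) F
local notation "M2" => Matrix (Fin 2) (Fin 2) F
local notation "Irr2" => Cfsg.IrrCharacter (GL (Fin 2) F)
local notation "IrrS" => Cfsg.IrrCharacter (Matrix.SpecialLinearGroup (Fin 2) F)

open Classical

/-- the central element `-1` of `GL₂` -/
noncomputable def zG (F : Type*) [Field F] : GL (Fin 2) F := scG (-1 : Fˣ)

theorem zG_coe : ((zG F : G2) : M2) = (-1 : F) • (1 : M2) := by
  show ((scG (-1 : Fˣ) : G2) : M2) = _
  rw [scG_coe']
  simp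

theorem zG_entries : ((zG F : G2) : M2) 0 0 = -1 ∧ ((zG F : G2) : M2) 0 1 = 0 ∧
    ((zG F : G2) : M2) 1 0 = 0 ∧ ((zG F : G2) : M2) 1 1 = -1 := by
  rw [zG_coe]
  simp

theorem zG_det : ((zG F : G2) : M2).det = 1 := by
  rw [zG_coe, Matrix.det_smul, Fintype.card_fin, Matrix.det_one]
  ring

theorem zG_mul_self : (zG F : G2) * zG F = 1 := by
  apply Units.ext
  rw [Matrix.GeneralLinearGroup.coe_mul, zG_coe]
  simp

theorem zG_ne_one (h : (-1 : F) ≠ 1) : (zG F : G2) ≠ 1 := by
  intro e
  have := congrArg (fun g : G2 => (g : M2) 0 0) e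
  simp only [zG_entries.1] at this
  apply h
  simpa using this

theorem glLam_zG (α : MulChar F ℂ) : (glLam α : G2 → ℂ) (zG F) = 1 := by
  rw [glLam_apply, zG_det, map_one]

theorem glR_zG (α β : MulChar F ℂ) :
    glR α β (zG F) = ((Fintype.card F : ℂ) + 1) * (α (-1) * β (-1)) := by
  obtain ⟨h00, h01, h10, h11⟩ := zG_entries (F := F)
  have := value_scalar α β (zG F) h01 h10 (by rw [h00, h11])
  rw [glR, this, h00]

theorem mulChar_neg_one_sq (α : MulChar F ℂ) : α (-1) * α (-1) = 1 := by
  rw [← map_mul]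
  simp

theorem glSt_zG (α : MulChar F ℂ) : (glSt α : G2 → ℂ) (zG F) = (Fintype.card F : ℂ) := by
  rw [glSt_apply, glR_zG, mulChar_neg_one_sq, zG_det, map_one]
  ring

theorem sum_off_neg_one (h : (-1 : F) ≠ 1) :
    ∑ p : GlOff F, p.1.1 (-1) * p.1.2 (-1) = -((Fintype.card F : ℂ) - 1) := by
  have hS := sum_mulChar_eq_zero (F := F) (-1) h
  have h1 : ∑ p : GlOff F, p.1.1 (-1) * p.1.2 (-1) =
      ∑ p ∈ Finset.univ.filter (fun p : MulChar F ℂ × MulChar F ℂ => p.1 ≠ p.2),
        p.1 (-1) * p.2 (-1) := by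
    rw [Finset.sum_subtype (Finset.univ.filter (fun p : MulChar F ℂ × MulChar F ℂ => p.1 ≠ p.2))
      (p := fun p : MulChar F ℂ × MulChar F ℂ => p.1 ≠ p.2) (by simp)
      (f := fun p : MulChar F ℂ × MulChar F ℂ => p.1 (-1) * p.2 (-1))]
  rw [h1, Finset.sum_filter, Fintype.sum_prod_type]
  have hin : ∀ α : MulChar F ℂ,
      ∑ β : MulChar F ℂ, (if (α, β).1 ≠ (α, β).2 then (α, β).1 (-1) * (α, β).2 (-1) else 0) =
        -1 := by
    intro α
    have e1 : ∀ β : MulChar F ℂ,
        (if (α, β).1 ≠ (α, β).2 then (α, β).1 (-1) * (α, β).2 (-1) else 0) =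
        α (-1) * β (-1) - (if α = β then α (-1) * β (-1) else 0) := by
      intro β
      by_cases hab : α = β
      · simp [hab]
      · simp [hab]
    rw [Finset.sum_congr rfl (fun β _ => e1 β), Finset.sum_sub_distrib, Finset.sum_ite_eq,
      ← Finset.mul_sum, hS]
    simp only [Finset.mem_univ, if_true, mulChar_neg_one_sq]
    ring
  rw [Finset.sum_congr rfl (fun α _ => hin α), Finset.sum_const, Finset.card_univ, nsmul_eq_mul,
    card_mulChar_cast]
  ring

/-- the sum of the values at `-1` of the complementary characters -/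
theorem sum_glPsi_zG (h : (-1 : F) ≠ 1) :
    2 * ∑ χ ∈ glPsi (F := F), (χ : G2 → ℂ) (zG F) = -((Fintype.card F : ℂ) - 1) ^ 2 := by
  have h0 := qm1_ne_zero (F := F)
  have hcol := irr_column_orthogonality (G := G2) (zG F) 1
  rw [if_neg (by rw [isConj_one_right]; exact zG_ne_one h)] at hcol
  have hdec := sum_irr_decomp (F := F)
    (fun χ => (χ : G2 → ℂ) (zG F) * conj ((χ : G2 → ℂ) 1))
  have h3 := sum_glK3 (F := F) (fun χ => (χ : G2 → ℂ) (zG F) * conj ((χ : G2 → ℂ) 1))
  rw [hcol] at hdec
  simp only [conj_deg, glLam_zG, glLam_one, glSt_zG, glSt_one, map_one, Complex.conj_natCast] at hdec h3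
  have hrp : ∀ p : GlOff F, (glRp p : G2 → ℂ) (zG F) * (glRp p : G2 → ℂ) 1 =
      ((Fintype.card F : ℂ) + 1) ^ 2 * (p.1.1 (-1) * p.1.2 (-1)) := by
    intro p
    have e1 : (glRp p : G2 → ℂ) (zG F) = glR p.1.1 p.1.2 (zG F) := rfl
    have e2 : (glRp p : G2 → ℂ) 1 = glR p.1.1 p.1.2 1 := rfl
    rw [e1, e2, glR_zG, glR_one]
    ring
  rw [Finset.sum_congr rfl (fun p _ => hrp p), ← Finset.mul_sum, sum_off_neg_one h] at h3
  have hpsi : ∑ χ ∈ glPsi (F := F), (χ : G2 → ℂ) (zG F) * (χ : G2 → ℂ) 1 =
      ((Fintype.card F : ℂ) - 1) * ∑ χ ∈ glPsi (F := F), (χ : G2 → ℂ) (zG F) := by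
    rw [Finset.mul_sum]
    apply Finset.sum_congr rfl
    intro χ hχ
    rw [(glPsi_values χ hχ).1]
    ring
  rw [hpsi] at hdec
  simp only [Finset.sum_const, Finset.card_univ, nsmul_eq_mul, card_mulChar_cast] at hdec
  have key : ((Fintype.card F : ℂ) - 1) *
      (2 * ∑ χ ∈ glPsi (F := F), (χ : G2 → ℂ) (zG F) + ((Fintype.card F : ℂ) - 1) ^ 2) = 0 := by
    linear_combination (-2 : ℂ) * hdec - h3
  rcases mul_eq_zero.mp key with hk | hk
  · exact absurd hk h0
  · linear_combination hk


theorem three_eq_zero (hq3 : Fintype.card F = 3) : (3 : F) = 0 := by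
  have := Nat.cast_card_eq_zero F
  rw [hq3] at this
  exact_mod_cast this

theorem neg_one_ne_one_of_three (hq3 : Fintype.card F = 3) : (-1 : F) ≠ 1 := by
  intro h
  have h3 := three_eq_zero hq3
  have h2 : (2 : F) = 0 := by linear_combination -h
  have : (1 : F) = 0 := by linear_combination h3 - h2
  exact one_ne_zero this

/-- the central constant of an irreducible character at `-1` -/
theorem central_const (χ : Irr2) :
    ∃ c : ℂ, (∀ x : G2, (χ : G2 → ℂ) (zG F * x) = c * (χ : G2 → ℂ) x) ∧ (c = 1 ∨ c = -1) := by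
  obtain ⟨c, hc⟩ := h7_central_char χ.2 (zG F) (scG_mem_center (-1 : Fˣ))
  refine ⟨c, hc, ?_⟩
  have h1 := hc (zG F)
  rw [zG_mul_self] at h1
  have h2 := hc 1
  rw [mul_one] at h2
  rw [h2] at h1
  have hne := irr_one_ne_zero χ
  have : (c - 1) * (c + 1) = 0 := by
    have : (χ : G2 → ℂ) 1 * ((c - 1) * (c + 1)) = 0 := by linear_combination -h1
    rcases mul_eq_zero.mp this with h | h
    · exact absurd h hne
    · exact h
  rcases mul_eq_zero.mp this with h | h
  · left; linear_combination h
  · right; linear_combination h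

theorem q3_central (hq3 : Fintype.card F = 3) (χ : Irr2) (hχ : χ ∈ glPsi (F := F))
    (ht : twI χ = 1) : ∀ x : G2, (χ : G2 → ℂ) (zG F * x) = -(χ : G2 → ℂ) x := by
  have hneg := neg_one_ne_one_of_three hq3
  obtain ⟨c, hc, hc1⟩ := central_const χ
  rcases hc1 with hc1 | hc1
  · exfalso
    -- values at z of the complementary characters
    have hval : ∀ χ' ∈ glPsi (F := F), (χ' : G2 → ℂ) (zG F) = 2 ∨ (χ' : G2 → ℂ) (zG F) = -2 := by
      intro χ' hχ'
      obtain ⟨c', hc', hc1'⟩ := central_const χ'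
      have := hc' 1
      rw [mul_one, (glPsi_values χ' hχ').1, hq3] at this
      rcases hc1' with h | h
      · left; rw [this, h]; norm_num
      · right; rw [this, h]; norm_num
    have hsum := sum_glPsi_zG (F := F) hneg
    have hcard : (glPsi (F := F)).card = 3 := by
      have := two_card_glPsi (F := F)
      rw [hq3] at this
      omega
    set P := (glPsi (F := F)).filter (fun χ' : Irr2 => (χ' : G2 → ℂ) (zG F) = 2) with hP
    have hsplit : ∑ χ' ∈ glPsi (F := F), (χ' : G2 → ℂ) (zG F) =
        4 * (P.card : ℂ) - 2 * ((glPsi (F := F)).card : ℂ) := by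
      have e : ∀ χ' ∈ glPsi (F := F), (χ' : G2 → ℂ) (zG F) =
          4 * (if (χ' : G2 → ℂ) (zG F) = 2 then (1 : ℂ) else 0) - 2 := by
        intro χ' hχ'
        rcases hval χ' hχ' with h | h
        · rw [if_pos h, h]; norm_num
        · have : ¬ (χ' : G2 → ℂ) (zG F) = 2 := by rw [h]; norm_num
          rw [if_neg this, h]; norm_num
      rw [Finset.sum_congr rfl e, Finset.sum_sub_distrib, ← Finset.mul_sum, Finset.sum_boole,
        Finset.sum_const, nsmul_eq_mul]
      ring
    rw [hsplit, hcard, hq3] at hsum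
    have hPc : P.card = 1 := by
      have : (P.card : ℂ) = 1 := by
        push_cast at hsum
        linear_combination (1 / 8 : ℂ) * hsum
      exact_mod_cast this
    -- two distinct members of P
    have hχz : (χ : G2 → ℂ) (zG F) = 2 := by
      have := hc 1
      rw [mul_one, (glPsi_values χ hχ).1, hq3, hc1] at this
      rw [this]; norm_num
    obtain ⟨l0, hl0⟩ : ∃ l0 : MulChar F ℂ, l0 ≠ 1 := by
      have hcm : Fintype.card (MulChar F ℂ) = 2 := by rw [card_mulChar, hq3]
      have : 1 < Fintype.card (MulChar F ℂ) := by omega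
      obtain ⟨a, b, hab⟩ := Fintype.exists_pair_of_one_lt_card this
      by_cases ha : a = 1
      · exact ⟨b, fun hb => hab (ha.trans hb.symm)⟩
      · exact ⟨a, ha⟩
    have hne : glTwist χ l0 ≠ χ := by
      intro h
      have := (twI_ne_one_iff χ).mpr ⟨l0, hl0, h⟩
      exact this ht
    have hmem2 : glTwist χ l0 ∈ glPsi (F := F) := by
      apply Cfsg.Agent.S2309.mem_glPsi_of_deg (by omega)
      rw [glTwist_apply, (glPsi_values χ hχ).1]
      simp
    have hz2 : (glTwist χ l0 : G2 → ℂ) (zG F) = 2 := by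
      rw [glTwist_apply, zG_det, map_one, one_mul, hχz]
    have hsub : ({χ, glTwist χ l0} : Finset Irr2) ⊆ P := by
      intro x hx
      rw [Finset.mem_insert, Finset.mem_singleton] at hx
      rw [hP, Finset.mem_filter]
      rcases hx with rfl | rfl
      · exact ⟨hχ, hχz⟩
      · exact ⟨hmem2, hz2⟩
    have := Finset.card_le_card hsub
    rw [Finset.card_pair (Ne.symm hne), hPc] at this
    omega
  · intro x
    rw [hc x, hc1]
    ring


omit [Fintype F] [DecidableEq F] [Fintype (Cfsg.IrrCharacter (GL (Fin 2) F))]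
  [Fintype (MulChar F ℂ)] in
/-- a root of the characteristic polynomial gives an eigenvector -/
theorem eigvec_of_charpoly_root (A : M2) (μ : F)
    (h : μ * μ - A.trace * μ + A.det = 0) : ∃ v : Fin 2 → F, v ≠ 0 ∧ A.mulVec v = μ • v := by
  have hdet : (A - μ • (1 : M2)).det = 0 := by
    rw [Matrix.det_fin_two]
    rw [Matrix.trace_fin_two, Matrix.det_fin_two] at h
    simp only [Matrix.sub_apply, Matrix.smul_apply, Matrix.one_apply_eq, smul_eq_mul, mul_one,
      Matrix.one_apply_ne (show (0 : Fin 2) ≠ 1 by decide),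
      Matrix.one_apply_ne (show (1 : Fin 2) ≠ 0 by decide), mul_zero, sub_zero]
    linear_combination h
  obtain ⟨v, hv, hv0⟩ := Matrix.exists_mulVec_eq_zero_iff.mpr hdet
  refine ⟨v, hv, ?_⟩
  rw [Matrix.sub_mulVec, Matrix.smul_mulVec, Matrix.one_mulVec, sub_eq_zero] at hv0
  exact hv0

omit [Fintype F] [DecidableEq F] [Fintype (Cfsg.IrrCharacter (GL (Fin 2) F))]
  [Fintype (MulChar F ℂ)] in
/-- an element of `SL₂` without eigenvectors is regular semisimple -/
theorem noEig_regular (g : S2)
    (hg : ∀ (c : F) (v : Fin 2 → F), v ≠ 0 → (g : M2).mulVec v ≠ c • v) :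
    ¬ IsScalar2 (g : M2) ∧ (g : M2).trace * (g : M2).trace ≠ 4 := by
  have hdet : (g : M2).det = 1 := g.2
  constructor
  · intro hs
    have hroot : (g : M2) 0 0 * (g : M2) 0 0 - (g : M2).trace * (g : M2) 0 0 + (g : M2).det = 0 := by
      rw [Matrix.trace_fin_two, Matrix.det_fin_two, hs.1, hs.2.1, ← hs.2.2]
      ring
    obtain ⟨v, hv, he⟩ := eigvec_of_charpoly_root _ _ hroot
    exact hg _ v hv he
  · intro ht
    have h2 : ((g : M2).trace - 2) * ((g : M2).trace + 2) = 0 := by linear_combination ht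
    rcases mul_eq_zero.mp h2 with h | h
    · have hroot : (1 : F) * 1 - (g : M2).trace * 1 + (g : M2).det = 0 := by
        rw [hdet]; linear_combination -h
      obtain ⟨v, hv, he⟩ := eigvec_of_charpoly_root _ _ hroot
      exact hg _ v hv he
    · have hroot : (-1 : F) * (-1) - (g : M2).trace * (-1) + (g : M2).det = 0 := by
        rw [hdet]; linear_combination h
      obtain ⟨v, hv, he⟩ := eigvec_of_charpoly_root _ _ hroot
      exact hg _ v hv he

theorem q3_cuspidal_zero (hq3 : Fintype.card F = 3) (χ : Irr2) (hχ : χ ∈ glPsi (F := F))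
    (ht : twI χ = 1) (g : S2)
    (hg : ∀ (c : F) (v : Fin 2 → F), v ≠ 0 → (g : M2).mulVec v ≠ c • v) :
    (χ : G2 → ℂ) (Matrix.SpecialLinearGroup.toGL g) = 0 := by
  have h3 := three_eq_zero hq3
  have hcen := q3_central hq3 χ hχ ht
  obtain ⟨hns, -⟩ := noEig_regular g hg
  have hdet : (g : M2).det = 1 := g.2
  -- the trace vanishes
  have htr : (g : M2).trace = 0 := by
    by_contra h0
    have hall : ∀ x : F, x = 0 ∨ x = 1 ∨ x = -1 := by
      have hneg := neg_one_ne_one_of_three hq3
      have hc : ({0, 1, -1} : Finset F).card = 3 := by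
        rw [Finset.card_insert_of_notMem, Finset.card_pair (Ne.symm hneg)]
        simp only [Finset.mem_insert, Finset.mem_singleton, not_or]
        exact ⟨zero_ne_one, by
          intro h; have : (1 : F) = 0 := by linear_combination h
          exact one_ne_zero this⟩
      have huniv : ({0, 1, -1} : Finset F) = Finset.univ := by
        apply Finset.eq_univ_of_card
        rw [hc, hq3]
      intro x
      have := Finset.mem_univ x
      rw [← huniv] at this
      simpa using this
    rcases hall (g : M2).trace with h | h | h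
    · exact h0 h
    · have hroot : (-1 : F) * (-1) - (g : M2).trace * (-1) + (g : M2).det = 0 := by
        rw [hdet, h]; linear_combination h3
      obtain ⟨v, hv, he⟩ := eigvec_of_charpoly_root _ _ hroot
      exact hg _ v hv he
    · have hroot : (1 : F) * 1 - (g : M2).trace * 1 + (g : M2).det = 0 := by
        rw [hdet, h]; linear_combination h3
      obtain ⟨v, hv, he⟩ := eigvec_of_charpoly_root _ _ hroot
      exact hg _ v hv he
  -- `g` and `-g` are conjugate in `GL₂`
  have hcoe : ((Matrix.SpecialLinearGroup.toGL g : G2) : M2) = (g : M2) := rfl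
  have hzg : ((zG F * Matrix.SpecialLinearGroup.toGL g : G2) : M2) = -(g : M2) := by
    rw [Matrix.GeneralLinearGroup.coe_mul, zG_coe, hcoe]
    simp
  have hconj : IsConj (Matrix.SpecialLinearGroup.toGL g : G2)
      (zG F * Matrix.SpecialLinearGroup.toGL g) := by
    apply gl2_isConj_of_trace_det
    · rw [hcoe]; exact hns
    · rw [hzg]
      intro hs
      apply hns
      obtain ⟨h1, h2, h3'⟩ := hs
      simp only [Matrix.neg_apply, neg_eq_zero] at h1 h2
      refine ⟨h1, h2, ?_⟩
      simp only [Matrix.neg_apply] at h3'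
      exact neg_injective h3'
    · rw [hzg, hcoe, Matrix.trace_neg, htr, neg_zero]
    · rw [hzg, hcoe, Matrix.det_neg, Fintype.card_fin]
      ring
  have e1 := irr_isConj_eq χ hconj
  rw [hcen] at e1
  have : (2 : ℂ) * (χ : G2 → ℂ) (Matrix.SpecialLinearGroup.toGL g) = 0 := by
    linear_combination e1
  rcases mul_eq_zero.mp this with h | h
  · norm_num at h
  · exact h

end QThree

end Cfsg.Agent.Lib.helper14
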