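import Cfsg.Agent.Lib.helper14.SL2Ell
import Cfsg.Agent.Lib.helper14.SL2Half2
import Cfsg.Agent.Lib.helper14.SL2Q3
import Cfsg.Agent.Lib.helper14.GL2Char3

set_option autoImplicit false
set_option linter.unusedSectionVars false
open Cfsg

/-!
# Restriction to `SL₂(q)` of the characters of `GL₂(q)` of degree `q - 1`

Values of the restriction on the elements with an eigenvalue, and the resulting sum of the squared
absolute values over the elements without eigenvalue.
-/

namespace Cfsg.Agent.Lib.helper14

open Cfsg.Agent.Lib.helper7 Cfsg.Agent.Lib.helper2 Cfsg.Agent.Lib.Helper25 Cfsg.Agent.Lib.Helper11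
open Cfsg.Agent.S2304

open scoped ComplexConjugate

section Cusp

variable {F : Type*} [Field F] [Fintype F] [DecidableEq F]
variable [Fintype (Cfsg.IrrCharacter (GL (Fin 2) F))] [Fintype (MulChar F ℂ)]

local notation "G2" => GL (Fin 2) F
local notation "S2" => Matrix.SpecialLinearGroup (Fin 2) F
local notation "M2" => Matrix (Fin 2) (Fin 2) F
local notation "Irr2" => Cfsg.IrrCharacter (GL (Fin 2) F)
local notation "IrrS" => Cfsg.IrrCharacter (Matrix.SpecialLinearGroup (Fin 2) F)

open Classical

theorem toGL_neg (s : S2) :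
    (Matrix.SpecialLinearGroup.toGL (-s) : G2) = zG F * Matrix.SpecialLinearGroup.toGL s := by
  apply Units.ext
  rw [Matrix.GeneralLinearGroup.coe_mul, zG_coe]
  show ((-s : S2) : M2) = _
  rw [Matrix.SpecialLinearGroup.coe_neg]
  show -(s : M2) = (-1 : F) • (1 : M2) * (s : M2)
  rw [Matrix.smul_mul, Matrix.one_mul, neg_smul, one_smul]

/-- the central sign of the restriction to `SL₂` -/
theorem resS_central (η : Irr2) :
    ∃ c : ℂ, c * c = 1 ∧ ∀ s : S2, resS (η : G2 → ℂ) (-s) = c * resS (η : G2 → ℂ) s := by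
  obtain ⟨c, hc⟩ := h7_central_char η.2 (zG F) (scG_mem_center _)
  refine ⟨c, ?_, ?_⟩
  · have h1 := hc (zG F * 1)
    rw [hc 1, ← mul_assoc, zG_mul_self, one_mul] at h1
    have hne : (η : G2 → ℂ) 1 ≠ 0 := irr_one_ne_zero η
    have : (η : G2 → ℂ) 1 * (c * c - 1) = 0 := by linear_combination -h1
    rcases mul_eq_zero.mp this with h | h
    · exact absurd h hne
    · linear_combination h
  · intro s
    rw [resS_apply, resS_apply, toGL_neg, hc]

theorem toGL_trace (s : S2) : ((Matrix.SpecialLinearGroup.toGL s : G2) : M2).trace = (s : M2).trace :=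
  rfl

theorem toGL_det (s : S2) : ((Matrix.SpecialLinearGroup.toGL s : G2) : M2).det = 1 := s.2

/-- value at a non-scalar element of trace `2` -/
theorem cusp_trace_two (η : Irr2) (hη : η ∈ glPsi (F := F)) (s : S2) (hs : ¬ IsScalar2 (s : M2))
    (htr : (s : M2).trace = 2) : resS (η : G2 → ℂ) s = -1 := by
  have hconj : IsConj (uG (1 : F)) (Matrix.SpecialLinearGroup.toGL s) := by
    apply gl2_isConj_of_trace_det
    · rw [uG_coe]
      rintro ⟨h, -, -⟩
      simp at h
    · exact hs
    · rw [uG_coe, toGL_trace, htr, Matrix.trace_fin_two_of]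
      norm_num
    · rw [uG_coe, toGL_det, Matrix.det_fin_two_of]
      ring
  rw [resS_apply, ← irr_isConj_eq η hconj]
  exact (glPsi_values η hη).2

/-- value at an element with two different eigenvalues -/
theorem cusp_split (η : Irr2) (hη : η ∈ glPsi (F := F)) (s : S2)
    (h2 : (s : M2).trace ≠ 2) (hm2 : (s : M2).trace ≠ -2) (hsp : ¬ NSp s) :
    resS (η : G2 → ℂ) s = 0 := by
  unfold NSp NST at hsp
  push_neg at hsp
  obtain ⟨l, hl⟩ := hsp
  have hl0 : l ≠ 0 := by
    intro h
    rw [h] at hl
    simp at hl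
  have htr : (s : M2).trace = l + l⁻¹ := by
    field_simp
    linear_combination -hl
  have hll : l ≠ l⁻¹ := by
    intro h
    have h1 : l * l = 1 := by
      nth_rewrite 2 [h]
      exact mul_inv_cancel₀ hl0
    have : (l - 1) * (l + 1) = 0 := by linear_combination h1
    rcases mul_eq_zero.mp this with h' | h'
    · apply h2
      rw [htr, ← h]
      have : l = 1 := by linear_combination h'
      rw [this]
      norm_num
    · apply hm2
      rw [htr, ← h]
      have : l = -1 := by linear_combination h'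
      rw [this]
      norm_num
  have hdet : (!![l, 0; 0, l⁻¹] : M2).det ≠ 0 := by
    rw [Matrix.det_fin_two_of]
    simp [hl0]
  set d : G2 := Matrix.GeneralLinearGroup.mkOfDetNeZero !![l, 0; 0, l⁻¹] hdet with hd
  have hdc : (d : M2) = !![l, 0; 0, l⁻¹] := rfl
  have hsns : ¬ IsScalar2 (s : M2) := by
    rintro ⟨h01, h10, h00⟩
    have hdd := sl2_det s
    rw [h01, zero_mul, sub_zero, ← h00] at hdd
    have htr' : (s : M2).trace = 2 * (s : M2) 0 0 := by
      rw [Matrix.trace_fin_two, ← h00]
      ring
    have : ((s : M2) 0 0 - 1) * ((s : M2) 0 0 + 1) = 0 := by linear_combination hdd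
    rcases mul_eq_zero.mp this with h' | h'
    · apply h2
      rw [htr']
      linear_combination 2 * h'
    · apply hm2
      rw [htr']
      linear_combination 2 * h'
  have hconj : IsConj d (Matrix.SpecialLinearGroup.toGL s) := by
    apply gl2_isConj_of_trace_det
    · rw [hdc]
      rintro ⟨-, -, h⟩
      simp at h
      exact hll h
    · exact hsns
    · rw [hdc, toGL_trace, htr, Matrix.trace_fin_two_of]
    · rw [hdc, toGL_det, Matrix.det_fin_two_of]
      simp [hl0]
  rw [resS_apply, ← irr_isConj_eq η hconj]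
  apply glPsi_diag_zero η hη d
  · rw [hdc]; simp
  · rw [hdc]; simp
  · rw [hdc]
    simpa using hll

omit [Fintype (Cfsg.IrrCharacter (GL (Fin 2) F))] [Fintype (MulChar F ℂ)] in
/-- sum over the elements of trace `2ε` of a function with one value at the scalar and another one
elsewhere -/
theorem sum_trace_const2 (ε : F) (hε : ε * ε = 1) (f : S2 → ℂ) (a c : ℂ)
    (h0 : ∀ s : S2, IsScalar2 (s : M2) → (s : M2).trace = 2 * ε → f s = a)
    (h1 : ∀ s : S2, ¬ IsScalar2 (s : M2) → (s : M2).trace = 2 * ε → f s = c) :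
    ∑ s : S2, (if (s : M2).trace = 2 * ε then f s else 0) =
      a + ((Fintype.card F : ℂ) ^ 2 - 1) * c := by
  rw [sum_trace_eq ε hε]
  have : ∀ p : F × F, f (parS ε hε p) = c + (if p = (0, 0) then a - c else 0) := by
    intro p
    by_cases hp : p = (0, 0)
    · rw [if_pos hp, hp, h0 _ (parS_zero ε hε) (parS_trace ε hε _)]
      ring
    · rw [if_neg hp, h1 _ (parS_not_scalar ε hε p hp) (parS_trace ε hε p)]
      ring
  rw [Finset.sum_congr rfl (fun p _ => this p), Finset.sum_add_distrib, Finset.sum_const,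
    Finset.sum_ite_eq' Finset.univ ((0 : F), (0 : F)), if_pos (Finset.mem_univ _), Finset.card_univ,
    Fintype.card_prod]
  simp
  ring

theorem sq_one_cases (c : ℂ) (hc : c * c = 1) : c = 1 ∨ c = -1 := by
  have : (c - 1) * (c + 1) = 0 := by linear_combination hc
  rcases mul_eq_zero.mp this with h | h
  · left; linear_combination h
  · right; linear_combination h

theorem sq_one_conj (c : ℂ) (hc : c * c = 1) : c * conj c = 1 := by
  rcases sq_one_cases c hc with h | h <;> rw [h] <;> simp

omit [Fintype (Cfsg.IrrCharacter (GL (Fin 2) F))] [Fintype (MulChar F ℂ)] in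
theorem isScalar2_neg (s : S2) (h : IsScalar2 (s : M2)) : IsScalar2 ((-s : S2) : M2) := by
  obtain ⟨h1, h2, h3⟩ := h
  rw [Matrix.SpecialLinearGroup.coe_neg]
  refine ⟨?_, ?_, ?_⟩
  · simp [h1]
  · simp [h2]
  · simp [h3]

omit [Fintype (Cfsg.IrrCharacter (GL (Fin 2) F))] [Fintype (MulChar F ℂ)] in
theorem trace_neg_sl (s : S2) : ((-s : S2) : M2).trace = -(s : M2).trace := by
  rw [Matrix.SpecialLinearGroup.coe_neg, Matrix.trace_neg]

/-- the squared absolute values of the restriction by type of element -/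
theorem cusp_abs_values (η : Irr2) (hη : η ∈ glPsi (F := F)) :
    (∀ s : S2, IsScalar2 (s : M2) → resS (η : G2 → ℂ) s * conj (resS (η : G2 → ℂ) s) =
      ((Fintype.card F : ℂ) - 1) ^ 2) ∧
    (∀ (ε : F), ε * ε = 1 → ∀ s : S2, ¬ IsScalar2 (s : M2) → (s : M2).trace = 2 * ε →
      resS (η : G2 → ℂ) s * conj (resS (η : G2 → ℂ) s) = 1) := by
  obtain ⟨c, hc, hcs⟩ := resS_central η
  have hcc := sq_one_conj c hc
  have h1 : resS (η : G2 → ℂ) 1 = (Fintype.card F : ℂ) - 1 := by
    rw [resS_one]
    exact (glPsi_values η hη).1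
  have hconj : conj ((Fintype.card F : ℂ) - 1) = (Fintype.card F : ℂ) - 1 := by
    rw [map_sub, Complex.conj_natCast, map_one]
  constructor
  · intro s hs
    rcases scalar_sl2 s hs with h | h
    · rw [h, h1, hconj]
      ring
    · rw [h, hcs 1, h1, map_mul, hconj]
      linear_combination ((Fintype.card F : ℂ) - 1) ^ 2 * hcc
  · intro ε hε s hs htr
    have : (ε - 1) * (ε + 1) = 0 := by linear_combination hε
    rcases mul_eq_zero.mp this with h | h
    · have hε1 : ε = 1 := by linear_combination h
      rw [cusp_trace_two η hη s hs (by rw [htr, hε1]; ring)]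
      simp
    · have hε1 : ε = -1 := by linear_combination h
      have hns : ¬ IsScalar2 ((-s : S2) : M2) := by
        intro h'
        apply hs
        have := isScalar2_neg (-s) h'
        rwa [neg_neg] at this
      have e : resS (η : G2 → ℂ) s = c * resS (η : G2 → ℂ) (-s) := by
        rw [← hcs (-s), neg_neg]
      rw [e, cusp_trace_two η hη (-s) hns (by rw [trace_neg_sl, htr, hε1]; ring), map_mul]
      simp only [map_neg, map_one]
      linear_combination hcc

/-- the sum of the squared absolute values of the restriction over the elements without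
eigenvalue -/
theorem cusp_sum_nsp (hodd : Odd (Fintype.card F)) (η : Irr2) (hη : η ∈ glPsi (F := F)) :
    ∑ s : S2, (if NSp s then resS (η : G2 → ℂ) s * conj (resS (η : G2 → ℂ) s) else 0) =
      (twI η : ℂ) * ((Fintype.card F : ℂ) * ((Fintype.card F : ℂ) ^ 2 - 1)) -
        2 * ((Fintype.card F : ℂ) - 1) ^ 2 - 2 * ((Fintype.card F : ℂ) ^ 2 - 1) := by
  obtain ⟨hsc, hpar⟩ := cusp_abs_values η hη
  have hq1 : 1 < Fintype.card F := Fintype.one_lt_card
  have hcardS : (Nat.card S2 : ℂ) = (Fintype.card F : ℂ) * ((Fintype.card F : ℂ) ^ 2 - 1) := by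
    rw [card_sl2]
    have : 1 ≤ Fintype.card F ^ 2 := Nat.one_le_pow _ _ (by omega)
    push_cast [Nat.cast_sub this]
    ring
  have hScard : (Nat.card S2 : ℂ) ≠ 0 := by exact_mod_cast Nat.card_pos.ne'
  have hall : ∑ s : S2, resS (η : G2 → ℂ) s * conj (resS (η : G2 → ℂ) s) =
      (twI η : ℂ) * (Nat.card S2 : ℂ) := by
    have := resS_norm η
    unfold Cfsg.classInner at this
    field_simp at this
    linear_combination this
  have hsplit : ∑ s : S2, (if (s : M2).trace ≠ 2 ∧ (s : M2).trace ≠ -2 ∧ ¬ NSp s then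
      resS (η : G2 → ℂ) s * conj (resS (η : G2 → ℂ) s) else 0) = 0 := by
    apply Finset.sum_eq_zero
    intro s _
    split_ifs with h
    · rw [cusp_split η hη s h.1 h.2.1 h.2.2, zero_mul]
    · rfl
  have h := sum_by_type hodd (fun s : S2 => resS (η : G2 → ℂ) s * conj (resS (η : G2 → ℂ) s))
  rw [hall, hcardS, sum_trace_const2 1 (by ring) _ (((Fintype.card F : ℂ) - 1) ^ 2) 1
      (fun s hs _ => hsc s hs) (hpar 1 (by ring)),
    sum_trace_const2 (-1) (by ring) _ (((Fintype.card F : ℂ) - 1) ^ 2) 1
      (fun s hs _ => hsc s hs) (hpar (-1) (by ring)), hsplit] at h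
  linear_combination -h

end Cusp

end Cfsg.Agent.Lib.helper14
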