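import Cfsg.Agent.Lib.helper14.SL2Blocks
import Cfsg.Agent.Lib.helper14.SL2Cusp
import Cfsg.Agent.Lib.helper14.SL2Half2
import Cfsg.Agent.S2299
import Cfsg.Agent.S0914

/-!
# `p`-blocks of `SL₂(q)` in the defining characteristic (`q` odd): characters

Degrees prime to `p`, uniqueness of the character of degree `q`, and the criterion for two
characters of degree prime to `p` to lie in the same block.
-/

set_option autoImplicit false
open Cfsg

namespace Cfsg.Agent.Lib.helper14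

open Cfsg.Agent.Lib.helper7 Cfsg.Agent.Lib.helper2 Cfsg.Agent.Lib.Helper25
open Cfsg.Agent.Lib.helper15 Cfsg.Agent.S2304 Cfsg.Agent.S2299
open scoped ComplexConjugate

section Blocks2

variable {F : Type*} [Field F] [Fintype F] [DecidableEq F]
variable [Fintype (Cfsg.IrrCharacter (GL (Fin 2) F))] [Fintype (MulChar F ℂ)]
variable [Fintype (Cfsg.IrrCharacter (Matrix.SpecialLinearGroup (Fin 2) F))]

local notation "G2" => GL (Fin 2) F
local notation "S2" => Matrix.SpecialLinearGroup (Fin 2) F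
local notation "M2" => Matrix (Fin 2) (Fin 2) F
local notation "Irr2" => Cfsg.IrrCharacter (GL (Fin 2) F)
local notation "IrrS" => Cfsg.IrrCharacter (Matrix.SpecialLinearGroup (Fin 2) F)

open Classical

omit [DecidableEq F] [Fintype (Cfsg.IrrCharacter (GL (Fin 2) F))] [Fintype (MulChar F ℂ)]
  [Fintype (Cfsg.IrrCharacter (Matrix.SpecialLinearGroup (Fin 2) F))] in
/-- the degrees different from `q` are prime to `p` -/
theorem sl2_degree_coprime (p : ℕ) [Fact p.Prime] [CharP F p] (hp : p ≠ 2) (χ : IrrS)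
    (hχ : (χ : S2 → ℂ) 1 ≠ (Fintype.card F : ℂ)) :
    ∃ d : ℕ, (χ : S2 → ℂ) 1 = (d : ℂ) ∧ d.Coprime p := by
  have hpp : p.Prime := Fact.out
  have hodd := odd_card_of_char (F := F) p hp
  have hpq := char_dvd_card (F := F) p
  have hq1 : 1 < Fintype.card F := Fintype.one_lt_card
  obtain ⟨k, hk⟩ := hodd
  have hcop : ∀ d : ℕ, (d ∣ Fintype.card F + 1 ∨ d ∣ Fintype.card F - 1) → d.Coprime p := by
    intro d hd
    apply Nat.Coprime.symm
    rw [Nat.Prime.coprime_iff_not_dvd hpp]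
    intro h
    rcases hd with hd | hd
    · have := (Nat.dvd_add_right hpq).mp (h.trans hd)
      exact hpp.one_lt.ne' (Nat.dvd_one.mp this)
    · have h5 : p ∣ Fintype.card F - 1 + 1 := by
        rw [Nat.sub_add_cancel (by omega)]
        exact hpq
      have := (Nat.dvd_add_right (h.trans hd)).mp h5
      exact hpp.one_lt.ne' (Nat.dvd_one.mp this)
  rcases (Cfsg.Agent.S2299.result ⟨k, hk⟩).1 χ χ.2 with h | h | h | h | h | h
  · exact ⟨1, by rw [h]; simp, Nat.coprime_one_left p⟩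
  · exact absurd h hχ
  · exact ⟨Fintype.card F + 1, by rw [h]; simp, hcop _ (Or.inl dvd_rfl)⟩
  · refine ⟨Fintype.card F - 1, ?_, hcop _ (Or.inr dvd_rfl)⟩
    rw [h, Nat.cast_sub (by omega)]
    simp
  · exact ⟨(Fintype.card F + 1) / 2, h, hcop _ (Or.inl (Nat.div_dvd_of_dvd ⟨k + 1, by omega⟩))⟩
  · exact ⟨(Fintype.card F - 1) / 2, h, hcop _ (Or.inr (Nat.div_dvd_of_dvd ⟨k, by omega⟩))⟩

/-- there is exactly one irreducible character of degree `q`, and it is trivial on the centre -/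
theorem sl2_steinberg_unique (hodd : Odd (Fintype.card F)) :
    ∃ St : IrrS, (St : S2 → ℂ) 1 = (Fintype.card F : ℂ) ∧
      (St : S2 → ℂ) (-1) = (Fintype.card F : ℂ) ∧
      ∀ χ : IrrS, (χ : S2 → ℂ) 1 = (Fintype.card F : ℂ) → χ = St := by
  have hq3 : 3 ≤ Fintype.card F := by
    have h2 : 2 ≤ Fintype.card F := Fintype.one_lt_card
    obtain ⟨k, hk⟩ := hodd
    omega
  obtain ⟨t1, t2, t3, t4⟩ := tG_values (F := F) hq3
  have bq := bG_q (F := F) hq3 hodd
  have s := star_nat (F := F) (Fintype.card F) (by omega)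
  have ab := a_add_b (F := F) (Fintype.card F)
  have ab' := a_add_b (F := F) (2 * Fintype.card F)
  have z : tG F (2 * Fintype.card F) = 0 :=
    tG_zero _ (by omega) (by omega) (by omega) (by omega)
  have hn : nS F (Fintype.card F) = 1 := by
    have h1 : (Fintype.card F - 1) * nS F (Fintype.card F) = (Fintype.card F - 1) * 1 := by
      rw [s]
      omega
    exact Nat.eq_of_mul_eq_mul_left (by omega) h1
  unfold nS at hn
  obtain ⟨St, hSt⟩ := Finset.card_eq_one.mp hn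
  have hmem : ∀ χ : IrrS, (χ : S2 → ℂ) 1 = (Fintype.card F : ℂ) → χ = St := by
    intro χ hχ
    have : χ ∈ Finset.univ.filter (fun ψ : IrrS => (ψ : S2 → ℂ) 1 = ((Fintype.card F : ℕ) : ℂ)) := by
      rw [Finset.mem_filter]
      exact ⟨Finset.mem_univ _, hχ⟩
    rw [hSt, Finset.mem_singleton] at this
    exact this
  -- the restriction of the Steinberg character of `GL₂`
  have hirr : Cfsg.IsIrrCharacter S2 (resS ((glSt (1 : MulChar F ℂ) : Irr2) : G2 → ℂ)) := by
    have hnorm := resS_norm (glSt (1 : MulChar F ℂ))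
    rw [twI_glSt hodd, Nat.cast_one] at hnorm
    exact h7_irr_of_norm_one (isCharacter_resS _) hnorm
  have hdeg : resS ((glSt (1 : MulChar F ℂ) : Irr2) : G2 → ℂ) 1 = (Fintype.card F : ℂ) := by
    rw [resS_one, glSt_one]
  have heq := hmem ⟨_, hirr⟩ hdeg
  refine ⟨St, ?_, ?_, hmem⟩
  · rw [← heq]
    exact hdeg
  · rw [← heq]
    show resS ((glSt (1 : MulChar F ℂ) : Irr2) : G2 → ℂ) (-1) = _
    rw [resS_apply, toGL_neg, map_one, mul_one, glSt_zG]

omit [DecidableEq F] [Fintype (Cfsg.IrrCharacter (GL (Fin 2) F))] [Fintype (MulChar F ℂ)]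
  [Fintype (Cfsg.IrrCharacter (Matrix.SpecialLinearGroup (Fin 2) F))] in
/-- two irreducible characters of degree prime to `p` with the same central sign lie in the same
`p`-block -/
theorem sl2_sameBlock_of_sign (p : ℕ) [Fact p.Prime] [CharP F p] (hp : p ≠ 2)
    (M : Ideal Cfsg.AlgInt) (hM : Cfsg.IsPModular p M) (χ ψ : IrrS) (dχ dψ : ℕ)
    (hdχ : (χ : S2 → ℂ) 1 = (dχ : ℂ)) (hcχ : dχ.Coprime p)
    (hdψ : (ψ : S2 → ℂ) 1 = (dψ : ℂ)) (hcψ : dψ.Coprime p)
    (hsign : (χ : S2 → ℂ) (-1) * (ψ : S2 → ℂ) 1 = (ψ : S2 → ℂ) (-1) * (χ : S2 → ℂ) 1) :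
    Cfsg.SameBlock M (χ : S2 → ℂ) (ψ : S2 → ℂ) := by
  have hpp : p.Prime := Fact.out
  have hMp := h7_isPrime_of_isPModular hM
  have hodd := odd_card_of_char (F := F) p hp
  have hpq := char_dvd_card (F := F) p
  have hq1 : 1 < Fintype.card F := Fintype.one_lt_card
  obtain ⟨r, hpr, hq⟩ := FiniteField.card F p
  have hmn : Nat.card S2 = Fintype.card F * (Fintype.card F ^ 2 - 1) := card_sl2
  have hsq : 1 ≤ Fintype.card F ^ 2 := Nat.one_le_pow _ _ (by omega)
  have hpn : ¬ p ∣ Fintype.card F ^ 2 - 1 := by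
    intro h
    have h5 : p ∣ Fintype.card F ^ 2 - 1 + 1 := by
      rw [Nat.sub_add_cancel hsq]
      exact Dvd.dvd.trans hpq (dvd_pow_self _ (by norm_num))
    have := (Nat.dvd_add_right h).mp h5
    exact hpp.one_lt.ne' (Nat.dvd_one.mp this)
  have hcop : Nat.Coprime (Fintype.card F) (Fintype.card F ^ 2 - 1) := by
    rw [hq]
    apply Nat.Coprime.pow_left
    rw [Nat.Prime.coprime_iff_not_dvd hpp]
    rw [← hq]
    exact hpn
  obtain ⟨e, e', hme, hen, hne', -, hee⟩ := exists_crt_exponent _ _ hcop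
  have hdχ0 : (dχ : ℂ) ≠ 0 := by
    rw [← hdχ]
    exact irr_one_ne_zero χ
  have hdψ0 : (dψ : ℂ) ≠ 0 := by
    rw [← hdψ]
    exact irr_one_ne_zero ψ
  intro g
  have hkχ : Cfsg.MemLocalIdeal M ((χ : S2 → ℂ) g - (χ : S2 → ℂ) (g ^ e)) :=
    char_sub_pow_crt_memLocalIdeal hM hmn (by rw [hq]) hne' hee (isCharacter_of_irr χ) g
  have hkψ : Cfsg.MemLocalIdeal M ((ψ : S2 → ℂ) g - (ψ : S2 → ℂ) (g ^ e)) :=
    char_sub_pow_crt_memLocalIdeal hM hmn (by rw [hq]) hne' hee (isCharacter_of_irr ψ) g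
  by_cases hz : IsScalar2 ((g ^ e : S2) : M2)
  · -- the `p'`-part is central
    have hval : (χ : S2 → ℂ) (g ^ e) * (dχ : ℂ)⁻¹ = (ψ : S2 → ℂ) (g ^ e) * (dψ : ℂ)⁻¹ := by
      rcases scalar_sl2 _ hz with h | h
      · rw [h, hdχ, hdψ, mul_inv_cancel₀ hdχ0, mul_inv_cancel₀ hdψ0]
      · rw [h]
        rw [hdχ, hdψ] at hsign
        field_simp
        linear_combination hsign
    have hexp : Cfsg.centralChar (χ : S2 → ℂ) g - Cfsg.centralChar (ψ : S2 → ℂ) g =
        ((Subgroup.centralizer ({g} : Set S2)).index : ℂ) *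
          (((χ : S2 → ℂ) g - (χ : S2 → ℂ) (g ^ e)) * (dχ : ℂ)⁻¹ -
            ((ψ : S2 → ℂ) g - (ψ : S2 → ℂ) (g ^ e)) * (dψ : ℂ)⁻¹) := by
      unfold Cfsg.centralChar
      rw [hdχ, hdψ]
      have : ((χ : S2 → ℂ) g - (χ : S2 → ℂ) (g ^ e)) * (dχ : ℂ)⁻¹ -
            ((ψ : S2 → ℂ) g - (ψ : S2 → ℂ) (g ^ e)) * (dψ : ℂ)⁻¹ =
          (χ : S2 → ℂ) g * (dχ : ℂ)⁻¹ - (ψ : S2 → ℂ) g * (dψ : ℂ)⁻¹ := by
        linear_combination -hval
      rw [this]
      ring
    rw [hexp]
    apply h7_memLocalIdeal_mul_left hMp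
    · have := h7_memLocalRing_of_algInt hMp (M := M)
        (((Subgroup.centralizer ({g} : Set S2)).index : ℕ) : Cfsg.AlgInt)
      simpa using this
    · apply h7_memLocalIdeal_sub hMp
      · exact h7_memLocalIdeal_mul_right hMp hkχ (h7_memLocalRing_inv_natCast hM dχ hcχ)
      · exact h7_memLocalIdeal_mul_right hMp hkψ (h7_memLocalRing_inv_natCast hM dψ hcψ)
  · -- the `p'`-part is not central: the class size is divisible by `p`
    have hord : ¬ p ∣ orderOf (g ^ e) := by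
      intro h
      exact hpn (h.trans (orderOf_pow_crt_dvd hmn hme g))
    have h1 := dvd_index_of_nonscalar p hp (g ^ e) hz hord
    have hle : Subgroup.centralizer ({g} : Set S2) ≤ Subgroup.centralizer ({g ^ e} : Set S2) := by
      intro x hx
      rw [Subgroup.mem_centralizer_singleton_iff] at hx ⊢
      have hc : Commute x g := hx
      exact (hc.pow_right e).eq
    have h2 : p ∣ (Subgroup.centralizer ({g} : Set S2)).index :=
      h1.trans (Subgroup.index_dvd_of_le hle)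
    exact h7_memLocalIdeal_sub hMp
      (memLocalIdeal_centralChar_of_dvd hM χ dχ hdχ hcχ g h2)
      (memLocalIdeal_centralChar_of_dvd hM ψ dψ hdψ hcψ g h2)

end Blocks2

end Cfsg.Agent.Lib.helper14
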