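import Cfsg.Agent.Lib.helper14.SL2Cusp
import Cfsg.Agent.Lib.helper14.AbRes2
import Cfsg.Agent.S2435

/-!
# Restriction of the characters of degree `q - 1` of `SL₂(q)` to the non-split torus

For an irreducible character of `GL₂(q)` of degree `q - 1` whose restriction `E` to `SL₂(q)` is
irreducible, the restriction of `E` to the centraliser `C` of an element without eigenvalue
is `ρ_C`-like: there is a non-real linear character `θ` of `C` with `E = -θ - conj θ` off the
centre.
-/

set_option autoImplicit false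
open Cfsg

namespace Cfsg.Agent.Lib.helper14

open Cfsg.Agent.Lib.helper7 Cfsg.Agent.Lib.helper2 Cfsg.Agent.Lib.Helper25
open Cfsg.Agent.S2304 Cfsg.Agent.S2307 Cfsg.Agent.S2435
open scoped ComplexConjugate

section Cusp2

variable {F : Type*} [Field F] [Fintype F] [DecidableEq F]
variable [Fintype (Cfsg.IrrCharacter (GL (Fin 2) F))] [Fintype (MulChar F ℂ)]

local notation "G2" => GL (Fin 2) F
local notation "S2" => Matrix.SpecialLinearGroup (Fin 2) F
local notation "M2" => Matrix (Fin 2) (Fin 2) F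
local notation "Irr2" => Cfsg.IrrCharacter (GL (Fin 2) F)
local notation "IrrS" => Cfsg.IrrCharacter (Matrix.SpecialLinearGroup (Fin 2) F)

open Classical

omit [Fintype F] [DecidableEq F] [Fintype (Cfsg.IrrCharacter (GL (Fin 2) F))]
  [Fintype (MulChar F ℂ)] in
/-- a real-valued linear character of a cyclic group is determined by its value `±1` at a
generator -/
theorem real_linear_cyclic {A : Type*} [CommGroup A] [Finite A] (γ : A)
    (hγ : ∀ x : A, x ∈ Subgroup.zpowers γ) (θ₁ θ₂ : Cfsg.IrrCharacter A)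
    (h1 : (θ₁ : A → ℂ) γ = (θ₂ : A → ℂ) γ) : θ₁ = θ₂ := by
  apply Subtype.ext
  funext x
  obtain ⟨k, rfl⟩ := Subgroup.mem_zpowers_iff.mp (hγ x)
  have e1 := irrLinearHom_apply θ₁ (irr_one_of_comm θ₁)
  have e2 := irrLinearHom_apply θ₂ (irr_one_of_comm θ₂)
  show (θ₁ : A → ℂ) (γ ^ k) = (θ₂ : A → ℂ) (γ ^ k)
  rw [← e1, ← e2, map_zpow, map_zpow, Units.val_zpow_eq_zpow_val, Units.val_zpow_eq_zpow_val, e1, e2,
    h1]

/-- the restriction to the non-split torus of an irreducible restriction of degree `q - 1` -/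
theorem typeA_core (hodd : Odd (Fintype.card F)) (m : ℕ) (hm1 : 1 ≤ m)
    (hm : Fintype.card F = 2 * m + 1) (η : Irr2) (hη : η ∈ glPsi (F := F)) (ht : twI η = 1)
    (g : S2) (hg : NSp g) :
    ∃ (c : ℂ) (θ : Cfsg.IrrCharacter ↥(Subgroup.centralizer ({g} : Set S2))),
      c * c = 1 ∧ (∀ s : S2, resS (η : G2 → ℂ) (-s) = c * resS (η : G2 → ℂ) s) ∧
      irrConj θ ≠ θ ∧
      (∀ x : ↥(Subgroup.centralizer ({g} : Set S2)), (x : S2) = -1 →
        (θ : ↥(Subgroup.centralizer ({g} : Set S2)) → ℂ) x = c) ∧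
      Cfsg.classInner (fun x : ↥(Subgroup.centralizer ({g} : Set S2)) =>
        resS (η : G2 → ℂ) (x : S2)) (θ : ↥(Subgroup.centralizer ({g} : Set S2)) → ℂ) = 1 ∧
      Cfsg.classInner (fun x : ↥(Subgroup.centralizer ({g} : Set S2)) =>
        resS (η : G2 → ℂ) (x : S2))
          (irrConj θ : ↥(Subgroup.centralizer ({g} : Set S2)) → ℂ) = 1 ∧
      (∀ μ : Cfsg.IrrCharacter ↥(Subgroup.centralizer ({g} : Set S2)),
        Cfsg.classInner (fun x : ↥(Subgroup.centralizer ({g} : Set S2)) =>
          resS (η : G2 → ℂ) (x : S2)) (μ : ↥(Subgroup.centralizer ({g} : Set S2)) → ℂ) = 1 →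
          μ = θ ∨ μ = irrConj θ) ∧
      ∀ x : ↥(Subgroup.centralizer ({g} : Set S2)), ¬ IsScalar2 ((x : S2) : M2) →
        resS (η : G2 → ℂ) (x : S2) =
          -(θ : ↥(Subgroup.centralizer ({g} : Set S2)) → ℂ) x -
            conj ((θ : ↥(Subgroup.centralizer ({g} : Set S2)) → ℂ) x) := by
  have h2 := two_ne_zero_of_odd_card hodd
  have hgns := Cfsg.Agent.Lib.helper15.nonscalar_of_nonsplit g hg
  haveI : Fintype IrrS := Fintype.ofFinite _
  set C := Subgroup.centralizer ({g} : Set S2) with hC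
  letI : CommGroup ↥C :=
    { (inferInstance : Group ↥C) with
      mul_comm := fun a b =>
        Subtype.ext (Cfsg.Agent.Lib.helper15.centralizer_comm g hgns a b a.2 b.2) }
  haveI : IsCyclic ↥C :=
    Cfsg.Agent.Lib.helper15.isCyclic_centralizer g hgns (fun c hc => absurd hc (hg c))
  have hcardC : Fintype.card ↥C = 2 * (m + 1) := by
    rw [← Nat.card_eq_fintype_card, card_centralizer_nsp hodd g hg, hm]
    ring
  have hqC : (Fintype.card F : ℂ) = 2 * (m : ℂ) + 1 := by
    rw [hm]
    push_cast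
    ring
  have hm0 : (m : ℂ) ≠ 0 := by
    have : m ≠ 0 := by omega
    exact_mod_cast this
  have h2m1 : (2 * (m : ℂ) + 1) ≠ 0 := by
    have : 2 * m + 1 ≠ 0 := by omega
    exact_mod_cast this
  have hne : (2 * (m : ℂ) + 1) * (2 * (m : ℂ) + 1 - 1) ≠ 0 := by
    refine mul_ne_zero h2m1 ?_
    intro h
    apply hm0
    linear_combination (1 / 2 : ℂ) * h
  -- the central sign
  obtain ⟨c, hc, hcs⟩ := resS_central η
  have hccases := sq_one_cases c hc
  have hcconj : conj c = c := by
    rcases hccases with h | h <;> rw [h] <;> simp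
  -- the scalar elements of the torus
  have hzC : (-1 : S2) ∈ C := by
    rw [hC, Subgroup.mem_centralizer_singleton_iff, neg_one_mul, mul_neg_one]
  set z : ↥C := ⟨-1, hzC⟩ with hz
  have hz1 : z ≠ 1 := by
    intro h
    have h' : (-1 : S2) = 1 := congrArg Subtype.val h
    have h'' := congrArg (fun s : S2 => (s : M2) 0 0) h'
    simp only [Matrix.SpecialLinearGroup.coe_neg, Matrix.SpecialLinearGroup.coe_one,
      Matrix.neg_apply, Matrix.one_apply_eq] at h''
    apply h2
    linear_combination -h''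
  have hz2 : z * z = 1 := by
    apply Subtype.ext
    show (-1 : S2) * (-1) = 1
    rw [neg_one_mul, neg_neg]
  have hscal : ∀ x : ↥C, IsScalar2 ((x : S2) : M2) ↔ x = 1 ∨ x = z := by
    intro x
    constructor
    · intro h
      rcases scalar_sl2 (x : S2) h with h' | h'
      · left; exact Subtype.ext h'
      · right; exact Subtype.ext h'
    · rintro (h | h)
      · rw [h]
        show IsScalar2 ((1 : S2) : M2)
        rw [Matrix.SpecialLinearGroup.coe_one]
        refine ⟨?_, ?_, ?_⟩ <;> simp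
      · rw [h]
        show IsScalar2 ((-1 : S2) : M2)
        rw [Matrix.SpecialLinearGroup.coe_neg, Matrix.SpecialLinearGroup.coe_one]
        refine ⟨?_, ?_, ?_⟩ <;> simp
  have hnsp : ∀ x : ↥C, ¬ IsScalar2 ((x : S2) : M2) → NSp (x : S2) :=
    fun x hx => nsp_of_mem_centralizer g hg x x.2 hx
  have hEcl : ∀ a b : S2, resS (η : G2 → ℂ) (b * a * b⁻¹) = resS (η : G2 → ℂ) a :=
    isCharacter_isClassFunction (isCharacter_resS η)
  have hE1 : resS (η : G2 → ℂ) 1 = 2 * (m : ℂ) := by
    rw [resS_one, (glPsi_values η hη).1, hqC]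
    ring
  have hEz : resS (η : G2 → ℂ) (-1) = c * (2 * (m : ℂ)) := by
    rw [hcs 1, hE1]
  -- the norm of the restriction to the torus
  have hsumE : ∑ x : ↥C, (if IsScalar2 ((x : S2) : M2) then 0 else
      resS (η : G2 → ℂ) (x : S2) * conj (resS (η : G2 → ℂ) (x : S2))) = 4 * (m : ℂ) - 4 := by
    have hs := sum_nsp_eq (fun s : S2 => resS (η : G2 → ℂ) s * conj (resS (η : G2 → ℂ) s))
      (fun a b => by simp only [hEcl]) hodd g hg
    rw [cusp_sum_nsp hodd η hη, ht, hqC] at hs
    apply mul_left_cancel₀ hne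
    push_cast at hs
    linear_combination -hs
  set EC : ↥C → ℂ := fun x => resS (η : G2 → ℂ) (x : S2) with hEC
  have hECchar : Cfsg.IsCharacter ↥C EC := isCharacter_restrict (isCharacter_resS η) C
  have hzmul : ∀ a : ↥C, ((z * a : ↥C) : S2) = -(a : S2) := by
    intro a
    show (-1 : S2) * (a : S2) = _
    rw [neg_one_mul]
  have hzE : ∀ a : ↥C, EC (z * a) = c * EC a := by
    intro a
    show resS (η : G2 → ℂ) ((z * a : ↥C) : S2) = c * resS (η : G2 → ℂ) (a : S2)
    rw [hzmul, hcs]
  have hm1C : ((m : ℂ) + 1) ≠ 0 := by exact_mod_cast (Nat.succ_ne_zero m)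
  have hnorm : Cfsg.classInner EC EC = 4 * ((m + 1 : ℕ) : ℂ) - 6 := by
    unfold Cfsg.classInner
    rw [Nat.card_eq_fintype_card, hcardC]
    have hsplit : ∀ x : ↥C, EC x * conj (EC x) =
        (if IsScalar2 ((x : S2) : M2) then EC x * conj (EC x) else 0) +
        (if IsScalar2 ((x : S2) : M2) then 0 else
          resS (η : G2 → ℂ) (x : S2) * conj (resS (η : G2 → ℂ) (x : S2))) := by
      intro x
      split_ifs <;> simp [hEC]
    rw [Finset.sum_congr rfl (fun x _ => hsplit x), Finset.sum_add_distrib, hsumE,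
      sum_two_points _ 1 z hz1.symm hscal]
    have key : EC 1 * conj (EC 1) + EC z * conj (EC z) + (4 * (m : ℂ) - 4) =
        2 * ((m : ℂ) + 1) * (4 * (m : ℂ) - 2) := by
      show resS (η : G2 → ℂ) ((1 : ↥C) : S2) * conj (resS (η : G2 → ℂ) ((1 : ↥C) : S2)) +
        resS (η : G2 → ℂ) (-1) * conj (resS (η : G2 → ℂ) (-1)) + (4 * (m : ℂ) - 4) = _
      rw [Subgroup.coe_one, hEz, hE1]
      simp only [map_mul, map_ofNat, Complex.conj_natCast, hcconj]
      linear_combination (4 * (m : ℂ) ^ 2) * hc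
    rw [key]
    push_cast
    field_simp
    ring
  have hd : EC 1 = 2 * ((m + 1 : ℕ) : ℂ) - 2 := by
    show resS (η : G2 → ℂ) ((1 : ↥C) : S2) = _
    rw [Subgroup.coe_one, hE1]
    push_cast
    ring
  obtain ⟨θ₁, θ₂, hne12, hθ₁z, hθ₂z, hin1, hin2, huniq, hval⟩ :=
    ab_res_two z hz1 hz2 c hccases EC hECchar hzE (m + 1) (by omega) hcardC hd hnorm
  have hθ1 : ∀ θ : Cfsg.IrrCharacter ↥C, (θ : ↥C → ℂ) 1 = 1 := irr_one_of_comm
  have hθmc : ∀ (θ : Cfsg.IrrCharacter ↥C) (x : ↥C),
      (θ : ↥C → ℂ) x * conj ((θ : ↥C → ℂ) x) = 1 :=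
    fun θ x => irr_linear_mul_conj θ (hθ1 θ) x
  have hEθ : ∀ x : ↥C, ¬ IsScalar2 ((x : S2) : M2) →
      resS (η : G2 → ℂ) (x : S2) = -(θ₁ : ↥C → ℂ) x - (θ₂ : ↥C → ℂ) x := by
    intro x hx
    apply hval x
    · intro h
      exact hx ((hscal x).mpr (Or.inl h))
    · intro h
      exact hx ((hscal x).mpr (Or.inr h))
  -- the restriction is real-valued
  have hreal : ∀ x : ↥C, conj (EC x) = EC x := by
    intro x
    by_cases hx : IsScalar2 ((x : S2) : M2)
    · rcases (hscal x).mp hx with h | h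
      · rw [h]
        show conj (resS (η : G2 → ℂ) ((1 : ↥C) : S2)) = resS (η : G2 → ℂ) ((1 : ↥C) : S2)
        rw [Subgroup.coe_one, hE1]
        simp only [map_mul, map_ofNat, Complex.conj_natCast]
      · rw [h]
        show conj (resS (η : G2 → ℂ) (-1)) = resS (η : G2 → ℂ) (-1)
        rw [hEz]
        simp only [map_mul, map_ofNat, Complex.conj_natCast, hcconj]
    · have hxn := hnsp x hx
      have h1 : resS (η : G2 → ℂ) ((x : S2)⁻¹) = resS (η : G2 → ℂ) (x : S2) := by
        obtain ⟨y, hy⟩ := isConj_iff.mp (nsp_isConj_of_trace hodd (x : S2) (x : S2)⁻¹ hxn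
          (Cfsg.Agent.Lib.helper15.inv_trace (x : S2)))
        rw [← hy, hEcl]
      have h2' : resS (η : G2 → ℂ) ((x : S2)⁻¹) = conj (resS (η : G2 → ℂ) (x : S2)) := by
        rw [resS_apply, resS_apply, map_inv]
        exact irr_inv η _
      show conj (resS (η : G2 → ℂ) (x : S2)) = resS (η : G2 → ℂ) (x : S2)
      rw [← h2', h1]
  have hconj1 := ab_real_mult EC hreal θ₁ 1 (by rw [hin1]; simp)
  rw [Nat.cast_one] at hconj1
  have hconj2 := ab_real_mult EC hreal θ₂ 1 (by rw [hin2]; simp)
  rw [Nat.cast_one] at hconj2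
  rcases huniq _ hconj1 with hc1 | hc1
  · -- both characters are real: impossible
    exfalso
    have hc2 : irrConj θ₂ = θ₂ := by
      rcases huniq _ hconj2 with h | h
      · exfalso
        apply hne12
        have e : irrConj (irrConj θ₂) = θ₂ := by
          apply Subtype.ext
          funext k
          show conj (conj ((θ₂ : ↥C → ℂ) k)) = (θ₂ : ↥C → ℂ) k
          exact Complex.conj_conj _
        rw [← e, h, hc1]
      · exact h
    -- the sum of the restriction over the torus
    have hirrE : Cfsg.IsIrrCharacter S2 (resS (η : G2 → ℂ)) := by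
      have hn := resS_norm η
      rw [ht, Nat.cast_one] at hn
      exact h7_irr_of_norm_one (isCharacter_resS η) hn
    have hS0 : ∑ s : S2, resS (η : G2 → ℂ) s = 0 := by
      apply sum_irr_eq_zero _ hirrE
      rw [hE1]
      intro h
      have h' : ((2 * m : ℕ) : ℂ) = ((1 : ℕ) : ℂ) := by
        push_cast
        exact h
      have := Nat.cast_injective h'
      omega
    have hT : ∑ x : ↥C, (if IsScalar2 ((x : S2) : M2) then 0 else
        resS (η : G2 → ℂ) (x : S2)) = 2 * (1 + c) := by
      have h1 := cusp_sum_by_type hodd η hη c hcs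
      have h3 := sum_nsp_eq (fun s : S2 => resS (η : G2 → ℂ) s) hEcl hodd g hg
      rw [hS0] at h1
      rw [hqC] at h1 h3
      apply mul_left_cancel₀ hne
      linear_combination -h3 - 2 * h1
    have hsum : ∑ x : ↥C, ((θ₁ : ↥C → ℂ) x + (θ₂ : ↥C → ℂ) x) = 0 := by
      have hsplit : ∀ x : ↥C, (θ₁ : ↥C → ℂ) x + (θ₂ : ↥C → ℂ) x =
          (if IsScalar2 ((x : S2) : M2) then (θ₁ : ↥C → ℂ) x + (θ₂ : ↥C → ℂ) x else 0) -
          (if IsScalar2 ((x : S2) : M2) then 0 else resS (η : G2 → ℂ) (x : S2)) := by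
        intro x
        split_ifs with h
        · ring
        · rw [hEθ x h]
          ring
      rw [Finset.sum_congr rfl (fun x _ => hsplit x), Finset.sum_sub_distrib, hT,
        sum_two_points _ 1 z hz1.symm hscal, hθ1, hθ1, hθ₁z, hθ₂z]
      ring
    -- the sum of a linear character
    have hsumθ : ∀ θ : Cfsg.IrrCharacter ↥C, θ ≠ trivIrr ↥C → ∑ x : ↥C, (θ : ↥C → ℂ) x = 0 := by
      intro θ hθ
      have h := irr_classInner θ (trivIrr ↥C)
      rw [if_neg hθ] at h
      unfold Cfsg.classInner at h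
      have hG : (Nat.card ↥C : ℂ) ≠ 0 := by exact_mod_cast Nat.card_pos.ne'
      rcases mul_eq_zero.mp h with h' | h'
      · exact absurd (inv_eq_zero.mp h') hG
      · rw [← h']
        apply Finset.sum_congr rfl
        intro s _
        simp
    have hsumtriv : ∑ x : ↥C, (trivIrr ↥C : ↥C → ℂ) x = (Fintype.card ↥C : ℂ) := by
      simp
    have hcardne : (Fintype.card ↥C : ℂ) ≠ 0 := by
      rw [hcardC]
      have : 2 * (m + 1) ≠ 0 := by omega
      exact_mod_cast this
    rw [Finset.sum_add_distrib] at hsum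
    have hnt1 : θ₁ ≠ trivIrr ↥C := by
      intro h
      have h' : θ₂ ≠ trivIrr ↥C := fun h' => hne12 (h.trans h'.symm)
      rw [hsumθ θ₂ h', h, hsumtriv, add_zero] at hsum
      exact hcardne hsum
    have hnt2 : θ₂ ≠ trivIrr ↥C := by
      intro h
      rw [hsumθ θ₁ hnt1, h, hsumtriv, zero_add] at hsum
      exact hcardne hsum
    obtain ⟨γ, hγ⟩ := IsCyclic.exists_generator (α := ↥C)
    have hpm : ∀ θ : Cfsg.IrrCharacter ↥C, irrConj θ = θ → θ ≠ trivIrr ↥C →
        (θ : ↥C → ℂ) γ = -1 := by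
      intro θ hre hnt
      have h3 : conj ((θ : ↥C → ℂ) γ) = (θ : ↥C → ℂ) γ := by
        rw [← irrConj_apply, hre]
      have h4 := hθmc θ γ
      rw [h3] at h4
      rcases sq_one_cases _ h4 with h | h
      · exfalso
        apply hnt
        apply real_linear_cyclic γ hγ
        rw [h]
        rfl
      · exact h
    apply hne12
    apply real_linear_cyclic γ hγ
    rw [hpm θ₁ hc1 hnt1, hpm θ₂ hc2 hnt2]
  · refine ⟨c, θ₁, hc, hcs, ?_, ?_, hin1, hconj1, ?_, ?_⟩
    · rw [hc1]
      exact hne12.symm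
    · intro x hx
      have : x = z := Subtype.ext hx
      rw [this, hθ₁z]
    · intro μ hμ
      rw [hc1]
      exact huniq μ hμ
    · intro x hx
      rw [hEθ x hx, ← irrConj_apply, hc1]

/-- a restriction of degree `q - 1` is determined by its central sign and its values on the
non-split torus -/
theorem cusp_ext (hodd : Odd (Fintype.card F)) (η η' : Irr2) (hη : η ∈ glPsi (F := F))
    (hη' : η' ∈ glPsi (F := F)) (c : ℂ)
    (hcs : ∀ s : S2, resS (η : G2 → ℂ) (-s) = c * resS (η : G2 → ℂ) s)
    (hcs' : ∀ s : S2, resS (η' : G2 → ℂ) (-s) = c * resS (η' : G2 → ℂ) s)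
    (g : S2) (hg : NSp g)
    (h : ∀ x : S2, x ∈ Subgroup.centralizer ({g} : Set S2) → ¬ IsScalar2 (x : M2) →
      resS (η : G2 → ℂ) x = resS (η' : G2 → ℂ) x) :
    resS (η : G2 → ℂ) = resS (η' : G2 → ℂ) := by
  have hE1 : resS (η : G2 → ℂ) 1 = resS (η' : G2 → ℂ) 1 := by
    rw [resS_one, resS_one, (glPsi_values η hη).1, (glPsi_values η' hη').1]
  have hEcl : ∀ a b : S2, resS (η : G2 → ℂ) (b * a * b⁻¹) = resS (η : G2 → ℂ) a :=
    isCharacter_isClassFunction (isCharacter_resS η)
  have hEcl' : ∀ a b : S2, resS (η' : G2 → ℂ) (b * a * b⁻¹) = resS (η' : G2 → ℂ) a :=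
    isCharacter_isClassFunction (isCharacter_resS η')
  funext s
  by_cases hs : IsScalar2 (s : M2)
  · rcases scalar_sl2 s hs with h' | h'
    · rw [h', hE1]
    · rw [h', hcs 1, hcs' 1, hE1]
  · by_cases h2 : (s : M2).trace = 2
    · rw [cusp_trace_two η hη s hs h2, cusp_trace_two η' hη' s hs h2]
    · by_cases hm2 : (s : M2).trace = -2
      · have hns : ¬ IsScalar2 ((-s : S2) : M2) := by
          intro h'
          apply hs
          have := isScalar2_neg (-s) h'
          rwa [neg_neg] at this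
        have htr : ((-s : S2) : M2).trace = 2 := by
          rw [trace_neg_sl, hm2]
          ring
        have e : resS (η : G2 → ℂ) s = c * resS (η : G2 → ℂ) (-s) := by
          rw [← hcs (-s), neg_neg]
        have e' : resS (η' : G2 → ℂ) s = c * resS (η' : G2 → ℂ) (-s) := by
          rw [← hcs' (-s), neg_neg]
        rw [e, e', cusp_trace_two η hη (-s) hns htr, cusp_trace_two η' hη' (-s) hns htr]
      · by_cases hn : NSp s
        · obtain ⟨x, hx, hconj⟩ := exists_conj_mem_centralizer hodd g hg s hn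
          obtain ⟨y, hy⟩ := isConj_iff.mp hconj
          have hxn : NSp x := by
            rw [← hy]
            exact (nsp_conj y s).mpr hn
          rw [← hEcl s y, ← hEcl' s y, hy]
          exact h x hx (nsp_not_scalar x hxn)
        · rw [cusp_split η hη s h2 hm2 hn, cusp_split η' hη' s h2 hm2 hn]

omit [Fintype F] [DecidableEq F] [Fintype (Cfsg.IrrCharacter (GL (Fin 2) F))]
  [Fintype (MulChar F ℂ)] [Field F] in
/-- the points moved by an involution with a fixed point, on a set of even size -/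
theorem card_moved_le {α : Type*} [Fintype α] (σ : α → α)
    [DecidablePred (fun a : α => σ a ≠ a)] (hσ : ∀ a, σ (σ a) = a)
    (a₀ : α) (h0 : σ a₀ = a₀) (k : ℕ) (hcard : Fintype.card α = 2 * k + 2) :
    (Finset.univ.filter (fun a : α => σ a ≠ a)).card ≤ 2 * k := by
  have heven : Even (Finset.univ.filter (fun a : α => σ a ≠ a)).card := by
    rw [← ZMod.natCast_eq_zero_iff_even, Finset.card_eq_sum_ones, Nat.cast_sum]
    apply Finset.sum_involution (fun a _ => σ a)
    · intro a _
      push_cast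
      exact CharTwo.add_self_eq_zero (1 : ZMod 2)
    · intro a ha _
      exact (Finset.mem_filter.mp ha).2
    · intro a ha
      rw [Finset.mem_filter] at ha ⊢
      refine ⟨Finset.mem_univ _, ?_⟩
      rw [hσ]
      exact fun h => ha.2 h.symm
    · intro a _
      exact hσ a
  have hle : (Finset.univ.filter (fun a : α => σ a ≠ a)).card ≤ 2 * k + 1 := by
    have hsub : Finset.univ.filter (fun a : α => σ a ≠ a) ⊆ Finset.univ.erase a₀ := by
      intro a ha
      rw [Finset.mem_erase]
      refine ⟨?_, Finset.mem_univ _⟩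
      intro h
      rw [Finset.mem_filter, h] at ha
      exact ha.2 h0
    have := Finset.card_le_card hsub
    rw [Finset.card_erase_of_mem (Finset.mem_univ _), Finset.card_univ, hcard] at this
    omega
  obtain ⟨j, hj⟩ := heven
  omega

omit [Fintype F] [DecidableEq F] [Fintype (Cfsg.IrrCharacter (GL (Fin 2) F))]
  [Fintype (MulChar F ℂ)] [Field F] in
/-- a counting principle: if each of at least `k` points on the left is related to at least two
of at most `2k` points on the right, and each point on the right to at most one on the left,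
then every point on the right is related to a point on the left -/
theorem pigeon_rel {α β : Type*} (s : Finset α) (t : Finset β) (R : α → β → Prop)
    [∀ a b, Decidable (R a b)] (k : ℕ) (hs : k ≤ s.card) (ht : t.card ≤ 2 * k)
    (h2 : ∀ a ∈ s, 2 ≤ (t.filter (fun b => R a b)).card)
    (h1 : ∀ b ∈ t, (s.filter (fun a => R a b)).card ≤ 1) :
    ∀ b ∈ t, ∃ a ∈ s, R a b := by
  intro b hb
  by_contra hcon
  push_neg at hcon
  have hdc := Finset.sum_card_bipartiteAbove_eq_sum_card_bipartiteBelow (s := s) (t := t) R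
  have hl : 2 * s.card ≤ ∑ a ∈ s, (t.bipartiteAbove R a).card := by
    have : ∑ a ∈ s, 2 ≤ ∑ a ∈ s, (t.bipartiteAbove R a).card :=
      Finset.sum_le_sum (fun a ha => h2 a ha)
    rw [Finset.sum_const, smul_eq_mul] at this
    omega
  have hb0 : (s.bipartiteBelow R b).card = 0 := by
    rw [Finset.card_eq_zero, Finset.bipartiteBelow, Finset.filter_eq_empty_iff]
    exact fun a ha => hcon a ha
  have hr : ∑ b' ∈ t, (s.bipartiteBelow R b').card ≤ t.card - 1 := by
    rw [← Finset.add_sum_erase t _ hb, hb0, zero_add]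
    have : ∑ b' ∈ t.erase b, (s.bipartiteBelow R b').card ≤ ∑ b' ∈ t.erase b, 1 :=
      Finset.sum_le_sum (fun b' hb' => h1 b' (Finset.mem_of_mem_erase hb'))
    rw [Finset.sum_const, smul_eq_mul, mul_one, Finset.card_erase_of_mem hb] at this
    exact this
  have hpos : 0 < t.card := Finset.card_pos.mpr ⟨b, hb⟩
  omega

omit [Fintype F] [DecidableEq F] [Fintype (Cfsg.IrrCharacter (GL (Fin 2) F))]
  [Fintype (MulChar F ℂ)] in
/-- the irreducible characters of the non-split torus are linear -/
theorem torus_irr_one (g : S2) (hg : NSp g)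
    (θ : Cfsg.IrrCharacter ↥(Subgroup.centralizer ({g} : Set S2))) :
    (θ : ↥(Subgroup.centralizer ({g} : Set S2)) → ℂ) 1 = 1 := by
  have hgns := Cfsg.Agent.Lib.helper15.nonscalar_of_nonsplit g hg
  letI : CommGroup ↥(Subgroup.centralizer ({g} : Set S2)) :=
    { (inferInstance : Group ↥(Subgroup.centralizer ({g} : Set S2))) with
      mul_comm := fun a b =>
        Subtype.ext (Cfsg.Agent.Lib.helper15.centralizer_comm g hgns a b a.2 b.2) }
  exact irr_one_of_comm θ

omit [Fintype (Cfsg.IrrCharacter (GL (Fin 2) F))] [Fintype (MulChar F ℂ)] in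
/-- the number of irreducible characters of the non-split torus -/
theorem torus_card_irr (hodd : Odd (Fintype.card F)) (g : S2) (hg : NSp g)
    [Fintype (Cfsg.IrrCharacter ↥(Subgroup.centralizer ({g} : Set S2)))] :
    Fintype.card (Cfsg.IrrCharacter ↥(Subgroup.centralizer ({g} : Set S2))) =
      Fintype.card F + 1 := by
  have hgns := Cfsg.Agent.Lib.helper15.nonscalar_of_nonsplit g hg
  letI : CommGroup ↥(Subgroup.centralizer ({g} : Set S2)) :=
    { (inferInstance : Group ↥(Subgroup.centralizer ({g} : Set S2))) with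
      mul_comm := fun a b =>
        Subtype.ext (Cfsg.Agent.Lib.helper15.centralizer_comm g hgns a b a.2 b.2) }
  have h := ab_card_irr (A := ↥(Subgroup.centralizer ({g} : Set S2)))
  rw [← card_centralizer_nsp hodd g hg, Nat.card_eq_fintype_card]
  exact_mod_cast h

omit [Fintype F] [DecidableEq F] [Fintype (Cfsg.IrrCharacter (GL (Fin 2) F))]
  [Fintype (MulChar F ℂ)] in
/-- an element without eigenvalue has no eigenvector -/
theorem noEigvec_of_nsp (g : S2) (hg : NSp g) :
    ∀ (c : F) (v : Fin 2 → F), v ≠ 0 → (g : M2).mulVec v ≠ c • v := by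
  intro c v hv he
  have hdet : ((g : M2) - c • (1 : M2)).det = 0 := by
    apply Matrix.exists_mulVec_eq_zero_iff.mp
    refine ⟨v, hv, ?_⟩
    rw [Matrix.sub_mulVec, Matrix.smul_mulVec, Matrix.one_mulVec, he, sub_self]
  apply hg c
  have hd : (g : M2).det = 1 := g.2
  rw [Matrix.det_fin_two] at hdet hd
  rw [Matrix.trace_fin_two]
  simp only [Matrix.sub_apply, Matrix.smul_apply, Matrix.one_apply_eq, smul_eq_mul, mul_one,
      Matrix.one_apply_ne (show (0 : Fin 2) ≠ 1 by decide),
      Matrix.one_apply_ne (show (1 : Fin 2) ≠ 0 by decide), mul_zero, sub_zero] at hdet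
  linear_combination hdet - hd

end Cusp2

end Cfsg.Agent.Lib.helper14
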