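import Cfsg.Agent.Lib.helper14.SL2Cusp2
import Cfsg.Agent.S2299
import Cfsg.Agent.S2309
import Cfsg.Agent.S2322
import Cfsg.Agent.S2323

/-!
# The characters of degree `q - 1` of `SL₂(q)` and the characters of the non-split torus

Every non-real linear character of the non-split torus `C` occurs with multiplicity one in the
restriction to `C` of an irreducible restriction of degree `q - 1` from `GL₂(q)`.
-/

set_option autoImplicit false
open Cfsg

namespace Cfsg.Agent.Lib.helper14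

open Cfsg.Agent.Lib.helper7 Cfsg.Agent.Lib.helper2 Cfsg.Agent.Lib.Helper25
open Cfsg.Agent.S2304 Cfsg.Agent.S2307 Cfsg.Agent.S2435 Cfsg.Agent.S2299
open scoped ComplexConjugate

section Cusp3

variable {F : Type*} [Field F] [Fintype F] [DecidableEq F]
variable [Fintype (Cfsg.IrrCharacter (GL (Fin 2) F))] [Fintype (MulChar F ℂ)]
variable [Fintype (Cfsg.IrrCharacter (Matrix.SpecialLinearGroup (Fin 2) F))]

local notation "G2" => GL (Fin 2) F
local notation "S2" => Matrix.SpecialLinearGroup (Fin 2) F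
local notation "M2" => Matrix (Fin 2) (Fin 2) F
local notation "Irr2" => Cfsg.IrrCharacter (GL (Fin 2) F)
local notation "IrrS" => Cfsg.IrrCharacter (Matrix.SpecialLinearGroup (Fin 2) F)

open Classical

/-- for `q ≥ 5` the irreducible characters of degree `q - 1` are restrictions -/
theorem deg_qm1_above (hodd : Odd (Fintype.card F)) (hq5 : 5 ≤ Fintype.card F) (χ : S2 → ℂ)
    (hχ : Cfsg.IsIrrCharacter S2 χ) (hdeg : χ 1 = (Fintype.card F : ℂ) - 1) :
    ∃ η : Irr2, η ∈ glPsi (F := F) ∧ twI η = 1 ∧ resS (η : G2 → ℂ) = χ := by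
  obtain ⟨η, hη⟩ := exists_above' (F := F) ⟨χ, hχ⟩
  change Cfsg.classInner (resS (η : G2 → ℂ)) χ ≠ 0 at hη
  obtain ⟨hd, -⟩ := constituent_value hodd η χ hχ hη
  rw [hdeg] at hd
  have ht1 : 1 ≤ twI η := by rcases twI_cases η with h | h <;> omega
  obtain ⟨htw, hmem⟩ := Cfsg.Agent.S2323.of_deg_mul_qm1 (by omega) η (twI η) ht1 hd
  refine ⟨η, hmem, htw, ?_⟩
  rcases constituent_structure η χ hχ hη with ⟨_, hres⟩ | ⟨ht, _⟩
  · exact hres
  · omega

/-- for `q = 3` there is an irreducible restriction of degree `q - 1` -/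
theorem exists_typeA_q3 (hodd : Odd (Fintype.card F)) (hq3 : Fintype.card F = 3) :
    ∃ η : Irr2, η ∈ glPsi (F := F) ∧ twI η = 1 := by
  have hq : 3 ≤ Fintype.card F := by omega
  obtain ⟨t1, t2, t3, t4⟩ := tG_values (F := F) hq
  have k4 := two_card_glPsi (F := F)
  have b1 := bG_one (F := F) hq
  have bq := bG_q (F := F) hq hodd
  have s1 := star_nat (F := F) 1 (by norm_num)
  have s3 := star_nat (F := F) 3 (by norm_num)
  have ab1 := a_add_b (F := F) 1
  have ab2 := a_add_b (F := F) 2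
  have ab3 := a_add_b (F := F) 3
  rw [hq3] at t1 t2 t4 k4 bq s1 s3
  have hcard : Fintype.card IrrS = 7 := by
    rw [← Nat.card_eq_fintype_card, Cfsg.Agent.S0133.result, Cfsg.Agent.S2325.result hodd, hq3]
  have hdisj : nS F 1 + nS F 3 ≤ 7 := by
    rw [← hcard, ← Finset.card_univ]
    unfold nS
    rw [← Finset.card_union_of_disjoint]
    · exact Finset.card_le_card (Finset.subset_univ _)
    · rw [Finset.disjoint_filter]
      intro ψ _ h1 h3
      rw [h1] at h3
      have : (1 : ℕ) = 3 := Nat.cast_injective h3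
      omega
  have hpos : 0 < aG F 2 := by
    norm_num at t1 t2 t4 k4 s1 s3
    omega
  unfold aG at hpos
  obtain ⟨η, hη⟩ := Finset.card_pos.mp hpos
  rw [Finset.mem_filter] at hη
  obtain ⟨-, htw, hdeg⟩ := hη
  refine ⟨η, ?_, htw⟩
  apply Cfsg.Agent.S2309.mem_glPsi_of_deg hq
  rw [hdeg, hq3]
  norm_num

/-- the irreducible characters of `SL₂(q)` which are restrictions of characters of degree
`q - 1` of `GL₂(q)` -/
noncomputable def typeA (F : Type*) [Field F] [Fintype F] [DecidableEq F]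
    [Fintype (Cfsg.IrrCharacter (GL (Fin 2) F))] [Fintype (MulChar F ℂ)]
    [Fintype (Cfsg.IrrCharacter (Matrix.SpecialLinearGroup (Fin 2) F))] :
    Finset (Cfsg.IrrCharacter (Matrix.SpecialLinearGroup (Fin 2) F)) :=
  Finset.univ.filter (fun χ : Cfsg.IrrCharacter (Matrix.SpecialLinearGroup (Fin 2) F) =>
    ∃ η : Cfsg.IrrCharacter (GL (Fin 2) F), η ∈ glPsi (F := F) ∧ twI η = 1 ∧
      resS (η : GL (Fin 2) F → ℂ) = (χ : Matrix.SpecialLinearGroup (Fin 2) F → ℂ))

theorem mem_typeA (χ : IrrS) : χ ∈ typeA F ↔ ∃ η : Irr2, η ∈ glPsi (F := F) ∧ twI η = 1 ∧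
    resS (η : G2 → ℂ) = (χ : S2 → ℂ) := by
  unfold typeA
  rw [Finset.mem_filter]
  exact ⟨fun h => h.2, fun h => ⟨Finset.mem_univ _, h⟩⟩

theorem typeA_count (hodd : Odd (Fintype.card F)) (m : ℕ) (hm1 : 1 ≤ m)
    (hm : Fintype.card F = 2 * m + 1) : m ≤ (typeA F).card := by
  rcases Nat.lt_or_ge m 2 with h | h
  · have hm' : m = 1 := by omega
    subst hm'
    obtain ⟨η, hη, ht⟩ := exists_typeA_q3 hodd (by omega : Fintype.card F = 3)
    have hirr : Cfsg.IsIrrCharacter S2 (resS (η : G2 → ℂ)) := by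
      have hn := resS_norm η
      rw [ht, Nat.cast_one] at hn
      exact h7_irr_of_norm_one (isCharacter_resS η) hn
    apply Finset.card_pos.mpr
    exact ⟨⟨resS (η : G2 → ℂ), hirr⟩, (mem_typeA _).mpr ⟨η, hη, ht, rfl⟩⟩
  · obtain ⟨-, -, -, h4, -, -⟩ := counts hodd m h hm
    rw [← h4]
    unfold nS
    apply Finset.card_le_card
    intro χ hχ
    rw [Finset.mem_filter] at hχ
    rw [mem_typeA]
    apply deg_qm1_above hodd (by omega) _ χ.2
    rw [hχ.2, hm]
    push_cast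
    ring

omit [Fintype F] [DecidableEq F] [Fintype (Cfsg.IrrCharacter (GL (Fin 2) F))]
  [Fintype (MulChar F ℂ)] [Fintype (Cfsg.IrrCharacter (Matrix.SpecialLinearGroup (Fin 2) F))]
  [Field F] in
theorem irrConj_invol {H : Type*} [Group H] [Finite H] (θ : Cfsg.IrrCharacter H) :
    irrConj (irrConj θ) = θ := by
  apply Subtype.ext
  funext k
  show conj (conj ((θ : H → ℂ) k)) = (θ : H → ℂ) k
  exact Complex.conj_conj _

/-- every non-real character of the non-split torus occurs with multiplicity one in an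
irreducible restriction of degree `q - 1` -/
theorem typeA_surj (hodd : Odd (Fintype.card F)) (m : ℕ) (hm1 : 1 ≤ m)
    (hm : Fintype.card F = 2 * m + 1) (g : S2) (hg : NSp g)
    (θ : Cfsg.IrrCharacter ↥(Subgroup.centralizer ({g} : Set S2))) (hθ : irrConj θ ≠ θ) :
    ∃ η : Irr2, η ∈ glPsi (F := F) ∧ twI η = 1 ∧
      Cfsg.classInner (fun x : ↥(Subgroup.centralizer ({g} : Set S2)) =>
        resS (η : G2 → ℂ) (x : S2)) (θ : ↥(Subgroup.centralizer ({g} : Set S2)) → ℂ) = 1 := by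
  haveI : Fintype (Cfsg.IrrCharacter ↥(Subgroup.centralizer ({g} : Set S2))) :=
    Fintype.ofFinite _
  have hzC : (-1 : S2) ∈ Subgroup.centralizer ({g} : Set S2) := by
    rw [Subgroup.mem_centralizer_singleton_iff, neg_one_mul, mul_neg_one]
  set R : IrrS → Cfsg.IrrCharacter ↥(Subgroup.centralizer ({g} : Set S2)) → Prop := fun χ μ =>
    Cfsg.classInner (fun x : ↥(Subgroup.centralizer ({g} : Set S2)) => (χ : S2 → ℂ) (x : S2)) (μ : ↥(Subgroup.centralizer ({g} : Set S2)) → ℂ) = 1 with hR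
  set N := Finset.univ.filter (fun μ : Cfsg.IrrCharacter ↥(Subgroup.centralizer ({g} : Set S2)) => irrConj μ ≠ μ) with hN
  have hNcard : N.card ≤ 2 * m := by
    apply card_moved_le (fun μ : Cfsg.IrrCharacter ↥(Subgroup.centralizer ({g} : Set S2)) => irrConj μ) irrConj_invol (trivIrr ↥(Subgroup.centralizer ({g} : Set S2)))
    · apply Subtype.ext
      funext k
      show conj ((trivIrr ↥(Subgroup.centralizer ({g} : Set S2)) : ↥(Subgroup.centralizer ({g} : Set S2)) → ℂ) k) = (trivIrr ↥(Subgroup.centralizer ({g} : Set S2)) : ↥(Subgroup.centralizer ({g} : Set S2)) → ℂ) k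
      simp
    · rw [torus_card_irr hodd g hg, hm]
  have h2 : ∀ χ ∈ typeA F, 2 ≤ (N.filter (fun μ => R χ μ)).card := by
    intro χ hχ
    obtain ⟨η, hη, ht, hres⟩ := (mem_typeA χ).mp hχ
    obtain ⟨c, θ', -, -, hnr, -, hin, hin', -, -⟩ := typeA_core hodd m hm1 hm η hη ht g hg
    have hsub : ({θ', irrConj θ'} : Finset (Cfsg.IrrCharacter ↥(Subgroup.centralizer ({g} : Set S2)))) ⊆
        N.filter (fun μ => R χ μ) := by
      intro μ hμ
      rw [Finset.mem_insert, Finset.mem_singleton] at hμ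
      rw [Finset.mem_filter, hN, Finset.mem_filter]
      rcases hμ with rfl | rfl
      · refine ⟨⟨Finset.mem_univ _, hnr⟩, ?_⟩
        show Cfsg.classInner (fun x : ↥(Subgroup.centralizer ({g} : Set S2)) => (χ : S2 → ℂ) (x : S2)) _ = 1
        rw [← hres]
        exact hin
      · refine ⟨⟨Finset.mem_univ _, ?_⟩, ?_⟩
        · rw [irrConj_invol]
          exact hnr.symm
        · show Cfsg.classInner (fun x : ↥(Subgroup.centralizer ({g} : Set S2)) => (χ : S2 → ℂ) (x : S2)) _ = 1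
          rw [← hres]
          exact hin'
    have := Finset.card_le_card hsub
    rw [Finset.card_pair hnr.symm] at this
    exact this
  have h1 : ∀ μ ∈ N, ((typeA F).filter (fun χ => R χ μ)).card ≤ 1 := by
    intro μ _
    rw [Finset.card_le_one]
    intro χ₁ h₁ χ₂ h₂
    rw [Finset.mem_filter] at h₁ h₂
    obtain ⟨hχ₁, hR₁⟩ := h₁
    obtain ⟨hχ₂, hR₂⟩ := h₂
    obtain ⟨η₁, hη₁, ht₁, hres₁⟩ := (mem_typeA χ₁).mp hχ₁
    obtain ⟨η₂, hη₂, ht₂, hres₂⟩ := (mem_typeA χ₂).mp hχ₂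
    obtain ⟨c₁, θ₁, hc₁, hcs₁, -, hz₁, -, -, hu₁, hv₁⟩ :=
      typeA_core hodd m hm1 hm η₁ hη₁ ht₁ g hg
    obtain ⟨c₂, θ₂, hc₂, hcs₂, -, hz₂, -, -, hu₂, hv₂⟩ :=
      typeA_core hodd m hm1 hm η₂ hη₂ ht₂ g hg
    have hR₁' : Cfsg.classInner (fun x : ↥(Subgroup.centralizer ({g} : Set S2)) => resS (η₁ : G2 → ℂ) (x : S2)) (μ : ↥(Subgroup.centralizer ({g} : Set S2)) → ℂ) = 1 := by
      rw [hres₁]
      exact hR₁
    have hR₂' : Cfsg.classInner (fun x : ↥(Subgroup.centralizer ({g} : Set S2)) => resS (η₂ : G2 → ℂ) (x : S2)) (μ : ↥(Subgroup.centralizer ({g} : Set S2)) → ℂ) = 1 := by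
      rw [hres₂]
      exact hR₂
    have hcc₁ : conj c₁ = c₁ := by
      rcases sq_one_cases c₁ hc₁ with h | h <;> rw [h] <;> simp
    have hcc₂ : conj c₂ = c₂ := by
      rcases sq_one_cases c₂ hc₂ with h | h <;> rw [h] <;> simp
    -- the values of `μ`
    have key₁ : (μ : ↥(Subgroup.centralizer ({g} : Set S2)) → ℂ) ⟨-1, hzC⟩ = c₁ ∧ ∀ x : ↥(Subgroup.centralizer ({g} : Set S2)), ¬ IsScalar2 ((x : S2) : M2) →
        resS (η₁ : G2 → ℂ) (x : S2) = -(μ : ↥(Subgroup.centralizer ({g} : Set S2)) → ℂ) x - conj ((μ : ↥(Subgroup.centralizer ({g} : Set S2)) → ℂ) x) := by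
      rcases hu₁ μ hR₁' with rfl | rfl
      · exact ⟨hz₁ _ rfl, hv₁⟩
      · constructor
        · rw [irrConj_apply, hz₁ _ rfl, hcc₁]
        · intro x hx
          rw [hv₁ x hx, irrConj_apply, Complex.conj_conj]
          ring
    have key₂ : (μ : ↥(Subgroup.centralizer ({g} : Set S2)) → ℂ) ⟨-1, hzC⟩ = c₂ ∧ ∀ x : ↥(Subgroup.centralizer ({g} : Set S2)), ¬ IsScalar2 ((x : S2) : M2) →
        resS (η₂ : G2 → ℂ) (x : S2) = -(μ : ↥(Subgroup.centralizer ({g} : Set S2)) → ℂ) x - conj ((μ : ↥(Subgroup.centralizer ({g} : Set S2)) → ℂ) x) := by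
      rcases hu₂ μ hR₂' with rfl | rfl
      · exact ⟨hz₂ _ rfl, hv₂⟩
      · constructor
        · rw [irrConj_apply, hz₂ _ rfl, hcc₂]
        · intro x hx
          rw [hv₂ x hx, irrConj_apply, Complex.conj_conj]
          ring
    have hcc : c₁ = c₂ := by rw [← key₁.1, key₂.1]
    rw [← hcc] at hcs₂
    have hext := cusp_ext hodd η₁ η₂ hη₁ hη₂ c₁ hcs₁ hcs₂ g hg (by
      intro x hx hxs
      have e₁ := key₁.2 ⟨x, hx⟩ hxs
      have e₂ := key₂.2 ⟨x, hx⟩ hxs
      rw [e₁, e₂])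
    apply Subtype.ext
    rw [← hres₁, ← hres₂, hext]
  have hθN : θ ∈ N := by
    rw [hN, Finset.mem_filter]
    exact ⟨Finset.mem_univ _, hθ⟩
  obtain ⟨χ, hχ, hRχ⟩ := pigeon_rel (typeA F) N R m (typeA_count hodd m hm1 hm) hNcard h2 h1 θ hθN
  obtain ⟨η, hη, ht, hres⟩ := (mem_typeA χ).mp hχ
  refine ⟨η, hη, ht, ?_⟩
  rw [hres]
  exact hRχ

end Cusp3

end Cfsg.Agent.Lib.helper14
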