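import Cfsg.Agent.Lib.helper14.SL2OddChar2

set_option autoImplicit false
set_option linter.unusedSectionVars false
open Cfsg

namespace Cfsg.Agent.Lib.helper14

open Cfsg.Agent.Lib.helper7 Cfsg.Agent.Lib.helper2 Cfsg.Agent.Lib.Helper25 Cfsg.Agent.Lib.Helper11
open Cfsg.Agent.S2304 Cfsg.Agent.S2307

open scoped ComplexConjugate

section HalfA

variable {F : Type*} [Field F]

local notation "G2" => GL (Fin 2) F
local notation "S2" => Matrix.SpecialLinearGroup (Fin 2) F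
local notation "M2" => Matrix (Fin 2) (Fin 2) F

theorem sig_sq_isConj (c : F) (hc : c ≠ 0) (s : S2) :
    IsConj (sig (c * c) (mul_ne_zero hc hc) s) s := by
  have hcc : c⁻¹ * c = 1 := inv_mul_cancel₀ hc
  let P : S2 := ⟨!![c⁻¹, 0; 0, c], by rw [Matrix.det_fin_two_of]; simp [hcc]⟩
  apply sl2_isConj_of_mul_eq s _ P
  show (s : M2) * !![c⁻¹, 0; 0, c] = !![c⁻¹, 0; 0, c] * ((sig (c * c) (mul_ne_zero hc hc) s : S2) : M2)
  rw [sig_apply_coe]
  have hs := Matrix.eta_fin_two (s : M2)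
  rw [hs, Matrix.mul_fin_two, Matrix.mul_fin_two]
  simp only [Matrix.of_apply, Matrix.cons_val', Matrix.cons_val_zero, Matrix.cons_val_one,
    Matrix.cons_val_fin_one]
  apply m2_congr
  · ring
  · field_simp
    ring
  · field_simp
    ring
  · ring

theorem sig_sig (δ : F) (hδ : δ ≠ 0) (s : S2) :
    sig δ hδ (sig δ hδ s) = sig (δ * δ) (mul_ne_zero hδ hδ) s := by
  apply Subtype.ext
  rw [sig_apply_coe, sig_apply_coe, sig_apply_coe]
  simp only [Matrix.of_apply, Matrix.cons_val', Matrix.cons_val_zero, Matrix.cons_val_one,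
    Matrix.cons_val_fin_one]
  apply m2_congr
  · rfl
  · ring
  · rw [mul_inv]; ring
  · rfl

theorem sig_neg (δ : F) (hδ : δ ≠ 0) (s : S2) :
    sig δ hδ (-s) = -(sig δ hδ s) := by
  apply Subtype.ext
  rw [sig_apply_coe, Matrix.SpecialLinearGroup.coe_neg, Matrix.SpecialLinearGroup.coe_neg,
    sig_apply_coe]
  ext i j
  fin_cases i <;> fin_cases j <;> simp

end HalfA


section HalfB

variable {F : Type*} [Field F] [Fintype F] [DecidableEq F]
variable [Fintype (Cfsg.IrrCharacter (GL (Fin 2) F))] [Fintype (MulChar F ℂ)]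

local notation "G2" => GL (Fin 2) F
local notation "S2" => Matrix.SpecialLinearGroup (Fin 2) F
local notation "M2" => Matrix (Fin 2) (Fin 2) F
local notation "Irr2" => Cfsg.IrrCharacter (GL (Fin 2) F)
local notation "IrrS" => Cfsg.IrrCharacter (Matrix.SpecialLinearGroup (Fin 2) F)

/-- conjugation by `k ∈ GL₂` agrees, up to `SL₂`-conjugacy, with `sig (det k)` -/
theorem sig_isConj_conjS (k : G2) (s : S2) :
    IsConj (sig (k : M2).det (Matrix.GeneralLinearGroup.det_ne_zero k) s) (conjS k s) := by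
  have hδ : (k : M2).det ≠ 0 := Matrix.GeneralLinearGroup.det_ne_zero k
  set δ := (k : M2).det with hδdef
  let P : S2 := ⟨(k : M2) * !![δ⁻¹, 0; 0, 1], by
    rw [Matrix.det_mul, Matrix.det_fin_two_of, ← hδdef]
    simp [mul_inv_cancel₀ hδ]⟩
  apply sl2_isConj_of_mul_eq (conjS k s) _ P
  show ((conjS k s : S2) : M2) * ((k : M2) * !![δ⁻¹, 0; 0, 1]) =
    ((k : M2) * !![δ⁻¹, 0; 0, 1]) * ((sig δ hδ s : S2) : M2)
  rw [conjS_coe, sig_apply_coe]
  have h1 : ((k⁻¹ : G2) : M2) * (k : M2) = 1 := by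
    have := congrArg (fun z : G2 => (z : M2)) (inv_mul_cancel k)
    simpa using this
  have e1 : (k : M2) * (s : M2) * ((k⁻¹ : G2) : M2) * ((k : M2) * !![δ⁻¹, 0; 0, 1]) =
      (k : M2) * ((s : M2) * !![δ⁻¹, 0; 0, 1]) := by
    calc (k : M2) * (s : M2) * ((k⁻¹ : G2) : M2) * ((k : M2) * !![δ⁻¹, 0; 0, 1])
        = (k : M2) * (s : M2) * (((k⁻¹ : G2) : M2) * (k : M2)) * !![δ⁻¹, 0; 0, 1] := by
          simp only [Matrix.mul_assoc]
      _ = (k : M2) * ((s : M2) * !![δ⁻¹, 0; 0, 1]) := by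
          rw [h1, Matrix.mul_one, Matrix.mul_assoc]
  rw [e1, Matrix.mul_assoc]
  congr 1
  have hs := Matrix.eta_fin_two (s : M2)
  rw [hs, Matrix.mul_fin_two, Matrix.mul_fin_two]
  simp only [Matrix.of_apply, Matrix.cons_val', Matrix.cons_val_zero, Matrix.cons_val_one,
    Matrix.cons_val_fin_one]
  apply m2_congr
  · ring
  · field_simp
    ring
  · ring
  · ring

/-- the difference function attached to a class function and a scalar `δ` -/
noncomputable def dlt (ψ : S2 → ℂ) (δ : F) (hδ : δ ≠ 0) : S2 → ℂ :=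
  fun s => ψ s - ψ (sig δ hδ s)

theorem dlt_classFunction (ψ : S2 → ℂ) (hψ : Cfsg.IsClassFunction S2 ψ) (δ : F) (hδ : δ ≠ 0) :
    Cfsg.IsClassFunction S2 (dlt ψ δ hδ) := by
  intro g h
  unfold dlt
  rw [hψ g h, map_mul, map_mul, map_inv, hψ]

theorem dlt_sig (ψ : S2 → ℂ) (hψ : Cfsg.IsClassFunction S2 ψ) (δ : F) (hδ : δ ≠ 0) (s : S2) :
    dlt ψ δ hδ (sig δ hδ s) = -dlt ψ δ hδ s := by
  unfold dlt
  rw [sig_sig]
  obtain ⟨c, hc⟩ := isConj_iff.mp (sig_sq_isConj δ hδ s)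
  have : ψ (sig (δ * δ) (mul_ne_zero hδ hδ) s) = ψ s := by
    calc ψ (sig (δ * δ) (mul_ne_zero hδ hδ) s)
        = ψ (c * sig (δ * δ) (mul_ne_zero hδ hδ) s * c⁻¹) := (hψ _ c).symm
      _ = ψ s := by rw [hc]
  rw [this]
  ring

theorem dlt_neg (ψ : S2 → ℂ) (ω : ℂ) (hω : ∀ x : S2, ψ (-x) = ω * ψ x) (δ : F) (hδ : δ ≠ 0)
    (s : S2) : dlt ψ δ hδ (-s) = ω * dlt ψ δ hδ s := by
  unfold dlt
  rw [sig_neg, hω, hω]
  ring

theorem dlt_of_isConj (ψ : S2 → ℂ) (hψ : Cfsg.IsClassFunction S2 ψ) (δ : F) (hδ : δ ≠ 0) (s : S2)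
    (h : IsConj s (sig δ hδ s)) : dlt ψ δ hδ s = 0 := by
  unfold dlt
  obtain ⟨c, hc⟩ := isConj_iff.mp h
  have : ψ (sig δ hδ s) = ψ s := by
    rw [← hc, hψ]
  rw [this]
  ring


omit [Fintype (Cfsg.IrrCharacter (GL (Fin 2) F))] [Fintype (MulChar F ℂ)] in
theorem sig_regular_isConj (hodd : Odd (Fintype.card F)) (δ : F) (hδ : δ ≠ 0) (s : S2)
    (hs : ¬ IsScalar2 (s : M2)) (ht : (s : M2).trace * (s : M2).trace ≠ 4) :
    IsConj s (sig δ hδ s) := by
  have hodd' : Fintype.card F % 2 = 1 := Nat.odd_iff.mp hodd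
  have h2 : (2 : F) ≠ 0 := by
    intro h
    have hchar : ringChar F = 2 := by
      have : ringChar F ∣ 2 := by
        rw [← Nat.cast_ofNat] at h
        exact (ringChar.spec F 2).mp h
      rcases (Nat.dvd_prime Nat.prime_two).mp this with h1 | h1
      · exfalso
        exact CharP.ringChar_ne_one (R := F) h1
      · exact h1
    have := FiniteField.even_card_of_char_two hchar
    omega
  have htr : ((sig δ hδ s : S2) : M2).trace = (s : M2).trace := by
    rw [sig_apply_coe, Matrix.trace_fin_two, Matrix.trace_fin_two]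
    simp
  have hns : ¬ IsScalar2 ((sig δ hδ s : S2) : M2) := by
    intro h
    apply hs
    obtain ⟨h1, h2', h3⟩ := h
    rw [sig_apply_coe] at h1 h2' h3
    simp only [Matrix.of_apply, Matrix.cons_val', Matrix.cons_val_zero, Matrix.cons_val_one,
      Matrix.cons_val_fin_one] at h1 h2' h3
    refine ⟨?_, ?_, h3⟩
    · rcases mul_eq_zero.mp h1 with h | h
      · exact absurd h hδ
      · exact h
    · rcases mul_eq_zero.mp h2' with h | h
      · exact absurd h (inv_ne_zero hδ)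
      · exact h
  have c1 := regular_conj hodd' h2 s hs ht
  have c2 := regular_conj hodd' h2 (sig δ hδ s) hns (by rw [htr]; exact ht)
  rw [htr] at c2
  exact c1.symm.trans c2

omit [Fintype F] [DecidableEq F] [Fintype (Cfsg.IrrCharacter (GL (Fin 2) F))]
  [Fintype (MulChar F ℂ)] in
theorem sig_scalar (δ : F) (hδ : δ ≠ 0) (s : S2) (hs : IsScalar2 (s : M2)) : sig δ hδ s = s := by
  apply Subtype.ext
  rw [sig_apply_coe]
  have := Matrix.eta_fin_two (s : M2)
  rw [hs.1, hs.2.1] at this ⊢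
  rw [mul_zero, mul_zero]
  exact this.symm

omit [Fintype F] [DecidableEq F] [Fintype (Cfsg.IrrCharacter (GL (Fin 2) F))]
  [Fintype (MulChar F ℂ)] in
theorem Umat_neg_one_eq (β : F) : Umat (-1 : F) β (by ring) = -uS (-β) := by
  apply Subtype.ext
  rw [Umat_coe, Matrix.SpecialLinearGroup.coe_neg, uS_coe]
  ext i j
  fin_cases i <;> fin_cases j <;> simp

/-- the value of the difference function on upper unitriangular elements -/
theorem dlt_uS (ψ : S2 → ℂ) (hψ : Cfsg.IsClassFunction S2 ψ) (δ : F) (hδ : δ ≠ 0)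
    (hδns : ¬ IsSquare δ) (β : F) (hβ : β ≠ 0) :
    dlt ψ δ hδ (uS β) = dlt ψ δ hδ (uS 1) ∨ dlt ψ δ hδ (uS β) = -dlt ψ δ hδ (uS 1) := by
  have hD := dlt_classFunction ψ hψ δ hδ
  by_cases hsq : IsSquare β
  · left
    exact classFun_uS_of_isSquare hD β 1 hβ one_ne_zero (by rwa [mul_one])
  · right
    have h1 : dlt ψ δ hδ (uS β) = dlt ψ δ hδ (uS (δ * 1)) :=
      classFun_uS_of_isSquare hD β (δ * 1) hβ (mul_ne_zero hδ one_ne_zero)
        (by rw [mul_one]; exact isSquare_mul_of_not β δ hsq hδns)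
    rw [h1, ← sig_uS δ hδ 1, dlt_sig ψ hψ]

/-- on parabolic elements the difference function has constant absolute value -/
theorem dlt_parabolic (ψ : S2 → ℂ) (hψ : Cfsg.IsClassFunction S2 ψ) (δ : F) (hδ : δ ≠ 0)
    (hδns : ¬ IsSquare δ) (ω : ℂ) (hω : ∀ x : S2, ψ (-x) = ω * ψ x) (hω1 : ω * conj ω = 1)
    (s : S2) (hs : ¬ IsScalar2 (s : M2)) (ht : (s : M2).trace * (s : M2).trace = 4) :
    dlt ψ δ hδ s * conj (dlt ψ δ hδ s) = dlt ψ δ hδ (uS 1) * conj (dlt ψ δ hδ (uS 1)) := by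
  have hD := dlt_classFunction ψ hψ δ hδ
  have h2 : ((s : M2).trace - 2) * ((s : M2).trace + 2) = 0 := by linear_combination ht
  rcases mul_eq_zero.mp h2 with h | h
  · have htr : (s : M2).trace = 2 * 1 := by linear_combination h
    obtain ⟨hβ, hc⟩ := parabolic_conj s 1 (by ring) hs htr
    rw [Umat_one_eq] at hc
    generalize betaOf s = β₀ at hβ hc
    obtain ⟨c, hc⟩ := isConj_iff.mp hc
    have e : dlt ψ δ hδ s = dlt ψ δ hδ (uS β₀) := by
      rw [← hc, hD]
    rw [e]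
    rcases dlt_uS ψ hψ δ hδ hδns β₀ hβ with h' | h'
    · rw [h']
    · rw [h', map_neg]
      ring
  · have htr : (s : M2).trace = 2 * (-1) := by linear_combination h
    obtain ⟨hβ, hc⟩ := parabolic_conj s (-1) (by ring) hs htr
    rw [Umat_neg_one_eq] at hc
    generalize betaOf s = β₀ at hβ hc
    obtain ⟨c, hc⟩ := isConj_iff.mp hc
    have e : dlt ψ δ hδ s = ω * dlt ψ δ hδ (uS (-β₀)) := by
      rw [← hc, hD, dlt_neg ψ ω hω]
    rw [e]
    rcases dlt_uS ψ hψ δ hδ hδns (-β₀) (neg_ne_zero.mpr hβ) with h' | h'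
    · rw [h', map_mul]
      linear_combination (dlt ψ δ hδ (uS 1) * conj (dlt ψ δ hδ (uS 1))) * hω1
    · rw [h', map_mul, map_neg]
      linear_combination (dlt ψ δ hδ (uS 1) * conj (dlt ψ δ hδ (uS 1))) * hω1

end HalfB

end Cfsg.Agent.Lib.helper14
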