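import Cfsg.Agent.Lib.helper14.SL2OddChar
import Cfsg.Agent.Lib.helper14.SL2Odd

set_option autoImplicit false
set_option linter.unusedSectionVars false
open Cfsg

namespace Cfsg.Agent.Lib.helper14

open Cfsg.Agent.Lib.helper7 Cfsg.Agent.Lib.helper2 Cfsg.Agent.Lib.Helper25 Cfsg.Agent.Lib.Helper11
open Cfsg.Agent.S2304

open scoped ComplexConjugate

section OddTwo

variable {F : Type*} [Field F] [Fintype F] [DecidableEq F]
variable [Fintype (Cfsg.IrrCharacter (GL (Fin 2) F))] [Fintype (MulChar F ℂ)]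

local notation "G2" => GL (Fin 2) F
local notation "S2" => Matrix.SpecialLinearGroup (Fin 2) F
local notation "M2" => Matrix (Fin 2) (Fin 2) F
local notation "Irr2" => Cfsg.IrrCharacter (GL (Fin 2) F)
local notation "IrrS" => Cfsg.IrrCharacter (Matrix.SpecialLinearGroup (Fin 2) F)

/-- conjugation of an element of `SL₂` by an element of `GL₂` -/
noncomputable def conjS (k : G2) (s : S2) : S2 :=
  slEquiv.symm ⟨k * (Matrix.SpecialLinearGroup.toGL s) * k⁻¹,
    (detKer_normal (F := F)).conj_mem _ (slEquiv s).2 k⟩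

theorem conjS_coe (k : G2) (s : S2) :
    ((conjS k s : S2) : M2) = (k : M2) * (s : M2) * ((k⁻¹ : G2) : M2) := rfl

theorem conjS_trace (k : G2) (s : S2) : ((conjS k s : S2) : M2).trace = (s : M2).trace := by
  rw [conjS_coe, Matrix.trace_mul_comm, ← Matrix.mul_assoc]
  have : ((k⁻¹ : G2) : M2) * (k : M2) = 1 := by
    have := congrArg (fun z : G2 => (z : M2)) (inv_mul_cancel k)
    simpa using this
  rw [this, Matrix.one_mul]

theorem conjS_not_scalar (k : G2) (s : S2) (hs : ¬ IsScalar2 (s : M2)) :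
    ¬ IsScalar2 ((conjS k s : S2) : M2) := by
  intro h
  apply hs
  have h1 : ((k⁻¹ : G2) : M2) * (k : M2) = 1 := by
    have := congrArg (fun z : G2 => (z : M2)) (inv_mul_cancel k)
    simpa using this
  have h2 : (k : M2) * ((k⁻¹ : G2) : M2) = 1 := by
    have := congrArg (fun z : G2 => (z : M2)) (mul_inv_cancel k)
    simpa using this
  have := isScalar2_conj _ ((k⁻¹ : G2) : M2) (k : M2) h1 h
  rw [conjS_coe] at this
  have e : ((k⁻¹ : G2) : M2) * ((k : M2) * (s : M2) * ((k⁻¹ : G2) : M2)) * (k : M2) = (s : M2) := by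
    calc ((k⁻¹ : G2) : M2) * ((k : M2) * (s : M2) * ((k⁻¹ : G2) : M2)) * (k : M2)
        = (((k⁻¹ : G2) : M2) * (k : M2)) * (s : M2) * (((k⁻¹ : G2) : M2) * (k : M2)) := by
          simp only [Matrix.mul_assoc]
      _ = (s : M2) := by rw [h1, Matrix.one_mul, Matrix.mul_one]
  rw [e] at this
  rw [this]
  rw [conjS_coe] at h
  exact h

/-- for odd `q`, a regular semisimple element of `SL₂` is `SL₂`-conjugate to each of its
`GL₂`-conjugates -/
theorem conjS_isConj (hodd : Odd (Fintype.card F)) (k : G2) (s : S2)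
    (hs : ¬ IsScalar2 (s : M2)) (ht : (s : M2).trace * (s : M2).trace ≠ 4) :
    IsConj s (conjS k s) := by
  have hodd' : Fintype.card F % 2 = 1 := Nat.odd_iff.mp hodd
  have h2 : (2 : F) ≠ 0 := by
    intro h
    have hchar : ringChar F = 2 := by
      have : ringChar F ∣ 2 := by
        rw [← Nat.cast_ofNat] at h
        exact (ringChar.spec F 2).mp h
      rcases (Nat.dvd_prime Nat.prime_two).mp this with h1 | h1
      · exfalso
        have := CharP.ringChar_ne_one (R := F)
        exact this h1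
      · exact h1
    have := FiniteField.even_card_of_char_two hchar
    omega
  have c1 := regular_conj hodd' h2 s hs ht
  have c2 := regular_conj hodd' h2 (conjS k s) (conjS_not_scalar k s hs)
    (by rw [conjS_trace]; exact ht)
  rw [conjS_trace] at c2
  exact c1.symm.trans c2


/-- Clifford correspondence for a pair of constituents -/
theorem conj_of_constituents (χ : Irr2) (η₁ η₂ : S2 → ℂ) (h1 : Cfsg.IsIrrCharacter S2 η₁)
    (h2 : Cfsg.IsIrrCharacter S2 η₂) (c1 : Cfsg.classInner (resS (χ : G2 → ℂ)) η₁ ≠ 0)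
    (c2 : Cfsg.classInner (resS (χ : G2 → ℂ)) η₂ ≠ 0) :
    ∃ k : G2, ∀ s : S2, η₂ s = η₁ (conjS k s) := by
  classical
  haveI : Fintype (detKer F) := Fintype.ofFinite _
  have d1 : Cfsg.classInner (fun n : detKer F => (χ : G2 → ℂ) n)
      (fun n => η₁ (slEquiv.symm n)) ≠ 0 := by
    rw [classInner_toKer]; exact c1
  have d2 : Cfsg.classInner (fun n : detKer F => (χ : G2 → ℂ) n)
      (fun n => η₂ (slEquiv.symm n)) ≠ 0 := by
    rw [classInner_toKer]; exact c2
  obtain ⟨k, hk⟩ := clifford_conj (detKer F) (χ : G2 → ℂ) χ.2 _ _ (isIrr_toKer η₁ h1)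
    (isIrr_toKer η₂ h2) d1 d2
  refine ⟨k, fun s => ?_⟩
  have := congrFun hk (slEquiv s)
  rw [cj_apply] at this
  simp only [MulEquiv.symm_apply_apply] at this
  rw [this]
  rfl

variable [Fintype (Cfsg.IrrCharacter (Matrix.SpecialLinearGroup (Fin 2) F))]

theorem constituent_structure (χ : Irr2) (ψ : S2 → ℂ) (hψ : Cfsg.IsIrrCharacter S2 ψ)
    (h : Cfsg.classInner (resS (χ : G2 → ℂ)) ψ ≠ 0) :
    (twI χ = 1 ∧ resS (χ : G2 → ℂ) = ψ) ∨
    (twI χ = 2 ∧ ∃ ψ' : S2 → ℂ, Cfsg.IsIrrCharacter S2 ψ' ∧ resS (χ : G2 → ℂ) = ψ + ψ' ∧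
      ∃ k : G2, ∀ s : S2, ψ' s = ψ (conjS k s)) := by
  classical
  rcases twI_cases χ with ht | ht
  · left
    refine ⟨ht, ?_⟩
    have hn := resS_norm χ
    rw [ht, Nat.cast_one] at hn
    have hirr := h7_irr_of_norm_one (isCharacter_resS χ) hn
    by_contra hne
    exact h (h7_irr_inner_ne hirr hψ hne)
  · right
    refine ⟨ht, ?_⟩
    have hn := resS_norm χ
    rw [ht] at hn
    have hn2 : Cfsg.classInner (resS (χ : G2 → ℂ)) (resS (χ : G2 → ℂ)) = 2 := by
      rw [hn]; norm_num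
    obtain ⟨η₁, η₂, h1, h2, hne, hsum⟩ :=
      Cfsg.Agent.S2307.split_of_norm_two (isCharacter_resS χ) hn2
    have c1 : Cfsg.classInner (resS (χ : G2 → ℂ)) η₁ ≠ 0 := by
      rw [hsum, classInner_add_left, h7_irr_norm h1, h7_irr_inner_ne h2 h1 (Ne.symm hne)]
      norm_num
    have c2 : Cfsg.classInner (resS (χ : G2 → ℂ)) η₂ ≠ 0 := by
      rw [hsum, classInner_add_left, h7_irr_norm h2, h7_irr_inner_ne h1 h2 hne]
      norm_num
    have hor : η₁ = ψ ∨ η₂ = ψ := by
      by_contra hcon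
      rw [not_or] at hcon
      apply h
      rw [hsum, classInner_add_left, h7_irr_inner_ne h1 hψ hcon.1, h7_irr_inner_ne h2 hψ hcon.2,
        add_zero]
    rcases hor with e | e
    · subst e
      exact ⟨η₂, h2, hsum, conj_of_constituents χ η₁ η₂ h1 h2 c1 c2⟩
    · subst e
      exact ⟨η₁, h1, by rw [hsum, add_comm], conj_of_constituents χ η₂ η₁ h2 h1 c2 c1⟩

/-- every irreducible character of `SL₂` is a constituent of a restriction from `GL₂` -/
theorem exists_above' (ψ : IrrS) :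
    ∃ χ : Irr2, Cfsg.classInner (resS (χ : G2 → ℂ)) (ψ : S2 → ℂ) ≠ 0 := by
  by_contra hcon
  push_neg at hcon
  have h := sum_resS_deg (F := F) ψ
  rw [Finset.sum_eq_zero (fun χ _ => by rw [hcon χ, zero_mul])] at h
  have h0 := qm1_ne_zero (F := F)
  exact (mul_ne_zero h0 (irr_one_ne_zero ψ)) h.symm

/-- value of a constituent at a regular semisimple element, and its degree -/
theorem constituent_value (hodd : Odd (Fintype.card F)) (χ : Irr2) (ψ : S2 → ℂ)
    (hψ : Cfsg.IsIrrCharacter S2 ψ) (h : Cfsg.classInner (resS (χ : G2 → ℂ)) ψ ≠ 0) :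
    (χ : G2 → ℂ) 1 = (twI χ : ℂ) * ψ 1 ∧
    ∀ s : S2, ¬ IsScalar2 (s : M2) → (s : M2).trace * (s : M2).trace ≠ 4 →
      (χ : G2 → ℂ) (Matrix.SpecialLinearGroup.toGL s) = (twI χ : ℂ) * ψ s := by
  rcases constituent_structure χ ψ hψ h with ⟨ht, hres⟩ | ⟨ht, ψ', hψ', hres, k, hk⟩
  · rw [ht, Nat.cast_one]
    constructor
    · rw [one_mul, ← hres, resS_one]
    · intro s _ _
      rw [one_mul, ← hres, resS_apply]
  · rw [ht]
    have hcl : Cfsg.IsClassFunction S2 ψ :=
      isCharacter_isClassFunction (isCharacter_of_irr ⟨ψ, hψ⟩)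
    constructor
    · have e0 : (χ : G2 → ℂ) 1 = resS (χ : G2 → ℂ) 1 := (resS_one _).symm
      rw [e0, hres, Pi.add_apply, hk 1]
      have : conjS k (1 : S2) = 1 := by
        apply Subtype.ext
        rw [conjS_coe]
        have h2 : (k : M2) * ((k⁻¹ : G2) : M2) = 1 := by
          have := congrArg (fun z : G2 => (z : M2)) (mul_inv_cancel k)
          simpa using this
        simp [h2]
      rw [this]
      push_cast
      ring
    · intro s hs hts
      have e0 : (χ : G2 → ℂ) (Matrix.SpecialLinearGroup.toGL s) = resS (χ : G2 → ℂ) s := rfl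
      rw [e0, hres, Pi.add_apply, hk s]
      obtain ⟨c, hc⟩ := isConj_iff.mp (conjS_isConj hodd k s hs hts)
      rw [← hc, hcl s c]
      push_cast
      ring

end OddTwo

end Cfsg.Agent.Lib.helper14
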