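import Cfsg.Agent.Lib.helper14.SL2Even
import Cfsg.Agent.Lib.helper7.CharCentral

set_option autoImplicit false
set_option linter.unusedSectionVars false
open Cfsg

namespace Cfsg.Agent.Lib.helper14

open Cfsg.Agent.Lib.helper7 Cfsg.Agent.Lib.helper2 Cfsg.Agent.Lib.Helper25 Cfsg.Agent.Lib.Helper11

open scoped ComplexConjugate

section Twist

variable {F : Type*} [Field F] [Fintype F] [DecidableEq F]
variable [Fintype (Cfsg.IrrCharacter (GL (Fin 2) F))] [Fintype (MulChar F ℂ)]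

local notation "G2" => GL (Fin 2) F
local notation "S2" => Matrix.SpecialLinearGroup (Fin 2) F
local notation "M2" => Matrix (Fin 2) (Fin 2) F
local notation "Irr2" => Cfsg.IrrCharacter (GL (Fin 2) F)
local notation "IrrS" => Cfsg.IrrCharacter (Matrix.SpecialLinearGroup (Fin 2) F)

/-- twist of an irreducible character of `GL₂` by a character of the determinant -/
noncomputable def glTwist (χ : Irr2) (l : MulChar F ℂ) : Irr2 :=
  ⟨fun g => ((glLamHom l g : ℂˣ) : ℂ) * (χ : G2 → ℂ) g, isIrr_linChar_mul (glLamHom l) _ χ.2⟩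

theorem glTwist_apply (χ : Irr2) (l : MulChar F ℂ) (g : G2) :
    (glTwist χ l : G2 → ℂ) g = l ((g : M2).det) * (χ : G2 → ℂ) g := by
  show ((glLamHom l g : ℂˣ) : ℂ) * (χ : G2 → ℂ) g = _
  rw [glLamHom, MonoidHom.comp_apply, MulChar.coe_toUnitHom,
    Matrix.GeneralLinearGroup.val_det_apply]

theorem glTwist_one (χ : Irr2) : glTwist χ 1 = χ := by
  apply Subtype.ext
  funext g
  rw [glTwist_apply, MulChar.one_apply (isUnit_iff_ne_zero.mpr (Matrix.GeneralLinearGroup.det_ne_zero g)), one_mul]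

/-- sum over `SL₂` as a sum over `GL₂` restricted to determinant one -/
theorem sum_sl_eq (f : G2 → ℂ) :
    ∑ s : S2, f (Matrix.SpecialLinearGroup.toGL s) =
      ∑ g : G2, if (g : M2).det = 1 then f g else 0 := by
  classical
  haveI : Fintype (detKer F) := Fintype.ofFinite _
  rw [← Finset.sum_filter]
  have h1 : ∑ s : S2, f (Matrix.SpecialLinearGroup.toGL s) = ∑ n : detKer F, f (n : G2) :=
    Fintype.sum_equiv (slEquiv (F := F)).toEquiv _ _ (fun s => rfl)
  rw [h1]
  symm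
  apply Finset.sum_subtype
  intro g
  rw [Finset.mem_filter, mem_detKer]
  simp

/-- the indicator of determinant one as an average of characters -/
theorem det_indicator (x : F) (hx : x ≠ 0) :
    (if x = 1 then (1 : ℂ) else 0) =
      ((Fintype.card F : ℂ) - 1)⁻¹ * ∑ l : MulChar F ℂ, l x := by
  have h0 := qm1_ne_zero (F := F)
  by_cases h : x = 1
  · rw [if_pos h, h]
    simp only [map_one, Finset.sum_const, Finset.card_univ, nsmul_eq_mul, mul_one]
    rw [card_mulChar_cast, inv_mul_cancel₀ h0]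
  · rw [if_neg h, sum_mulChar_eq_zero x h, mul_zero]

theorem card_G2_eq : (Nat.card G2 : ℂ) = (Nat.card S2 : ℂ) * ((Fintype.card F : ℂ) - 1) := by
  classical
  have h1 := Subgroup.card_mul_index (detKer F)
  have h2 : (detKer F).index = Fintype.card F - 1 := by
    rw [detKer, Subgroup.index_ker]
    have hsurj : Function.Surjective (Matrix.GeneralLinearGroup.det : G2 →* Fˣ) := by
      intro u
      refine ⟨Cfsg.Agent.S2304.bG u 1 0, ?_⟩
      apply Units.ext
      rw [Matrix.GeneralLinearGroup.val_det_apply, Cfsg.Agent.S2304.bG_coe, Matrix.det_fin_two_of]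
      simp
    rw [MonoidHom.range_eq_top.mpr hsurj, Subgroup.card_top, Nat.card_units,
      Nat.card_eq_fintype_card]
  have h3 : Nat.card (detKer F) = Nat.card S2 := Nat.card_congr (slEquiv (F := F)).toEquiv.symm
  rw [h2, h3] at h1
  rw [← h1, Nat.cast_mul]
  congr 1
  have : 1 ≤ Fintype.card F := Fintype.card_pos
  rw [Nat.cast_sub this]
  simp

/-- restriction formula: the inner product over `SL₂` of two restricted irreducible characters
of `GL₂` counts the twists carrying one to the other -/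
theorem resS_inner (χ χ' : Irr2) :
    Cfsg.classInner (fun s : S2 => (χ : G2 → ℂ) (Matrix.SpecialLinearGroup.toGL s))
      (fun s : S2 => (χ' : G2 → ℂ) (Matrix.SpecialLinearGroup.toGL s)) =
      ((Finset.univ.filter (fun l : MulChar F ℂ => glTwist χ l = χ')).card : ℂ) := by
  classical
  have h0 := qm1_ne_zero (F := F)
  have hS : (Nat.card S2 : ℂ) ≠ 0 := by exact_mod_cast Nat.card_pos.ne'
  unfold Cfsg.classInner
  rw [sum_sl_eq (fun g => (χ : G2 → ℂ) g * conj ((χ' : G2 → ℂ) g))]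
  have h1 : ∀ g : G2, (if (g : M2).det = 1 then (χ : G2 → ℂ) g * conj ((χ' : G2 → ℂ) g) else 0) =
      ((Fintype.card F : ℂ) - 1)⁻¹ * ∑ l : MulChar F ℂ,
        (glTwist χ l : G2 → ℂ) g * conj ((χ' : G2 → ℂ) g) := by
    intro g
    have hd : (g : M2).det ≠ 0 := Matrix.GeneralLinearGroup.det_ne_zero g
    have := det_indicator (F := F) _ hd
    have h2 : (if (g : M2).det = 1 then (χ : G2 → ℂ) g * conj ((χ' : G2 → ℂ) g) else 0) =
        (if (g : M2).det = 1 then (1 : ℂ) else 0) * ((χ : G2 → ℂ) g * conj ((χ' : G2 → ℂ) g)) := by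
      split_ifs <;> simp
    rw [h2, this, mul_assoc, Finset.sum_mul]
    congr 1
    apply Finset.sum_congr rfl
    intro l _
    rw [glTwist_apply]
    ring
  rw [Finset.sum_congr rfl (fun g _ => h1 g), ← Finset.mul_sum, Finset.sum_comm]
  have h3 : ∀ l : MulChar F ℂ, ∑ g : G2, (glTwist χ l : G2 → ℂ) g * conj ((χ' : G2 → ℂ) g) =
      (Nat.card G2 : ℂ) * (if glTwist χ l = χ' then 1 else 0) := by
    intro l
    have := irr_classInner (glTwist χ l) χ'
    unfold Cfsg.classInner at this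
    rw [← this]
    have hG : (Nat.card G2 : ℂ) ≠ 0 := by exact_mod_cast Nat.card_pos.ne'
    field_simp
  rw [Finset.sum_congr rfl (fun l _ => h3 l), ← Finset.mul_sum, Finset.sum_boole, card_G2_eq]
  field_simp


theorem scG_coe' (z : Fˣ) : ((scG z : G2) : M2) = (z : F) • (1 : M2) := rfl

theorem scG_mem_center (z : Fˣ) : (scG z : G2) ∈ Subgroup.center G2 := by
  rw [Subgroup.mem_center_iff]
  intro g
  apply Units.ext
  rw [Matrix.GeneralLinearGroup.coe_mul, Matrix.GeneralLinearGroup.coe_mul, scG_coe',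
    Matrix.smul_mul, Matrix.mul_smul, one_mul, mul_one]

theorem det_scG' (z : Fˣ) : ((scG z : G2) : M2).det = (z : F) ^ 2 := by
  rw [scG_coe', Matrix.det_smul, Fintype.card_fin, Matrix.det_one, mul_one]

theorem irr_center_ne_zero (χ : Irr2) (z : G2) (hz : z ∈ Subgroup.center G2) :
    (χ : G2 → ℂ) z ≠ 0 := by
  obtain ⟨c, hc⟩ := h7_central_char χ.2 z hz
  have h1 := hc z⁻¹
  rw [mul_inv_cancel] at h1
  have h2 := hc 1
  rw [mul_one] at h2
  have hne := irr_one_ne_zero χ
  have hc0 : c ≠ 0 := by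
    intro h0
    rw [h0, zero_mul] at h1
    exact hne h1
  rw [h2]
  exact mul_ne_zero hc0 hne

/-- a twist fixing an irreducible character has square one -/
theorem sq_eq_one_of_twist_fix (χ : Irr2) (l : MulChar F ℂ) (h : glTwist χ l = χ) :
    l ^ 2 = 1 := by
  apply MulChar.ext
  intro a
  have h1 := congrArg (fun ψ : Irr2 => (ψ : G2 → ℂ) (scG a)) h
  simp only [glTwist_apply, det_scG'] at h1
  have hne := irr_center_ne_zero χ (scG a) (scG_mem_center a)
  have h2 : l ((a : F) ^ 2) = 1 := by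
    have : l ((a : F) ^ 2) * (χ : G2 → ℂ) (scG a) = 1 * (χ : G2 → ℂ) (scG a) := by
      rw [h1, one_mul]
    exact mul_right_cancel₀ hne this
  rw [MulChar.pow_apply_coe, ← map_pow, h2, MulChar.one_apply_coe]

theorem card_sq_eq_one_le :
    (Finset.univ.filter (fun l : MulChar F ℂ => l ^ 2 = 1)).card ≤ 2 := by
  classical
  obtain ⟨e⟩ := MulChar.mulEquiv_units F ℂ
  haveI : IsCyclic (MulChar F ℂ) :=
    isCyclic_of_surjective e.symm.toMonoidHom e.symm.surjective
  exact IsCyclic.card_pow_eq_one_le (α := MulChar F ℂ) (by norm_num : 0 < 2)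

/-- the stabilizer count of an irreducible character under twisting is 1 or 2 -/
theorem card_twist_fix (χ : Irr2) :
    (Finset.univ.filter (fun l : MulChar F ℂ => glTwist χ l = χ)).card = 1 ∨
    (Finset.univ.filter (fun l : MulChar F ℂ => glTwist χ l = χ)).card = 2 := by
  classical
  have h1 : 1 ≤ (Finset.univ.filter (fun l : MulChar F ℂ => glTwist χ l = χ)).card := by
    apply Finset.card_pos.mpr
    exact ⟨1, by rw [Finset.mem_filter]; exact ⟨Finset.mem_univ _, glTwist_one χ⟩⟩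
  have h2 : (Finset.univ.filter (fun l : MulChar F ℂ => glTwist χ l = χ)).card ≤ 2 := by
    refine le_trans (Finset.card_le_card ?_) (card_sq_eq_one_le (F := F))
    intro l hl
    rw [Finset.mem_filter] at hl ⊢
    exact ⟨Finset.mem_univ _, sq_eq_one_of_twist_fix χ l hl.2⟩
  omega


/-- restriction of a function on `GL₂` to `SL₂` -/
noncomputable def resS (χ : G2 → ℂ) : S2 → ℂ := fun s => χ (Matrix.SpecialLinearGroup.toGL s)

theorem resS_apply (χ : G2 → ℂ) (s : S2) : resS χ s = χ (Matrix.SpecialLinearGroup.toGL s) := rfl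

theorem resS_one (χ : G2 → ℂ) : resS χ 1 = χ 1 := by
  rw [resS_apply, map_one]

theorem isCharacter_resS (χ : Irr2) : Cfsg.IsCharacter S2 (resS (χ : G2 → ℂ)) :=
  isCharacter_comp_hom (isCharacter_of_irr χ) Matrix.SpecialLinearGroup.toGL

/-- the stabilizer count under twisting -/
noncomputable def twI (χ : Irr2) : ℕ :=
  (Finset.univ.filter (fun l : MulChar F ℂ => glTwist χ l = χ)).card

theorem twI_cases (χ : Irr2) : twI χ = 1 ∨ twI χ = 2 := card_twist_fix χ

theorem resS_norm (χ : Irr2) :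
    Cfsg.classInner (resS (χ : G2 → ℂ)) (resS (χ : G2 → ℂ)) = (twI χ : ℂ) := resS_inner χ χ

/-- transport of inner products from `SL₂` to the determinant kernel -/
theorem classInner_toKer [Fintype (detKer F)] (χ : G2 → ℂ) (η : S2 → ℂ) :
    Cfsg.classInner (fun n : detKer F => χ n) (fun n => η (slEquiv.symm n)) =
      Cfsg.classInner (resS χ) η := by
  unfold Cfsg.classInner
  have h3 : Nat.card (detKer F) = Nat.card S2 := Nat.card_congr (slEquiv (F := F)).toEquiv.symm
  rw [h3]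
  congr 1
  symm
  apply Fintype.sum_equiv (slEquiv (F := F)).toEquiv
  intro s
  show resS χ s * conj (η s) = χ ((slEquiv s : detKer F) : G2) * conj (η (slEquiv.symm (slEquiv s)))
  rw [MulEquiv.symm_apply_apply]
  rfl

/-- two irreducible constituents of the restriction to `SL₂` have the same degree -/
theorem resS_constituents_deg (χ : Irr2) (η₁ η₂ : S2 → ℂ) (h1 : Cfsg.IsIrrCharacter S2 η₁)
    (h2 : Cfsg.IsIrrCharacter S2 η₂) (c1 : Cfsg.classInner (resS (χ : G2 → ℂ)) η₁ ≠ 0)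
    (c2 : Cfsg.classInner (resS (χ : G2 → ℂ)) η₂ ≠ 0) : η₂ 1 = η₁ 1 := by
  classical
  haveI : Fintype (detKer F) := Fintype.ofFinite _
  have d1 : Cfsg.classInner (fun n : detKer F => (χ : G2 → ℂ) n)
      (fun n => η₁ (slEquiv.symm n)) ≠ 0 := by
    rw [classInner_toKer]; exact c1
  have d2 : Cfsg.classInner (fun n : detKer F => (χ : G2 → ℂ) n)
      (fun n => η₂ (slEquiv.symm n)) ≠ 0 := by
    rw [classInner_toKer]; exact c2
  obtain ⟨k, hk⟩ := clifford_conj (detKer F) (χ : G2 → ℂ) χ.2 _ _ (isIrr_toKer η₁ h1)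
    (isIrr_toKer η₂ h2) d1 d2
  have := congrFun hk 1
  rw [cj_apply] at this
  simp only [map_one] at this
  rw [this]
  congr 1
  rw [← map_one (slEquiv (F := F)).symm]
  congr 1
  ext
  simp


variable [Fintype (Cfsg.IrrCharacter (Matrix.SpecialLinearGroup (Fin 2) F))]

theorem resS_weight (χ : Irr2) (d : ℂ) :
    ∑ ψ ∈ Finset.univ.filter (fun ψ : IrrS => (ψ : S2 → ℂ) 1 = d),
        Cfsg.classInner (resS (χ : G2 → ℂ)) (ψ : S2 → ℂ) =
      if twI χ = 1 then (if (χ : G2 → ℂ) 1 = d then 1 else 0)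
      else (if (χ : G2 → ℂ) 1 = 2 * d then 2 else 0) := by
  classical
  rcases twI_cases χ with h | h
  · rw [if_pos h]
    have hn := resS_norm χ
    rw [h, Nat.cast_one] at hn
    have hirr := h7_irr_of_norm_one (isCharacter_resS χ) hn
    have e : ∀ ψ : IrrS, Cfsg.classInner (resS (χ : G2 → ℂ)) (ψ : S2 → ℂ) =
        if (⟨resS (χ : G2 → ℂ), hirr⟩ : IrrS) = ψ then 1 else 0 := by
      intro ψ
      exact irr_classInner (⟨resS (χ : G2 → ℂ), hirr⟩ : IrrS) ψ
    rw [Finset.sum_congr rfl (fun ψ _ => e ψ), Finset.sum_ite_eq]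
    simp only [Finset.mem_filter, Finset.mem_univ, true_and, resS_one]
  · have h' : twI χ ≠ 1 := by omega
    rw [if_neg h']
    have hn := resS_norm χ
    rw [h] at hn
    have hn2 : Cfsg.classInner (resS (χ : G2 → ℂ)) (resS (χ : G2 → ℂ)) = 2 := by
      rw [hn]; norm_num
    obtain ⟨η₁, η₂, h1, h2, hne, hsum⟩ :=
      Cfsg.Agent.S2307.split_of_norm_two (isCharacter_resS χ) hn2
    have e : ∀ ψ : IrrS, Cfsg.classInner (resS (χ : G2 → ℂ)) (ψ : S2 → ℂ) =
        (if (⟨η₁, h1⟩ : IrrS) = ψ then 1 else 0) + (if (⟨η₂, h2⟩ : IrrS) = ψ then 1 else 0) := by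
      intro ψ
      rw [hsum, classInner_add_left]
      rw [irr_classInner (⟨η₁, h1⟩ : IrrS) ψ, irr_classInner (⟨η₂, h2⟩ : IrrS) ψ]
    rw [Finset.sum_congr rfl (fun ψ _ => e ψ), Finset.sum_add_distrib, Finset.sum_ite_eq,
      Finset.sum_ite_eq]
    simp only [Finset.mem_filter, Finset.mem_univ, true_and]
    have c1 : Cfsg.classInner (resS (χ : G2 → ℂ)) η₁ ≠ 0 := by
      rw [hsum, classInner_add_left, h7_irr_norm h1, h7_irr_inner_ne h2 h1 (Ne.symm hne)]
      norm_num
    have c2 : Cfsg.classInner (resS (χ : G2 → ℂ)) η₂ ≠ 0 := by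
      rw [hsum, classInner_add_left, h7_irr_norm h2, h7_irr_inner_ne h1 h2 hne]
      norm_num
    have hdeg := resS_constituents_deg χ η₁ η₂ h1 h2 c1 c2
    have hχ1 : (χ : G2 → ℂ) 1 = 2 * η₁ 1 := by
      have e0 : (χ : G2 → ℂ) 1 = resS (χ : G2 → ℂ) 1 := (resS_one _).symm
      rw [e0, hsum, Pi.add_apply, hdeg]
      ring
    by_cases hd : η₁ 1 = d
    · rw [if_pos hd, if_pos (hdeg.trans hd), if_pos (by rw [hχ1, hd])]
      norm_num
    · have hd2 : ¬ η₂ 1 = d := by rw [hdeg]; exact hd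
      have hd3 : ¬ (χ : G2 → ℂ) 1 = 2 * d := by
        rw [hχ1]
        intro hh
        apply hd
        have h2ne : (2 : ℂ) ≠ 0 := by norm_num
        exact mul_left_cancel₀ h2ne hh
      rw [if_neg hd, if_neg hd2, if_neg hd3]
      norm_num

theorem toGL_eq_one_iff (s : S2) : (Matrix.SpecialLinearGroup.toGL s : G2) = 1 ↔ s = 1 := by
  constructor
  · intro h
    apply Subtype.ext
    have := congrArg (fun g : G2 => (g : M2)) h
    simpa using this
  · rintro rfl
    exact map_one _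

/-- Frobenius reciprocity in degree form -/
theorem sum_resS_deg (ψ : IrrS) :
    ∑ χ : Irr2, Cfsg.classInner (resS (χ : G2 → ℂ)) (ψ : S2 → ℂ) * (χ : G2 → ℂ) 1 =
      ((Fintype.card F : ℂ) - 1) * (ψ : S2 → ℂ) 1 := by
  classical
  have hS : (Nat.card S2 : ℂ) ≠ 0 := by exact_mod_cast Nat.card_pos.ne'
  unfold Cfsg.classInner
  have h1 : ∀ χ : Irr2, (Nat.card S2 : ℂ)⁻¹ * (∑ s : S2, resS (χ : G2 → ℂ) s * conj ((ψ : S2 → ℂ) s)) *
      (χ : G2 → ℂ) 1 = (Nat.card S2 : ℂ)⁻¹ * ∑ s : S2, conj ((ψ : S2 → ℂ) s) *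
        ((χ : G2 → ℂ) (Matrix.SpecialLinearGroup.toGL s) * conj ((χ : G2 → ℂ) 1)) := by
    intro χ
    rw [mul_assoc, Finset.sum_mul]
    congr 1
    apply Finset.sum_congr rfl
    intro s _
    rw [conj_deg, resS_apply]
    ring
  rw [Finset.sum_congr rfl (fun χ _ => h1 χ), ← Finset.mul_sum, Finset.sum_comm]
  have h2 : ∀ s : S2, ∑ χ : Irr2, conj ((ψ : S2 → ℂ) s) *
      ((χ : G2 → ℂ) (Matrix.SpecialLinearGroup.toGL s) * conj ((χ : G2 → ℂ) 1)) =
      if s = 1 then conj ((ψ : S2 → ℂ) 1) * (Nat.card G2 : ℂ) else 0 := by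
    intro s
    rw [← Finset.mul_sum, irr_column_orthogonality (Matrix.SpecialLinearGroup.toGL s : G2) 1]
    by_cases hs : s = 1
    · rw [if_pos hs, hs, map_one, if_pos (IsConj.refl 1)]
      congr 2
      have : Subgroup.centralizer ({1} : Set G2) = ⊤ := by
        rw [Subgroup.centralizer_eq_top_iff_subset]
        intro x hx
        rw [Set.mem_singleton_iff] at hx
        rw [hx]
        exact Subgroup.one_mem _
      rw [this, Subgroup.card_top]
    · rw [if_neg hs, if_neg, mul_zero]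
      intro hc
      rw [isConj_one_right] at hc
      exact hs ((toGL_eq_one_iff s).mp hc)
  rw [Finset.sum_congr rfl (fun s _ => h2 s), Finset.sum_ite_eq' Finset.univ (1 : S2)]
  simp only [Finset.mem_univ, if_true]
  have hc : conj ((ψ : S2 → ℂ) 1) = (ψ : S2 → ℂ) 1 := by
    obtain ⟨n, -, hn⟩ := irr_one_eq_finrank ψ
    rw [hn, Complex.conj_natCast]
  rw [hc, card_G2_eq]
  field_simp


/-- the counting identity relating degrees of `SL₂` and `GL₂` characters -/
theorem count_star (d : ℂ) (hd : d ≠ 0) :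
    ((Fintype.card F : ℂ) - 1) *
        ((Finset.univ.filter (fun ψ : IrrS => (ψ : S2 → ℂ) 1 = d)).card : ℂ) =
      ((Finset.univ.filter (fun χ : Irr2 => twI χ = 1 ∧ (χ : G2 → ℂ) 1 = d)).card : ℂ) +
      4 * ((Finset.univ.filter (fun χ : Irr2 => twI χ ≠ 1 ∧ (χ : G2 → ℂ) 1 = 2 * d)).card : ℂ) := by
  classical
  have key1 : ∑ ψ ∈ Finset.univ.filter (fun ψ : IrrS => (ψ : S2 → ℂ) 1 = d),
      ∑ χ : Irr2, Cfsg.classInner (resS (χ : G2 → ℂ)) (ψ : S2 → ℂ) * (χ : G2 → ℂ) 1 =
      ((Finset.univ.filter (fun ψ : IrrS => (ψ : S2 → ℂ) 1 = d)).card : ℂ) *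
        (((Fintype.card F : ℂ) - 1) * d) := by
    rw [Finset.sum_congr rfl (fun ψ _ => sum_resS_deg ψ)]
    have : ∀ ψ ∈ Finset.univ.filter (fun ψ : IrrS => (ψ : S2 → ℂ) 1 = d),
        ((Fintype.card F : ℂ) - 1) * (ψ : S2 → ℂ) 1 = ((Fintype.card F : ℂ) - 1) * d := by
      intro ψ hψ
      rw [(Finset.mem_filter.mp hψ).2]
    rw [Finset.sum_congr rfl this, Finset.sum_const, nsmul_eq_mul]
  have key2 : ∑ ψ ∈ Finset.univ.filter (fun ψ : IrrS => (ψ : S2 → ℂ) 1 = d),
      ∑ χ : Irr2, Cfsg.classInner (resS (χ : G2 → ℂ)) (ψ : S2 → ℂ) * (χ : G2 → ℂ) 1 =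
      d * ((Finset.univ.filter (fun χ : Irr2 => twI χ = 1 ∧ (χ : G2 → ℂ) 1 = d)).card : ℂ) +
      4 * d * ((Finset.univ.filter
        (fun χ : Irr2 => twI χ ≠ 1 ∧ (χ : G2 → ℂ) 1 = 2 * d)).card : ℂ) := by
    rw [Finset.sum_comm]
    have e : ∀ χ : Irr2, ∑ ψ ∈ Finset.univ.filter (fun ψ : IrrS => (ψ : S2 → ℂ) 1 = d),
        Cfsg.classInner (resS (χ : G2 → ℂ)) (ψ : S2 → ℂ) * (χ : G2 → ℂ) 1 =
        d * (if twI χ = 1 ∧ (χ : G2 → ℂ) 1 = d then 1 else 0) +
        4 * d * (if twI χ ≠ 1 ∧ (χ : G2 → ℂ) 1 = 2 * d then 1 else 0) := by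
      intro χ
      rw [← Finset.sum_mul, resS_weight]
      by_cases h1 : twI χ = 1
      · rw [if_pos h1]
        have hn : ¬ (twI χ ≠ 1 ∧ (χ : G2 → ℂ) 1 = 2 * d) := fun h => h.1 h1
        rw [if_neg hn]
        by_cases h2 : (χ : G2 → ℂ) 1 = d
        · rw [if_pos h2, if_pos ⟨h1, h2⟩, h2]
          ring
        · rw [if_neg h2, if_neg (fun h => h2 h.2)]
          ring
      · rw [if_neg h1]
        have hn : ¬ (twI χ = 1 ∧ (χ : G2 → ℂ) 1 = d) := fun h => h1 h.1
        rw [if_neg hn]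
        by_cases h2 : (χ : G2 → ℂ) 1 = 2 * d
        · rw [if_pos h2, if_pos ⟨h1, h2⟩, h2]
          ring
        · rw [if_neg h2, if_neg (fun h => h2 h.2)]
          ring
    rw [Finset.sum_congr rfl (fun χ _ => e χ), Finset.sum_add_distrib, ← Finset.mul_sum,
      ← Finset.mul_sum, Finset.sum_boole, Finset.sum_boole]
  rw [key1] at key2
  have : d * (((Fintype.card F : ℂ) - 1) *
        ((Finset.univ.filter (fun ψ : IrrS => (ψ : S2 → ℂ) 1 = d)).card : ℂ)) =
      d * (((Finset.univ.filter (fun χ : Irr2 => twI χ = 1 ∧ (χ : G2 → ℂ) 1 = d)).card : ℂ) +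
      4 * ((Finset.univ.filter
        (fun χ : Irr2 => twI χ ≠ 1 ∧ (χ : G2 → ℂ) 1 = 2 * d)).card : ℂ)) := by
    linear_combination key2
  exact mul_left_cancel₀ hd this

end Twist

end Cfsg.Agent.Lib.helper14
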