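import Cfsg.Agent.Lib.helper14.SLnVec
import Cfsg.Agent.Lib.helper6.PermChar5

/-!
# The action of `SL_n(F)` on non-zero vectors: rank and commutant
-/

set_option autoImplicit false

namespace Cfsg.Agent.Lib.helper14.SLnVec

open Matrix Module MulAction

section Action

variable {F : Type*} [Field F] {n : ℕ}

local notation "V" => (Fin n → F)
local notation "SLn" => Matrix.SpecialLinearGroup (Fin n) F

/-- the non-zero vectors -/
def NZ (n : ℕ) (F : Type*) [Field F] : Type _ := {v : Fin n → F // v ≠ 0}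

theorem NZ.ext {x y : NZ n F} (h : x.1 = y.1) : x = y := Subtype.ext h

theorem mulVec_ne_zero (g : SLn) (v : V) (hv : v ≠ 0) :
    (g : Matrix (Fin n) (Fin n) F).mulVec v ≠ 0 := by
  intro h
  apply hv
  have h1 : ((g⁻¹ * g : SLn) : Matrix (Fin n) (Fin n) F).mulVec v = v := by
    rw [inv_mul_cancel, Matrix.SpecialLinearGroup.coe_one, Matrix.one_mulVec]
  rw [Matrix.SpecialLinearGroup.coe_mul, ← Matrix.mulVec_mulVec, h, Matrix.mulVec_zero] at h1
  exact h1.symm

instance : MulAction SLn (NZ n F) where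
  smul g v := ⟨(g : Matrix (Fin n) (Fin n) F).mulVec v.1, mulVec_ne_zero g v.1 v.2⟩
  one_smul v := by
    apply NZ.ext
    show ((1 : SLn) : Matrix (Fin n) (Fin n) F).mulVec v.1 = v.1
    rw [Matrix.SpecialLinearGroup.coe_one, Matrix.one_mulVec]
  mul_smul g h v := by
    apply NZ.ext
    show ((g * h : SLn) : Matrix (Fin n) (Fin n) F).mulVec v.1 =
      (g : Matrix (Fin n) (Fin n) F).mulVec ((h : Matrix (Fin n) (Fin n) F).mulVec v.1)
    rw [Matrix.SpecialLinearGroup.coe_mul, Matrix.mulVec_mulVec]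

theorem smul_val (g : SLn) (v : NZ n F) :
    (g • v).1 = (g : Matrix (Fin n) (Fin n) F).mulVec v.1 := rfl

/-- scalar multiplication by units on non-zero vectors -/
def usmul (c : Fˣ) (v : NZ n F) : NZ n F :=
  ⟨(c : F) • v.1, by
    intro h
    rcases smul_eq_zero.mp h with h | h
    · exact c.ne_zero h
    · exact v.2 h⟩

theorem usmul_val (c : Fˣ) (v : NZ n F) : (usmul c v).1 = (c : F) • v.1 := rfl

theorem smul_usmul (g : SLn) (c : Fˣ) (v : NZ n F) : g • usmul c v = usmul c (g • v) := by
  apply NZ.ext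
  rw [smul_val, usmul_val, usmul_val, smul_val, Matrix.mulVec_smul]

theorem usmul_injective (v : NZ n F) : Function.Injective (fun c : Fˣ => usmul c v) := by
  intro c d h
  have h1 : (c : F) • v.1 = (d : F) • v.1 := congrArg Subtype.val h
  have h2 : ((c : F) - (d : F)) • v.1 = 0 := by rw [sub_smul, h1, sub_self]
  rcases smul_eq_zero.mp h2 with h3 | h3
  · exact Units.ext (sub_eq_zero.mp h3)
  · exact absurd h3 v.2

theorem usmul_mul (c d : Fˣ) (v : NZ n F) : usmul (c * d) v = usmul c (usmul d v) := by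
  apply NZ.ext
  rw [usmul_val, usmul_val, usmul_val, Units.val_mul, mul_smul]

theorem usmul_one (v : NZ n F) : usmul 1 v = v := by
  apply NZ.ext
  rw [usmul_val, Units.val_one, one_smul]

theorem mem_span_iff (a x : NZ n F) :
    x.1 ∈ Submodule.span F ({a.1} : Set V) ↔ ∃ c : Fˣ, x = usmul c a := by
  rw [Submodule.mem_span_singleton]
  constructor
  · rintro ⟨c, hc⟩
    have hc0 : c ≠ 0 := by
      intro h
      rw [h, zero_smul] at hc
      exact x.2 hc.symm
    exact ⟨Units.mk0 c hc0, NZ.ext hc.symm⟩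
  · rintro ⟨c, rfl⟩
    exact ⟨c, rfl⟩

theorem pretransitive (hn : 3 ≤ n) : IsPretransitive SLn (NZ n F) := by
  constructor
  intro x y
  obtain ⟨g, hg⟩ := exists_sl_map hn x.1 y.1 x.2 y.2
  exact ⟨g, NZ.ext hg⟩

theorem exists_outside (hn : 3 ≤ n) (a : NZ n F) :
    ∃ b : NZ n F, b.1 ∉ Submodule.span F ({a.1} : Set V) := by
  obtain ⟨x, hx⟩ := exists_notMem_span_pair hn a.1 a.1
  have hx' : x ∉ Submodule.span F ({a.1} : Set V) := by
    intro h
    apply hx
    have : ({a.1, a.1} : Set V) = {a.1} := by simp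
    rw [this]
    exact h
  refine ⟨⟨x, ?_⟩, hx'⟩
  intro h
  apply hx'
  rw [h]
  exact Submodule.zero_mem _

theorem exists_stab (hn : 3 ≤ n) (a x y : NZ n F)
    (hx : x.1 ∉ Submodule.span F ({a.1} : Set V)) (hy : y.1 ∉ Submodule.span F ({a.1} : Set V)) :
    ∃ g : SLn, g • a = a ∧ g • x = y := by
  obtain ⟨g, h1, h2⟩ := exists_sl_fix hn a.1 x.1 y.1 hx hy
  exact ⟨g, NZ.ext h1, NZ.ext h2⟩

/-- the point stabiliser has exactly `q` orbits on the non-zero vectors -/
theorem card_suborbits [Fintype F] (hn : 3 ≤ n) (a : NZ n F) :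
    Nat.card (orbitRel.Quotient (stabilizer SLn a) (NZ n F)) = Fintype.card F := by
  classical
  obtain ⟨b, hb⟩ := exists_outside hn a
  have hcard : Nat.card (Option Fˣ) = Fintype.card F := by
    rw [Nat.card_eq_fintype_card, Fintype.card_option, Fintype.card_units]
    have : 0 < Fintype.card F := Fintype.card_pos
    omega
  rw [← hcard]
  symm
  apply Nat.card_congr
  refine Equiv.ofBijective (fun o : Option Fˣ =>
    (Quotient.mk'' (match o with
      | some c => usmul c a
      | none => b) : orbitRel.Quotient (stabilizer SLn a) (NZ n F))) ⟨?_, ?_⟩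
  · intro o o' h
    have h' := Quotient.exact' h
    change _ ∈ orbit (stabilizer SLn a) _ at h'
    obtain ⟨g, hg⟩ := h'
    have hga : (g : SLn) • a = a := g.2
    rcases o with _ | c <;> rcases o' with _ | d
    · rfl
    · exfalso
      apply hb
      have h1 : b = usmul d a := by
        have h2 : (g : SLn) • usmul d a = b := hg
        rw [smul_usmul, hga] at h2
        exact h2.symm
      exact (mem_span_iff a b).mpr ⟨d, h1⟩
    · exfalso
      apply hb
      have h2 : (g : SLn) • b = usmul c a := hg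
      have h3 : b = (g : SLn)⁻¹ • usmul c a := by rw [← h2, inv_smul_smul]
      have hga' : (g : SLn)⁻¹ • a = a := inv_smul_eq_iff.mpr hga.symm
      rw [smul_usmul, hga'] at h3
      exact (mem_span_iff a b).mpr ⟨c, h3⟩
    · have h2 : (g : SLn) • usmul d a = usmul c a := hg
      rw [smul_usmul, hga] at h2
      rw [usmul_injective a h2]
  · intro x
    induction x using Quotient.inductionOn' with | _ x => ?_
    by_cases hx : x.1 ∈ Submodule.span F ({a.1} : Set V)
    · obtain ⟨c, hc⟩ := (mem_span_iff a x).mp hx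
      refine ⟨some c, ?_⟩
      show (Quotient.mk'' (usmul c a) : orbitRel.Quotient (stabilizer SLn a) (NZ n F)) = _
      rw [hc]
    · obtain ⟨g, hga, hgb⟩ := exists_stab hn a b x hb hx
      refine ⟨none, ?_⟩
      show (Quotient.mk'' b : orbitRel.Quotient (stabilizer SLn a) (NZ n F)) = _
      apply Quotient.sound'
      change b ∈ orbit (stabilizer SLn a) x
      refine ⟨⟨g⁻¹, ?_⟩, ?_⟩
      · rw [mem_stabilizer_iff]
        exact inv_smul_eq_iff.mpr hga.symm
      · show (g⁻¹ : SLn) • x = b
        rw [← hgb, inv_smul_smul]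

end Action

end Cfsg.Agent.Lib.helper14.SLnVec
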