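import Cfsg.Agent.Lib.helper14.SLnVec2

/-!
# The commutant of the permutation representation of `SL_n(F)` on non-zero vectors is commutative
-/

set_option autoImplicit false

namespace Cfsg.Agent.Lib.helper14.SLnVec

open Matrix Module MulAction

section Commutant

variable {F : Type*} [Field F] [Fintype F] [DecidableEq F] {n : ℕ}

local notation "V" => (Fin n → F)
local notation "SLn" => Matrix.SpecialLinearGroup (Fin n) F

instance : Finite (NZ n F) := Subtype.finite

noncomputable instance : Fintype (NZ n F) := Fintype.ofFinite _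

noncomputable instance : DecidableEq (NZ n F) := Classical.decEq _

/-- the permutation matrix of a scalar -/
noncomputable def Mc (c : Fˣ) : Matrix (NZ n F) (NZ n F) ℂ :=
  fun x y => if x = usmul c y then 1 else 0

/-- the all-ones matrix -/
def Jm : Matrix (NZ n F) (NZ n F) ℂ := fun _ _ => 1

theorem Mc_mul_Mc (c d : Fˣ) : (Mc c : Matrix (NZ n F) (NZ n F) ℂ) * Mc d = Mc (c * d) := by
  ext x z
  rw [Matrix.mul_apply]
  simp only [Mc]
  have : ∀ y : NZ n F, (if x = usmul c y then (1 : ℂ) else 0) * (if y = usmul d z then 1 else 0) =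
      if y = usmul d z then (if x = usmul c (usmul d z) then 1 else 0) else 0 := by
    intro y
    by_cases h : y = usmul d z
    · rw [if_pos h, if_pos h, mul_one, h]
    · rw [if_neg h, if_neg h, mul_zero]
  rw [Finset.sum_congr rfl (fun y _ => this y), Finset.sum_ite_eq' Finset.univ (usmul d z),
    if_pos (Finset.mem_univ _), usmul_mul]

theorem Mc_mul_Jm (c : Fˣ) : (Mc c : Matrix (NZ n F) (NZ n F) ℂ) * Jm = Jm := by
  ext x z
  rw [Matrix.mul_apply]
  simp only [Mc, Jm, mul_one]
  rw [Finset.sum_eq_single (usmul c⁻¹ x)]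
  · rw [if_pos]
    rw [← usmul_mul, mul_inv_cancel, usmul_one]
  · intro y _ hy
    rw [if_neg]
    intro h
    apply hy
    rw [h, ← usmul_mul, inv_mul_cancel, usmul_one]
  · intro h
    exact absurd (Finset.mem_univ _) h

theorem Jm_mul_Mc (c : Fˣ) : (Jm : Matrix (NZ n F) (NZ n F) ℂ) * Mc c = Jm := by
  ext x z
  rw [Matrix.mul_apply]
  simp only [Mc, Jm, one_mul]
  rw [Finset.sum_ite_eq' Finset.univ (usmul c z), if_pos (Finset.mem_univ _)]

theorem commute_Mc (c d : Fˣ) : Commute (Mc c : Matrix (NZ n F) (NZ n F) ℂ) (Mc d) := by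
  show Mc c * Mc d = Mc d * Mc c
  rw [Mc_mul_Mc, Mc_mul_Mc, mul_comm]

theorem commute_Mc_Jm (c : Fˣ) : Commute (Mc c : Matrix (NZ n F) (NZ n F) ℂ) Jm := by
  show Mc c * Jm = Jm * Mc c
  rw [Mc_mul_Jm, Jm_mul_Mc]

/-- an invariant matrix is a combination of the `Mc c` and `Jm` -/
theorem invariant_matrix_eq (hn : 3 ≤ n) (A : Matrix (NZ n F) (NZ n F) ℂ)
    (hA : ∀ (g : SLn) (x y : NZ n F), A (g • x) (g • y) = A x y) (a b : NZ n F)
    (hb : b.1 ∉ Submodule.span F ({a.1} : Set V)) :
    A = (∑ c : Fˣ, (A (usmul c a) a - A b a) • (Mc c : Matrix (NZ n F) (NZ n F) ℂ)) +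
      (A b a) • Jm := by
  ext x y
  rw [Matrix.add_apply, Matrix.sum_apply, Matrix.smul_apply]
  simp only [Matrix.smul_apply, Mc, Jm, smul_eq_mul, mul_one]
  haveI := pretransitive (F := F) hn
  obtain ⟨g, hg⟩ := exists_smul_eq SLn y a
  have hAx : A x y = A (g • x) a := by rw [← hA g x y, hg]
  by_cases hx : (g • x).1 ∈ Submodule.span F ({a.1} : Set V)
  · obtain ⟨c₀, hc₀⟩ := (mem_span_iff a (g • x)).mp hx
    have hxy : x = usmul c₀ y := by
      have h1 : g • x = g • usmul c₀ y := by rw [smul_usmul, hg, hc₀]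
      exact MulAction.injective g h1
    rw [Finset.sum_eq_single c₀]
    · rw [if_pos hxy, mul_one, hAx, hc₀]
      ring
    · intro c _ hc
      rw [if_neg, mul_zero]
      intro h
      apply hc
      rw [hxy] at h
      exact (usmul_injective y h).symm
    · intro h
      exact absurd (Finset.mem_univ _) h
  · obtain ⟨h, hha, hhx⟩ := exists_stab hn a (g • x) b hx hb
    have h1 : A (g • x) a = A b a := by
      rw [← hA h (g • x) a, hha, hhx]
    rw [Finset.sum_eq_zero, zero_add, hAx, h1]
    intro c _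
    rw [if_neg, mul_zero]
    intro hxy
    apply hx
    rw [hxy, smul_usmul, hg]
    exact (mem_span_iff a _).mpr ⟨c, rfl⟩

theorem invariant_commute (hn : 3 ≤ n) (A B : Matrix (NZ n F) (NZ n F) ℂ)
    (hA : ∀ (g : SLn) (x y : NZ n F), A (g • x) (g • y) = A x y)
    (hB : ∀ (g : SLn) (x y : NZ n F), B (g • x) (g • y) = B x y) : A * B = B * A := by
  obtain ⟨a⟩ : Nonempty (NZ n F) := by
    obtain ⟨x, hx⟩ := exists_notMem_span_pair (F := F) hn (0 : V) 0
    refine ⟨⟨x, ?_⟩⟩
    intro h
    apply hx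
    rw [h]
    exact Submodule.zero_mem _
  obtain ⟨b, hb⟩ := exists_outside hn a
  have eA := invariant_matrix_eq hn A hA a b hb
  have eB := invariant_matrix_eq hn B hB a b hb
  have hPP : Commute (∑ c : Fˣ, (A (usmul c a) a - A b a) • (Mc c : Matrix (NZ n F) (NZ n F) ℂ))
      (∑ c : Fˣ, (B (usmul c a) a - B b a) • (Mc c : Matrix (NZ n F) (NZ n F) ℂ)) := by
    apply Commute.sum_left
    intro c _
    apply Commute.sum_right
    intro d _
    exact ((commute_Mc c d).smul_left _).smul_right _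
  have hPJ : ∀ X : Matrix (NZ n F) (NZ n F) ℂ, (∀ (g : SLn) (x y : NZ n F), X (g • x) (g • y) = X x y) →
      Commute (∑ c : Fˣ, (X (usmul c a) a - X b a) • (Mc c : Matrix (NZ n F) (NZ n F) ℂ)) Jm := by
    intro X _
    apply Commute.sum_left
    intro c _
    exact (commute_Mc_Jm c).smul_left _
  have hcomm : Commute
      ((∑ c : Fˣ, (A (usmul c a) a - A b a) • (Mc c : Matrix (NZ n F) (NZ n F) ℂ)) + (A b a) • Jm)
      ((∑ c : Fˣ, (B (usmul c a) a - B b a) • (Mc c : Matrix (NZ n F) (NZ n F) ℂ)) + (B b a) • Jm) := by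
    apply Commute.add_left
    · apply Commute.add_right
      · exact hPP
      · exact (hPJ A hA).smul_right _
    · apply Commute.add_right
      · exact ((hPJ B hB).symm).smul_left _
      · exact ((Commute.refl Jm).smul_left _).smul_right _
  rw [eA, eB]
  exact hcomm.eq

end Commutant

end Cfsg.Agent.Lib.helper14.SLnVec
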