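import Mathlib
import Cfsg.Agent.Lib.helper3.SPM.Defs
import Cfsg.Agent.Lib.helper3.SPM.Defs2
import Cfsg.Agent.Lib.Helper12.SPMT2
import Cfsg.Agent.Lib.Helper24.STCI1

/-! Project SPM (designer helper3; S2292/S2296), rows T8 (`pmon_hl pmon_wl`) and Y2 (`xr_comm3`), CORE versions
by helper14: the statements of the not yet landed rows T4 (`hl_pair wl_pair`), T7 (`d3_gen`), C3 (`p1_gen`) are hypotheses. -/

set_option autoImplicit false
set_option linter.unusedSectionVars false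

namespace Cfsg.Agent.Lib.helper3.SPM

open Cfsg.Agent.Lib.helper3.STC Cfsg.Agent.Lib.helper3.STC.Mat Cfsg.Agent.Lib.helper17.SLP

universe u v w v'

/-- there is an index different from `k`. -/
theorem spmt8_exists_ne {ι : Type w} (p : Pts ι) (k : ι) : ∃ j : ι, k ≠ j := by
  by_cases h : k = p.o0
  · exact ⟨p.o1, by rw [h]; exact p.h01⟩
  · exact ⟨p.o0, h⟩

section main
variable {F : Type u} [Field F] {ι : Type w} [Fintype ι] [DecidableEq ι] {G : Type v} [Group G]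
  (p : Pts ι) (ν : Equiv.Perm ι →* G) (lam : Sp4 F →* G)


theorem spmt8_dhl_ne {k : ι} {u : F} (hu : u ≠ 0) (c : ι ⊕ ι) : dhl (Sum.inl k) u c ≠ 0 := by
  unfold dhl
  split_ifs
  · exact hu
  · exact inv_ne_zero hu
  · exact one_ne_zero

theorem spmt8_dwl_ne {k : ι} {u : F} (hu : u ≠ 0) (c : ι ⊕ ι) : dwl (Sum.inl k) u c ≠ 0 := by
  unfold dwl
  split_ifs
  · exact neg_ne_zero.2 (inv_ne_zero hu)
  · exact hu
  · exact one_ne_zero

theorem spmt8_ne_of_ab {k : ι} {a : ι ⊕ ι} (h : ab a ≠ k) : a ≠ Sum.inl k ∧ a ≠ ng (Sum.inl k) := by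
  constructor
  · rintro rfl; exact h rfl
  · rintro rfl; exact h rfl

theorem spmt8_dhl_one {k : ι} {u : F} {a : ι ⊕ ι} (h : ab a ≠ k) : dhl (Sum.inl k) u a = 1 := by
  unfold dhl
  rw [if_neg (spmt8_ne_of_ab h).1, if_neg (spmt8_ne_of_ab h).2]

theorem spmt8_dwl_one {k : ι} {u : F} {a : ι ⊕ ι} (h : ab a ≠ k) : dwl (Sum.inl k) u a = 1 := by
  unfold dwl
  rw [if_neg (spmt8_ne_of_ab h).1, if_neg (spmt8_ne_of_ab h).2]

theorem spmt8_swap_fix {k : ι} {a : ι ⊕ ι} (h : ab a ≠ k) : Equiv.swap (Sum.inl k) (Sum.inr k) a = a :=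
  Equiv.swap_apply_of_ne_of_ne (spmt8_ne_of_ab h).1 (spmt8_ne_of_ab h).2

/-- T8 core, torus part: from the statements of T4 `hl_pair` and T7 `d3_gen`. -/
theorem pmon_hl_core
    (hhl : ∀ (k j : ι), k ≠ j → ∀ (u : F), u ≠ 0 → ∀ (a b : ι ⊕ ι), a ≠ b →
      (ab a = k ∨ ab a = j) → (ab b = k ∨ ab b = j) → ∀ t : F,
      hr p ν lam (Sum.inl k) (Sum.inr k) u * xr p ν lam a b t * (hr p ν lam (Sum.inl k) (Sum.inr k) u)⁻¹ =
        xr p ν lam a b (dhl (Sum.inl k) u a * (dhl (Sum.inl k) u b)⁻¹ * t))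
    (hd3 : ∀ (a b : ι ⊕ ι), ab a ≠ ab b → ∀ (k : ι), k ≠ ab a → k ≠ ab b → ∀ (t : F) (g : G),
      g ∈ LB p ν lam k → Commute (xr p ν lam a b t) g)
    (k : ι) {u : F} (hu : u ≠ 0) :
    PMon p ν lam (hr p ν lam (Sum.inl k) (Sum.inr k) u) 1 (dhl (Sum.inl k) u) := by
  refine ⟨spmt8_dhl_ne hu, ?_⟩
  intro a b hab t
  show _ = xr p ν lam a b _
  by_cases hak : ab a = k
  · by_cases hbk : ab b = k
    · obtain ⟨j, hj⟩ := spmt8_exists_ne p k
      exact hhl k j hj u hu a b hab (Or.inl hak) (Or.inl hbk) t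
    · exact hhl k (ab b) (Ne.symm hbk) u hu a b hab (Or.inl hak) (Or.inr rfl) t
  · by_cases hbk : ab b = k
    · exact hhl k (ab a) (Ne.symm hak) u hu a b hab (Or.inr rfl) (Or.inl hbk) t
    · by_cases hab2 : ab a = ab b
      · exact hhl k (ab a) (Ne.symm hak) u hu a b hab (Or.inr rfl) (Or.inr hab2.symm) t
      · have hmem : hr p ν lam (Sum.inl k) (Sum.inr k) u ∈ LB p ν lam k :=
          hr_mem_LB p ν lam (Sum.inl k) u
        have hc := hd3 a b hab2 k (Ne.symm hak) (Ne.symm hbk) t _ hmem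
        rw [spmt8_dhl_one hak, spmt8_dhl_one hbk, inv_one, one_mul, one_mul, ← hc.eq, mul_inv_cancel_right]

/-- T8 core, Weyl part: from the statements of T4 `wl_pair` and T7 `d3_gen`. -/
theorem pmon_wl_core
    (hwl : ∀ (k j : ι), k ≠ j → ∀ (u : F), u ≠ 0 → ∀ (a b : ι ⊕ ι), a ≠ b →
      (ab a = k ∨ ab a = j) → (ab b = k ∨ ab b = j) → ∀ t : F,
      wr p ν lam (Sum.inl k) (Sum.inr k) u * xr p ν lam a b t * (wr p ν lam (Sum.inl k) (Sum.inr k) u)⁻¹ =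
        xr p ν lam (Equiv.swap (Sum.inl k) (Sum.inr k) a) (Equiv.swap (Sum.inl k) (Sum.inr k) b)
          (dwl (Sum.inl k) u a * (dwl (Sum.inl k) u b)⁻¹ * t))
    (hd3 : ∀ (a b : ι ⊕ ι), ab a ≠ ab b → ∀ (k : ι), k ≠ ab a → k ≠ ab b → ∀ (t : F) (g : G),
      g ∈ LB p ν lam k → Commute (xr p ν lam a b t) g)
    (k : ι) {u : F} (hu : u ≠ 0) :
    PMon p ν lam (wr p ν lam (Sum.inl k) (Sum.inr k) u) (Equiv.swap (Sum.inl k) (Sum.inr k)) (dwl (Sum.inl k) u) := by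
  refine ⟨spmt8_dwl_ne hu, ?_⟩
  intro a b hab t
  by_cases hak : ab a = k
  · by_cases hbk : ab b = k
    · obtain ⟨j, hj⟩ := spmt8_exists_ne p k
      exact hwl k j hj u hu a b hab (Or.inl hak) (Or.inl hbk) t
    · exact hwl k (ab b) (Ne.symm hbk) u hu a b hab (Or.inl hak) (Or.inr rfl) t
  · by_cases hbk : ab b = k
    · exact hwl k (ab a) (Ne.symm hak) u hu a b hab (Or.inr rfl) (Or.inl hbk) t
    · by_cases hab2 : ab a = ab b
      · exact hwl k (ab a) (Ne.symm hak) u hu a b hab (Or.inr rfl) (Or.inr hab2.symm) t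
      · have hmem : wr p ν lam (Sum.inl k) (Sum.inr k) u ∈ LB p ν lam k :=
          wr_mem_LB p ν lam (Sum.inl k) u
        have hc := hd3 a b hab2 k (Ne.symm hak) (Ne.symm hbk) t _ hmem
        rw [spmt8_dwl_one hak, spmt8_dwl_one hbk, spmt8_swap_fix hak, spmt8_swap_fix hbk,
          inv_one, one_mul, one_mul, ← hc.eq, mul_inv_cancel_right]

/-- Y2 core: from the statement of C3 `p1_gen`. -/
theorem xr_comm3_core
    (hp1 : ∀ (a b c : ι ⊕ ι), ab a ≠ ab b → ab b ≠ ab c → ab a ≠ ab c → P1 p ν lam a b c)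
    {a b c : ι ⊕ ι} (hab : a ≠ b) (hab' : a ≠ ng b) (hbc : b ≠ c) (hbc' : b ≠ ng c)
    (hac : a ≠ c) (hac' : a ≠ ng c) (t u : F) :
    xr p ν lam a b t * xr p ν lam b c u * (xr p ν lam a b t)⁻¹ * (xr p ν lam b c u)⁻¹ = xr p ν lam a c (t * u) := by
  have h1 : ab a ≠ ab b := fun h => (ab_eq_iff.1 h).elim hab hab'
  have h2 : ab b ≠ ab c := fun h => (ab_eq_iff.1 h).elim hbc hbc'
  have h3 : ab a ≠ ab c := fun h => (ab_eq_iff.1 h).elim hac hac'
  exact hp1 a b c h1 h2 h3 t u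

end main

end Cfsg.Agent.Lib.helper3.SPM
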