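import Mathlib
import Cfsg.Prelude.Def_Classical
import Cfsg.Agent.S0278
import Cfsg.Agent.Lib.helper14.SU3Even

set_option autoImplicit false

/-! The Sylow 2-subgroups of `SU₃(2ⁿ)` are isomorphic to the explicit model `SuzP σ`. -/

namespace Cfsg.Agent.Lib.helper14.SU3EvenSU

open Matrix Cfsg.Agent.Lib.helper14.SU3J Cfsg.Agent.Lib.helper14.SuzModel
  Cfsg.Agent.Lib.helper14.SU3Geo Cfsg.Agent.Lib.helper14.SU3Even

variable {K : Type*} [Field K] [Fintype K] {q : ℕ} [CharP K 2] {σ : K →+* K}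
  [hinv : Fact (∀ x, σ (σ x) = x)]

/-- every Sylow 2-subgroup of `SU₃(2ⁿ)` is isomorphic to the model -/
theorem sylow_equiv_SU (n : ℕ) (hn : 1 ≤ n) (hq : q = 2 ^ n) (hK : Fintype.card K = q ^ 2)
    (hσ : ∀ x, σ x = x ^ q) (S : Sylow 2 ↥(Cfsg.SU 3 K q)) : Nonempty (↥S ≃* SuzP σ) := by
  obtain ⟨θ, hθ0⟩ := Cfsg.Agent.Lib.Lead.HI.exists_theta hK
  have hθ : θ + σ θ = 1 := by rw [hσ]; exact hθ0
  set f := emb (q := q) hσ θ hθ with hf
  have hfi := emb_injective (q := q) hσ θ hθ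
  have hcardP : Nat.card f.range = q ^ 3 := by
    rw [← Nat.card_congr (MonoidHom.ofInjective hfi).toEquiv, SuzModel.card_suzP hK hσ]
  have hPG : IsPGroup 2 f.range := by
    apply IsPGroup.of_card (n := 3 * n)
    rw [hcardP, hq, ← pow_mul, mul_comm]
  have hidx : ¬ 2 ∣ f.range.index := by
    have h1 := Cfsg.Agent.S0278.result hK 3 (by norm_num)
    have h2 : (∏ i ∈ Finset.range 3, (if Even i then q ^ (i + 1) + 1 else q ^ (i + 1) - 1)) =
        (q + 1) * (q ^ 2 - 1) * (q ^ 3 + 1) := by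
      rw [Finset.prod_range_succ, Finset.prod_range_succ, Finset.prod_range_one]
      have e0 : Even 0 := by decide
      have e1 : ¬ Even 1 := by decide
      have e2 : Even 2 := by decide
      simp only [e0, e1, e2, if_true, if_false]
      ring_nf
    rw [h2] at h1
    have h3 : 3 * (3 - 1) / 2 = 3 := by norm_num
    rw [h3] at h1
    have h4 := Subgroup.card_mul_index f.range
    rw [hcardP] at h4
    rw [← h4] at h1
    have hq0 : 0 < q ^ 3 := by
      rw [hq]; positivity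
    have h5 : (q + 1) * f.range.index = (q + 1) * (q ^ 2 - 1) * (q ^ 3 + 1) := by
      apply Nat.eq_of_mul_eq_mul_left hq0
      rw [← h1]; ring
    intro h2d
    have : 2 ∣ (q + 1) * (q ^ 2 - 1) * (q ^ 3 + 1) := by
      rw [← h5]
      exact Dvd.dvd.mul_left h2d _
    rw [hq] at this
    exact odd_cofactor n hn this
  let P : Sylow 2 ↥(Cfsg.SU 3 K q) := hPG.toSylow hidx
  have hPcoe : (P : Subgroup ↥(Cfsg.SU 3 K q)) = f.range := IsPGroup.toSylow_coe hPG hidx
  haveI : Finite ↥(Cfsg.SU 3 K q) := inferInstance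
  have e1 : ↥S ≃* ↥P := Sylow.equiv S P
  have e2 : ↥P ≃* f.range := MulEquiv.subgroupCongr hPcoe
  have e3 : SuzP σ ≃* f.range := MonoidHom.ofInjective hfi
  exact ⟨(e1.trans e2).trans e3.symm⟩

end Cfsg.Agent.Lib.helper14.SU3EvenSU
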