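import Mathlib
import Cfsg.Agent.Lib.helper14.Singer

set_option autoImplicit false

/-! Variant of `Singer.exists_GP` with matrices indexed by `Fin d ⊕ Fin d`. -/

namespace Cfsg.Agent.Lib.helper14.Singer

open Module Matrix

section Field

variable {F : Type*} [Field F] [Fintype F] (K : Type*) [Field K] [Finite K] [Algebra F K]

theorem exists_GP_of_basis {κ : Type*} [Fintype κ] [DecidableEq κ] (b : Basis κ F K) (e : ℕ)
    (y : K) (r : ℕ) (hyr : y ^ r = 1) (hy1 : y ≠ 1) (hyN : y * y ^ (Fintype.card F ^ e) = 1) :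
    ∃ G P : Matrix κ κ F, G ^ r = 1 ∧ IsUnit P ∧ Gᵀ * P * G = P ∧
      ∀ v, G *ᵥ v = v → v = 0 := by
  classical
  refine ⟨Algebra.leftMulMatrix b y, LinearMap.BilinForm.toMatrix b (twForm (F := F) K e),
    ?_, ?_, ?_, ?_⟩
  · rw [← map_pow, hyr, map_one]
  · rw [Matrix.isUnit_iff_isUnit_det, isUnit_iff_ne_zero]
    exact (LinearMap.BilinForm.nondegenerate_iff_det_ne_zero b).mp (twForm_nondegenerate K e)
  · rw [Algebra.leftMulMatrix_apply, ← LinearMap.BilinForm.toMatrix_comp b b,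
      twForm_invariant K e y hyN]
  · intro v hv
    have hy0 : y - 1 ≠ 0 := sub_ne_zero.mpr hy1
    have h1 : Algebra.leftMulMatrix b (y - 1)⁻¹ * (Algebra.leftMulMatrix b y - 1) = 1 := by
      have h2 : (1 : Matrix κ κ F) = Algebra.leftMulMatrix b (1 : K) :=
        (map_one _).symm
      rw [h2, ← map_sub, ← map_mul, inv_mul_cancel₀ hy0]
    have h3 : (Algebra.leftMulMatrix b (y - 1)⁻¹ * (Algebra.leftMulMatrix b y - 1)) *ᵥ v = 0 := by
      rw [← Matrix.mulVec_mulVec, Matrix.sub_mulVec, Matrix.one_mulVec, hv, sub_self,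
        Matrix.mulVec_zero]
    rw [h1, Matrix.one_mulVec] at h3
    exact h3

end Field

section Exists

variable {F : Type*} [Field F] [Fintype F]

/-- for a prime `r` dividing `q^d + 1` there is a matrix `G` indexed by `Fin d ⊕ Fin d` with
`G^r = 1`, without fixed vectors, preserving a nondegenerate bilinear form `P` -/
theorem exists_GP_sum (p : ℕ) [Fact p.Prime] [CharP F p] (d : ℕ) (hd : 1 ≤ d) (r : ℕ)
    [Fact r.Prime] (hdvd : r ∣ Fintype.card F ^ d + 1) :
    ∃ G P : Matrix (Fin d ⊕ Fin d) (Fin d ⊕ Fin d) F, G ^ r = 1 ∧ IsUnit P ∧ Gᵀ * P * G = P ∧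
      ∀ v, G *ᵥ v = v → v = 0 := by
  haveI : NeZero (2 * d) := ⟨by omega⟩
  have hfr : finrank F (FiniteField.Extension F p (2 * d)) = 2 * d :=
    FiniteField.finrank_extension F p (2 * d)
  obtain ⟨ζ, hζ⟩ := Cfsg.Agent.Lib.helper15.Spec3.exists_gen_ext (F := F)
    (K := FiniteField.Extension F p (2 * d)) (2 * d) hfr
  obtain ⟨k', hk'⟩ := hdvd
  have hrp : r.Prime := Fact.out
  have h2 : 2 ≤ Fintype.card F := Fintype.one_lt_card
  have hQ2 : 2 ≤ Fintype.card F ^ d := by
    have h3 : 2 ^ d ≤ Fintype.card F ^ d := Nat.pow_le_pow_left h2 d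
    have h4 : 2 ^ 1 ≤ 2 ^ d := Nat.pow_le_pow_right (by norm_num) hd
    omega
  have hfac : Fintype.card F ^ (2 * d) - 1 = r * (k' * (Fintype.card F ^ d - 1)) := by
    rw [mul_comm 2 d, pow_mul, sq_sub_one_factor _ (by omega), hk', mul_assoc]
  have hk0 : k' * (Fintype.card F ^ d - 1) ≠ 0 := by
    apply Nat.mul_ne_zero
    · rintro rfl
      rw [mul_zero] at hk'
      omega
    · omega
  have hy : orderOf (ζ ^ (k' * (Fintype.card F ^ d - 1))) = r := by
    rw [orderOf_pow_of_dvd hk0 (by rw [hζ, hfac]; exact dvd_mul_left _ r), hζ, hfac]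
    exact Nat.mul_div_cancel _ (Nat.pos_of_ne_zero hk0)
  obtain ⟨y, hyd⟩ : ∃ y : (FiniteField.Extension F p (2 * d))ˣ,
      y = ζ ^ (k' * (Fintype.card F ^ d - 1)) := ⟨_, rfl⟩
  rw [← hyd] at hy
  have hyr : y ^ r = 1 := by rw [← hy]; exact pow_orderOf_eq_one _
  have hy1 : (y : FiniteField.Extension F p (2 * d)) ≠ 1 := by
    intro h
    have h1 : y = 1 := Units.ext (by rw [h, Units.val_one])
    rw [h1, orderOf_one] at hy
    exact hrp.one_lt.ne hy
  have hyN : (y : FiniteField.Extension F p (2 * d)) *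
      (y : FiniteField.Extension F p (2 * d)) ^ (Fintype.card F ^ d) = 1 := by
    rw [← pow_succ', hk', pow_mul, ← Units.val_pow_eq_pow_val, hyr, Units.val_one, one_pow]
  have e : Fin (2 * d) ≃ Fin d ⊕ Fin d :=
    Fintype.equivOfCardEq (by simp only [Fintype.card_sum, Fintype.card_fin]; ring)
  exact exists_GP_of_basis (FiniteField.Extension F p (2 * d))
    ((Module.finBasisOfFinrankEq F _ hfr).reindex e) d
    (y : FiniteField.Extension F p (2 * d)) r
    (by rw [← Units.val_pow_eq_pow_val, hyr, Units.val_one]) hy1 hyN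

end Exists

end Cfsg.Agent.Lib.helper14.Singer
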