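import Mathlib

set_option autoImplicit false

/-!
# Counting totally isotropic frames in a finite symplectic space
-/

namespace Cfsg.Agent.Lib.helper14.Spc

open Module LinearMap

variable {F : Type*} [Field F] {V : Type*} [AddCommGroup V] [Module F V]

/-- totally isotropic frames: linearly independent families spanning a totally isotropic subspace -/
def TIF (ω : LinearMap.BilinForm F V) (ι : Type*) : Type _ :=
  {w : ι → V // LinearIndependent F w ∧ ∀ i j, ω (w i) (w j) = 0}

instance {ι : Type*} [Finite ι] [Finite V] (ω : LinearMap.BilinForm F V) : Finite (TIF ω ι) := by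
  unfold TIF
  infer_instance

/-- the vectors that extend a frame -/
def Ext (ω : LinearMap.BilinForm F V) {ι : Type*} (w : ι → V) : Type _ :=
  {v : V // (∀ i, ω (w i) v = 0) ∧ v ∉ Submodule.span F (Set.range w)}

instance {ι : Type*} [Finite V] (ω : LinearMap.BilinForm F V) (w : ι → V) : Finite (Ext ω w) := by
  unfold Ext
  infer_instance

theorem mem_orthogonal_span_iff (ω : LinearMap.BilinForm F V) {ι : Type*} (w : ι → V) (v : V) :
    v ∈ ω.orthogonal (Submodule.span F (Set.range w)) ↔ ∀ i, ω (w i) v = 0 := by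
  rw [LinearMap.BilinForm.mem_orthogonal_iff]
  constructor
  · intro h i
    exact h (w i) (Submodule.subset_span ⟨i, rfl⟩)
  · intro h n hn
    induction hn using Submodule.span_induction with
    | mem x hx =>
      obtain ⟨i, rfl⟩ := hx
      exact h i
    | zero => rw [map_zero, LinearMap.zero_apply]
    | add x y _ _ hx hy =>
      rw [map_add, LinearMap.add_apply, hx, hy, add_zero]
    | smul c x _ hx =>
      rw [map_smul, LinearMap.smul_apply, hx, smul_zero]

variable [Fintype F] [Finite V]

theorem card_Ext (ω : LinearMap.BilinForm F V) (hA : ω.IsAlt) (hnd : ω.Nondegenerate) {s : ℕ}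
    (w : Fin s → V) (hli : LinearIndependent F w) (hti : ∀ i j, ω (w i) (w j) = 0) :
    Nat.card (Ext ω w) =
      Fintype.card F ^ (finrank F V - s) - Fintype.card F ^ s := by
  classical
  haveI : FiniteDimensional F V := Module.Finite.of_finite
  set W : Submodule F V := Submodule.span F (Set.range w) with hW
  have hWdim : finrank F W = s := by
    rw [hW, finrank_span_eq_card hli, Fintype.card_fin]
  have hWperp : finrank F (ω.orthogonal W) = finrank F V - s := by
    rw [LinearMap.BilinForm.finrank_orthogonal hnd, hWdim]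
  have hle : W ≤ ω.orthogonal W := by
    intro x hx
    rw [mem_orthogonal_span_iff]
    intro i
    induction hx using Submodule.span_induction with
    | mem x hx =>
      obtain ⟨j, rfl⟩ := hx
      exact hti i j
    | zero => simp
    | add x y _ _ hx hy => rw [map_add, hx, hy, add_zero]
    | smul c x _ hx => rw [map_smul, hx, smul_zero]
  have hcW : Nat.card W = Fintype.card F ^ s := by
    rw [Module.natCard_eq_pow_finrank (K := F) (V := W), hWdim, Nat.card_eq_fintype_card]
  have hcP : Nat.card (ω.orthogonal W) = Fintype.card F ^ (finrank F V - s) := by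
    rw [Module.natCard_eq_pow_finrank (K := F) (V := ω.orthogonal W), hWperp,
      Nat.card_eq_fintype_card]
  have e : Ext ω w ≃ ((ω.orthogonal W : Set V) \ (W : Set V) : Set V) := by
    refine Equiv.subtypeEquivRight ?_
    intro v
    rw [Set.mem_sdiff, SetLike.mem_coe, SetLike.mem_coe, mem_orthogonal_span_iff]
  rw [Nat.card_congr e, Nat.card_coe_set_eq, Set.ncard_sdiff (by exact_mod_cast hle)
    (Set.toFinite _), ← Nat.card_coe_set_eq, ← Nat.card_coe_set_eq]
  exact congrArg₂ (· - ·) hcP hcW

/-- one more vector -/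
noncomputable def tifSuccEquiv (ω : LinearMap.BilinForm F V) (hA : ω.IsAlt) (s : ℕ) :
    TIF ω (Fin (s + 1)) ≃ Σ w : TIF ω (Fin s), Ext ω w.1 where
  toFun w' := ⟨⟨Fin.tail w'.1, by
      have h := w'.2.1
      rw [← Fin.cons_self_tail w'.1] at h
      exact (linearIndependent_finCons.mp h).1, fun i j => w'.2.2 _ _⟩,
    ⟨w'.1 0, fun i => w'.2.2 _ _, by
      have h := w'.2.1
      rw [← Fin.cons_self_tail w'.1] at h
      exact (linearIndependent_finCons.mp h).2⟩⟩
  invFun p := ⟨Fin.cons p.2.1 p.1.1, linearIndependent_finCons.mpr ⟨p.1.2.1, p.2.2.2⟩, by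
    intro i j
    refine Fin.cases ?_ (fun i' => ?_) i <;> refine Fin.cases ?_ (fun j' => ?_) j
    · simp only [Fin.cons_zero]
      exact hA _
    · simp only [Fin.cons_zero, Fin.cons_succ]
      rw [← hA.neg_eq, p.2.2.1 j', neg_zero]
    · simp only [Fin.cons_zero, Fin.cons_succ]
      exact p.2.2.1 i'
    · simp only [Fin.cons_succ]
      exact p.1.2.2 i' j'⟩
  left_inv w' := by
    apply Subtype.ext
    exact Fin.cons_self_tail w'.1
  right_inv p := by
    obtain ⟨⟨w, hw⟩, ⟨v, hv⟩⟩ := p
    rfl

theorem card_TIF_fin (ω : LinearMap.BilinForm F V) (hA : ω.IsAlt) (hnd : ω.Nondegenerate) (s : ℕ) :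
    Nat.card (TIF ω (Fin s)) =
      ∏ i ∈ Finset.range s, (Fintype.card F ^ (finrank F V - i) - Fintype.card F ^ i) := by
  classical
  induction s with
  | zero =>
    rw [Finset.prod_range_zero, Nat.card_eq_one_iff_unique]
    refine ⟨⟨fun a b => Subtype.ext (funext fun i => i.elim0)⟩,
      ⟨⟨fun i => i.elim0, linearIndependent_empty_type, fun i => i.elim0⟩⟩⟩
  | succ s ih =>
    haveI : Fintype (TIF ω (Fin s)) := Fintype.ofFinite _
    rw [Nat.card_congr (tifSuccEquiv ω hA s), Nat.card_sigma, Finset.prod_range_succ, ← ih,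
      Finset.sum_congr rfl (fun w _ => card_Ext ω hA hnd w.1 w.2.1 w.2.2), Finset.sum_const,
      Finset.card_univ, smul_eq_mul, Nat.card_eq_fintype_card]

/-- reindexing -/
def tifCongr (ω : LinearMap.BilinForm F V) {ι ι' : Type*} (e : ι ≃ ι') : TIF ω ι ≃ TIF ω ι' where
  toFun w := ⟨w.1 ∘ e.symm, w.2.1.comp _ e.symm.injective, fun i j => w.2.2 _ _⟩
  invFun w := ⟨w.1 ∘ e, w.2.1.comp _ e.injective, fun i j => w.2.2 _ _⟩
  left_inv w := by
    apply Subtype.ext
    funext i
    simp
  right_inv w := by
    apply Subtype.ext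
    funext i
    simp

theorem card_TIF (ω : LinearMap.BilinForm F V) (hA : ω.IsAlt) (hnd : ω.Nondegenerate)
    {ι : Type*} [Fintype ι] :
    Nat.card (TIF ω ι) = ∏ i ∈ Finset.range (Fintype.card ι),
      (Fintype.card F ^ (finrank F V - i) - Fintype.card F ^ i) := by
  rw [Nat.card_congr (tifCongr ω (Fintype.equivFin ι)), card_TIF_fin ω hA hnd]

end Cfsg.Agent.Lib.helper14.Spc
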