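import Mathlib
import Cfsg.Agent.Lib.helper14.SpcA
import Cfsg.Agent.Lib.helper14.SympInv2

set_option autoImplicit false

/-!
# Involution parts `N` of a symplectic space in characteristic two, parametrised by frames
-/

namespace Cfsg.Agent.Lib.helper14.Spc

open Module LinearMap Cfsg.Agent.Lib.helper14.SympInv

variable {F : Type*} [Field F] {V : Type*} [AddCommGroup V] [Module F V]
variable {ι : Type*} [Fintype ι] [DecidableEq ι]

/-- the endomorphism attached to a frame `w` and a matrix `B` -/
noncomputable def Nmap (ω : LinearMap.BilinForm F V) (w : ι → V) (B : Matrix ι ι F) : V →ₗ[F] V :=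
  ∑ i, ∑ j, B i j • (ω (w j)).smulRight (w i)

theorem Nmap_apply (ω : LinearMap.BilinForm F V) (w : ι → V) (B : Matrix ι ι F) (x : V) :
    Nmap ω w B x = ∑ i, (∑ j, B i j * ω (w j) x) • w i := by
  simp only [Nmap, LinearMap.sum_apply, LinearMap.smul_apply, LinearMap.smulRight_apply,
    Finset.sum_smul, smul_smul]

/-- the frame `w` transformed by the matrix `g` -/
def wact (w : ι → V) (g : Matrix ι ι F) : ι → V := fun j => ∑ i, g i j • w i

theorem Nmap_wact (ω : LinearMap.BilinForm F V) (w : ι → V) (g B : Matrix ι ι F) :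
    Nmap ω (wact w g) B = Nmap ω w (g * B * g.transpose) := by
  ext x
  rw [Nmap_apply, Nmap_apply]
  simp only [wact, map_sum, map_smul, LinearMap.sum_apply, LinearMap.smul_apply, smul_eq_mul,
    Finset.smul_sum, smul_smul, Matrix.mul_apply, Matrix.transpose_apply, Finset.sum_mul,
    Finset.mul_sum, Finset.sum_smul]
  -- both sides are sums over four indices
  rw [Finset.sum_comm]
  refine Finset.sum_congr rfl (fun i _ => ?_)
  have e1 : ∀ a : ι, ∑ b, ∑ c, (B a b * (g c b * (ω (w c)) x) * g i a) • w i =
      ∑ c, ∑ b, (B a b * (g c b * (ω (w c)) x) * g i a) • w i := fun a => Finset.sum_comm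
  rw [Finset.sum_congr rfl (fun a _ => e1 a), Finset.sum_comm]
  refine Finset.sum_congr rfl (fun c _ => ?_)
  rw [Finset.sum_comm]
  refine Finset.sum_congr rfl (fun b _ => ?_)
  refine Finset.sum_congr rfl (fun a _ => ?_)
  congr 1
  ring

theorem Nmap_mem_span (ω : LinearMap.BilinForm F V) (w : ι → V) (B : Matrix ι ι F) (x : V) :
    Nmap ω w B x ∈ Submodule.span F (Set.range w) := by
  rw [Nmap_apply]
  exact Submodule.sum_mem _ (fun i _ => Submodule.smul_mem _ _ (Submodule.subset_span ⟨i, rfl⟩))

/-- the coordinate map of a linearly independent family is onto -/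
theorem coord_surj [FiniteDimensional F V] (ω : LinearMap.BilinForm F V) (hnd : ω.Nondegenerate)
    (w : ι → V) (hli : LinearIndependent F w) (c : ι → F) : ∃ x, ∀ j, ω (w j) x = c j := by
  set a : V →ₗ[F] (ι → F) := LinearMap.pi (fun j => ω (w j)) with ha
  have hker : LinearMap.ker a = ω.orthogonal (Submodule.span F (Set.range w)) := by
    ext x
    rw [LinearMap.mem_ker, mem_orthogonal_span_iff, ha]
    constructor
    · intro h j
      exact congrFun h j
    · intro h
      funext j
      exact h j
  have h1 := LinearMap.finrank_range_add_finrank_ker a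
  rw [hker, LinearMap.BilinForm.finrank_orthogonal hnd, finrank_span_eq_card hli] at h1
  have h2 : Fintype.card ι ≤ finrank F V := by
    rw [← finrank_span_eq_card hli]
    exact Submodule.finrank_le _
  have h3 : finrank F (LinearMap.range a) = finrank F (ι → F) := by
    rw [Module.finrank_fintype_fun_eq_card]
    omega
  have h4 : LinearMap.range a = ⊤ := Submodule.eq_top_of_finrank_eq h3
  have h5 : c ∈ LinearMap.range a := by rw [h4]; exact Submodule.mem_top
  obtain ⟨x, hx⟩ := h5
  exact ⟨x, fun j => congrFun hx j⟩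

theorem Nmap_inj [FiniteDimensional F V] (ω : LinearMap.BilinForm F V) (hnd : ω.Nondegenerate)
    (w : ι → V) (hli : LinearIndependent F w) (B B' : Matrix ι ι F)
    (h : Nmap ω w B = Nmap ω w B') : B = B' := by
  ext i k
  obtain ⟨x, hx⟩ := coord_surj ω hnd w hli (fun j => if j = k then 1 else 0)
  have h1 := congrArg (fun f : V →ₗ[F] V => f x) h
  simp only [Nmap_apply, hx, mul_ite, mul_one, mul_zero, Finset.sum_ite_eq', Finset.mem_univ,
    if_true] at h1
  have h2 : ∑ i, (B i k - B' i k) • w i = 0 := by
    simp only [sub_smul, Finset.sum_sub_distrib]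
    rw [h1, sub_self]
  have h3 := Fintype.linearIndependent_iff.mp hli _ h2 i
  exact sub_eq_zero.mp h3

theorem range_Nmap [FiniteDimensional F V] (ω : LinearMap.BilinForm F V) (hnd : ω.Nondegenerate)
    (w : ι → V) (hli : LinearIndependent F w) (B : Matrix ι ι F) (hB : B.det ≠ 0) :
    LinearMap.range (Nmap ω w B) = Submodule.span F (Set.range w) := by
  apply le_antisymm
  · rintro _ ⟨x, rfl⟩
    exact Nmap_mem_span ω w B x
  · rw [Submodule.span_le]
    rintro _ ⟨k, rfl⟩
    obtain ⟨x, hx⟩ := coord_surj ω hnd w hli (fun j => B⁻¹ j k)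
    refine ⟨x, ?_⟩
    rw [Nmap_apply]
    have hBB : B * B⁻¹ = 1 := Matrix.mul_nonsing_inv B (Ne.isUnit hB)
    have : ∀ i, ∑ j, B i j * ω (w j) x = if i = k then 1 else 0 := by
      intro i
      simp only [hx]
      rw [← Matrix.mul_apply, hBB, Matrix.one_apply]
    simp only [this, ite_smul, one_smul, zero_smul, Finset.sum_ite_eq', Finset.mem_univ, if_true]

theorem wact_li (w : ι → V) (hli : LinearIndependent F w) (g : Matrix ι ι F) (hg : g.det ≠ 0) :
    LinearIndependent F (wact w g) := by
  rw [Fintype.linearIndependent_iff]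
  intro c hc
  simp only [wact, Finset.smul_sum, smul_smul] at hc
  rw [Finset.sum_comm] at hc
  simp only [← Finset.sum_smul] at hc
  have h1 := Fintype.linearIndependent_iff.mp hli _ hc
  have h2 : g.mulVec c = 0 := by
    funext i
    rw [Matrix.mulVec, dotProduct, Pi.zero_apply, ← h1 i]
    exact Finset.sum_congr rfl (fun j _ => mul_comm _ _)
  have h3 := Matrix.eq_zero_of_mulVec_eq_zero hg h2
  intro j
  rw [h3, Pi.zero_apply]

theorem wact_ti (ω : LinearMap.BilinForm F V) (w : ι → V) (hti : ∀ i j, ω (w i) (w j) = 0)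
    (g : Matrix ι ι F) (i j : ι) : ω (wact w g i) (wact w g j) = 0 := by
  simp only [wact, map_sum, map_smul, LinearMap.sum_apply, LinearMap.smul_apply, hti, smul_zero,
    Finset.sum_const_zero]

theorem wact_inj (w : ι → V) (hli : LinearIndependent F w) (g g' : Matrix ι ι F)
    (h : wact w g = wact w g') : g = g' := by
  ext i j
  have h1 := congrFun h j
  simp only [wact] at h1
  have h2 : ∑ i, (g i j - g' i j) • w i = 0 := by
    simp only [sub_smul, Finset.sum_sub_distrib]
    rw [h1, sub_self]
  exact sub_eq_zero.mp (Fintype.linearIndependent_iff.mp hli _ h2 i)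

section CharTwo

variable [CharP F 2]

theorem Nmap_isInvPart (ω : LinearMap.BilinForm F V) (hA : ω.IsAlt) (w : ι → V)
    (hti : ∀ i j, ω (w i) (w j) = 0) (B : Matrix ι ι F) (hB : B.IsSymm) :
    IsInvPart ω (Nmap ω w B) := by
  constructor
  · intro v
    rw [Nmap_apply ω w B (Nmap ω w B v)]
    have : ∀ j, ω (w j) (Nmap ω w B v) = 0 := by
      intro j
      rw [Nmap_apply]
      simp only [map_sum, map_smul, hti, smul_zero, Finset.sum_const_zero]
    simp only [this, mul_zero, Finset.sum_const_zero, zero_smul]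
  · intro u v
    rw [Nmap_apply, Nmap_apply]
    simp only [map_sum, map_smul, LinearMap.sum_apply, LinearMap.smul_apply, smul_eq_mul,
      Finset.sum_mul]
    rw [Finset.sum_comm]
    refine Finset.sum_congr rfl (fun j _ => Finset.sum_congr rfl (fun i _ => ?_))
    have hs : B i j = B j i := by
      have := congrFun (congrFun hB j) i
      rw [Matrix.transpose_apply] at this
      exact this
    rw [alt_symm hA u (w j), hs]
    ring

theorem type_one [FiniteDimensional F V] (ω : LinearMap.BilinForm F V) (hA : ω.IsAlt)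
    (hnd : ω.Nondegenerate) (w : ι → V) (hli : LinearIndependent F w) (j0 : ι) :
    ¬ ∀ v, ω v (Nmap ω w (1 : Matrix ι ι F) v) = 0 := by
  intro h
  obtain ⟨x, hx⟩ := coord_surj ω hnd w hli (fun j => if j = j0 then 1 else 0)
  have h1 := h x
  rw [Nmap_apply] at h1
  simp only [Matrix.one_apply, ite_mul, one_mul, zero_mul, Finset.sum_ite_eq, Finset.mem_univ,
    if_true, hx, ite_smul, one_smul, zero_smul, Finset.sum_ite_eq'] at h1
  rw [alt_symm hA, hx, if_pos rfl] at h1
  exact one_ne_zero h1

theorem type_alt (ω : LinearMap.BilinForm F V) (hA : ω.IsAlt) (w : ι → V) (B : Matrix ι ι F)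
    (hB : B.IsSymm) (hB0 : ∀ i, B i i = 0) (v : V) : ω v (Nmap ω w B v) = 0 := by
  rw [Nmap_apply]
  simp only [map_sum, map_smul, smul_eq_mul, Finset.sum_mul]
  rw [← Finset.sum_product']
  apply Finset.sum_involution (fun p _ => (p.2, p.1))
  · intro p _
    have hs : B p.2 p.1 = B p.1 p.2 := by
      have := congrFun (congrFun hB p.1) p.2
      rw [Matrix.transpose_apply] at this
      exact this
    simp only
    rw [hs, alt_symm hA v (w p.1), alt_symm hA v (w p.2)]
    have : B p.1 p.2 * ω (w p.2) v * ω (w p.1) v + B p.1 p.2 * ω (w p.1) v * ω (w p.2) v =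
        (B p.1 p.2 * ω (w p.2) v * ω (w p.1) v) * 2 := by ring
    rw [this, CharTwo.two_eq_zero, mul_zero]
  · intro p _ hne hp
    apply hne
    have h1 : p.2 = p.1 := congrArg Prod.fst hp
    rw [h1, hB0, zero_mul, zero_mul]
  · intro p _
    exact Finset.mem_univ _
  · intro p _
    rfl

end CharTwo

end Cfsg.Agent.Lib.helper14.Spc
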