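import Mathlib
import Cfsg.Agent.Lib.helper14.SpcB

set_option autoImplicit false

/-!
# Fibres of the frame parametrisation and existence of standard frames
-/

namespace Cfsg.Agent.Lib.helper14.Spc

open Module LinearMap Cfsg.Agent.Lib.helper14.SympInv

variable {F : Type*} [Field F] {V : Type*} [AddCommGroup V] [Module F V]
variable {ι : Type*} [Fintype ι] [DecidableEq ι]

/-- the matrices preserving the symmetric matrix `B₀` -/
def OG (B₀ : Matrix ι ι F) : Type _ := {g : Matrix ι ι F // g * B₀ * g.transpose = B₀}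

instance [Finite F] (B₀ : Matrix ι ι F) : Finite (OG B₀) := by
  unfold OG
  infer_instance

theorem OG_det (B₀ : Matrix ι ι F) (hB : B₀.det ≠ 0) (g : OG B₀) : g.1.det ≠ 0 := by
  intro h0
  have := congrArg Matrix.det g.2
  rw [Matrix.det_mul, Matrix.det_mul, h0, zero_mul, zero_mul] at this
  exact hB this.symm

/-- the involution parts of given rank and type -/
def NN (ω : LinearMap.BilinForm F V) (s : ℕ) (alt : Prop) : Type _ :=
  {N : V →ₗ[F] V // IsInvPart ω N ∧ finrank F (LinearMap.range N) = s ∧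
    ((∀ v, ω v (N v) = 0) ↔ alt)}

instance [Finite V] (ω : LinearMap.BilinForm F V) (s : ℕ) (alt : Prop) : Finite (NN ω s alt) := by
  unfold NN
  refine Finite.of_injective (fun N => ((N.1 : V →ₗ[F] V) : V → V)) ?_
  intro N N' h
  apply Subtype.ext
  exact DFunLike.coe_injective h

section Fibre

variable [CharP F 2] [FiniteDimensional F V]

/-- all fibres of `w ↦ Nmap ω w B₀` have the size of `OG B₀` -/
theorem card_fibre [Finite F] (ω : LinearMap.BilinForm F V) (hnd : ω.Nondegenerate)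
    (B₀ : Matrix ι ι F) (hB : B₀.det ≠ 0) (N : V →ₗ[F] V) (w₀ : TIF ω ι)
    (hw₀ : Nmap ω w₀.1 B₀ = N) :
    Nat.card {w : TIF ω ι // Nmap ω w.1 B₀ = N} = Nat.card (OG B₀) := by
  classical
  symm
  refine Nat.card_eq_of_bijective
    (fun g : OG B₀ => (⟨⟨wact w₀.1 g.1, wact_li w₀.1 w₀.2.1 g.1 (OG_det B₀ hB g),
      wact_ti ω w₀.1 w₀.2.2 g.1⟩, by
        show Nmap ω (wact w₀.1 g.1) B₀ = N
        rw [Nmap_wact, g.2, hw₀]⟩ : {w : TIF ω ι // Nmap ω w.1 B₀ = N})) ⟨?_, ?_⟩
  · intro g g' h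
    have h1 : wact w₀.1 g.1 = wact w₀.1 g'.1 := congrArg (fun z => z.1.1) h
    exact Subtype.ext (wact_inj w₀.1 w₀.2.1 g.1 g'.1 h1)
  · rintro ⟨w, hw⟩
    have hspan : Submodule.span F (Set.range w.1) = Submodule.span F (Set.range w₀.1) := by
      rw [← range_Nmap ω hnd w.1 w.2.1 B₀ hB, ← range_Nmap ω hnd w₀.1 w₀.2.1 B₀ hB, hw, hw₀]
    have hmem : ∀ j, ∃ c : ι → F, ∑ i, c i • w₀.1 i = w.1 j := by
      intro j
      have : w.1 j ∈ Submodule.span F (Set.range w₀.1) := by
        rw [← hspan]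
        exact Submodule.subset_span ⟨j, rfl⟩
      exact (Submodule.mem_span_range_iff_exists_fun F).mp this
    choose c hc using hmem
    set g : Matrix ι ι F := Matrix.of (fun i j => c j i) with hg
    have hwg : wact w₀.1 g = w.1 := by
      funext j
      rw [wact, ← hc j]
      rfl
    have hgB : g * B₀ * g.transpose = B₀ := by
      apply Nmap_inj ω hnd w₀.1 w₀.2.1
      rw [← Nmap_wact, hwg, hw, hw₀]
    refine ⟨⟨g, hgB⟩, ?_⟩
    apply Subtype.ext
    apply Subtype.ext
    exact hwg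

/-- counting frames fibrewise -/
theorem card_TIF_eq_mul [Finite F] [Finite V] (ω : LinearMap.BilinForm F V) (hA : ω.IsAlt)
    (hnd : ω.Nondegenerate) (B₀ : Matrix ι ι F) (hBs : B₀.IsSymm) (hB : B₀.det ≠ 0) (alt : Prop)
    (s : ℕ) (hs : Fintype.card ι = s)
    (htype : ∀ w : TIF ω ι, (∀ v, ω v (Nmap ω w.1 B₀ v) = 0) ↔ alt)
    (hex : ∀ N : NN ω s alt, ∃ w : TIF ω ι, Nmap ω w.1 B₀ = N.1) :
    Nat.card (TIF ω ι) = Nat.card (NN ω s alt) * Nat.card (OG B₀) := by
  classical
  set Φ : TIF ω ι → NN ω s alt := fun w =>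
    ⟨Nmap ω w.1 B₀, Nmap_isInvPart ω hA w.1 w.2.2 B₀ hBs, by
      rw [range_Nmap ω hnd w.1 w.2.1 B₀ hB, finrank_span_eq_card w.2.1, hs], htype w⟩ with hΦ
  haveI : Fintype (NN ω s alt) := Fintype.ofFinite _
  rw [Nat.card_congr (Equiv.sigmaFiberEquiv Φ).symm, Nat.card_sigma]
  have hfib : ∀ N : NN ω s alt,
      Nat.card {w : TIF ω ι // Φ w = N} = Nat.card (OG B₀) := by
    intro N
    obtain ⟨w₀, hw₀⟩ := hex N
    rw [← card_fibre ω hnd B₀ hB N.1 w₀ hw₀]
    apply Nat.card_congr
    refine Equiv.subtypeEquivRight (fun w => ?_)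
    rw [hΦ]
    constructor
    · intro h
      exact congrArg Subtype.val h
    · intro h
      exact Subtype.ext h
  rw [Finset.sum_congr rfl (fun N _ => hfib N), Finset.sum_const, Finset.card_univ, smul_eq_mul,
    ← Nat.card_eq_fintype_card]

/-- a basis of a complement of `ker N` with prescribed Gram matrix gives a frame -/
theorem exists_frame_of_basis (ω : LinearMap.BilinForm F V) {N : V →ₗ[F] V} (hN : IsInvPart ω N)
    (U₀ : Submodule F V) (hn : ((ω.compRight N).restrict U₀).Nondegenerate)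
    (hc : ∀ v, ∃ x : U₀, N v = N (x : V)) (b : Basis ι F U₀) (B₀ : Matrix ι ι F)
    (hG : ∀ i k, ∑ j, B₀ i j * ω (b j : V) (N (b k : V)) = if i = k then 1 else 0) :
    ∃ w : TIF ω ι, Nmap ω w.1 B₀ = N := by
  classical
  have hti : ∀ i j, ω (N (b i : V)) (N (b j : V)) = 0 := by
    intro i j
    rw [hN.sa, hN.sq, map_zero]
  have hli : LinearIndependent F (fun i => N (b i : V)) := by
    rw [Fintype.linearIndependent_iff]
    intro c hc0
    set x : U₀ := ∑ i, c i • b i with hx
    have hNx : N (x : V) = 0 := by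
      rw [hx]
      simp only [Submodule.coe_sum, Submodule.coe_smul, map_sum, map_smul]
      exact hc0
    have hx0 : x = 0 := by
      apply hn.2
      intro y
      show ω (y : V) (N (x : V)) = 0
      rw [hNx, map_zero]
    exact Fintype.linearIndependent_iff.mp b.linearIndependent c hx0
  refine ⟨⟨fun i => N (b i : V), hli, hti⟩, ?_⟩
  ext v
  obtain ⟨x, hx⟩ := hc v
  rw [Nmap_apply]
  have hcoef : ∀ i, ∑ j, B₀ i j * ω (N (b j : V)) v = b.repr x i := by
    intro i
    have h1 : ∀ j, ω (N (b j : V)) v = ∑ k, b.repr x k * ω (b j : V) (N (b k : V)) := by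
      intro j
      rw [hN.sa, hx]
      conv_lhs => rw [← b.sum_repr x]
      simp only [Submodule.coe_sum, Submodule.coe_smul, map_sum, map_smul, smul_eq_mul]
    simp only [h1, Finset.mul_sum]
    rw [Finset.sum_comm]
    have h2 : ∀ k, ∑ j, B₀ i j * (b.repr x k * ω (b j : V) (N (b k : V))) =
        b.repr x k * ∑ j, B₀ i j * ω (b j : V) (N (b k : V)) := by
      intro k
      rw [Finset.mul_sum]
      exact Finset.sum_congr rfl (fun j _ => by ring)
    simp only [h2, hG, mul_ite, mul_one, mul_zero, Finset.sum_ite_eq, Finset.mem_univ, if_true]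
  simp only [hcoef]
  rw [hx]
  conv_rhs => rw [← b.sum_repr x]
  simp only [Submodule.coe_sum, Submodule.coe_smul, map_sum, map_smul]

end Fibre

end Cfsg.Agent.Lib.helper14.Spc
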