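import Mathlib
import Cfsg.Agent.Lib.helper14.SpcC

set_option autoImplicit false

/-!
# The two frame counts: identity Gram matrix (non-alternating type) and hyperbolic Gram matrix
-/

namespace Cfsg.Agent.Lib.helper14.Spc

open Module LinearMap Cfsg.Agent.Lib.helper14.SympInv

universe u

variable {F : Type*} [Field F] [CharP F 2] {V : Type u} [AddCommGroup V] [Module F V]
  [FiniteDimensional F V]

/-- the hyperbolic Gram matrix -/
def JJ (k : ℕ) (F : Type*) [Field F] : Matrix (Fin k ⊕ Fin k) (Fin k ⊕ Fin k) F :=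
  Matrix.fromBlocks 0 1 1 0

theorem JJ_symm (k : ℕ) : (JJ k F).IsSymm := by
  unfold JJ Matrix.IsSymm
  rw [Matrix.fromBlocks_transpose]
  simp

theorem JJ_mul_self (k : ℕ) : JJ k F * JJ k F = 1 := by
  unfold JJ
  rw [Matrix.fromBlocks_multiply]
  simp

theorem JJ_det (k : ℕ) : (JJ k F).det ≠ 0 := by
  intro h
  have := congrArg Matrix.det (JJ_mul_self (F := F) k)
  rw [Matrix.det_mul, h, mul_zero, Matrix.det_one] at this
  exact zero_ne_one this

theorem JJ_diag (k : ℕ) (i : Fin k ⊕ Fin k) : JJ k F i i = 0 := by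
  unfold JJ
  rcases i with a | a <;> simp

theorem JJ_eq_J (k : ℕ) : JJ k F = Matrix.J (Fin k) F := by
  have h : (-1 : Matrix (Fin k) (Fin k) F) = 1 := by
    ext i j
    rw [Matrix.neg_apply, CharTwo.neg_eq]
  unfold JJ Matrix.J
  rw [h]

theorem exists_frame_one (hsq : ∀ x : F, IsSquare x) (ω : LinearMap.BilinForm F V) (hA : ω.IsAlt)
    (hnd : ω.Nondegenerate) (s : ℕ) (N : NN ω s False) :
    ∃ w : TIF ω (Fin s), Nmap ω w.1 (1 : Matrix (Fin s) (Fin s) F) = N.1 := by
  obtain ⟨N, hN, hrank, htype⟩ := N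
  obtain ⟨U₀, hs, hn, hd, ht, hc⟩ := complement_data hA hnd hN
  have hne : ∃ x : U₀, ((ω.compRight N).restrict U₀) x x ≠ 0 := by
    by_contra hcon
    push Not at hcon
    exact htype.mp (ht.mpr hcon)
  obtain ⟨b, hb⟩ := exists_orthonormal_basis hsq s U₀ ((ω.compRight N).restrict U₀)
    (hd.trans hrank) hs hn (Or.inr hne)
  refine exists_frame_of_basis ω hN U₀ hn hc b 1 ?_
  intro i k
  simp only [Matrix.one_apply, ite_mul, one_mul, zero_mul, Finset.sum_ite_eq, Finset.mem_univ,
    if_true]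
  exact hb i k

theorem exists_frame_alt (ω : LinearMap.BilinForm F V) (hA : ω.IsAlt)
    (hnd : ω.Nondegenerate) (k : ℕ) (N : NN ω (2 * k) True) :
    ∃ w : TIF ω (Fin k ⊕ Fin k), Nmap ω w.1 (JJ k F) = N.1 := by
  obtain ⟨N, hN, hrank, htype⟩ := N
  obtain ⟨U₀, hs, hn, hd, ht, hc⟩ := complement_data hA hnd hN
  have hAβ : ((ω.compRight N).restrict U₀).IsAlt := ht.mp (htype.mpr trivial)
  obtain ⟨m', b, hd', h1, h2, h3⟩ := alt_std_basis ((ω.compRight N).restrict U₀) hAβ hn
  have hm : m' = k := by omega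
  subst hm
  set b' : Basis (Fin m' ⊕ Fin m') F U₀ := b.reindex (Equiv.sumEmpty (Fin m' ⊕ Fin m') (Fin 0))
    with hb'
  have hb'a : ∀ i, b' i = b (Sum.inl i) := by
    intro i
    rw [hb', Basis.reindex_apply]
    rfl
  have G1 : ∀ a c : Fin m', ω (b' (Sum.inl a) : V) (N (b' (Sum.inr c) : V)) =
      if a = c then 1 else 0 := by
    intro a c
    rw [hb'a, hb'a]
    exact h1 a c
  have G2 : ∀ a c : Fin m', ω (b' (Sum.inl a) : V) (N (b' (Sum.inl c) : V)) = 0 := by
    intro a c
    rw [hb'a, hb'a]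
    exact h2 a c
  have G3 : ∀ a c : Fin m', ω (b' (Sum.inr a) : V) (N (b' (Sum.inr c) : V)) = 0 := by
    intro a c
    rw [hb'a, hb'a]
    exact h3 a c
  have G4 : ∀ a c : Fin m', ω (b' (Sum.inr a) : V) (N (b' (Sum.inl c) : V)) =
      if a = c then 1 else 0 := by
    intro a c
    rw [betaN_symm hA hN, G1 c a]
    simp only [eq_comm]
  refine exists_frame_of_basis ω hN U₀ hn hc b' (JJ m' F) ?_
  intro i j
  rw [Fintype.sum_sum_type]
  rcases i with a | a <;> rcases j with c | c
  · simp [JJ, G2, G4, Matrix.one_apply]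
  · simp [JJ, G3, G1, Matrix.one_apply]
  · simp [JJ, G2, G4, Matrix.one_apply]
  · simp [JJ, G3, G1, Matrix.one_apply]

variable [Fintype F] [Finite V]

/-- frames and non-alternating involution parts -/
theorem card_TIF_one (ω : LinearMap.BilinForm F V) (hA : ω.IsAlt) (hnd : ω.Nondegenerate)
    (s : ℕ) (hs : 1 ≤ s) :
    Nat.card (TIF ω (Fin s)) =
      Nat.card (NN ω s False) * Nat.card (OG (1 : Matrix (Fin s) (Fin s) F)) := by
  have hsq : ∀ x : F, IsSquare x := fun x =>
    FiniteField.isSquare_of_char_two (ringChar.eq F 2) x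
  refine card_TIF_eq_mul ω hA hnd 1 Matrix.isSymm_one (by rw [Matrix.det_one]; exact one_ne_zero)
    False s (Fintype.card_fin s) ?_ (exists_frame_one hsq ω hA hnd s)
  intro w
  constructor
  · intro h
    exact type_one ω hA hnd w.1 w.2.1 ⟨0, by omega⟩ h
  · intro h
    exact h.elim

/-- frames and alternating involution parts -/
theorem card_TIF_alt (ω : LinearMap.BilinForm F V) (hA : ω.IsAlt) (hnd : ω.Nondegenerate)
    (k : ℕ) :
    Nat.card (TIF ω (Fin k ⊕ Fin k)) =
      Nat.card (NN ω (2 * k) True) * Nat.card (OG (JJ k F)) := by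
  refine card_TIF_eq_mul ω hA hnd (JJ k F) (JJ_symm k) (JJ_det k) True (2 * k)
    (by rw [Fintype.card_sum, Fintype.card_fin]; ring) ?_ (exists_frame_alt ω hA hnd k)
  intro w
  constructor
  · intro _
    trivial
  · intro _ v
    exact type_alt ω hA w.1 (JJ k F) (JJ_symm k) (JJ_diag k) v

/-- `OG (JJ k F)` is the symplectic group -/
theorem card_OG_JJ (k : ℕ) :
    Nat.card (OG (JJ k F)) = Nat.card (Matrix.symplecticGroup (Fin k) F) := by
  apply Nat.card_congr
  unfold OG
  refine Equiv.subtypeEquivRight (fun g => ?_)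
  rw [SymplecticGroup.mem_iff, JJ_eq_J]

end Cfsg.Agent.Lib.helper14.Spc
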