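import Mathlib
import Cfsg.Agent.Lib.helper14.SpcD

set_option autoImplicit false

/-!
# Involution parts of an orthogonal space in characteristic two
-/

namespace Cfsg.Agent.Lib.helper14.So

open Module LinearMap Cfsg.Agent.Lib.helper14.SympInv Cfsg.Agent.Lib.helper14.Spc

universe u

variable {F : Type*} [Field F] [CharP F 2] {V : Type u} [AddCommGroup V] [Module F V]

/-- the polar form -/
noncomputable abbrev pol (Q : QuadraticForm F V) : LinearMap.BilinForm F V :=
  QuadraticMap.polarBilin Q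

omit [CharP F 2] in
theorem pol_apply (Q : QuadraticForm F V) (u v : V) : pol Q u v = QuadraticMap.polar Q u v :=
  QuadraticMap.polarBilin_apply_apply Q u v

omit [CharP F 2] in
theorem Q_add (Q : QuadraticForm F V) (u v : V) : Q (u + v) = Q u + Q v + pol Q u v := by
  rw [pol_apply]
  exact QuadraticMap.map_add (⇑Q) u v

omit [CharP F 2] in
theorem Q_smul (Q : QuadraticForm F V) (c : F) (v : V) : Q (c • v) = c * c * Q v := by
  rw [QuadraticMap.map_smul, smul_eq_mul]

theorem pol_isAlt (Q : QuadraticForm F V) : (pol Q).IsAlt := by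
  intro x
  rw [pol_apply, QuadraticMap.polar_self, nsmul_eq_mul]
  push_cast
  rw [CharTwo.two_eq_zero, zero_mul]

theorem pol_symm (Q : QuadraticForm F V) (u v : V) : pol Q u v = pol Q v u :=
  alt_symm (pol_isAlt Q) u v

omit [CharP F 2] in
/-- the value of `Q` on a combination of pairwise orthogonal vectors -/
theorem Q_sum_ti (Q : QuadraticForm F V) {ι : Type*} (s : Finset ι) (w : ι → V)
    (hti : ∀ i j, pol Q (w i) (w j) = 0) (c : ι → F) :
    Q (∑ i ∈ s, c i • w i) = ∑ i ∈ s, c i * c i * Q (w i) := by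
  classical
  induction s using Finset.induction_on with
  | empty => simp
  | insert a s ha ih =>
    rw [Finset.sum_insert ha, Finset.sum_insert ha, Q_add, ih, Q_smul]
    have : pol Q (c a • w a) (∑ i ∈ s, c i • w i) = 0 := by
      simp only [map_sum, map_smul, LinearMap.smul_apply, hti, smul_zero, Finset.sum_const_zero]
    rw [this, add_zero]

/-- the orthogonality condition on an involution part -/
def IsQN (Q : QuadraticForm F V) (N : V →ₗ[F] V) : Prop := ∀ v, Q (N v) = pol Q v (N v)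

variable {ι : Type*} [Fintype ι] [DecidableEq ι]

omit [CharP F 2] in
theorem Q_Nmap (Q : QuadraticForm F V) (w : ι → V) (hti : ∀ i j, pol Q (w i) (w j) = 0)
    (B : Matrix ι ι F) (v : V) :
    Q (Nmap (pol Q) w B v) =
      ∑ i, (∑ j, B i j * pol Q (w j) v) * (∑ j, B i j * pol Q (w j) v) * Q (w i) := by
  rw [Nmap_apply, Q_sum_ti Q Finset.univ w hti]

theorem pol_Nmap_one (Q : QuadraticForm F V) (w : ι → V) (v : V) :
    pol Q v (Nmap (pol Q) w (1 : Matrix ι ι F) v) = ∑ i, pol Q (w i) v * pol Q (w i) v := by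
  rw [Nmap_apply]
  simp only [map_sum, map_smul, smul_eq_mul, Matrix.one_apply, ite_mul, one_mul, zero_mul,
    Finset.sum_ite_eq, Finset.mem_univ, if_true]
  exact Finset.sum_congr rfl (fun i _ => by rw [pol_symm Q v (w i)])

/-- frames of norm-one vectors give orthogonal involution parts (identity Gram matrix) -/
theorem isQN_one (Q : QuadraticForm F V) (w : ι → V) (hti : ∀ i j, pol Q (w i) (w j) = 0)
    (hQ : ∀ i, Q (w i) = 1) : IsQN Q (Nmap (pol Q) w (1 : Matrix ι ι F)) := by
  intro v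
  rw [pol_Nmap_one, Q_Nmap Q w hti]
  refine Finset.sum_congr rfl (fun i _ => ?_)
  simp only [Matrix.one_apply, ite_mul, one_mul, zero_mul, Finset.sum_ite_eq, Finset.mem_univ,
    if_true, hQ, mul_one]

theorem norm_one_of_isQN [FiniteDimensional F V] (Q : QuadraticForm F V)
    (hnd : (pol Q).Nondegenerate) (w : ι → V)
    (hli : LinearIndependent F w) (hti : ∀ i j, pol Q (w i) (w j) = 0)
    (h : IsQN Q (Nmap (pol Q) w (1 : Matrix ι ι F))) (k : ι) : Q (w k) = 1 := by
  obtain ⟨x, hx⟩ := coord_surj (pol Q) hnd w hli (fun j => if j = k then 1 else 0)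
  have h1 := h x
  rw [pol_Nmap_one, Q_Nmap Q w hti] at h1
  simp only [Matrix.one_apply, ite_mul, one_mul, zero_mul, Finset.sum_ite_eq, Finset.mem_univ,
    if_true, hx, mul_ite, mul_one, mul_zero, Finset.sum_ite_eq'] at h1
  exact h1

/-- frames of singular vectors give orthogonal involution parts (hyperbolic Gram matrix) -/
theorem isQN_JJ (Q : QuadraticForm F V) (k : ℕ) (w : Fin k ⊕ Fin k → V)
    (hti : ∀ i j, pol Q (w i) (w j) = 0)
    (hQ : ∀ i, Q (w i) = 0) : IsQN Q (Nmap (pol Q) w (JJ k F)) := by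
  intro v
  rw [type_alt (pol Q) (pol_isAlt Q) w (JJ k F) (JJ_symm k) (JJ_diag k), Q_Nmap Q w hti]
  simp only [hQ, mul_zero, Finset.sum_const_zero]

theorem singular_of_isQN [FiniteDimensional F V] (Q : QuadraticForm F V)
    (hnd : (pol Q).Nondegenerate) (k : ℕ)
    (w : Fin k ⊕ Fin k → V) (hli : LinearIndependent F w)
    (hti : ∀ i j, pol Q (w i) (w j) = 0)
    (h : IsQN Q (Nmap (pol Q) w (JJ k F))) (i0 : Fin k ⊕ Fin k) : Q (w i0) = 0 := by
  obtain ⟨x, hx⟩ := coord_surj (pol Q) hnd w hli (fun j => JJ k F j i0)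
  have h1 := h x
  rw [type_alt (pol Q) (pol_isAlt Q) w (JJ k F) (JJ_symm k) (JJ_diag k), Q_Nmap Q w hti] at h1
  have h2 : ∀ i, ∑ j, JJ k F i j * pol Q (w j) x = if i = i0 then 1 else 0 := by
    intro i
    simp only [hx]
    rw [← Matrix.mul_apply, JJ_mul_self, Matrix.one_apply]
  simp only [h2, mul_ite, mul_one, mul_zero, ite_mul, one_mul, zero_mul, Finset.sum_ite_eq',
    Finset.mem_univ, if_true] at h1
  exact h1

/-- frames of vectors of norm `ε` -/
def QTIF (Q : QuadraticForm F V) (ε : F) (ι : Type*) : Type _ :=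
  {w : TIF (pol Q) ι // ∀ i, Q (w.1 i) = ε}

instance [Finite V] (Q : QuadraticForm F V) (ε : F) : Finite (QTIF Q ε ι) := by
  unfold QTIF
  infer_instance

/-- orthogonal involution parts of given rank and type -/
def QNN (Q : QuadraticForm F V) (s : ℕ) (alt : Prop) : Type _ :=
  {N : NN (pol Q) s alt // IsQN Q N.1}

instance [Finite V] (Q : QuadraticForm F V) (s : ℕ) (alt : Prop) : Finite (QNN Q s alt) := by
  unfold QNN
  infer_instance

/-- counting norm-`ε` frames fibrewise -/
theorem card_QTIF_eq_mul [Finite F] [Finite V] (Q : QuadraticForm F V)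
    (hnd : (pol Q).Nondegenerate) (ε : F) (B₀ : Matrix ι ι F) (hBs : B₀.IsSymm)
    (hB : B₀.det ≠ 0) (alt : Prop) (s : ℕ) (hs : Fintype.card ι = s)
    (htype : ∀ w : TIF (pol Q) ι, (∀ v, pol Q v (Nmap (pol Q) w.1 B₀ v) = 0) ↔ alt)
    (hex : ∀ N : NN (pol Q) s alt, ∃ w : TIF (pol Q) ι, Nmap (pol Q) w.1 B₀ = N.1)
    (h1 : ∀ w : TIF (pol Q) ι, (∀ i, Q (w.1 i) = ε) → IsQN Q (Nmap (pol Q) w.1 B₀))
    (h2 : ∀ w : TIF (pol Q) ι, IsQN Q (Nmap (pol Q) w.1 B₀) → ∀ i, Q (w.1 i) = ε) :
    Nat.card (QTIF Q ε ι) = Nat.card (QNN Q s alt) * Nat.card (OG B₀) := by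
  classical
  have : FiniteDimensional F V := Module.Finite.of_finite
  have hA := pol_isAlt Q
  set Φ : QTIF Q ε ι → QNN Q s alt := fun w =>
    ⟨⟨Nmap (pol Q) w.1.1 B₀, Nmap_isInvPart (pol Q) hA w.1.1 w.1.2.2 B₀ hBs, by
      rw [range_Nmap (pol Q) hnd w.1.1 w.1.2.1 B₀ hB, finrank_span_eq_card w.1.2.1, hs],
      htype w.1⟩, h1 w.1 w.2⟩ with hΦ
  haveI : Fintype (QNN Q s alt) := Fintype.ofFinite _
  rw [Nat.card_congr (Equiv.sigmaFiberEquiv Φ).symm, Nat.card_sigma]
  have hfib : ∀ N : QNN Q s alt,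
      Nat.card {w : QTIF Q ε ι // Φ w = N} = Nat.card (OG B₀) := by
    intro N
    obtain ⟨w₀, hw₀⟩ := hex N.1
    rw [← card_fibre (pol Q) hnd B₀ hB N.1.1 w₀ hw₀]
    apply Nat.card_congr
    refine
      { toFun := fun w => ⟨w.1.1, congrArg (fun z : QNN Q s alt => z.1.1) w.2⟩
        invFun := fun w => ⟨⟨w.1, h2 w.1 (by rw [w.2]; exact N.2)⟩, by
          apply Subtype.ext
          apply Subtype.ext
          exact w.2⟩
        left_inv := fun w => rfl
        right_inv := fun w => rfl }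
  rw [Finset.sum_congr rfl (fun N _ => hfib N), Finset.sum_const, Finset.card_univ, smul_eq_mul,
    ← Nat.card_eq_fintype_card]

variable [Fintype F] [Finite V]

/-- norm-one frames and non-alternating orthogonal involution parts -/
theorem card_QTIF_one (Q : QuadraticForm F V) (hnd : (pol Q).Nondegenerate) (s : ℕ)
    (hs : 1 ≤ s) :
    Nat.card (QTIF Q 1 (Fin s)) =
      Nat.card (QNN Q s False) * Nat.card (OG (1 : Matrix (Fin s) (Fin s) F)) := by
  have : FiniteDimensional F V := Module.Finite.of_finite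
  have hsq : ∀ x : F, IsSquare x := fun x =>
    FiniteField.isSquare_of_char_two (ringChar.eq F 2) x
  have hA := pol_isAlt Q
  refine card_QTIF_eq_mul Q hnd 1 1 Matrix.isSymm_one
    (by rw [Matrix.det_one]; exact one_ne_zero) False s (Fintype.card_fin s) ?_
    (exists_frame_one hsq (pol Q) hA hnd s) ?_ ?_
  · intro w
    constructor
    · intro h
      exact type_one (pol Q) hA hnd w.1 w.2.1 ⟨0, by omega⟩ h
    · intro h
      exact h.elim
  · intro w hw
    exact isQN_one Q w.1 w.2.2 hw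
  · intro w hw i
    exact norm_one_of_isQN Q hnd w.1 w.2.1 w.2.2 hw i

/-- singular frames and alternating orthogonal involution parts -/
theorem card_QTIF_alt (Q : QuadraticForm F V) (hnd : (pol Q).Nondegenerate) (k : ℕ) :
    Nat.card (QTIF Q 0 (Fin k ⊕ Fin k)) =
      Nat.card (QNN Q (2 * k) True) * Nat.card (OG (JJ k F)) := by
  have : FiniteDimensional F V := Module.Finite.of_finite
  have hA := pol_isAlt Q
  refine card_QTIF_eq_mul Q hnd 0 (JJ k F) (JJ_symm k) (JJ_det k) True (2 * k)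
    (by rw [Fintype.card_sum, Fintype.card_fin]; ring) ?_ (exists_frame_alt (pol Q) hA hnd k) ?_ ?_
  · intro w
    constructor
    · intro _
      trivial
    · intro _ v
      exact type_alt (pol Q) hA w.1 (JJ k F) (JJ_symm k) (JJ_diag k) v
  · intro w hw
    exact isQN_JJ Q k w.1 w.2.2 hw
  · intro w hw i
    exact singular_of_isQN Q hnd k w.1 w.2.1 w.2.2 hw i

end Cfsg.Agent.Lib.helper14.So
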