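import Mathlib
import Cfsg.Agent.Lib.helper14.SpcD

set_option autoImplicit false

/-!
# The order of the orthogonal group of the dot product in characteristic two
-/

namespace Cfsg.Agent.Lib.helper14.Spc

open Module LinearMap Matrix Cfsg.Agent.Lib.helper14.SympInv

variable {F : Type*} [Field F] [CharP F 2]

section Basic

variable {ι : Type*} [Fintype ι] [DecidableEq ι]

theorem OG_one_iff (g : Matrix ι ι F) : g * 1 * g.transpose = 1 ↔ g * g.transpose = 1 := by
  rw [Matrix.mul_one]

theorem sq_eq_one_char_two (a : F) (h : a * a = 1) : a = 1 := by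
  have : (a + 1) * (a + 1) = 0 := by
    have e : (a + 1) * (a + 1) = a * a + 1 + a * 2 := by ring
    rw [e, h, CharTwo.two_eq_zero, mul_zero, add_zero, CharTwo.add_self_eq_zero]
  have h2 : a + 1 = 0 := mul_self_eq_zero.mp this
  calc a = a + 1 + 1 := by rw [add_assoc, CharTwo.add_self_eq_zero, add_zero]
    _ = 1 := by rw [h2, zero_add]

theorem dot_self_char_two (x : ι → F) : x ⬝ᵥ x = (∑ i, x i) * (∑ i, x i) := by
  haveI : Fact (Nat.Prime 2) := ⟨Nat.prime_two⟩
  have h := sum_pow_char (R := F) 2 Finset.univ x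
  rw [dotProduct, ← pow_two, h]
  exact Finset.sum_congr rfl (fun i _ => (pow_two _).symm)

/-- transposed condition -/
theorem OG_one_transpose (g : OG (1 : Matrix ι ι F)) : g.1.transpose * g.1 = 1 := by
  have h := g.2
  rw [OG_one_iff] at h
  exact mul_eq_one_comm.mp h

/-- every column of an orthogonal matrix sums to one -/
theorem OG_col_sum (g : OG (1 : Matrix ι ι F)) (j : ι) : ∑ i, g.1 i j = 1 := by
  apply sq_eq_one_char_two
  rw [← dot_self_char_two (fun i => g.1 i j)]
  have := congrFun (congrFun (OG_one_transpose g) j) j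
  rw [Matrix.mul_apply, Matrix.one_apply_eq] at this
  rw [dotProduct]
  exact this

theorem OG_col_orth (g : OG (1 : Matrix ι ι F)) (j k : ι) (hjk : j ≠ k) :
    ∑ i, g.1 i j * g.1 i k = 0 := by
  have := congrFun (congrFun (OG_one_transpose g) j) k
  rw [Matrix.mul_apply, Matrix.one_apply_ne hjk] at this
  exact this

/-- reindexing -/
theorem card_OG_one_congr [Finite F] {ι' : Type*} [Fintype ι'] [DecidableEq ι'] (e : ι ≃ ι') :
    Nat.card (OG (1 : Matrix ι ι F)) = Nat.card (OG (1 : Matrix ι' ι' F)) := by
  apply Nat.card_congr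
  unfold OG
  refine
    { toFun := fun g => ⟨Matrix.reindex e e g.1, ?_⟩
      invFun := fun g => ⟨Matrix.reindex e.symm e.symm g.1, ?_⟩
      left_inv := ?_
      right_inv := ?_ }
  · have h := g.2
    rw [OG_one_iff] at h ⊢
    rw [Matrix.reindex_apply, Matrix.transpose_submatrix, Matrix.submatrix_mul_equiv, h,
      Matrix.submatrix_one_equiv]
  · have h := g.2
    rw [OG_one_iff] at h ⊢
    rw [Matrix.reindex_apply, Matrix.transpose_submatrix, Matrix.submatrix_mul_equiv, h,
      Matrix.submatrix_one_equiv]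
  · intro g
    apply Subtype.ext
    simp
  · intro g
    apply Subtype.ext
    simp

end Basic

section Rec

universe v

variable {κ : Type v} [Fintype κ] [DecidableEq κ]

/-- the first column of an orthogonal matrix is a good unit vector -/
theorem col0_good [Nonempty κ] (g : OG (1 : Matrix (Unit ⊕ κ) (Unit ⊕ κ) F)) :
    (∑ i, g.1 i (Sum.inl ()) = 1) ∧ ∃ i, g.1 i (Sum.inl ()) ≠ 1 := by
  refine ⟨OG_col_sum g _, ?_⟩
  by_contra hcon
  push Not at hcon
  obtain ⟨c⟩ := ‹Nonempty κ›
  have h1 := OG_col_orth g (Sum.inl ()) (Sum.inr c) (by simp)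
  simp only [hcon, one_mul] at h1
  have h2 := OG_col_sum g (Sum.inr c)
  rw [h1] at h2
  exact zero_ne_one h2

/-- every good unit vector is the first column of an orthogonal matrix -/
theorem exists_OG_col0 [Fintype F] (x : Unit ⊕ κ → F) (hx1 : ∑ i, x i = 1)
    (hx2 : ∃ i, x i ≠ 1) :
    ∃ g : OG (1 : Matrix (Unit ⊕ κ) (Unit ⊕ κ) F), ∀ i, g.1 i (Sum.inl ()) = x i := by
  classical
  have hsq : ∀ a : F, IsSquare a := fun a =>
    FiniteField.isSquare_of_char_two (ringChar.eq F 2) a
  set β : LinearMap.BilinForm F (Unit ⊕ κ → F) :=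
    Matrix.toBilin' (1 : Matrix (Unit ⊕ κ) (Unit ⊕ κ) F) with hβ
  have hβa : ∀ y z, β y z = y ⬝ᵥ z := by
    intro y z
    rw [hβ, Matrix.toBilin'_apply', Matrix.one_mulVec]
  have hxx : β x x = 1 := by rw [hβa, dot_self_char_two, hx1, one_mul]
  have hxx0 : β x x ≠ 0 := by rw [hxx]; exact one_ne_zero
  have hs : β.IsSymm := by
    constructor
    intro y z
    rw [hβa, hβa, dotProduct_comm]
  have hnd : β.Nondegenerate :=
    LinearMap.BilinForm.nondegenerate_toBilin'_of_det_ne_zero' 1
      (by rw [Matrix.det_one]; exact one_ne_zero)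
  set U : Submodule F (Unit ⊕ κ → F) := β.orthogonal (Submodule.span F {x}) with hU
  have hUnd := LinearMap.BilinForm.restrict_nondegenerate_orthogonal_spanSingleton β hnd
    hs.isRefl hxx0
  have hx0 : x ≠ 0 := by
    intro h
    rw [h, map_zero] at hxx
    exact zero_ne_one hxx
  have hUdim : finrank F U = Fintype.card κ := by
    have hcompl := LinearMap.BilinForm.isCompl_span_singleton_orthogonal hxx0
    have hfr := Submodule.finrank_add_eq_of_isCompl hcompl
    rw [finrank_span_singleton hx0, Module.finrank_fintype_fun_eq_card, Fintype.card_sum,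
      Fintype.card_unit, ← hU] at hfr
    omega
  have hUs : (β.restrict U).IsSymm := by
    constructor
    intro y z
    exact hs.eq y z
  have hUmem : ∀ y, y ∈ U ↔ x ⬝ᵥ y = 0 := by
    intro y
    rw [hU, LinearMap.BilinForm.mem_orthogonal_iff]
    constructor
    · intro h
      rw [← hβa]
      exact h x (Submodule.mem_span_singleton_self x)
    · intro h n hn
      obtain ⟨c, rfl⟩ := Submodule.mem_span_singleton.mp hn
      show β (c • x) y = 0
      rw [map_smul, LinearMap.smul_apply, hβa, h, smul_zero]
  obtain ⟨i0, hi0⟩ := hx2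
  set v : Unit ⊕ κ → F := Pi.single i0 1 + x i0 • x with hv
  have hvU : v ∈ U := by
    rw [hUmem, hv, dotProduct_add, dotProduct_smul, dotProduct_single, mul_one, ← hβa x x, hxx,
      smul_eq_mul, mul_one, CharTwo.add_self_eq_zero]
  have hvv : (β.restrict U) ⟨v, hvU⟩ ⟨v, hvU⟩ ≠ 0 := by
    show β v v ≠ 0
    rw [hβa, dot_self_char_two]
    have hsum : ∑ i, v i = 1 + x i0 := by
      rw [hv]
      simp only [Pi.add_apply, Pi.smul_apply, smul_eq_mul, Finset.sum_add_distrib,
        ← Finset.mul_sum, hx1, mul_one]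
      rw [Finset.sum_pi_single']
      simp
    rw [hsum]
    have h1 : (1 : F) + x i0 ≠ 0 := by
      intro h
      apply hi0
      calc x i0 = 1 + (1 + x i0) := by rw [← add_assoc, CharTwo.add_self_eq_zero, zero_add]
        _ = 1 := by rw [h, add_zero]
    exact mul_ne_zero h1 h1
  obtain ⟨bW, hbW⟩ := exists_orthonormal_basis hsq (Fintype.card κ) U (β.restrict U) hUdim hUs
    hUnd (Or.inr ⟨⟨v, hvU⟩, hvv⟩)
  set e := Fintype.equivFin κ with he
  set cols : Unit ⊕ κ → (Unit ⊕ κ → F) :=
    Sum.elim (fun _ => x) (fun c => ((bW (e c) : U) : Unit ⊕ κ → F)) with hcols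
  set g : Matrix (Unit ⊕ κ) (Unit ⊕ κ) F := Matrix.of (fun i j => cols j i) with hg
  have hdot : ∀ j k, cols j ⬝ᵥ cols k = if j = k then 1 else 0 := by
    intro j k
    rcases j with ⟨⟩ | c <;> rcases k with ⟨⟩ | d
    · simp only [hcols, Sum.elim_inl, if_true]
      rw [← hβa, hxx]
    · simp only [hcols, Sum.elim_inl, Sum.elim_inr, reduceCtorEq, if_false]
      exact (hUmem _).mp (bW (e d)).2
    · simp only [hcols, Sum.elim_inl, Sum.elim_inr, reduceCtorEq, if_false]
      rw [dotProduct_comm]
      exact (hUmem _).mp (bW (e c)).2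
    · simp only [hcols, Sum.elim_inr, Sum.inr.injEq]
      have := hbW (e c) (e d)
      have h' : β (bW (e c) : Unit ⊕ κ → F) (bW (e d) : Unit ⊕ κ → F) =
          if e c = e d then 1 else 0 := this
      rw [hβa] at h'
      rw [h']
      simp only [e.apply_eq_iff_eq]
  have hgtg : g.transpose * g = 1 := by
    ext j k
    rw [Matrix.mul_apply, Matrix.one_apply, ← hdot j k]
    rfl
  have hggt : g * g.transpose = 1 := mul_eq_one_comm.mp hgtg
  refine ⟨⟨g, by rw [OG_one_iff]; exact hggt⟩, fun i => ?_⟩
  rfl

/-- the stabiliser of the first basis vector -/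
theorem card_stab0 [Finite F] :
    Nat.card {g : OG (1 : Matrix (Unit ⊕ κ) (Unit ⊕ κ) F) //
      ∀ i, g.1 i (Sum.inl ()) = if i = Sum.inl () then 1 else 0} =
      Nat.card (OG (1 : Matrix κ κ F)) := by
  classical
  apply Nat.card_congr
  refine
    { toFun := fun g => ⟨g.1.1.toBlocks₂₂, ?_⟩
      invFun := fun g' => ⟨⟨Matrix.fromBlocks 1 0 0 g'.1, ?_⟩, ?_⟩
      left_inv := ?_
      right_inv := ?_ }
  · -- the minor is orthogonal
    have hrow : ∀ j, g.1.1 (Sum.inl ()) j = if j = Sum.inl () then 1 else 0 := by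
      intro j
      have h1 := congrFun (congrFun (OG_one_transpose g.1) (Sum.inl ())) j
      rw [Matrix.mul_apply] at h1
      simp only [Matrix.transpose_apply, g.2, ite_mul, one_mul, zero_mul, Finset.sum_ite_eq',
        Finset.mem_univ, if_true] at h1
      rw [h1, Matrix.one_apply]
      simp only [eq_comm]
    have hform : g.1.1 = Matrix.fromBlocks 1 0 0 g.1.1.toBlocks₂₂ := by
      conv_lhs => rw [← Matrix.fromBlocks_toBlocks g.1.1]
      congr 1
      · ext a b
        simp [Matrix.toBlocks₁₁, g.2]
      · ext a b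
        simp [Matrix.toBlocks₁₂, hrow]
      · ext a b
        simp [Matrix.toBlocks₂₁, g.2]
    have h := g.1.2
    rw [OG_one_iff] at h ⊢
    rw [hform, Matrix.fromBlocks_transpose, Matrix.fromBlocks_multiply] at h
    simp only [Matrix.transpose_one, Matrix.mul_one, Matrix.transpose_zero, Matrix.mul_zero,
      add_zero, Matrix.zero_mul, zero_add] at h
    have h2 := congrArg Matrix.toBlocks₂₂ h
    rw [Matrix.toBlocks_fromBlocks₂₂] at h2
    rw [h2]
    ext a b
    simp [Matrix.toBlocks₂₂, Matrix.one_apply]
  · have h := g'.2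
    rw [OG_one_iff] at h ⊢
    rw [Matrix.fromBlocks_transpose, Matrix.fromBlocks_multiply]
    simp only [Matrix.transpose_one, Matrix.mul_one, Matrix.transpose_zero, Matrix.mul_zero,
      add_zero, Matrix.zero_mul, zero_add, h, Matrix.fromBlocks_one]
  · intro i
    rcases i with ⟨⟩ | c
    · simp
    · simp
  · intro g
    apply Subtype.ext
    apply Subtype.ext
    have hrow : ∀ j, g.1.1 (Sum.inl ()) j = if j = Sum.inl () then 1 else 0 := by
      intro j
      have h1 := congrFun (congrFun (OG_one_transpose g.1) (Sum.inl ())) j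
      rw [Matrix.mul_apply] at h1
      simp only [Matrix.transpose_apply, g.2, ite_mul, one_mul, zero_mul, Finset.sum_ite_eq',
        Finset.mem_univ, if_true] at h1
      rw [h1, Matrix.one_apply]
      simp only [eq_comm]
    show Matrix.fromBlocks 1 0 0 g.1.1.toBlocks₂₂ = g.1.1
    conv_rhs => rw [← Matrix.fromBlocks_toBlocks g.1.1]
    congr 1
    · ext a b
      simp [Matrix.toBlocks₁₁, g.2]
    · ext a b
      simp [Matrix.toBlocks₁₂, hrow]
    · ext a b
      simp [Matrix.toBlocks₂₁, g.2]
  · intro g'
    apply Subtype.ext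
    show (Matrix.fromBlocks 1 0 0 g'.1).toBlocks₂₂ = g'.1
    rw [Matrix.toBlocks_fromBlocks₂₂]

end Rec

section Count

universe v

variable {κ : Type v} [Fintype κ] [DecidableEq κ] [Fintype F]

/-- good unit vectors -/
def Good (κ : Type v) (F : Type*) [Fintype κ] [Field F] : Type _ :=
  {x : Unit ⊕ κ → F // (∑ i, x i = 1) ∧ ∃ i, x i ≠ 1}

instance : Finite (Good κ F) := by
  unfold Good
  infer_instance

theorem card_Good : Nat.card (Good κ F) =
    Fintype.card F ^ Fintype.card κ - (if Even (Fintype.card κ) then 1 else 0) := by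
  classical
  have hsumone : (∑ _c : κ, (1 : F)) = if Even (Fintype.card κ) then 0 else 1 := by
    rw [Finset.sum_const, Finset.card_univ, nsmul_eq_mul, mul_one]
    split_ifs with h
    · obtain ⟨k, hk⟩ := h
      rw [hk]
      push_cast
      exact CharTwo.add_self_eq_zero _
    · rw [Nat.not_even_iff_odd] at h
      obtain ⟨k, hk⟩ := h
      rw [hk]
      push_cast
      rw [CharTwo.two_eq_zero, zero_mul, zero_add]
  have e : Good κ F ≃ {y : κ → F // ¬ (Even (Fintype.card κ) ∧ y = fun _ => 1)} :=
    { toFun := fun x => ⟨fun c => x.1 (Sum.inr c), by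
        rintro ⟨hev, hy⟩
        obtain ⟨i, hi⟩ := x.2.2
        apply hi
        have hy' : ∀ c, x.1 (Sum.inr c) = 1 := fun c => congrFun hy c
        rcases i with ⟨⟩ | c
        · have h1 := x.2.1
          rw [Fintype.sum_sum_type] at h1
          simp only [Finset.univ_unique, Finset.sum_singleton, hy'] at h1
          rw [hsumone, if_pos hev, add_zero] at h1
          exact h1
        · exact hy' c⟩
      invFun := fun y => ⟨Sum.elim (fun _ => 1 + ∑ c, y.1 c) y.1, by
        constructor
        · rw [Fintype.sum_sum_type]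
          simp only [Finset.univ_unique, Finset.sum_singleton, Sum.elim_inl, Sum.elim_inr]
          rw [add_assoc, CharTwo.add_self_eq_zero, add_zero]
        · by_contra hcon
          push Not at hcon
          apply y.2
          have hy' : ∀ c, y.1 c = 1 := fun c => by
            have := hcon (Sum.inr c)
            simpa using this
          have h0 := hcon (Sum.inl ())
          simp only [Sum.elim_inl, hy'] at h0
          refine ⟨?_, funext hy'⟩
          by_contra hodd
          rw [hsumone, if_neg hodd, CharTwo.add_self_eq_zero] at h0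
          exact zero_ne_one h0⟩
      left_inv := fun x => by
        obtain ⟨x, hx1, hx2⟩ := x
        apply Subtype.ext
        funext i
        rcases i with ⟨⟩ | c
        · show 1 + ∑ c, x (Sum.inr c) = x (Sum.inl ())
          have h1 := hx1
          rw [Fintype.sum_sum_type] at h1
          simp only [Finset.univ_unique, Finset.sum_singleton] at h1
          have h2 : x (Sum.inl ()) =
              (x (Sum.inl ()) + ∑ c, x (Sum.inr c)) + ∑ c, x (Sum.inr c) := by
            rw [add_assoc, CharTwo.add_self_eq_zero, add_zero]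
          rw [h2, h1]
        · rfl
      right_inv := fun y => by
        apply Subtype.ext
        rfl }
  rw [Nat.card_congr e]
  by_cases hev : Even (Fintype.card κ)
  · rw [if_pos hev]
    have e2 : {y : κ → F // ¬ (Even (Fintype.card κ) ∧ y = fun _ => 1)} ≃
        {y : κ → F // y ≠ fun _ => 1} :=
      Equiv.subtypeEquivRight (fun y => by simp [hev])
    rw [Nat.card_congr e2, Nat.card_eq_fintype_card, Fintype.card_subtype_compl,
      Fintype.card_subtype_eq, Fintype.card_fun]
  · rw [if_neg hev, Nat.sub_zero]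
    have e2 : {y : κ → F // ¬ (Even (Fintype.card κ) ∧ y = fun _ => 1)} ≃ (κ → F) :=
      Equiv.subtypeUnivEquiv (fun y => by simp [hev])
    rw [Nat.card_congr e2, Nat.card_eq_fintype_card, Fintype.card_fun]

end Count

end Cfsg.Agent.Lib.helper14.Spc
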