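import Mathlib
import Cfsg.Agent.Lib.helper14.SoA
import Cfsg.Agent.Lib.helper14.SpcE

set_option autoImplicit false

/-!
# Counting frames of singular vectors and of norm-one vectors
-/

namespace Cfsg.Agent.Lib.helper14.So

open Module LinearMap Cfsg.Agent.Lib.helper14.SympInv Cfsg.Agent.Lib.helper14.Spc

universe u

section Gen

theorem card_split {α : Type*} [Finite α] (p r : α → Prop) :
    Nat.card {a // p a} = Nat.card {a // p a ∧ r a} + Nat.card {a // p a ∧ ¬ r a} := by
  classical
  have e1 : {a // p a} ≃ {b : {a // p a} // r b.1} ⊕ {b : {a // p a} // ¬ r b.1} :=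
    (Equiv.sumCompl (fun b : {a // p a} => r b.1)).symm
  have e2 : {b : {a // p a} // r b.1} ≃ {a // p a ∧ r a} :=
    Equiv.subtypeSubtypeEquivSubtypeInter p r
  have e3 : {b : {a // p a} // ¬ r b.1} ≃ {a // p a ∧ ¬ r a} :=
    Equiv.subtypeSubtypeEquivSubtypeInter p (fun a => ¬ r a)
  rw [Nat.card_congr e1, Nat.card_sum, Nat.card_congr e2, Nat.card_congr e3]

end Gen

variable {F : Type*} [Field F] [CharP F 2] {V : Type u} [AddCommGroup V] [Module F V]

section Perp

variable [Fintype F] [Finite V]

/-- the size of the orthogonal complement of a linearly independent family -/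
theorem card_perp_all (ω : LinearMap.BilinForm F V) (hnd : ω.Nondegenerate) {ι : Type*}
    [Fintype ι] (w : ι → V) (hli : LinearIndependent F w) :
    Nat.card {v : V // ∀ i, ω (w i) v = 0} =
      Fintype.card F ^ (finrank F V - Fintype.card ι) := by
  have : FiniteDimensional F V := Module.Finite.of_finite
  set W : Submodule F V := Submodule.span F (Set.range w) with hW
  have hWdim : finrank F W = Fintype.card ι := by
    rw [hW, finrank_span_eq_card hli]
  have hWperp : finrank F (ω.orthogonal W) = finrank F V - Fintype.card ι := by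
    rw [LinearMap.BilinForm.finrank_orthogonal hnd, hWdim]
  have e : {v : V // ∀ i, ω (w i) v = 0} ≃ ω.orthogonal W := by
    refine Equiv.subtypeEquivRight ?_
    intro v
    rw [mem_orthogonal_span_iff]
  rw [Nat.card_congr e, Module.natCard_eq_pow_finrank (K := F) (V := ω.orthogonal W), hWperp,
    Nat.card_eq_fintype_card]

omit [CharP F 2] [Fintype F] [Finite V] in
/-- a totally isotropic frame has at most half the dimension -/
theorem tif_card_le [FiniteDimensional F V] (ω : LinearMap.BilinForm F V)
    (hnd : ω.Nondegenerate) {ι : Type*} [Fintype ι] (w : ι → V) (hli : LinearIndependent F w)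
    (hti : ∀ i j, ω (w i) (w j) = 0) : 2 * Fintype.card ι ≤ finrank F V := by
  set W : Submodule F V := Submodule.span F (Set.range w) with hW
  have hWdim : finrank F W = Fintype.card ι := by
    rw [hW, finrank_span_eq_card hli]
  have hWperp : finrank F (ω.orthogonal W) = finrank F V - Fintype.card ι := by
    rw [LinearMap.BilinForm.finrank_orthogonal hnd, hWdim]
  have hle : W ≤ ω.orthogonal W := by
    intro x hx
    rw [mem_orthogonal_span_iff]
    intro i
    induction hx using Submodule.span_induction with
    | mem x hx =>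
      obtain ⟨j, rfl⟩ := hx
      exact hti i j
    | zero => simp
    | add x y _ _ hx hy => rw [map_add, hx, hy, add_zero]
    | smul c x _ hx => rw [map_smul, hx, smul_zero]
  have h1 := Submodule.finrank_mono hle
  have h2 : finrank F W ≤ finrank F V := Submodule.finrank_le W
  omega

/-- on the vectors not orthogonal to a singular vector `x`, every value of `Q` is taken equally
often -/
theorem card_step_singular (Q : QuadraticForm F V) {ι : Type*} (w : ι → V) (x : V)
    (hx : ∀ i, pol Q (w i) x = 0) (hQx : Q x = 0) (c : F) :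
    Nat.card {v : V // (∀ i, pol Q (w i) v = 0) ∧ (pol Q x v ≠ 0 ∧ Q v = c)} * Fintype.card F =
      Nat.card {v : V // (∀ i, pol Q (w i) v = 0) ∧ pol Q x v ≠ 0} := by
  have hxx : pol Q x x = 0 := pol_isAlt Q x
  have h2 : ∀ a : V, a + a = 0 := fun a => by
    rw [← two_smul F a, CharTwo.two_eq_zero, zero_smul]
  rw [← Nat.card_eq_fintype_card (α := F), ← Nat.card_prod]
  apply Nat.card_congr
  refine
    { toFun := fun p => ⟨p.1.1 + p.2 • x, ?_, ?_⟩
      invFun := fun u => (⟨u.1 + ((Q u.1 + c) / pol Q x u.1) • x, ?_, ?_, ?_⟩,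
        (Q u.1 + c) / pol Q x u.1)
      left_inv := ?_
      right_inv := ?_ }
  · intro i
    rw [map_add, map_smul, p.1.2.1 i, hx i, smul_zero, add_zero]
  · rw [map_add, map_smul, hxx, smul_zero, add_zero]
    exact p.1.2.2.1
  · intro i
    rw [map_add, map_smul, u.2.1 i, hx i, smul_zero, add_zero]
  · rw [map_add, map_smul, hxx, smul_zero, add_zero]
    exact u.2.2
  · have hne := u.2.2
    rw [Q_add, Q_smul, hQx, mul_zero, add_zero, map_smul, smul_eq_mul, pol_symm Q u.1 x,
      div_mul_cancel₀ _ hne, ← add_assoc, CharTwo.add_self_eq_zero, zero_add]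
  · rintro ⟨⟨v, hv1, hv2, hv3⟩, t⟩
    have hne := hv2
    have e1 : pol Q x (v + t • x) = pol Q x v := by
      rw [map_add, map_smul, hxx, smul_zero, add_zero]
    have e2 : Q (v + t • x) = c + t * pol Q x v := by
      rw [Q_add, Q_smul, hQx, mul_zero, add_zero, map_smul, smul_eq_mul, pol_symm Q v x, hv3]
    have e3 : (Q (v + t • x) + c) / pol Q x (v + t • x) = t := by
      rw [e1, e2, add_comm c, add_assoc, CharTwo.add_self_eq_zero, add_zero,
        mul_div_assoc, div_self hne, mul_one]
    apply Prod.ext
    · apply Subtype.ext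
      show v + t • x + ((Q (v + t • x) + c) / pol Q x (v + t • x)) • x = v
      rw [e3, add_assoc, h2, add_zero]
    · exact e3
  · rintro ⟨u, hu1, hu2⟩
    apply Subtype.ext
    show u + ((Q u + c) / pol Q x u) • x + ((Q u + c) / pol Q x u) • x = u
    rw [add_assoc, h2, add_zero]

/-- on the orthogonal complement of a family containing a norm-one vector, every value of `Q` is
taken equally often -/
theorem card_step_one (Q : QuadraticForm F V) {ι : Type*} (w : ι → V) (i0 : ι)
    (hx : ∀ i, pol Q (w i) (w i0) = 0) (hQx : Q (w i0) = 1) (c : F) :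
    Nat.card {v : V // (∀ i, pol Q (w i) v = 0) ∧ Q v = c} * Fintype.card F =
      Nat.card {v : V // ∀ i, pol Q (w i) v = 0} := by
  have h2 : ∀ a : V, a + a = 0 := fun a => by
    rw [← two_smul F a, CharTwo.two_eq_zero, zero_smul]
  have hsq : ∀ a : F, ∃ b : F, b * b = a := fun a => by
    obtain ⟨b, hb⟩ := FiniteField.isSquare_of_char_two (ringChar.eq F 2) a
    exact ⟨b, hb.symm⟩
  choose sq hsq' using hsq
  have hsq_inj : ∀ a b : F, a * a = b * b → a = b := by
    intro a b hab
    have h3 : (a + b) * (a + b) = 0 := by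
      have e : (a + b) * (a + b) = a * a + b * b + a * b * 2 := by ring
      rw [e, hab, CharTwo.two_eq_zero, mul_zero, add_zero, CharTwo.add_self_eq_zero]
    have h4 : a + b = 0 := mul_self_eq_zero.mp h3
    calc a = a + b + b := by rw [add_assoc, CharTwo.add_self_eq_zero, add_zero]
      _ = b := by rw [h4, zero_add]
  rw [← Nat.card_eq_fintype_card (α := F), ← Nat.card_prod]
  apply Nat.card_congr
  refine
    { toFun := fun p => ⟨p.1.1 + p.2 • w i0, ?_⟩
      invFun := fun u => (⟨u.1 + sq (Q u.1 + c) • w i0, ?_, ?_⟩, sq (Q u.1 + c))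
      left_inv := ?_
      right_inv := ?_ }
  · intro i
    rw [map_add, map_smul, p.1.2.1 i, hx i, smul_zero, add_zero]
  · intro i
    rw [map_add, map_smul, u.2 i, hx i, smul_zero, add_zero]
  · rw [Q_add, Q_smul, hQx, mul_one, map_smul, smul_eq_mul, pol_symm Q u.1 (w i0), u.2 i0,
      mul_zero, add_zero, hsq', ← add_assoc, CharTwo.add_self_eq_zero, zero_add]
  · rintro ⟨⟨v, hv1, hv3⟩, t⟩
    have e2 : Q (v + t • w i0) = c + t * t := by
      rw [Q_add, Q_smul, hQx, mul_one, map_smul, smul_eq_mul, pol_symm Q v (w i0), hv1 i0,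
        mul_zero, add_zero, hv3]
    have e3 : sq (Q (v + t • w i0) + c) = t := by
      apply hsq_inj
      rw [hsq', e2, add_comm c, add_assoc, CharTwo.add_self_eq_zero, add_zero]
    apply Prod.ext
    · apply Subtype.ext
      show v + t • w i0 + sq (Q (v + t • w i0) + c) • w i0 = v
      rw [e3, add_assoc, h2, add_zero]
    · exact e3
  · rintro ⟨u, hu1⟩
    apply Subtype.ext
    show u + sq (Q u + c) • w i0 + sq (Q u + c) • w i0 = u
    rw [add_assoc, h2, add_zero]

end Perp

end Cfsg.Agent.Lib.helper14.So
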