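import Mathlib
import Cfsg.Agent.Lib.helper14.SoB

set_option autoImplicit false

/-!
# The recursion for frames of singular vectors and of norm-one vectors
-/

namespace Cfsg.Agent.Lib.helper14.So

open Module LinearMap Cfsg.Agent.Lib.helper14.SympInv Cfsg.Agent.Lib.helper14.Spc

universe u

variable {F : Type*} [Field F] [CharP F 2] {V : Type u} [AddCommGroup V] [Module F V]

/-- the vectors that extend a norm-`ε` frame -/
def QExt (Q : QuadraticForm F V) (ε : F) {ι : Type*} (w : ι → V) : Type _ :=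
  {v : V // ((∀ i, pol Q (w i) v = 0) ∧ Q v = ε) ∧ v ∉ Submodule.span F (Set.range w)}

instance {ι : Type*} [Finite V] (Q : QuadraticForm F V) (ε : F) (w : ι → V) :
    Finite (QExt Q ε w) := by
  unfold QExt
  infer_instance

/-- one more vector -/
noncomputable def qtifSuccEquiv (Q : QuadraticForm F V) (ε : F) (s : ℕ) :
    QTIF Q ε (Fin (s + 1)) ≃ Σ w : QTIF Q ε (Fin s), QExt Q ε w.1.1 where
  toFun w' := ⟨⟨⟨Fin.tail w'.1.1, by
      have h := w'.1.2.1
      rw [← Fin.cons_self_tail w'.1.1] at h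
      exact (linearIndependent_finCons.mp h).1, fun i j => w'.1.2.2 _ _⟩, fun i => w'.2 _⟩,
    ⟨w'.1.1 0, ⟨fun i => w'.1.2.2 _ _, w'.2 0⟩, by
      have h := w'.1.2.1
      rw [← Fin.cons_self_tail w'.1.1] at h
      exact (linearIndependent_finCons.mp h).2⟩⟩
  invFun p := ⟨⟨Fin.cons p.2.1 p.1.1.1, linearIndependent_finCons.mpr ⟨p.1.1.2.1, p.2.2.2⟩, by
    intro i j
    refine Fin.cases ?_ (fun i' => ?_) i <;> refine Fin.cases ?_ (fun j' => ?_) j
    · simp only [Fin.cons_zero]
      exact pol_isAlt Q _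
    · simp only [Fin.cons_zero, Fin.cons_succ]
      rw [pol_symm, p.2.2.1.1 j']
    · simp only [Fin.cons_zero, Fin.cons_succ]
      exact p.2.2.1.1 i'
    · simp only [Fin.cons_succ]
      exact p.1.1.2.2 i' j'⟩, by
    intro i
    refine Fin.cases ?_ (fun i' => ?_) i
    · simp only [Fin.cons_zero]
      exact p.2.2.1.2
    · simp only [Fin.cons_succ]
      exact p.1.2 i'⟩
  left_inv w' := by
    apply Subtype.ext
    apply Subtype.ext
    exact Fin.cons_self_tail w'.1.1
  right_inv p := by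
    obtain ⟨⟨⟨w, hw⟩, hw'⟩, ⟨v, hv⟩⟩ := p
    rfl

theorem card_QTIF_succ [Finite V] (Q : QuadraticForm F V) (ε : F) (s e : ℕ)
    (h : ∀ w : QTIF Q ε (Fin s), Nat.card (QExt Q ε w.1.1) = e) :
    Nat.card (QTIF Q ε (Fin (s + 1))) = Nat.card (QTIF Q ε (Fin s)) * e := by
  classical
  haveI : Fintype (QTIF Q ε (Fin s)) := Fintype.ofFinite _
  rw [Nat.card_congr (qtifSuccEquiv Q ε s), Nat.card_sigma,
    Finset.sum_congr rfl (fun w _ => h w), Finset.sum_const, Finset.card_univ, smul_eq_mul,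
    Nat.card_eq_fintype_card]

theorem card_QTIF_zero [Finite V] (Q : QuadraticForm F V) (ε : F) :
    Nat.card (QTIF Q ε (Fin 0)) = 1 := by
  rw [Nat.card_eq_one_iff_unique]
  refine ⟨⟨fun a b => Subtype.ext (Subtype.ext (funext fun i => i.elim0))⟩,
    ⟨⟨⟨fun i => i.elim0, linearIndependent_empty_type, fun i => i.elim0⟩, fun i => i.elim0⟩⟩⟩

/-- reindexing -/
noncomputable def qtifCongr (Q : QuadraticForm F V) (ε : F) {ι ι' : Type*} (e : ι ≃ ι') :
    QTIF Q ε ι ≃ QTIF Q ε ι' where
  toFun w := ⟨tifCongr (pol Q) e w.1, fun i => w.2 _⟩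
  invFun w := ⟨(tifCongr (pol Q) e).symm w.1, fun i => w.2 _⟩
  left_inv w := by
    apply Subtype.ext
    exact (tifCongr (pol Q) e).symm_apply_apply w.1
  right_inv w := by
    apply Subtype.ext
    exact (tifCongr (pol Q) e).apply_symm_apply w.1

section Count

variable [Fintype F] [Finite V]

/-- `QExt` as a difference -/
theorem card_QExt_add (Q : QuadraticForm F V) (ε : F) {ι : Type*} (w : ι → V) :
    Nat.card {v : V // (∀ i, pol Q (w i) v = 0) ∧ Q v = ε} =
      Nat.card {v : V // ((∀ i, pol Q (w i) v = 0) ∧ Q v = ε) ∧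
        v ∈ Submodule.span F (Set.range w)} + Nat.card (QExt Q ε w) :=
  card_split (fun v : V => (∀ i, pol Q (w i) v = 0) ∧ Q v = ε)
    (fun v => v ∈ Submodule.span F (Set.range w))

/-- the number of vectors of given norm orthogonal to a singular frame -/
theorem card_perp_singular (Q : QuadraticForm F V) (hnd : (pol Q).Nondegenerate) (c : F) (s : ℕ)
    (w : Fin s → V) (hli : LinearIndependent F w) (hti : ∀ i j, pol Q (w i) (w j) = 0)
    (hQ : ∀ i, Q (w i) = 0) :
    Nat.card {v : V // (∀ i, pol Q (w i) v = 0) ∧ Q v = c} + Fintype.card F ^ (finrank F V - 1) =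
      Nat.card {v : V // Q v = c} + Fintype.card F ^ (finrank F V - 1 - s) := by
  have : FiniteDimensional F V := Module.Finite.of_finite
  induction s with
  | zero =>
    have e : {v : V // (∀ i : Fin 0, pol Q (w i) v = 0) ∧ Q v = c} ≃ {v : V // Q v = c} :=
      Equiv.subtypeEquivRight (fun v => ⟨fun h => h.2, fun h => ⟨fun i => i.elim0, h⟩⟩)
    rw [Nat.card_congr e, Nat.sub_zero]
  | succ s ih =>
    set x : V := w 0 with hx
    set w₀ : Fin s → V := Fin.tail w with hw₀
    have hw : w = Fin.cons x w₀ := (Fin.cons_self_tail w).symm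
    have hli₀ : LinearIndependent F w₀ := by
      have h := hli
      rw [hw] at h
      exact (linearIndependent_finCons.mp h).1
    have ih' := ih w₀ hli₀ (fun i j => hti _ _) (fun i => hQ _)
    have hle := tif_card_le (pol Q) hnd w hli hti
    rw [Fintype.card_fin] at hle
    -- split by orthogonality to `x`
    have h1 := card_split (fun v : V => (∀ i, pol Q (w₀ i) v = 0) ∧ Q v = c)
      (fun v => pol Q x v = 0)
    have e1 : {v : V // ((∀ i, pol Q (w₀ i) v = 0) ∧ Q v = c) ∧ pol Q x v = 0} ≃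
        {v : V // (∀ i, pol Q (w i) v = 0) ∧ Q v = c} := by
      refine Equiv.subtypeEquivRight (fun v => ?_)
      rw [hw, Fin.forall_fin_succ]
      simp only [Fin.cons_zero, Fin.cons_succ]
      tauto
    have e2 : {v : V // ((∀ i, pol Q (w₀ i) v = 0) ∧ Q v = c) ∧ ¬ pol Q x v = 0} ≃
        {v : V // (∀ i, pol Q (w₀ i) v = 0) ∧ (pol Q x v ≠ 0 ∧ Q v = c)} := by
      refine Equiv.subtypeEquivRight (fun v => ?_)
      tauto
    rw [Nat.card_congr e1, Nat.card_congr e2] at h1
    have h2 := card_step_singular Q w₀ x (fun i => hti _ _) (hQ 0) c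
    have h3 := card_split (fun v : V => ∀ i, pol Q (w₀ i) v = 0) (fun v => pol Q x v = 0)
    have e3 : {v : V // (∀ i, pol Q (w₀ i) v = 0) ∧ pol Q x v = 0} ≃
        {v : V // ∀ i, pol Q (w i) v = 0} := by
      refine Equiv.subtypeEquivRight (fun v => ?_)
      rw [hw, Fin.forall_fin_succ]
      simp only [Fin.cons_zero, Fin.cons_succ]
      tauto
    rw [Nat.card_congr e3, card_perp_all (pol Q) hnd w₀ hli₀, card_perp_all (pol Q) hnd w hli,
      Fintype.card_fin, Fintype.card_fin] at h3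
    have e4 : {v : V // (∀ i, pol Q (w₀ i) v = 0) ∧ ¬ pol Q x v = 0} ≃
        {v : V // (∀ i, pol Q (w₀ i) v = 0) ∧ pol Q x v ≠ 0} := Equiv.refl _
    rw [Nat.card_congr e4, ← h2] at h3
    -- arithmetic
    obtain ⟨a, ha⟩ : ∃ a, finrank F V = a + s + 2 := ⟨finrank F V - s - 2, by omega⟩
    have p1 : finrank F V - 1 = a + s + 1 := by omega
    have p2 : finrank F V - 1 - s = a + 1 := by omega
    have p3 : finrank F V - 1 - (s + 1) = a := by omega
    have p4 : finrank F V - s = a + 2 := by omega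
    have p5 : finrank F V - (s + 1) = a + 1 := by omega
    rw [p2, p1] at ih'
    rw [p3, p1]
    rw [p4, p5] at h3
    set q := Fintype.card F with hq
    have hq0 : 0 < q := Fintype.card_pos
    set A := Nat.card {v : V // (∀ i, pol Q (w i) v = 0) ∧ Q v = c} with hA
    set B := Nat.card {v : V // (∀ i, pol Q (w₀ i) v = 0) ∧ Q v = c} with hB
    set D := Nat.card {v : V // (∀ i, pol Q (w₀ i) v = 0) ∧ (pol Q x v ≠ 0 ∧ Q v = c)} with hD
    set Z := Nat.card {v : V // Q v = c} with hZ
    -- h1 : B = A + D;  h3 : q^(a+2) = q^(a+1) + D * q;  ih' : B + q^(a+s+1) = Z + q^(a+1)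
    have h4 : q ^ (a + 1) = q ^ a + D := by
      apply Nat.eq_of_mul_eq_mul_right hq0
      rw [add_mul, ← pow_succ, ← pow_succ]
      exact h3
    omega

end Count

end Cfsg.Agent.Lib.helper14.So
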