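import Mathlib
import Cfsg.Agent.Lib.helper14.SoC

set_option autoImplicit false

/-!
# The number of frames of singular vectors and of norm-one vectors
-/

namespace Cfsg.Agent.Lib.helper14.So

open Module LinearMap Cfsg.Agent.Lib.helper14.SympInv Cfsg.Agent.Lib.helper14.Spc

universe u

variable {F : Type*} [Field F] [CharP F 2] {V : Type u} [AddCommGroup V] [Module F V]

omit [CharP F 2] in
theorem span_perp (Q : QuadraticForm F V) {ι : Type*} (w : ι → V)
    (hti : ∀ i j, pol Q (w i) (w j) = 0) (v : V) (hv : v ∈ Submodule.span F (Set.range w))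
    (i : ι) : pol Q (w i) v = 0 := by
  induction hv using Submodule.span_induction with
  | mem x hx =>
    obtain ⟨j, rfl⟩ := hx
    exact hti i j
  | zero => simp
  | add x y _ _ hx hy => rw [map_add, hx, hy, add_zero]
  | smul c x _ hx => rw [map_smul, hx, smul_zero]

section Count

variable [Fintype F] [Finite V]

theorem card_sum_eq_one (s : ℕ) :
    Nat.card {c : Fin (s + 1) → F // ∑ i, c i = 1} = Fintype.card F ^ s := by
  have e : {c : Fin (s + 1) → F // ∑ i, c i = 1} ≃ (Fin s → F) :=
    { toFun := fun c => Fin.tail c.1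
      invFun := fun d => ⟨Fin.cons (1 + ∑ i, d i) d, by
        rw [Fin.sum_univ_succ]
        simp only [Fin.cons_zero, Fin.cons_succ]
        rw [add_assoc, CharTwo.add_self_eq_zero, add_zero]⟩
      left_inv := fun c => by
        obtain ⟨c, hc⟩ := c
        apply Subtype.ext
        have h := hc
        rw [Fin.sum_univ_succ] at h
        have h0 : c 0 = 1 + ∑ i : Fin s, c i.succ := by
          calc c 0 = (c 0 + ∑ i : Fin s, c i.succ) + ∑ i : Fin s, c i.succ := by
                rw [add_assoc, CharTwo.add_self_eq_zero, add_zero]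
            _ = 1 + ∑ i : Fin s, c i.succ := by rw [h]
        show Fin.cons (1 + ∑ i, Fin.tail c i) (Fin.tail c) = c
        conv_rhs => rw [← Fin.cons_self_tail c]
        congr 1
        exact h0.symm
      right_inv := fun d => by
        funext i
        simp [Fin.tail] }
  rw [Nat.card_congr e, Nat.card_eq_fintype_card, Fintype.card_fun, Fintype.card_fin]

/-- extensions of a singular frame -/
theorem card_QExt_singular (Q : QuadraticForm F V) (hnd : (pol Q).Nondegenerate) (s : ℕ)
    (w : QTIF Q 0 (Fin s)) :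
    Nat.card (QExt Q 0 w.1.1) + Fintype.card F ^ s + Fintype.card F ^ (finrank F V - 1) =
      Nat.card {v : V // Q v = 0} + Fintype.card F ^ (finrank F V - 1 - s) := by
  have : FiniteDimensional F V := Module.Finite.of_finite
  have h1 := card_QExt_add Q 0 w.1.1
  have h2 := card_perp_singular Q hnd 0 s w.1.1 w.1.2.1 w.1.2.2 w.2
  have e : {v : V // ((∀ i, pol Q (w.1.1 i) v = 0) ∧ Q v = 0) ∧
      v ∈ Submodule.span F (Set.range w.1.1)} ≃ Submodule.span F (Set.range w.1.1) := by
    refine Equiv.subtypeEquivRight (fun v => ?_)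
    constructor
    · intro h
      exact h.2
    · intro h
      refine ⟨⟨fun i => span_perp Q w.1.1 w.1.2.2 v h i, ?_⟩, h⟩
      obtain ⟨c, rfl⟩ := (Submodule.mem_span_range_iff_exists_fun F).mp h
      rw [Q_sum_ti Q Finset.univ w.1.1 w.1.2.2]
      simp only [w.2, mul_zero, Finset.sum_const_zero]
  rw [Nat.card_congr e, Module.natCard_eq_pow_finrank (K := F)
    (V := Submodule.span F (Set.range w.1.1)), finrank_span_eq_card w.1.2.1, Fintype.card_fin,
    Nat.card_eq_fintype_card (α := F)] at h1
  omega

/-- extensions of a nonempty norm-one frame -/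
theorem card_QExt_one (Q : QuadraticForm F V) (hnd : (pol Q).Nondegenerate) (s : ℕ)
    (w : QTIF Q 1 (Fin (s + 1))) :
    Nat.card (QExt Q 1 w.1.1) + Fintype.card F ^ s =
      Fintype.card F ^ (finrank F V - (s + 1) - 1) := by
  have : FiniteDimensional F V := Module.Finite.of_finite
  have h1 := card_QExt_add Q 1 w.1.1
  have h2 := card_step_one Q w.1.1 0 (fun i => w.1.2.2 _ _) (w.2 0) 1
  rw [card_perp_all (pol Q) hnd w.1.1 w.1.2.1, Fintype.card_fin] at h2
  have hle := tif_card_le (pol Q) hnd w.1.1 w.1.2.1 w.1.2.2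
  rw [Fintype.card_fin] at hle
  have hq0 : 0 < Fintype.card F := Fintype.card_pos
  have h3 : Nat.card {v : V // (∀ i, pol Q (w.1.1 i) v = 0) ∧ Q v = 1} =
      Fintype.card F ^ (finrank F V - (s + 1) - 1) := by
    apply Nat.eq_of_mul_eq_mul_right hq0
    rw [h2, ← pow_succ]
    congr 1
    omega
  have h4 : Nat.card {v : V // ((∀ i, pol Q (w.1.1 i) v = 0) ∧ Q v = 1) ∧
      v ∈ Submodule.span F (Set.range w.1.1)} = Fintype.card F ^ s := by
    rw [← card_sum_eq_one (F := F) s]
    symm
    have hQc : ∀ c : Fin (s + 1) → F, Q (∑ i, c i • w.1.1 i) = (∑ i, c i) * (∑ i, c i) := by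
      intro c
      rw [Q_sum_ti Q Finset.univ w.1.1 w.1.2.2]
      simp only [w.2, mul_one]
      exact dot_self_char_two c
    refine Nat.card_eq_of_bijective
      (fun c : {c : Fin (s + 1) → F // ∑ i, c i = 1} =>
        (⟨∑ i, c.1 i • w.1.1 i, ⟨fun i => span_perp Q w.1.1 w.1.2.2 _
          ((Submodule.mem_span_range_iff_exists_fun F).mpr ⟨c.1, rfl⟩) i, by
            rw [hQc, c.2, mul_one]⟩,
          (Submodule.mem_span_range_iff_exists_fun F).mpr ⟨c.1, rfl⟩⟩ :
          {v : V // ((∀ i, pol Q (w.1.1 i) v = 0) ∧ Q v = 1) ∧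
            v ∈ Submodule.span F (Set.range w.1.1)})) ⟨?_, ?_⟩
    · intro c d hcd
      have h5 : ∑ i, c.1 i • w.1.1 i = ∑ i, d.1 i • w.1.1 i := congrArg Subtype.val hcd
      have h6 : ∑ i, (c.1 i - d.1 i) • w.1.1 i = 0 := by
        simp only [sub_smul, Finset.sum_sub_distrib]
        rw [h5, sub_self]
      apply Subtype.ext
      funext i
      exact sub_eq_zero.mp (Fintype.linearIndependent_iff.mp w.1.2.1 _ h6 i)
    · rintro ⟨v, ⟨_, hv2⟩, hv3⟩
      obtain ⟨c, rfl⟩ := (Submodule.mem_span_range_iff_exists_fun F).mp hv3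
      rw [hQc] at hv2
      exact ⟨⟨c, sq_eq_one_char_two _ hv2⟩, rfl⟩
  rw [h3, h4] at h1
  omega

/-- extensions of the empty norm-one frame -/
theorem card_QExt_one_zero (Q : QuadraticForm F V) (w : Fin 0 → V) :
    Nat.card (QExt Q 1 w) = Nat.card {v : V // Q v = 1} := by
  apply Nat.card_congr
  unfold QExt
  refine Equiv.subtypeEquivRight (fun v => ?_)
  constructor
  · intro h
    exact h.1.2
  · intro h
    refine ⟨⟨fun i => i.elim0, h⟩, ?_⟩
    intro hv
    have : Set.range w = ∅ := Set.range_eq_empty w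
    rw [this, Submodule.span_empty, Submodule.mem_bot] at hv
    rw [hv, QuadraticMap.map_zero] at h
    exact zero_ne_one h

/-- the number of singular frames -/
theorem card_QTIF_singular (Q : QuadraticForm F V) (hnd : (pol Q).Nondegenerate) (s : ℕ) :
    Nat.card (QTIF Q 0 (Fin s)) = ∏ i ∈ Finset.range s,
      (Nat.card {v : V // Q v = 0} + Fintype.card F ^ (finrank F V - 1 - i) -
        Fintype.card F ^ (finrank F V - 1) - Fintype.card F ^ i) := by
  induction s with
  | zero => rw [Finset.prod_range_zero, card_QTIF_zero]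
  | succ s ih =>
    rw [Finset.prod_range_succ, ← ih]
    apply card_QTIF_succ
    intro w
    have := card_QExt_singular Q hnd s w
    omega

/-- the number of norm-one frames -/
theorem card_QTIF_normone (Q : QuadraticForm F V) (hnd : (pol Q).Nondegenerate) (s : ℕ) :
    Nat.card (QTIF Q 1 (Fin (s + 1))) = Nat.card {v : V // Q v = 1} * ∏ i ∈ Finset.range s,
      (Fintype.card F ^ (finrank F V - i - 2) - Fintype.card F ^ i) := by
  induction s with
  | zero =>
    rw [Finset.prod_range_zero, mul_one, card_QTIF_succ Q 1 0 _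
      (fun w => card_QExt_one_zero Q w.1.1), card_QTIF_zero, one_mul]
  | succ s ih =>
    rw [Finset.prod_range_succ, ← mul_assoc, ← ih]
    apply card_QTIF_succ
    intro w
    have := card_QExt_one Q hnd s w
    have e : finrank F V - (s + 1) - 1 = finrank F V - s - 2 := by omega
    rw [e] at this
    omega

end Count

end Cfsg.Agent.Lib.helper14.So
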