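import Mathlib
import Cfsg.Agent.Lib.helper14.SpcE

set_option autoImplicit false

/-!
# The recursion for the orthogonal group of the dot product in characteristic two
-/

namespace Cfsg.Agent.Lib.helper14.Spc

open Module LinearMap Matrix Cfsg.Agent.Lib.helper14.SympInv

variable {F : Type*} [Field F] [CharP F 2]

section Grp

variable {ι : Type*} [Fintype ι] [DecidableEq ι]

/-- products of orthogonal matrices -/
def OGmul (g h : OG (1 : Matrix ι ι F)) : OG (1 : Matrix ι ι F) :=
  ⟨g.1 * h.1, by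
    have hg := g.2
    have hh := h.2
    rw [OG_one_iff] at hg hh ⊢
    rw [Matrix.transpose_mul, Matrix.mul_assoc, ← Matrix.mul_assoc h.1, hh, Matrix.one_mul, hg]⟩

/-- transposes of orthogonal matrices -/
def OGtr (g : OG (1 : Matrix ι ι F)) : OG (1 : Matrix ι ι F) :=
  ⟨g.1.transpose, by
    rw [OG_one_iff, Matrix.transpose_transpose]
    exact OG_one_transpose g⟩

theorem OGmul_val (g h : OG (1 : Matrix ι ι F)) : (OGmul g h).1 = g.1 * h.1 := rfl

theorem OGtr_val (g : OG (1 : Matrix ι ι F)) : (OGtr g).1 = g.1.transpose := rfl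

theorem OG_mul_tr (g : OG (1 : Matrix ι ι F)) : g.1 * g.1.transpose = 1 := by
  have hg := g.2
  rw [OG_one_iff] at hg
  exact hg

end Grp

section Rec

universe v

variable {κ : Type v} [Fintype κ] [DecidableEq κ]

/-- the fibre of the first-column map over a good vector is a coset of the stabiliser -/
theorem card_col0_fibre [Fintype F] (gx : OG (1 : Matrix (Unit ⊕ κ) (Unit ⊕ κ) F)) :
    Nat.card {g : OG (1 : Matrix (Unit ⊕ κ) (Unit ⊕ κ) F) //
      ∀ i, g.1 i (Sum.inl ()) = gx.1 i (Sum.inl ())} =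
    Nat.card {g : OG (1 : Matrix (Unit ⊕ κ) (Unit ⊕ κ) F) //
      ∀ i, g.1 i (Sum.inl ()) = if i = Sum.inl () then 1 else 0} := by
  classical
  apply Nat.card_congr
  refine
    { toFun := fun g => ⟨OGmul (OGtr gx) g.1, ?_⟩
      invFun := fun h => ⟨OGmul gx h.1, ?_⟩
      left_inv := ?_
      right_inv := ?_ }
  · intro i
    rw [OGmul_val, OGtr_val, Matrix.mul_apply]
    have h1 := congrFun (congrFun (OG_one_transpose gx) i) (Sum.inl ())
    rw [Matrix.mul_apply, Matrix.one_apply] at h1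
    rw [← h1]
    exact Finset.sum_congr rfl (fun k _ => by rw [g.2 k])
  · intro i
    rw [OGmul_val, Matrix.mul_apply]
    simp only [h.2, mul_ite, mul_one, mul_zero, Finset.sum_ite_eq', Finset.mem_univ, if_true]
  · intro g
    apply Subtype.ext
    apply Subtype.ext
    show gx.1 * (gx.1.transpose * g.1.1) = g.1.1
    rw [← Matrix.mul_assoc, OG_mul_tr, Matrix.one_mul]
  · intro h
    apply Subtype.ext
    apply Subtype.ext
    show gx.1.transpose * (gx.1 * h.1.1) = h.1.1
    rw [← Matrix.mul_assoc, OG_one_transpose, Matrix.one_mul]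

/-- the recursion -/
theorem card_OG_one_succ [Fintype F] [Nonempty κ] :
    Nat.card (OG (1 : Matrix (Unit ⊕ κ) (Unit ⊕ κ) F)) =
      Nat.card (Good κ F) * Nat.card (OG (1 : Matrix κ κ F)) := by
  classical
  set Φ : OG (1 : Matrix (Unit ⊕ κ) (Unit ⊕ κ) F) → Good κ F :=
    fun g => ⟨fun i => g.1 i (Sum.inl ()), col0_good g⟩ with hΦ
  haveI : Fintype (Good κ F) := Fintype.ofFinite _
  rw [Nat.card_congr (Equiv.sigmaFiberEquiv Φ).symm, Nat.card_sigma]
  have hfib : ∀ x : Good κ F,
      Nat.card {g : OG (1 : Matrix (Unit ⊕ κ) (Unit ⊕ κ) F) // Φ g = x} =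
        Nat.card (OG (1 : Matrix κ κ F)) := by
    intro x
    obtain ⟨gx, hgx⟩ := exists_OG_col0 x.1 x.2.1 x.2.2
    rw [← card_stab0, ← card_col0_fibre gx]
    apply Nat.card_congr
    refine Equiv.subtypeEquivRight (fun g => ?_)
    rw [hΦ]
    constructor
    · intro h i
      have := congrArg (fun z : Good κ F => z.1 i) h
      simp only at this
      rw [this, hgx]
    · intro h
      apply Subtype.ext
      funext i
      show g.1 i (Sum.inl ()) = x.1 i
      rw [h i, hgx]
  rw [Finset.sum_congr rfl (fun x _ => hfib x), Finset.sum_const, Finset.card_univ, smul_eq_mul,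
    ← Nat.card_eq_fintype_card]

end Rec

section Closed

variable [Fintype F]

theorem card_OG_one_zero : Nat.card (OG (1 : Matrix (Fin 0) (Fin 0) F)) = 1 := by
  rw [Nat.card_eq_one_iff_unique]
  refine ⟨⟨fun g h => Subtype.ext (Subsingleton.elim _ _)⟩, ⟨⟨1, Subsingleton.elim _ _⟩⟩⟩

theorem card_OG_one_one : Nat.card (OG (1 : Matrix (Fin 1) (Fin 1) F)) = 1 := by
  rw [Nat.card_eq_one_iff_unique]
  refine ⟨⟨fun g h => ?_⟩, ⟨⟨1, by simp⟩⟩⟩
  apply Subtype.ext
  ext i j
  have hi : i = 0 := Subsingleton.elim _ _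
  have hj : j = 0 := Subsingleton.elim _ _
  subst hi hj
  have h1 := OG_col_sum g 0
  have h2 := OG_col_sum h 0
  rw [Fin.sum_univ_one] at h1 h2
  rw [h1, h2]

theorem card_OG_one_fin_succ (s : ℕ) :
    Nat.card (OG (1 : Matrix (Fin (s + 2)) (Fin (s + 2)) F)) =
      (Fintype.card F ^ (s + 1) - (if Even (s + 1) then 1 else 0)) *
        Nat.card (OG (1 : Matrix (Fin (s + 1)) (Fin (s + 1)) F)) := by
  have e : Fin (s + 2) ≃ Unit ⊕ Fin (s + 1) :=
    (finSumFinEquiv (m := 1) (n := s + 1)).symm.trans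
      (Equiv.sumCongr (Equiv.equivPUnit (Fin 1)) (Equiv.refl _)) |>.trans (Equiv.refl _) |>
      (fun e' => (finCongr (by omega : s + 2 = 1 + (s + 1))).trans e')
  rw [card_OG_one_congr e, card_OG_one_succ, card_Good, Fintype.card_fin]

/-- closed form -/
theorem card_OG_one_closed (k : ℕ) :
    Nat.card (OG (1 : Matrix (Fin (2 * k + 1)) (Fin (2 * k + 1)) F)) =
      Fintype.card F ^ (k ^ 2) *
        ∏ i ∈ Finset.range k, (Fintype.card F ^ (2 * (i + 1)) - 1) ∧
    Nat.card (OG (1 : Matrix (Fin (2 * k + 2)) (Fin (2 * k + 2)) F)) =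
      Fintype.card F ^ (2 * k + 1) * (Fintype.card F ^ (k ^ 2) *
        ∏ i ∈ Finset.range k, (Fintype.card F ^ (2 * (i + 1)) - 1)) := by
  induction k with
  | zero =>
    refine ⟨?_, ?_⟩
    · simp only [Nat.mul_zero, Nat.zero_add, Finset.range_zero, Finset.prod_empty]
      rw [card_OG_one_one]
      simp
    · have h := card_OG_one_fin_succ (F := F) 0
      simp only [Nat.zero_add] at h
      simp only [Nat.mul_zero, Nat.zero_add, Finset.range_zero, Finset.prod_empty]
      rw [h, card_OG_one_one]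
      simp
  | succ k ih =>
    obtain ⟨ih1, ih2⟩ := ih
    have h3 : Nat.card (OG (1 : Matrix (Fin (2 * (k + 1) + 1)) (Fin (2 * (k + 1) + 1)) F)) =
        Fintype.card F ^ ((k + 1) ^ 2) *
          ∏ i ∈ Finset.range (k + 1), (Fintype.card F ^ (2 * (i + 1)) - 1) := by
      have h := card_OG_one_fin_succ (F := F) (2 * k + 1)
      have hev : Even (2 * k + 1 + 1) := ⟨k + 1, by ring⟩
      rw [if_pos hev] at h
      have e1 : 2 * (k + 1) + 1 = 2 * k + 1 + 2 := by ring
      rw [e1, h, ih2, Finset.prod_range_succ]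
      have e2 : 2 * k + 1 + 1 = 2 * (k + 1) := by ring
      rw [e2]
      have e3 : (k + 1) ^ 2 = 2 * k + 1 + k ^ 2 := by ring
      rw [e3, pow_add]
      ring
    refine ⟨h3, ?_⟩
    have h := card_OG_one_fin_succ (F := F) (2 * (k + 1))
    have hev : ¬ Even (2 * (k + 1) + 1) := by
      rw [Nat.not_even_iff_odd]
      exact ⟨k + 1, rfl⟩
    rw [if_neg hev, Nat.sub_zero] at h
    rw [h, h3]

end Closed

end Cfsg.Agent.Lib.helper14.Spc
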