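import Mathlib
import Cfsg.Agent.Lib.helper14.SpcF

set_option autoImplicit false

/-!
# Arithmetic of the orders used for the centraliser count
-/

namespace Cfsg.Agent.Lib.helper14.Spc

/-- the order of `Sp_{2k}(q)` -/
def spOrd (q k : ℕ) : ℕ := q ^ (k ^ 2) * ∏ i ∈ Finset.range k, (q ^ (2 * (i + 1)) - 1)

/-- the number of totally isotropic `s`-frames in a symplectic space of dimension `2m` -/
def tifOrd (q m s : ℕ) : ℕ := ∏ i ∈ Finset.range s, (q ^ (2 * m - i) - q ^ i)

theorem spOrd_zero (q : ℕ) : spOrd q 0 = 1 := by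
  simp [spOrd]

theorem spOrd_succ (q k : ℕ) :
    spOrd q (k + 1) = spOrd q k * q ^ (2 * k + 1) * (q ^ (2 * (k + 1)) - 1) := by
  unfold spOrd
  rw [Finset.prod_range_succ]
  have e : (k + 1) ^ 2 = k ^ 2 + (2 * k + 1) := by ring
  rw [e, pow_add]
  ring

theorem tifOrd_zero (q m : ℕ) : tifOrd q m 0 = 1 := by
  simp [tifOrd]

theorem tifOrd_succ (q m s : ℕ) (h : s ≤ m) :
    tifOrd q m (s + 1) = tifOrd q m s * (q ^ s * (q ^ (2 * (m - s)) - 1)) := by
  unfold tifOrd
  rw [Finset.prod_range_succ]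
  congr 1
  rw [Nat.mul_sub, mul_one, ← pow_add]
  congr 2
  omega

theorem tifOrd_eq_zero (q m s : ℕ) (h : m < s) : tifOrd q m s = 0 := by
  unfold tifOrd
  apply Finset.prod_eq_zero (Finset.mem_range.mpr h)
  have e : 2 * m - m = m := by omega
  rw [e, Nat.sub_self]

/-- the triangular number -/
def tri (s : ℕ) : ℕ := ∑ i ∈ Finset.range s, i

theorem tri_succ (s : ℕ) : tri (s + 1) = tri s + s := by
  unfold tri
  rw [Finset.sum_range_succ]

theorem tri_mul_two (s : ℕ) : tri s * 2 = s * (s - 1) := Finset.sum_range_id_mul_two s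

theorem tri_le (s : ℕ) : tri s ≤ s ^ 2 := by
  have h := tri_mul_two s
  have h2 : s * (s - 1) ≤ s * s := Nat.mul_le_mul_left s (Nat.sub_le s 1)
  nlinarith

/-- the key identity, in a form free of subtraction in the exponents -/
theorem spOrd_star (q m s : ℕ) (h : s ≤ m) :
    spOrd q m * q ^ (s ^ 2 + tri s) = q ^ (2 * m * s) * spOrd q (m - s) * tifOrd q m s := by
  induction s with
  | zero => simp [tri, tifOrd_zero]
  | succ s ih =>
    have hs : s ≤ m := by omega
    have ih' := ih hs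
    obtain ⟨k, hk⟩ : ∃ k, m - s = k + 1 := ⟨m - s - 1, by omega⟩
    have hk' : m - (s + 1) = k := by omega
    rw [hk'] at *
    rw [hk, spOrd_succ] at ih'
    rw [tifOrd_succ q m s hs, hk, tri_succ]
    have e1 : (s + 1) ^ 2 + (tri s + s) = (s ^ 2 + tri s) + (3 * s + 1) := by ring
    have e2 : 2 * m * (s + 1) = 2 * m * s + 2 * m := by ring
    rw [e1, pow_add q (s ^ 2 + tri s) (3 * s + 1), ← mul_assoc, ih', e2,
      pow_add q (2 * m * s) (2 * m)]
    have e3 : q ^ (2 * k + 1) * q ^ (3 * s + 1) = q ^ (2 * m) * q ^ s := by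
      rw [← pow_add, ← pow_add]
      congr 1
      omega
    calc q ^ (2 * m * s) * (spOrd q k * q ^ (2 * k + 1) * (q ^ (2 * (k + 1)) - 1)) * tifOrd q m s *
          q ^ (3 * s + 1)
        = q ^ (2 * m * s) * spOrd q k * (q ^ (2 * (k + 1)) - 1) * tifOrd q m s *
          (q ^ (2 * k + 1) * q ^ (3 * s + 1)) := by ring
      _ = q ^ (2 * m * s) * spOrd q k * (q ^ (2 * (k + 1)) - 1) * tifOrd q m s *
          (q ^ (2 * m) * q ^ s) := by rw [e3]
      _ = q ^ (2 * m * s) * q ^ (2 * m) * spOrd q k *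
          (tifOrd q m s * (q ^ s * (q ^ (2 * (k + 1)) - 1))) := by ring

/-- the exponent in the statements -/
theorem expo_eq (m s : ℕ) (h : s ≤ m) :
    (2 * m * s - (3 * s ^ 2 - s) / 2) + (s ^ 2 + tri s) = 2 * m * s := by
  have h1 := tri_mul_two s
  have h2 : 3 * s ^ 2 - s = 2 * (s ^ 2 + tri s) := by
    rcases s with _ | s
    · simp [tri]
    · have : (s + 1) * (s + 1 - 1) = (s + 1) * s := by simp
      rw [this] at h1
      have e : 3 * (s + 1) ^ 2 - (s + 1) = 3 * s ^ 2 + 5 * s + 2 := by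
        have : 3 * (s + 1) ^ 2 = 3 * s ^ 2 + 5 * s + 2 + (s + 1) := by ring
        omega
      rw [e]
      nlinarith
  rw [h2, Nat.mul_div_cancel_left _ (by norm_num : 0 < 2)]
  have h3 := tri_le s
  have h4 : s ^ 2 ≤ m * s := by
    rw [pow_two]
    exact Nat.mul_le_mul_right s h
  have h5 : s ^ 2 + tri s ≤ 2 * m * s := by nlinarith
  omega

theorem le_of_tifOrd_pos (q m s : ℕ) (hT : 0 < tifOrd q m s) : s ≤ m := by
  by_contra hcon
  push Not at hcon
  rw [tifOrd_eq_zero q m s hcon] at hT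
  exact lt_irrefl 0 hT

/-- the exponent for the type `c_s` -/
theorem expo_c (m s : ℕ) (h : s ≤ m) (hs : Even s) (hs2 : 2 ≤ s) :
    (2 * m * s - (3 * s ^ 2 - s) / 2) + (s - 1) = 2 * m * s - (3 * s ^ 2 - 3 * s) / 2 - 1 := by
  obtain ⟨j, rfl⟩ := hs
  have e1 : (j + j) ^ 2 = 4 * (j * j) := by ring
  have e2 : 2 * m * (j + j) = 4 * (m * j) := by ring
  have h1 : 2 * (j * j) ≤ m * j := by
    have : (j + j) * j ≤ m * j := Nat.mul_le_mul_right j h
    calc 2 * (j * j) = (j + j) * j := by ring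
      _ ≤ m * j := this
  have h2 : j ≤ j * j := by
    rcases j with _ | j
    · simp
    · exact Nat.le_mul_of_pos_left _ (Nat.succ_pos j)
  rw [e1, e2]
  omega

/-- cancellation to obtain the centraliser order -/
theorem cent_cancel (q m s C O : ℕ) (hq : 0 < q) (hT : 0 < tifOrd q m s)
    (h : C * tifOrd q m s = spOrd q m * O) :
    C = q ^ (2 * m * s - (3 * s ^ 2 - s) / 2) * O * spOrd q (m - s) := by
  have hsm : s ≤ m := by
    by_contra hcon
    push Not at hcon
    rw [tifOrd_eq_zero q m s hcon] at hT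
    exact lt_irrefl 0 hT
  have hstar := spOrd_star q m s hsm
  have hexp := expo_eq m s hsm
  have hpow : 0 < q ^ (s ^ 2 + tri s) := pow_pos hq _
  apply Nat.eq_of_mul_eq_mul_right (Nat.mul_pos hT hpow)
  calc C * (tifOrd q m s * q ^ (s ^ 2 + tri s))
      = (C * tifOrd q m s) * q ^ (s ^ 2 + tri s) := by ring
    _ = (spOrd q m * q ^ (s ^ 2 + tri s)) * O := by rw [h]; ring
    _ = q ^ (2 * m * s) * spOrd q (m - s) * tifOrd q m s * O := by rw [hstar]
    _ = q ^ ((2 * m * s - (3 * s ^ 2 - s) / 2) + (s ^ 2 + tri s)) * spOrd q (m - s) *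
          tifOrd q m s * O := by rw [hexp]
    _ = q ^ (2 * m * s - (3 * s ^ 2 - s) / 2) * O * spOrd q (m - s) *
          (tifOrd q m s * q ^ (s ^ 2 + tri s)) := by rw [pow_add]; ring

end Cfsg.Agent.Lib.helper14.Spc
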