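import Mathlib
import Cfsg.Agent.Lib.helper14.SpcG
import Cfsg.Agent.S2166
import Cfsg.Agent.S0245

set_option autoImplicit false

/-!
# Centraliser orders of involutions of `Sp_{2m}(q)`, `q` even
-/

namespace Cfsg.Agent.Lib.helper14.Spc

open Module LinearMap Matrix Cfsg.Agent.Lib.helper14.SympInv Cfsg.Agent.Lib.helper6
  Cfsg.Agent.Lib.helper6.SB Cfsg.Agent.S2166

section Grp

/-- orbit-stabiliser for conjugation -/
theorem card_centralizer_mul_card_conj {G : Type*} [Group G] [Finite G] (t : G) :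
    Nat.card (Subgroup.centralizer ({t} : Set G)) * Nat.card {x : G // IsConj x t} =
      Nat.card G := by
  classical
  have e := MulAction.orbitProdStabilizerEquivGroup (ConjAct G) t
  have h1 : Nat.card (MulAction.orbit (ConjAct G) t) = Nat.card {x : G // IsConj x t} := by
    apply Nat.card_congr
    refine Equiv.subtypeEquivRight (fun x => ?_)
    exact ConjAct.mem_orbit_conjAct
  have h2 : Nat.card (MulAction.stabilizer (ConjAct G) t) =
      Nat.card (Subgroup.centralizer ({t} : Set G)) := by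
    apply Nat.card_congr
    refine
      { toFun := fun x => ⟨ConjAct.ofConjAct x.1, ?_⟩
        invFun := fun x => ⟨ConjAct.toConjAct x.1, ?_⟩
        left_inv := fun x => rfl
        right_inv := fun x => rfl }
    · have hx := x.2
      rw [MulAction.mem_stabilizer_iff, ConjAct.smul_def] at hx
      rw [Subgroup.mem_centralizer_singleton_iff]
      exact (mul_inv_eq_iff_eq_mul.mp hx)
    · have hx := x.2
      rw [Subgroup.mem_centralizer_singleton_iff] at hx
      rw [MulAction.mem_stabilizer_iff, ConjAct.smul_def, ConjAct.ofConjAct_toConjAct]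
      exact mul_inv_eq_iff_eq_mul.mpr hx
  have h3 := Nat.card_congr e
  rw [Nat.card_prod, h1, h2] at h3
  have h4 : Nat.card (ConjAct G) = Nat.card G := Nat.card_congr ConjAct.ofConjAct.toEquiv
  rw [mul_comm, h3, h4]

end Grp

section Even

universe u

variable {F : Type*} [Field F] [CharP F 2] {V : Type u} [AddCommGroup V] [Module F V]
  [FiniteDimensional F V]

/-- an alternating involution part has even rank -/
theorem even_rank_of_alt (ω : LinearMap.BilinForm F V) (hA : ω.IsAlt) (hnd : ω.Nondegenerate)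
    {N : V →ₗ[F] V} (hN : IsInvPart ω N) (halt : ∀ v, ω v (N v) = 0) :
    Even (finrank F (LinearMap.range N)) := by
  obtain ⟨U₀, hs, hn, hd, ht, hc⟩ := complement_data hA hnd hN
  have hAβ : ((ω.compRight N).restrict U₀).IsAlt := ht.mp halt
  obtain ⟨m', b, hd', h1, h2, h3⟩ := alt_std_basis ((ω.compRight N).restrict U₀) hAβ hn
  rw [← hd, hd']
  exact even_two_mul m'

end Even

section Mat

variable {F : Type*} [Field F] [Fintype F] [CharP F 2] {m : ℕ}

local notation "VV" => (Fin m ⊕ Fin m → F)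
local notation "MM" => Matrix (Fin m ⊕ Fin m) (Fin m ⊕ Fin m) F

theorem coe_sq' (a : ↥(Matrix.symplecticGroup (Fin m) F)) (ha : a ^ 2 = 1) :
    (a : MM) * (a : MM) = 1 := by
  rw [pow_two] at ha
  have := congrArg (fun x : ↥(Matrix.symplecticGroup (Fin m) F) => (x : MM)) ha
  simpa using this

theorem rank_eq_finrank (A : MM) :
    finrank F (LinearMap.range (Matrix.mulVecLin (A - 1))) = (A - 1).rank := rfl

/-- invariants of conjugate elements -/
theorem conj_invariants (a b : ↥(Matrix.symplecticGroup (Fin m) F)) (h : IsConj a b) :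
    (a ^ 2 = 1 → b ^ 2 = 1) ∧ ((a : MM) - 1).rank = ((b : MM) - 1).rank ∧
      ((∀ v : VV, Cfsg.sympForm m F v ((a : MM) *ᵥ v) = 0) →
        (∀ v : VV, Cfsg.sympForm m F v ((b : MM) *ᵥ v) = 0)) := by
  obtain ⟨c, hc⟩ := isConj_iff.mp h
  have hcm : (c : MM) * (a : MM) = (b : MM) * (c : MM) := by
    have h := mul_inv_eq_iff_eq_mul.mp hc
    have := congrArg (fun x : ↥(Matrix.symplecticGroup (Fin m) F) => (x : MM)) h
    simpa using this
  have hcinv : (c : MM) * ((c⁻¹ : ↥(Matrix.symplecticGroup (Fin m) F)) : MM) = 1 := by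
    have h : c * c⁻¹ = 1 := mul_inv_cancel c
    exact congrArg Subtype.val h
  have hdet : IsUnit (c : MM).det := by
    have := congrArg Matrix.det hcinv
    rw [Matrix.det_mul, Matrix.det_one] at this
    exact IsUnit.of_mul_eq_one _ this
  have hciso := (mem_symplecticGroup_iff_sympForm m _).mp c.2
  have hcm1 : (c : MM) * ((a : MM) - 1) = ((b : MM) - 1) * (c : MM) := by
    rw [mul_sub, sub_mul, mul_one, one_mul, hcm]
  refine ⟨?_, ?_, ?_⟩
  · intro ha
    rw [← hc, conj_pow, ha, mul_one, mul_inv_cancel]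
  · have h1 := Matrix.rank_mul_eq_right_of_isUnit_det (c : MM) ((a : MM) - 1) hdet
    have h2 := Matrix.rank_mul_eq_left_of_isUnit_det (c : MM) ((b : MM) - 1) hdet
    rw [← h1, hcm1, h2]
  · intro ha v
    have hv : v = (c : MM) *ᵥ (((c⁻¹ : ↥(Matrix.symplecticGroup (Fin m) F)) : MM) *ᵥ v) := by
      rw [Matrix.mulVec_mulVec, hcinv, Matrix.one_mulVec]
    rw [hv, Matrix.mulVec_mulVec (_ : VV) (b : MM) (c : MM), ← hcm, ← Matrix.mulVec_mulVec, hciso]
    exact ha _

/-- the conjugacy class of an involution is in bijection with the involution parts of the same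
rank and type -/
theorem card_conj_eq_card_NN (t : ↥(Matrix.symplecticGroup (Fin m) F)) (ht : t ^ 2 = 1) :
    Nat.card {x : ↥(Matrix.symplecticGroup (Fin m) F) // IsConj x t} =
      Nat.card (NN (sB m F) ((t : MM) - 1).rank
        (∀ v : VV, Cfsg.sympForm m F v ((t : MM) *ᵥ v) = 0)) := by
  classical
  have hx2 : ∀ x : ↥(Matrix.symplecticGroup (Fin m) F), IsConj x t → x ^ 2 = 1 := fun x hx =>
    (conj_invariants t x hx.symm).1 ht
  refine Nat.card_eq_of_bijective
    (fun x => (⟨Matrix.mulVecLin ((x.1 : MM) - 1),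
      isInvPart (x.1 : MM) x.1.2 (coe_sq' x.1 (hx2 x.1 x.2)), by
        rw [rank_eq_finrank]
        exact (conj_invariants x.1 t x.2).2.1, by
        simp only [type_link]
        exact ⟨(conj_invariants x.1 t x.2).2.2, (conj_invariants t x.1 x.2.symm).2.2⟩⟩ :
      NN (sB m F) ((t : MM) - 1).rank (∀ v : VV, Cfsg.sympForm m F v ((t : MM) *ᵥ v) = 0)))
    ⟨?_, ?_⟩
  · intro x y hxy
    have h1 : Matrix.mulVecLin ((x.1 : MM) - 1) = Matrix.mulVecLin ((y.1 : MM) - 1) :=
      congrArg Subtype.val hxy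
    have h2 : (x.1 : MM) - 1 = (y.1 : MM) - 1 :=
      Matrix.toLin'.injective (by rw [Matrix.toLin'_apply', Matrix.toLin'_apply']; exact h1)
    apply Subtype.ext
    apply Subtype.ext
    exact sub_left_injective h2
  · rintro ⟨N, hN, hrank, htype⟩
    set A : MM := 1 + LinearMap.toMatrix' N with hA
    have hAv : ∀ v : VV, A *ᵥ v = v + N v := by
      intro v
      rw [hA, Matrix.add_mulVec, Matrix.one_mulVec, LinearMap.toMatrix'_mulVec]
    have hAmem : A ∈ Matrix.symplecticGroup (Fin m) F := by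
      rw [mem_symplecticGroup_iff_sympForm]
      intro u v
      rw [hAv, hAv, ← sB_apply, ← sB_apply]
      have hsa := hN.sa u v
      have h0 : sB m F (N u) (N v) = 0 := by rw [hN.sa u (N v), hN.sq, map_zero]
      simp only [map_add, LinearMap.add_apply]
      linear_combination hsa + h0 + (sB m F u (N v)) * (CharTwo.two_eq_zero : (2 : F) = 0)
    have hA1 : A - 1 = LinearMap.toMatrix' N := by rw [hA]; abel
    have hlin : Matrix.mulVecLin (A - 1) = N := by
      rw [hA1]
      apply LinearMap.ext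
      intro v
      rw [Matrix.mulVecLin_apply, LinearMap.toMatrix'_mulVec]
    have hA2 : A * A = 1 := by
      apply Matrix.toLin'.injective
      apply LinearMap.ext
      intro v
      have hvv : N v + N v = 0 := by rw [← two_smul F, CharTwo.two_eq_zero, zero_smul]
      rw [Matrix.toLin'_apply, ← Matrix.mulVec_mulVec, hAv, hAv, map_add, hN.sq, add_zero,
        add_assoc, hvv, add_zero, Matrix.toLin'_one, LinearMap.id_apply]
    have hAg2 : (⟨A, hAmem⟩ : ↥(Matrix.symplecticGroup (Fin m) F)) ^ 2 = 1 := by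
      rw [pow_two]
      apply Subtype.ext
      exact hA2
    have hconj : IsConj (⟨A, hAmem⟩ : ↥(Matrix.symplecticGroup (Fin m) F)) t := by
      apply conj_of_invariants _ _ hA2 (coe_sq' t ht)
      · show (A - 1).rank = _
        rw [← rank_eq_finrank, hlin, hrank]
      · show (∀ v : VV, Cfsg.sympForm m F v (A *ᵥ v) = 0) ↔ _
        simp only [← type_link, hlin]
        simp only [type_link]
        exact htype
    refine ⟨⟨⟨A, hAmem⟩, hconj⟩, ?_⟩
    apply Subtype.ext
    exact hlin

theorem finrank_VV : finrank F VV = 2 * m := by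
  rw [Module.finrank_fintype_fun_eq_card, Fintype.card_sum, Fintype.card_fin, two_mul]

theorem card_TIF_VV {ι : Type*} [Fintype ι] :
    Nat.card (TIF (sB m F) ι) = tifOrd (Fintype.card F) m (Fintype.card ι) := by
  rw [card_TIF (sB m F) sB_isAlt sB_nondeg, finrank_VV]
  rfl

theorem card_Sp_eq_spOrd (k : ℕ) :
    Nat.card (Matrix.symplecticGroup (Fin k) F) = spOrd (Fintype.card F) k :=
  Cfsg.Agent.S0245.result rfl k

/-- a non-alternating involution has positive rank -/
theorem rank_pos_of_na (t : ↥(Matrix.symplecticGroup (Fin m) F))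
    (hna : ¬ ∀ v : VV, Cfsg.sympForm m F v ((t : MM) *ᵥ v) = 0) : 1 ≤ ((t : MM) - 1).rank := by
  by_contra h
  have h0 : ((t : MM) - 1).rank = 0 := by omega
  rw [← rank_eq_finrank, Submodule.finrank_eq_zero, LinearMap.range_eq_bot] at h0
  apply hna
  intro v
  rw [← type_link, h0, LinearMap.zero_apply, map_zero]

/-- the centraliser order, non-alternating type -/
theorem card_centralizer_na (t : ↥(Matrix.symplecticGroup (Fin m) F)) (ht : t ^ 2 = 1) (s : ℕ)
    (hs : ((t : MM) - 1).rank = s)
    (hna : ¬ ∀ v : VV, Cfsg.sympForm m F v ((t : MM) *ᵥ v) = 0) :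
    s ≤ m ∧ Nat.card (Subgroup.centralizer ({t} : Set ↥(Matrix.symplecticGroup (Fin m) F))) =
      Fintype.card F ^ (2 * m * s - (3 * s ^ 2 - s) / 2) *
        Nat.card (OG (1 : Matrix (Fin s) (Fin s) F)) * spOrd (Fintype.card F) (m - s) := by
  have hs1 : 1 ≤ s := by rw [← hs]; exact rank_pos_of_na t hna
  have h1 := card_centralizer_mul_card_conj t
  rw [card_conj_eq_card_NN t ht, hs, card_Sp_eq_spOrd] at h1
  have h2 := card_TIF_one (sB m F) sB_isAlt sB_nondeg s hs1
  rw [card_TIF_VV, Fintype.card_fin] at h2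
  have hNN : Nat.card (NN (sB m F) s (∀ v : VV, Cfsg.sympForm m F v ((t : MM) *ᵥ v) = 0)) =
      Nat.card (NN (sB m F) s False) := by
    apply Nat.card_congr
    unfold NN
    refine Equiv.subtypeEquivRight (fun N => ?_)
    simp only [hna]
  rw [hNN] at h1
  have hq : 0 < Fintype.card F := Fintype.card_pos
  have hOG : 0 < Nat.card (OG (1 : Matrix (Fin s) (Fin s) F)) := by
    apply Nat.card_pos_iff.mpr
    exact ⟨⟨⟨1, by simp⟩⟩, inferInstance⟩
  have hNNpos : 0 < Nat.card (NN (sB m F) s False) := by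
    by_contra hcon
    have h0 : Nat.card (NN (sB m F) s False) = 0 := by omega
    rw [h0, mul_zero] at h1
    rw [← card_Sp_eq_spOrd (F := F) m] at h1
    have : 0 < Nat.card (Matrix.symplecticGroup (Fin m) F) := Nat.card_pos
    omega
  have hT : 0 < tifOrd (Fintype.card F) m s := by
    rw [h2]
    exact Nat.mul_pos hNNpos hOG
  refine ⟨le_of_tifOrd_pos _ m s hT, ?_⟩
  apply cent_cancel _ m s _ _ hq hT
  rw [h2, ← mul_assoc, h1]

/-- the centraliser order, alternating type -/
theorem card_centralizer_alt (t : ↥(Matrix.symplecticGroup (Fin m) F)) (ht : t ^ 2 = 1) (k : ℕ)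
    (hs : ((t : MM) - 1).rank = 2 * k)
    (halt : ∀ v : VV, Cfsg.sympForm m F v ((t : MM) *ᵥ v) = 0) :
    Nat.card (Subgroup.centralizer ({t} : Set ↥(Matrix.symplecticGroup (Fin m) F))) =
      Fintype.card F ^ (2 * m * (2 * k) - (3 * (2 * k) ^ 2 - 2 * k) / 2) *
        spOrd (Fintype.card F) k * spOrd (Fintype.card F) (m - 2 * k) := by
  have h1 := card_centralizer_mul_card_conj t
  rw [card_conj_eq_card_NN t ht, hs, card_Sp_eq_spOrd] at h1
  have h2 := card_TIF_alt (sB m F) sB_isAlt sB_nondeg k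
  rw [card_TIF_VV, Fintype.card_sum, Fintype.card_fin, card_OG_JJ, card_Sp_eq_spOrd,
    ← two_mul] at h2
  have hNN : Nat.card (NN (sB m F) (2 * k)
      (∀ v : VV, Cfsg.sympForm m F v ((t : MM) *ᵥ v) = 0)) =
      Nat.card (NN (sB m F) (2 * k) True) := by
    apply Nat.card_congr
    unfold NN
    refine Equiv.subtypeEquivRight (fun N => ?_)
    simp only [halt, implies_true]
  rw [hNN] at h1
  have hq : 0 < Fintype.card F := Fintype.card_pos
  have hOG : 0 < spOrd (Fintype.card F) k := by
    rw [← card_Sp_eq_spOrd]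
    exact Nat.card_pos
  have hNNpos : 0 < Nat.card (NN (sB m F) (2 * k) True) := by
    by_contra hcon
    have h0 : Nat.card (NN (sB m F) (2 * k) True) = 0 := by omega
    rw [h0, mul_zero] at h1
    rw [← card_Sp_eq_spOrd (F := F) m] at h1
    have : 0 < Nat.card (Matrix.symplecticGroup (Fin m) F) := Nat.card_pos
    omega
  apply cent_cancel _ m (2 * k) _ _ hq
  · rw [h2]
    exact Nat.mul_pos hNNpos hOG
  · rw [h2, ← mul_assoc, h1]

/-- odd rank forces non-alternating type -/
theorem not_alt_of_odd (t : ↥(Matrix.symplecticGroup (Fin m) F)) (ht : t ^ 2 = 1)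
    (hodd : Odd ((t : MM) - 1).rank) :
    ¬ ∀ v : VV, Cfsg.sympForm m F v ((t : MM) *ᵥ v) = 0 := by
  intro halt
  have h := even_rank_of_alt (sB m F) sB_isAlt sB_nondeg
    (isInvPart (t : MM) t.2 (coe_sq' t ht)) (by simp only [type_link]; exact halt)
  rw [rank_eq_finrank] at h
  exact (Nat.not_even_iff_odd.mpr hodd) h

end Mat

end Cfsg.Agent.Lib.helper14.Spc
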