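import Mathlib
import Cfsg.Agent.Lib.helper14.SoD
import Cfsg.Agent.Lib.helper14.SpcH
import Cfsg.Agent.Lib.helper6.WittQuad

set_option autoImplicit false

/-!
# Transitivity of the orthogonal group on orthogonal involution parts of given rank and type
-/

namespace Cfsg.Agent.Lib.helper14.So

open Module LinearMap Cfsg.Agent.Lib.helper14.SympInv Cfsg.Agent.Lib.helper14.Spc

universe u

variable {F : Type*} [Field F] [CharP F 2] {V : Type u} [AddCommGroup V] [Module F V]

omit [CharP F 2] in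
/-- an isometry of `Q` preserves the polar form -/
theorem pol_of_isometry (Q : QuadraticForm F V) (g : V ≃ₗ[F] V) (hg : ∀ v, Q (g v) = Q v)
    (u v : V) : pol Q (g u) (g v) = pol Q u v := by
  rw [pol_apply, pol_apply, QuadraticMap.polar, QuadraticMap.polar, ← map_add, hg, hg, hg]

/-- Witt: two frames with the same norms are conjugate under an isometry -/
theorem exists_isometry_frames [Finite F] [FiniteDimensional F V] (Q : QuadraticForm F V)
    (hnd : (pol Q).Nondegenerate) {ι : Type*} [Fintype ι] [DecidableEq ι] (w w' : ι → V)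
    (hli : LinearIndependent F w) (hli' : LinearIndependent F w')
    (hti : ∀ i j, pol Q (w i) (w j) = 0) (hti' : ∀ i j, pol Q (w' i) (w' j) = 0)
    (hQ : ∀ i, Q (w i) = Q (w' i)) :
    ∃ g : V ≃ₗ[F] V, (∀ v, Q (g v) = Q v) ∧ ∀ i, g (w i) = w' i := by
  set b := Basis.span hli with hb
  set b' := Basis.span hli' with hb'
  have hbi : ∀ i, ((b i : Submodule.span F (Set.range w)) : V) = w i := fun i =>
    congrArg Subtype.val (Basis.span_apply hli i)
  have hbi' : ∀ i, ((b' i : Submodule.span F (Set.range w')) : V) = w' i := fun i =>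
    congrArg Subtype.val (Basis.span_apply hli' i)
  set φ := b.equiv b' (Equiv.refl ι) with hφ
  have hφx : ∀ x : Submodule.span F (Set.range w), Q (φ x : V) = Q (x : V) := by
    intro x
    have h1 : ((φ x : Submodule.span F (Set.range w')) : V) = ∑ i, b.repr x i • w' i := by
      conv_lhs => rw [← b.sum_repr x]
      rw [map_sum]
      simp only [map_smul, hφ, Basis.equiv_apply, Equiv.refl_apply, Submodule.coe_sum,
        Submodule.coe_smul, hbi']
    have h2 : (x : V) = ∑ i, b.repr x i • w i := by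
      conv_lhs => rw [← b.sum_repr x]
      simp only [Submodule.coe_sum, Submodule.coe_smul, hbi]
    rw [h1, h2, Q_sum_ti Q Finset.univ w hti, Q_sum_ti Q Finset.univ w' hti']
    exact Finset.sum_congr rfl (fun i _ => by rw [hQ i])
  obtain ⟨g, hg1, hg2⟩ := Cfsg.Agent.Lib.helper6.Witt.witt_quad Q hnd _ _ φ hφx
  refine ⟨g, hg1, fun i => ?_⟩
  have h3 := hg2 (b i)
  rw [hbi, hφ, Basis.equiv_apply, Equiv.refl_apply, hbi'] at h3
  exact h3

omit [CharP F 2] in
/-- an isometry carrying a frame to a frame intertwines the attached endomorphisms -/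
theorem Nmap_intertwine (Q : QuadraticForm F V) {ι : Type*} [Fintype ι] [DecidableEq ι]
    (w w' : ι → V) (B : Matrix ι ι F) (g : V ≃ₗ[F] V) (hg : ∀ v, Q (g v) = Q v)
    (hgw : ∀ i, g (w i) = w' i) (v : V) :
    g (Nmap (pol Q) w B v) = Nmap (pol Q) w' B (g v) := by
  rw [Nmap_apply, Nmap_apply, map_sum]
  refine Finset.sum_congr rfl (fun i _ => ?_)
  rw [map_smul, hgw]
  congr 1
  refine Finset.sum_congr rfl (fun j _ => ?_)
  rw [← hgw j, pol_of_isometry Q g hg]

/-- transitivity on orthogonal involution parts -/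
theorem exists_isometry_QNN [Fintype F] [Finite V] (Q : QuadraticForm F V)
    (hnd : (pol Q).Nondegenerate) (s : ℕ) (alt : Prop) (N N' : QNN Q s alt) :
    ∃ g : V ≃ₗ[F] V, (∀ v, Q (g v) = Q v) ∧ ∀ v, g (N.1.1 v) = N'.1.1 (g v) := by
  have : FiniteDimensional F V := Module.Finite.of_finite
  have hsq : ∀ x : F, IsSquare x := fun x =>
    FiniteField.isSquare_of_char_two (ringChar.eq F 2) x
  have hA := pol_isAlt Q
  obtain ⟨⟨N, hN, hr, ht⟩, hq⟩ := N
  obtain ⟨⟨N', hN', hr', ht'⟩, hq'⟩ := N'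
  by_cases halt : alt
  · -- alternating type
    have ha : ∀ v, pol Q v (N v) = 0 := ht.mpr halt
    have ha' : ∀ v, pol Q v (N' v) = 0 := ht'.mpr halt
    obtain ⟨k, hk⟩ := even_rank_of_alt (pol Q) hA hnd hN ha
    have hs : s = 2 * k := by rw [← hr, hk]; ring
    subst hs
    obtain ⟨w, hw⟩ := exists_frame_alt (pol Q) hA hnd k
      ⟨N, hN, hr, ⟨fun _ => trivial, fun _ => ha⟩⟩
    obtain ⟨w', hw'⟩ := exists_frame_alt (pol Q) hA hnd k
      ⟨N', hN', hr', ⟨fun _ => trivial, fun _ => ha'⟩⟩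
    simp only at hw hw'
    have h0 : ∀ i, Q (w.1 i) = 0 :=
      singular_of_isQN Q hnd k w.1 w.2.1 w.2.2 (by rw [hw]; exact hq)
    have h0' : ∀ i, Q (w'.1 i) = 0 :=
      singular_of_isQN Q hnd k w'.1 w'.2.1 w'.2.2 (by rw [hw']; exact hq')
    obtain ⟨g, hg1, hg2⟩ := exists_isometry_frames Q hnd w.1 w'.1 w.2.1 w'.2.1 w.2.2 w'.2.2
      (fun i => by rw [h0, h0'])
    refine ⟨g, hg1, fun v => ?_⟩
    show g (N v) = N' (g v)
    rw [← hw, ← hw']
    exact Nmap_intertwine Q w.1 w'.1 (JJ k F) g hg1 hg2 v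
  · -- non-alternating type
    have ha : ¬ ∀ v, pol Q v (N v) = 0 := fun h => halt (ht.mp h)
    have ha' : ¬ ∀ v, pol Q v (N' v) = 0 := fun h => halt (ht'.mp h)
    obtain ⟨w, hw⟩ := exists_frame_one hsq (pol Q) hA hnd s
      ⟨N, hN, hr, ⟨fun h => ha h, fun h => h.elim⟩⟩
    obtain ⟨w', hw'⟩ := exists_frame_one hsq (pol Q) hA hnd s
      ⟨N', hN', hr', ⟨fun h => ha' h, fun h => h.elim⟩⟩
    simp only at hw hw'
    have h0 : ∀ i, Q (w.1 i) = 1 :=
      norm_one_of_isQN Q hnd w.1 w.2.1 w.2.2 (by rw [hw]; exact hq)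
    have h0' : ∀ i, Q (w'.1 i) = 1 :=
      norm_one_of_isQN Q hnd w'.1 w'.2.1 w'.2.2 (by rw [hw']; exact hq')
    obtain ⟨g, hg1, hg2⟩ := exists_isometry_frames Q hnd w.1 w'.1 w.2.1 w'.2.1 w.2.2 w'.2.2
      (fun i => by rw [h0, h0'])
    refine ⟨g, hg1, fun v => ?_⟩
    show g (N v) = N' (g v)
    rw [← hw, ← hw']
    exact Nmap_intertwine Q w.1 w'.1 1 g hg1 hg2 v

end Cfsg.Agent.Lib.helper14.So
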