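import Mathlib
import Cfsg.Agent.Lib.helper14.SoE
import Cfsg.Agent.Lib.Lead.DicksonRank

set_option autoImplicit false

/-!
# Involutions of the orthogonal group in characteristic two: classes and centralisers
-/

namespace Cfsg.Agent.Lib.helper14.So

open Module LinearMap Matrix Cfsg.Agent.Lib.helper14.SympInv Cfsg.Agent.Lib.helper14.Spc
  Cfsg.Agent.Lib.Helper16 Cfsg.Agent.Lib.Lead.DK

variable {ι : Type} [Fintype ι] [DecidableEq ι] {F : Type*} [Field F]

/-- the matrix of an isometry -/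
def mat (Q : (ι → F) → F) (g : ↥(Cfsg.isometryGroup F Q)) : Matrix ι ι F :=
  ((g : Matrix.GeneralLinearGroup ι F) : Matrix ι ι F)

theorem mat_mul (Q : (ι → F) → F) (g h : ↥(Cfsg.isometryGroup F Q)) :
    mat Q (g * h) = mat Q g * mat Q h := rfl

theorem mat_one (Q : (ι → F) → F) : mat Q 1 = 1 := rfl

theorem mat_inj (Q : (ι → F) → F) (g h : ↥(Cfsg.isometryGroup F Q)) (hgh : mat Q g = mat Q h) :
    g = h := iso_ext' Q g h hgh

theorem mat_mul_inv (Q : (ι → F) → F) (g : ↥(Cfsg.isometryGroup F Q)) :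
    mat Q g * mat Q g⁻¹ = 1 := by
  rw [← mat_mul, mul_inv_cancel, mat_one]

theorem mat_inv_mul (Q : (ι → F) → F) (g : ↥(Cfsg.isometryGroup F Q)) :
    mat Q g⁻¹ * mat Q g = 1 := by
  rw [← mat_mul, inv_mul_cancel, mat_one]

theorem mat_det (Q : (ι → F) → F) (g : ↥(Cfsg.isometryGroup F Q)) : IsUnit (mat Q g).det := by
  have := congrArg Matrix.det (mat_mul_inv Q g)
  rw [Matrix.det_mul, Matrix.det_one] at this
  exact IsUnit.of_mul_eq_one _ this

theorem mat_pres (Q : QuadraticForm F (ι → F)) (g : ↥(Cfsg.isometryGroup F ⇑Q)) (v : ι → F) :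
    Q (mat (⇑Q) g *ᵥ v) = Q v := iso_pres (⇑Q) g v

theorem mat_pol (Q : QuadraticForm F (ι → F)) (g : ↥(Cfsg.isometryGroup F ⇑Q)) (u v : ι → F) :
    pol Q (mat (⇑Q) g *ᵥ u) (mat (⇑Q) g *ᵥ v) = pol Q u v := by
  rw [pol_apply, pol_apply, QuadraticMap.polar, QuadraticMap.polar, ← Matrix.mulVec_add,
    mat_pres, mat_pres, mat_pres]

theorem mat_sq (Q : (ι → F) → F) (x : ↥(Cfsg.isometryGroup F Q)) (hx : x ^ 2 = 1) :
    mat Q x * mat Q x = 1 := by
  rw [← mat_mul, ← pow_two, hx, mat_one]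

/-- the nilpotent part `x - 1` of an involution -/
def Npart (Q : (ι → F) → F) (x : ↥(Cfsg.isometryGroup F Q)) : (ι → F) →ₗ[F] (ι → F) :=
  Matrix.mulVecLin (mat Q x - 1)

theorem Npart_apply (Q : (ι → F) → F) (x : ↥(Cfsg.isometryGroup F Q)) (v : ι → F) :
    Npart Q x v = mat Q x *ᵥ v - v := by
  rw [Npart, Matrix.mulVecLin_apply, Matrix.sub_mulVec, Matrix.one_mulVec]

theorem mat_apply_eq (Q : (ι → F) → F) (x : ↥(Cfsg.isometryGroup F Q)) (v : ι → F) :
    mat Q x *ᵥ v = v + Npart Q x v := by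
  rw [Npart_apply]
  abel

theorem Npart_rank (Q : (ι → F) → F) (x : ↥(Cfsg.isometryGroup F Q)) :
    finrank F (LinearMap.range (Npart Q x)) = (mat Q x - 1).rank := rfl

theorem Npart_inj (Q : (ι → F) → F) (x y : ↥(Cfsg.isometryGroup F Q))
    (h : Npart Q x = Npart Q y) : x = y := by
  apply mat_inj
  have h2 : mat Q x - 1 = mat Q y - 1 :=
    Matrix.toLin'.injective (by rw [Matrix.toLin'_apply', Matrix.toLin'_apply']; exact h)
  exact sub_left_injective h2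

section CharTwo

variable [CharP F 2]

theorem add_eq_zero_char_two {a b : F} (h : a + b = 0) : a = b := by
  calc a = a + b + b := by rw [add_assoc, CharTwo.add_self_eq_zero, add_zero]
    _ = b := by rw [h, zero_add]

theorem Npart_isQN (Q : QuadraticForm F (ι → F)) (x : ↥(Cfsg.isometryGroup F ⇑Q)) :
    IsQN Q (Npart (⇑Q) x) := by
  intro v
  have h := mat_pres Q x v
  rw [mat_apply_eq, Q_add] at h
  apply add_eq_zero_char_two
  have h2 : Q v + (Q (Npart (⇑Q) x v) + pol Q v (Npart (⇑Q) x v)) = Q v + 0 := by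
    rw [← add_assoc, h, add_zero]
  exact add_left_cancel h2

theorem Npart_isInvPart (Q : QuadraticForm F (ι → F)) (x : ↥(Cfsg.isometryGroup F ⇑Q))
    (hx : x ^ 2 = 1) : IsInvPart (pol Q) (Npart (⇑Q) x) := by
  have h2 := mat_sq (⇑Q) x hx
  have hvv : ∀ a : ι → F, a + a = 0 := fun a => by
    rw [← two_smul F a, CharTwo.two_eq_zero, zero_smul]
  have hneg : ∀ a : ι → F, -a = a := fun a => by
    rw [neg_eq_iff_add_eq_zero, hvv]
  constructor
  · intro v
    rw [Npart_apply, Npart_apply, Matrix.mulVec_sub, Matrix.mulVec_mulVec, h2, Matrix.one_mulVec]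
    have e : v - mat (⇑Q) x *ᵥ v - (mat (⇑Q) x *ᵥ v - v) =
        (v + v) - (mat (⇑Q) x *ᵥ v + mat (⇑Q) x *ᵥ v) := by abel
    rw [e, hvv, hvv, sub_zero]
  · intro u v
    rw [Npart_apply, Npart_apply, sub_eq_add_neg, hneg, sub_eq_add_neg, hneg, map_add,
      LinearMap.add_apply, map_add]
    congr 1
    rw [← mat_pol Q x (mat (⇑Q) x *ᵥ u) v, Matrix.mulVec_mulVec, h2, Matrix.one_mulVec]

end CharTwo

section Conj

variable [CharP F 2]

/-- invariants of conjugate isometries -/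
theorem conj_invariants_O (Q : QuadraticForm F (ι → F)) (a b : ↥(Cfsg.isometryGroup F ⇑Q))
    (h : IsConj a b) :
    (a ^ 2 = 1 → b ^ 2 = 1) ∧ (mat (⇑Q) a - 1).rank = (mat (⇑Q) b - 1).rank ∧
      ((∀ v, pol Q v (Npart (⇑Q) a v) = 0) → (∀ v, pol Q v (Npart (⇑Q) b v) = 0)) := by
  obtain ⟨c, hc⟩ := isConj_iff.mp h
  have hcm : mat (⇑Q) c * mat (⇑Q) a = mat (⇑Q) b * mat (⇑Q) c := by
    have h := mul_inv_eq_iff_eq_mul.mp hc
    rw [← mat_mul, ← mat_mul, h]
  have hcm1 : mat (⇑Q) c * (mat (⇑Q) a - 1) = (mat (⇑Q) b - 1) * mat (⇑Q) c := by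
    rw [mul_sub, sub_mul, mul_one, one_mul, hcm]
  refine ⟨?_, ?_, ?_⟩
  · intro ha
    rw [← hc, conj_pow, ha, mul_one, mul_inv_cancel]
  · have h1 := Matrix.rank_mul_eq_right_of_isUnit_det (mat (⇑Q) c) (mat (⇑Q) a - 1)
      (mat_det (⇑Q) c)
    have h2 := Matrix.rank_mul_eq_left_of_isUnit_det (mat (⇑Q) c) (mat (⇑Q) b - 1)
      (mat_det (⇑Q) c)
    rw [← h1, hcm1, h2]
  · intro ha v
    have hv : v = mat (⇑Q) c *ᵥ (mat (⇑Q) c⁻¹ *ᵥ v) := by
      rw [Matrix.mulVec_mulVec, mat_mul_inv, Matrix.one_mulVec]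
    have e : Npart (⇑Q) b (mat (⇑Q) c *ᵥ (mat (⇑Q) c⁻¹ *ᵥ v)) =
        mat (⇑Q) c *ᵥ (Npart (⇑Q) a (mat (⇑Q) c⁻¹ *ᵥ v)) := by
      generalize mat (⇑Q) c⁻¹ *ᵥ v = u
      rw [Npart, Npart, Matrix.mulVecLin_apply, Matrix.mulVecLin_apply, Matrix.mulVec_mulVec,
        Matrix.mulVec_mulVec, hcm1]
    rw [hv, e, mat_pol]
    exact ha _

end Conj

section Class

variable [Fintype F] [CharP F 2]

/-- the conjugacy class of an involution is in bijection with the orthogonal involution parts of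
the same rank and type -/
theorem card_conj_eq_card_QNN (Q : QuadraticForm F (ι → F)) (hnd : (pol Q).Nondegenerate)
    (x : ↥(Cfsg.isometryGroup F ⇑Q)) (hx : x ^ 2 = 1) :
    Nat.card {y : ↥(Cfsg.isometryGroup F ⇑Q) // IsConj y x} =
      Nat.card (QNN Q (mat (⇑Q) x - 1).rank (∀ v, pol Q v (Npart (⇑Q) x v) = 0)) := by
  classical
  have hy2 : ∀ y : ↥(Cfsg.isometryGroup F ⇑Q), IsConj y x → y ^ 2 = 1 := fun y hy =>
    (conj_invariants_O Q x y hy.symm).1 hx
  refine Nat.card_eq_of_bijective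
    (fun y => (⟨⟨Npart (⇑Q) y.1, Npart_isInvPart Q y.1 (hy2 y.1 y.2), by
        rw [Npart_rank]
        exact (conj_invariants_O Q y.1 x y.2).2.1,
        ⟨(conj_invariants_O Q y.1 x y.2).2.2, (conj_invariants_O Q x y.1 y.2.symm).2.2⟩⟩,
        Npart_isQN Q y.1⟩ :
      QNN Q (mat (⇑Q) x - 1).rank (∀ v, pol Q v (Npart (⇑Q) x v) = 0))) ⟨?_, ?_⟩
  · intro y z hyz
    have h1 : Npart (⇑Q) y.1 = Npart (⇑Q) z.1 :=
      congrArg (fun n : QNN Q (mat (⇑Q) x - 1).rank (∀ v, pol Q v (Npart (⇑Q) x v) = 0) =>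
        n.1.1) hyz
    exact Subtype.ext (Npart_inj (⇑Q) y.1 z.1 h1)
  · intro N
    set Nx : QNN Q (mat (⇑Q) x - 1).rank (∀ v, pol Q v (Npart (⇑Q) x v) = 0) :=
      ⟨⟨Npart (⇑Q) x, Npart_isInvPart Q x hx, Npart_rank (⇑Q) x, Iff.rfl⟩, Npart_isQN Q x⟩
      with hNx
    obtain ⟨g, hg1, hg2⟩ := exists_isometry_QNN Q hnd _ _ N Nx
    obtain ⟨D, hD⟩ := exists_of_linearEquiv Q g hg1
    obtain ⟨⟨N, hN, hrank, htype⟩, hq⟩ := N
    simp only at hg2
    set A : Matrix ι ι F := 1 + LinearMap.toMatrix' N with hA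
    have hvv : ∀ a : ι → F, a + a = 0 := fun a => by
      rw [← two_smul F a, CharTwo.two_eq_zero, zero_smul]
    have hAv : ∀ v : ι → F, A *ᵥ v = v + N v := by
      intro v
      rw [hA, Matrix.add_mulVec, Matrix.one_mulVec, LinearMap.toMatrix'_mulVec]
    have hA2 : A * A = 1 := by
      apply Matrix.toLin'.injective
      apply LinearMap.ext
      intro v
      rw [Matrix.toLin'_apply, ← Matrix.mulVec_mulVec, hAv, hAv, map_add, hN.sq, add_zero,
        add_assoc, hvv, add_zero, Matrix.toLin'_one, LinearMap.id_apply]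
    have hAmem : (⟨A, A, hA2, hA2⟩ : Matrix.GeneralLinearGroup ι F) ∈
        Cfsg.isometryGroup F ⇑Q := by
      rw [mem_iso_iff]
      intro v
      show Q (A *ᵥ v) = Q v
      rw [hAv, Q_add, hq v, add_assoc, CharTwo.add_self_eq_zero, add_zero]
    set y : ↥(Cfsg.isometryGroup F ⇑Q) := ⟨⟨A, A, hA2, hA2⟩, hAmem⟩ with hy
    have hmaty : mat (⇑Q) y = A := rfl
    have hNy : Npart (⇑Q) y = N := by
      apply LinearMap.ext
      intro v
      rw [Npart_apply, hmaty, hAv, add_sub_cancel_left]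
    have hconj : IsConj y x := by
      rw [isConj_iff]
      refine ⟨D, ?_⟩
      rw [mul_inv_eq_iff_eq_mul]
      apply mat_inj
      rw [mat_mul, mat_mul, hmaty]
      rw [Matrix.ext_iff_mulVec]
      intro v
      rw [← Matrix.mulVec_mulVec, ← Matrix.mulVec_mulVec, hAv, Matrix.mulVec_add]
      show mat (⇑Q) D *ᵥ v + mat (⇑Q) D *ᵥ N v = mat (⇑Q) x *ᵥ (mat (⇑Q) D *ᵥ v)
      rw [mat_apply_eq (⇑Q) x]
      show ((D : Matrix.GeneralLinearGroup ι F) : Matrix ι ι F) *ᵥ v +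
        ((D : Matrix.GeneralLinearGroup ι F) : Matrix ι ι F) *ᵥ N v =
        ((D : Matrix.GeneralLinearGroup ι F) : Matrix ι ι F) *ᵥ v +
          Npart (⇑Q) x (((D : Matrix.GeneralLinearGroup ι F) : Matrix ι ι F) *ᵥ v)
      rw [hD, hD, hg2]
    refine ⟨⟨y, hconj⟩, ?_⟩
    apply Subtype.ext
    apply Subtype.ext
    exact hNy

/-- orbit-stabiliser -/
theorem card_centralizer_mul_QNN (Q : QuadraticForm F (ι → F)) (hnd : (pol Q).Nondegenerate)
    (x : ↥(Cfsg.isometryGroup F ⇑Q)) (hx : x ^ 2 = 1) :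
    Nat.card (Subgroup.centralizer ({x} : Set ↥(Cfsg.isometryGroup F ⇑Q))) *
      Nat.card (QNN Q (mat (⇑Q) x - 1).rank (∀ v, pol Q v (Npart (⇑Q) x v) = 0)) =
      Nat.card ↥(Cfsg.isometryGroup F ⇑Q) := by
  rw [← card_conj_eq_card_QNN Q hnd x hx]
  exact card_centralizer_mul_card_conj x

end Class

end Cfsg.Agent.Lib.helper14.So
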