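import Mathlib
import Cfsg.Agent.Lib.helper14.SoF

set_option autoImplicit false

/-!
# The part of an involution centraliser inside `Ω`
-/

namespace Cfsg.Agent.Lib.helper14.So

open Module LinearMap Matrix Cfsg.Agent.Lib.helper14.SympInv Cfsg.Agent.Lib.helper14.Spc
  Cfsg.Agent.Lib.Helper16 Cfsg.Agent.Lib.Lead.DK

section Grp

variable {G : Type*} [Group G] [Finite G]

theorem card_subgroupOf_of_index_two (H C : Subgroup G) [H.Normal] (hH : H.index = 2)
    (h : ∃ r ∈ C, r ∉ H) : Nat.card ↥(H.subgroupOf C) * 2 = Nat.card C := by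
  have h1 : H.relIndex C ∣ 2 := by
    rw [← hH]
    exact Subgroup.relIndex_dvd_index_of_normal H C
  have h2 : H.relIndex C ≠ 1 := by
    rw [Ne, Subgroup.relIndex_eq_one]
    intro hle
    obtain ⟨r, hrC, hrH⟩ := h
    exact hrH (hle hrC)
  have h3 : H.relIndex C = 2 := by
    rcases (Nat.dvd_prime Nat.prime_two).mp h1 with h | h
    · exact absurd h h2
    · exact h
  have h4 := Subgroup.card_mul_index (H.subgroupOf C)
  rw [← h4]
  congr 1
  exact h3.symm

theorem card_subgroupOf_of_le (H C : Subgroup G) (h : C ≤ H) :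
    Nat.card ↥(H.subgroupOf C) = Nat.card C := by
  have h3 : H.relIndex C = 1 := Subgroup.relIndex_eq_one.mpr h
  have h4 := Subgroup.card_mul_index (H.subgroupOf C)
  rw [← h4]
  have : (H.subgroupOf C).index = 1 := h3
  rw [this, mul_one]

/-- the set in the statements -/
theorem card_commuting_eq (H : Subgroup G) (x : G) :
    Nat.card {g : ↥H // (g : G) * x = x * (g : G)} =
      Nat.card ↥(H.subgroupOf (Subgroup.centralizer ({x} : Set G))) := by
  apply Nat.card_congr
  refine
    { toFun := fun g => ⟨⟨g.1.1, Subgroup.mem_centralizer_singleton_iff.mpr g.2⟩, g.1.2⟩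
      invFun := fun c => ⟨⟨c.1.1, c.2⟩, Subgroup.mem_centralizer_singleton_iff.mp c.1.2⟩
      left_inv := fun g => rfl
      right_inv := fun c => rfl }

end Grp

section Refl

variable {ι : Type} [Fintype ι] [DecidableEq ι] {F : Type*} [Field F] [Fintype F] [CharP F 2]

/-- a reflection in a nonsingular vector killed by `x - 1` commutes with `x` and lies outside
`Ω` -/
theorem exists_centralizer_not_omega (Q : QuadraticForm F (ι → F))
    (hnd : (pol Q).Nondegenerate) (h : Fintype.card F ≠ 2 ∨ Fintype.card ι ≠ 4)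
    (x : ↥(Cfsg.isometryGroup F ⇑Q)) (hx : x ^ 2 = 1) (u : ι → F)
    (hu : Npart (⇑Q) x u = 0) (hQu : Q u ≠ 0) :
    ∃ r ∈ Subgroup.centralizer ({x} : Set ↥(Cfsg.isometryGroup F ⇑Q)), r ∉ Cfsg.Omega F ⇑Q := by
  have hN := Npart_isInvPart Q x hx
  refine ⟨reflG Q u hQu, ?_, ?_⟩
  · rw [Subgroup.mem_centralizer_singleton_iff]
    apply mat_inj
    rw [mat_mul, mat_mul]
    have hr : mat (⇑Q) (reflG Q u hQu) = Cfsg.reflectionMatrix ⇑Q u := rfl
    rw [hr, Matrix.ext_iff_mulVec]
    intro v
    rw [← Matrix.mulVec_mulVec, ← Matrix.mulVec_mulVec, refl_apply2, refl_apply2, mat_apply_eq, mat_apply_eq, ← pol_apply, ← pol_apply]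
    have e1 : pol Q u (v + Npart (⇑Q) x v) = pol Q u v := by
      rw [map_add, ← hN.sa, hu, map_zero, LinearMap.zero_apply, add_zero]
    rw [e1, map_sub, map_smul, hu, smul_zero, sub_zero]
    abel
  · have hG := genByRefl Q hnd h
    rw [omega_eq_ker Q hnd hG, MonoidHom.mem_ker, dkHom_refl Q hnd hG u hQu]
    decide

end Refl

end Cfsg.Agent.Lib.helper14.So
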