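import Mathlib
import Cfsg.Agent.Lib.helper14.SoA

set_option autoImplicit false

/-!
# Isometries stabilising a maximal totally singular subspace have an even-dimensional fixed space
-/

namespace Cfsg.Agent.Lib.helper14.So

open Module LinearMap Cfsg.Agent.Lib.helper14.SympInv Cfsg.Agent.Lib.helper14.Spc

universe u

variable {F : Type*} [Field F] {V : Type u} [AddCommGroup V] [Module F V]

theorem finrank_map_add_inf_ker [FiniteDimensional F V] (D : V →ₗ[F] V) (W : Submodule F V) :
    finrank F (W.map D) + finrank F ↥(W ⊓ LinearMap.ker D) = finrank F W := by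
  set f : ↥W →ₗ[F] V := D.comp W.subtype with hf
  have h1 := LinearMap.finrank_range_add_finrank_ker f
  have h2 : LinearMap.range f = W.map D := by
    rw [hf, LinearMap.range_comp, Submodule.range_subtype]
  have h3 : LinearMap.ker f = Submodule.comap W.subtype (LinearMap.ker D) := by
    rw [hf, LinearMap.ker_comp]
  have h4 : finrank F ↥(LinearMap.ker f) = finrank F ↥(W ⊓ LinearMap.ker D) := by
    rw [h3, ← Submodule.finrank_map_subtype_eq W, Submodule.map_comap_subtype]
  rw [h2, h4] at h1
  exact h1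

variable [CharP F 2]

theorem even_finrank_fix [FiniteDimensional F V] (Q : QuadraticForm F V)
    (hnd : (pol Q).Nondegenerate) (W : Submodule F V) (hW0 : ∀ w ∈ W, Q w = 0)
    (hWperp : (pol Q).orthogonal W = W) (g : V →ₗ[F] V) (hg : ∀ v, Q (g v) = Q v)
    (hgW : ∀ w ∈ W, g w ∈ W) :
    Even (finrank F (LinearMap.ker (g - LinearMap.id))) := by
  have hA := pol_isAlt Q
  have hrefl : (pol Q).IsRefl := hA.isRefl
  set D : V →ₗ[F] V := g - LinearMap.id with hD
  have hDv : ∀ v, D v = g v - v := fun v => by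
    rw [hD, LinearMap.sub_apply, LinearMap.id_apply]
  have hgv : ∀ v, g v = v + D v := fun v => by rw [hDv]; abel
  have hneg : ∀ a : F, -a = a := fun a => CharTwo.neg_eq a
  -- g preserves the polar form
  have hgpol : ∀ u v, pol Q (g u) (g v) = pol Q u v := by
    intro u v
    rw [pol_apply, pol_apply, QuadraticMap.polar, QuadraticMap.polar, ← map_add, hg, hg, hg]
  -- g is injective
  have hginj : Function.Injective g := by
    rw [← LinearMap.ker_eq_bot, LinearMap.ker_eq_bot']
    intro v hv
    apply hnd.2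
    intro u
    rw [← hgpol, hv, map_zero]
  -- g maps W onto W
  have hgsurj : ∀ w' ∈ W, ∃ w ∈ W, g w = w' := by
    intro w' hw'
    have hinj : Function.Injective (g.restrict hgW) := by
      intro a b hab
      apply Subtype.ext
      apply hginj
      exact congrArg Subtype.val hab
    obtain ⟨a, ha⟩ := LinearMap.surjective_of_injective hinj ⟨w', hw'⟩
    exact ⟨a.1, a.2, congrArg Subtype.val ha⟩
  -- W is totally isotropic
  have hWti : ∀ a ∈ W, ∀ b ∈ W, pol Q a b = 0 := by
    intro a ha b hb
    have : b ∈ (pol Q).orthogonal W := by rw [hWperp]; exact hb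
    exact (LinearMap.BilinForm.mem_orthogonal_iff.mp this) a ha
  -- Q (D v) = pol v (D v)
  have hQD : ∀ v, Q (D v) = pol Q v (D v) := by
    intro v
    have h := hg v
    rw [hgv, Q_add] at h
    have h2 : Q v + (Q (D v) + pol Q v (D v)) = Q v + 0 := by
      rw [← add_assoc, h, add_zero]
    have h3 := add_left_cancel h2
    calc Q (D v) = Q (D v) + pol Q v (D v) + pol Q v (D v) := by
          rw [add_assoc, CharTwo.add_self_eq_zero, add_zero]
      _ = pol Q v (D v) := by rw [h3, zero_add]
  -- adjoint relation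
  have hadj : ∀ u w, pol Q (D u) (g w) = pol Q u (D w) := by
    intro u w
    rw [hDv, hDv, map_sub, LinearMap.sub_apply, hgpol, map_sub, ← hneg (pol Q u (g w) - pol Q u w)]
    ring
  set V₁ : Submodule F V := W.comap D with hV₁
  have hV₁mem : ∀ u, u ∈ V₁ ↔ D u ∈ W := fun u => Submodule.mem_comap
  have hV₁eq : V₁ = (pol Q).orthogonal (W.map D) := by
    ext u
    rw [hV₁mem, LinearMap.BilinForm.mem_orthogonal_iff]
    constructor
    · intro hu y hy
      obtain ⟨w, hw, rfl⟩ := Submodule.mem_map.mp hy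
      show pol Q (D w) u = 0
      rw [alt_symm hA, ← hadj]
      exact hWti _ hu _ (hgW w hw)
    · intro hu
      rw [← hWperp, LinearMap.BilinForm.mem_orthogonal_iff]
      intro w' hw'
      obtain ⟨w, hw, rfl⟩ := hgsurj w' hw'
      show pol Q (g w) (D u) = 0
      rw [alt_symm hA, hadj, alt_symm hA]
      exact hu (D w) (Submodule.mem_map_of_mem hw)
  have hWle : W ≤ V₁ := by
    intro w hw
    rw [hV₁mem, hDv]
    exact W.sub_mem (hgW w hw) hw
  have hKle : LinearMap.ker D ≤ V₁ := by
    intro v hv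
    rw [hV₁mem, LinearMap.mem_ker.mp hv]
    exact W.zero_mem
  set R : Submodule F V := W ⊔ LinearMap.ker D with hR
  have hRle : R ≤ V₁ := sup_le hWle hKle
  -- the form γ(u, v) = pol u (D v) on V₁
  have hγalt : ∀ v ∈ V₁, pol Q v (D v) = 0 := by
    intro v hv
    rw [← hQD]
    exact hW0 _ ((hV₁mem v).mp hv)
  have hγsymm : ∀ u ∈ V₁, ∀ v ∈ V₁, pol Q u (D v) = pol Q v (D u) := by
    intro u hu v hv
    have h1 := hγalt (u + v) (V₁.add_mem hu hv)
    simp only [map_add, LinearMap.add_apply] at h1
    rw [hγalt u hu, hγalt v hv, zero_add, add_zero] at h1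
    linear_combination h1 - pol Q v (D u) * (CharTwo.two_eq_zero (R := F))
  have hRrad : ∀ r ∈ R, ∀ u ∈ V₁, pol Q u (D r) = 0 := by
    intro r hr u hu
    obtain ⟨w, hw, k, hk, rfl⟩ := Submodule.mem_sup.mp hr
    rw [map_add, LinearMap.mem_ker.mp hk, add_zero, ← hadj]
    exact hWti _ ((hV₁mem u).mp hu) _ (hgW w hw)
  have hradR : ∀ v ∈ V₁, (∀ u ∈ V₁, pol Q u (D v) = 0) → v ∈ R := by
    intro v _ h
    have h1 : D v ∈ (pol Q).orthogonal V₁ := by
      rw [LinearMap.BilinForm.mem_orthogonal_iff]
      intro u hu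
      exact h u hu
    rw [hV₁eq, LinearMap.BilinForm.orthogonal_orthogonal hnd hrefl] at h1
    obtain ⟨w, hw, hwv⟩ := Submodule.mem_map.mp h1
    have h2 : v - w ∈ LinearMap.ker D := by
      rw [LinearMap.mem_ker, map_sub, hwv, sub_self]
    have h3 : v = w + (v - w) := by abel
    rw [h3]
    exact Submodule.add_mem_sup hw h2
  -- a complement of R in V₁
  obtain ⟨C₀, hC₀⟩ := Submodule.exists_isCompl R
  set C : Submodule F V := C₀ ⊓ V₁ with hC
  have hRC : R ⊔ C = V₁ := by
    rw [hC, ← sup_inf_assoc_of_le C₀ hRle, hC₀.sup_eq_top, top_inf_eq]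
  have hRC' : R ⊓ C = ⊥ := by
    rw [hC, ← inf_assoc, hC₀.inf_eq_bot, bot_inf_eq]
  have hCle : C ≤ V₁ := inf_le_right
  -- the restricted form is nondegenerate and alternating
  set β : LinearMap.BilinForm F ↥C := ((pol Q).compRight D).restrict C with hβ
  have hβa : ∀ a b : ↥C, β a b = pol Q (a : V) (D (b : V)) := fun a b => rfl
  have hβalt : β.IsAlt := by
    intro a
    rw [hβa]
    exact hγalt _ (hCle a.2)
  have hβsymm : β.IsSymm := by
    constructor
    intro a b
    rw [hβa, hβa]
    exact hγsymm _ (hCle a.2) _ (hCle b.2)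
  have hβnd : β.Nondegenerate := by
    apply nondeg_of_symm_sepLeft β hβsymm
    intro a ha
    have h1 : (a : V) ∈ R := by
      apply hradR _ (hCle a.2)
      intro u hu
      rw [← hRC] at hu
      obtain ⟨r, hr, c, hc, rfl⟩ := Submodule.mem_sup.mp hu
      rw [map_add, LinearMap.add_apply]
      have e1 : pol Q r (D (a : V)) = 0 := by
        rw [hγsymm r (hRle hr) _ (hCle a.2)]
        exact hRrad r hr _ (hCle a.2)
      have e2 : pol Q c (D (a : V)) = 0 := by
        rw [hγsymm c (hCle hc) _ (hCle a.2)]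
        exact ha ⟨c, hc⟩
      rw [e1, e2, add_zero]
    have h2 : (a : V) ∈ R ⊓ C := ⟨h1, a.2⟩
    rw [hRC', Submodule.mem_bot] at h2
    exact Subtype.ext h2
  obtain ⟨j, b, hj, -, -, -⟩ := alt_std_basis β hβalt hβnd
  -- dimensions
  have d1 := finrank_map_add_inf_ker D W
  have d2 : finrank F V₁ = finrank F V - finrank F (W.map D) := by
    rw [hV₁eq, LinearMap.BilinForm.finrank_orthogonal hnd]
  have d3 : finrank F W = finrank F V - finrank F W := by
    conv_lhs => rw [← hWperp]
    exact LinearMap.BilinForm.finrank_orthogonal hnd W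
  have d4 := Submodule.finrank_sup_add_finrank_inf_eq W (LinearMap.ker D)
  rw [← hR] at d4
  have d5 := Submodule.finrank_sup_add_finrank_inf_eq R C
  rw [hRC, hRC', finrank_bot, add_zero] at d5
  have d6 : finrank F W ≤ finrank F V := Submodule.finrank_le W
  have d7 : finrank F (W.map D) ≤ finrank F W := by omega
  have d8 : finrank F ↥(W ⊓ LinearMap.ker D) ≤ finrank F (LinearMap.ker D) :=
    Submodule.finrank_mono inf_le_right
  have d9 : finrank F (LinearMap.ker D) + 2 * j = 2 * finrank F ↥(W ⊓ LinearMap.ker D) := by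
    omega
  exact ⟨finrank F ↥(W ⊓ LinearMap.ker D) - j, by omega⟩

end Cfsg.Agent.Lib.helper14.So
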