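import Mathlib
import Cfsg.Agent.Lib.helper14.SoG
import Cfsg.Agent.Lib.helper14.SoH

set_option autoImplicit false

/-!
# The centraliser of an involution inside `Ω`: general counting statements
-/

namespace Cfsg.Agent.Lib.helper14.So

open Module LinearMap Matrix Cfsg.Agent.Lib.helper14.SympInv Cfsg.Agent.Lib.helper14.Spc
  Cfsg.Agent.Lib.Helper16 Cfsg.Agent.Lib.Lead.DK

variable {ι : Type} [Fintype ι] [DecidableEq ι] {F : Type*} [Field F] [Fintype F] [CharP F 2]

/-- the centraliser of an involution of type `a` and maximal rank lies in `Ω` -/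
theorem centralizer_le_omega (Q : QuadraticForm F (ι → F)) (hnd : (pol Q).Nondegenerate)
    (h : Fintype.card F ≠ 2 ∨ Fintype.card ι ≠ 4) (x : ↥(Cfsg.isometryGroup F ⇑Q))
    (hx : x ^ 2 = 1) (halt : ∀ v, pol Q v (Npart (⇑Q) x v) = 0)
    (hrank : 2 * (mat (⇑Q) x - 1).rank = Fintype.card ι) :
    Subgroup.centralizer ({x} : Set ↥(Cfsg.isometryGroup F ⇑Q)) ≤ Cfsg.Omega F ⇑Q := by
  intro g hg
  rw [Subgroup.mem_centralizer_singleton_iff] at hg
  have hN := Npart_isInvPart Q x hx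
  have hqn := Npart_isQN Q x
  set N := Npart (⇑Q) x with hNdef
  set W : Submodule F (ι → F) := LinearMap.range N with hW
  have hWdim : 2 * finrank F W = Fintype.card ι := by
    rw [hW, hNdef, Npart_rank]
    exact hrank
  have hn : finrank F (ι → F) = Fintype.card ι := Module.finrank_fintype_fun_eq_card F
  have hW0 : ∀ w ∈ W, Q w = 0 := by
    rintro _ ⟨v, rfl⟩
    rw [hqn v, halt v]
  have hWle : W ≤ (pol Q).orthogonal W := by
    rintro _ ⟨v, rfl⟩
    rw [LinearMap.BilinForm.mem_orthogonal_iff]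
    rintro _ ⟨u, rfl⟩
    show pol Q (N u) (N v) = 0
    rw [hN.sa, hN.sq, map_zero]
  have hWperp : (pol Q).orthogonal W = W := by
    symm
    apply Submodule.eq_of_le_of_finrank_eq hWle
    rw [LinearMap.BilinForm.finrank_orthogonal hnd, hn]
    omega
  have hcm : mat (⇑Q) g * mat (⇑Q) x = mat (⇑Q) x * mat (⇑Q) g := by
    rw [← mat_mul, ← mat_mul, hg]
  have hcm1 : mat (⇑Q) g * (mat (⇑Q) x - 1) = (mat (⇑Q) x - 1) * mat (⇑Q) g := by
    rw [mul_sub, sub_mul, mul_one, one_mul, hcm]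
  have hgW : ∀ w ∈ W, (Matrix.mulVecLin (mat (⇑Q) g)) w ∈ W := by
    rintro _ ⟨v, rfl⟩
    refine ⟨mat (⇑Q) g *ᵥ v, ?_⟩
    show (mat (⇑Q) x - 1) *ᵥ (mat (⇑Q) g *ᵥ v) = mat (⇑Q) g *ᵥ ((mat (⇑Q) x - 1) *ᵥ v)
    rw [Matrix.mulVec_mulVec, Matrix.mulVec_mulVec, hcm1]
  have heven := even_finrank_fix Q hnd W hW0 hWperp (Matrix.mulVecLin (mat (⇑Q) g))
    (fun v => mat_pres Q g v) hgW
  have hker : Matrix.mulVecLin (mat (⇑Q) g) - LinearMap.id = Matrix.mulVecLin (mat (⇑Q) g - 1) := by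
    apply LinearMap.ext
    intro v
    rw [LinearMap.sub_apply, LinearMap.id_apply, Matrix.mulVecLin_apply, Matrix.mulVecLin_apply,
      Matrix.sub_mulVec, Matrix.one_mulVec]
  rw [hker] at heven
  rw [mem_omega_iff_even_rank Q hnd h]
  have h1 := LinearMap.finrank_range_add_finrank_ker (Matrix.mulVecLin (mat (⇑Q) g - 1))
  rw [hn] at h1
  have h2 : (mat (⇑Q) g - 1).rank =
      finrank F (LinearMap.range (Matrix.mulVecLin (mat (⇑Q) g - 1))) := rfl
  show Even (mat (⇑Q) g - 1).rank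
  rw [h2]
  obtain ⟨a, ha⟩ := heven
  refine ⟨finrank F W - a, ?_⟩
  omega

/-- a nonsingular vector killed by `x - 1`, non-alternating type -/
theorem exists_nonsingular_na (Q : QuadraticForm F (ι → F)) (x : ↥(Cfsg.isometryGroup F ⇑Q))
    (hx : x ^ 2 = 1) (hna : ¬ ∀ v, pol Q v (Npart (⇑Q) x v) = 0) :
    ∃ u, Npart (⇑Q) x u = 0 ∧ Q u ≠ 0 := by
  have hN := Npart_isInvPart Q x hx
  have hqn := Npart_isQN Q x
  push Not at hna
  obtain ⟨v, hv⟩ := hna
  exact ⟨Npart (⇑Q) x v, hN.sq v, by rw [hqn v]; exact hv⟩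

/-- a nonsingular vector killed by `x - 1`, small rank -/
theorem exists_nonsingular_small (Q : QuadraticForm F (ι → F)) (hnd : (pol Q).Nondegenerate)
    (x : ↥(Cfsg.isometryGroup F ⇑Q))
    (hrank : 2 * (mat (⇑Q) x - 1).rank < Fintype.card ι) :
    ∃ u, Npart (⇑Q) x u = 0 ∧ Q u ≠ 0 := by
  by_contra hcon
  push Not at hcon
  set N := Npart (⇑Q) x with hNdef
  set K : Submodule F (ι → F) := LinearMap.ker N with hK
  have hn : finrank F (ι → F) = Fintype.card ι := Module.finrank_fintype_fun_eq_card F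
  have hKle : K ≤ (pol Q).orthogonal K := by
    intro a ha
    rw [LinearMap.BilinForm.mem_orthogonal_iff]
    intro b hb
    show pol Q b a = 0
    have h1 := hcon a (LinearMap.mem_ker.mp ha)
    have h2 := hcon b (LinearMap.mem_ker.mp hb)
    have h3 := hcon (b + a) (LinearMap.mem_ker.mp (K.add_mem hb ha))
    rw [Q_add, h1, h2, zero_add, zero_add] at h3
    exact h3
  have h1 := Submodule.finrank_mono hKle
  rw [LinearMap.BilinForm.finrank_orthogonal hnd, hn] at h1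
  have h2 := LinearMap.finrank_range_add_finrank_ker N
  rw [hn, ← hK] at h2
  have h3 : finrank F (LinearMap.range N) = (mat (⇑Q) x - 1).rank := Npart_rank (⇑Q) x
  omega

/-- the number of elements of `Ω` commuting with `x` when a reflection commutes with `x` -/
theorem card_commuting_half (Q : QuadraticForm F (ι → F)) (hnd : (pol Q).Nondegenerate)
    (hn : 1 ≤ Fintype.card ι) (h : Fintype.card F ≠ 2 ∨ Fintype.card ι ≠ 4)
    (x : ↥(Cfsg.isometryGroup F ⇑Q)) (hx : x ^ 2 = 1)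
    (hu : ∃ u, Npart (⇑Q) x u = 0 ∧ Q u ≠ 0) :
    Nat.card {g : ↥(Cfsg.Omega F ⇑Q) // (g : ↥(Cfsg.isometryGroup F ⇑Q)) * x =
        x * (g : ↥(Cfsg.isometryGroup F ⇑Q))} * 2 *
      Nat.card (QNN Q (mat (⇑Q) x - 1).rank (∀ v, pol Q v (Npart (⇑Q) x v) = 0)) =
      Nat.card ↥(Cfsg.isometryGroup F ⇑Q) := by
  obtain ⟨u, hu1, hu2⟩ := hu
  have hidx := index_omega_char2 Q hnd hn h
  rw [card_commuting_eq, card_subgroupOf_of_index_two _ _ hidx
    (exists_centralizer_not_omega Q hnd h x hx u hu1 hu2)]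
  exact card_centralizer_mul_QNN Q hnd x hx

/-- the number of elements of `Ω` commuting with `x` for type `a` and maximal rank -/
theorem card_commuting_full (Q : QuadraticForm F (ι → F)) (hnd : (pol Q).Nondegenerate)
    (h : Fintype.card F ≠ 2 ∨ Fintype.card ι ≠ 4)
    (x : ↥(Cfsg.isometryGroup F ⇑Q)) (hx : x ^ 2 = 1)
    (halt : ∀ v, pol Q v (Npart (⇑Q) x v) = 0)
    (hrank : 2 * (mat (⇑Q) x - 1).rank = Fintype.card ι) :
    Nat.card {g : ↥(Cfsg.Omega F ⇑Q) // (g : ↥(Cfsg.isometryGroup F ⇑Q)) * x =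
        x * (g : ↥(Cfsg.isometryGroup F ⇑Q))} *
      Nat.card (QNN Q (mat (⇑Q) x - 1).rank (∀ v, pol Q v (Npart (⇑Q) x v) = 0)) =
      Nat.card ↥(Cfsg.isometryGroup F ⇑Q) := by
  rw [card_commuting_eq, card_subgroupOf_of_le _ _
    (centralizer_le_omega Q hnd h x hx halt hrank)]
  exact card_centralizer_mul_QNN Q hnd x hx

end Cfsg.Agent.Lib.helper14.So
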