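import Mathlib
import Cfsg.Agent.Lib.helper14.SpcG

set_option autoImplicit false

/-!
# Arithmetic for the orthogonal centraliser orders
-/

namespace Cfsg.Agent.Lib.helper14.So

open Cfsg.Agent.Lib.helper14.Spc

/-- half the order of `O⁺_{2m}(q)` -/
def halfGo (q m : ℕ) : ℕ :=
  q ^ (m * (m - 1)) * (q ^ m - 1) * ∏ i ∈ Finset.range (m - 1), (q ^ (2 * (i + 1)) - 1)

/-- the number of frames of `s + 1` pairwise orthogonal norm-one vectors -/
def nfOrd (q m s : ℕ) : ℕ :=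
  (q ^ m - 1) * q ^ (m - 1) * ∏ i ∈ Finset.range s, (q ^ (2 * m - i - 2) - q ^ i)

/-- the number of totally singular `s`-frames -/
def sfOrd (q m s : ℕ) : ℕ :=
  ∏ i ∈ Finset.range s, (q ^ i * (q ^ (m - i) - 1) * (q ^ (m - i - 1) + 1))

theorem sq_sub_one (a : ℕ) (ha : 1 ≤ a) : a * a - 1 = (a - 1) * (a + 1) := by
  obtain ⟨b, rfl⟩ : ∃ b, a = b + 1 := ⟨a - 1, by omega⟩
  simp only [Nat.add_sub_cancel]
  have : (b + 1) * (b + 1) = b * (b + 1 + 1) + 1 := by ring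
  omega

theorem halfGo_one (q : ℕ) : halfGo q 1 = q - 1 := by
  simp [halfGo]

theorem halfGo_succ (q k : ℕ) (hq : 1 ≤ q) (hk : 1 ≤ k) :
    halfGo q (k + 1) = halfGo q k * q ^ (2 * k) * (q ^ (k + 1) - 1) * (q ^ k + 1) := by
  obtain ⟨j, rfl⟩ : ∃ j, k = j + 1 := ⟨k - 1, by omega⟩
  unfold halfGo
  have e1 : j + 1 + 1 - 1 = j + 1 := by omega
  have e2 : j + 1 - 1 = j := by omega
  rw [e1, e2, Finset.prod_range_succ]
  have h1 : 1 ≤ q ^ (j + 1) := Nat.one_le_pow _ _ hq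
  have e3 : q ^ (2 * (j + 1)) - 1 = (q ^ (j + 1) - 1) * (q ^ (j + 1) + 1) := by
    rw [← sq_sub_one _ h1, ← pow_add]
    congr 2
    ring
  have e4 : (j + 1 + 1) * (j + 1) = (j + 1) * j + 2 * (j + 1) := by ring
  rw [e3, e4, pow_add]
  ring

theorem sfOrd_succ (q m s : ℕ) :
    sfOrd q m (s + 1) = sfOrd q m s * (q ^ s * (q ^ (m - s) - 1) * (q ^ (m - s - 1) + 1)) := by
  unfold sfOrd
  rw [Finset.prod_range_succ]

theorem nfOrd_succ (q m s : ℕ) (h : s + 2 ≤ m) :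
    nfOrd q m (s + 1) = nfOrd q m s * (q ^ s * (q ^ (2 * (m - s - 1)) - 1)) := by
  unfold nfOrd
  rw [Finset.prod_range_succ, mul_assoc ((q ^ m - 1) * q ^ (m - 1))]
  congr 2
  rw [Nat.mul_sub, mul_one, ← pow_add]
  congr 2
  omega

theorem nfOrd_eq_zero (q m s : ℕ) (hm : 1 ≤ m) (h : m ≤ s) : nfOrd q m s = 0 := by
  unfold nfOrd
  have : ∏ i ∈ Finset.range s, (q ^ (2 * m - i - 2) - q ^ i) = 0 := by
    apply Finset.prod_eq_zero (Finset.mem_range.mpr (show m - 1 < s by omega))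
    have e : 2 * m - (m - 1) - 2 = m - 1 := by omega
    rw [e, Nat.sub_self]
  rw [this, mul_zero]

theorem sfOrd_eq_zero (q m s : ℕ) (h : m < s) : sfOrd q m s = 0 := by
  unfold sfOrd
  apply Finset.prod_eq_zero (Finset.mem_range.mpr h)
  rw [Nat.sub_self, pow_zero, Nat.sub_self, mul_zero, zero_mul]

/-- type `a`, rank less than `m` -/
theorem halfGo_sf (q m s : ℕ) (hq : 1 ≤ q) (h : s < m) :
    halfGo q m * q ^ (s ^ 2 + tri (s + 1)) = q ^ (2 * m * s) * halfGo q (m - s) * sfOrd q m s := by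
  induction s with
  | zero => simp [tri, sfOrd]
  | succ s ih =>
    have ih' := ih (by omega)
    obtain ⟨k, hk⟩ : ∃ k, m - s = k + 1 := ⟨m - s - 1, by omega⟩
    have hk1 : 1 ≤ k := by omega
    have hk' : m - (s + 1) = k := by omega
    rw [hk, halfGo_succ q k hq hk1] at ih'
    rw [hk', sfOrd_succ, hk, Nat.add_sub_cancel, tri_succ]
    have e1 : (s + 1) ^ 2 + (tri (s + 1) + (s + 1)) = (s ^ 2 + tri (s + 1)) + (3 * s + 2) := by
      ring
    have e2 : 2 * m * (s + 1) = 2 * m * s + 2 * m := by ring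
    rw [e1, pow_add q (s ^ 2 + tri (s + 1)) (3 * s + 2), ← mul_assoc, ih', e2,
      pow_add q (2 * m * s) (2 * m)]
    have e3 : q ^ (2 * k) * q ^ (3 * s + 2) = q ^ (2 * m) * q ^ s := by
      rw [← pow_add, ← pow_add]
      congr 1
      omega
    calc q ^ (2 * m * s) * (halfGo q k * q ^ (2 * k) * (q ^ (k + 1) - 1) * (q ^ k + 1)) *
          sfOrd q m s * q ^ (3 * s + 2)
        = q ^ (2 * m * s) * halfGo q k * (q ^ (k + 1) - 1) * (q ^ k + 1) * sfOrd q m s *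
          (q ^ (2 * k) * q ^ (3 * s + 2)) := by ring
      _ = q ^ (2 * m * s) * halfGo q k * (q ^ (k + 1) - 1) * (q ^ k + 1) * sfOrd q m s *
          (q ^ (2 * m) * q ^ s) := by rw [e3]
      _ = q ^ (2 * m * s) * q ^ (2 * m) * halfGo q k *
          (sfOrd q m s * (q ^ s * (q ^ (k + 1) - 1) * (q ^ k + 1))) := by ring

/-- type `a`, rank `m` -/
theorem halfGo_sf_top (q m : ℕ) (hq : 1 ≤ q) (hm : 1 ≤ m) :
    2 * halfGo q m * q ^ (m ^ 2 + tri (m + 1)) = q ^ (2 * m * m) * sfOrd q m m := by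
  obtain ⟨s, rfl⟩ : ∃ s, m = s + 1 := ⟨m - 1, by omega⟩
  have h := halfGo_sf q (s + 1) s hq (by omega)
  have e0 : s + 1 - s = 1 := by omega
  rw [e0, halfGo_one] at h
  rw [sfOrd_succ, e0, Nat.sub_self, pow_zero, pow_one, tri_succ]
  have e1 : (s + 1) ^ 2 + (tri (s + 1) + (s + 1)) = (s ^ 2 + tri (s + 1)) + (3 * s + 2) := by
    ring
  have e2 : 2 * (s + 1) * (s + 1) = 2 * (s + 1) * s + (2 * s + 2) := by ring
  rw [e1, pow_add q (s ^ 2 + tri (s + 1)) (3 * s + 2), e2, pow_add q (2 * (s + 1) * s) (2 * s + 2)]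
  have e3 : q ^ (3 * s + 2) = q ^ (2 * s + 2) * q ^ s := by
    rw [← pow_add]
    congr 1
    ring
  calc 2 * halfGo q (s + 1) * (q ^ (s ^ 2 + tri (s + 1)) * q ^ (3 * s + 2))
      = 2 * (halfGo q (s + 1) * q ^ (s ^ 2 + tri (s + 1))) * q ^ (3 * s + 2) := by ring
    _ = 2 * (q ^ (2 * (s + 1) * s) * (q - 1) * sfOrd q (s + 1) s) * (q ^ (2 * s + 2) * q ^ s) := by
        rw [h, e3]
    _ = q ^ (2 * (s + 1) * s) * q ^ (2 * s + 2) *
          (sfOrd q (s + 1) s * (q ^ s * (q - 1) * (1 + 1))) := by ring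

/-- types `b`, `c` -/
theorem halfGo_nf (q m s : ℕ) (hq : 1 ≤ q) (h : s + 1 ≤ m) :
    halfGo q m * q ^ (3 * tri (s + 1)) =
      q ^ (2 * m * s) * spOrd q (m - s - 1) * nfOrd q m s := by
  induction s with
  | zero =>
    obtain ⟨k, rfl⟩ : ∃ k, m = k + 1 := ⟨m - 1, by omega⟩
    have e0 : k + 1 - 0 - 1 = k := by omega
    have e1 : k + 1 - 1 = k := by omega
    rw [e0]
    unfold halfGo spOrd nfOrd tri
    rw [e1]
    simp only [Finset.range_one, Finset.sum_singleton, Nat.mul_zero, pow_zero, mul_one,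
      Finset.range_zero, Finset.prod_empty, one_mul]
    have e2 : (k + 1) * k = k ^ 2 + k := by ring
    rw [e2, pow_add]
    ring
  | succ s ih =>
    have ih' := ih (by omega)
    obtain ⟨k, hk⟩ : ∃ k, m - s - 1 = k + 1 := ⟨m - s - 2, by omega⟩
    have hk' : m - (s + 1) - 1 = k := by omega
    rw [hk, spOrd_succ] at ih'
    rw [hk', nfOrd_succ q m s (by omega), hk, tri_succ]
    have e1 : 3 * (tri (s + 1) + (s + 1)) = 3 * tri (s + 1) + (3 * s + 3) := by ring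
    have e2 : 2 * m * (s + 1) = 2 * m * s + 2 * m := by ring
    rw [e1, pow_add q (3 * tri (s + 1)) (3 * s + 3), ← mul_assoc, ih', e2,
      pow_add q (2 * m * s) (2 * m)]
    have e3 : q ^ (2 * k + 1) * q ^ (3 * s + 3) = q ^ (2 * m) * q ^ s := by
      rw [← pow_add, ← pow_add]
      congr 1
      omega
    calc q ^ (2 * m * s) * (spOrd q k * q ^ (2 * k + 1) * (q ^ (2 * (k + 1)) - 1)) * nfOrd q m s *
          q ^ (3 * s + 3)
        = q ^ (2 * m * s) * spOrd q k * (q ^ (2 * (k + 1)) - 1) * nfOrd q m s *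
          (q ^ (2 * k + 1) * q ^ (3 * s + 3)) := by ring
      _ = q ^ (2 * m * s) * spOrd q k * (q ^ (2 * (k + 1)) - 1) * nfOrd q m s *
          (q ^ (2 * m) * q ^ s) := by rw [e3]
      _ = q ^ (2 * m * s) * q ^ (2 * m) * spOrd q k *
          (nfOrd q m s * (q ^ s * (q ^ (2 * (k + 1)) - 1))) := by ring

/-- the number of extensions of a singular frame, simplified -/
theorem sing_ext_arith (q m s E : ℕ) (hq1 : 1 ≤ q) (hs : s + 1 ≤ m)
    (h : E + q ^ s + q ^ (2 * m - 1) =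
      q ^ m + (q ^ m - 1) * q ^ (m - 1) + q ^ (2 * m - 1 - s)) :
    E = q ^ s * (q ^ (m - s) - 1) * (q ^ (m - s - 1) + 1) := by
  obtain ⟨k, rfl⟩ : ∃ k, m = s + k + 1 := ⟨m - s - 1, by omega⟩
  have e1 : s + k + 1 - s = k + 1 := by omega
  have e2 : s + k + 1 - s - 1 = k := by omega
  have e3 : 2 * (s + k + 1) - 1 = (s + k + 1) + (s + k) := by omega
  have e4 : 2 * (s + k + 1) - 1 - s = (k + 1) + (s + k) := by omega
  have e5 : s + k + 1 - 1 = s + k := by omega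
  rw [e4, e3, e5] at h
  rw [e2, e1]
  obtain ⟨x, hx⟩ : ∃ x, q ^ (k + 1) = x + 1 := ⟨q ^ (k + 1) - 1, by
    have : 1 ≤ q ^ (k + 1) := Nat.one_le_pow _ _ hq1
    omega⟩
  obtain ⟨y, hy⟩ : ∃ y, q ^ (s + k + 1) = y + 1 := ⟨q ^ (s + k + 1) - 1, by
    have : 1 ≤ q ^ (s + k + 1) := Nat.one_le_pow _ _ hq1
    omega⟩
  rw [pow_add q (s + k + 1) (s + k), pow_add q (k + 1) (s + k), hy, hx] at h
  rw [hx]
  simp only [Nat.add_sub_cancel] at h ⊢
  have hy' : y + 1 = q ^ s * (x + 1) := by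
    rw [← hx, ← hy, ← pow_add, add_assoc]
  have e6 : q ^ (s + k) = q ^ s * q ^ k := pow_add q s k
  rw [e6] at h
  have h' : E + q ^ s + (y + 1) * (q ^ s * q ^ k) =
      q ^ s * x * (q ^ k + 1) + q ^ s + (y + 1) * (q ^ s * q ^ k) := by
    rw [h]
    have : q ^ s * x * (q ^ k + 1) + q ^ s = q ^ s * (x + 1) + x * (q ^ s * q ^ k) := by ring
    rw [this, ← hy']
    ring
  omega

theorem tri_succ_mul_two (s : ℕ) : tri (s + 1) * 2 = s ^ 2 + s := by
  have h := tri_mul_two (s + 1)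
  rw [Nat.add_sub_cancel] at h
  rw [h]
  ring

/-- exponent for types `b`, `c` -/
theorem expo_b (m s : ℕ) (h : s + 1 ≤ m) :
    (2 * m * (s + 1 - 1) - (3 * (s + 1) ^ 2 - 3 * (s + 1)) / 2) + 3 * tri (s + 1) = 2 * m * s := by
  have h1 := tri_succ_mul_two s
  have e : 3 * (s + 1) ^ 2 - 3 * (s + 1) = 2 * (3 * tri (s + 1)) := by
    have : 3 * (s + 1) ^ 2 = 3 * (s ^ 2 + s) + 3 * (s + 1) := by ring
    rw [this, Nat.add_sub_cancel]
    omega
  rw [e, Nat.mul_div_cancel_left _ (by norm_num : 0 < 2), Nat.add_sub_cancel]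
  have h2 : (s + 1) * s ≤ m * s := Nat.mul_le_mul_right s h
  have h4 : 2 * (3 * tri (s + 1)) ≤ 2 * (2 * m * s) := by
    have e3 : (s + 1) * s = s ^ 2 + s := by ring
    have e2 : 2 * m * s = 2 * (m * s) := by ring
    omega
  omega

/-- exponent for type `a` -/
theorem expo_a (m s : ℕ) (h : s ≤ m) :
    (2 * m * s - (3 * s ^ 2 + s) / 2) + (s ^ 2 + tri (s + 1)) = 2 * m * s := by
  have h1 := tri_succ_mul_two s
  have e : 3 * s ^ 2 + s = 2 * (s ^ 2 + tri (s + 1)) := by omega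
  rw [e, Nat.mul_div_cancel_left _ (by norm_num : 0 < 2)]
  have h2 : s * s ≤ m * s := Nat.mul_le_mul_right s h
  have h3 : s ≤ m * s ∨ s = 0 := by
    rcases Nat.eq_zero_or_pos s with h0 | h0
    · right; exact h0
    · left
      exact Nat.le_mul_of_pos_left _ (by omega)
  have h4 : s ^ 2 + tri (s + 1) ≤ 2 * m * s := by
    have : s ^ 2 = s * s := pow_two s
    have e2 : 2 * m * s = 2 * (m * s) := by ring
    rcases h3 with h3 | h3
    · omega
    · subst h3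
      simp [tri]
  omega

/-- cancellation, types `b` and `c` -/
theorem cent_cancel_nf (q m s S O : ℕ) (hq : 0 < q) (hm : 1 ≤ m) (hT : 0 < nfOrd q m s)
    (h : S * 2 * nfOrd q m s = 2 * halfGo q m * O) :
    s + 1 ≤ m ∧ S = q ^ (2 * m * (s + 1 - 1) - (3 * (s + 1) ^ 2 - 3 * (s + 1)) / 2) * O *
      spOrd q (m - (s + 1)) := by
  have hsm : s + 1 ≤ m := by
    by_contra hcon
    push Not at hcon
    rw [nfOrd_eq_zero q m s hm (by omega)] at hT
    exact lt_irrefl 0 hT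
  refine ⟨hsm, ?_⟩
  have hstar := halfGo_nf q m s hq hsm
  have hexp := expo_b m s hsm
  have hpow : 0 < q ^ (3 * tri (s + 1)) := pow_pos hq _
  have e0 : m - (s + 1) = m - s - 1 := by omega
  rw [e0]
  apply Nat.eq_of_mul_eq_mul_right (Nat.mul_pos (Nat.mul_pos (by norm_num : 0 < 2) hT) hpow)
  calc S * (2 * nfOrd q m s * q ^ (3 * tri (s + 1)))
      = (S * 2 * nfOrd q m s) * q ^ (3 * tri (s + 1)) := by ring
    _ = 2 * (halfGo q m * q ^ (3 * tri (s + 1))) * O := by rw [h]; ring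
    _ = 2 * (q ^ (2 * m * s) * spOrd q (m - s - 1) * nfOrd q m s) * O := by rw [hstar]
    _ = 2 * (q ^ ((2 * m * (s + 1 - 1) - (3 * (s + 1) ^ 2 - 3 * (s + 1)) / 2) +
          3 * tri (s + 1)) * spOrd q (m - s - 1) * nfOrd q m s) * O := by rw [hexp]
    _ = q ^ (2 * m * (s + 1 - 1) - (3 * (s + 1) ^ 2 - 3 * (s + 1)) / 2) * O *
          spOrd q (m - s - 1) * (2 * nfOrd q m s * q ^ (3 * tri (s + 1))) := by
        rw [pow_add]; ring

/-- cancellation, type `a`, rank less than `m` -/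
theorem cent_cancel_sf (q m s S O : ℕ) (hq : 0 < q) (hsm : s < m) (hT : 0 < sfOrd q m s)
    (h : S * 2 * sfOrd q m s = 2 * halfGo q m * O) :
    S = q ^ (2 * m * s - (3 * s ^ 2 + s) / 2) * O * halfGo q (m - s) := by
  have hstar := halfGo_sf q m s hq hsm
  have hexp := expo_a m s (by omega)
  have hpow : 0 < q ^ (s ^ 2 + tri (s + 1)) := pow_pos hq _
  apply Nat.eq_of_mul_eq_mul_right (Nat.mul_pos (Nat.mul_pos (by norm_num : 0 < 2) hT) hpow)
  calc S * (2 * sfOrd q m s * q ^ (s ^ 2 + tri (s + 1)))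
      = (S * 2 * sfOrd q m s) * q ^ (s ^ 2 + tri (s + 1)) := by ring
    _ = 2 * (halfGo q m * q ^ (s ^ 2 + tri (s + 1))) * O := by rw [h]; ring
    _ = 2 * (q ^ (2 * m * s) * halfGo q (m - s) * sfOrd q m s) * O := by rw [hstar]
    _ = 2 * (q ^ ((2 * m * s - (3 * s ^ 2 + s) / 2) + (s ^ 2 + tri (s + 1))) *
          halfGo q (m - s) * sfOrd q m s) * O := by rw [hexp]
    _ = q ^ (2 * m * s - (3 * s ^ 2 + s) / 2) * O * halfGo q (m - s) *
          (2 * sfOrd q m s * q ^ (s ^ 2 + tri (s + 1))) := by rw [pow_add]; ring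

/-- cancellation, type `a`, rank `m` -/
theorem cent_cancel_sf_top (q m S O : ℕ) (hq : 0 < q) (hm : 1 ≤ m) (hT : 0 < sfOrd q m m)
    (h : S * sfOrd q m m = 2 * halfGo q m * O) :
    S = q ^ (2 * m * m - (3 * m ^ 2 + m) / 2) * O := by
  have hstar := halfGo_sf_top q m hq hm
  have hexp := expo_a m m le_rfl
  have hpow : 0 < q ^ (m ^ 2 + tri (m + 1)) := pow_pos hq _
  apply Nat.eq_of_mul_eq_mul_right (Nat.mul_pos hT hpow)
  calc S * (sfOrd q m m * q ^ (m ^ 2 + tri (m + 1)))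
      = (S * sfOrd q m m) * q ^ (m ^ 2 + tri (m + 1)) := by ring
    _ = (2 * halfGo q m * q ^ (m ^ 2 + tri (m + 1))) * O := by rw [h]; ring
    _ = (q ^ (2 * m * m) * sfOrd q m m) * O := by rw [hstar]
    _ = (q ^ ((2 * m * m - (3 * m ^ 2 + m) / 2) + (m ^ 2 + tri (m + 1))) * sfOrd q m m) * O := by
        rw [hexp]
    _ = q ^ (2 * m * m - (3 * m ^ 2 + m) / 2) * O *
          (sfOrd q m m * q ^ (m ^ 2 + tri (m + 1))) := by rw [pow_add]; ring

/-- the exponent for the type `c_s` -/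
theorem expo_c' (m s : ℕ) (h : s ≤ m) (hs : Even s) (hs2 : 2 ≤ s) :
    (2 * m * (s - 1) - (3 * s ^ 2 - 3 * s) / 2) + (s - 1) =
      2 * m * (s - 1) - (3 * s ^ 2 - 5 * s) / 2 - 1 := by
  obtain ⟨j, rfl⟩ := hs
  obtain ⟨i, rfl⟩ : ∃ i, j = i + 1 := ⟨j - 1, by omega⟩
  have e1 : (i + 1 + (i + 1)) ^ 2 = 4 * (i * i) + 8 * i + 4 := by ring
  have e2 : 2 * m * (i + 1 + (i + 1) - 1) = 4 * (m * i) + 2 * m := by
    have : i + 1 + (i + 1) - 1 = 2 * i + 1 := by omega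
    rw [this]
    ring
  have h1 : 2 * (i * i) + 2 * i ≤ m * i := by
    have : (i + 1 + (i + 1)) * i ≤ m * i := Nat.mul_le_mul_right i h
    calc 2 * (i * i) + 2 * i = (i + 1 + (i + 1)) * i := by ring
      _ ≤ m * i := this
  rw [e1, e2]
  omega

end Cfsg.Agent.Lib.helper14.So
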