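import Mathlib
import Cfsg.Agent.Lib.helper14.SoI
import Cfsg.Agent.Lib.helper14.SoJ
import Cfsg.Agent.Lib.helper14.SpcF
import Cfsg.Agent.Lib.Helper16.PlusFam
import Cfsg.Agent.Lib.Lead.QuadCount
import Cfsg.Agent.S0287

set_option autoImplicit false

/-!
# Centralisers in `Ω⁺_{2m}(q)`, `q` even, of involutions of `O⁺_{2m}(q)`
-/

namespace Cfsg.Agent.Lib.helper14.So

open Module LinearMap Matrix Cfsg.Agent.Lib.helper14.SympInv Cfsg.Agent.Lib.helper14.Spc
  Cfsg.Agent.Lib.Helper16 Cfsg.Agent.Lib.Lead.DK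

variable {F : Type*} [Field F] [Fintype F] {m : ℕ}

local notation "VV" => (Fin m ⊕ Fin m → F)

theorem finrank_VV' : finrank F VV = 2 * m := by
  rw [Module.finrank_fintype_fun_eq_card, Fintype.card_sum, Fintype.card_fin, two_mul]

/-- the number of vectors of given norm -/
theorem card_norm [DecidableEq F] (c : F) :
    Nat.card {v : VV // qfPlus m F v = c} =
      (if c = 0 then Fintype.card F ^ m else 0) +
        (Fintype.card F ^ m - 1) * Fintype.card F ^ (m - 1) := by
  have h := Cfsg.Agent.Lib.Lead.card_pairs_dot (F := F) (ι := Fin m) c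
  rw [Fintype.card_fin] at h
  rw [← h, Nat.card_eq_fintype_card, ← Fintype.card_subtype]
  apply Fintype.card_congr
  refine
    { toFun := fun v => ⟨(fun i => v.1 (Sum.inl i), fun i => v.1 (Sum.inr i)), v.2⟩
      invFun := fun p => ⟨Sum.elim p.1.1 p.1.2, p.2⟩
      left_inv := fun v => by
        apply Subtype.ext
        funext i
        rcases i with i | i <;> rfl
      right_inv := fun p => rfl }

theorem card_G (hm : 1 ≤ m) :
    Nat.card ↥(Cfsg.isometryGroup F ⇑(qfPlus m F)) = 2 * halfGo (Fintype.card F) m := by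
  have h := Cfsg.Agent.S0287.result (F := F) rfl m hm
  rw [qfPlus_coe, h]
  unfold halfGo
  ring

variable [CharP F 2]

theorem card_QTIF_one_model (s : ℕ) :
    Nat.card (QTIF (qfPlus m F) 1 (Fin (s + 1))) = nfOrd (Fintype.card F) m s := by
  classical
  rw [card_QTIF_normone (qfPlus m F) (qfPlus_nondeg m F) s, card_norm, if_neg one_ne_zero,
    zero_add, finrank_VV']
  rfl

theorem card_QTIF_sing_model (s : ℕ) (hs : s ≤ m) :
    Nat.card (QTIF (qfPlus m F) 0 (Fin s)) = sfOrd (Fintype.card F) m s := by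
  classical
  induction s with
  | zero => rw [card_QTIF_zero]; simp [sfOrd]
  | succ s ih =>
    rw [sfOrd_succ, ← ih (by omega)]
    apply card_QTIF_succ
    intro w
    have h := card_QExt_singular (qfPlus m F) (qfPlus_nondeg m F) s w
    rw [card_norm, if_pos rfl, finrank_VV'] at h
    exact sing_ext_arith _ m s _ Fintype.card_pos (by omega) h

/-- changing the type proposition -/
def qnnCongr (Q : QuadraticForm F VV) (s : ℕ) {alt alt' : Prop} (h : alt ↔ alt') :
    QNN Q s alt ≃ QNN Q s alt' where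
  toFun N := ⟨⟨N.1.1, N.1.2.1, N.1.2.2.1, N.1.2.2.2.trans h⟩, N.2⟩
  invFun N := ⟨⟨N.1.1, N.1.2.1, N.1.2.2.1, N.1.2.2.2.trans h.symm⟩, N.2⟩
  left_inv N := rfl
  right_inv N := rfl

local notation "QQ" => qfPlus m F

theorem card_index (m : ℕ) : Fintype.card (Fin m ⊕ Fin m) = 2 * m := by
  rw [Fintype.card_sum, Fintype.card_fin, two_mul]

/-- types `b` and `c` -/
theorem card_commuting_na (h : Fintype.card F ≠ 2 ∨ m ≠ 2) (x : ↥(Cfsg.isometryGroup F ⇑(qfPlus m F))) (hx : x ^ 2 = 1) (s : ℕ)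
    (hs : (mat (⇑QQ) x - 1).rank = s) (hna : ¬ ∀ v, pol QQ v (Npart (⇑QQ) x v) = 0) :
    1 ≤ s ∧ s ≤ m ∧
      Nat.card {g : ↥(Cfsg.Omega F ⇑QQ) // (g : ↥(Cfsg.isometryGroup F ⇑(qfPlus m F))) * x = x * (g : ↥(Cfsg.isometryGroup F ⇑(qfPlus m F)))} =
        Fintype.card F ^ (2 * m * (s - 1) - (3 * s ^ 2 - 3 * s) / 2) *
          Nat.card (OG (1 : Matrix (Fin s) (Fin s) F)) * spOrd (Fintype.card F) (m - s) := by
  have hnd := qfPlus_nondeg m F
  have hm : 1 ≤ m := by
    rcases Nat.eq_zero_or_pos m with h0 | h0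
    · exfalso
      subst h0
      apply hna
      intro v
      have : v = 0 := Subsingleton.elim _ _
      rw [this, map_zero, LinearMap.zero_apply]
    · exact h0
  have hs1 : 1 ≤ s := by
    by_contra hcon
    have h0 : (mat (⇑QQ) x - 1).rank = 0 := by omega
    rw [← Npart_rank, Submodule.finrank_eq_zero, LinearMap.range_eq_bot] at h0
    apply hna
    intro v
    rw [h0, LinearMap.zero_apply, map_zero]
  obtain ⟨s', rfl⟩ : ∃ s', s = s' + 1 := ⟨s - 1, by omega⟩
  have h' : Fintype.card F ≠ 2 ∨ Fintype.card (Fin m ⊕ Fin m) ≠ 4 := by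
    rw [card_index]
    rcases h with h | h
    · exact Or.inl h
    · right; omega
  have hn : 1 ≤ Fintype.card (Fin m ⊕ Fin m) := by rw [card_index]; omega
  have h1 := card_commuting_half QQ hnd hn h' x hx (exists_nonsingular_na QQ x hx hna)
  rw [hs, Nat.card_congr (qnnCongr QQ (s' + 1) (iff_false_intro hna)), card_G hm] at h1
  have h2 := card_QTIF_one QQ hnd (s' + 1) hs1
  rw [card_QTIF_one_model] at h2
  have hG : 0 < 2 * halfGo (Fintype.card F) m := by
    rw [← card_G hm]
    exact Nat.card_pos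
  have hOG : 0 < Nat.card (OG (1 : Matrix (Fin (s' + 1)) (Fin (s' + 1)) F)) := by
    apply Nat.card_pos_iff.mpr
    exact ⟨⟨⟨1, by simp⟩⟩, inferInstance⟩
  have hNN : 0 < Nat.card (QNN QQ (s' + 1) False) := by
    by_contra hcon
    have h0 : Nat.card (QNN QQ (s' + 1) False) = 0 := by omega
    rw [h0, mul_zero] at h1
    omega
  have hT : 0 < nfOrd (Fintype.card F) m s' := by
    rw [h2]
    exact Nat.mul_pos hNN hOG
  have h3 := cent_cancel_nf (Fintype.card F) m s' _
    (Nat.card (OG (1 : Matrix (Fin (s' + 1)) (Fin (s' + 1)) F))) Fintype.card_pos hm hT (by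
      rw [h2, ← mul_assoc, h1])
  exact ⟨hs1, h3.1, h3.2⟩

/-- type `a` -/
theorem card_commuting_alt (h : Fintype.card F ≠ 2 ∨ m ≠ 2) (hm : 1 ≤ m) (x : ↥(Cfsg.isometryGroup F ⇑(qfPlus m F)))
    (hx : x ^ 2 = 1) (k : ℕ) (hs : (mat (⇑QQ) x - 1).rank = 2 * k)
    (halt : ∀ v, pol QQ v (Npart (⇑QQ) x v) = 0) :
    Nat.card {g : ↥(Cfsg.Omega F ⇑QQ) // (g : ↥(Cfsg.isometryGroup F ⇑(qfPlus m F))) * x = x * (g : ↥(Cfsg.isometryGroup F ⇑(qfPlus m F)))} =
      Fintype.card F ^ (2 * m * (2 * k) - (3 * (2 * k) ^ 2 + 2 * k) / 2) *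
        spOrd (Fintype.card F) k *
          (if 2 * k = m then 1 else halfGo (Fintype.card F) (m - 2 * k)) := by
  have hnd := qfPlus_nondeg m F
  have hN := Npart_isInvPart QQ x hx
  have h' : Fintype.card F ≠ 2 ∨ Fintype.card (Fin m ⊕ Fin m) ≠ 4 := by
    rw [card_index]
    rcases h with h | h
    · exact Or.inl h
    · right; omega
  have hn : 1 ≤ Fintype.card (Fin m ⊕ Fin m) := by rw [card_index]; omega
  -- the rank is at most m
  have hkm : 2 * k ≤ m := by
    have h1 := LinearMap.finrank_range_add_finrank_ker (Npart (⇑QQ) x)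
    rw [finrank_VV', Npart_rank, hs] at h1
    have h2 : LinearMap.range (Npart (⇑QQ) x) ≤ LinearMap.ker (Npart (⇑QQ) x) := by
      rintro _ ⟨v, rfl⟩
      rw [LinearMap.mem_ker, hN.sq]
    have h3 := Submodule.finrank_mono h2
    rw [Npart_rank, hs] at h3
    omega
  have hG : 0 < 2 * halfGo (Fintype.card F) m := by
    rw [← card_G hm]
    exact Nat.card_pos
  -- frames
  have h2 := card_QTIF_alt QQ hnd k
  have e : Fin k ⊕ Fin k ≃ Fin (2 * k) :=
    finSumFinEquiv.trans (finCongr (by ring))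
  rw [Nat.card_congr (qtifCongr QQ 0 e), card_QTIF_sing_model (2 * k) hkm, card_OG_JJ,
    card_Sp_eq_spOrd] at h2
  have hO : 0 < spOrd (Fintype.card F) k := by
    rw [← card_Sp_eq_spOrd]
    exact Nat.card_pos
  have hcongr : Nat.card (QNN QQ (2 * k) (∀ v, pol QQ v (Npart (⇑QQ) x v) = 0)) =
      Nat.card (QNN QQ (2 * k) True) :=
    Nat.card_congr (qnnCongr QQ (2 * k) (iff_true_intro halt))
  rcases Nat.lt_or_ge (2 * k) m with hlt | hge
  · -- rank less than m
    rw [if_neg (by omega)]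
    have hsmall : 2 * (mat (⇑QQ) x - 1).rank < Fintype.card (Fin m ⊕ Fin m) := by
      rw [card_index, hs]
      omega
    have h1 := card_commuting_half QQ hnd hn h' x hx (exists_nonsingular_small QQ hnd x hsmall)
    rw [hs, hcongr, card_G hm] at h1
    have hNN : 0 < Nat.card (QNN QQ (2 * k) True) := by
      by_contra hcon
      have h0 : Nat.card (QNN QQ (2 * k) True) = 0 := by omega
      rw [h0, mul_zero] at h1
      omega
    have hT : 0 < sfOrd (Fintype.card F) m (2 * k) := by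
      rw [h2]
      exact Nat.mul_pos hNN hO
    exact cent_cancel_sf (Fintype.card F) m (2 * k) _ _ Fintype.card_pos hlt hT (by
      rw [h2, ← mul_assoc, h1])
  · -- rank m
    have hkm' : 2 * k = m := by omega
    rw [if_pos hkm', mul_one]
    have hfull : 2 * (mat (⇑QQ) x - 1).rank = Fintype.card (Fin m ⊕ Fin m) := by
      rw [card_index, hs, hkm']
    have h1 := card_commuting_full QQ hnd h' x hx halt hfull
    rw [hs, hcongr, card_G hm] at h1
    have hNN : 0 < Nat.card (QNN QQ (2 * k) True) := by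
      by_contra hcon
      have h0 : Nat.card (QNN QQ (2 * k) True) = 0 := by omega
      rw [h0, mul_zero] at h1
      omega
    have hT : 0 < sfOrd (Fintype.card F) m (2 * k) := by
      rw [h2]
      exact Nat.mul_pos hNN hO
    rw [hkm'] at h2 hT h1 ⊢
    exact cent_cancel_sf_top (Fintype.card F) m _ _ Fintype.card_pos hm hT (by
      rw [h2, ← mul_assoc, h1])

end Cfsg.Agent.Lib.helper14.So
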