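import Mathlib

set_option autoImplicit false

namespace Cfsg.Agent.Lib.helper14

open Module

section
variable {F : Type*} [Field F] {V : Type*} [AddCommGroup V] [Module F V] [FiniteDimensional F V]

/-- an adapted basis for a square-zero endomorphism `N` of rank `r` -/
theorem exists_adapted_basis (N : V →ₗ[F] V) (hN : N ∘ₗ N = 0) (r : ℕ)
    (hr : finrank F (LinearMap.range N) = r) :
    ∃ (m : ℕ) (B : Basis ((Fin r ⊕ Fin m) ⊕ Fin r) F V),
      (∀ i, N (B (Sum.inr i)) = B (Sum.inl (Sum.inl i))) ∧ (∀ x, N (B (Sum.inl x)) = 0) := by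
  subst hr
  set K := LinearMap.ker N with hK
  set R := LinearMap.range N with hR
  have hRK : R ≤ K := by
    rintro _ ⟨v, rfl⟩
    rw [hK, LinearMap.mem_ker]
    have := LinearMap.congr_fun hN v
    simpa using this
  obtain ⟨C, hC⟩ := Submodule.exists_isCompl K
  obtain ⟨U, hU⟩ := Submodule.exists_isCompl (Submodule.comap K.subtype R)
  let bR : Basis (Fin (finrank F R)) F R := Module.finBasis F R
  let bR' : Basis (Fin (finrank F R)) F (Submodule.comap K.subtype R) :=
    bR.map (Submodule.comapSubtypeEquivOfLe hRK).symm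
  let bU : Basis (Fin (finrank F U)) F U := Module.finBasis F U
  let bK : Basis (Fin (finrank F R) ⊕ Fin (finrank F U)) F K :=
    (bR'.prod bU).map (Submodule.prodEquivOfIsCompl _ _ hU)
  let eCR : C ≃ₗ[F] R := (Submodule.quotientEquivOfIsCompl K C hC).symm.trans N.quotKerEquivRange
  have heCR : ∀ c : C, ((eCR c : R) : V) = N (c : V) := by
    intro c
    show ((N.quotKerEquivRange ((Submodule.quotientEquivOfIsCompl K C hC).symm c) : R) : V) = N (c : V)
    rw [Submodule.quotientEquivOfIsCompl_symm_apply, LinearMap.quotKerEquivRange_apply_mk]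
  let bC : Basis (Fin (finrank F R)) F C := bR.map eCR.symm
  let B : Basis ((Fin (finrank F R) ⊕ Fin (finrank F U)) ⊕ Fin (finrank F R)) F V :=
    (bK.prod bC).map (Submodule.prodEquivOfIsCompl K C hC)
  have hBinr : ∀ i, B (Sum.inr i) = ((bC i : C) : V) := by
    intro i
    show (Submodule.prodEquivOfIsCompl K C hC) ((bK.prod bC) (Sum.inr i)) = _
    rw [Submodule.coe_prodEquivOfIsCompl', Basis.prod_apply]
    simp
  have hBinl : ∀ x, B (Sum.inl x) = ((bK x : K) : V) := by
    intro x
    show (Submodule.prodEquivOfIsCompl K C hC) ((bK.prod bC) (Sum.inl x)) = _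
    rw [Submodule.coe_prodEquivOfIsCompl', Basis.prod_apply]
    simp
  have hbKinl : ∀ i, ((bK (Sum.inl i) : K) : V) = ((bR i : R) : V) := by
    intro i
    show (((Submodule.prodEquivOfIsCompl _ _ hU) ((bR'.prod bU) (Sum.inl i)) : K) : V) = _
    rw [Submodule.coe_prodEquivOfIsCompl', Basis.prod_apply]
    simp only [Sum.elim_inl, Function.comp_apply, LinearMap.coe_inl, ZeroMemClass.coe_zero, add_zero]
    show (((Submodule.comapSubtypeEquivOfLe hRK).symm (bR i) : Submodule.comap K.subtype R) : K).1 = _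
    have := Submodule.comapSubtypeEquivOfLe_apply_coe hRK ((Submodule.comapSubtypeEquivOfLe hRK).symm (bR i))
    rw [LinearEquiv.apply_symm_apply] at this
    exact this.symm
  refine ⟨finrank F U, B, ?_, ?_⟩
  · intro i
    rw [hBinr, hBinl, hbKinl, ← heCR]
    show ((eCR (eCR.symm (bR i)) : R) : V) = _
    rw [LinearEquiv.apply_symm_apply]
  · intro x
    rw [hBinl]
    have : ((bK x : K) : V) ∈ LinearMap.ker N := (bK x).2
    exact LinearMap.mem_ker.mp this

/-- square-zero endomorphisms of the same rank are conjugate -/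
theorem exists_conj_of_rank_eq (N N' : V →ₗ[F] V) (hN : N ∘ₗ N = 0) (hN' : N' ∘ₗ N' = 0)
    (hr : finrank F (LinearMap.range N) = finrank F (LinearMap.range N')) :
    ∃ g : V ≃ₗ[F] V, ∀ v, g (N v) = N' (g v) := by
  obtain ⟨m, B, h1, h2⟩ := exists_adapted_basis N hN _ rfl
  obtain ⟨m', B', h1', h2'⟩ := exists_adapted_basis N' hN' _ hr.symm
  have hc := Module.finrank_eq_card_basis B
  have hc' := Module.finrank_eq_card_basis B'
  simp only [Fintype.card_sum, Fintype.card_fin] at hc hc'
  obtain rfl : m = m' := by omega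
  let g : V ≃ₗ[F] V := B.equiv B' (Equiv.refl _)
  have hg : ∀ x, g (B x) = B' x := fun x => by
    show B.equiv B' (Equiv.refl _) (B x) = B' x
    rw [Basis.equiv_apply]; rfl
  refine ⟨g, ?_⟩
  have : (g : V →ₗ[F] V) ∘ₗ N = N' ∘ₗ (g : V →ₗ[F] V) := by
    apply B.ext
    intro x
    rcases x with y | i
    · simp only [LinearMap.comp_apply, LinearEquiv.coe_coe]
      rw [h2 y, hg, h2' y, map_zero]
    · simp only [LinearMap.comp_apply, LinearEquiv.coe_coe]
      rw [h1 i, hg, hg, h1' i]
  intro v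
  exact LinearMap.congr_fun this v

/-- the centralizer of a square-zero endomorphism contains elements of every determinant
(given square roots, and dimension at least three) -/
theorem exists_centralizer_det (N : V →ₗ[F] V) (hN : N ∘ₗ N = 0) (hdim : 3 ≤ finrank F V)
    (hsq : ∀ x : F, ∃ y, y * y = x) (δ : Fˣ) :
    ∃ z : V ≃ₗ[F] V, (∀ v, z (N v) = N (z v)) ∧ LinearMap.det (z : V →ₗ[F] V) = δ := by
  classical
  obtain ⟨r, hr⟩ : ∃ r, finrank F (LinearMap.range N) = r := ⟨_, rfl⟩
  obtain ⟨m, B, h1, h2⟩ := exists_adapted_basis N hN r hr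
  have hc := Module.finrank_eq_card_basis B
  simp only [Fintype.card_sum, Fintype.card_fin] at hc
  have key : ∀ (α : Fin r → Fˣ) (β : Fin m → Fˣ), ∃ z : V ≃ₗ[F] V, (∀ v, z (N v) = N (z v)) ∧
      LinearMap.det (z : V →ₗ[F] V) = ((∏ i, (α i : F)) * ∏ k, (β k : F)) * ∏ i, (α i : F) := by
    intro α β
    let ζ : (Fin r ⊕ Fin m) ⊕ Fin r → Fˣ := Sum.elim (Sum.elim α β) α
    let z : V ≃ₗ[F] V := B.equiv (B.unitsSMul ζ) (Equiv.refl _)
    have hz : ∀ x, z (B x) = (ζ x : F) • B x := fun x => by
      show B.equiv (B.unitsSMul ζ) (Equiv.refl _) (B x) = _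
      rw [Basis.equiv_apply, Equiv.refl_apply, Basis.unitsSMul_apply]
      rfl
    refine ⟨z, ?_, ?_⟩
    · have : (z : V →ₗ[F] V) ∘ₗ N = N ∘ₗ (z : V →ₗ[F] V) := by
        apply B.ext
        intro x
        rcases x with y | i
        · simp only [LinearMap.comp_apply, LinearEquiv.coe_coe]
          rw [h2 y, hz, map_smul, h2 y, map_zero, smul_zero]
        · simp only [LinearMap.comp_apply, LinearEquiv.coe_coe]
          rw [h1 i, hz, hz, map_smul, h1 i]
          rfl
      intro v
      exact LinearMap.congr_fun this v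
    · rw [← LinearMap.det_toMatrix B]
      have hM : LinearMap.toMatrix B B (z : V →ₗ[F] V) = Matrix.diagonal (fun x => (ζ x : F)) := by
        ext i j
        rw [LinearMap.toMatrix_apply, LinearEquiv.coe_coe, hz, map_smul, Basis.repr_self,
          Finsupp.smul_apply, Finsupp.single_apply, Matrix.diagonal_apply]
        by_cases hij : i = j
        · subst hij; simp
        · rw [if_neg hij, if_neg (Ne.symm hij)]; simp
      rw [hM, Matrix.det_diagonal, Fintype.prod_sum_type, Fintype.prod_sum_type]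
      rfl
  by_cases hm : 0 < m
  · obtain ⟨z, hz1, hz2⟩ := key (fun _ => 1) (Function.update (fun _ => 1) ⟨0, hm⟩ δ)
    refine ⟨z, hz1, ?_⟩
    rw [hz2]
    have : ∏ k, ((Function.update (fun _ => (1 : Fˣ)) (⟨0, hm⟩ : Fin m) δ k : Fˣ) : F) = δ := by
      rw [Fintype.prod_eq_single (⟨0, hm⟩ : Fin m)]
      · simp
      · intro k hk
        rw [Function.update_of_ne hk]
        simp
    rw [this]
    simp
  · have hm0 : m = 0 := by omega
    have hr0 : 0 < r := by omega
    obtain ⟨s, hs⟩ := hsq δ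
    have hs0 : s ≠ 0 := by
      intro h
      rw [h, mul_zero] at hs
      exact δ.ne_zero hs.symm
    obtain ⟨z, hz1, hz2⟩ := key (Function.update (fun _ => 1) ⟨0, hr0⟩ (Units.mk0 s hs0)) (fun _ => 1)
    refine ⟨z, hz1, ?_⟩
    rw [hz2]
    have : ∏ i, ((Function.update (fun _ => (1 : Fˣ)) (⟨0, hr0⟩ : Fin r) (Units.mk0 s hs0) i : Fˣ) : F) = s := by
      rw [Fintype.prod_eq_single (⟨0, hr0⟩ : Fin r)]
      · simp
      · intro k hk
        rw [Function.update_of_ne hk]
        simp
    rw [this]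
    simp [hs]

end

end Cfsg.Agent.Lib.helper14
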