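import Mathlib
import Cfsg.Prelude.Def_Blocks
import Cfsg.Agent.Lib.helper14.StChevIrr
import Cfsg.Agent.Lib.Helper24.FSDefZero
import Cfsg.Agent.S1059
import Cfsg.Agent.S1060
import Cfsg.Agent.S1061
import Cfsg.Agent.S1062
import Cfsg.Agent.S1063
import Cfsg.Agent.S1064
import Cfsg.Agent.S1065

/-!
The Steinberg character of a Chevalley group has `p`-defect zero, hence vanishes on `p`-singular
elements.
-/

set_option autoImplicit false

namespace Cfsg.Agent.Lib.helper14

open Cfsg.Lie Cfsg.Lie.ChevalleyDatum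

theorem coprime_pow_sub_one {p q k : ℕ} (hp : p.Prime) (hq : p ∣ q) (hq0 : 0 < q) (hk : k ≠ 0) :
    Nat.Coprime p (q ^ k - 1) := by
  rw [Nat.Prime.coprime_iff_not_dvd hp]
  intro h
  have h1 : 1 ≤ q ^ k := Nat.one_le_pow _ _ hq0
  have h2 : p ∣ q ^ k := dvd_pow hq hk
  have h3 := Nat.dvd_sub h2 h
  rw [Nat.sub_sub_self h1] at h3
  exact hp.one_lt.ne' (Nat.dvd_one.1 h3)

theorem ordProj_dvd_of_mul_eq (p : ℕ) {g A d : ℕ} (h : d * g = A) : p ^ g.factorization p ∣ A := by
  rw [← h]
  exact Dvd.dvd.mul_left (Nat.ordProj_dvd g p) d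

theorem dvd_step {p v A b : ℕ} (h : p ^ v ∣ A * b) (hc : Nat.Coprime p b) : p ^ v ∣ A :=
  (Nat.Coprime.pow_left v hc).dvd_of_dvd_mul_right h

theorem chev_ppart_dvd {F : Type*} [Field F] [Fintype F] (p : ℕ) [hpf : Fact p.Prime] [CharP F p]
    (D : ChevalleyDatum)
    (hD : D ∈ [chevG2, chevB2, chevD4, chevF4, chevE6, chevE7, chevE8]) :
    p ^ (Nat.card ↥(D.group F)).factorization p ∣ Fintype.card F ^ (D.nroots / 2) := by
  have hp := hpf.out
  obtain ⟨n, _, hn⟩ := FiniteField.card F p
  have hq : p ∣ Fintype.card F := by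
    rw [hn]
    exact dvd_pow_self p n.ne_zero
  set q := Fintype.card F with hqdef
  have c : ∀ k : ℕ, k ≠ 0 → Nat.Coprime p (q ^ k - 1) := fun k hk => coprime_pow_sub_one hp hq Fintype.card_pos hk
  simp only [List.mem_cons, List.not_mem_nil, or_false] at hD
  rcases hD with rfl | rfl | rfl | rfl | rfl | rfl | rfl
  · have e := Cfsg.Agent.S1059.result (F := F) (q := q) rfl
    have hv := ordProj_dvd_of_mul_eq p (d := 1) ((one_mul _).trans e)
    have h6 : chevG2.nroots / 2 = 6 := by decide
    rw [h6]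
    exact dvd_step (dvd_step hv (c 6 (by norm_num))) (c 2 (by norm_num))
  · have e := Cfsg.Agent.S1060.result (F := F) (q := q) rfl
    have hv' := ordProj_dvd_of_mul_eq p e
    have h6 : chevB2.nroots / 2 = 4 := by decide
    rw [h6]
    exact dvd_step (dvd_step hv' (c 4 (by norm_num))) (c 2 (by norm_num))
  · have e := Cfsg.Agent.S1061.result (F := F) (q := q) rfl
    have hv' := ordProj_dvd_of_mul_eq p e
    have h6 : chevD4.nroots / 2 = 12 := by decide
    rw [h6]
    exact dvd_step (dvd_step (dvd_step (dvd_step hv' (c 6 (by norm_num))) (c 4 (by norm_num)))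
      (c 4 (by norm_num))) (c 2 (by norm_num))
  · have e := Cfsg.Agent.S1062.result (F := F) (q := q) rfl
    have hv := ordProj_dvd_of_mul_eq p (d := 1) ((one_mul _).trans e)
    have h6 : chevF4.nroots / 2 = 24 := by decide
    rw [h6]
    exact dvd_step (dvd_step (dvd_step (dvd_step hv (c 12 (by norm_num))) (c 8 (by norm_num)))
      (c 6 (by norm_num))) (c 2 (by norm_num))
  · have e := Cfsg.Agent.S1063.result (F := F) (q := q) rfl
    have hv' := ordProj_dvd_of_mul_eq p e
    have h6 : chevE6.nroots / 2 = 36 := by decide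
    rw [h6]
    exact dvd_step (dvd_step (dvd_step (dvd_step (dvd_step (dvd_step hv' (c 12 (by norm_num)))
      (c 9 (by norm_num))) (c 8 (by norm_num))) (c 6 (by norm_num))) (c 5 (by norm_num)))
      (c 2 (by norm_num))
  · have e := Cfsg.Agent.S1064.result (F := F) (q := q) rfl
    have hv' := ordProj_dvd_of_mul_eq p e
    have h6 : chevE7.nroots / 2 = 63 := by decide
    rw [h6]
    exact dvd_step (dvd_step (dvd_step (dvd_step (dvd_step (dvd_step (dvd_step hv'
      (c 18 (by norm_num))) (c 14 (by norm_num))) (c 12 (by norm_num))) (c 10 (by norm_num)))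
      (c 8 (by norm_num))) (c 6 (by norm_num))) (c 2 (by norm_num))
  · have e := Cfsg.Agent.S1065.result (F := F) (q := q) rfl
    have hv := ordProj_dvd_of_mul_eq p (d := 1) ((one_mul _).trans e)
    have h6 : chevE8.nroots / 2 = 120 := by decide
    rw [h6]
    exact dvd_step (dvd_step (dvd_step (dvd_step (dvd_step (dvd_step (dvd_step (dvd_step hv
      (c 30 (by norm_num))) (c 24 (by norm_num))) (c 20 (by norm_num))) (c 18 (by norm_num)))
      (c 14 (by norm_num))) (c 12 (by norm_num))) (c 8 (by norm_num))) (c 2 (by norm_num))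

end Cfsg.Agent.Lib.helper14
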