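import Mathlib
import Cfsg.Prelude.Def_GeometricClasses
import Cfsg.Agent.Lib.helper14.SubA
import Cfsg.Agent.Lib.helper14.SubC
import Cfsg.Agent.Lib.helper14.JorA

set_option autoImplicit false

/-!
# Conjugating elements `x³ = μ³` (characteristic 3) into the subfield subgroup
-/

namespace Cfsg.Agent.Lib.helper14.SubE

open Matrix Module

variable {F : Type*} [Field F] {n : ℕ}

/-- variant of `SubA.finish_sub` allowing a rational change of the normal form -/
theorem finish_sub2 (F₀ : Subfield F) {ι : Type*} [Fintype ι] [DecidableEq ι]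
    (x : Matrix.SpecialLinearGroup (Fin n) F)
    (g : Matrix (Fin n) ι F) (g' : Matrix ι (Fin n) F) (hgg' : g * g' = 1) (hg'g : g' * g = 1)
    (M : Matrix ι ι F) (hx : (x : Matrix (Fin n) (Fin n) F) = g * M * g')
    (c : F) (hc : c ≠ 0) (hM : ∀ i j, c⁻¹ * M i j ∈ F₀)
    (hC : ∀ d : F, d ≠ 0 → ∃ s T T' : Matrix ι ι F, s * M = M * s ∧ T * T' = 1 ∧
      (∀ i j, T i j ∈ F₀) ∧ (∀ i j, T' i j ∈ F₀) ∧ s.det * T.det = d) :
    ∃ P : Matrix.SpecialLinearGroup (Fin n) F, P⁻¹ * x * P ∈ SubA.HS n F₀ := by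
  have hcard : Fintype.card ι = Fintype.card (Fin n) := by
    have e := (Matrix.toLin'OfInv hg'g hgg').finrank_eq
    rw [Module.finrank_fintype_fun_eq_card, Module.finrank_fintype_fun_eq_card] at e
    exact e
  let e : ι ≃ Fin n := Fintype.equivOfCardEq hcard
  set g₁ : Matrix (Fin n) (Fin n) F := g.submatrix id e.symm with hg₁
  set g₁' : Matrix (Fin n) (Fin n) F := g'.submatrix e.symm id with hg₁'
  have h1 : g₁ * g₁' = 1 := by
    rw [hg₁, hg₁', Matrix.submatrix_mul_equiv, hgg', Matrix.submatrix_id_id]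
  have h2 : g₁' * g₁ = 1 := by
    have := Matrix.submatrix_mul_equiv g' g e.symm (Equiv.refl (Fin n)) e.symm
    rw [hg₁, hg₁']
    rw [show (id : Fin n → Fin n) = ⇑(Equiv.refl (Fin n)) from rfl, this, hg'g,
      Matrix.submatrix_one_equiv]
  have hδ : g₁.det * g₁'.det = 1 := by rw [← Matrix.det_mul, h1, Matrix.det_one]
  have hδ0 : g₁.det ≠ 0 := left_ne_zero_of_mul_eq_one hδ
  obtain ⟨s, T, T', hs1, hTT', hTm, hT'm, hdet⟩ := hC (g₁.det)⁻¹ (inv_ne_zero hδ0)
  have hT'T : T' * T = 1 := mul_eq_one_comm.mp hTT'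
  set M₂ : Matrix ι ι F := T' * M * T with hM₂
  set P₀ : Matrix ι ι F := s * T with hP₀
  have hMP : M * P₀ = P₀ * M₂ := by
    rw [hP₀, hM₂]
    calc M * (s * T) = (s * M) * T := by rw [hs1, Matrix.mul_assoc]
      _ = s * (T * T') * M * T := by rw [hTT', Matrix.mul_one]
      _ = s * T * (T' * M * T) := by simp only [Matrix.mul_assoc]
  have hM₂m : ∀ i j, c⁻¹ * M₂ i j ∈ F₀ := by
    intro i j
    have : c⁻¹ * M₂ i j = ∑ b, (∑ a, T' i a * (c⁻¹ * M a b)) * T b j := by
      rw [hM₂, Matrix.mul_apply, Finset.mul_sum]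
      apply Finset.sum_congr rfl
      intro b _
      rw [Matrix.mul_apply, Finset.sum_mul, Finset.mul_sum, Finset.sum_mul]
      apply Finset.sum_congr rfl
      intro a _
      ring
    rw [this]
    exact F₀.sum_mem (fun b _ => F₀.mul_mem (F₀.sum_mem (fun a _ => F₀.mul_mem (hT'm _ _) (hM _ _)))
      (hTm _ _))
  set P₁ : Matrix (Fin n) (Fin n) F := P₀.submatrix e.symm e.symm with hP₁
  set M₁ : Matrix (Fin n) (Fin n) F := M.submatrix e.symm e.symm with hM₁
  set M₃ : Matrix (Fin n) (Fin n) F := M₂.submatrix e.symm e.symm with hM₃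
  have hx1 : (x : Matrix (Fin n) (Fin n) F) = g₁ * M₁ * g₁' := by
    rw [hx, hg₁, hM₁, hg₁', Matrix.submatrix_mul_equiv, Matrix.submatrix_mul_equiv]
    rfl
  have hMP₁ : M₁ * P₁ = P₁ * M₃ := by
    rw [hM₁, hP₁, hM₃, Matrix.submatrix_mul_equiv, Matrix.submatrix_mul_equiv, hMP]
  have hP₁det : P₁.det = (g₁.det)⁻¹ := by
    rw [hP₁, Matrix.det_submatrix_equiv_self, hP₀, Matrix.det_mul, hdet]
  obtain ⟨P, hP⟩ : ∃ P : Matrix.SpecialLinearGroup (Fin n) F,
      (P : Matrix (Fin n) (Fin n) F) = g₁ * P₁ :=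
    ⟨⟨g₁ * P₁, by rw [Matrix.det_mul, hP₁det, mul_inv_cancel₀ hδ0]⟩, rfl⟩
  refine ⟨P, SubA.conj_mem_HS F₀ x P M₃ ?_ c hc (fun i j => hM₂m _ _)⟩
  rw [hP, hx1]
  calc g₁ * M₁ * g₁' * (g₁ * P₁) = g₁ * M₁ * (g₁' * g₁) * P₁ := by
        simp only [Matrix.mul_assoc]
    _ = g₁ * (M₁ * P₁) := by rw [h2, Matrix.mul_one, Matrix.mul_assoc]
    _ = g₁ * P₁ * M₃ := by rw [hMP₁, Matrix.mul_assoc]

open JorA in
/-- characteristic 3, `x³ = μ³`: `x = μ(1+N)` with `N³ = 0` -/
theorem conj_char_three (F₀ : Subfield F) (x : Matrix.SpecialLinearGroup (Fin n) F) (μ : F)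
    (hμ : μ ≠ 0) [CharP F 3] (hn : 1 ≤ n) (hcube : ∀ c : F, ∃ a : F, a * a * a = c)
    (hx : (x : Matrix (Fin n) (Fin n) F) * (x : Matrix (Fin n) (Fin n) F) *
      (x : Matrix (Fin n) (Fin n) F) = (μ * μ * μ) • (1 : Matrix (Fin n) (Fin n) F))
    (hsqcase : Even n → ∃ a₀ : F, a₀ ∈ F₀ ∧ a₀ ≠ 0 ∧
      ∀ d : F, d ≠ 0 → (∃ b : F, b * b = d) ∨ (∃ b : F, a₀ * (b * b) = d)) :
    ∃ P : Matrix.SpecialLinearGroup (Fin n) F, P⁻¹ * x * P ∈ SubA.HS n F₀ := by
  classical
  have hne : Nonempty (Fin n) := ⟨⟨0, by omega⟩⟩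
  haveI : CharP (Matrix (Fin n) (Fin n) F) 3 := Matrix.charP 3
  set A : Matrix (Fin n) (Fin n) F := μ⁻¹ • (x : Matrix (Fin n) (Fin n) F) with hA
  have hA3 : A ^ 3 = 1 := by
    rw [pow_succ, pow_two, hA]
    simp only [Matrix.smul_mul, Matrix.mul_smul, smul_smul]
    rw [hx, smul_smul]
    have : μ⁻¹ * (μ⁻¹ * μ⁻¹) * (μ * μ * μ) = 1 := by field_simp
    rw [this, one_smul]
  set Nm : Matrix (Fin n) (Fin n) F := A - 1 with hNm
  have hNm3 : Nm * Nm * Nm = 0 := by
    have : Nm ^ 3 = 0 := by
      rw [hNm, sub_pow_char_of_commute 3 (Commute.one_right A), hA3, one_pow, sub_self]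
    rw [← this, pow_succ, pow_two]
  have hxN : (x : Matrix (Fin n) (Fin n) F) = μ • (1 + Nm) := by
    rw [hNm, hA]
    rw [add_sub_cancel, smul_smul, mul_inv_cancel₀ hμ, one_smul]
  set N : Module.End F (Fin n → F) := Matrix.toLin' Nm with hN
  have hN3 : ∀ v, N (N (N v)) = 0 := by
    intro v
    rw [hN, Matrix.toLin'_apply, Matrix.toLin'_apply, Matrix.toLin'_apply, Matrix.mulVec_mulVec,
      Matrix.mulVec_mulVec, hNm3, Matrix.zero_mulVec]
  have hxv : ∀ v, (x : Matrix (Fin n) (Fin n) F) *ᵥ v = μ • v + μ • N v := by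
    intro v
    rw [hxN, Matrix.smul_mulVec, Matrix.add_mulVec, Matrix.one_mulVec, smul_add, hN,
      Matrix.toLin'_apply]
  obtain ⟨r₃, r₂, r₁, B, hBa, hBb, hBc, hBd, hBe, hBf⟩ := exists_jordan_cube_zero N hN3
  have hcard : r₃ + (r₃ + (r₃ + (r₂ + (r₂ + r₁)))) = n := by
    have := Module.finrank_eq_card_basis B
    rw [Module.finrank_fin_fun] at this
    simp only [Fintype.card_sum, Fintype.card_fin] at this
    omega
  obtain ⟨g, g', hgg', hg'g, hxg⟩ := SubA.of_basis_gen (x : Matrix (Fin n) (Fin n) F) B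
  set M := LinearMap.toMatrix B B (Matrix.toLin' (x : Matrix (Fin n) (Fin n) F)) with hMdef
  have hM : ∀ i j, M i j = μ * (Finsupp.single j (1 : F) i + B.repr (N (B j)) i) := by
    intro i j
    rw [hMdef, LinearMap.toMatrix_apply, Matrix.toLin'_apply, hxv, map_add, map_smul, map_smul,
      Basis.repr_self]
    simp only [Finsupp.coe_add, Finsupp.coe_smul, Pi.add_apply, Pi.smul_apply, smul_eq_mul]
    ring
  have hE : ∀ i j, B.repr (N (B j)) i ≠ 0 →
      (∃ t, j = ia t ∧ i = ib t) ∨ (∃ t, j = ib t ∧ i = ic t) ∨ (∃ t, j = id' t ∧ i = ie t) := by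
    intro i j h
    have key : ∀ (i' : Idx r₃ r₂ r₁), B.repr (B i') i ≠ 0 → i = i' := by
      intro i' h'
      rw [Basis.repr_self, Finsupp.single_apply] at h'
      by_contra hne'
      rw [if_neg (fun h'' => hne' h''.symm)] at h'
      exact h' rfl
    rcases j with t | t | t | t | t | t
    · left
      refine ⟨t, rfl, key _ ?_⟩
      have := hBa t
      unfold ia at this
      rw [← this]
      exact h
    · right; left
      refine ⟨t, rfl, key _ ?_⟩
      have := hBb t
      unfold ib at this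
      rw [← this]
      exact h
    · exfalso
      have := hBc t
      unfold ic at this
      rw [this, map_zero] at h
      exact h rfl
    · right; right
      refine ⟨t, rfl, key _ ?_⟩
      have := hBd t
      unfold id' at this
      rw [← this]
      exact h
    · exfalso
      have := hBe t
      unfold ie at this
      rw [this, map_zero] at h
      exact h rfl
    · exfalso
      have := hBf t
      unfold if' at this
      rw [this, map_zero] at h
      exact h rfl
  have hEmem : ∀ i j, B.repr (N (B j)) i ∈ F₀ := by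
    intro i j
    rcases j with t | t | t | t | t | t
    · have := hBa t
      unfold ia at this
      rw [this, Basis.repr_self]
      exact SubC.single_mem F₀ _ _
    · have := hBb t
      unfold ib at this
      rw [this, Basis.repr_self]
      exact SubC.single_mem F₀ _ _
    · have := hBc t
      unfold ic at this
      rw [this, map_zero]
      exact F₀.zero_mem
    · have := hBd t
      unfold id' at this
      rw [this, Basis.repr_self]
      exact SubC.single_mem F₀ _ _
    · have := hBe t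
      unfold ie at this
      rw [this, map_zero]
      exact F₀.zero_mem
    · have := hBf t
      unfold if' at this
      rw [this, map_zero]
      exact F₀.zero_mem
  have hcomm : ∀ w : Idx r₃ r₂ r₁ → F, (∀ t, w (ib t) = w (ia t)) → (∀ t, w (ic t) = w (ib t)) →
      (∀ t, w (ie t) = w (id' t)) → Matrix.diagonal w * M = M * Matrix.diagonal w := by
    intro w h1 h2 h3
    apply SubC.diag_comm
    intro i j hij
    by_cases hji : j = i
    · rw [hji]
    · rw [hM, Finsupp.single_apply, if_neg hji, zero_add] at hij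
      have h' : B.repr (N (B j)) i ≠ 0 := fun h0 => hij (by rw [h0, mul_zero])
      rcases hE i j h' with ⟨t, rfl, rfl⟩ | ⟨t, rfl, rfl⟩ | ⟨t, rfl, rfl⟩
      · exact h1 t
      · exact h2 t
      · exact h3 t
  have hone_mem : ∀ i j : Idx r₃ r₂ r₁, (1 : Matrix (Idx r₃ r₂ r₁) (Idx r₃ r₂ r₁) F) i j ∈ F₀ := by
    intro i j
    rw [Matrix.one_apply]
    split_ifs
    · exact F₀.one_mem
    · exact F₀.zero_mem
  apply finish_sub2 F₀ x g g' hgg' hg'g M hxg μ hμ
  · intro i j
    rw [hM, ← mul_assoc, inv_mul_cancel₀ hμ, one_mul]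
    exact F₀.add_mem (SubC.single_mem F₀ _ _) (hEmem i j)
  · intro d hd
    by_cases h1 : 0 < r₁
    · refine ⟨Matrix.diagonal (Function.update (fun _ => (1 : F)) (if' ⟨0, h1⟩) d), 1, 1,
        hcomm _ ?_ ?_ ?_, Matrix.one_mul 1, hone_mem, hone_mem, ?_⟩
      · intro t
        rw [Function.update_of_ne (by simp [ib, if']), Function.update_of_ne (by simp [ia, if'])]
      · intro t
        rw [Function.update_of_ne (by simp [ic, if']), Function.update_of_ne (by simp [ib, if'])]
      · intro t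
        rw [Function.update_of_ne (by simp [ie, if']), Function.update_of_ne (by simp [id', if'])]
      · rw [SubC.det_diag_update, Matrix.det_one, mul_one]
    · by_cases h3 : 0 < r₃
      · obtain ⟨a, ha⟩ := hcube d
        set f₃ : Fin r₃ → F := fun t => if t = ⟨0, h3⟩ then a else 1 with hf₃
        set w : Idx r₃ r₂ r₁ → F :=
          Sum.elim f₃ (Sum.elim f₃ (Sum.elim f₃ (fun _ => 1))) with hw
        refine ⟨Matrix.diagonal w, 1, 1, hcomm w (fun t => rfl) (fun t => rfl) (fun t => rfl),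
          Matrix.one_mul 1, hone_mem, hone_mem, ?_⟩
        rw [Matrix.det_one, mul_one, Matrix.det_diagonal, Fintype.prod_sum_type,
          Fintype.prod_sum_type, Fintype.prod_sum_type]
        simp only [hw, hf₃, Sum.elim_inl, Sum.elim_inr, Finset.prod_ite_eq', Finset.mem_univ,
          if_true, Finset.prod_const_one, mul_one]
        rw [← ha]
        ring
      · have hr₂ : 0 < r₂ := by omega
        have heven : Even n := ⟨r₂, by omega⟩
        obtain ⟨a₀, ha₀m, ha₀0, hd2⟩ := hsqcase heven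
        set t₀ : Fin r₂ := ⟨0, hr₂⟩ with ht₀
        have hwdef : ∀ b : F, ∃ w : Idx r₃ r₂ r₁ → F, (∀ t, w (ib t) = w (ia t)) ∧
            (∀ t, w (ic t) = w (ib t)) ∧ (∀ t, w (ie t) = w (id' t)) ∧
            (Matrix.diagonal w).det = b * b := by
          intro b
          set f₂ : Fin r₂ → F := fun t => if t = t₀ then b else 1 with hf₂
          refine ⟨Sum.elim (fun _ => 1) (Sum.elim (fun _ => 1) (Sum.elim (fun _ => 1)
            (Sum.elim f₂ (Sum.elim f₂ (fun _ => 1))))), fun t => rfl, fun t => rfl, fun t => rfl, ?_⟩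
          rw [Matrix.det_diagonal, Fintype.prod_sum_type, Fintype.prod_sum_type,
            Fintype.prod_sum_type, Fintype.prod_sum_type, Fintype.prod_sum_type]
          simp only [hf₂, Sum.elim_inl, Sum.elim_inr, Finset.prod_ite_eq', Finset.mem_univ,
            if_true, Finset.prod_const_one, mul_one, one_mul]
        rcases hd2 d hd with ⟨b, hb⟩ | ⟨b, hb⟩
        · obtain ⟨w, hw1, hw2, hw3, hwdet⟩ := hwdef b
          refine ⟨Matrix.diagonal w, 1, 1, hcomm w hw1 hw2 hw3, Matrix.one_mul 1, hone_mem,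
            hone_mem, ?_⟩
          rw [Matrix.det_one, mul_one, hwdet, hb]
        · obtain ⟨w, hw1, hw2, hw3, hwdet⟩ := hwdef b
          have hdiag_mem : ∀ (a : F), a ∈ F₀ → ∀ i j : Idx r₃ r₂ r₁,
              (Matrix.diagonal (Function.update (fun _ => (1 : F)) (id' t₀) a)) i j ∈ F₀ := by
            intro a ha i j
            rw [Matrix.diagonal_apply]
            split_ifs with hij
            · by_cases hi : i = id' t₀
              · rw [hi, Function.update_self]
                exact ha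
              · rw [Function.update_of_ne hi]
                exact F₀.one_mem
            · exact F₀.zero_mem
          refine ⟨Matrix.diagonal w,
            Matrix.diagonal (Function.update (fun _ => (1 : F)) (id' t₀) a₀),
            Matrix.diagonal (Function.update (fun _ => (1 : F)) (id' t₀) a₀⁻¹),
            hcomm w hw1 hw2 hw3, ?_, hdiag_mem a₀ ha₀m, hdiag_mem a₀⁻¹ (F₀.inv_mem ha₀m), ?_⟩
          · rw [Matrix.diagonal_mul_diagonal, ← Matrix.diagonal_one]
            congr 1
            funext i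
            by_cases hi : i = id' t₀
            · rw [hi, Function.update_self, Function.update_self, mul_inv_cancel₀ ha₀0]
            · rw [Function.update_of_ne hi, Function.update_of_ne hi, mul_one]
          · rw [hwdet, SubC.det_diag_update, ← hb]
            ring

end Cfsg.Agent.Lib.helper14.SubE
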