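import Mathlib
import Cfsg.Prelude.Def_GeometricClasses
import Cfsg.Agent.Lib.helper14.SubA
import Cfsg.Agent.Lib.helper14.SubC

set_option autoImplicit false

/-!
# A unipotent element of `SL_{2m}` with all Jordan blocks of size 2 that is conjugate to no element
of the subfield subgroup (when every element of the subfield is a square)
-/

namespace Cfsg.Agent.Lib.helper14.SubG

open Matrix Module

variable {F : Type*} [Field F]

theorem det_mem_subfield (F₀ : Subfield F) {ι : Type*} [Fintype ι] [DecidableEq ι]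
    (A : Matrix ι ι F) (h : ∀ i j, A i j ∈ F₀) : A.det ∈ F₀ := by
  rw [Matrix.det_apply']
  apply F₀.sum_mem
  intro σ _
  apply F₀.mul_mem
  · exact F₀.intCast_mem _
  · exact F₀.prod_mem (fun i _ => h _ _)

/-- the nilpotent normal form with `m` blocks of size 2 -/
def EE (R : Type*) [Zero R] [One R] (m : ℕ) : Matrix (Fin m ⊕ Fin m) (Fin m ⊕ Fin m) R :=
  fromBlocks 0 0 1 0

theorem EE_sq (m : ℕ) : EE F m * EE F m = 0 := by
  unfold EE
  rw [Matrix.fromBlocks_multiply]
  simp

theorem EE_mulVec (m : ℕ) (v : Fin m ⊕ Fin m → F) :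
    EE F m *ᵥ v = Sum.elim (fun _ => (0 : F)) (fun i => v (Sum.inl i)) := by
  unfold EE
  rw [Matrix.fromBlocks_mulVec]
  funext i
  rcases i with i | i
  · simp
  · simp

/-- the centralizer of `EE` has square determinants -/
theorem centralizer_det_sq (m : ℕ) (S : Matrix (Fin m ⊕ Fin m) (Fin m ⊕ Fin m) F)
    (hS : S * EE F m = EE F m * S) : ∃ a : F, S.det = a * a := by
  rw [← Matrix.fromBlocks_toBlocks S] at hS ⊢
  unfold EE at hS
  rw [Matrix.fromBlocks_multiply, Matrix.fromBlocks_multiply] at hS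
  simp only [Matrix.mul_zero, Matrix.mul_one, Matrix.zero_mul, Matrix.one_mul, zero_add,
    add_zero] at hS
  rw [Matrix.fromBlocks_inj] at hS
  obtain ⟨h1, _, h3, _⟩ := hS
  rw [h1, h3, Matrix.det_fromBlocks_zero₁₂]
  exact ⟨_, rfl⟩

/-- an `F₀`-rational (up to a scalar) unipotent matrix with `(Y-1)² = 0` is `F₀`-rational -/
theorem rational_of_unipotent (F₀ : Subfield F) (h2 : (2 : F) ≠ 0) {n : ℕ}
    (Y : Matrix (Fin n) (Fin n) F) (hY : (Y - 1) * (Y - 1) = 0) (hY1 : Y ≠ 1)
    (c' : F) (hc' : c' ≠ 0) (hm : ∀ i j, c'⁻¹ * Y i j ∈ F₀) : ∀ i j, Y i j ∈ F₀ := by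
  have hYY : Y * Y = 2 • Y - 1 := by
    have : (Y - 1) * (Y - 1) = Y * Y - 2 • Y + 1 := by
      rw [Matrix.sub_mul, Matrix.mul_sub, Matrix.mul_sub, Matrix.mul_one, Matrix.one_mul,
        Matrix.one_mul, two_smul]
      abel
    rw [this] at hY
    apply eq_of_sub_eq_zero
    have e : Y * Y - (2 • Y - 1) = Y * Y - 2 • Y + 1 := by abel
    rw [e, hY]
  by_cases hoff : ∃ i j, i ≠ j ∧ Y i j ≠ 0
  · obtain ⟨i, j, hij, hYij⟩ := hoff
    have h1 := congrFun (congrFun hYY i) j
    rw [Matrix.sub_apply, Matrix.smul_apply, Matrix.one_apply_ne hij, sub_zero,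
      Matrix.mul_apply] at h1
    -- Σ_k Y i k * Y k j = 2 Y i j
    set a : F := ∑ k, (c'⁻¹ * Y i k) * (c'⁻¹ * Y k j) with ha
    have haF : a ∈ F₀ := F₀.sum_mem (fun k _ => F₀.mul_mem (hm _ _) (hm _ _))
    have hrel : c' * c' * a = 2 * Y i j := by
      rw [ha, Finset.mul_sum]
      have h1' : ∑ k, Y i k * Y k j = 2 * Y i j := by
        rw [h1]
        simp
      rw [← h1']
      apply Finset.sum_congr rfl
      intro k _
      field_simp
    have ha0 : a ≠ 0 := by
      intro h0
      rw [h0, mul_zero] at hrel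
      rcases mul_eq_zero.mp hrel.symm with h | h
      · exact h2 h
      · exact hYij h
    have hcF : c' ∈ F₀ := by
      have : c' = (2 : F) * (c'⁻¹ * Y i j) * a⁻¹ := by
        field_simp
        linear_combination hrel
      rw [this]
      have h2F : (2 : F) ∈ F₀ := by
        have : (2 : F) = 1 + 1 := by norm_num
        rw [this]
        exact F₀.add_mem F₀.one_mem F₀.one_mem
      exact F₀.mul_mem (F₀.mul_mem h2F (hm _ _)) (F₀.inv_mem haF)
    intro i' j'
    have : Y i' j' = c' * (c'⁻¹ * Y i' j') := by field_simp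
    rw [this]
    exact F₀.mul_mem hcF (hm _ _)
  · exfalso
    push Not at hoff
    apply hY1
    ext i j
    by_cases hij : i = j
    · subst hij
      rw [Matrix.one_apply_eq]
      have h1 := congrFun (congrFun hY i) i
      rw [Matrix.mul_apply, Matrix.zero_apply] at h1
      rw [Finset.sum_eq_single i] at h1
      · rw [Matrix.sub_apply, Matrix.one_apply_eq] at h1
        have := mul_self_eq_zero.mp h1
        exact sub_eq_zero.mp this
      · intro k _ hk
        rw [Matrix.sub_apply, Matrix.sub_apply, Matrix.one_apply_ne hk, hoff k i hk, sub_zero,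
          mul_zero]
      · intro h
        exact absurd (Finset.mem_univ i) h
    · rw [Matrix.one_apply_ne hij]
      exact hoff i j hij


/-- a rational matrix of square zero whose kernel equals its image (over `F`) has a rational
adapted basis -/
theorem exists_rational_adapted (F₀ : Subfield F) (m n : ℕ) (hn : n = m + m)
    (N0 : Matrix (Fin n) (Fin n) F₀) (hN0 : N0 * N0 = 0)
    (hker : ∀ w : Fin n → F, (N0.map F₀.subtype) *ᵥ w = 0 →
      ∃ u : Fin n → F, w = (N0.map F₀.subtype) *ᵥ u) :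
    ∃ (G0 : Matrix (Fin n) (Fin m ⊕ Fin m) F₀) (G0' : Matrix (Fin m ⊕ Fin m) (Fin n) F₀),
      G0 * G0' = 1 ∧ G0' * G0 = 1 ∧ N0 = G0 * EE F₀ m * G0' := by
  classical
  set Nl : Module.End F₀ (Fin n → F₀) := Matrix.toLin' N0 with hNl
  have hNN : ∀ v, Nl (Nl v) = 0 := by
    intro v
    rw [hNl, Matrix.toLin'_apply, Matrix.toLin'_apply, Matrix.mulVec_mulVec, hN0,
      Matrix.zero_mulVec]
  obtain ⟨r, d, B, hB0, hB1, hB2⟩ := SubC.exists_jordan_sq_zero Nl hNN
  have hcard : r + (r + d) = n := by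
    have := Module.finrank_eq_card_basis B
    rw [Module.finrank_fin_fun, Fintype.card_sum, Fintype.card_sum, Fintype.card_fin,
      Fintype.card_fin] at this
    omega
  have hd : d = 0 := by
    by_contra hd
    have hdpos : 0 < d := Nat.pos_of_ne_zero hd
    set j₀ : Fin r ⊕ (Fin r ⊕ Fin d) := Sum.inr (Sum.inr ⟨0, hdpos⟩) with hj₀
    obtain ⟨G₁, G₁', hG1, hG2, hG3⟩ := SubA.of_basis_gen N0 B
    set M0 := LinearMap.toMatrix B B (Matrix.toLin' N0) with hM0
    have hrow : ∀ i, M0 j₀ i = 0 := by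
      intro i
      rw [hM0, LinearMap.toMatrix_apply]
      rcases i with t | t | t
      · have := hB0 t
        rw [hNl] at this
        rw [this, Basis.repr_self, Finsupp.single_apply, if_neg]
        rw [hj₀]
        simp
      · have := hB1 t
        rw [hNl] at this
        rw [this, map_zero]
        rfl
      · have := hB2 t
        rw [hNl] at this
        rw [this, map_zero]
        rfl
    have hcol : ∀ i, M0 i j₀ = 0 := by
      intro i
      rw [hM0, LinearMap.toMatrix_apply]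
      have := hB2 ⟨0, hdpos⟩
      rw [hNl] at this
      rw [hj₀, this, map_zero]
      rfl
    set σ := F₀.subtype with hσ
    set G := G₁.map σ with hG
    set G' := G₁'.map σ with hG'
    set M := M0.map σ with hM
    have hG'G : G' * G = 1 := by
      rw [hG, hG', ← Matrix.map_mul, hG2, Matrix.map_one _ (map_zero σ) (map_one σ)]
    have hNmap : N0.map σ = G * M * G' := by
      conv_lhs => rw [hG3]
      rw [Matrix.map_mul, Matrix.map_mul]
    set ε : Fin r ⊕ (Fin r ⊕ Fin d) → F := Pi.single j₀ 1 with hε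
    have hMε : M *ᵥ ε = 0 := by
      funext i
      rw [hε, Matrix.mulVec_single_one]
      show M i j₀ = 0
      rw [hM, Matrix.map_apply, hcol, map_zero]
    have hw : (N0.map σ) *ᵥ (G *ᵥ ε) = 0 := by
      rw [hNmap, Matrix.mulVec_mulVec]
      calc (G * M * G' * G) *ᵥ ε = (G * M * (G' * G)) *ᵥ ε := by simp only [Matrix.mul_assoc]
        _ = G *ᵥ (M *ᵥ ε) := by rw [hG'G, Matrix.mul_one, Matrix.mulVec_mulVec]
        _ = 0 := by rw [hMε, Matrix.mulVec_zero]
    obtain ⟨u, hu⟩ := hker _ hw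
    have h1 : ε = M *ᵥ (G' *ᵥ u) := by
      have h' : G' *ᵥ (G *ᵥ ε) = G' *ᵥ ((N0.map σ) *ᵥ u) := by rw [← hu]
      rw [Matrix.mulVec_mulVec, hG'G, Matrix.one_mulVec, hNmap, Matrix.mulVec_mulVec] at h'
      rw [h']
      calc (G' * (G * M * G')) *ᵥ u = ((G' * G) * M * G') *ᵥ u := by simp only [Matrix.mul_assoc]
        _ = M *ᵥ (G' *ᵥ u) := by rw [hG'G, Matrix.one_mul, Matrix.mulVec_mulVec]
    have h2 := congrFun h1 j₀
    rw [hε, Pi.single_eq_same, Matrix.mulVec, dotProduct] at h2
    have h3 : ∑ i, M j₀ i * (G' *ᵥ u) i = 0 := by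
      apply Finset.sum_eq_zero
      intro i _
      rw [hM, Matrix.map_apply, hrow, map_zero, zero_mul]
    rw [h3] at h2
    exact one_ne_zero h2
  subst hd
  have hr : r = m := by omega
  subst hr
  let e' : Fin r ⊕ (Fin r ⊕ Fin 0) ≃ Fin r ⊕ Fin r :=
    Equiv.sumCongr (Equiv.refl _) (Equiv.sumEmpty (Fin r) (Fin 0))
  let B' : Basis (Fin r ⊕ Fin r) F₀ (Fin n → F₀) := B.reindex e'
  have hB'l : ∀ t, B' (Sum.inl t) = B (Sum.inl t) := by
    intro t
    simp [B', e', Basis.reindex_apply]
  have hB'r : ∀ t, B' (Sum.inr t) = B (Sum.inr (Sum.inl t)) := by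
    intro t
    simp [B', e', Basis.reindex_apply]
  obtain ⟨G0, G0', hG1, hG2, hG3⟩ := SubA.of_basis_gen N0 B'
  refine ⟨G0, G0', hG1, hG2, ?_⟩
  have hMat : LinearMap.toMatrix B' B' (Matrix.toLin' N0) = EE F₀ r := by
    ext i j
    rw [LinearMap.toMatrix_apply]
    rcases j with t | t
    · rw [hB'l]
      have := hB0 t
      rw [hNl] at this
      rw [this, ← hB'r, Basis.repr_self]
      rcases i with s | s
      · simp [EE]
      · simp [EE, Finsupp.single_apply, Matrix.one_apply, eq_comm]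
    · rw [hB'r]
      have := hB1 t
      rw [hNl] at this
      rw [this, map_zero]
      rcases i with s | s <;> simp [EE]
  rw [← hMat]
  exact hG3


/-- left multiplication by a row-reindexed matrix -/
theorem submatrix_id_symm_mul {ι : Type*} [Fintype ι] [DecidableEq ι] {n : ℕ} (e : ι ≃ Fin n)
    (D : Matrix ι ι F) (A : Matrix (Fin n) ι F) :
    D.submatrix id e.symm * A = D * A.submatrix e id := by
  ext i j
  rw [Matrix.mul_apply, Matrix.mul_apply]
  apply Fintype.sum_equiv e.symm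
  intro k
  simp

/-- the bad element -/
theorem exists_bad [CharP F 3] (F₀ : Subfield F) (m n : ℕ) (hm : 1 ≤ m) (hn : n = m + m)
    (hsq : ∀ a : F, a ∈ F₀ → ∃ b : F, b * b = a) (c : F) (hc : ∀ b : F, b * b ≠ c) :
    ∃ x : Matrix.SpecialLinearGroup (Fin n) F,
      (x : Matrix (Fin n) (Fin n) F) * (x : Matrix (Fin n) (Fin n) F) *
        (x : Matrix (Fin n) (Fin n) F) = 1 ∧
      (∀ z : F, (x : Matrix (Fin n) (Fin n) F) ≠ z • (1 : Matrix (Fin n) (Fin n) F)) ∧
      ∀ P : Matrix.SpecialLinearGroup (Fin n) F, P⁻¹ * x * P ∉ SubA.HS n F₀ := by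
  classical
  have h2 : (2 : F) ≠ 0 := by
    intro h
    have h' : ((2 : ℕ) : F) = 0 := by exact_mod_cast h
    rw [CharP.cast_eq_zero_iff F 3] at h'
    omega
  have hc0 : c ≠ 0 := fun h => hc 0 (by rw [h, mul_zero])
  let e : Fin m ⊕ Fin m ≃ Fin n := finSumFinEquiv.trans (finCongr hn.symm)
  set i₀ : Fin m ⊕ Fin m := Sum.inl ⟨0, hm⟩ with hi₀
  set i₁ : Fin m ⊕ Fin m := Sum.inr ⟨0, hm⟩ with hi₁
  have hi₁₀ : i₁ ≠ i₀ := by simp [hi₀, hi₁]
  set wc : Fin m ⊕ Fin m → F := Function.update (fun _ => (1 : F)) i₀ c with hwc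
  set wc' : Fin m ⊕ Fin m → F := Function.update (fun _ => (1 : F)) i₀ c⁻¹ with hwc'
  set Dc : Matrix (Fin m ⊕ Fin m) (Fin m ⊕ Fin m) F := Matrix.diagonal wc with hDc
  set Dc' : Matrix (Fin m ⊕ Fin m) (Fin m ⊕ Fin m) F := Matrix.diagonal wc' with hDc'
  have hww' : ∀ i, wc i * wc' i = 1 := by
    intro i
    by_cases hi : i = i₀
    · rw [hi, hwc, hwc', Function.update_self, Function.update_self, mul_inv_cancel₀ hc0]
    · rw [hwc, hwc', Function.update_of_ne hi, Function.update_of_ne hi, mul_one]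
  have hDD' : Dc * Dc' = 1 := by
    rw [hDc, hDc', Matrix.diagonal_mul_diagonal, ← Matrix.diagonal_one]
    congr 1
    funext i
    exact hww' i
  have hD'D : Dc' * Dc = 1 := by
    rw [hDc, hDc', Matrix.diagonal_mul_diagonal, ← Matrix.diagonal_one]
    congr 1
    funext i
    rw [mul_comm]
    exact hww' i
  have hDc'det : Dc'.det = c⁻¹ := SubC.det_diag_update i₀ c⁻¹
  set E := EE F m with hE
  have hEE : E * E = 0 := EE_sq m
  set Ec : Matrix (Fin m ⊕ Fin m) (Fin m ⊕ Fin m) F := Dc * E * Dc' with hEc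
  have hEcsq : Ec * Ec = 0 := by
    calc Dc * E * Dc' * (Dc * E * Dc') = Dc * E * (Dc' * Dc) * E * Dc' := by
          simp only [Matrix.mul_assoc]
      _ = Dc * (E * E) * Dc' := by rw [hD'D, Matrix.mul_one, Matrix.mul_assoc Dc]
      _ = 0 := by rw [hEE, Matrix.mul_zero, Matrix.zero_mul]
  have hEc10 : Ec i₁ i₀ = c⁻¹ := by
    rw [hEc, hDc, hDc', Matrix.mul_diagonal, Matrix.diagonal_mul, hwc, hwc',
      Function.update_of_ne hi₁₀, Function.update_self, hE]
    simp [EE, hi₀, hi₁]
  set U : Matrix (Fin m ⊕ Fin m) (Fin m ⊕ Fin m) F := 1 + Ec with hU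
  have hUdet : U.det = 1 := by
    have h1 : U = Dc * (1 + E) * Dc' := by
      rw [hU, hEc, Matrix.mul_add, Matrix.add_mul, Matrix.mul_one, hDD']
    have h2' : (1 : Matrix (Fin m ⊕ Fin m) (Fin m ⊕ Fin m) F) + E = fromBlocks 1 0 1 1 := by
      rw [hE, EE, ← Matrix.fromBlocks_one, Matrix.fromBlocks_add]
      simp
    rw [h1, Matrix.det_conj_of_mul_eq_one hDD' hD'D, h2', Matrix.det_fromBlocks_zero₁₂,
      Matrix.det_one, mul_one]
  have hne : Nonempty (Fin m ⊕ Fin m) := ⟨i₀⟩
  haveI : CharP (Matrix (Fin m ⊕ Fin m) (Fin m ⊕ Fin m) F) 3 := Matrix.charP 3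
  have hU3 : U * U * U = 1 := by
    have : U ^ 3 = 1 := by
      rw [hU, add_pow_char_of_commute 3 (Commute.one_left Ec), one_pow]
      have : Ec ^ 3 = 0 := by rw [pow_succ, pow_two, hEcsq, Matrix.zero_mul]
      rw [this, add_zero]
    rw [← this, pow_succ, pow_two]
  set X : Matrix (Fin n) (Fin n) F := U.submatrix e.symm e.symm with hX
  have hXdet : X.det = 1 := by rw [hX, Matrix.det_submatrix_equiv_self, hUdet]
  set XN : Matrix (Fin n) (Fin n) F := Ec.submatrix e.symm e.symm with hXN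
  have hXXN : X = 1 + XN := by
    rw [hX, hXN, hU]
    ext i j
    rw [Matrix.submatrix_apply, Matrix.add_apply, Matrix.add_apply, Matrix.submatrix_apply,
      Matrix.one_apply, Matrix.one_apply]
    simp only [EmbeddingLike.apply_eq_iff_eq]
  set gc : Matrix (Fin n) (Fin m ⊕ Fin m) F := Dc.submatrix e.symm id with hgc
  set gc' : Matrix (Fin m ⊕ Fin m) (Fin n) F := Dc'.submatrix id e.symm with hgc'
  have hgg' : gc * gc' = 1 := by
    have := Matrix.submatrix_mul_equiv Dc Dc' e.symm (Equiv.refl (Fin m ⊕ Fin m)) e.symm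
    rw [hgc, hgc', show (id : Fin m ⊕ Fin m → Fin m ⊕ Fin m) = ⇑(Equiv.refl (Fin m ⊕ Fin m)) from rfl,
      this, hDD', Matrix.submatrix_one_equiv]
  have hg'g : gc' * gc = 1 := by
    rw [hgc, hgc', Matrix.submatrix_mul_equiv, hD'D, Matrix.submatrix_id_id]
  have hXNg : XN = gc * E * gc' := by
    rw [hXN, hEc, hgc, hgc']
    ext i j
    simp only [Matrix.mul_apply, Matrix.submatrix_apply, id]
  have hXNsq : XN * XN = 0 := by
    rw [hXN, Matrix.submatrix_mul_equiv, hEcsq]
    rfl
  have hXN10 : XN (e i₁) (e i₀) = c⁻¹ := by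
    rw [hXN, Matrix.submatrix_apply, Equiv.symm_apply_apply, Equiv.symm_apply_apply, hEc10]
  have he10 : e i₁ ≠ e i₀ := fun h => hi₁₀ (e.injective h)
  obtain ⟨x, hx⟩ : ∃ x : Matrix.SpecialLinearGroup (Fin n) F,
      (x : Matrix (Fin n) (Fin n) F) = X := ⟨⟨X, hXdet⟩, rfl⟩
  refine ⟨x, ?_, ?_, ?_⟩
  · rw [hx, hX, Matrix.submatrix_mul_equiv, Matrix.submatrix_mul_equiv, hU3,
      Matrix.submatrix_one_equiv]
  · intro z hz
    have hz' : X = z • (1 : Matrix (Fin n) (Fin n) F) := by rw [← hx]; exact hz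
    have h1 := congrFun (congrFun hz' (e i₁)) (e i₀)
    rw [hXXN, Matrix.add_apply, Matrix.one_apply_ne he10, zero_add, hXN10, Matrix.smul_apply,
      Matrix.one_apply_ne he10, smul_zero] at h1
    exact inv_ne_zero hc0 h1
  · intro P hP
    rw [SubA.mem_HS] at hP
    obtain ⟨c', hc', hYm⟩ := hP
    set Pm : Matrix (Fin n) (Fin n) F := (P : Matrix (Fin n) (Fin n) F) with hPm
    set Pi' : Matrix (Fin n) (Fin n) F :=
      ((P⁻¹ : Matrix.SpecialLinearGroup (Fin n) F) : Matrix (Fin n) (Fin n) F) with hPi'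
    have hPPi : Pm * Pi' = 1 := by
      rw [hPm, hPi', ← Matrix.SpecialLinearGroup.coe_mul, mul_inv_cancel,
        Matrix.SpecialLinearGroup.coe_one]
    have hPiP : Pi' * Pm = 1 := by
      rw [hPm, hPi', ← Matrix.SpecialLinearGroup.coe_mul, inv_mul_cancel,
        Matrix.SpecialLinearGroup.coe_one]
    set Y : Matrix (Fin n) (Fin n) F :=
      ((P⁻¹ * x * P : Matrix.SpecialLinearGroup (Fin n) F) : Matrix (Fin n) (Fin n) F) with hY
    have hYeq : Y = Pi' * X * Pm := by
      rw [hY, Matrix.SpecialLinearGroup.coe_mul, Matrix.SpecialLinearGroup.coe_mul, hx]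
    have hYN : Y - 1 = Pi' * XN * Pm := by
      rw [hYeq, hXXN, Matrix.mul_add, Matrix.add_mul, Matrix.mul_one, hPiP, add_sub_cancel_left]
    have hYsq : (Y - 1) * (Y - 1) = 0 := by
      rw [hYN]
      calc Pi' * XN * Pm * (Pi' * XN * Pm) = Pi' * XN * (Pm * Pi') * XN * Pm := by
            simp only [Matrix.mul_assoc]
        _ = Pi' * (XN * XN) * Pm := by rw [hPPi, Matrix.mul_one, Matrix.mul_assoc Pi']
        _ = 0 := by rw [hXNsq, Matrix.mul_zero, Matrix.zero_mul]
    have hXNeq : XN = Pm * (Y - 1) * Pi' := by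
      rw [hYN]
      calc XN = (Pm * Pi') * XN * (Pm * Pi') := by rw [hPPi, Matrix.one_mul, Matrix.mul_one]
        _ = Pm * (Pi' * XN * Pm) * Pi' := by simp only [Matrix.mul_assoc]
    have hY1 : Y ≠ 1 := by
      intro h
      rw [h, sub_self, Matrix.mul_zero, Matrix.zero_mul] at hXNeq
      have := hXN10
      rw [hXNeq, Matrix.zero_apply] at this
      exact inv_ne_zero hc0 this.symm
    have hYF : ∀ i j, Y i j ∈ F₀ := rational_of_unipotent F₀ h2 Y hYsq hY1 c' hc' hYm
    set σ := F₀.subtype with hσ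
    let Y0 : Matrix (Fin n) (Fin n) F₀ := fun i j => ⟨Y i j, hYF i j⟩
    have hY0 : Y0.map σ = Y := by
      ext i j
      rfl
    set N0 : Matrix (Fin n) (Fin n) F₀ := Y0 - 1 with hN0
    have hN0map : N0.map σ = Y - 1 := by
      rw [hN0]
      ext i j
      rw [Matrix.map_apply, Matrix.sub_apply, Matrix.sub_apply, map_sub]
      congr 1
      by_cases hij : i = j
      · subst hij
        rw [Matrix.one_apply_eq, Matrix.one_apply_eq, map_one]
      · rw [Matrix.one_apply_ne hij, Matrix.one_apply_ne hij, map_zero]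
    have hN0sq : N0 * N0 = 0 := by
      apply Matrix.map_injective (Subtype.val_injective : Function.Injective σ)
      show (N0 * N0).map σ = (0 : Matrix (Fin n) (Fin n) F₀).map σ
      rw [Matrix.map_mul, hN0map, hYsq]
      ext i j
      simp
    -- `Y - 1 = R E R'`
    set R : Matrix (Fin n) (Fin m ⊕ Fin m) F := Pi' * gc with hR
    set R' : Matrix (Fin m ⊕ Fin m) (Fin n) F := gc' * Pm with hR'
    have hR'R : R' * R = 1 := by
      calc gc' * Pm * (Pi' * gc) = gc' * (Pm * Pi') * gc := by simp only [Matrix.mul_assoc]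
        _ = 1 := by rw [hPPi, Matrix.mul_one, hg'g]
    have hRR' : R * R' = 1 := by
      calc Pi' * gc * (gc' * Pm) = Pi' * (gc * gc') * Pm := by simp only [Matrix.mul_assoc]
        _ = 1 := by rw [hgg', Matrix.mul_one, hPiP]
    have hYR : Y - 1 = R * E * R' := by
      rw [hYN, hXNg, hR, hR']
      simp only [Matrix.mul_assoc]
    have hker : ∀ w : Fin n → F, (N0.map σ) *ᵥ w = 0 → ∃ u : Fin n → F, w = (N0.map σ) *ᵥ u := by
      intro w hw
      rw [hN0map, hYR] at hw ⊢
      set v : Fin m ⊕ Fin m → F := R' *ᵥ w with hv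
      have hEv : E *ᵥ v = 0 := by
        have h' : R' *ᵥ ((R * E * R') *ᵥ w) = 0 := by rw [hw, Matrix.mulVec_zero]
        rw [Matrix.mulVec_mulVec] at h'
        have e1 : R' * (R * E * R') = E * R' := by
          calc R' * (R * E * R') = (R' * R) * E * R' := by simp only [Matrix.mul_assoc]
            _ = E * R' := by rw [hR'R, Matrix.one_mul]
        rw [e1, ← Matrix.mulVec_mulVec] at h'
        exact h'
      have hvl : ∀ i, v (Sum.inl i) = 0 := by
        intro i
        have := congrFun hEv (Sum.inr i)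
        rw [hE, EE_mulVec] at this
        exact this
      set v' : Fin m ⊕ Fin m → F := Sum.elim (fun i => v (Sum.inr i)) (fun _ => 0) with hv'
      have hEv' : E *ᵥ v' = v := by
        rw [hE, EE_mulVec]
        funext i
        rcases i with i | i
        · exact (hvl i).symm
        · rfl
      refine ⟨R *ᵥ v', ?_⟩
      calc w = (R * R') *ᵥ w := by rw [hRR', Matrix.one_mulVec]
        _ = R *ᵥ v := (Matrix.mulVec_mulVec _ _ _).symm
        _ = R *ᵥ (E *ᵥ v') := by rw [hEv']
        _ = (R * E * (R' * R)) *ᵥ v' := by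
            rw [hR'R, Matrix.mul_one]
            exact Matrix.mulVec_mulVec _ _ _
        _ = (R * E * R') *ᵥ (R *ᵥ v') := by
            rw [Matrix.mulVec_mulVec]
            simp only [Matrix.mul_assoc]
    obtain ⟨G0, G0', hG1, hG2, hG3⟩ := exists_rational_adapted F₀ m n hn N0 hN0sq hker
    set G : Matrix (Fin n) (Fin m ⊕ Fin m) F := G0.map σ with hG
    set G' : Matrix (Fin m ⊕ Fin m) (Fin n) F := G0'.map σ with hG'
    have hGG' : G * G' = 1 := by
      rw [hG, hG', ← Matrix.map_mul, hG1, Matrix.map_one _ (map_zero σ) (map_one σ)]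
    have hEmap : (EE F₀ m).map σ = E := by
      rw [hE, EE, EE, Matrix.fromBlocks_map]
      simp
    have hYG : Y - 1 = G * E * G' := by
      rw [← hN0map]
      conv_lhs => rw [hG3]
      rw [Matrix.map_mul, Matrix.map_mul, hEmap]
    -- the comparison matrix
    set S : Matrix (Fin m ⊕ Fin m) (Fin m ⊕ Fin m) F := R' * G with hS
    have hSE : S * E = E * S := by
      have hG'G : G' * G = 1 := by
        rw [hG, hG', ← Matrix.map_mul, hG2, Matrix.map_one _ (map_zero σ) (map_one σ)]
      calc R' * G * E = R' * (G * E * (G' * G)) := by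
            rw [hG'G, Matrix.mul_one]; simp only [Matrix.mul_assoc]
        _ = R' * ((G * E * G') * G) := by simp only [Matrix.mul_assoc]
        _ = R' * ((R * E * R') * G) := by rw [← hYG, hYR]
        _ = (R' * R) * E * (R' * G) := by simp only [Matrix.mul_assoc]
        _ = E * (R' * G) := by rw [hR'R, Matrix.one_mul]
    obtain ⟨a, ha⟩ := centralizer_det_sq m S hSE
    have hSinv : S * (G' * R) = 1 := by
      calc R' * G * (G' * R) = R' * (G * G') * R := by simp only [Matrix.mul_assoc]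
        _ = 1 := by rw [hGG', Matrix.mul_one, hR'R]
    have hSdet0 : S.det ≠ 0 := by
      intro h
      have := congrArg Matrix.det hSinv
      rw [Matrix.det_mul, h, zero_mul, Matrix.det_one] at this
      exact zero_ne_one this
    have ha0 : a ≠ 0 := by
      rintro rfl
      rw [mul_zero] at ha
      exact hSdet0 ha
    -- the determinant of `S`
    have hSform : S = Dc' * ((Pm.submatrix e e) * (G.submatrix e id)) := by
      rw [hS, hR', hgc', Matrix.mul_assoc, submatrix_id_symm_mul, Matrix.submatrix_mul_equiv]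
    have hGdet : (G.submatrix e id).det ∈ F₀ := by
      apply det_mem_subfield
      intro i j
      rw [Matrix.submatrix_apply, hG, Matrix.map_apply]
      exact (G0 (e i) (id j)).2
    obtain ⟨β, hβ⟩ := hsq _ hGdet
    have hdet : S.det = c⁻¹ * (β * β) := by
      rw [hSform, Matrix.det_mul, Matrix.det_mul, hDc'det, Matrix.det_submatrix_equiv_self, hPm,
        P.det_coe, one_mul, hβ]
    apply hc (β * a⁻¹)
    rw [ha] at hdet
    field_simp
    field_simp at hdet
    linear_combination -hdet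

end Cfsg.Agent.Lib.helper14.SubG
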