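import Mathlib
import Cfsg.Agent.Lib.helper14.SuzModel
import Cfsg.Agent.Lib.Helper16.UnitaryFixed

set_option autoImplicit false

/-! Automorphisms of the model `SuzP σ` of the Sylow 2-subgroup of `SU₃(2ⁿ)`: every automorphism
induces a semilinear map `b ↦ ν ρ(b)` on the quotient by the centre. -/

namespace Cfsg.Agent.Lib.helper14.SuzAut

open Cfsg.Agent.Lib.helper14.SuzModel Cfsg.Agent.Lib.Lead.HI

section field
variable {K : Type*} [Field K] [Fintype K] {q : ℕ} {σ : K →+* K} [CharP K 2]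
  [hinv : Fact (∀ x, σ (σ x) = x)]

/-- a multiplicative additive self-map of the fixed field is a Frobenius power -/
theorem fixed_semilinear (t : K → K) (ht1 : t 1 = 1)
    (htf : ∀ k, σ k = k → σ (t k) = t k)
    (hta : ∀ k k', σ k = k → σ k' = k' → t (k + k') = t k + t k')
    (htm : ∀ k k', σ k = k → σ k' = k' → t (k * k') = t k * t k') :
    ∃ j : ℕ, ∀ k, σ k = k → t k = k ^ (2 ^ j) := by
  let K0 : Subfield K := σ.eqLocusField (RingHom.id K)
  have hmem : ∀ k : K, k ∈ K0 ↔ σ k = k := fun k => Iff.rfl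
  have ht0 : t 0 = 0 := by
    have := hta 0 0 (map_zero σ) (map_zero σ)
    rw [add_zero] at this
    exact left_eq_add.mp this
  let f : K0 →+* K0 :=
    { toFun := fun k => ⟨t k.1, (hmem _).mpr (htf k.1 ((hmem _).mp k.2))⟩
      map_one' := Subtype.ext ht1
      map_mul' := fun a b => Subtype.ext (htm a.1 b.1 ((hmem _).mp a.2) ((hmem _).mp b.2))
      map_zero' := Subtype.ext ht0
      map_add' := fun a b => Subtype.ext (hta a.1 b.1 ((hmem _).mp a.2) ((hmem _).mp b.2)) }
  haveI : Fact (Nat.Prime 2) := ⟨Nat.prime_two⟩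
  haveI : CharP K0 2 := inferInstance
  letI : Algebra (ZMod 2) K0 := ZMod.algebra K0 2
  let g : K0 →ₐ[ZMod 2] K0 :=
    { f with
      commutes' := fun r => by
        have := Subsingleton.elim (f.comp (algebraMap (ZMod 2) K0)) (algebraMap (ZMod 2) K0)
        exact RingHom.congr_fun this r }
  obtain ⟨⟨j, hj⟩, hjg⟩ := (FiniteField.bijective_frobeniusAlgHom_pow (ZMod 2) K0).2 g
  refine ⟨j, fun k hk => ?_⟩
  have h1 : (FiniteField.frobeniusAlgHom (ZMod 2) K0 ^ j) ⟨k, (hmem k).mpr hk⟩ =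
      g ⟨k, (hmem k).mpr hk⟩ := by
    rw [← hjg]
  rw [AlgHom.coe_pow, FiniteField.coe_frobeniusAlgHom, pow_iterate, ZMod.card] at h1
  have h2 := congrArg Subtype.val h1
  exact h2.symm

/-- the iterated Frobenius as a ring automorphism -/
noncomputable def frobPow (K : Type*) [Field K] [Fintype K] [CharP K 2] (j : ℕ) : K ≃+* K :=
  haveI : Fact (Nat.Prime 2) := ⟨Nat.prime_two⟩
  RingEquiv.ofBijective (iterateFrobenius K 2 j) (by
    have hinj : Function.Injective (iterateFrobenius K 2 j) := RingHom.injective _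
    exact ⟨hinj, Finite.surjective_of_injective hinj⟩)

theorem frobPow_apply (j : ℕ) (x : K) : frobPow K j x = x ^ (2 ^ j) := by
  haveI : Fact (Nat.Prime 2) := ⟨Nat.prime_two⟩
  show iterateFrobenius K 2 j x = _
  rw [iterateFrobenius_def]

/-- an additive map preserving the norm is `μ` or `μ σ` -/
theorem norm_pres (C : K →+ K) (hC : ∀ y, C y * σ (C y) = y * σ y) :
    ∃ μ : K, μ * σ μ = 1 ∧ ((∀ y, C y = μ * y) ∨ (∀ y, C y = μ * σ y)) := by
  set μ := C 1 with hμ
  have hμN : μ * σ μ = 1 := by rw [hC 1]; simp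
  have hμ0 : μ ≠ 0 := left_ne_zero_of_mul_eq_one hμN
  have hσμ : σ μ = μ⁻¹ := eq_inv_of_mul_eq_one_right hμN
  set D : K → K := fun y => μ⁻¹ * C y with hD
  have hDadd : ∀ x y, D (x + y) = D x + D y := by
    intro x y
    simp only [hD, map_add, mul_add]
  have hD1 : D 1 = 1 := by
    simp only [hD]
    exact inv_mul_cancel₀ hμ0
  have hDN : ∀ y, D y * σ (D y) = y * σ y := by
    intro y
    simp only [hD]
    rw [map_mul, map_inv₀, hσμ, inv_inv]
    have := hC y
    field_simp
    linear_combination this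
  have hpol : ∀ x y, D x * σ (D y) + D y * σ (D x) = x * σ y + y * σ x := by
    intro x y
    have h1 := hDN (x + y)
    rw [hDadd, map_add, map_add] at h1
    have hx := hDN x
    have hy := hDN y
    linear_combination h1 - hx - hy
  have htr : ∀ x, D x + σ (D x) = x + σ x := by
    intro x
    have := hpol x 1
    rw [hD1, map_one, mul_one, one_mul, mul_one, one_mul] at this
    exact this
  have hor : ∀ x, D x = x ∨ D x = σ x := by
    intro x
    have h0 : (D x - x) * (D x - σ x) = 0 := by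
      linear_combination (D x) * htr x - hDN x
    rcases mul_eq_zero.mp h0 with h | h
    · left; exact sub_eq_zero.mp h
    · right; exact sub_eq_zero.mp h
  have hcases : (∀ y, D y = y) ∨ (∀ y, D y = σ y) := by
    by_contra hcon
    push Not at hcon
    obtain ⟨⟨x1, hx1⟩, ⟨x2, hx2⟩⟩ := hcon
    have e1 : D x1 = σ x1 := (hor x1).resolve_left hx1
    have e2 : D x2 = x2 := (hor x2).resolve_right hx2
    rcases hor (x1 + x2) with h | h
    · rw [hDadd, e1, e2] at h
      apply hx1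
      rw [e1]
      linear_combination h
    · rw [hDadd, e1, e2, map_add] at h
      apply hx2
      rw [e2]
      linear_combination h
  refine ⟨μ, hμN, ?_⟩
  rcases hcases with h | h
  · left
    intro y
    have := h y
    simp only [hD] at this
    calc C y = μ * (μ⁻¹ * C y) := by rw [← mul_assoc, mul_inv_cancel₀ hμ0, one_mul]
      _ = μ * y := by rw [this]
  · right
    intro y
    have := h y
    simp only [hD] at this
    calc C y = μ * (μ⁻¹ * C y) := by rw [← mul_assoc, mul_inv_cancel₀ hμ0, one_mul]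
      _ = μ * σ y := by rw [this]

/-- the structure theorem at the level of the field -/
theorem field_struct (hK : Fintype.card K = q ^ 2) (hσ : ∀ x, σ x = x ^ q)
    (A : K →+ K) (hAs : Function.Surjective A) (B : K → K)
    (hBf : ∀ c, σ c = c → σ (B c) = B c)
    (hBadd : ∀ c c', σ c = c → σ c' = c' → B (c + c') = B c + B c')
    (hBinj : ∀ c, σ c = c → B c = 0 → c = 0)
    (hN : ∀ b, B (b * σ b) = A b * σ (A b)) :
    ∃ (ν : K) (ρ : K ≃+* K), ν ≠ 0 ∧ (∀ b, A b = ν * ρ b) ∧
      ∀ c, σ c = c → B c = ν * σ ν * ρ c := by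
  have h2 : ∀ x : K, x + x = 0 := CharTwo.add_self_eq_zero
  have hσσ : ∀ x, σ (σ x) = x := hinv.out
  have hNf : ∀ b, σ (b * σ b) = b * σ b := by
    intro b; rw [map_mul, hσσ, mul_comm]
  have hTf : ∀ x, σ (x + σ x) = x + σ x := by
    intro x; rw [map_add, hσσ, add_comm]
  have hB0 : B 0 = 0 := by
    have := hBadd 0 0 (map_zero σ) (map_zero σ)
    rw [add_zero] at this
    exact left_eq_add.mp this
  have hBinj' : ∀ c c', σ c = c → σ c' = c' → B c = B c' → c = c' := by
    intro c c' hc hc' h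
    have h1 : B (c + c') = 0 := by rw [hBadd c c' hc hc', h]; exact h2 _
    have h3 := hBinj (c + c') (by rw [map_add, hc, hc']) h1
    linear_combination h3 - h2 c'
  -- polar identity
  have hpol : ∀ x y, B (x * σ y + σ (x * σ y)) = A x * σ (A y) + σ (A x * σ (A y)) := by
    intro x y
    have h1 := hN (x + y)
    have e1 : (x + y) * σ (x + y) = (x * σ x + y * σ y) + (x * σ y + σ (x * σ y)) := by
      rw [map_add, map_mul, hσσ]; ring
    rw [e1, hBadd _ _ (by rw [map_add, hNf, hNf]) (hTf _), hBadd _ _ (hNf _) (hNf _), hN, hN,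
      map_add, map_add] at h1
    rw [map_mul (σ) (A x), hσσ]
    linear_combination h1
  -- B(1) ≠ 0
  have hB1 : B 1 ≠ 0 := by
    intro h
    exact one_ne_zero (hBinj 1 (map_one σ) h)
  have hB1f : σ (B 1) = B 1 := hBf 1 (map_one σ)
  obtain ⟨θ, hθ0⟩ := exists_theta hK
  have hθ : θ + σ θ = 1 := by rw [hσ]; exact hθ0
  -- semilinearity of B
  have hsemi : ∀ k z, σ k = k → σ z = z → B (k * z) * B 1 = B k * B z := by
    intro k z hk hz
    set c := B z / B 1 with hc
    have hcf : σ c = c := by rw [hc, map_div₀, hBf z hz, hB1f]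
    obtain ⟨y', hy'⟩ := hAs (c * A 1)
    -- the element u = T(θ σ y')
    have hu : B (θ * σ y' + σ (θ * σ y')) = B z := by
      rw [hpol, hy']
      have h3 := hpol θ 1
      rw [map_one, mul_one, hθ] at h3
      have e : A θ * σ (c * A 1) + σ (A θ * σ (c * A 1)) =
          c * (A θ * σ (A 1) + σ (A θ * σ (A 1))) := by
        rw [map_mul σ c, hcf, map_mul σ (A θ), map_mul σ c, hcf, map_mul σ (A θ)]; ring
      rw [e, ← h3, hc, div_mul_cancel₀ _ hB1]
    have hu' : θ * σ y' + σ (θ * σ y') = z := hBinj' _ _ (hTf _) hz hu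
    have e2 : k * z = (k * θ) * σ y' + σ ((k * θ) * σ y') := by
      rw [← hu', map_mul, map_mul, map_mul, hk]; ring
    rw [e2, hpol, hy']
    have h3 := hpol (k * θ) 1
    rw [map_one, mul_one] at h3
    have e3 : k * θ + σ (k * θ) = k := by
      rw [map_mul, hk, ← mul_add, hθ, mul_one]
    rw [e3] at h3
    have e : A (k * θ) * σ (c * A 1) + σ (A (k * θ) * σ (c * A 1)) =
        c * (A (k * θ) * σ (A 1) + σ (A (k * θ) * σ (A 1))) := by
      rw [map_mul σ c, hcf, map_mul σ (A (k * θ)), map_mul σ c, hcf, map_mul σ (A (k * θ))]; ring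
    rw [e, ← h3, hc]
    field_simp
  -- τ is a Frobenius power
  obtain ⟨j, hj⟩ := fixed_semilinear (σ := σ) (fun k => B k / B 1) (div_self hB1)
    (fun k hk => by rw [map_div₀, hBf k hk, hB1f])
    (fun k k' hk hk' => by rw [hBadd k k' hk hk', add_div])
    (fun k k' hk hk' => by
      have := hsemi k k' hk hk'
      field_simp
      linear_combination this)
  have hBj : ∀ k, σ k = k → B k = B 1 * k ^ (2 ^ j) := by
    intro k hk
    have := hj k hk
    rw [← this, mul_div_cancel₀ _ hB1]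
  -- λ with N(λ) = B 1
  obtain ⟨lam, hlam⟩ : ∃ lam : K, lam * σ lam = B 1 := by
    have hq1 : 1 ≤ q := by
      rcases Nat.eq_zero_or_pos q with h | h
      · subst h
        have : 1 < Fintype.card K := Fintype.one_lt_card
        rw [hK] at this
        norm_num at this
      · exact h
    obtain ⟨m, hm⟩ := Cfsg.Agent.Lib.Helper16.norm_surj hK (Units.mk0 (B 1) hB1) (by
      apply Units.ext
      rw [Units.val_pow_eq_pow_val, Units.val_mk0, Units.val_one]
      have h3 : (B 1) ^ q = B 1 := by rw [← hσ]; exact hB1f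
      have h4 : (B 1) ^ (q - 1) * B 1 = B 1 := by
        rw [← pow_succ, Nat.sub_add_cancel hq1, h3]
      exact mul_right_cancel₀ hB1 (by rw [h4, one_mul]))
    refine ⟨(m : K), ?_⟩
    have := congrArg Units.val hm
    rw [Units.val_pow_eq_pow_val, Units.val_mk0] at this
    rw [hσ, ← this, pow_succ, mul_comm]
  have hlam0 : lam ≠ 0 := by
    intro h
    rw [h, zero_mul] at hlam
    exact hB1 hlam.symm
  -- the normalized map
  set ρ := frobPow K j with hρ
  have hρσ : ∀ x, σ (ρ x) = ρ (σ x) := by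
    intro x
    rw [hσ, hσ, map_pow]
  let C : K →+ K :=
    { toFun := fun y => lam⁻¹ * A (ρ.symm y)
      map_zero' := by rw [map_zero, map_zero, mul_zero]
      map_add' := fun x y => by rw [map_add, map_add, mul_add] }
  have hCN : ∀ y, C y * σ (C y) = y * σ y := by
    intro y
    show lam⁻¹ * A (ρ.symm y) * σ (lam⁻¹ * A (ρ.symm y)) = y * σ y
    rw [map_mul, map_inv₀]
    have h1 : lam⁻¹ * A (ρ.symm y) * ((σ lam)⁻¹ * σ (A (ρ.symm y))) =
        (lam * σ lam)⁻¹ * (A (ρ.symm y) * σ (A (ρ.symm y))) := by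
      rw [mul_inv]; ring
    rw [h1, hlam, ← hN, hBj _ (hNf _), ← mul_assoc, inv_mul_cancel₀ hB1, one_mul,
      ← frobPow_apply, ← hρ, map_mul, ← hρσ, RingEquiv.apply_symm_apply]
  obtain ⟨μ, hμN, hμ⟩ := norm_pres (σ := σ) C hCN
  have hμ0 : μ ≠ 0 := left_ne_zero_of_mul_eq_one hμN
  have hAC : ∀ b, A b = lam * C (ρ b) := by
    intro b
    show A b = lam * (lam⁻¹ * A (ρ.symm (ρ b)))
    rw [RingEquiv.symm_apply_apply, ← mul_assoc, mul_inv_cancel₀ hlam0, one_mul]
  -- B in terms of ν, ρ'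
  have hBfin : ∀ (ν : K) (ρ' : K ≃+* K), (∀ b, A b = ν * ρ' b) → (∀ x, σ (ρ' x) = ρ' (σ x)) →
      ∀ c, σ c = c → B c = ν * σ ν * ρ' c := by
    intro ν ρ' hA hcomm c hc
    obtain ⟨b, hb⟩ : ∃ b : K, b * σ b = c := by
      by_cases hc0 : c = 0
      · exact ⟨0, by rw [hc0, zero_mul]⟩
      · have hq1 : 1 ≤ q := by
          rcases Nat.eq_zero_or_pos q with h | h
          · subst h
            have : 1 < Fintype.card K := Fintype.one_lt_card
            rw [hK] at this
            norm_num at this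
          · exact h
        obtain ⟨m, hm⟩ := Cfsg.Agent.Lib.Helper16.norm_surj hK (Units.mk0 c hc0) (by
          apply Units.ext
          rw [Units.val_pow_eq_pow_val, Units.val_mk0, Units.val_one]
          have h3 : c ^ q = c := by rw [← hσ]; exact hc
          have h4 : c ^ (q - 1) * c = c := by
            rw [← pow_succ, Nat.sub_add_cancel hq1, h3]
          exact mul_right_cancel₀ hc0 (by rw [h4, one_mul]))
        refine ⟨(m : K), ?_⟩
        have := congrArg Units.val hm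
        rw [Units.val_pow_eq_pow_val, Units.val_mk0] at this
        rw [hσ, ← this, pow_succ, mul_comm]
    rw [← hb, hN, hA, map_mul, map_mul, hcomm]
    ring
  rcases hμ with h | h
  · refine ⟨lam * μ, ρ, mul_ne_zero hlam0 hμ0, ?_, ?_⟩
    · intro b
      rw [hAC, h]; ring
    · exact hBfin _ _ (fun b => by rw [hAC, h]; ring) hρσ
  · let σE : K ≃+* K := RingEquiv.ofBijective σ ⟨RingHom.injective σ,
      Finite.surjective_of_injective (RingHom.injective σ)⟩
    have hσE : ∀ x, σE x = σ x := fun x => rfl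
    refine ⟨lam * μ, ρ.trans σE, mul_ne_zero hlam0 hμ0, ?_, ?_⟩
    · intro b
      rw [hAC, h, RingEquiv.trans_apply, hσE]; ring
    · apply hBfin _ _ (fun b => by rw [hAC, h, RingEquiv.trans_apply, hσE]; ring)
      intro x
      rw [RingEquiv.trans_apply, RingEquiv.trans_apply, hσE, hσE, hρσ]

end field

section induced
variable {K : Type*} [Field K] [Fintype K] {q : ℕ} {σ : K →+* K} [CharP K 2]
  [hinv : Fact (∀ x, σ (σ x) = x)]

theorem b_congr (φ : SuzP σ →* SuzP σ) {x y : SuzP σ} (h : x.b = y.b) : (φ x).b = (φ y).b := by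
  have h1 : (x⁻¹ * y).b = 0 := by rw [mul_b, inv_b, h]; exact add_self' _
  have h2 : (x⁻¹ * y) * (x⁻¹ * y) = 1 := (sq_eq_one_iff _).mpr h1
  have h3 : φ (x⁻¹ * y) * φ (x⁻¹ * y) = 1 := by rw [← map_mul, h2, map_one]
  have h4 := (sq_eq_one_iff _).mp h3
  rw [map_mul, map_inv, mul_b, inv_b] at h4
  linear_combination h4 - add_self' (φ y).b

/-- a lift of `b` -/
noncomputable def lift (hK : Fintype.card K = q ^ 2) (hσ : ∀ x, σ x = x ^ q) (b : K) : SuzP σ :=
  SuzP.mk' b (Classical.choose (exists_c (σ := σ) hK hσ b))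
    (Classical.choose_spec (exists_c (σ := σ) hK hσ b))

theorem lift_b (hK : Fintype.card K = q ^ 2) (hσ : ∀ x, σ x = x ^ q) (b : K) :
    (lift hK hσ b).b = b := rfl

/-- the additive map induced on the quotient by the centre -/
noncomputable def Amap (hK : Fintype.card K = q ^ 2) (hσ : ∀ x, σ x = x ^ q)
    (φ : SuzP σ →* SuzP σ) : K →+ K where
  toFun b := (φ (lift hK hσ b)).b
  map_zero' := by
    have : (φ (lift hK hσ 0)).b = (φ 1).b := b_congr φ rfl
    rw [this, map_one, one_b]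
  map_add' b b' := by
    have : (φ (lift hK hσ (b + b'))).b = (φ (lift hK hσ b * lift hK hσ b')).b := b_congr φ rfl
    rw [this, map_mul, mul_b]

theorem Amap_apply (hK : Fintype.card K = q ^ 2) (hσ : ∀ x, σ x = x ^ q)
    (φ : SuzP σ →* SuzP σ) (x : SuzP σ) : Amap hK hσ φ x.b = (φ x).b := b_congr φ rfl

theorem Amap_comp (hK : Fintype.card K = q ^ 2) (hσ : ∀ x, σ x = x ^ q)
    (φ ψ : SuzP σ →* SuzP σ) (b : K) :
    Amap hK hσ (φ.comp ψ) b = Amap hK hσ φ (Amap hK hσ ψ b) := by
  show (φ (ψ (lift hK hσ b))).b = _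
  rw [← Amap_apply hK hσ φ]
  rfl

theorem Amap_id (hK : Fintype.card K = q ^ 2) (hσ : ∀ x, σ x = x ^ q) (b : K) :
    Amap hK hσ (MonoidHom.id (SuzP σ)) b = b := rfl

/-- the map induced on the centre -/
noncomputable def Bmap (φ : SuzP σ →* SuzP σ) (c : K) : K :=
  open Classical in if h : σ c = c then (φ (zEl c h)).c else 0

theorem Bmap_of (φ : SuzP σ →* SuzP σ) (c : K) (h : σ c = c) : Bmap φ c = (φ (zEl c h)).c :=
  dif_pos h

theorem phi_b_zero (φ : SuzP σ →* SuzP σ) (z : SuzP σ) (hz : z.b = 0) : (φ z).b = 0 := by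
  have h1 : z * z = 1 := (sq_eq_one_iff _).mpr hz
  have h2 : φ z * φ z = 1 := by rw [← map_mul, h1, map_one]
  exact (sq_eq_one_iff _).mp h2

theorem Bmap_fixed (φ : SuzP σ →* SuzP σ) (c : K) (h : σ c = c) : σ (Bmap φ c) = Bmap φ c := by
  rw [Bmap_of φ c h]
  exact c_fixed_of_b _ (phi_b_zero φ _ rfl)

theorem zEl_add (c c' : K) (h : σ c = c) (h' : σ c' = c') :
    (zEl (c + c') (by rw [map_add, h, h']) : SuzP σ) = zEl c h * zEl c' h' := by
  ext
  · simp
  · simp

theorem Bmap_add (φ : SuzP σ →* SuzP σ) (c c' : K) (h : σ c = c) (h' : σ c' = c') :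
    Bmap φ (c + c') = Bmap φ c + Bmap φ c' := by
  rw [Bmap_of φ _ (by rw [map_add, h, h']), Bmap_of φ c h, Bmap_of φ c' h', zEl_add c c' h h',
    map_mul, mul_c, phi_b_zero φ _ rfl, zero_mul, add_zero]

theorem Bmap_inj (φ : SuzP σ →* SuzP σ) (hφ : Function.Injective φ) (c : K) (h : σ c = c)
    (h0 : Bmap φ c = 0) : c = 0 := by
  rw [Bmap_of φ c h] at h0
  have h1 : φ (zEl c h) = 1 := by
    ext
    · rw [phi_b_zero φ _ rfl, one_b]
    · rw [h0, one_c]
  have h2 : (zEl c h : SuzP σ) = 1 := hφ (by rw [h1, map_one])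
  have := congrArg SuzP.c h2
  simpa using this

theorem Bmap_norm (hK : Fintype.card K = q ^ 2) (hσ : ∀ x, σ x = x ^ q)
    (φ : SuzP σ →* SuzP σ) (b : K) :
    Bmap φ (b * σ b) = Amap hK hσ φ b * σ (Amap hK hσ φ b) := by
  have hf : σ (b * σ b) = b * σ b := by rw [map_mul, hinv.out, mul_comm]
  have h1 : lift hK hσ b * lift hK hσ b = zEl (b * σ b) hf := by
    ext
    · rw [sq_b]; rfl
    · rw [sq_c]; rfl
  rw [Bmap_of φ _ hf, ← h1, map_mul, sq_c]
  rfl

theorem Bmap_apply (φ : SuzP σ →* SuzP σ) (z : SuzP σ) (hz : z.b = 0) :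
    (φ z).c = Bmap φ z.c := by
  have hf := c_fixed_of_b z hz
  rw [Bmap_of φ _ hf]
  have : z = zEl z.c hf := by
    ext
    · exact hz
    · rfl
  rw [← this]

/-- the structure theorem for automorphisms of the model -/
theorem aut_struct (hK : Fintype.card K = q ^ 2) (hσ : ∀ x, σ x = x ^ q) (φ : MulAut (SuzP σ)) :
    ∃ (ν : K) (ρ : K ≃+* K), ν ≠ 0 ∧ (∀ x : SuzP σ, (φ x).b = ν * ρ x.b) ∧
      ∀ x : SuzP σ, x.b = 0 → (φ x).c = ν * σ ν * ρ x.c := by
  have hsurj : Function.Surjective (Amap hK hσ φ.toMonoidHom) := by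
    intro b
    refine ⟨Amap hK hσ (φ⁻¹ : MulAut (SuzP σ)).toMonoidHom b, ?_⟩
    rw [← Amap_comp]
    have : φ.toMonoidHom.comp (φ⁻¹ : MulAut (SuzP σ)).toMonoidHom = MonoidHom.id (SuzP σ) := by
      ext x : 1
      show φ (φ.symm x) = x
      exact φ.apply_symm_apply x
    rw [this, Amap_id]
  obtain ⟨ν, ρ, hν, hA, hB⟩ := field_struct hK hσ (Amap hK hσ φ.toMonoidHom) hsurj
    (Bmap φ.toMonoidHom) (Bmap_fixed _) (Bmap_add _) (Bmap_inj _ φ.injective) (Bmap_norm hK hσ _)
  refine ⟨ν, ρ, hν, ?_, ?_⟩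
  · intro x
    rw [← hA, Amap_apply]
    rfl
  · intro x hx
    rw [← hB _ (c_fixed_of_b x hx), ← Bmap_apply _ _ hx]
    rfl

/-- an automorphism acting trivially modulo the centre has square one -/
theorem sq_of_trivial (hK : Fintype.card K = q ^ 2) (hσ : ∀ x, σ x = x ^ q) (φ : MulAut (SuzP σ))
    (h : ∀ x : SuzP σ, (φ x).b = x.b) : ∀ x, φ (φ x) = x := by
  obtain ⟨ν, ρ, hν, hA, hB⟩ := aut_struct hK hσ φ
  obtain ⟨c1, hc1⟩ := exists_c (σ := σ) hK hσ 1
  have hν1 : ν = 1 := by
    have := hA (SuzP.mk' 1 c1 hc1)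
    rw [h, SuzP.mk'_b, map_one, mul_one] at this
    exact this.symm
  have hρ : ∀ b, ρ b = b := by
    intro b
    obtain ⟨c, hc⟩ := exists_c (σ := σ) hK hσ b
    have := hA (SuzP.mk' b c hc)
    rw [h, SuzP.mk'_b, hν1, one_mul] at this
    exact this.symm
  have hz : ∀ z : SuzP σ, z.b = 0 → φ z = z := by
    intro z hz
    ext
    · rw [h]
    · rw [hB z hz, hν1, map_one, one_mul, one_mul, hρ]
  intro x
  have h1 : (x⁻¹ * φ x).b = 0 := by rw [mul_b, inv_b, h]; exact add_self' _
  have h2 : φ x = x * (x⁻¹ * φ x) := by group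
  have h3 : (x⁻¹ * φ x) * (x⁻¹ * φ x) = 1 := (sq_eq_one_iff _).mpr h1
  calc φ (φ x) = φ (x * (x⁻¹ * φ x)) := by rw [← h2]
    _ = φ x * (x⁻¹ * φ x) := by rw [map_mul, hz _ h1]
    _ = x * ((x⁻¹ * φ x) * (x⁻¹ * φ x)) := by group
    _ = x := by rw [h3, mul_one]

end induced

section galois
variable {K : Type*} [Field K] [Fintype K] {q : ℕ} {σ : K →+* K} [CharP K 2]

/-- every ring automorphism of `K` is a Frobenius power -/
theorem ringEquiv_frob (ρ : K ≃+* K) : ∃ i : ℕ, ∀ x, ρ x = x ^ (2 ^ i) := by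
  haveI : Fact (Nat.Prime 2) := ⟨Nat.prime_two⟩
  letI : Algebra (ZMod 2) K := ZMod.algebra K 2
  let g : K →ₐ[ZMod 2] K :=
    { (ρ : K →+* K) with
      commutes' := fun r => by
        have := Subsingleton.elim ((ρ : K →+* K).comp (algebraMap (ZMod 2) K))
          (algebraMap (ZMod 2) K)
        exact RingHom.congr_fun this r }
  obtain ⟨⟨j, hj⟩, hjg⟩ := (FiniteField.bijective_frobeniusAlgHom_pow (ZMod 2) K).2 g
  refine ⟨j, fun x => ?_⟩
  have h1 : (FiniteField.frobeniusAlgHom (ZMod 2) K ^ j) x = g x := by rw [← hjg]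
  rw [AlgHom.coe_pow, FiniteField.coe_frobeniusAlgHom, pow_iterate, ZMod.card] at h1
  exact h1.symm

/-- an involutory ring automorphism fixes the fixed field of `σ` pointwise -/
theorem invol_fix (n : ℕ) (hn : 1 ≤ n) (hq : q = 2 ^ n) (hK : Fintype.card K = q ^ 2)
    (hσ : ∀ x, σ x = x ^ q) (τ : K ≃+* K) (hτ : ∀ x, τ (τ x) = x) (c : K) (hc : σ c = c) :
    τ c = c := by
  haveI : Fact (Nat.Prime 2) := ⟨Nat.prime_two⟩
  letI : Algebra (ZMod 2) K := ZMod.algebra K 2
  obtain ⟨i, hi⟩ := ringEquiv_frob τ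
  have hfr : Module.finrank (ZMod 2) K = 2 * n := by
    have h1 := Module.natCard_eq_pow_finrank (K := ZMod 2) (V := K)
    rw [Nat.card_eq_fintype_card, hK, hq, Nat.card_zmod, ← pow_mul, mul_comm] at h1
    exact (Nat.pow_right_injective (le_refl 2) h1).symm
  have hpow : FiniteField.frobeniusAlgHom (ZMod 2) K ^ (2 * i) = 1 := by
    ext x
    rw [AlgHom.coe_pow, FiniteField.coe_frobeniusAlgHom, pow_iterate, ZMod.card, AlgHom.one_apply]
    have := hτ x
    rw [hi, hi, ← pow_mul, ← pow_add, ← two_mul] at this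
    exact this
  have hdvd : 2 * n ∣ 2 * i := by
    rw [← hfr, ← FiniteField.orderOf_frobeniusAlgHom (ZMod 2) K]
    exact orderOf_dvd_of_pow_eq_one hpow
  have hni : n ∣ i := (Nat.mul_dvd_mul_iff_left (by norm_num)).mp hdvd
  obtain ⟨l, rfl⟩ := hni
  rw [hi, pow_mul, ← hq]
  have hcq : c ^ q = c := by rw [← hσ]; exact hc
  clear hi hpow hdvd
  induction l with
  | zero => rw [pow_zero, pow_one]
  | succ l ih => rw [pow_succ, pow_mul, ih, hcq]

end galois

end Cfsg.Agent.Lib.helper14.SuzAut
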