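import Mathlib
import Cfsg.Agent.Lib.helper14.SuzAut
import Cfsg.Prelude.Def_Solvable

set_option autoImplicit false

/-! The automorphism group of the model `SuzP σ`: the kernel of the action on the quotient by the
centre, the semilinear automorphisms, and the order of the automorphism group. -/

namespace Cfsg.Agent.Lib.helper14.SuzAut2

open Cfsg.Agent.Lib.helper14.SuzModel Cfsg.Agent.Lib.helper14.SuzAut Cfsg.Agent.Lib.Lead.HI

section semi
variable {K : Type*} [Field K] [Fintype K] {q : ℕ} {σ : K →+* K} [CharP K 2]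
  [hinv : Fact (∀ x, σ (σ x) = x)]

theorem sigma_comm (hσ : ∀ x, σ x = x ^ q) (ρ : K ≃+* K) (y : K) : σ (ρ y) = ρ (σ y) := by
  rw [hσ, hσ, map_pow]

/-- the semilinear automorphism `(b, c) ↦ (ν ρ b, N(ν) ρ c)` -/
def semiFun (hσ : ∀ x, σ x = x ^ q) (ν : K) (ρ : K ≃+* K) (x : SuzP σ) : SuzP σ :=
  SuzP.mk' (ν * ρ x.b) (ν * σ ν * ρ x.c) (by
    have hx := congrArg ρ x.h
    rw [map_add, map_mul] at hx
    simp only [map_mul, hinv.out, sigma_comm hσ]
    linear_combination (ν * σ ν) * hx)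

theorem semiFun_b (hσ : ∀ x, σ x = x ^ q) (ν : K) (ρ : K ≃+* K) (x : SuzP σ) :
    (semiFun hσ ν ρ x).b = ν * ρ x.b := rfl

theorem semiFun_c (hσ : ∀ x, σ x = x ^ q) (ν : K) (ρ : K ≃+* K) (x : SuzP σ) :
    (semiFun hσ ν ρ x).c = ν * σ ν * ρ x.c := rfl

theorem semiFun_mul (hσ : ∀ x, σ x = x ^ q) (ν : K) (ρ : K ≃+* K) (x y : SuzP σ) :
    semiFun hσ ν ρ (x * y) = semiFun hσ ν ρ x * semiFun hσ ν ρ y := by
  ext
  · simp only [semiFun_b, mul_b, map_add]; ring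
  · simp only [semiFun_c, semiFun_b, mul_c, mul_b, map_add, map_mul, sigma_comm hσ]; ring

theorem semiFun_injective (hσ : ∀ x, σ x = x ^ q) (ν : K) (hν : ν ≠ 0) (ρ : K ≃+* K) :
    Function.Injective (semiFun (σ := σ) hσ ν ρ) := by
  intro x y h
  have hb := congrArg SuzP.b h
  have hc := congrArg SuzP.c h
  rw [semiFun_b, semiFun_b] at hb
  rw [semiFun_c, semiFun_c] at hc
  have hσν : σ ν ≠ 0 := (map_ne_zero σ).mpr hν
  ext
  · exact ρ.injective (mul_left_cancel₀ hν hb)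
  · exact ρ.injective (mul_left_cancel₀ (mul_ne_zero hν hσν) hc)

/-- the semilinear automorphism as a `MulAut` -/
noncomputable def semiAut (hσ : ∀ x, σ x = x ^ q) (ν : Kˣ) (ρ : K ≃+* K) : MulAut (SuzP σ) :=
  MulEquiv.ofBijective
    ({ toFun := semiFun hσ (ν : K) ρ
       map_one' := by
        ext
        · rw [semiFun_b, one_b, map_zero, mul_zero]
        · rw [semiFun_c, one_c, map_zero, mul_zero]
       map_mul' := semiFun_mul hσ (ν : K) ρ } : SuzP σ →* SuzP σ)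
    ⟨semiFun_injective hσ (ν : K) ν.ne_zero ρ,
      Finite.surjective_of_injective (semiFun_injective hσ (ν : K) ν.ne_zero ρ)⟩

theorem semiAut_b (hσ : ∀ x, σ x = x ^ q) (ν : Kˣ) (ρ : K ≃+* K) (x : SuzP σ) :
    (semiAut hσ ν ρ x).b = (ν : K) * ρ x.b := rfl

/-- the automorphisms acting trivially modulo the centre -/
def KerS (σ : K →+* K) [Fact (∀ x, σ (σ x) = x)] : Subgroup (MulAut (SuzP σ)) where
  carrier := {φ | ∀ x, (φ x).b = x.b}
  one_mem' := fun x => rfl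
  mul_mem' := fun {φ ψ} hφ hψ x => by
    show (φ (ψ x)).b = x.b
    rw [hφ, hψ]
  inv_mem' := fun {φ} hφ x => by
    have := hφ (φ.symm x)
    rw [MulEquiv.apply_symm_apply] at this
    exact this.symm

theorem mem_KerS (φ : MulAut (SuzP σ)) : φ ∈ KerS σ ↔ ∀ x, (φ x).b = x.b := Iff.rfl

instance KerS_normal : (KerS σ).Normal := by
  constructor
  intro φ hφ ψ x
  show (ψ (φ (ψ⁻¹ x))).b = x.b
  have h1 : (ψ (φ (ψ⁻¹ x))).b = (ψ (ψ⁻¹ x)).b := b_congr ψ.toMonoidHom (hφ _)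
  rw [h1]
  show (ψ (ψ.symm x)).b = x.b
  rw [MulEquiv.apply_symm_apply]

theorem ker_fix_center (hK : Fintype.card K = q ^ 2) (hσ : ∀ x, σ x = x ^ q)
    (φ : MulAut (SuzP σ)) (h : φ ∈ KerS σ) (z : SuzP σ) (hz : z.b = 0) : φ z = z := by
  obtain ⟨ν, ρ, hν, hA, hB⟩ := aut_struct hK hσ φ
  obtain ⟨c1, hc1⟩ := exists_c (σ := σ) hK hσ 1
  have hν1 : ν = 1 := by
    have := hA (SuzP.mk' 1 c1 hc1)
    rw [h, SuzP.mk'_b, map_one, mul_one] at this
    exact this.symm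
  have hρ : ∀ b, ρ b = b := by
    intro b
    obtain ⟨c, hc⟩ := exists_c (σ := σ) hK hσ b
    have := hA (SuzP.mk' b c hc)
    rw [h, SuzP.mk'_b, hν1, one_mul] at this
    exact this.symm
  ext
  · rw [h]
  · rw [hB z hz, hν1, map_one, one_mul, one_mul, hρ]

theorem ker_comm (hK : Fintype.card K = q ^ 2) (hσ : ∀ x, σ x = x ^ q)
    (φ ψ : MulAut (SuzP σ)) (hφ : φ ∈ KerS σ) (hψ : ψ ∈ KerS σ) : φ * ψ = ψ * φ := by
  ext x : 1
  show φ (ψ x) = ψ (φ x)
  have h1 : (x⁻¹ * φ x).b = 0 := by rw [mul_b, inv_b, hφ]; exact add_self' _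
  have h2 : (x⁻¹ * ψ x).b = 0 := by rw [mul_b, inv_b, hψ]; exact add_self' _
  have e1 : φ x = x * (x⁻¹ * φ x) := by group
  have e2 : ψ x = x * (x⁻¹ * ψ x) := by group
  calc φ (ψ x) = φ (x * (x⁻¹ * ψ x)) := by rw [← e2]
    _ = φ x * (x⁻¹ * ψ x) := by rw [map_mul, ker_fix_center hK hσ φ hφ _ h2]
    _ = x * (x⁻¹ * φ x) * (x⁻¹ * ψ x) := by rw [← e1]
    _ = x * (x⁻¹ * ψ x) * (x⁻¹ * φ x) := by
        have hcomm : (x⁻¹ * φ x) * (x⁻¹ * ψ x) = (x⁻¹ * ψ x) * (x⁻¹ * φ x) := by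
          rw [comm_iff, h1, h2]
        rw [mul_assoc, hcomm, ← mul_assoc]
    _ = ψ x * (x⁻¹ * φ x) := by rw [← e2]
    _ = ψ (x * (x⁻¹ * φ x)) := by rw [map_mul, ker_fix_center hK hσ ψ hψ _ h1]
    _ = ψ (φ x) := by rw [← e1]

theorem ker_sq (hK : Fintype.card K = q ^ 2) (hσ : ∀ x, σ x = x ^ q)
    (φ : MulAut (SuzP σ)) (hφ : φ ∈ KerS σ) : φ ^ 2 = 1 := by
  ext x : 1
  rw [pow_two]
  exact sq_of_trivial hK hσ φ hφ x

theorem ker_isPGroup (hK : Fintype.card K = q ^ 2) (hσ : ∀ x, σ x = x ^ q) :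
    IsPGroup 2 (KerS σ) := by
  intro φ
  refine ⟨1, ?_⟩
  apply Subtype.ext
  rw [pow_one]
  exact ker_sq hK hσ φ.1 φ.2

end semi

section count
variable {K : Type*} [Field K] [Fintype K] {q : ℕ} {σ : K →+* K} [CharP K 2]
  [hinv : Fact (∀ x, σ (σ x) = x)]

theorem exists_lift (hK : Fintype.card K = q ^ 2) (hσ : ∀ x, σ x = x ^ q) (b : K) :
    ∃ x : SuzP σ, x.b = b := by
  obtain ⟨c, hc⟩ := exists_c (σ := σ) hK hσ b
  exact ⟨SuzP.mk' b c hc, rfl⟩

theorem exists_dat (hK : Fintype.card K = q ^ 2) (hσ : ∀ x, σ x = x ^ q) (φ : MulAut (SuzP σ)) :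
    ∃ d : Kˣ × (K ≃+* K), ∀ x, (φ x).b = (d.1 : K) * d.2 x.b := by
  obtain ⟨ν, ρ, hν, hA, -⟩ := aut_struct hK hσ φ
  exact ⟨(Units.mk0 ν hν, ρ), hA⟩

/-- the semilinear data of an automorphism -/
noncomputable def dat (hK : Fintype.card K = q ^ 2) (hσ : ∀ x, σ x = x ^ q)
    (φ : MulAut (SuzP σ)) : Kˣ × (K ≃+* K) := Classical.choose (exists_dat hK hσ φ)

theorem dat_spec (hK : Fintype.card K = q ^ 2) (hσ : ∀ x, σ x = x ^ q) (φ : MulAut (SuzP σ))
    (x : SuzP σ) : (φ x).b = ((dat hK hσ φ).1 : K) * (dat hK hσ φ).2 x.b :=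
  Classical.choose_spec (exists_dat hK hσ φ) x

theorem dat_unique (d d' : Kˣ × (K ≃+* K))
    (h : ∀ b : K, (d.1 : K) * d.2 b = (d'.1 : K) * d'.2 b) : d = d' := by
  have h1 := h 1
  rw [map_one, map_one, mul_one, mul_one] at h1
  have h2 : d.1 = d'.1 := Units.ext h1
  apply Prod.ext h2
  ext b
  have := h b
  rw [h1] at this
  exact mul_left_cancel₀ d'.1.ne_zero this

theorem dat_semi (hK : Fintype.card K = q ^ 2) (hσ : ∀ x, σ x = x ^ q) (κ : MulAut (SuzP σ))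
    (hκ : κ ∈ KerS σ) (d : Kˣ × (K ≃+* K)) : dat hK hσ (κ * semiAut hσ d.1 d.2) = d := by
  apply dat_unique
  intro b
  obtain ⟨x, rfl⟩ := exists_lift (σ := σ) hK hσ b
  rw [← dat_spec]
  show (κ (semiAut hσ d.1 d.2 x)).b = _
  rw [hκ, semiAut_b]

theorem mul_semi_inv_mem (hK : Fintype.card K = q ^ 2) (hσ : ∀ x, σ x = x ^ q)
    (φ : MulAut (SuzP σ)) :
    φ * (semiAut hσ (dat hK hσ φ).1 (dat hK hσ φ).2)⁻¹ ∈ KerS σ := by
  intro x
  set S := semiAut (σ := σ) hσ (dat hK hσ φ).1 (dat hK hσ φ).2 with hS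
  show (φ (S⁻¹ x)).b = x.b
  have h1 : x = S (S⁻¹ x) := by
    show x = S (S.symm x)
    rw [MulEquiv.apply_symm_apply]
  rw [dat_spec hK hσ φ]
  conv_rhs => rw [h1]
  rw [hS, semiAut_b]

/-- the decomposition of the automorphism group -/
noncomputable def autEquiv (hK : Fintype.card K = q ^ 2) (hσ : ∀ x, σ x = x ^ q) :
    MulAut (SuzP σ) ≃ KerS σ × (Kˣ × (K ≃+* K)) where
  toFun φ := (⟨φ * (semiAut hσ (dat hK hσ φ).1 (dat hK hσ φ).2)⁻¹, mul_semi_inv_mem hK hσ φ⟩,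
    dat hK hσ φ)
  invFun p := p.1.1 * semiAut hσ p.2.1 p.2.2
  left_inv φ := by
    show φ * (semiAut hσ (dat hK hσ φ).1 (dat hK hσ φ).2)⁻¹ *
      semiAut hσ (dat hK hσ φ).1 (dat hK hσ φ).2 = φ
    rw [inv_mul_cancel_right]
  right_inv p := by
    have h := dat_semi hK hσ p.1.1 p.1.2 p.2
    apply Prod.ext
    · apply Subtype.ext
      show p.1.1 * semiAut hσ p.2.1 p.2.2 *
        (semiAut hσ (dat hK hσ (p.1.1 * semiAut hσ p.2.1 p.2.2)).1
          (dat hK hσ (p.1.1 * semiAut hσ p.2.1 p.2.2)).2)⁻¹ = p.1.1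
      rw [h, mul_inv_cancel_right]
    · exact h

/-- the number of field automorphisms -/
theorem card_ringAut (n : ℕ) (hq : q = 2 ^ n) (hK : Fintype.card K = q ^ 2) :
    Nat.card (K ≃+* K) = 2 * n := by
  haveI : Fact (Nat.Prime 2) := ⟨Nat.prime_two⟩
  letI : Algebra (ZMod 2) K := ZMod.algebra K 2
  have hfr : Module.finrank (ZMod 2) K = 2 * n := by
    have h1 := Module.natCard_eq_pow_finrank (K := ZMod 2) (V := K)
    rw [Nat.card_eq_fintype_card, hK, hq, Nat.card_zmod, ← pow_mul, mul_comm] at h1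
    exact (Nat.pow_right_injective (le_refl 2) h1).symm
  have h1 := Nat.card_eq_of_bijective _
    (FiniteField.bijective_frobeniusAlgEquivOfAlgebraic_pow (ZMod 2) K)
  rw [Nat.card_eq_fintype_card, Fintype.card_fin, hfr] at h1
  let e : (K ≃ₐ[ZMod 2] K) ≃ (K ≃+* K) :=
    { toFun := fun f => f.toRingEquiv
      invFun := fun ρ => AlgEquiv.ofRingEquiv (f := ρ) (fun r => by
        have := Subsingleton.elim ((ρ : K →+* K).comp (algebraMap (ZMod 2) K))
          (algebraMap (ZMod 2) K)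
        exact RingHom.congr_fun this r)
      left_inv := fun f => by ext x; rfl
      right_inv := fun ρ => by ext x; rfl }
  rw [← Nat.card_congr e, ← h1]

/-- the defect `(φ x).c + x.c` -/
def gdef (φ : MulAut (SuzP σ)) (x : SuzP σ) : K := (φ x).c + x.c

theorem gdef_mul (φ : MulAut (SuzP σ)) (hφ : φ ∈ KerS σ) (x y : SuzP σ) :
    gdef φ (x * y) = gdef φ x + gdef φ y := by
  unfold gdef
  rw [map_mul, mul_c, mul_c, hφ x, hφ y]
  linear_combination add_self' (x.b * σ y.b)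

theorem gdef_fixed (φ : MulAut (SuzP σ)) (hφ : φ ∈ KerS σ) (x : SuzP σ) :
    σ (gdef φ x) = gdef φ x := by
  unfold gdef
  have h1 := (φ x).h
  have h2 := x.h
  rw [hφ x] at h1
  rw [map_add]
  linear_combination h1 + h2 - add_self' (φ x).c - add_self' x.c + add_self' (x.b * σ x.b)

theorem gdef_congr (hK : Fintype.card K = q ^ 2) (hσ : ∀ x, σ x = x ^ q)
    (φ : MulAut (SuzP σ)) (hφ : φ ∈ KerS σ) {x y : SuzP σ} (h : x.b = y.b) :
    gdef φ x = gdef φ y := by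
  have h1 : (x⁻¹ * y).b = 0 := by rw [mul_b, inv_b, h]; exact add_self' _
  have h2 : y = x * (x⁻¹ * y) := by group
  have h3 : gdef φ (x⁻¹ * y) = 0 := by
    unfold gdef
    rw [ker_fix_center hK hσ φ hφ _ h1]
    exact add_self' _
  have h4 : gdef φ y = gdef φ (x * (x⁻¹ * y)) := congrArg (gdef φ) h2
  rw [h4, gdef_mul φ hφ, h3, add_zero]

/-- the shear `(b, c) ↦ (b, c + f b)` -/
def shearFun (f : K →+ K) (hf : ∀ b, σ (f b) = f b) (x : SuzP σ) : SuzP σ :=
  SuzP.mk' x.b (x.c + f x.b) (by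
    have := x.h
    rw [map_add, hf]
    linear_combination this + add_self' (f x.b))

theorem shearFun_b (f : K →+ K) (hf : ∀ b, σ (f b) = f b) (x : SuzP σ) :
    (shearFun f hf x).b = x.b := rfl

theorem shearFun_c (f : K →+ K) (hf : ∀ b, σ (f b) = f b) (x : SuzP σ) :
    (shearFun f hf x).c = x.c + f x.b := rfl

theorem shearFun_shearFun (f : K →+ K) (hf : ∀ b, σ (f b) = f b) (x : SuzP σ) :
    shearFun f hf (shearFun f hf x) = x := by
  ext
  · rfl
  · rw [shearFun_c, shearFun_c, shearFun_b]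
    linear_combination add_self' (f x.b)

/-- the shear as a `MulAut` -/
def shearAut (f : K →+ K) (hf : ∀ b, σ (f b) = f b) : MulAut (SuzP σ) where
  toFun := shearFun f hf
  invFun := shearFun f hf
  left_inv := shearFun_shearFun f hf
  right_inv := shearFun_shearFun f hf
  map_mul' x y := by
    ext
    · rfl
    · rw [mul_c, shearFun_c, shearFun_c, shearFun_c, shearFun_b, shearFun_b, mul_c, mul_b, map_add]
      ring

theorem shearAut_mem (f : K →+ K) (hf : ∀ b, σ (f b) = f b) : shearAut f hf ∈ KerS σ :=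
  fun _ => rfl

/-- the kernel is the group of shears -/
noncomputable def kerEquiv (hK : Fintype.card K = q ^ 2) (hσ : ∀ x, σ x = x ^ q) :
    KerS σ ≃ {f : K →+ K // ∀ b, σ (f b) = f b} where
  toFun φ := ⟨
    { toFun := fun b => gdef φ.1 (lift hK hσ b)
      map_zero' := by
        have : gdef φ.1 (lift hK hσ 0) = gdef φ.1 1 := gdef_congr hK hσ φ.1 φ.2 rfl
        rw [this]
        unfold gdef
        rw [map_one, one_c, add_zero]
      map_add' := fun b b' => by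
        have : gdef φ.1 (lift hK hσ (b + b')) = gdef φ.1 (lift hK hσ b * lift hK hσ b') :=
          gdef_congr hK hσ φ.1 φ.2 rfl
        rw [this, gdef_mul φ.1 φ.2] },
    fun b => gdef_fixed φ.1 φ.2 _⟩
  invFun f := ⟨shearAut f.1 f.2, shearAut_mem f.1 f.2⟩
  left_inv φ := by
    apply Subtype.ext
    ext x : 2
    · exact (φ.2 x).symm
    · show x.c + gdef φ.1 (lift hK hσ x.b) = (φ.1 x).c
      have : gdef φ.1 (lift hK hσ x.b) = gdef φ.1 x := gdef_congr hK hσ φ.1 φ.2 rfl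
      rw [this]
      unfold gdef
      linear_combination add_self' x.c
  right_inv f := by
    apply Subtype.ext
    ext b
    show (shearFun f.1 f.2 (lift hK hσ b)).c + (lift hK hσ b).c = f.1 b
    rw [shearFun_c, lift_b]
    linear_combination add_self' (lift hK hσ b).c

theorem card_shears (n : ℕ) (hq : q = 2 ^ n) (hK : Fintype.card K = q ^ 2)
    (hσ : ∀ x, σ x = x ^ q) :
    Nat.card {f : K →+ K // ∀ b, σ (f b) = f b} = 2 ^ (2 * n ^ 2) := by
  haveI : Fact (Nat.Prime 2) := ⟨Nat.prime_two⟩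
  letI : Algebra (ZMod 2) K := ZMod.algebra K 2
  let σl : K →ₗ[ZMod 2] K := σ.toAddMonoidHom.toZModLinearMap 2
  let W : Submodule (ZMod 2) K := LinearMap.eqLocus σl LinearMap.id
  have hW : ∀ c : K, c ∈ W ↔ σ c = c := fun c => Iff.rfl
  have hfrK : Module.finrank (ZMod 2) K = 2 * n := by
    have h1 := Module.natCard_eq_pow_finrank (K := ZMod 2) (V := K)
    rw [Nat.card_eq_fintype_card, hK, hq, Nat.card_zmod, ← pow_mul, mul_comm] at h1
    exact (Nat.pow_right_injective (le_refl 2) h1).symm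
  have hcW : Nat.card W = q := by
    classical
    have h1 := card_fixed hK
    rw [← h1, ← Fintype.card_subtype, Nat.card_eq_fintype_card]
    apply Fintype.card_congr
    exact Equiv.subtypeEquivRight (fun c => by rw [hW, hσ])
  have hfrW : Module.finrank (ZMod 2) W = n := by
    have h1 := Module.natCard_eq_pow_finrank (K := ZMod 2) (V := W)
    rw [hcW, hq, Nat.card_zmod] at h1
    exact (Nat.pow_right_injective (le_refl 2) h1).symm
  let e : {f : K →+ K // ∀ b, σ (f b) = f b} ≃ (K →ₗ[ZMod 2] W) :=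
    { toFun := fun f => LinearMap.codRestrict W (f.1.toZModLinearMap 2)
        (fun b => (hW _).mpr (f.2 b))
      invFun := fun g => ⟨(W.subtype.comp g).toAddMonoidHom, fun b => (hW _).mp (g b).2⟩
      left_inv := fun f => by apply Subtype.ext; ext b; rfl
      right_inv := fun g => by ext b; rfl }
  rw [Nat.card_congr e, Module.natCard_eq_pow_finrank (K := ZMod 2), Nat.card_zmod,
    Module.finrank_linearMap, hfrK, hfrW]
  congr 1
  ring

theorem card_KerS (n : ℕ) (hq : q = 2 ^ n) (hK : Fintype.card K = q ^ 2)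
    (hσ : ∀ x, σ x = x ^ q) : Nat.card (KerS σ) = 2 ^ (2 * n ^ 2) := by
  rw [Nat.card_congr (kerEquiv hK hσ), card_shears n hq hK hσ]

theorem card_mulAut (n : ℕ) (hq : q = 2 ^ n) (hK : Fintype.card K = q ^ 2)
    (hσ : ∀ x, σ x = x ^ q) :
    Nat.card (MulAut (SuzP σ)) = 2 ^ (2 * n ^ 2) * (2 * n * (q ^ 2 - 1)) := by
  rw [Nat.card_congr (autEquiv hK hσ), Nat.card_prod, Nat.card_prod, card_KerS n hq hK hσ,
    card_ringAut n hq hK, Nat.card_units, Nat.card_eq_fintype_card, hK]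
  ring

/-- the basic equation for the data -/
theorem dat_eq (hK : Fintype.card K = q ^ 2) (hσ : ∀ x, σ x = x ^ q) (φ : MulAut (SuzP σ))
    (ν : K) (ρ : K → K) (hρ1 : ρ 1 = 1) (h : ∀ x : SuzP σ, (φ x).b = ν * ρ x.b) :
    ((dat hK hσ φ).1 : K) = ν ∧ ∀ b, (dat hK hσ φ).2 b = ρ b := by
  have h1 : ∀ b : K, ((dat hK hσ φ).1 : K) * (dat hK hσ φ).2 b = ν * ρ b := by
    intro b
    obtain ⟨x, rfl⟩ := exists_lift (σ := σ) hK hσ b
    rw [← dat_spec, h]
  have h2 := h1 1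
  rw [map_one, mul_one, hρ1, mul_one] at h2
  refine ⟨h2, fun b => ?_⟩
  have h3 := h1 b
  rw [h2] at h3
  have hν : ν ≠ 0 := by rw [← h2]; exact (dat hK hσ φ).1.ne_zero
  exact mul_left_cancel₀ hν h3

theorem dat_mul (hK : Fintype.card K = q ^ 2) (hσ : ∀ x, σ x = x ^ q) (φ ψ : MulAut (SuzP σ)) :
    ((dat hK hσ (φ * ψ)).1 : K) = ((dat hK hσ φ).1 : K) * (dat hK hσ φ).2 ((dat hK hσ ψ).1 : K) ∧
      ∀ b, (dat hK hσ (φ * ψ)).2 b = (dat hK hσ φ).2 ((dat hK hσ ψ).2 b) := by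
  apply dat_eq hK hσ (φ * ψ) _ (fun b => (dat hK hσ φ).2 ((dat hK hσ ψ).2 b))
  · rw [map_one, map_one]
  · intro x
    show (φ (ψ x)).b = _
    rw [dat_spec hK hσ φ, dat_spec hK hσ ψ, map_mul]
    ring

theorem dat_one (hK : Fintype.card K = q ^ 2) (hσ : ∀ x, σ x = x ^ q) :
    ((dat hK hσ (1 : MulAut (SuzP σ))).1 : K) = 1 ∧ ∀ b, (dat hK hσ (1 : MulAut (SuzP σ))).2 b = b := by
  apply dat_eq hK hσ 1 1 (fun b => b) rfl
  intro x
  rw [one_mul]
  rfl

theorem dat_semiAut (hK : Fintype.card K = q ^ 2) (hσ : ∀ x, σ x = x ^ q) (μ : Kˣ) (ρ : K ≃+* K) :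
    ((dat hK hσ (semiAut (σ := σ) hσ μ ρ)).1 : K) = μ ∧
      ∀ b, (dat hK hσ (semiAut (σ := σ) hσ μ ρ)).2 b = ρ b := by
  apply dat_eq hK hσ _ _ (fun b => ρ b) (map_one ρ)
  intro x
  rw [semiAut_b]

/-- powers of an automorphism with trivial field automorphism -/
theorem dat_pow (hK : Fintype.card K = q ^ 2) (hσ : ∀ x, σ x = x ^ q) (φ : MulAut (SuzP σ))
    (hρ : ∀ b, (dat hK hσ φ).2 b = b) (j : ℕ) :
    ((dat hK hσ (φ ^ j)).1 : K) = ((dat hK hσ φ).1 : K) ^ j ∧ ∀ b, (dat hK hσ (φ ^ j)).2 b = b := by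
  induction j with
  | zero =>
    rw [pow_zero, pow_zero]
    exact dat_one hK hσ
  | succ j ih =>
    obtain ⟨h1, h2⟩ := dat_mul hK hσ (φ ^ j) φ
    rw [← pow_succ] at h1 h2
    refine ⟨?_, fun b => ?_⟩
    · rw [h1, ih.1, ih.2, pow_succ]
    · rw [h2, ih.2, hρ]

/-- a 2-element with trivial field automorphism acts trivially modulo the centre -/
theorem nu_one_of_two_pow (n : ℕ) (hn : 1 ≤ n) (hq : q = 2 ^ n) (hK : Fintype.card K = q ^ 2)
    (hσ : ∀ x, σ x = x ^ q) (φ : MulAut (SuzP σ))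
    (hρ : ∀ b, (dat hK hσ φ).2 b = b) (k : ℕ) (hk : φ ^ (2 ^ k) = 1) :
    ((dat hK hσ φ).1 : K) = 1 := by
  have h1 := (dat_pow hK hσ φ hρ (2 ^ k)).1
  rw [hk, (dat_one hK hσ).1] at h1
  set ν := (dat hK hσ φ).1 with hν
  have h2 : ν ^ (2 ^ k) = 1 := by
    apply Units.ext
    rw [Units.val_pow_eq_pow_val, ← h1, Units.val_one]
  have h3 : ν ^ (q ^ 2 - 1) = 1 := by
    have := pow_card_eq_one' (G := Kˣ) (x := ν)
    rwa [Nat.card_units, Nat.card_eq_fintype_card, hK] at this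
  have hcop : Nat.Coprime (2 ^ k) (q ^ 2 - 1) := by
    apply Nat.Coprime.pow_left
    rw [Nat.coprime_two_left]
    obtain ⟨m, hm⟩ : 2 ∣ q ^ 2 := by
      rw [hq, ← pow_mul]
      exact dvd_pow_self 2 (by omega)
    have hm1 : 1 ≤ m := by
      rcases Nat.eq_zero_or_pos m with h | h
      · rw [h, mul_zero, hq] at hm
        exact absurd hm (pow_ne_zero _ (pow_ne_zero _ (by norm_num)))
      · exact h
    exact ⟨m - 1, by omega⟩
  have h4 : ν ^ Nat.gcd (2 ^ k) (q ^ 2 - 1) = 1 := pow_gcd_eq_one.mpr ⟨h2, h3⟩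
  have hg : Nat.gcd (2 ^ k) (q ^ 2 - 1) = 1 := hcop
  rw [hg, pow_one] at h4
  rw [h4, Units.val_one]

/-- every normal 2-subgroup of the automorphism group lies in the kernel -/
theorem normal_two_le_KerS (n : ℕ) (hn : 1 ≤ n) (hq : q = 2 ^ n) (hK : Fintype.card K = q ^ 2)
    (hσ : ∀ x, σ x = x ^ q) (N : Subgroup (MulAut (SuzP σ))) (hN : N.Normal) (hP : IsPGroup 2 N) :
    N ≤ KerS σ := by
  intro φ hφ
  have hρ : ∀ b, (dat hK hσ φ).2 b = b := by
    intro b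
    by_cases hb : b = 0
    · rw [hb, map_zero]
    · set μ : Kˣ := Units.mk0 b hb with hμ
      set m := semiAut (σ := σ) hσ μ (RingEquiv.refl K) with hm
      set θ := φ * m * φ⁻¹ with hθdef
      set c := θ * m⁻¹ with hcdef
      have hc : c ∈ N := by
        have h1 : m * φ⁻¹ * m⁻¹ ∈ N := hN.conj_mem _ (N.inv_mem hφ) m
        have : c = φ * (m * φ⁻¹ * m⁻¹) := by rw [hcdef, hθdef]; group
        rw [this]
        exact N.mul_mem hφ h1
      have hθ : θ * φ = φ * m := by rw [hθdef]; group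
      obtain ⟨hm1, hm2⟩ := dat_semiAut (σ := σ) hK hσ μ (RingEquiv.refl K)
      rw [← hm] at hm1 hm2
      obtain ⟨a1, a2⟩ := dat_mul hK hσ θ φ
      obtain ⟨b1, b2⟩ := dat_mul hK hσ φ m
      rw [hθ] at a1 a2
      have hθρ : ∀ y, (dat hK hσ θ).2 y = y := by
        intro y
        obtain ⟨y', rfl⟩ := (dat hK hσ φ).2.surjective y
        rw [← a2, b2, hm2]
        rfl
      have hν0 : ((dat hK hσ φ).1 : K) ≠ 0 := (dat hK hσ φ).1.ne_zero
      have hθν : ((dat hK hσ θ).1 : K) = (dat hK hσ φ).2 b := by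
        rw [b1, hθρ, hm1] at a1
        have : ((dat hK hσ θ).1 : K) * ((dat hK hσ φ).1 : K) =
            (dat hK hσ φ).2 b * ((dat hK hσ φ).1 : K) := by
          rw [← a1, mul_comm]
          rfl
        exact mul_right_cancel₀ hν0 this
      have hcm : c * m = θ := by rw [hcdef]; group
      obtain ⟨c1, c2⟩ := dat_mul hK hσ c m
      rw [hcm] at c1 c2
      have hcρ : ∀ y, (dat hK hσ c).2 y = y := by
        intro y
        have := c2 y
        rw [hm2, hθρ] at this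
        exact this.symm
      have hcν : ((dat hK hσ c).1 : K) * b = (dat hK hσ φ).2 b := by
        rw [← hθν, c1, hcρ, hm1]
        rfl
      obtain ⟨k, hk⟩ := hP ⟨c, hc⟩
      have hk' : c ^ (2 ^ k) = 1 := congrArg Subtype.val hk
      have h1 := nu_one_of_two_pow n hn hq hK hσ c hcρ k hk'
      rw [h1, one_mul] at hcν
      exact hcν.symm
  obtain ⟨k, hk⟩ := hP ⟨φ, hφ⟩
  have hk' : φ ^ (2 ^ k) = 1 := congrArg Subtype.val hk
  have hν := nu_one_of_two_pow n hn hq hK hσ φ hρ k hk'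
  intro x
  rw [dat_spec hK hσ φ, hν, one_mul, hρ]

theorem pCore_eq (n : ℕ) (hn : 1 ≤ n) (hq : q = 2 ^ n) (hK : Fintype.card K = q ^ 2)
    (hσ : ∀ x, σ x = x ^ q) : Cfsg.pCore 2 (MulAut (SuzP σ)) = KerS σ := by
  haveI : Fact (Nat.Prime 2) := ⟨Nat.prime_two⟩
  apply le_antisymm
  · apply normal_two_le_KerS n hn hq hK hσ
    · exact Subgroup.sSup_normal _ (fun _ hH => hH.1)
    · exact Sylow.sSup_of_normal _ (fun _ hH => hH.2) (fun _ hH => hH.1)
  · exact le_sSup ⟨KerS_normal, ker_isPGroup hK hσ⟩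

end count

end Cfsg.Agent.Lib.helper14.SuzAut2
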