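import Mathlib

set_option autoImplicit false

/-! An explicit model of the Sylow 2-subgroup of `Sz(q)`: pairs `(a, b)` with product
`(a, b)(a', b') = (a + a', b + b' + θ(a) a')`, and the field-level structure theorem for its
automorphisms (via Hua's identity). -/

namespace Cfsg.Agent.Lib.helper14.SzModel

section model
variable {F : Type*} [Field F]

/-- the underlying set of the model -/
@[ext] structure SzP (θ : F →+* F) where
  a : F
  b : F

variable {θ : F →+* F} [CharP F 2]

theorem add_self' (x : F) : x + x = 0 := CharTwo.add_self_eq_zero x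

instance : Mul (SzP θ) := ⟨fun x y => ⟨x.a + y.a, x.b + y.b + θ x.a * y.a⟩⟩
instance : One (SzP θ) := ⟨⟨0, 0⟩⟩
instance : Inv (SzP θ) := ⟨fun x => ⟨x.a, x.b + θ x.a * x.a⟩⟩

@[simp] theorem mul_a (x y : SzP θ) : (x * y).a = x.a + y.a := rfl
@[simp] theorem mul_b (x y : SzP θ) : (x * y).b = x.b + y.b + θ x.a * y.a := rfl
@[simp] theorem one_a : (1 : SzP θ).a = 0 := rfl
@[simp] theorem one_b : (1 : SzP θ).b = 0 := rfl
@[simp] theorem inv_a (x : SzP θ) : (x⁻¹).a = x.a := rfl
@[simp] theorem inv_b (x : SzP θ) : (x⁻¹).b = x.b + θ x.a * x.a := rfl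

instance : Group (SzP θ) :=
  Group.ofLeftAxioms
    (fun x y z => by
      ext
      · simp only [mul_a]; ring
      · simp only [mul_b, mul_a, map_add]; ring)
    (fun x => by
      ext
      · simp
      · simp)
    (fun x => by
      ext
      · simp only [mul_a, inv_a, one_a]; exact add_self' _
      · simp only [mul_b, inv_b, inv_a, one_b]
        have h1 := add_self' x.b
        have h2 := add_self' (θ x.a * x.a)
        linear_combination h1 + h2)

theorem sq_a (x : SzP θ) : (x * x).a = 0 := by
  simp only [mul_a]; exact add_self' _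

theorem sq_b (x : SzP θ) : (x * x).b = θ x.a * x.a := by
  simp only [mul_b]
  have := add_self' x.b
  linear_combination this

theorem sq_eq_one_iff (x : SzP θ) : x * x = 1 ↔ x.a = 0 := by
  constructor
  · intro h
    have := congrArg SzP.b h
    rw [sq_b, one_b] at this
    rcases mul_eq_zero.mp this with h1 | h1
    · by_contra hne
      exact (map_ne_zero θ).mpr hne h1
    · exact h1
  · intro h
    ext
    · rw [sq_a, one_a]
    · rw [sq_b, one_b, h, mul_zero]

theorem comm_iff (x y : SzP θ) : x * y = y * x ↔ θ x.a * y.a = θ y.a * x.a := by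
  constructor
  · intro h
    have := congrArg SzP.b h
    simp only [mul_b] at this
    linear_combination this
  · intro h
    ext
    · simp only [mul_a]; ring
    · simp only [mul_b]
      linear_combination h

/-- central elements -/
def zEl (θ : F →+* F) (c : F) : SzP θ := ⟨0, c⟩

@[simp] theorem zEl_a (c : F) : (zEl θ c).a = 0 := rfl
@[simp] theorem zEl_b (c : F) : (zEl θ c).b = c := rfl

theorem zEl_add (c c' : F) : zEl θ (c + c') = zEl θ c * zEl θ c' := by
  ext
  · simp
  · simp

theorem eq_zEl (z : SzP θ) (hz : z.a = 0) : z = zEl θ z.b := by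
  ext
  · exact hz
  · rfl

/-- lifts -/
def lift (θ : F →+* F) (a : F) : SzP θ := ⟨a, 0⟩

@[simp] theorem lift_a (a : F) : (lift θ a).a = a := rfl
@[simp] theorem lift_b (a : F) : (lift θ a).b = 0 := rfl

theorem sq_lift (a : F) : lift θ a * lift θ a = zEl θ (θ a * a) := by
  ext
  · rw [sq_a]; rfl
  · rw [sq_b]; rfl

/-! ### maps induced by an endomorphism -/

theorem phi_a_zero (φ : SzP θ →* SzP θ) (z : SzP θ) (hz : z.a = 0) : (φ z).a = 0 := by
  have h1 : z * z = 1 := (sq_eq_one_iff _).mpr hz
  have h2 : φ z * φ z = 1 := by rw [← map_mul, h1, map_one]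
  exact (sq_eq_one_iff _).mp h2

theorem a_congr (φ : SzP θ →* SzP θ) {x y : SzP θ} (h : x.a = y.a) : (φ x).a = (φ y).a := by
  have h1 : (x⁻¹ * y).a = 0 := by rw [mul_a, inv_a, h]; exact add_self' _
  have h4 := phi_a_zero φ _ h1
  rw [map_mul, map_inv, mul_a, inv_a] at h4
  linear_combination h4 - add_self' (φ y).a

/-- the additive map induced on the quotient by the centre -/
def Amap (φ : SzP θ →* SzP θ) : F →+ F where
  toFun a := (φ (lift θ a)).a
  map_zero' := by
    have : (φ (lift θ 0)).a = (φ 1).a := a_congr φ rfl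
    rw [this, map_one, one_a]
  map_add' a a' := by
    have : (φ (lift θ (a + a'))).a = (φ (lift θ a * lift θ a')).a := a_congr φ rfl
    rw [this, map_mul, mul_a]

theorem Amap_apply (φ : SzP θ →* SzP θ) (x : SzP θ) : Amap φ x.a = (φ x).a := a_congr φ rfl

theorem Amap_comp (φ ψ : SzP θ →* SzP θ) (a : F) :
    Amap (φ.comp ψ) a = Amap φ (Amap ψ a) := by
  show (φ (ψ (lift θ a))).a = _
  rw [← Amap_apply φ]
  rfl

theorem Amap_id (a : F) : Amap (MonoidHom.id (SzP θ)) a = a := rfl

/-- the additive map induced on the centre -/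
def Bmap (φ : SzP θ →* SzP θ) : F →+ F where
  toFun c := (φ (zEl θ c)).b
  map_zero' := by
    have : zEl θ (0 : F) = 1 := rfl
    rw [this, map_one, one_b]
  map_add' c c' := by
    rw [zEl_add, map_mul, mul_b, phi_a_zero φ _ rfl, map_zero, zero_mul, add_zero]

theorem Bmap_apply (φ : SzP θ →* SzP θ) (z : SzP θ) (hz : z.a = 0) : (φ z).b = Bmap φ z.b := by
  conv_lhs => rw [eq_zEl z hz]
  rfl

theorem Bmap_inj (φ : SzP θ →* SzP θ) (hφ : Function.Injective φ) (c : F)
    (h0 : Bmap φ c = 0) : c = 0 := by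
  have h1 : φ (zEl θ c) = 1 := by
    ext
    · rw [phi_a_zero φ _ rfl, one_a]
    · rw [one_b]; exact h0
  have h2 : zEl θ c = 1 := hφ (by rw [h1, map_one])
  have := congrArg SzP.b h2
  simpa using this

theorem Bmap_norm (φ : SzP θ →* SzP θ) (a : F) :
    Bmap φ (θ a * a) = θ (Amap φ a) * Amap φ a := by
  show (φ (zEl θ (θ a * a))).b = _
  rw [← sq_lift, map_mul, sq_b]
  rfl

end model

end Cfsg.Agent.Lib.helper14.SzModel
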