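import Mathlib
import Cfsg.Agent.Lib.helper14.SzModel

set_option autoImplicit false

/-! The field-level structure theorem for automorphisms of the Sylow 2-subgroup of `Sz(q)`:
additive bijections `A`, `B` of `F` with `B(θ(a) a) = θ(A a) A a` are of the form `A = ν ρ`,
`B = θ(ν) ν ρ` with `ρ` a field automorphism. The proof uses Hua's identity. -/

namespace Cfsg.Agent.Lib.helper14.SzAut

open Cfsg.Agent.Lib.helper14.SzModel

section hua
variable {F : Type*} [Field F]

/-- Hua's identity -/
theorem hua (a b : F) (ha : a ≠ 0) (hb : b ≠ 0) (hab : b⁻¹ ≠ a) :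
    a - (a⁻¹ + (b⁻¹ - a)⁻¹)⁻¹ = a * b * a := by
  have h1 : b⁻¹ - a ≠ 0 := sub_ne_zero.mpr hab
  have h2 : 1 - a * b ≠ 0 := by
    intro h
    apply h1
    field_simp
    linear_combination h
  have h3 : a⁻¹ + (b⁻¹ - a)⁻¹ = (a * (1 - a * b))⁻¹ := by
    field_simp
    ring
  rw [h3, inv_inv]
  ring

/-- an additive bijection `B` with `B 1 = 1` such that `u ↦ (B u⁻¹)⁻¹` is additive is
multiplicative on squares -/
theorem hua_mul (B : F →+ F) (hBinj : ∀ x, B x = 0 → x = 0) (hB1 : B 1 = 1)
    (hC : ∀ x y : F, (B (x + y)⁻¹)⁻¹ = (B x⁻¹)⁻¹ + (B y⁻¹)⁻¹) (a b : F) :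
    B (a * b * a) = B a * B b * B a := by
  set C : F → F := fun u => (B u⁻¹)⁻¹ with hCdef
  have hC0 : C 0 = 0 := by simp [hCdef]
  have hCadd : ∀ x y, C (x + y) = C x + C y := hC
  have hCsub : ∀ x y, C (x - y) = C x - C y := by
    intro x y
    have := hCadd (x - y) y
    rw [sub_add_cancel] at this
    rw [this, add_sub_cancel_right]
  have hBC : ∀ u, B (u⁻¹) = (C u)⁻¹ := by
    intro u; simp only [hCdef, inv_inv]
  have hCB : ∀ u, C (u⁻¹) = (B u)⁻¹ := by
    intro u; simp only [hCdef, inv_inv]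
  have hBne : ∀ x, x ≠ 0 → B x ≠ 0 := fun x hx h => hx (hBinj x h)
  have hCne : ∀ x, x ≠ 0 → C x ≠ 0 := by
    intro x hx
    simp only [hCdef]
    exact inv_ne_zero (hBne _ (inv_ne_zero hx))
  have hBinj' : ∀ x y, B x = B y → x = y := by
    intro x y h
    have : B (x - y) = 0 := by rw [map_sub, h, sub_self]
    exact sub_eq_zero.mp (hBinj _ this)
  -- the key identity
  have key : ∀ a b : F, B (a * b * a) = B a * C b * B a := by
    intro a b
    by_cases ha : a = 0
    · simp [ha]
    by_cases hb : b = 0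
    · simp [hb, hC0]
    by_cases hab : b⁻¹ = a
    · have e1 : a * b * a = a := by
        rw [← hab]
        field_simp
      have e2 : C b = (B a)⁻¹ := by
        rw [← hab, hBC, inv_inv]
      rw [e1, e2, mul_inv_cancel₀ (hBne a ha), one_mul]
    · have h1 := hua a b ha hb hab
      have h2 := hua (B a) (C b) (hBne a ha) (hCne b hb) (by
        rw [← hBC]
        intro h
        exact hab (hBinj' _ _ h))
      rw [← h1, map_sub, hBC, hCadd, hCB, hCB, map_sub, hBC]
      exact h2
  -- B = C
  have hBeqC : ∀ b, B b = C b := by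
    intro b
    have := key 1 b
    rwa [one_mul, mul_one, hB1, one_mul, mul_one] at this
  rw [key, ← hBeqC]

end hua

section field
variable {F : Type*} [Field F] [Fintype F] [CharP F 2] {θ : F →+* F}

/-- the map `t ↦ θ t + t` -/
def tHom (θ : F →+* F) : F →+ F where
  toFun t := θ t + t
  map_zero' := by simp
  map_add' x y := by rw [map_add]; ring

/-- its range, a subgroup of index two -/
def T0 (θ : F →+* F) : AddSubgroup F := (tHom θ).range

theorem mem_T0 (x : F) : x ∈ T0 θ ↔ ∃ t, θ t + t = x := Iff.rfl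

theorem Q_inj (hθθ : ∀ x, θ (θ x) = x * x) {a a' : F} (h : θ a * a = θ a' * a') : a = a' := by
  by_cases ha' : a' = 0
  · rw [ha', map_zero, zero_mul] at h
    rcases mul_eq_zero.mp h with h1 | h1
    · rw [ha']; exact (map_eq_zero θ).mp h1
    · rw [ha']; exact h1
  · have hθa' : θ a' ≠ 0 := (map_ne_zero θ).mpr ha'
    set t := a / a' with ht
    have h1 : θ t * t = 1 := by
      rw [ht, map_div₀]
      field_simp
      linear_combination h
    have ht0 : t ≠ 0 := right_ne_zero_of_mul_eq_one h1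
    have h2 : θ t = t⁻¹ := eq_inv_of_mul_eq_one_left h1
    have h3 : t * t = t := by
      rw [← hθθ, h2, map_inv₀, h2, inv_inv]
    have h4 : t = 1 := by
      have : t * (t - 1) = 0 := by linear_combination h3
      rcases mul_eq_zero.mp this with h | h
      · exact absurd h ht0
      · exact sub_eq_zero.mp h
    rw [ht, div_eq_one_iff_eq ha'] at h4
    exact h4

theorem Q_surj (hθθ : ∀ x, θ (θ x) = x * x) (c : F) : ∃ a, θ a * a = c :=
  Finite.surjective_of_injective (f := fun a => θ a * a) (fun _ _ h => Q_inj hθθ h) c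

theorem T0_index (hθθ : ∀ x, θ (θ x) = x * x) : (T0 θ).index = 2 := by
  classical
  have hker : ∀ t : F, t ∈ (tHom θ).ker ↔ t = 0 ∨ t = 1 := by
    intro t
    rw [AddMonoidHom.mem_ker]
    show θ t + t = 0 ↔ _
    constructor
    · intro h
      have h1 : θ t = t := by linear_combination h - add_self' t
      have h2 : t * t = t := by rw [← hθθ, h1, h1]
      have : t * (t - 1) = 0 := by linear_combination h2
      rcases mul_eq_zero.mp this with h | h
      · left; exact h
      · right; exact sub_eq_zero.mp h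
    · rintro (rfl | rfl)
      · simp
      · rw [map_one]; exact add_self' 1
  have hcardker : Nat.card (tHom θ).ker = 2 := by
    have e : (tHom θ).ker ≃ ({0, 1} : Finset F) :=
      { toFun := fun t => ⟨t.1, by
          rcases (hker t.1).mp t.2 with h | h <;> simp [h]⟩
        invFun := fun t => ⟨t.1, (hker t.1).mpr (by
          have := t.2
          rw [Finset.mem_insert, Finset.mem_singleton] at this
          exact this)⟩
        left_inv := fun t => rfl
        right_inv := fun t => rfl }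
    rw [Nat.card_congr e, Nat.card_eq_fintype_card, Fintype.card_coe,
      Finset.card_pair zero_ne_one]
  have h1 : (tHom θ).ker.index = Nat.card (T0 θ) := AddSubgroup.index_ker (tHom θ)
  have h2 := AddSubgroup.card_mul_index (tHom θ).ker
  have h3 := AddSubgroup.card_mul_index (T0 θ)
  rw [hcardker, h1] at h2
  have hpos : 0 < Nat.card (T0 θ) := Nat.card_pos
  have : Nat.card (T0 θ) * (T0 θ).index = Nat.card (T0 θ) * 2 := by
    rw [h3, ← h2, mul_comm]
  exact Nat.eq_of_mul_eq_mul_left hpos this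

theorem T0_add_mem_iff (hθθ : ∀ x, θ (θ x) = x * x) (x y : F) :
    x + y ∈ T0 θ ↔ (x ∈ T0 θ ↔ y ∈ T0 θ) :=
  AddSubgroup.add_mem_iff_of_index_two (T0_index hθθ)

theorem T0_ne_top (hθθ : ∀ x, θ (θ x) = x * x) : ∃ x : F, x ∉ T0 θ := by
  by_contra h
  push Not at h
  have : T0 θ = ⊤ := by
    ext x
    simp [h x]
  have h2 := T0_index hθθ
  rw [this, AddSubgroup.index_top] at h2
  exact absurd h2 (by norm_num)

/-- the structure theorem at the level of the field -/
theorem field_struct (hθθ : ∀ x, θ (θ x) = x * x) (e : ℕ) (hθe : ∀ x, θ x = x ^ e)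
    (A B : F →+ F) (hAs : Function.Surjective A) (hBinj : ∀ c, B c = 0 → c = 0)
    (hN : ∀ a, B (θ a * a) = θ (A a) * A a) :
    ∃ (ν : F) (ρ : F ≃+* F), ν ≠ 0 ∧ (∀ a, A a = ν * ρ a) ∧ ∀ c, B c = θ ν * ν * ρ c := by
  have h2 : ∀ x : F, x + x = 0 := CharTwo.add_self_eq_zero
  have hBinj' : ∀ c c', B c = B c' → c = c' := by
    intro c c' h
    have : B (c - c') = 0 := by rw [map_sub, h, sub_self]
    exact sub_eq_zero.mp (hBinj _ this)
  have hBs : Function.Surjective B :=
    Finite.surjective_of_injective (fun c c' h => hBinj' c c' h)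
  -- polar identity
  have hpol : ∀ x y, B (θ x * y + θ y * x) = θ (A x) * A y + θ (A y) * A x := by
    intro x y
    have h1 := hN (x + y)
    have e1 : θ (x + y) * (x + y) = (θ x * x + θ y * y) + (θ x * y + θ y * x) := by
      rw [map_add]; ring
    have hL : B (θ (x + y) * (x + y)) =
        θ (A x) * A x + θ (A y) * A y + B (θ x * y + θ y * x) := by
      rw [e1, map_add, map_add, hN, hN]
    have hR : θ (A (x + y)) * A (x + y) =
        θ (A x) * A x + θ (A y) * A y + (θ (A x) * A y + θ (A y) * A x) := by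
      rw [map_add A, map_add θ]; ring
    rw [hL, hR] at h1
    exact add_left_cancel h1
  -- β(a, a t) = Q(a) (θ t + t)
  have hβ : ∀ a t : F, θ a * (a * t) + θ (a * t) * a = θ a * a * (θ t + t) := by
    intro a t
    rw [map_mul]; ring
  have hA0 : ∀ a, a ≠ 0 → A a ≠ 0 := by
    intro a ha h
    have h1 := hN a
    rw [h, map_zero, zero_mul] at h1
    have h3 := hBinj _ h1
    rcases mul_eq_zero.mp h3 with h4 | h4
    · exact ha ((map_eq_zero θ).mp h4)
    · exact ha h4
  -- duality
  have hdual : ∀ x c : F, c ≠ 0 → (x / c ∈ T0 θ ↔ B x / B c ∈ T0 θ) := by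
    intro x c hc
    obtain ⟨a0, ha0⟩ := Q_surj hθθ c
    have ha00 : a0 ≠ 0 := by
      rintro rfl
      rw [map_zero, zero_mul] at ha0
      exact hc ha0.symm
    have hAa0 : A a0 ≠ 0 := hA0 a0 ha00
    have hBc : B c = θ (A a0) * A a0 := by rw [← ha0, hN]
    have hBc0 : B c ≠ 0 := by
      rw [hBc]
      exact mul_ne_zero ((map_ne_zero θ).mpr hAa0) hAa0
    constructor
    · rintro ⟨t, ht'⟩
      have ht : θ t + t = x / c := ht'
      have hx : x = θ a0 * (a0 * t) + θ (a0 * t) * a0 := by
        rw [hβ, ht, ha0]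
        field_simp
      refine ⟨A (a0 * t) / A a0, ?_⟩
      show θ (A (a0 * t) / A a0) + A (a0 * t) / A a0 = B x / B c
      have hθA : θ (A a0) ≠ 0 := (map_ne_zero θ).mpr hAa0
      rw [hx, hpol, hBc, map_div₀ θ]
      field_simp
      ring
    · rintro ⟨s, hs'⟩
      have hs : θ s + s = B x / B c := hs'
      obtain ⟨a', ha'⟩ := hAs (s * A a0)
      have h1 : B x = B (θ a0 * a' + θ a' * a0) := by
        rw [hpol, ha', map_mul]
        have : B x = B c * (θ s + s) := by
          rw [hs]; field_simp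
        rw [this, hBc]
        ring
      have h3 := hBinj' _ _ h1
      refine ⟨a' / a0, ?_⟩
      show θ (a' / a0) + a' / a0 = x / c
      have hθa0 : θ a0 ≠ 0 := (map_ne_zero θ).mpr ha00
      rw [h3, ← ha0, map_div₀ θ]
      field_simp
      ring
  -- the inverse-dual map is additive
  have hCadd : ∀ y y' : F, (B (y + y')⁻¹)⁻¹ = (B y⁻¹)⁻¹ + (B y'⁻¹)⁻¹ := by
    intro y y'
    set C : F → F := fun u => (B u⁻¹)⁻¹ with hCdef
    -- x * y ∈ T0 ↔ B x * C y ∈ T0
    have hd : ∀ x u : F, x * u ∈ T0 θ ↔ B x * C u ∈ T0 θ := by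
      intro x u
      by_cases hu : u = 0
      · simp [hu, hCdef]
      · have := hdual x u⁻¹ (inv_ne_zero hu)
        rw [div_eq_mul_inv, inv_inv, div_eq_mul_inv] at this
        exact this
    show C (y + y') = C y + C y'
    by_contra hne
    have hd0 : C (y + y') + (C y + C y') ≠ 0 := by
      intro h
      apply hne
      linear_combination h - h2 (C y + C y')
    obtain ⟨w, hw⟩ := T0_ne_top (θ := θ) hθθ
    obtain ⟨x, hx⟩ := hBs (w / (C (y + y') + (C y + C y')))
    apply hw
    have e1 : w = B x * C (y + y') + B x * (C y + C y') := by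
      rw [hx]; field_simp
    rw [e1, T0_add_mem_iff hθθ, ← hd, mul_add x, T0_add_mem_iff hθθ, hd x y, hd x y',
      ← T0_add_mem_iff hθθ, mul_add]
  -- normalise B
  have hB1 : B 1 ≠ 0 := fun h => one_ne_zero (hBinj 1 h)
  let B1 : F →+ F :=
    { toFun := fun x => (B 1)⁻¹ * B x
      map_zero' := by rw [map_zero, mul_zero]
      map_add' := fun x y => by rw [map_add, mul_add] }
  have hB1app : ∀ x, B1 x = (B 1)⁻¹ * B x := fun x => rfl
  have hmul : ∀ a b, B1 (a * b * a) = B1 a * B1 b * B1 a := by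
    apply hua_mul B1
    · intro x hx
      rw [hB1app] at hx
      rcases mul_eq_zero.mp hx with h | h
      · exact absurd h (inv_ne_zero hB1)
      · exact hBinj x h
    · rw [hB1app, inv_mul_cancel₀ hB1]
    · intro x y
      rw [hB1app, hB1app, hB1app, mul_inv, mul_inv, mul_inv, inv_inv, hCadd, mul_add]
  have hB11 : B1 1 = 1 := by rw [hB1app, inv_mul_cancel₀ hB1]
  -- every element is a square
  have hsq : ∀ x : F, ∃ r, x = r * r := by
    intro x
    obtain ⟨r, hr⟩ := FiniteField.isSquare_of_char_two (CharP.ringChar_of_prime_eq_zero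
      Nat.prime_two (by exact_mod_cast (CharP.cast_eq_zero F 2))) x
    exact ⟨r, hr⟩
  have hmul2 : ∀ x y, B1 (x * y) = B1 x * B1 y := by
    intro x y
    obtain ⟨r, rfl⟩ := hsq x
    have h1 := hmul r y
    have h3 := hmul r 1
    rw [mul_one, hB11, mul_one] at h3
    rw [h3, show r * r * y = r * y * r by ring, h1]
    ring
  let ρh : F →+* F :=
    { toFun := B1
      map_one' := hB11
      map_mul' := hmul2
      map_zero' := map_zero B1
      map_add' := map_add B1 }
  let ρ : F ≃+* F := RingEquiv.ofBijective ρh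
    ⟨RingHom.injective ρh, Finite.surjective_of_injective (RingHom.injective ρh)⟩
  have hρ : ∀ x, ρ x = (B 1)⁻¹ * B x := fun x => rfl
  have hBρ : ∀ x, B x = B 1 * ρ x := by
    intro x
    rw [hρ, ← mul_assoc, mul_inv_cancel₀ hB1, one_mul]
  have hρθ : ∀ x, θ (ρ x) = ρ (θ x) := by
    intro x
    rw [hθe, hθe, map_pow]
  obtain ⟨ν, hν⟩ := Q_surj hθθ (B 1)
  have hν0 : ν ≠ 0 := by
    rintro rfl
    rw [map_zero, zero_mul] at hν
    exact hB1 hν.symm
  refine ⟨ν, ρ, hν0, ?_, ?_⟩
  · intro a
    apply Q_inj hθθ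
    rw [← hN, hBρ, ← hν, map_mul, map_mul, hρθ]
    ring
  · intro c
    rw [hBρ, hν]

end field

end Cfsg.Agent.Lib.helper14.SzAut
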