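import Mathlib
import Cfsg.Agent.Lib.helper14.SzAut
import Cfsg.Prelude.Def_Solvable

set_option autoImplicit false

/-! The automorphism group of the model `SzP θ` of the Sylow 2-subgroup of `Sz(q)`. -/

namespace Cfsg.Agent.Lib.helper14.SzAut2

open Cfsg.Agent.Lib.helper14.SzModel Cfsg.Agent.Lib.helper14.SzAut

section semi
variable {F : Type*} [Field F] [Fintype F] [CharP F 2] {θ : F →+* F}

instance : Finite (SzP θ) := by
  have : Function.Injective (fun x : SzP θ => (x.a, x.b)) := by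
    intro x y h
    have h1 := congrArg Prod.fst h
    have h2 := congrArg Prod.snd h
    exact SzP.ext h1 h2
  exact Finite.of_injective _ this

/-- the structure theorem for automorphisms of the model -/
theorem aut_struct (hθθ : ∀ x, θ (θ x) = x * x) (e : ℕ) (hθe : ∀ x, θ x = x ^ e)
    (φ : MulAut (SzP θ)) :
    ∃ (ν : F) (ρ : F ≃+* F), ν ≠ 0 ∧ (∀ x : SzP θ, (φ x).a = ν * ρ x.a) ∧
      ∀ x : SzP θ, x.a = 0 → (φ x).b = θ ν * ν * ρ x.b := by
  have hsurj : Function.Surjective (Amap φ.toMonoidHom) := by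
    intro b
    refine ⟨Amap (φ⁻¹ : MulAut (SzP θ)).toMonoidHom b, ?_⟩
    rw [← Amap_comp]
    have : φ.toMonoidHom.comp (φ⁻¹ : MulAut (SzP θ)).toMonoidHom = MonoidHom.id (SzP θ) := by
      ext x : 1
      show φ (φ.symm x) = x
      exact φ.apply_symm_apply x
    rw [this, Amap_id]
  obtain ⟨ν, ρ, hν, hA, hB⟩ := field_struct hθθ e hθe (Amap φ.toMonoidHom) (Bmap φ.toMonoidHom)
    hsurj (Bmap_inj _ φ.injective) (Bmap_norm _)
  refine ⟨ν, ρ, hν, ?_, ?_⟩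
  · intro x
    rw [← hA, Amap_apply]
    rfl
  · intro x hx
    rw [← hB, ← Bmap_apply _ _ hx]
    rfl

theorem theta_comm (e : ℕ) (hθe : ∀ x, θ x = x ^ e) (ρ : F ≃+* F) (y : F) : θ (ρ y) = ρ (θ y) := by
  rw [hθe, hθe, map_pow]

/-- the semilinear automorphism `(a, b) ↦ (ν ρ a, θ(ν) ν ρ b)` -/
def semiFun (θ : F →+* F) (ν : F) (ρ : F ≃+* F) (x : SzP θ) : SzP θ :=
  ⟨ν * ρ x.a, θ ν * ν * ρ x.b⟩

theorem semiFun_a (ν : F) (ρ : F ≃+* F) (x : SzP θ) : (semiFun θ ν ρ x).a = ν * ρ x.a := rfl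

theorem semiFun_b (ν : F) (ρ : F ≃+* F) (x : SzP θ) :
    (semiFun θ ν ρ x).b = θ ν * ν * ρ x.b := rfl

theorem semiFun_mul (e : ℕ) (hθe : ∀ x, θ x = x ^ e) (ν : F) (ρ : F ≃+* F) (x y : SzP θ) :
    semiFun θ ν ρ (x * y) = semiFun θ ν ρ x * semiFun θ ν ρ y := by
  ext
  · simp only [semiFun_a, mul_a, map_add]; ring
  · simp only [semiFun_b, semiFun_a, mul_b, mul_a, map_add, map_mul, theta_comm e hθe]; ring

theorem semiFun_injective (ν : F) (hν : ν ≠ 0) (ρ : F ≃+* F) :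
    Function.Injective (semiFun θ ν ρ) := by
  intro x y h
  have hb := congrArg SzP.a h
  have hc := congrArg SzP.b h
  rw [semiFun_a, semiFun_a] at hb
  rw [semiFun_b, semiFun_b] at hc
  have hθν : θ ν ≠ 0 := (map_ne_zero θ).mpr hν
  ext
  · exact ρ.injective (mul_left_cancel₀ hν hb)
  · exact ρ.injective (mul_left_cancel₀ (mul_ne_zero hθν hν) hc)

/-- the semilinear automorphism as a `MulAut` -/
noncomputable def semiAut (e : ℕ) (hθe : ∀ x, θ x = x ^ e) (ν : Fˣ) (ρ : F ≃+* F) :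
    MulAut (SzP θ) :=
  MulEquiv.ofBijective
    ({ toFun := semiFun θ (ν : F) ρ
       map_one' := by
        ext
        · rw [semiFun_a, one_a, map_zero, mul_zero]
        · rw [semiFun_b, one_b, map_zero, mul_zero]
       map_mul' := semiFun_mul e hθe (ν : F) ρ } : SzP θ →* SzP θ)
    ⟨semiFun_injective (ν : F) ν.ne_zero ρ,
      Finite.surjective_of_injective (semiFun_injective (ν : F) ν.ne_zero ρ)⟩

theorem semiAut_a (e : ℕ) (hθe : ∀ x, θ x = x ^ e) (ν : Fˣ) (ρ : F ≃+* F) (x : SzP θ) :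
    (semiAut e hθe ν ρ x).a = (ν : F) * ρ x.a := rfl

/-- the automorphisms acting trivially modulo the centre -/
def KerS (θ : F →+* F) : Subgroup (MulAut (SzP θ)) where
  carrier := {φ | ∀ x, (φ x).a = x.a}
  one_mem' := fun x => rfl
  mul_mem' := fun {φ ψ} hφ hψ x => by
    show (φ (ψ x)).a = x.a
    rw [hφ, hψ]
  inv_mem' := fun {φ} hφ x => by
    have := hφ (φ.symm x)
    rw [MulEquiv.apply_symm_apply] at this
    exact this.symm

instance KerS_normal : (KerS θ).Normal := by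
  constructor
  intro φ hφ ψ x
  show (ψ (φ (ψ⁻¹ x))).a = x.a
  have h1 : (ψ (φ (ψ⁻¹ x))).a = (ψ (ψ⁻¹ x)).a := a_congr ψ.toMonoidHom (hφ _)
  rw [h1]
  show (ψ (ψ.symm x)).a = x.a
  rw [MulEquiv.apply_symm_apply]

theorem ker_fix_center (hθθ : ∀ x, θ (θ x) = x * x) (e : ℕ) (hθe : ∀ x, θ x = x ^ e)
    (φ : MulAut (SzP θ)) (h : φ ∈ KerS θ) (z : SzP θ) (hz : z.a = 0) : φ z = z := by
  obtain ⟨ν, ρ, hν, hA, hB⟩ := aut_struct hθθ e hθe φ
  have hν1 : ν = 1 := by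
    have := hA (lift θ 1)
    rw [h, lift_a, map_one, mul_one] at this
    exact this.symm
  have hρ : ∀ b, ρ b = b := by
    intro b
    have := hA (lift θ b)
    rw [h, lift_a, hν1, one_mul] at this
    exact this.symm
  ext
  · rw [h]
  · rw [hB z hz, hν1, map_one, one_mul, one_mul, hρ]

theorem ker_apply (hθθ : ∀ x, θ (θ x) = x * x) (e : ℕ) (hθe : ∀ x, θ x = x ^ e)
    (φ ψ : MulAut (SzP θ)) (hφ : φ ∈ KerS θ) (hψ : ψ ∈ KerS θ) (x : SzP θ) :
    φ (ψ x) = x * (x⁻¹ * φ x) * (x⁻¹ * ψ x) := by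
  have h2 : (x⁻¹ * ψ x).a = 0 := by rw [mul_a, inv_a, hψ]; exact add_self' _
  have e1 : φ x = x * (x⁻¹ * φ x) := by group
  have e2 : ψ x = x * (x⁻¹ * ψ x) := by group
  calc φ (ψ x) = φ (x * (x⁻¹ * ψ x)) := by rw [← e2]
    _ = φ x * (x⁻¹ * ψ x) := by rw [map_mul, ker_fix_center hθθ e hθe φ hφ _ h2]
    _ = x * (x⁻¹ * φ x) * (x⁻¹ * ψ x) := by rw [← e1]

theorem ker_comm (hθθ : ∀ x, θ (θ x) = x * x) (e : ℕ) (hθe : ∀ x, θ x = x ^ e)
    (φ ψ : MulAut (SzP θ)) (hφ : φ ∈ KerS θ) (hψ : ψ ∈ KerS θ) : φ * ψ = ψ * φ := by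
  ext x : 1
  show φ (ψ x) = ψ (φ x)
  have h1 : (x⁻¹ * φ x).a = 0 := by rw [mul_a, inv_a, hφ]; exact add_self' _
  have h2 : (x⁻¹ * ψ x).a = 0 := by rw [mul_a, inv_a, hψ]; exact add_self' _
  have hcomm : (x⁻¹ * φ x) * (x⁻¹ * ψ x) = (x⁻¹ * ψ x) * (x⁻¹ * φ x) := by
    rw [comm_iff, h1, h2, map_zero, zero_mul]
  rw [ker_apply hθθ e hθe φ ψ hφ hψ, ker_apply hθθ e hθe ψ φ hψ hφ, mul_assoc, hcomm, ← mul_assoc]

theorem ker_sq (hθθ : ∀ x, θ (θ x) = x * x) (e : ℕ) (hθe : ∀ x, θ x = x ^ e)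
    (φ : MulAut (SzP θ)) (hφ : φ ∈ KerS θ) : φ ^ 2 = 1 := by
  ext x : 1
  rw [pow_two]
  show φ (φ x) = x
  have h1 : (x⁻¹ * φ x).a = 0 := by rw [mul_a, inv_a, hφ]; exact add_self' _
  have h3 : (x⁻¹ * φ x) * (x⁻¹ * φ x) = 1 := (sq_eq_one_iff _).mpr h1
  rw [ker_apply hθθ e hθe φ φ hφ hφ, mul_assoc, h3, mul_one]

theorem ker_isPGroup (hθθ : ∀ x, θ (θ x) = x * x) (e : ℕ) (hθe : ∀ x, θ x = x ^ e) :
    IsPGroup 2 (KerS θ) := by
  intro φ
  refine ⟨1, ?_⟩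
  apply Subtype.ext
  rw [pow_one]
  exact ker_sq hθθ e hθe φ.1 φ.2

end semi

section count
variable {F : Type*} [Field F] [Fintype F] [CharP F 2] {θ : F →+* F}

theorem exists_dat (hθθ : ∀ x, θ (θ x) = x * x) (e : ℕ) (hθe : ∀ x, θ x = x ^ e)
    (φ : MulAut (SzP θ)) : ∃ d : Fˣ × (F ≃+* F), ∀ x, (φ x).a = (d.1 : F) * d.2 x.a := by
  obtain ⟨ν, ρ, hν, hA, -⟩ := aut_struct hθθ e hθe φ
  exact ⟨(Units.mk0 ν hν, ρ), hA⟩

/-- the semilinear data of an automorphism -/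
noncomputable def dat (hθθ : ∀ x, θ (θ x) = x * x) (e : ℕ) (hθe : ∀ x, θ x = x ^ e)
    (φ : MulAut (SzP θ)) : Fˣ × (F ≃+* F) := Classical.choose (exists_dat hθθ e hθe φ)

theorem dat_spec (hθθ : ∀ x, θ (θ x) = x * x) (e : ℕ) (hθe : ∀ x, θ x = x ^ e)
    (φ : MulAut (SzP θ)) (x : SzP θ) :
    (φ x).a = ((dat hθθ e hθe φ).1 : F) * (dat hθθ e hθe φ).2 x.a :=
  Classical.choose_spec (exists_dat hθθ e hθe φ) x

theorem dat_unique (d d' : Fˣ × (F ≃+* F))
    (h : ∀ b : F, (d.1 : F) * d.2 b = (d'.1 : F) * d'.2 b) : d = d' := by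
  have h1 := h 1
  rw [map_one, map_one, mul_one, mul_one] at h1
  have h2 : d.1 = d'.1 := Units.ext h1
  apply Prod.ext h2
  ext b
  have := h b
  rw [h1] at this
  exact mul_left_cancel₀ d'.1.ne_zero this

/-- the basic equation for the data -/
theorem dat_eq (hθθ : ∀ x, θ (θ x) = x * x) (e : ℕ) (hθe : ∀ x, θ x = x ^ e)
    (φ : MulAut (SzP θ)) (ν : F) (ρ : F → F) (hρ1 : ρ 1 = 1)
    (h : ∀ x : SzP θ, (φ x).a = ν * ρ x.a) :
    ((dat hθθ e hθe φ).1 : F) = ν ∧ ∀ b, (dat hθθ e hθe φ).2 b = ρ b := by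
  have h1 : ∀ b : F, ((dat hθθ e hθe φ).1 : F) * (dat hθθ e hθe φ).2 b = ν * ρ b := by
    intro b
    have := dat_spec hθθ e hθe φ (lift θ b)
    rw [h, lift_a] at this
    exact this.symm
  have h2 := h1 1
  rw [map_one, mul_one, hρ1, mul_one] at h2
  refine ⟨h2, fun b => ?_⟩
  have h3 := h1 b
  rw [h2] at h3
  have hν : ν ≠ 0 := by rw [← h2]; exact (dat hθθ e hθe φ).1.ne_zero
  exact mul_left_cancel₀ hν h3

theorem dat_mul (hθθ : ∀ x, θ (θ x) = x * x) (e : ℕ) (hθe : ∀ x, θ x = x ^ e)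
    (φ ψ : MulAut (SzP θ)) :
    ((dat hθθ e hθe (φ * ψ)).1 : F) =
        ((dat hθθ e hθe φ).1 : F) * (dat hθθ e hθe φ).2 ((dat hθθ e hθe ψ).1 : F) ∧
      ∀ b, (dat hθθ e hθe (φ * ψ)).2 b = (dat hθθ e hθe φ).2 ((dat hθθ e hθe ψ).2 b) := by
  apply dat_eq hθθ e hθe (φ * ψ) _ (fun b => (dat hθθ e hθe φ).2 ((dat hθθ e hθe ψ).2 b))
  · rw [map_one, map_one]
  · intro x
    show (φ (ψ x)).a = _
    rw [dat_spec hθθ e hθe φ, dat_spec hθθ e hθe ψ, map_mul]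
    ring

theorem dat_one (hθθ : ∀ x, θ (θ x) = x * x) (e : ℕ) (hθe : ∀ x, θ x = x ^ e) :
    ((dat hθθ e hθe (1 : MulAut (SzP θ))).1 : F) = 1 ∧
      ∀ b, (dat hθθ e hθe (1 : MulAut (SzP θ))).2 b = b := by
  apply dat_eq hθθ e hθe 1 1 (fun b => b) rfl
  intro x
  rw [one_mul]
  rfl

theorem dat_semiAut (hθθ : ∀ x, θ (θ x) = x * x) (e : ℕ) (hθe : ∀ x, θ x = x ^ e)
    (μ : Fˣ) (ρ : F ≃+* F) :
    ((dat hθθ e hθe (semiAut (θ := θ) e hθe μ ρ)).1 : F) = μ ∧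
      ∀ b, (dat hθθ e hθe (semiAut (θ := θ) e hθe μ ρ)).2 b = ρ b := by
  apply dat_eq hθθ e hθe _ _ (fun b => ρ b) (map_one ρ)
  intro x
  rw [semiAut_a]

theorem dat_semi (hθθ : ∀ x, θ (θ x) = x * x) (e : ℕ) (hθe : ∀ x, θ x = x ^ e)
    (κ : MulAut (SzP θ)) (hκ : κ ∈ KerS θ) (d : Fˣ × (F ≃+* F)) :
    dat hθθ e hθe (κ * semiAut e hθe d.1 d.2) = d := by
  apply dat_unique
  intro b
  have := dat_spec hθθ e hθe (κ * semiAut e hθe d.1 d.2) (lift θ b)
  rw [lift_a] at this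
  rw [← this]
  show (κ (semiAut e hθe d.1 d.2 (lift θ b))).a = _
  rw [hκ, semiAut_a, lift_a]

theorem mul_semi_inv_mem (hθθ : ∀ x, θ (θ x) = x * x) (e : ℕ) (hθe : ∀ x, θ x = x ^ e)
    (φ : MulAut (SzP θ)) :
    φ * (semiAut e hθe (dat hθθ e hθe φ).1 (dat hθθ e hθe φ).2)⁻¹ ∈ KerS θ := by
  intro x
  set S := semiAut (θ := θ) e hθe (dat hθθ e hθe φ).1 (dat hθθ e hθe φ).2 with hS
  show (φ (S⁻¹ x)).a = x.a
  have h1 : x = S (S⁻¹ x) := by
    show x = S (S.symm x)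
    rw [MulEquiv.apply_symm_apply]
  rw [dat_spec hθθ e hθe φ]
  conv_rhs => rw [h1]
  rw [hS, semiAut_a]

/-- the decomposition of the automorphism group -/
noncomputable def autEquiv (hθθ : ∀ x, θ (θ x) = x * x) (e : ℕ) (hθe : ∀ x, θ x = x ^ e) :
    MulAut (SzP θ) ≃ KerS θ × (Fˣ × (F ≃+* F)) where
  toFun φ := (⟨φ * (semiAut e hθe (dat hθθ e hθe φ).1 (dat hθθ e hθe φ).2)⁻¹,
    mul_semi_inv_mem hθθ e hθe φ⟩, dat hθθ e hθe φ)
  invFun p := p.1.1 * semiAut e hθe p.2.1 p.2.2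
  left_inv φ := by
    show φ * (semiAut e hθe (dat hθθ e hθe φ).1 (dat hθθ e hθe φ).2)⁻¹ *
      semiAut e hθe (dat hθθ e hθe φ).1 (dat hθθ e hθe φ).2 = φ
    rw [inv_mul_cancel_right]
  right_inv p := by
    have h := dat_semi hθθ e hθe p.1.1 p.1.2 p.2
    apply Prod.ext
    · apply Subtype.ext
      show p.1.1 * semiAut e hθe p.2.1 p.2.2 *
        (semiAut e hθe (dat hθθ e hθe (p.1.1 * semiAut e hθe p.2.1 p.2.2)).1
          (dat hθθ e hθe (p.1.1 * semiAut e hθe p.2.1 p.2.2)).2)⁻¹ = p.1.1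
      rw [h, mul_inv_cancel_right]
    · exact h

/-- the number of field automorphisms -/
theorem card_ringAut (n : ℕ) (hF : Fintype.card F = 2 ^ n) : Nat.card (F ≃+* F) = n := by
  haveI : Fact (Nat.Prime 2) := ⟨Nat.prime_two⟩
  letI : Algebra (ZMod 2) F := ZMod.algebra F 2
  have hfr : Module.finrank (ZMod 2) F = n := by
    have h1 := Module.natCard_eq_pow_finrank (K := ZMod 2) (V := F)
    rw [Nat.card_eq_fintype_card, hF, Nat.card_zmod] at h1
    exact (Nat.pow_right_injective (le_refl 2) h1).symm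
  have h1 := Nat.card_eq_of_bijective _
    (FiniteField.bijective_frobeniusAlgEquivOfAlgebraic_pow (ZMod 2) F)
  rw [Nat.card_eq_fintype_card, Fintype.card_fin, hfr] at h1
  let e : (F ≃ₐ[ZMod 2] F) ≃ (F ≃+* F) :=
    { toFun := fun f => f.toRingEquiv
      invFun := fun ρ => AlgEquiv.ofRingEquiv (f := ρ) (fun r => by
        have := Subsingleton.elim ((ρ : F →+* F).comp (algebraMap (ZMod 2) F))
          (algebraMap (ZMod 2) F)
        exact RingHom.congr_fun this r)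
      left_inv := fun f => by ext x; rfl
      right_inv := fun ρ => by ext x; rfl }
  rw [← Nat.card_congr e, ← h1]

/-- the defect `(φ x).b + x.b` -/
def gdef (φ : MulAut (SzP θ)) (x : SzP θ) : F := (φ x).b + x.b

theorem gdef_mul (φ : MulAut (SzP θ)) (hφ : φ ∈ KerS θ) (x y : SzP θ) :
    gdef φ (x * y) = gdef φ x + gdef φ y := by
  unfold gdef
  rw [map_mul, mul_b, mul_b, hφ x, hφ y]
  linear_combination add_self' (θ x.a * y.a)

theorem gdef_congr (hθθ : ∀ x, θ (θ x) = x * x) (e : ℕ) (hθe : ∀ x, θ x = x ^ e)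
    (φ : MulAut (SzP θ)) (hφ : φ ∈ KerS θ) {x y : SzP θ} (h : x.a = y.a) :
    gdef φ x = gdef φ y := by
  have h1 : (x⁻¹ * y).a = 0 := by rw [mul_a, inv_a, h]; exact add_self' _
  have h2 : y = x * (x⁻¹ * y) := by group
  have h3 : gdef φ (x⁻¹ * y) = 0 := by
    unfold gdef
    rw [ker_fix_center hθθ e hθe φ hφ _ h1]
    exact add_self' _
  have h4 : gdef φ y = gdef φ (x * (x⁻¹ * y)) := congrArg (gdef φ) h2
  rw [h4, gdef_mul φ hφ, h3, add_zero]

/-- the shear `(a, b) ↦ (a, b + f a)` -/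
def shearFun (θ : F →+* F) (f : F →+ F) (x : SzP θ) : SzP θ := ⟨x.a, x.b + f x.a⟩

theorem shearFun_a (f : F →+ F) (x : SzP θ) : (shearFun θ f x).a = x.a := rfl

theorem shearFun_b (f : F →+ F) (x : SzP θ) : (shearFun θ f x).b = x.b + f x.a := rfl

theorem shearFun_shearFun (f : F →+ F) (x : SzP θ) : shearFun θ f (shearFun θ f x) = x := by
  ext
  · rfl
  · rw [shearFun_b, shearFun_b, shearFun_a]
    linear_combination add_self' (f x.a)

/-- the shear as a `MulAut` -/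
def shearAut (θ : F →+* F) (f : F →+ F) : MulAut (SzP θ) where
  toFun := shearFun θ f
  invFun := shearFun θ f
  left_inv := shearFun_shearFun f
  right_inv := shearFun_shearFun f
  map_mul' x y := by
    ext
    · rfl
    · rw [mul_b, shearFun_b, shearFun_b, shearFun_b, shearFun_a, shearFun_a, mul_b, mul_a, map_add]
      ring

theorem shearAut_mem (f : F →+ F) : shearAut θ f ∈ KerS θ := fun _ => rfl

/-- the kernel is the group of shears -/
noncomputable def kerEquiv (hθθ : ∀ x, θ (θ x) = x * x) (e : ℕ) (hθe : ∀ x, θ x = x ^ e) :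
    KerS θ ≃ (F →+ F) where
  toFun φ :=
    { toFun := fun b => gdef φ.1 (lift θ b)
      map_zero' := by
        have : gdef φ.1 (lift θ 0) = gdef φ.1 1 := gdef_congr hθθ e hθe φ.1 φ.2 rfl
        rw [this]
        unfold gdef
        rw [map_one, one_b, add_zero]
      map_add' := fun b b' => by
        have : gdef φ.1 (lift θ (b + b')) = gdef φ.1 (lift θ b * lift θ b') :=
          gdef_congr hθθ e hθe φ.1 φ.2 rfl
        rw [this, gdef_mul φ.1 φ.2] }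
  invFun f := ⟨shearAut θ f, shearAut_mem f⟩
  left_inv φ := by
    apply Subtype.ext
    ext x : 2
    · exact (φ.2 x).symm
    · show x.b + gdef φ.1 (lift θ x.a) = (φ.1 x).b
      have : gdef φ.1 (lift θ x.a) = gdef φ.1 x := gdef_congr hθθ e hθe φ.1 φ.2 rfl
      rw [this]
      unfold gdef
      linear_combination add_self' x.b
  right_inv f := by
    ext b
    show (shearFun θ f (lift θ b)).b + (lift θ b).b = f b
    rw [shearFun_b, lift_a, lift_b, zero_add, add_zero]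

theorem card_addHom (n : ℕ) (hF : Fintype.card F = 2 ^ n) : Nat.card (F →+ F) = 2 ^ (n ^ 2) := by
  haveI : Fact (Nat.Prime 2) := ⟨Nat.prime_two⟩
  letI : Algebra (ZMod 2) F := ZMod.algebra F 2
  have hfr : Module.finrank (ZMod 2) F = n := by
    have h1 := Module.natCard_eq_pow_finrank (K := ZMod 2) (V := F)
    rw [Nat.card_eq_fintype_card, hF, Nat.card_zmod] at h1
    exact (Nat.pow_right_injective (le_refl 2) h1).symm
  rw [Nat.card_congr (AddMonoidHom.toZModLinearMapEquiv 2 (M := F) (M₁ := F)).toEquiv,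
    Module.natCard_eq_pow_finrank (K := ZMod 2), Nat.card_zmod, Module.finrank_linearMap, hfr]
  congr 1
  ring

theorem card_KerS (hθθ : ∀ x, θ (θ x) = x * x) (e : ℕ) (hθe : ∀ x, θ x = x ^ e)
    (n : ℕ) (hF : Fintype.card F = 2 ^ n) : Nat.card (KerS θ) = 2 ^ (n ^ 2) := by
  rw [Nat.card_congr (kerEquiv hθθ e hθe), card_addHom n hF]

theorem card_mulAut (hθθ : ∀ x, θ (θ x) = x * x) (e : ℕ) (hθe : ∀ x, θ x = x ^ e)
    (n : ℕ) (hF : Fintype.card F = 2 ^ n) :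
    Nat.card (MulAut (SzP θ)) = 2 ^ (n ^ 2) * (n * (2 ^ n - 1)) := by
  rw [Nat.card_congr (autEquiv hθθ e hθe), Nat.card_prod, Nat.card_prod,
    card_KerS hθθ e hθe n hF, card_ringAut n hF, Nat.card_units, Nat.card_eq_fintype_card, hF]
  ring

/-- powers of an automorphism with trivial field automorphism -/
theorem dat_pow (hθθ : ∀ x, θ (θ x) = x * x) (e : ℕ) (hθe : ∀ x, θ x = x ^ e)
    (φ : MulAut (SzP θ)) (hρ : ∀ b, (dat hθθ e hθe φ).2 b = b) (j : ℕ) :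
    ((dat hθθ e hθe (φ ^ j)).1 : F) = ((dat hθθ e hθe φ).1 : F) ^ j ∧
      ∀ b, (dat hθθ e hθe (φ ^ j)).2 b = b := by
  induction j with
  | zero =>
    rw [pow_zero, pow_zero]
    exact dat_one hθθ e hθe
  | succ j ih =>
    obtain ⟨h1, h2⟩ := dat_mul hθθ e hθe (φ ^ j) φ
    rw [← pow_succ] at h1 h2
    refine ⟨?_, fun b => ?_⟩
    · rw [h1, ih.1, ih.2, pow_succ]
    · rw [h2, ih.2, hρ]

/-- a 2-element with trivial field automorphism acts trivially modulo the centre -/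
theorem nu_one_of_two_pow (hθθ : ∀ x, θ (θ x) = x * x) (e : ℕ) (hθe : ∀ x, θ x = x ^ e)
    (n : ℕ) (hn : 1 ≤ n) (hF : Fintype.card F = 2 ^ n) (φ : MulAut (SzP θ))
    (hρ : ∀ b, (dat hθθ e hθe φ).2 b = b) (k : ℕ) (hk : φ ^ (2 ^ k) = 1) :
    ((dat hθθ e hθe φ).1 : F) = 1 := by
  have h1 := (dat_pow hθθ e hθe φ hρ (2 ^ k)).1
  rw [hk, (dat_one hθθ e hθe).1] at h1
  set ν := (dat hθθ e hθe φ).1 with hν
  have h2 : ν ^ (2 ^ k) = 1 := by
    apply Units.ext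
    rw [Units.val_pow_eq_pow_val, ← h1, Units.val_one]
  have h3 : ν ^ (2 ^ n - 1) = 1 := by
    have := pow_card_eq_one' (G := Fˣ) (x := ν)
    rwa [Nat.card_units, Nat.card_eq_fintype_card, hF] at this
  have hcop : Nat.Coprime (2 ^ k) (2 ^ n - 1) := by
    apply Nat.Coprime.pow_left
    rw [Nat.coprime_two_left]
    obtain ⟨m, hm⟩ : 2 ∣ 2 ^ n := dvd_pow_self 2 (by omega)
    have hm1 : 1 ≤ m := by
      rcases Nat.eq_zero_or_pos m with h | h
      · rw [h, mul_zero] at hm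
        exact absurd hm (pow_ne_zero _ (by norm_num))
      · exact h
    exact ⟨m - 1, by omega⟩
  have h4 : ν ^ Nat.gcd (2 ^ k) (2 ^ n - 1) = 1 := pow_gcd_eq_one.mpr ⟨h2, h3⟩
  have hg : Nat.gcd (2 ^ k) (2 ^ n - 1) = 1 := hcop
  rw [hg, pow_one] at h4
  rw [h4, Units.val_one]

/-- every normal 2-subgroup of the automorphism group lies in the kernel -/
theorem normal_two_le_KerS (hθθ : ∀ x, θ (θ x) = x * x) (e : ℕ) (hθe : ∀ x, θ x = x ^ e)
    (n : ℕ) (hn : 1 ≤ n) (hF : Fintype.card F = 2 ^ n) (N : Subgroup (MulAut (SzP θ)))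
    (hN : N.Normal) (hP : IsPGroup 2 N) : N ≤ KerS θ := by
  intro φ hφ
  have hρ : ∀ b, (dat hθθ e hθe φ).2 b = b := by
    intro b
    by_cases hb : b = 0
    · rw [hb, map_zero]
    · set μ : Fˣ := Units.mk0 b hb with hμ
      set m := semiAut (θ := θ) e hθe μ (RingEquiv.refl F) with hm
      set τ := φ * m * φ⁻¹ with hτdef
      set c := τ * m⁻¹ with hcdef
      have hc : c ∈ N := by
        have h1 : m * φ⁻¹ * m⁻¹ ∈ N := hN.conj_mem _ (N.inv_mem hφ) m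
        have : c = φ * (m * φ⁻¹ * m⁻¹) := by rw [hcdef, hτdef]; group
        rw [this]
        exact N.mul_mem hφ h1
      have hτ : τ * φ = φ * m := by rw [hτdef]; group
      obtain ⟨hm1, hm2⟩ := dat_semiAut (θ := θ) hθθ e hθe μ (RingEquiv.refl F)
      rw [← hm] at hm1 hm2
      obtain ⟨a1, a2⟩ := dat_mul hθθ e hθe τ φ
      obtain ⟨b1, b2⟩ := dat_mul hθθ e hθe φ m
      rw [hτ] at a1 a2
      have hτρ : ∀ y, (dat hθθ e hθe τ).2 y = y := by
        intro y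
        obtain ⟨y', rfl⟩ := (dat hθθ e hθe φ).2.surjective y
        rw [← a2, b2, hm2]
        rfl
      have hν0 : ((dat hθθ e hθe φ).1 : F) ≠ 0 := (dat hθθ e hθe φ).1.ne_zero
      have hτν : ((dat hθθ e hθe τ).1 : F) = (dat hθθ e hθe φ).2 b := by
        rw [b1, hτρ, hm1] at a1
        have : ((dat hθθ e hθe τ).1 : F) * ((dat hθθ e hθe φ).1 : F) =
            (dat hθθ e hθe φ).2 b * ((dat hθθ e hθe φ).1 : F) := by
          rw [← a1, mul_comm]
          rfl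
        exact mul_right_cancel₀ hν0 this
      have hcm : c * m = τ := by rw [hcdef]; group
      obtain ⟨c1, c2⟩ := dat_mul hθθ e hθe c m
      rw [hcm] at c1 c2
      have hcρ : ∀ y, (dat hθθ e hθe c).2 y = y := by
        intro y
        have := c2 y
        rw [hm2, hτρ] at this
        exact this.symm
      have hcν : ((dat hθθ e hθe c).1 : F) * b = (dat hθθ e hθe φ).2 b := by
        rw [← hτν, c1, hcρ, hm1]
        rfl
      obtain ⟨k, hk⟩ := hP ⟨c, hc⟩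
      have hk' : c ^ (2 ^ k) = 1 := congrArg Subtype.val hk
      have h1 := nu_one_of_two_pow hθθ e hθe n hn hF c hcρ k hk'
      rw [h1, one_mul] at hcν
      exact hcν.symm
  obtain ⟨k, hk⟩ := hP ⟨φ, hφ⟩
  have hk' : φ ^ (2 ^ k) = 1 := congrArg Subtype.val hk
  have hν := nu_one_of_two_pow hθθ e hθe n hn hF φ hρ k hk'
  intro x
  rw [dat_spec hθθ e hθe φ, hν, one_mul, hρ]

theorem pCore_eq (hθθ : ∀ x, θ (θ x) = x * x) (e : ℕ) (hθe : ∀ x, θ x = x ^ e)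
    (n : ℕ) (hn : 1 ≤ n) (hF : Fintype.card F = 2 ^ n) :
    Cfsg.pCore 2 (MulAut (SzP θ)) = KerS θ := by
  haveI : Fact (Nat.Prime 2) := ⟨Nat.prime_two⟩
  apply le_antisymm
  · apply normal_two_le_KerS hθθ e hθe n hn hF
    · exact Subgroup.sSup_normal _ (fun _ hH => hH.1)
    · exact Sylow.sSup_of_normal _ (fun _ hH => hH.2) (fun _ hH => hH.1)
  · exact le_sSup ⟨KerS_normal, ker_isPGroup hθθ e hθe⟩

end count

end Cfsg.Agent.Lib.helper14.SzAut2
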