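import Mathlib
import Cfsg.Agent.Lib.helper8.TDM.Defs
import Cfsg.Agent.Lib.Helper26.TD4VN1
import Cfsg.Agent.Lib.Helper5.TD4VN2
import Cfsg.Agent.Lib.helper8.ChevTw8
import Cfsg.Agent.Lib.helper8.ChevTwU6

/-!
# Project TDM (helper8, S2192), rows N1 (`kq_of_add_q2`), N2 (`kq_of_sq`), N3 (`kq_ops`), by helper14.
-/

set_option autoImplicit false

namespace Cfsg.Agent.Lib.helper8.TDM

open Cfsg.Lie Cfsg.Lie.ChevalleyDatum Matrix
open Cfsg.Agent.Lib.helper8 Cfsg.Agent.Lib.helper8.TD4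
open Cfsg.Agent.Lib.helper23.TD4V

universe u

section N

variable {K : Type u} [Field K] [Fintype K] (q : ℕ)

/-- **N1** [S]. -/
theorem kq_of_add_q2 (hq : IsPrimePow q) (hK : Fintype.card K = q ^ 3) (t : K)
    (h : (t + t ^ (q ^ 2)) ^ q = t + t ^ (q ^ 2)) : t ^ q = t := by
  rw [frob_add q hq hK, pow_q_q2 q hK] at h
  have h1 : t ^ q = t ^ (q ^ 2) := by
    have := h
    rw [add_comm] at this
    exact add_left_cancel this
  have h2 : (t ^ q) ^ q = t := by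
    rw [h1, pow_q_q2 q hK]
  have h3 : (t ^ q) ^ q = t ^ (q ^ 2) := by
    rw [← pow_mul, pow_two]
  rw [h1, ← h3, h2]

/-- **N2** [S-M]. -/
theorem kq_of_sq (hq : IsPrimePow q) (hK : Fintype.card K = q ^ 3) (t : K)
    (h : (t ^ 2) ^ q = t ^ 2) : t ^ q = t := by
  have h1 : (t ^ q) ^ 2 = t ^ 2 := by
    rw [← pow_mul, mul_comm, pow_mul]
    exact h
  rcases sq_eq_sq_iff_eq_or_eq_neg.1 h1 with e | e
  · exact e
  · have e2 : (t ^ q) ^ q = t := by
      rw [e, frob_neg q hq hK, e, neg_neg]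
    have e3 : ((t ^ q) ^ q) ^ q = t := by
      rw [← pow_mul, ← pow_mul]
      have : q * (q * q) = q ^ 3 := by ring
      rw [this, pow_q3 q hK]
    rw [e2] at e3
    exact e3

/-- **N3** [S-M]. -/
theorem kq_ops (hq : IsPrimePow q) (hK : Fintype.card K = q ^ 3) :
    (∀ x y : K, x ^ q = x → y ^ q = y → (x + y) ^ q = x + y) ∧
      (∀ x y : K, x ^ q = x → y ^ q = y → (x * y) ^ q = x * y) ∧
      (∀ x : K, x ^ q = x → (-x) ^ q = -x) ∧ (∀ x : K, x ^ q = x → x⁻¹ ^ q = x⁻¹) ∧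
      ((0 : K) ^ q = 0) ∧ ((1 : K) ^ q = 1) ∧ ((-1 : K) ^ q = -1) ∧ ∃ t : K, t ^ q ≠ t := by
  refine ⟨?_, ?_, ?_, ?_, zero_pow hq.ne_zero, one_pow q, ?_, ?_⟩
  · intro x y hx hy
    rw [frob_add q hq hK, hx, hy]
  · intro x y hx hy
    rw [mul_pow, hx, hy]
  · intro x hx
    rw [frob_neg q hq hK, hx]
  · intro x hx
    rw [inv_pow, hx]
  · rw [frob_neg q hq hK, one_pow]
  · obtain ⟨f, hf, hf3, _⟩ := h8frob_exists hq 3 (by norm_num) hK
    have hcard := h8frob_fix_card hq.one_lt (by norm_num : 0 < 3) hK f hf hf3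
    by_contra hall
    have hall : ∀ t : K, t ^ q = t := fun t => by
      by_contra hne
      exact hall ⟨t, hne⟩
    have hbij : Nat.card {c : K // f c = c} = Nat.card K := by
      apply Nat.card_congr
      exact ⟨fun c => c.1, fun c => ⟨c, by rw [hf, hall]⟩, fun c => rfl, fun c => rfl⟩
    rw [hcard, Nat.card_eq_fintype_card, hK] at hbij
    have h1 : 1 < q := hq.one_lt
    have : q < q ^ 3 := by
      calc q = q ^ 1 := (pow_one q).symm
        _ < q ^ 3 := Nat.pow_lt_pow_right h1 (by norm_num)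
    omega

end N

end Cfsg.Agent.Lib.helper8.TDM
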