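import Mathlib
import Cfsg.Agent.Lib.helper8.TDM.Defs
import Cfsg.Agent.Lib.helper8.ChevTwP1
import Cfsg.Agent.Lib.helper8.ChevTwP2
import Cfsg.Agent.Lib.helper8.ChevFix1
import Cfsg.Agent.Lib.helper8.TD4VE2a
import Cfsg.Agent.Lib.helper14.TDMN1

/-!
# Project TDM (helper8, S2192), rows I11 (`T1_conj_long`) and I12 (`T1_2ab`), by helper14: the action of the torus `T¹` on the long
root groups and on `X_{2a+b}`.
-/

set_option autoImplicit false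

namespace Cfsg.Agent.Lib.helper8.TDM

open Cfsg.Lie Cfsg.Lie.ChevalleyDatum Matrix
open Cfsg.Agent.Lib.helper8 Cfsg.Agent.Lib.helper8.TD4
open Cfsg.Agent.Lib.helper23.TD4V

universe u

section I

variable {K : Type u} [Field K] [Fintype K] (q : ℕ)

omit [Fintype K] in
/-- the action of `hJ t * hh 14 c` on a root element -/
theorem tdmi11_gen (t c : K) (ht : t ≠ 0) (hc0 : c ≠ 0) (r : ℕ) (hr : r < 24) (x : K) :
    (hJ hB q t * hh 14 c) * X r x * (hJ hB q t * hh 14 c)⁻¹ =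
      X r (t ^ h8K chevD4 18 r * ((t ^ q) ^ h8K chevD4 13 r * ((t ^ (q ^ 2)) ^ h8K chevD4 12 r *
        (c ^ h8K chevD4 14 r * x)))) := by
  have e : (hJ hB q t * hh 14 c) * X r x * (hJ hB q t * hh 14 c)⁻¹ =
      hJ hB q t * (hh 14 c * X r x * (hh 14 c)⁻¹) * (hJ hB q t)⁻¹ := by group
  have hr' : r < chevD4.nroots := hr
  rw [e]
  unfold hh X hJ
  rw [h8hU_conj chevD4 hB 14 r (by decide) hr' c hc0,
    h8hU_conj3 chevD4 hB 18 13 12 r (by decide) (by decide) (by decide) hr' t (t ^ q) (t ^ (q ^ 2)) ht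
      (pow_ne_zero _ ht) (pow_ne_zero _ ht)]

theorem tdmi11_Kdata : ∀ r ∈ [14, 22, 23, 9, 1, 0], r < 24 ∧ h8K chevD4 13 r = h8K chevD4 18 r ∧
    h8K chevD4 12 r = h8K chevD4 18 r := by
  decide

omit [Fintype K] in
theorem tdmi11_zpow_fix (x : K) (hx : x ^ q = x) (e : ℤ) : (x ^ e) ^ q = x ^ e := by
  rw [← zpow_natCast, ← _root_.zpow_mul, mul_comm, _root_.zpow_mul, zpow_natCast, hx]

/-- **I11** [M]. -/
theorem T1_conj_long (hq : IsPrimePow q) (hK : Fintype.card K = q ^ 3) (h : GG K) (hh' : h ∈ T1 K q)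
    (r : ℕ) (hr : r ∈ [14, 22, 23, 9, 1, 0]) :
    ∃ χ : K, χ ≠ 0 ∧ χ ^ q = χ ∧ ∀ c : K, h * X r c * h⁻¹ = X r (χ * c) := by
  obtain ⟨t, c, ht, hc0, hc, rfl⟩ := H1_form q hq hK h hh'
  obtain ⟨hr24, k13, k12⟩ := tdmi11_Kdata r hr
  have hN0 : Nm q t ≠ 0 := Nm_ne_zero q t ht
  have hNq : Nm q t ^ q = Nm q t := Nm_pow q hK t
  refine ⟨Nm q t ^ h8K chevD4 18 r * c ^ h8K chevD4 14 r, ?_, ?_, ?_⟩
  · exact mul_ne_zero (zpow_ne_zero _ hN0) (zpow_ne_zero _ hc0)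
  · rw [mul_pow, tdmi11_zpow_fix q _ hNq, tdmi11_zpow_fix q _ hc]
  · intro x
    rw [tdmi11_gen q t c ht hc0 r hr24 x, k13, k12]
    congr 1
    unfold Nm
    rw [mul_zpow, mul_zpow]
    ring

omit [Fintype K] in
theorem tdmi12_rat_iff (f : K ≃+* K) (hf : ∀ t, f t = t ^ q) (g : GG K) :
    Rat q g ↔ h8Psi chevD4 (f : K →+* K) g = g := by
  constructor
  · intro h
    apply Units.ext
    rw [h8Psi_val]
    ext i j
    rw [Matrix.map_apply]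
    show f _ = _
    rw [hf]
    exact h i j
  · intro h i j
    have h1 := congrArg (fun g : GG K => (g : Matrix chevD4.Idx chevD4.Idx K) i j) h
    simp only [h8Psi_val, Matrix.map_apply] at h1
    rw [← hf]
    exact h1

theorem tdmi12_Kdata : h8K chevD4 18 20 = 1 ∧ h8K chevD4 13 20 = -1 ∧ h8K chevD4 12 20 = 1 ∧ h8K chevD4 14 20 = 0 ∧
    h8K chevD4 18 21 = 1 ∧ h8K chevD4 13 21 = 1 ∧ h8K chevD4 12 21 = -1 ∧ h8K chevD4 14 21 = 0 ∧
    h8K chevD4 18 17 = -1 ∧ h8K chevD4 13 17 = 1 ∧ h8K chevD4 12 17 = 1 ∧ h8K chevD4 14 17 = 0 := by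
  decide

/-- **I12** [M]. -/
theorem T1_2ab (hq : IsPrimePow q) (hK : Fintype.card K = q ^ 3) (h : GG K) (hh' : h ∈ T1 K q) :
    ∃ θ : K, h * X2ab q 1 * h⁻¹ = X2ab q θ ∧ (θ ^ q = θ → Rat q h) := by
  obtain ⟨t, c, ht, hc0, hc, rfl⟩ := H1_form q hq hK h hh'
  obtain ⟨a1, a2, a3, a4, b1, b2, b3, b4, c1, c2, c3, c4⟩ := tdmi12_Kdata
  have ht1 : t ^ q ≠ 0 := pow_ne_zero _ ht
  have ht2 : t ^ (q ^ 2) ≠ 0 := pow_ne_zero _ ht
  have hq3 : (t ^ (q ^ 2)) ^ q = t := pow_q_q2 q hK t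
  have hqq : (t ^ q) ^ q = t ^ (q ^ 2) := by rw [← pow_mul, pow_two]
  set θ : K := t * (t ^ q)⁻¹ * t ^ (q ^ 2) with hθ
  have hθq : θ ^ q = t ^ q * (t ^ (q ^ 2))⁻¹ * t := by
    rw [hθ, mul_pow, mul_pow, inv_pow, hqq, hq3]
  have hθq2 : θ ^ (q ^ 2) = t ^ (q ^ 2) * t⁻¹ * t ^ q := by
    have e0 : θ ^ (q ^ 2) = (θ ^ q) ^ q := by rw [← pow_mul, pow_two]
    rw [e0, hθq, mul_pow, mul_pow, inv_pow, hqq, hq3]
  refine ⟨θ, ?_, ?_⟩
  · unfold X2ab X2AB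
    have e : (hJ hB q t * hh 14 c) * (X 20 1 * X 21 (1 ^ q) * X 17 (-(1 ^ (q ^ 2)))) * (hJ hB q t * hh 14 c)⁻¹ =
        ((hJ hB q t * hh 14 c) * X 20 1 * (hJ hB q t * hh 14 c)⁻¹) *
          ((hJ hB q t * hh 14 c) * X 21 (1 ^ q) * (hJ hB q t * hh 14 c)⁻¹) *
          ((hJ hB q t * hh 14 c) * X 17 (-(1 ^ (q ^ 2))) * (hJ hB q t * hh 14 c)⁻¹) := by group
    rw [e, tdmi11_gen q t c ht hc0 20 (by norm_num), tdmi11_gen q t c ht hc0 21 (by norm_num),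
      tdmi11_gen q t c ht hc0 17 (by norm_num), a1, a2, a3, a4, b1, b2, b3, b4, c1, c2, c3, c4, hθq, hθq2]
    simp only [zpow_one, _root_.zpow_neg_one, zpow_zero, one_pow, one_mul, mul_one]
    congr 1
    · congr 1
      · congr 1
        rw [hθ]; ring
      · congr 1
        ring
    · congr 1
      ring
  · intro hrat
    -- `t ^ q = t`
    rw [hθq, hθ] at hrat
    have e1 : (t ^ q) ^ 2 = (t ^ (q ^ 2)) ^ 2 := by
      field_simp at hrat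
      linear_combination hrat
    have h2 : ((t ^ q) ^ 2) ^ q = (t ^ q) ^ 2 := by
      rw [← pow_mul, mul_comm 2 q, pow_mul, hqq, e1]
    have haq : (t ^ q) ^ q = t ^ q := kq_of_sq q hq hK (t ^ q) h2
    have htq2' : t ^ (q ^ 2) = t ^ q := by rw [← hqq, haq]
    have htq : t ^ q = t := by
      have := hq3
      rw [htq2', haq] at this
      exact this
    have htq2 : t ^ (q ^ 2) = t := by rw [htq2', htq]
    obtain ⟨f, hf, -, -⟩ := h8frob_exists hq 3 (by norm_num) hK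
    rw [tdmi12_rat_iff q f hf]
    unfold hJ hh
    rw [map_mul, map_mul, map_mul, h8Psi_hU chevD4 hB hB, h8Psi_hU chevD4 hB hB, h8Psi_hU chevD4 hB hB,
      h8Psi_hU chevD4 hB hB]
    show h8hU chevD4 hB 18 (f t) * h8hU chevD4 hB 13 (f (t ^ q)) * h8hU chevD4 hB 12 (f (t ^ (q ^ 2))) *
      h8hU chevD4 hB 14 (f c) = _
    rw [hf, hf, hf, hf, htq, htq2, htq, hc]

end I

end Cfsg.Agent.Lib.helper8.TDM
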