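import Mathlib
import Cfsg.Agent.Lib.helper8.TDM.Defs
import Cfsg.Agent.Lib.helper8.ChevTwP1
import Cfsg.Agent.Lib.helper8.ChevTwD4
import Cfsg.Agent.Lib.helper14.TDMN1

/-!
# Project TDM (helper8, S2192), row I14 (`hh14_Xa`), by helper14: `h_β(c) ∈ G` for `c ∈ kˣ`, and it acts on `X_a(t)` by `t ↦ c⁻¹ t`.
-/

set_option autoImplicit false

namespace Cfsg.Agent.Lib.helper8.TDM

open Cfsg.Lie Cfsg.Lie.ChevalleyDatum Matrix
open Cfsg.Agent.Lib.helper8 Cfsg.Agent.Lib.helper8.TD4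
open Cfsg.Agent.Lib.helper23.TD4V

universe u

section I

variable {K : Type u} [Field K] [Fintype K] (q : ℕ)

theorem tdmi14_K : h8K chevD4 14 18 = -1 ∧ h8K chevD4 14 13 = -1 ∧ h8K chevD4 14 12 = -1 := by
  decide

omit [Fintype K] in
/-- `hh 14 c` acts on `X 18`, `X 13`, `X 12` by `c⁻¹` -/
theorem tdmi14_conj (c : K) (hc0 : c ≠ 0) (r : ℕ) (hr : r ∈ [18, 13, 12]) (t : K) :
    hh 14 c * X r t * (hh 14 c)⁻¹ = X r (c⁻¹ * t) := by
  obtain ⟨k18, k13, k12⟩ := tdmi14_K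
  simp only [List.mem_cons, List.mem_nil_iff, or_false] at hr
  unfold hh X
  rcases hr with rfl | rfl | rfl
  · rw [h8hU_conj chevD4 hB 14 18 (by decide) (by decide) c hc0, k18, _root_.zpow_neg_one]
  · rw [h8hU_conj chevD4 hB 14 13 (by decide) (by decide) c hc0, k13, _root_.zpow_neg_one]
  · rw [h8hU_conj chevD4 hB 14 12 (by decide) (by decide) c hc0, k12, _root_.zpow_neg_one]

/-- **I14** [M]. -/
theorem hh14_Xa (hq : IsPrimePow q) (hK : Fintype.card K = q ^ 3) (c : K) (hc0 : c ≠ 0) (hc : c ^ q = c) :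
    hh 14 c ∈ twistedD4 K q ∧ ∀ t : K, hh 14 c * Xa q t * (hh 14 c)⁻¹ = Xa q (c⁻¹ * t) := by
  obtain ⟨-, -, hneg, hinvk, -, h1k, -, -⟩ := kq_ops q hq hK
  constructor
  · unfold hh
    rw [h8hU_eq_nn, h8nU_eq, h8nU_eq]
    have h9 : chevD4.negIdx.getD 14 0 = 9 := by decide
    rw [h9]
    have hci : (-c⁻¹) ^ q = -c⁻¹ := hneg _ (hinvk c hc)
    have h1i : (-(1 : K)⁻¹) ^ q = -(1 : K)⁻¹ := hneg _ (hinvk 1 h1k)
    refine Subgroup.mul_mem _ (Subgroup.mul_mem _ (Subgroup.mul_mem _ ?_ ?_) ?_) (Subgroup.inv_mem _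
      (Subgroup.mul_mem _ (Subgroup.mul_mem _ ?_ ?_) ?_))
    · exact h8twD4_x1 hB q 14 (by simp) c hc
    · exact h8twD4_x1 hB q 9 (by simp) _ hci
    · exact h8twD4_x1 hB q 14 (by simp) c hc
    · exact h8twD4_x1 hB q 14 (by simp) 1 h1k
    · exact h8twD4_x1 hB q 9 (by simp) _ h1i
    · exact h8twD4_x1 hB q 14 (by simp) 1 h1k
  · intro t
    have hci : c⁻¹ ^ q = c⁻¹ := hinvk c hc
    have hci2 : c⁻¹ ^ (q ^ 2) = c⁻¹ := by rw [pow_two, pow_mul, hci, hci]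
    unfold Xa XA
    have e : hh 14 c * (X 18 t * X 13 (t ^ q) * X 12 (t ^ (q ^ 2))) * (hh 14 c)⁻¹ =
        (hh 14 c * X 18 t * (hh 14 c)⁻¹) * (hh 14 c * X 13 (t ^ q) * (hh 14 c)⁻¹) *
          (hh 14 c * X 12 (t ^ (q ^ 2)) * (hh 14 c)⁻¹) := by group
    rw [e, tdmi14_conj c hc0 18 (by simp), tdmi14_conj c hc0 13 (by simp), tdmi14_conj c hc0 12 (by simp),
      mul_pow, mul_pow, hci, hci2]

end I

end Cfsg.Agent.Lib.helper8.TDM
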