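import Mathlib
import Cfsg.Agent.Lib.helper8.TDM.Defs
import Cfsg.Agent.Lib.helper14.TDMN1

/-!
# Project TDM (helper8, S2192), row N4 (`alg_main`), by helper14: a `k`-subspace of `K = F_{q³}` containing `1`, closed under inversion
and containing an element outside `k = {c | c ^ q = c}` is all of `K`.
-/

set_option autoImplicit false

namespace Cfsg.Agent.Lib.helper8.TDM

open Cfsg.Lie Cfsg.Lie.ChevalleyDatum Matrix
open Cfsg.Agent.Lib.helper8 Cfsg.Agent.Lib.helper8.TD4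
open Cfsg.Agent.Lib.helper23.TD4V

universe u

section N

variable {K : Type u} [Field K] [Fintype K] (q : ℕ)

/-- closure under squares -/
theorem tdmn4_sq (A : AddSubgroup K) (h1 : (1 : K) ∈ A) (hinv : ∀ t ∈ A, t ≠ 0 → t⁻¹ ∈ A) (a : K) (ha : a ∈ A) :
    a ^ 2 ∈ A := by
  by_cases h0 : a = 0
  · rw [h0]; simpa using A.zero_mem
  by_cases h1' : a = 1
  · rw [h1']; simpa using h1
  have h1a : 1 - a ≠ 0 := fun e => h1' (by linear_combination -e)
  have m1 : a⁻¹ ∈ A := hinv a ha h0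
  have m2 : (1 - a)⁻¹ ∈ A := hinv _ (A.sub_mem h1 ha) h1a
  have hs : a⁻¹ + (1 - a)⁻¹ = (a * (1 - a))⁻¹ := by
    field_simp
    ring
  have hne : a⁻¹ + (1 - a)⁻¹ ≠ 0 := by
    rw [hs]
    exact inv_ne_zero (mul_ne_zero h0 h1a)
  have m3 : (a⁻¹ + (1 - a)⁻¹)⁻¹ ∈ A := hinv _ (A.add_mem m1 m2) hne
  rw [hs, inv_inv] at m3
  have : a ^ 2 = a - a * (1 - a) := by ring
  rw [this]
  exact A.sub_mem ha m3

/-- `1, t₀, t₀²` are independent over `k` -/
theorem tdmn4_indep (hq : IsPrimePow q) (hK : Fintype.card K = q ^ 3) (t₀ : K) (hn : t₀ ^ q ≠ t₀)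
    (α β γ : K) (hα : α ^ q = α) (hβ : β ^ q = β) (hγ : γ ^ q = γ)
    (h : α + β * t₀ + γ * t₀ ^ 2 = 0) : α = 0 ∧ β = 0 ∧ γ = 0 := by
  set t₁ := t₀ ^ q with ht₁
  set t₂ := t₁ ^ q with ht₂
  have h3 : t₂ ^ q = t₀ := by
    rw [ht₂, ht₁, ← pow_mul, ← pow_mul]
    have : q * (q * q) = q ^ 3 := by ring
    rw [this, pow_q3 q hK]
  have hne01 : t₀ - t₁ ≠ 0 := fun e => hn (by linear_combination -e)
  have hne02 : t₀ - t₂ ≠ 0 := by
    intro e
    have e' : t₀ = t₂ := by linear_combination e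
    apply hn
    have : t₁ = t₂ ^ q := by rw [← e']
    rw [this, h3]
  -- Frobenius of the relation
  have hF : α + β * t₁ + γ * t₁ ^ 2 = 0 := by
    have := congrArg (fun x => x ^ q) h
    beta_reduce at this
    rw [frob_add q hq hK, frob_add q hq hK, mul_pow, mul_pow, hα, hβ, hγ, zero_pow hq.ne_zero,
      ← pow_mul, mul_comm 2 q, pow_mul] at this
    exact this
  have hA : β + γ * (t₀ + t₁) = 0 := by
    have : (t₀ - t₁) * (β + γ * (t₀ + t₁)) = 0 := by linear_combination h - hF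
    rcases mul_eq_zero.1 this with e | e
    · exact absurd e hne01
    · exact e
  have hAF : β + γ * (t₁ + t₂) = 0 := by
    have := congrArg (fun x => x ^ q) hA
    beta_reduce at this
    rw [frob_add q hq hK, mul_pow, frob_add q hq hK, hβ, hγ, zero_pow hq.ne_zero] at this
    exact this
  have hγ0 : γ = 0 := by
    have : γ * (t₀ - t₂) = 0 := by linear_combination hA - hAF
    rcases mul_eq_zero.1 this with e | e
    · exact e
    · exact absurd e hne02
  have hβ0 : β = 0 := by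
    rw [hγ0, zero_mul, add_zero] at hA
    exact hA
  refine ⟨?_, hβ0, hγ0⟩
  rw [hβ0, hγ0] at h
  simpa using h

/-- **N4** [M-H] (pure algebra). -/
theorem alg_main (hq : IsPrimePow q) (hK : Fintype.card K = q ^ 3) (A : AddSubgroup K)
    (hk : ∀ c t : K, c ^ q = c → t ∈ A → c * t ∈ A) (h1 : (1 : K) ∈ A)
    (hinv : ∀ t ∈ A, t ≠ 0 → t⁻¹ ∈ A) (t₀ : K) (ht₀ : t₀ ∈ A) (hn : t₀ ^ q ≠ t₀) :
    ∀ t : K, t ∈ A := by
  classical
  obtain ⟨hadd, hmul, hneg, -, -, -, -, -⟩ := kq_ops q hq hK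
  have hsq : t₀ ^ 2 ∈ A := tdmn4_sq A h1 hinv t₀ ht₀
  -- the subfield as a subtype
  let k := {c : K // c ^ q = c}
  obtain ⟨f, hf, hf3, _⟩ := h8frob_exists hq 3 (by norm_num) hK
  have hcardk : Nat.card k = q := by
    have hcard := h8frob_fix_card hq.one_lt (by norm_num : 0 < 3) hK f hf hf3
    rw [← hcard]
    exact Nat.card_congr (Equiv.subtypeEquivRight (fun c => by rw [hf]))
  let φ : k × k × k → K := fun x => x.1.1 + x.2.1.1 * t₀ + x.2.2.1 * t₀ ^ 2
  have hinj : Function.Injective φ := by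
    intro x y hxy
    have hsub : (x.1.1 - y.1.1) + (x.2.1.1 - y.2.1.1) * t₀ + (x.2.2.1 - y.2.2.1) * t₀ ^ 2 = 0 := by
      have : φ x = φ y := hxy
      simp only [φ] at this
      linear_combination this
    have hd : ∀ a b : k, (a.1 - b.1) ^ q = a.1 - b.1 := by
      intro a b
      rw [sub_eq_add_neg]
      exact hadd _ _ a.2 (hneg _ b.2)
    obtain ⟨e1, e2, e3⟩ := tdmn4_indep q hq hK t₀ hn _ _ _ (hd x.1 y.1) (hd x.2.1 y.2.1) (hd x.2.2 y.2.2) hsub
    apply Prod.ext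
    · exact Subtype.ext (sub_eq_zero.1 e1)
    · apply Prod.ext
      · exact Subtype.ext (sub_eq_zero.1 e2)
      · exact Subtype.ext (sub_eq_zero.1 e3)
  have hcard : Nat.card K ≤ Nat.card (k × k × k) := by
    rw [Nat.card_prod, Nat.card_prod, hcardk, Nat.card_eq_fintype_card, hK]
    apply le_of_eq
    ring
  have hbij := hinj.bijective_of_nat_card_le hcard
  intro t
  obtain ⟨x, rfl⟩ := hbij.2 t
  simp only [φ]
  refine A.add_mem (A.add_mem ?_ (hk _ _ x.2.1.2 ht₀)) (hk _ _ x.2.2.2 hsq)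
  have := hk _ _ x.1.2 h1
  rwa [mul_one] at this

end N

end Cfsg.Agent.Lib.helper8.TDM
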