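import Cfsg.Agent.Lib.helper14.TS2STABB2A
import Cfsg.Agent.Lib.Helper18.TS2OTRANS
import Cfsg.Agent.Lib.helper8.TS2RLCHAR

/-!
# Project TS2, piece STABB2 (second copy): `a = 2`, `UfpA ⟹ StabB`
-/

set_option autoImplicit false
set_option linter.unusedSectionVars false
set_option linter.unusedVariables false

namespace Cfsg.Agent.Lib.Helper21.TS

open Matrix
open scoped Kronecker
open Cfsg.Agent.Lib.helper7.TP

variable {b : ℕ} {F : Type*} [Field F]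

/-- on `F²` every matrix scales an alternating form by its determinant. -/
theorem ts2stabb2_det_bf {J1 : Matrix (Fin 2) (Fin 2) F} (halt : J1ᵀ = -J1) (two : (2 : F) ≠ 0)
    (A : Matrix (Fin 2) (Fin 2) F) (x y : Fin 2 → F) :
    bf J1 (A *ᵥ x) (A *ᵥ y) = A.det * bf J1 x y := by
  rw [ts2rlchar_bf_two halt two, ts2rlchar_bf_two halt two, Matrix.det_fin_two]
  simp only [Matrix.mulVec, dotProduct, Fin.sum_univ_two]
  ring

/-- `g (A ⊗ w) ⊆ A ⊗ w'` gives an invertible `γ` with `g (x ⊗ w) = γ x ⊗ w'`. -/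
theorem ts2stabb2_gamma2 {w w' : Fin b → F} (hw : w ≠ 0) (hw' : w' ≠ 0)
    (g : Matrix.GeneralLinearGroup (Fin 2 × Fin b) F)
    (hN : ∀ x : Fin 2 → F, ∃ x' : Fin 2 → F,
      (g : Matrix (Fin 2 × Fin b) (Fin 2 × Fin b) F) *ᵥ ten x w = ten x' w') :
    ∃ γ γ' : Matrix (Fin 2) (Fin 2) F, γ * γ' = 1 ∧ γ' * γ = 1 ∧
      (∀ x : Fin 2 → F, (g : Matrix (Fin 2 × Fin b) (Fin 2 × Fin b) F) *ᵥ ten x w = ten (γ *ᵥ x) w') := by
  classical
  obtain ⟨j0, hj0⟩ : ∃ j0, w' j0 ≠ 0 := by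
    by_contra hcon
    push Not at hcon
    exact hw' (funext hcon)
  obtain ⟨γ0, hγ0⟩ := ts2stabb2a_lin_left (g : Matrix (Fin 2 × Fin b) (Fin 2 × Fin b) F) w j0
  set γ : Matrix (Fin 2) (Fin 2) F := (w' j0)⁻¹ • γ0 with hγdef
  have hγ : ∀ x : Fin 2 → F,
      (g : Matrix (Fin 2 × Fin b) (Fin 2 × Fin b) F) *ᵥ ten x w = ten (γ *ᵥ x) w' := by
    intro x
    obtain ⟨x', hx'⟩ := hN x
    rw [hx']
    congr 1
    funext i
    rw [hγdef, Matrix.smul_mulVec, Pi.smul_apply, hγ0, hx', smul_eq_mul]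
    simp only [ten]
    field_simp
  have hig : ∀ v, ((g⁻¹ : Matrix.GeneralLinearGroup (Fin 2 × Fin b) F) :
        Matrix (Fin 2 × Fin b) (Fin 2 × Fin b) F) *ᵥ
      ((g : Matrix (Fin 2 × Fin b) (Fin 2 × Fin b) F) *ᵥ v) = v := by
    intro v
    rw [Matrix.mulVec_mulVec, ← Units.val_mul, inv_mul_cancel, Units.val_one, Matrix.one_mulVec]
  have hinj : Function.Injective γ.mulVec := by
    intro x x' hxx
    have h1 : ten (γ *ᵥ x) w' = ten (γ *ᵥ x') w' := by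
      show ten (γ.mulVec x) w' = ten (γ.mulVec x') w'
      rw [hxx]
    rw [← hγ, ← hγ] at h1
    have h2 := congrArg (fun v => ((g⁻¹ : Matrix.GeneralLinearGroup (Fin 2 × Fin b) F) :
        Matrix (Fin 2 × Fin b) (Fin 2 × Fin b) F) *ᵥ v) h1
    simp only [hig] at h2
    exact ts2stabb2a_ten_left_inj hw h2
  have hunit : IsUnit γ.det := (Matrix.isUnit_iff_isUnit_det γ).mp (Matrix.mulVec_injective_iff_isUnit.mp hinj)
  exact ⟨γ, γ⁻¹, Matrix.mul_nonsing_inv γ hunit, Matrix.nonsing_inv_mul γ hunit, hγ⟩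


variable {J1 : Matrix (Fin 2) (Fin 2) F} {J2 : Matrix (Fin b) (Fin b) F}
  {M : Subgroup (Matrix.GeneralLinearGroup (Fin 2 × Fin b) F)}

/-- `x_u(c) ∈ T0`. -/
theorem ts2stabb2_XAG_mem_T0 (C : Ctx J1 J2) (u : Fin 2 → F) (huu : bf J1 u u = 0) (c : F) :
    XAG J1 u huu (c • (1 : Matrix (Fin b) (Fin b) F)) ∈ T0 J1 J2 := by
  refine Subgroup.mem_inf.mpr ⟨?_, XAG_mem_SpV C.alt u huu ((selfAdj_one J2).smul c)⟩
  rw [mem_K0]
  refine ⟨tvG J1 u huu c, 1, ?_⟩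
  rw [XAG_coe, XAm_scalar, tvG_coe, Units.val_one]

theorem ts2stabb2_XAG_act (u : Fin 2 → F) (huu : bf J1 u u = 0) (c : F) (x : Fin 2 → F) (y : Fin b → F) :
    ((XAG J1 u huu (c • (1 : Matrix (Fin b) (Fin b) F)) : Matrix.GeneralLinearGroup (Fin 2 × Fin b) F) :
      Matrix (Fin 2 × Fin b) (Fin 2 × Fin b) F) *ᵥ ten x y = ten (tvm J1 u c *ᵥ x) y := by
  rw [XAG_coe, XAm_scalar, kron_mulVec_ten, Matrix.one_mulVec]

/-- STABB2 for `w' = w`. -/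
theorem ts2stabb2h14_same [Fintype F] (p : ℕ) [Fact p.Prime] [CharP F p] (C : Ctx J1 J2) (hb : 3 ≤ b)
    (hT0 : T0 J1 J2 ≤ M) (hMS : M ≤ SpV J1 J2) (ufA : UfpA J1 J2 M)
    {w : Fin b → F} (hw : w ≠ 0) (hw0 : bf J2 w w = 0)
    (g : Matrix.GeneralLinearGroup (Fin 2 × Fin b) F) (hg : g ∈ M)
    (hN : ∀ x : Fin 2 → F, ∃ x' : Fin 2 → F,
      (g : Matrix (Fin 2 × Fin b) (Fin 2 × Fin b) F) *ᵥ ten x w = ten x' w) :
    g ∈ T0 J1 J2 := by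
  classical
  obtain ⟨γ, γ', hγγ', hγ'γ, hγ, hγ'⟩ := ts2stabb2a_gamma hw g hN
  obtain ⟨β1, hβ1p, hβ1⟩ := ts2stabb2a_shape p C hb hT0 hMS ufA hw hw0 g hg γ γ' hγγ' hγ'γ hγ hγ'
  obtain ⟨β1', hβ1p', hβ1'⟩ := ts2stabb2a_shape p C hb hT0 hMS ufA hw hw0 g⁻¹ (inv_mem hg) γ' γ
    hγ'γ hγγ' hγ' (by rw [inv_inv]; exact hγ)
  have hgi : ∀ v, (g : Matrix (Fin 2 × Fin b) (Fin 2 × Fin b) F) *ᵥ
      (((g⁻¹ : Matrix.GeneralLinearGroup (Fin 2 × Fin b) F) :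
        Matrix (Fin 2 × Fin b) (Fin 2 × Fin b) F) *ᵥ v) = v := by
    intro v
    rw [Matrix.mulVec_mulVec, ← Units.val_mul, mul_inv_cancel, Units.val_one, Matrix.one_mulVec]
  set u : Fin 2 → F := Pi.single 0 1 with hu
  have hu0 : u ≠ 0 := by
    intro h0
    have := congrFun h0 0
    simp [hu] at this
  have huu : bf J1 u u = 0 := bf_self_alt C.alt C.two u
  -- β1 β1' y ≡ y mod w
  have hββ : ∀ y : Fin b → F, bf J2 w y = 0 → ∃ c : F, β1 *ᵥ (β1' *ᵥ y) = y + c • w := by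
    intro y hy
    obtain ⟨x1, hx1⟩ := hβ1' u y hy
    obtain ⟨x3, hx3⟩ := hβ1 (γ' *ᵥ u) (β1' *ᵥ y) (hβ1p' y hy)
    have h := hgi (ten u y)
    rw [hx1, Matrix.mulVec_add, hx3, hγ, Matrix.mulVec_mulVec, hγγ', Matrix.one_mulVec] at h
    refine ⟨-(x3 0 + (γ *ᵥ x1) 0), ?_⟩
    funext j
    have := congrFun h (0, j)
    simp only [ten, hu, Pi.add_apply, Pi.single_eq_same, one_mul] at this
    simp only [Pi.add_apply, Pi.smul_apply, smul_eq_mul]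
    linear_combination this
  -- the root element and its conjugate
  set xg : Matrix.GeneralLinearGroup (Fin 2 × Fin b) F :=
    XAG J1 u huu ((1 : F) • (1 : Matrix (Fin b) (Fin b) F)) with hxg
  have hxgT : xg ∈ T0 J1 J2 := ts2stabb2_XAG_mem_T0 C u huu 1
  have hxga : ∀ (x : Fin 2 → F) (y : Fin b → F),
      (xg : Matrix (Fin 2 × Fin b) (Fin 2 × Fin b) F) *ᵥ ten x y = ten (tvm J1 u 1 *ᵥ x) y :=
    fun x y => ts2stabb2_XAG_act u huu 1 x y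
  set yel : Matrix.GeneralLinearGroup (Fin 2 × Fin b) F := g * xg * g⁻¹ with hyel
  have hyelM : yel ∈ M := mul_mem (mul_mem hg (hT0 hxgT)) (inv_mem hg)
  have hyv : ∀ v, (yel : Matrix (Fin 2 × Fin b) (Fin 2 × Fin b) F) *ᵥ v =
      (g : Matrix (Fin 2 × Fin b) (Fin 2 × Fin b) F) *ᵥ
        ((xg : Matrix (Fin 2 × Fin b) (Fin 2 × Fin b) F) *ᵥ
          (((g⁻¹ : Matrix.GeneralLinearGroup (Fin 2 × Fin b) F) :
            Matrix (Fin 2 × Fin b) (Fin 2 × Fin b) F) *ᵥ v)) := by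
    intro v
    rw [hyel, Units.val_mul, Units.val_mul, Matrix.mulVec_mulVec, Matrix.mulVec_mulVec]
  set u' : Fin 2 → F := γ *ᵥ u with hu'
  set c' : F := γ'.det with hc'
  have hu'u' : bf J1 u' u' = 0 := bf_self_alt C.alt C.two u'
  -- δ = γ α γ' is the transvection t_{u'}(c')
  have hδ : ∀ x : Fin 2 → F, γ *ᵥ (tvm J1 u 1 *ᵥ (γ' *ᵥ x)) = tvm J1 u' c' *ᵥ x := by
    intro x
    have h1 : bf J1 u (γ' *ᵥ x) = c' * bf J1 u' x := by
      have := ts2stabb2_det_bf C.alt C.two γ' u' x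
      rw [hu', Matrix.mulVec_mulVec, hγ'γ, Matrix.one_mulVec] at this
      rw [this]
    rw [tvm_mulVec, tvm_mulVec, Matrix.mulVec_add, Matrix.mulVec_smul, Matrix.mulVec_mulVec, hγγ',
      Matrix.one_mulVec, one_mul, h1]
  have hδinv : ∀ x : Fin 2 → F, tvm J1 u' c' *ᵥ (tvm J1 u' (-c') *ᵥ x) = x := by
    intro x
    rw [Matrix.mulVec_mulVec, tvm_mul J1 u' hu'u', add_neg_cancel, tvm_zero, Matrix.one_mulVec]
  have hy1 : ∀ x : Fin 2 → F,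
      (yel : Matrix (Fin 2 × Fin b) (Fin 2 × Fin b) F) *ᵥ ten x w = ten (tvm J1 u' c' *ᵥ x) w := by
    intro x
    rw [hyv, hγ', hxga, hγ, hδ]
  have hy2 : ∀ (x : Fin 2 → F) (y : Fin b → F), bf J2 w y = 0 → ∃ x' : Fin 2 → F,
      (yel : Matrix (Fin 2 × Fin b) (Fin 2 × Fin b) F) *ᵥ ten x y =
        ten (tvm J1 u' c' *ᵥ x) y + ten x' w := by
    intro x y hy
    obtain ⟨x1, hx1⟩ := hβ1' x y hy
    obtain ⟨x2, hx2⟩ := hβ1 (tvm J1 u 1 *ᵥ (γ' *ᵥ x)) (β1' *ᵥ y) (hβ1p' y hy)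
    obtain ⟨c, hc⟩ := hββ y hy
    refine ⟨c • (tvm J1 u' c' *ᵥ x) + x2 + γ *ᵥ (tvm J1 u 1 *ᵥ x1), ?_⟩
    rw [hyv, hx1, Matrix.mulVec_add, hxga, hxga, Matrix.mulVec_add, hx2, hγ, hc, hδ, ten_add_right,
      ten_smul_right, ten_add_left, ten_add_left, ten_smul_left]
    abel
  -- the correction `t = x_{u'}(-c')`
  set t : Matrix.GeneralLinearGroup (Fin 2 × Fin b) F :=
    XAG J1 u' hu'u' ((-c') • (1 : Matrix (Fin b) (Fin b) F)) with ht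
  have htT : t ∈ T0 J1 J2 := ts2stabb2_XAG_mem_T0 C u' hu'u' (-c')
  have hta : ∀ (x : Fin 2 → F) (y : Fin b → F),
      (t : Matrix (Fin 2 × Fin b) (Fin 2 × Fin b) F) *ᵥ ten x y = ten (tvm J1 u' (-c') *ᵥ x) y :=
    fun x y => ts2stabb2_XAG_act u' hu'u' (-c') x y
  set k : Matrix.GeneralLinearGroup (Fin 2 × Fin b) F := yel * t with hk
  have hkM : k ∈ M := mul_mem hyelM (hT0 htT)
  have hkv : ∀ v, (k : Matrix (Fin 2 × Fin b) (Fin 2 × Fin b) F) *ᵥ v =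
      (yel : Matrix (Fin 2 × Fin b) (Fin 2 × Fin b) F) *ᵥ
        ((t : Matrix (Fin 2 × Fin b) (Fin 2 × Fin b) F) *ᵥ v) := by
    intro v
    rw [hk, Units.val_mul, Matrix.mulVec_mulVec]
  have hk1 : ∀ x : Fin 2 → F, (k : Matrix (Fin 2 × Fin b) (Fin 2 × Fin b) F) *ᵥ ten x w = ten x w := by
    intro x
    rw [hkv, hta, hy1, hδinv]
  have hk2 : ∀ (x : Fin 2 → F) (y : Fin b → F), bf J2 w y = 0 → ∃ x' : Fin 2 → F,
      (k : Matrix (Fin 2 × Fin b) (Fin 2 × Fin b) F) *ᵥ ten x y = ten x y + ten x' w := by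
    intro x y hy
    obtain ⟨x', hx'⟩ := hy2 (tvm J1 u' (-c') *ᵥ x) y hy
    refine ⟨x', ?_⟩
    rw [hkv, hta, hx', hδinv]
  have hkT : k ∈ T0 J1 J2 := rn_two p C hb hT0 hMS ufA hw hw0 k hkM hk1 hk2
  have hyelT : yel ∈ T0 J1 J2 := by
    have : yel = k * t⁻¹ := by rw [hk]; group
    rw [this]
    exact mul_mem hkT (inv_mem htT)
  exact ufA u 1 xg hu0 one_ne_zero rfl g hg hyelT


/-- STABB2 [L] (second copy of `stabB_two`, same statement). `a = 2`: STAB for singular `B`-lines. -/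
theorem ts2stabb2_stabB_two_h14 [Fintype F] (p : ℕ) [Fact p.Prime] [CharP F p] (C : Ctx J1 J2) (hb : 3 ≤ b)
    (hT0 : T0 J1 J2 ≤ M) (hMS : M ≤ SpV J1 J2) (ufA : UfpA J1 J2 M) : StabB J1 J2 M := by
  classical
  intro g hg w w' hw hw' hw0 hN
  obtain ⟨γ, γ', hγγ', hγ'γ, hγ⟩ := ts2stabb2_gamma2 hw hw' g hN
  have he0 : (Pi.single 0 1 : Fin 2 → F) ≠ 0 := by
    intro h0
    have := congrFun h0 0
    simp at this
  have hw0' : bf J2 w' w' = 0 := by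
    obtain ⟨y, hy⟩ := bf_nondeg C.det1 he0
    have hiso := (mem_Iso_iff_bf (JV J1 J2) g).mp (hMS hg) (ten (γ' *ᵥ (Pi.single 0 1 : Fin 2 → F)) w)
      (ten (γ' *ᵥ y) w)
    rw [hγ, hγ, Matrix.mulVec_mulVec, hγγ', Matrix.one_mulVec, Matrix.mulVec_mulVec, hγγ',
      Matrix.one_mulVec, bf_JV_ten, bf_JV_ten, hw0, mul_zero] at hiso
    rcases mul_eq_zero.mp hiso with h | h
    · exact absurd h hy
    · exact h
  obtain ⟨β, hβI, hβ⟩ := ob_trans_sing C.sym C.two C.det2 hw' hw hw0' hw0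
  set r : Matrix.GeneralLinearGroup (Fin 2 × Fin b) F := kronG 1 β with hr
  have hrT : r ∈ T0 J1 J2 := kronG_mem_T0 (one_mem _) hβI
  have hrg : r * g ∈ T0 J1 J2 := by
    apply ts2stabb2h14_same p C hb hT0 hMS ufA hw hw0 (r * g) (mul_mem (hT0 hrT) hg)
    intro x
    refine ⟨γ *ᵥ x, ?_⟩
    rw [Units.val_mul, ← Matrix.mulVec_mulVec, hγ, hr, kronG_mulVec_ten, Units.val_one,
      Matrix.one_mulVec, hβ]
  have e : g = r⁻¹ * (r * g) := by group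
  rw [e]
  exact mul_mem (inv_mem hrT) hrg

end Cfsg.Agent.Lib.Helper21.TS
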