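import Cfsg.Agent.Lib.helper14.TS2RN2
import Cfsg.Agent.Lib.Lead.TS2T0RN
import Cfsg.Agent.Lib.helper6.TSSIEG

/-!
# Project TS2, piece STABB2, geometric half: an element of `M` stabilising `N = A ⊗ w` (`w` singular)
acts on `N^⊥ / N` as `γ ⊗ β₁`
-/

set_option autoImplicit false
set_option linter.unusedSectionVars false
set_option linter.unusedVariables false

namespace Cfsg.Agent.Lib.Helper21.TS

open Matrix
open scoped Kronecker
open Cfsg.Agent.Lib.helper7.TP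

variable {a b : ℕ} {F : Type*} [Field F]

/-- `v ∈ N^⊥` iff the rows of `v` are `⊥ w`. -/
theorem ts2stabb2a_perp_iff {J1 : Matrix (Fin a) (Fin a) F} (J2 : Matrix (Fin b) (Fin b) F)
    (hdet : J1.det ≠ 0) (w : Fin b → F) (v : Fin a × Fin b → F) :
    (∀ i, bf J2 (fun j => v (i, j)) w = 0) ↔ ∀ x0 : Fin a → F, bf (JV J1 J2) v (ten x0 w) = 0 := by
  constructor
  · intro h x0
    rw [ts2rn2_bf_rows]
    have : (fun i => bf J2 (fun j => v (i, j)) w) = 0 := funext h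
    rw [this, bf_zero_left]
  · intro h i
    by_contra hne
    have hr : (fun i => bf J2 (fun j => v (i, j)) w) ≠ 0 := fun h0 => hne (congrFun h0 i)
    obtain ⟨x0, hx0⟩ := bf_nondeg hdet hr
    apply hx0
    rw [← ts2rn2_bf_rows]
    exact h x0

/-- the Siegel element on `w^⊥`. -/
theorem ts2stabb2a_sieg_perp {J : Matrix (Fin b) (Fin b) F} (w z y : Fin b → F) (hy : bf J w y = 0) :
    sieg J w z *ᵥ y = y + bf J z y • w := by
  rw [sieg_mulVec, hy, zero_smul, mul_zero, zero_smul, sub_zero, sub_zero]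

/-- `1 ⊗ ρ_{w,z}` on `N^⊥`. -/
theorem ts2stabb2a_rz_perp {J : Matrix (Fin b) (Fin b) F} (w z : Fin b → F) (v : Fin a × Fin b → F)
    (hv : ∀ i, bf J w (fun j => v (i, j)) = 0) :
    ((1 : Matrix (Fin a) (Fin a) F) ⊗ₖ sieg J w z) *ᵥ v =
      v + ten (fun i => bf J z (fun j => v (i, j))) w := by
  funext p
  obtain ⟨i, j⟩ := p
  have h1 : (((1 : Matrix (Fin a) (Fin a) F) ⊗ₖ sieg J w z) *ᵥ v) (i, j) =
      (sieg J w z *ᵥ (fun j' => v (i, j'))) j := by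
    classical
    simp only [Matrix.mulVec, dotProduct, Matrix.kroneckerMap_apply, Fintype.sum_prod_type]
    rw [Finset.sum_eq_single i]
    · simp
    · intro i' _ hi'
      simp [Ne.symm hi']
    · intro h
      exact absurd (Finset.mem_univ i) h
  rw [h1, ts2stabb2a_sieg_perp w z _ (hv i)]
  simp [ten]

/-- a vector orthogonal to `w^⊥` is a multiple of `w`. -/
theorem ts2stabb2a_perp_perp {J : Matrix (Fin b) (Fin b) F} (hJ : Jᵀ = J) (hdet : J.det ≠ 0)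
    {w : Fin b → F} (hw : w ≠ 0) (u : Fin b → F) (h : ∀ z, bf J w z = 0 → bf J z u = 0) :
    ∃ c : F, u = c • w := by
  obtain ⟨w', hw'⟩ := bf_nondeg hdet hw
  refine ⟨bf J w' u / bf J w w', ?_⟩
  by_contra hne
  have hne' : u - (bf J w' u / bf J w w') • w ≠ 0 := fun h0 => hne (sub_eq_zero.mp h0)
  obtain ⟨v, hv⟩ := bf_nondeg' hdet hne'
  apply hv
  have hz : bf J w (v - (bf J w v / bf J w w') • w') = 0 := by
    rw [bf_sub_right, bf_smul_right, div_mul_cancel₀ _ hw', sub_self]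
  have h1 := h _ hz
  rw [bf_sub_left, bf_smul_left] at h1
  rw [bf_sub_right, bf_smul_right, bf_symm hJ v w, sub_eq_zero.mp h1]
  field_simp
  ring


/-- `x ↦ (G (x ⊗ w))(i, j₀)` is given by a matrix. -/
theorem ts2stabb2a_lin_left (G : Matrix (Fin a × Fin b) (Fin a × Fin b) F) (w : Fin b → F) (j0 : Fin b) :
    ∃ γ : Matrix (Fin a) (Fin a) F, ∀ (x : Fin a → F) (i : Fin a), (γ *ᵥ x) i = (G *ᵥ ten x w) (i, j0) := by
  let L : (Fin a → F) →ₗ[F] (Fin a → F) :=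
    { toFun := fun x i => (G *ᵥ ten x w) (i, j0)
      map_add' := by
        intro x x'
        funext i
        simp [ten_add_left, Matrix.mulVec_add]
      map_smul' := by
        intro c x
        funext i
        simp [ten_smul_left, Matrix.mulVec_smul] }
  refine ⟨LinearMap.toMatrix' L, fun x i => ?_⟩
  rw [LinearMap.toMatrix'_mulVec]
  rfl

/-- `y ↦ (G (x ⊗ y))(i₀, j)` is given by a matrix. -/
theorem ts2stabb2a_lin_right (G : Matrix (Fin a × Fin b) (Fin a × Fin b) F) (x : Fin a → F) (i0 : Fin a) :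
    ∃ β : Matrix (Fin b) (Fin b) F, ∀ (y : Fin b → F) (j : Fin b), (β *ᵥ y) j = (G *ᵥ ten x y) (i0, j) := by
  let L : (Fin b → F) →ₗ[F] (Fin b → F) :=
    { toFun := fun y j => (G *ᵥ ten x y) (i0, j)
      map_add' := by
        intro y y'
        funext j
        simp [ten_add_right, Matrix.mulVec_add]
      map_smul' := by
        intro c y
        funext j
        simp [ten_smul_right, Matrix.mulVec_smul] }
  refine ⟨LinearMap.toMatrix' L, fun y j => ?_⟩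
  rw [LinearMap.toMatrix'_mulVec]
  rfl

theorem ts2stabb2a_ten_left_inj {w : Fin b → F} (hw : w ≠ 0) {x x' : Fin a → F}
    (h : ten x w = ten x' w) : x = x' := by
  obtain ⟨j0, hj0⟩ : ∃ j0, w j0 ≠ 0 := by
    by_contra hcon
    push Not at hcon
    exact hw (funext hcon)
  funext i
  have := congrFun h (i, j0)
  simp only [ten] at this
  exact mul_right_cancel₀ hj0 this

variable {J1 : Matrix (Fin 2) (Fin 2) F} {J2 : Matrix (Fin b) (Fin b) F}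
  {M : Subgroup (Matrix.GeneralLinearGroup (Fin 2 × Fin b) F)}

/-- the key identity: conjugating `1 ⊗ ρ_{w,z}` by `g` (stabilising `N`) gives an element of `T0 ∩ R_N`. -/
theorem ts2stabb2a_key [Fintype F] (p : ℕ) [Fact p.Prime] [CharP F p] (C : Ctx J1 J2) (hb : 3 ≤ b)
    (hT0 : T0 J1 J2 ≤ M) (hMS : M ≤ SpV J1 J2) (ufA : UfpA J1 J2 M)
    {w : Fin b → F} (hw : w ≠ 0) (hw0 : bf J2 w w = 0)
    (g : Matrix.GeneralLinearGroup (Fin 2 × Fin b) F) (hg : g ∈ M) (γ γ' : Matrix (Fin 2) (Fin 2) F)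
    (hγ : ∀ x : Fin 2 → F, (g : Matrix (Fin 2 × Fin b) (Fin 2 × Fin b) F) *ᵥ ten x w = ten (γ *ᵥ x) w)
    (hγ' : ∀ x : Fin 2 → F, ((g⁻¹ : Matrix.GeneralLinearGroup (Fin 2 × Fin b) F) :
      Matrix (Fin 2 × Fin b) (Fin 2 × Fin b) F) *ᵥ ten x w = ten (γ' *ᵥ x) w)
    {z : Fin b → F} (hz : bf J2 w z = 0) :
    ∃ z' : Fin b → F, bf J2 w z' = 0 ∧ ∀ (x : Fin 2 → F) (y : Fin b → F), bf J2 w y = 0 →
      γ *ᵥ (fun i => bf J2 z (fun j => (((g⁻¹ : Matrix.GeneralLinearGroup (Fin 2 × Fin b) F) :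
        Matrix (Fin 2 × Fin b) (Fin 2 × Fin b) F) *ᵥ ten x y) (i, j))) = bf J2 z' y • x := by
  obtain ⟨G, hGp, hGle, hGz⟩ := rw_pgroup p C.sym C.two hw0
  obtain ⟨ρ, hρG, hρ⟩ := hGz z hz
  have hρI : ρ ∈ Iso J2 := hGle hρG
  set r : Matrix.GeneralLinearGroup (Fin 2 × Fin b) F := kronG 1 ρ with hr
  have hrT : r ∈ T0 J1 J2 := kronG_mem_T0 (one_mem _) hρI
  have hrc : (r : Matrix (Fin 2 × Fin b) (Fin 2 × Fin b) F) =
      (1 : Matrix (Fin 2) (Fin 2) F) ⊗ₖ sieg J2 w z := by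
    rw [hr, kronG_coe, Units.val_one, hρ]
  have hgS : g ∈ SpV J1 J2 := hMS hg
  have hgi : ∀ v, (g : Matrix (Fin 2 × Fin b) (Fin 2 × Fin b) F) *ᵥ
      (((g⁻¹ : Matrix.GeneralLinearGroup (Fin 2 × Fin b) F) :
        Matrix (Fin 2 × Fin b) (Fin 2 × Fin b) F) *ᵥ v) = v := by
    intro v
    rw [Matrix.mulVec_mulVec, ← Units.val_mul, mul_inv_cancel, Units.val_one, Matrix.one_mulVec]
  have hig : ∀ v, ((g⁻¹ : Matrix.GeneralLinearGroup (Fin 2 × Fin b) F) :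
        Matrix (Fin 2 × Fin b) (Fin 2 × Fin b) F) *ᵥ
      ((g : Matrix (Fin 2 × Fin b) (Fin 2 × Fin b) F) *ᵥ v) = v := by
    intro v
    rw [Matrix.mulVec_mulVec, ← Units.val_mul, inv_mul_cancel, Units.val_one, Matrix.one_mulVec]
  have hzw : bf J2 z w = 0 := by rw [bf_symm C.sym]; exact hz
  -- the rows of `g⁻¹ (x ⊗ y)` are `⊥ w`
  have hrows : ∀ (x : Fin 2 → F) (y : Fin b → F), bf J2 w y = 0 → ∀ i,
      bf J2 w (fun j => (((g⁻¹ : Matrix.GeneralLinearGroup (Fin 2 × Fin b) F) :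
        Matrix (Fin 2 × Fin b) (Fin 2 × Fin b) F) *ᵥ ten x y) (i, j)) = 0 := by
    intro x y hy i
    rw [bf_symm C.sym]
    revert i
    rw [ts2stabb2a_perp_iff J2 C.det1 w]
    intro x0
    have hiso := (mem_Iso_iff_bf (JV J1 J2) g⁻¹).mp (inv_mem hgS)
      ((g : Matrix (Fin 2 × Fin b) (Fin 2 × Fin b) F) *ᵥ
        (((g⁻¹ : Matrix.GeneralLinearGroup (Fin 2 × Fin b) F) :
          Matrix (Fin 2 × Fin b) (Fin 2 × Fin b) F) *ᵥ ten x y))
      ((g : Matrix (Fin 2 × Fin b) (Fin 2 × Fin b) F) *ᵥ ten x0 w)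
    rw [hig, hig, hgi, hγ, bf_JV_ten, bf_symm C.sym y w, hy, mul_zero] at hiso
    exact hiso
  set k : Matrix.GeneralLinearGroup (Fin 2 × Fin b) F := g * r * g⁻¹ with hk
  have hkM : k ∈ M := mul_mem (mul_mem hg (hT0 hrT)) (inv_mem hg)
  have hkv : ∀ v, (k : Matrix (Fin 2 × Fin b) (Fin 2 × Fin b) F) *ᵥ v =
      (g : Matrix (Fin 2 × Fin b) (Fin 2 × Fin b) F) *ᵥ
        (((1 : Matrix (Fin 2) (Fin 2) F) ⊗ₖ sieg J2 w z) *ᵥ
          (((g⁻¹ : Matrix.GeneralLinearGroup (Fin 2 × Fin b) F) :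
            Matrix (Fin 2 × Fin b) (Fin 2 × Fin b) F) *ᵥ v)) := by
    intro v
    rw [hk, Units.val_mul, Units.val_mul, hrc, Matrix.mulVec_mulVec, Matrix.mulVec_mulVec]
  have hk1 : ∀ x : Fin 2 → F, (k : Matrix (Fin 2 × Fin b) (Fin 2 × Fin b) F) *ᵥ ten x w = ten x w := by
    intro x
    rw [hkv, hγ', kron_mulVec_ten, Matrix.one_mulVec, ts2stabb2a_sieg_perp w z w hw0, hzw, zero_smul,
      add_zero, ← hγ', hgi]
  have hk2 : ∀ (x : Fin 2 → F) (y : Fin b → F), bf J2 w y = 0 →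
      (k : Matrix (Fin 2 × Fin b) (Fin 2 × Fin b) F) *ᵥ ten x y = ten x y +
        ten (γ *ᵥ (fun i => bf J2 z (fun j => (((g⁻¹ : Matrix.GeneralLinearGroup (Fin 2 × Fin b) F) :
        Matrix (Fin 2 × Fin b) (Fin 2 × Fin b) F) *ᵥ ten x y) (i, j)))) w := by
    intro x y hy
    rw [hkv, ts2stabb2a_rz_perp w z _ (hrows x y hy), Matrix.mulVec_add, hgi, hγ]
  have hkT : k ∈ T0 J1 J2 :=
    rn_two p C hb hT0 hMS ufA hw hw0 k hkM hk1 (fun x y hy => ⟨_, hk2 x y hy⟩)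
  obtain ⟨z', hz', hact⟩ := t0_rn C hb hw hw0 k hkT hk1 (fun x y hy => ⟨_, hk2 x y hy⟩)
  refine ⟨z', hz', fun x y hy => ?_⟩
  have h1 := hact x y hy
  rw [hk2 x y hy, ← ten_smul_left] at h1
  exact ts2stabb2a_ten_left_inj hw (add_left_cancel h1)


/-- `g N ⊆ N` gives `γ, γ'` mutually inverse with `g = γ ⊗ 1`, `g⁻¹ = γ' ⊗ 1` on `N = A ⊗ w`. -/
theorem ts2stabb2a_gamma {w : Fin b → F} (hw : w ≠ 0)
    (g : Matrix.GeneralLinearGroup (Fin 2 × Fin b) F)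
    (hN : ∀ x : Fin 2 → F, ∃ x' : Fin 2 → F,
      (g : Matrix (Fin 2 × Fin b) (Fin 2 × Fin b) F) *ᵥ ten x w = ten x' w) :
    ∃ γ γ' : Matrix (Fin 2) (Fin 2) F, γ * γ' = 1 ∧ γ' * γ = 1 ∧
      (∀ x : Fin 2 → F, (g : Matrix (Fin 2 × Fin b) (Fin 2 × Fin b) F) *ᵥ ten x w = ten (γ *ᵥ x) w) ∧
      (∀ x : Fin 2 → F, ((g⁻¹ : Matrix.GeneralLinearGroup (Fin 2 × Fin b) F) :
        Matrix (Fin 2 × Fin b) (Fin 2 × Fin b) F) *ᵥ ten x w = ten (γ' *ᵥ x) w) := by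
  classical
  obtain ⟨j0, hj0⟩ : ∃ j0, w j0 ≠ 0 := by
    by_contra hcon
    push Not at hcon
    exact hw (funext hcon)
  obtain ⟨γ0, hγ0⟩ := ts2stabb2a_lin_left (g : Matrix (Fin 2 × Fin b) (Fin 2 × Fin b) F) w j0
  set γ : Matrix (Fin 2) (Fin 2) F := (w j0)⁻¹ • γ0 with hγdef
  have hγ : ∀ x : Fin 2 → F,
      (g : Matrix (Fin 2 × Fin b) (Fin 2 × Fin b) F) *ᵥ ten x w = ten (γ *ᵥ x) w := by
    intro x
    obtain ⟨x', hx'⟩ := hN x
    rw [hx']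
    congr 1
    funext i
    rw [hγdef, Matrix.smul_mulVec, Pi.smul_apply, hγ0, hx', smul_eq_mul]
    simp only [ten]
    field_simp
  have hig : ∀ v, ((g⁻¹ : Matrix.GeneralLinearGroup (Fin 2 × Fin b) F) :
        Matrix (Fin 2 × Fin b) (Fin 2 × Fin b) F) *ᵥ
      ((g : Matrix (Fin 2 × Fin b) (Fin 2 × Fin b) F) *ᵥ v) = v := by
    intro v
    rw [Matrix.mulVec_mulVec, ← Units.val_mul, inv_mul_cancel, Units.val_one, Matrix.one_mulVec]
  have hinj : Function.Injective γ.mulVec := by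
    intro x x' hxx
    have h1 : ten (γ *ᵥ x) w = ten (γ *ᵥ x') w := by
      show ten (γ.mulVec x) w = ten (γ.mulVec x') w
      rw [hxx]
    rw [← hγ, ← hγ] at h1
    have h2 := congrArg (fun v => ((g⁻¹ : Matrix.GeneralLinearGroup (Fin 2 × Fin b) F) :
        Matrix (Fin 2 × Fin b) (Fin 2 × Fin b) F) *ᵥ v) h1
    simp only [hig] at h2
    exact ts2stabb2a_ten_left_inj hw h2
  have hunit : IsUnit γ.det := (Matrix.isUnit_iff_isUnit_det γ).mp (Matrix.mulVec_injective_iff_isUnit.mp hinj)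
  refine ⟨γ, γ⁻¹, Matrix.mul_nonsing_inv γ hunit, Matrix.nonsing_inv_mul γ hunit, hγ, fun x => ?_⟩
  have h1 := hγ (γ⁻¹ *ᵥ x)
  rw [Matrix.mulVec_mulVec, Matrix.mul_nonsing_inv γ hunit, Matrix.one_mulVec] at h1
  rw [← h1, hig]

/-- STABB2, geometric half: `g ∈ M` stabilising `N = A ⊗ w` acts on `N^⊥ / N` as `γ ⊗ β₁`. -/
theorem ts2stabb2a_shape [Fintype F] (p : ℕ) [Fact p.Prime] [CharP F p] (C : Ctx J1 J2) (hb : 3 ≤ b)
    (hT0 : T0 J1 J2 ≤ M) (hMS : M ≤ SpV J1 J2) (ufA : UfpA J1 J2 M)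
    {w : Fin b → F} (hw : w ≠ 0) (hw0 : bf J2 w w = 0)
    (g : Matrix.GeneralLinearGroup (Fin 2 × Fin b) F) (hg : g ∈ M) (γ γ' : Matrix (Fin 2) (Fin 2) F)
    (hγγ' : γ * γ' = 1) (hγ'γ : γ' * γ = 1)
    (hγ : ∀ x : Fin 2 → F, (g : Matrix (Fin 2 × Fin b) (Fin 2 × Fin b) F) *ᵥ ten x w = ten (γ *ᵥ x) w)
    (hγ' : ∀ x : Fin 2 → F, ((g⁻¹ : Matrix.GeneralLinearGroup (Fin 2 × Fin b) F) :
      Matrix (Fin 2 × Fin b) (Fin 2 × Fin b) F) *ᵥ ten x w = ten (γ' *ᵥ x) w) :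
    ∃ β1 : Matrix (Fin b) (Fin b) F, (∀ y : Fin b → F, bf J2 w y = 0 → bf J2 w (β1 *ᵥ y) = 0) ∧
      ∀ (x : Fin 2 → F) (y : Fin b → F), bf J2 w y = 0 → ∃ x' : Fin 2 → F,
        (g : Matrix (Fin 2 × Fin b) (Fin 2 × Fin b) F) *ᵥ ten x y =
          ten (γ *ᵥ x) (β1 *ᵥ y) + ten x' w := by
  classical
  have hgS : g ∈ SpV J1 J2 := hMS hg
  -- the key identity for `g⁻¹`
  have hkey : ∀ z : Fin b → F, bf J2 w z = 0 → ∃ z' : Fin b → F, bf J2 w z' = 0 ∧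
      ∀ (x : Fin 2 → F) (y : Fin b → F), bf J2 w y = 0 →
        (fun i => bf J2 z (fun j => ((g : Matrix (Fin 2 × Fin b) (Fin 2 × Fin b) F) *ᵥ ten x y) (i, j))) =
          bf J2 z' y • (γ *ᵥ x) := by
    intro z hz
    obtain ⟨z', hz', h⟩ := ts2stabb2a_key p C hb hT0 hMS ufA hw hw0 g⁻¹ (inv_mem hg) γ' γ hγ'
      (by rw [inv_inv]; exact hγ) hz
    refine ⟨z', hz', fun x y hy => ?_⟩
    have h1 := h x y hy
    rw [inv_inv] at h1
    have h2 := congrArg (fun v => γ *ᵥ v) h1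
    simp only [Matrix.mulVec_mulVec, hγγ', Matrix.one_mulVec, Matrix.mulVec_smul] at h2
    exact h2
  -- rows of `g (x ⊗ y)` are `⊥ w`
  have hgi : ∀ v, (g : Matrix (Fin 2 × Fin b) (Fin 2 × Fin b) F) *ᵥ
      (((g⁻¹ : Matrix.GeneralLinearGroup (Fin 2 × Fin b) F) :
        Matrix (Fin 2 × Fin b) (Fin 2 × Fin b) F) *ᵥ v) = v := by
    intro v
    rw [Matrix.mulVec_mulVec, ← Units.val_mul, mul_inv_cancel, Units.val_one, Matrix.one_mulVec]
  have hrows : ∀ (x : Fin 2 → F) (y : Fin b → F), bf J2 w y = 0 → ∀ i,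
      bf J2 w (fun j => ((g : Matrix (Fin 2 × Fin b) (Fin 2 × Fin b) F) *ᵥ ten x y) (i, j)) = 0 := by
    intro x y hy i
    rw [bf_symm C.sym]
    revert i
    rw [ts2stabb2a_perp_iff J2 C.det1 w]
    intro x0
    have hiso := (mem_Iso_iff_bf (JV J1 J2) g).mp hgS (ten x y)
      (((g⁻¹ : Matrix.GeneralLinearGroup (Fin 2 × Fin b) F) :
          Matrix (Fin 2 × Fin b) (Fin 2 × Fin b) F) *ᵥ ten x0 w)
    rw [hgi, hγ', bf_JV_ten, bf_symm C.sym y w, hy, mul_zero] at hiso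
    exact hiso
  -- the matrix β1
  set e0 : Fin 2 → F := Pi.single 0 1 with he0
  have he0ne : e0 ≠ 0 := by
    intro h0
    have := congrFun h0 0
    simp [he0] at this
  have hγe0 : γ *ᵥ e0 ≠ 0 := by
    intro h0
    apply he0ne
    have := congrArg (fun v => γ' *ᵥ v) h0
    simp only [Matrix.mulVec_mulVec, hγ'γ, Matrix.one_mulVec, Matrix.mulVec_zero] at this
    exact this
  obtain ⟨i0, hi0⟩ : ∃ i0, (γ *ᵥ e0) i0 ≠ 0 := by
    by_contra hcon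
    push Not at hcon
    exact hγe0 (funext hcon)
  obtain ⟨β0, hβ0⟩ := ts2stabb2a_lin_right (g : Matrix (Fin 2 × Fin b) (Fin 2 × Fin b) F) e0 i0
  set β1 : Matrix (Fin b) (Fin b) F := ((γ *ᵥ e0) i0)⁻¹ • β0 with hβ1
  have hβ1y : ∀ y : Fin b → F, β1 *ᵥ y = ((γ *ᵥ e0) i0)⁻¹ •
      (fun j => ((g : Matrix (Fin 2 × Fin b) (Fin 2 × Fin b) F) *ᵥ ten e0 y) (i0, j)) := by
    intro y
    rw [hβ1, Matrix.smul_mulVec]
    congr 1
    funext j
    exact hβ0 y j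
  have hβperp : ∀ y : Fin b → F, bf J2 w y = 0 → bf J2 w (β1 *ᵥ y) = 0 := by
    intro y hy
    rw [hβ1y, bf_smul_right, hrows e0 y hy i0, mul_zero]
  refine ⟨β1, hβperp, fun x y hy => ?_⟩
  -- each row of `g (x ⊗ y) - γx ⊗ β1 y` is a multiple of `w`
  have hrow : ∀ i, ∃ c : F, (fun j => ((g : Matrix (Fin 2 × Fin b) (Fin 2 × Fin b) F) *ᵥ ten x y) (i, j)) -
      (γ *ᵥ x) i • (β1 *ᵥ y) = c • w := by
    intro i
    apply ts2stabb2a_perp_perp C.sym C.det2 hw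
    intro z hz
    obtain ⟨z', hz', h⟩ := hkey z hz
    have h1 := congrFun (h x y hy) i
    have h2 := congrFun (h e0 y hy) i0
    simp only [Pi.smul_apply, smul_eq_mul] at h1 h2
    rw [bf_sub_right, bf_smul_right, hβ1y, bf_smul_right, h1, h2]
    field_simp
    ring
  choose cf hcf using hrow
  refine ⟨cf, ?_⟩
  funext q
  obtain ⟨i, j⟩ := q
  have := congrFun (hcf i) j
  simp only [Pi.sub_apply, Pi.smul_apply, smul_eq_mul] at this
  simp only [Pi.add_apply, ten]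
  rw [← this]
  ring

end Cfsg.Agent.Lib.Helper21.TS
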