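import Cfsg.Agent.Lib.Helper27.TS2.Defs

/-!
# Project TS2, piece T0RN: the elements of `T0 ∩ R_N` act on `N^⊥` as Siegel elements `1 ⊗ ρ_{w,z}`
-/

set_option autoImplicit false
set_option linter.unusedSectionVars false
set_option linter.unusedVariables false

namespace Cfsg.Agent.Lib.Helper21.TS

open Matrix
open scoped Kronecker
open Cfsg.Agent.Lib.helper7.TP

variable {a b : ℕ} {F : Type*} [Field F]

/-- a covector is represented by the non-degenerate form. -/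
theorem ts2t0rn_repr {J : Matrix (Fin b) (Fin b) F} (hdet : J.det ≠ 0) (φ : Fin b → F) :
    ∃ z : Fin b → F, ∀ y : Fin b → F, bf J z y = φ ⬝ᵥ y := by
  refine ⟨φ ᵥ* J⁻¹, fun y => ?_⟩
  have hu : IsUnit J.det := isUnit_iff_ne_zero.mpr hdet
  rw [bf, Matrix.dotProduct_mulVec, Matrix.vecMul_vecMul, Matrix.nonsing_inv_mul _ hu, Matrix.vecMul_one]

variable {J1 : Matrix (Fin 2) (Fin 2) F} {J2 : Matrix (Fin b) (Fin b) F}
  {M : Subgroup (Matrix.GeneralLinearGroup (Fin 2 × Fin b) F)}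

/-- T0RN [M] (second copy; the row copy `t0_rn` is `Lead.TS2T0RN`). the elements of `T0 ∩ R_N` act on `N^⊥` as Siegel elements `1 ⊗ ρ_{w,z}`. -/
theorem ts2t0rn_t0_rn_h14 (C : Ctx J1 J2) (hb : 3 ≤ b) {w : Fin b → F} (hw : w ≠ 0) (hw0 : bf J2 w w = 0)
    (t : Matrix.GeneralLinearGroup (Fin 2 × Fin b) F) (ht : t ∈ T0 J1 J2)
    (h1 : ∀ x : Fin 2 → F, (t : Matrix (Fin 2 × Fin b) (Fin 2 × Fin b) F) *ᵥ ten x w = ten x w)
    (h2 : ∀ (x : Fin 2 → F) (y : Fin b → F), bf J2 w y = 0 → ∃ x' : Fin 2 → F,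
      (t : Matrix (Fin 2 × Fin b) (Fin 2 × Fin b) F) *ᵥ ten x y = ten x y + ten x' w) :
    ∃ z : Fin b → F, bf J2 w z = 0 ∧ ∀ (x : Fin 2 → F) (y : Fin b → F), bf J2 w y = 0 →
      (t : Matrix (Fin 2 × Fin b) (Fin 2 × Fin b) F) *ᵥ ten x y = ten x y + bf J2 z y • ten x w := by
  obtain ⟨α, β, htαβ⟩ := (mem_K0 t).mp (Subgroup.mem_inf.mp ht).1
  obtain ⟨j0, hj0⟩ : ∃ j0, w j0 ≠ 0 := by
    by_contra hcon
    push Not at hcon
    exact hw (funext hcon)
  have hact : ∀ (x : Fin 2 → F) (y : Fin b → F),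
      (t : Matrix (Fin 2 × Fin b) (Fin 2 × Fin b) F) *ᵥ ten x y =
        ten ((α : Matrix (Fin 2) (Fin 2) F) *ᵥ x) ((β : Matrix (Fin b) (Fin b) F) *ᵥ y) := by
    intro x y
    rw [htαβ, kron_mulVec_ten]
  have hc : ∀ (x : Fin 2 → F) (i : Fin 2) (j : Fin b),
      ((α : Matrix (Fin 2) (Fin 2) F) *ᵥ x) i * ((β : Matrix (Fin b) (Fin b) F) *ᵥ w) j = x i * w j := by
    intro x i j
    have := congrFun (h1 x) (i, j)
    rw [hact] at this
    simpa [ten] using this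
  set c : F := ((β : Matrix (Fin b) (Fin b) F) *ᵥ w) j0 / w j0 with hcdef
  have hαx : ∀ x : Fin 2 → F, c • ((α : Matrix (Fin 2) (Fin 2) F) *ᵥ x) = x := by
    intro x
    funext i
    have := hc x i j0
    simp only [Pi.smul_apply, smul_eq_mul, hcdef]
    rw [div_mul_eq_mul_div, div_eq_iff hj0, mul_comm]
    exact this
  have hc0 : c ≠ 0 := by
    intro h0
    have := hαx (Pi.single 0 1)
    rw [h0, zero_smul] at this
    have := congrFun this 0
    simp at this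
  have hαx' : ∀ x : Fin 2 → F, (α : Matrix (Fin 2) (Fin 2) F) *ᵥ x = c⁻¹ • x := by
    intro x
    have := congrArg (fun v => c⁻¹ • v) (hαx x)
    simp only [smul_smul, inv_mul_cancel₀ hc0, one_smul] at this
    exact this
  set β' : Matrix (Fin b) (Fin b) F := c⁻¹ • (β : Matrix (Fin b) (Fin b) F) with hβ'
  have hact' : ∀ (x : Fin 2 → F) (y : Fin b → F),
      (t : Matrix (Fin 2 × Fin b) (Fin 2 × Fin b) F) *ᵥ ten x y = ten x (β' *ᵥ y) := by
    intro x y
    rw [hact, hαx', ten_smul_left, ← ten_smul_right, hβ', Matrix.smul_mulVec]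
  have hβw : β' *ᵥ w = w := by
    have h := h1 (Pi.single 0 1)
    rw [hact'] at h
    funext j
    have := congrFun h (0, j)
    simpa [ten] using this
  set φ : Fin b → F := fun j => (w j0)⁻¹ * (β' - 1) j0 j with hφ
  have hℓ : ∀ y : Fin b → F, bf J2 w y = 0 → β' *ᵥ y = y + (φ ⬝ᵥ y) • w := by
    intro y hy
    obtain ⟨x', hx'⟩ := h2 (Pi.single 0 1) y hy
    rw [hact'] at hx'
    have hj : ∀ j, (β' *ᵥ y) j = y j + x' 0 * w j := by
      intro j
      have := congrFun hx' (0, j)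
      simpa [ten] using this
    have hφy : φ ⬝ᵥ y = x' 0 := by
      have e1 : φ ⬝ᵥ y = (w j0)⁻¹ * ((β' - 1) *ᵥ y) j0 := by
        simp only [hφ, dotProduct, Matrix.mulVec, Finset.mul_sum, mul_assoc]
      rw [e1, Matrix.sub_mulVec, Matrix.one_mulVec, Pi.sub_apply, hj j0, add_sub_cancel_left, mul_comm,
        mul_assoc, mul_inv_cancel₀ hj0, mul_one]
    funext j
    rw [hφy, hj j]
    simp
  obtain ⟨z, hz⟩ := ts2t0rn_repr C.det2 φ
  refine ⟨z, ?_, ?_⟩
  · rw [bf_symm C.sym, hz]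
    have h := hℓ w hw0
    rw [hβw] at h
    have h3 : (φ ⬝ᵥ w) • w = 0 := by
      have := h.symm
      rwa [add_eq_left] at this
    rcases smul_eq_zero.mp h3 with h | h
    · exact h
    · exact absurd h hw
  · intro x y hy
    rw [hact', hℓ y hy, ten_add_right, ten_smul_right, hz]

end Cfsg.Agent.Lib.Helper21.TS
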