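import Mathlib
import Cfsg.Prelude.Def_ChevStructure
import Cfsg.Agent.Lib.helper14.TWI.D4Defs
import Cfsg.Agent.Lib.helper14.INVNCa
import Cfsg.Agent.Lib.helper14.INVNCb
import Cfsg.Agent.Lib.helper14.ChevFiltAll
import Cfsg.Agent.Lib.helper8.ChevCommAll
import Cfsg.Agent.Lib.helper8.ChevBNAll
import Cfsg.Agent.Lib.helper8.ChevBNAll2

/-!
# Project TWI, piece NONCONJ: `x_23(1)` and `x_17(1) x_20(1) x_21(1)` are not conjugate in `D₄(K)`, `char K = 2`
-/

set_option autoImplicit false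

namespace Cfsg.Agent.Lib.helper14.TWI

open Cfsg.Lie Cfsg.Lie.ChevalleyDatum Cfsg.Agent.Lib.helper8 Cfsg.Agent.Lib.helper14
  Cfsg.Agent.Lib.helper14.INV

universe u

variable {K : Type u} [Field K]

theorem d4nc_memL : chevD4 ∈ [chevG2, chevB2, chevD4, chevF4, chevE6, chevE7, chevE8] := by simp

/-- witness words cutting out `{23}` and `{17, 20, 21, 22, 23}` -/
def d4ncWs1 : List (List ℕ) := [[], [2, 1, 3, 1, 2, 1, 0], [1, 3, 2, 1]]
def d4ncWs2 : List (List ℕ) := [[], [3, 2, 0, 1], [3, 2, 0]]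

/-- the roots above `17, 20, 21` -/
def d4ncL : List ℕ := [17, 20, 21, 22, 23]

theorem d4nc_ws1_rank : ∀ v ∈ d4ncWs1, ∀ i ∈ v, i < chevD4.rank := by decide +kernel
theorem d4nc_ws1_pos : ∀ v ∈ d4ncWs1, ∀ r ∈ [23], chevD4.IsPosRoot (h8sW chevD4 v r) := by
  decide +kernel
theorem d4nc_ws1_cl : ∀ s < chevD4.nroots,
    (∀ v ∈ d4ncWs1, chevD4.IsPosRoot (h8sW chevD4 v s)) → s ∈ [23] := by decide +kernel
theorem d4nc_ws2_rank : ∀ v ∈ d4ncWs2, ∀ i ∈ v, i < chevD4.rank := by decide +kernel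
theorem d4nc_ws2_pos : ∀ v ∈ d4ncWs2, ∀ r ∈ d4ncL, chevD4.IsPosRoot (h8sW chevD4 v r) := by
  decide +kernel
theorem d4nc_ws2_cl : ∀ s < chevD4.nroots,
    (∀ v ∈ d4ncWs2, chevD4.IsPosRoot (h8sW chevD4 v s)) → s ∈ d4ncL := by decide +kernel

theorem d4nc_fil : ∀ L ∈ [[23], d4ncL],
    (h8Lk chevD4 0).filter (fun r => decide (r ∈ L)) = L := by decide +kernel

theorem d4nc_comm1 : f4cCommChk chevD4 [23] 2 = true := by decide +kernel
theorem d4nc_stab1 : f4cStabChk chevD4 [23] 2 = true := by decide +kernel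
theorem d4nc_commL : f4cCommChk chevD4 d4ncL 2 = true := by decide +kernel
theorem d4nc_chk2 : ∀ r ∈ [17, 20, 21], chevD4.IsPosRoot r ∧
    (∀ s ∈ [22, 23], chevD4.IsPosRoot s ∧ r < s) ∧ (r :: [22, 23]).Sublist d4ncL ∧
    f4cCommChk chevD4 (r :: [22, 23]) 2 = true ∧ f4cStabChk chevD4 (r :: [22, 23]) 2 = true ∧
    ∀ r' ∈ [17, 20, 21], r' ≠ r → r' ∉ [22, 23] := by
  decide +kernel

theorem d4nc_pos : ∀ r ∈ [17, 20, 21, 23], chevD4.IsPosRoot r := by decide +kernel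

/-- NONCONJ : the two representatives are not conjugate in `D₄(K)` -/
theorem d4_not_conj [CharP K 2] (hB : H8Base.{u} chevD4)
    (h : Cj chevD4 (w1 chevD4 hB [23] : GL chevD4.Idx K) (w1 chevD4 hB [17, 20, 21])) : False := by
  have hm : (((2 : ℕ) : ℤ) : K) = 0 := by
    have : ((2 : ℕ) : K) = 0 := CharP.cast_eq_zero K 2
    exact_mod_cast this
  have hD := d4nc_memL
  have hA := h8reflAll chevD4 hD
  have hC := h8commAll.{u} chevD4 hD
  have hBN := h8bn_all chevD4 hD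
  have hW := h8bn2_all chevD4 hD
  obtain ⟨hO, hO2⟩ := h8ord_all chevD4 hD
  have hM := cfMax_all chevD4 hD
  obtain ⟨g, hg, e⟩ := h
  have form1 : ∀ b ∈ chevD4.borelSubgroup K, ∃ c : ℕ → K, (∀ r ∈ [23], c r ≠ 0) ∧
      b * (w1 chevD4 hB [23] : GL chevD4.Idx K) * b⁻¹ = f4cLW chevD4 hB [23] c := by
    intro b hb
    exact nc_form_prod chevD4 hB hC hO hO2 hM 2 hm [23] (by decide) d4nc_comm1 (fun _ => [])
      [23] (by decide) (by
        intro r hr
        simp only [List.mem_cons, List.not_mem_nil, or_false] at hr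
        subst hr
        exact ⟨d4nc_pos 23 (by simp), by simp, by simp, d4nc_comm1, d4nc_stab1, by simp⟩) b hb
  have form2 : ∀ b ∈ chevD4.borelSubgroup K, ∃ c : ℕ → K, (∀ r ∈ [17, 20, 21], c r ≠ 0) ∧
      b * (w1 chevD4 hB [17, 20, 21] : GL chevD4.Idx K) * b⁻¹ = f4cLW chevD4 hB d4ncL c := by
    intro b hb
    exact nc_form_prod chevD4 hB hC hO hO2 hM 2 hm d4ncL (by decide) d4nc_commL
      (fun _ => [22, 23]) [17, 20, 21] (by decide) d4nc_chk2 b hb
  obtain ⟨w, w₂, hw, hw₂, h1, h2, h3, h4⟩ := nc_core chevD4 hB hA hC hBN hW hO hO2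
    [23] [23] d4ncL [17, 20, 21] (d4nc_fil [23] (by simp)) (d4nc_fil d4ncL (by simp))
    d4ncWs1 d4ncWs2 d4nc_ws1_rank d4nc_ws2_rank d4nc_ws1_pos d4nc_ws1_cl d4nc_ws2_pos d4nc_ws2_cl
    (w1 chevD4 hB [23]) (w1 chevD4 hB [17, 20, 21]) form1 form2
    (by
      intro r hr
      simp only [List.mem_cons, List.not_mem_nil, or_false] at hr
      subst hr
      exact ⟨by simp, d4nc_pos 23 (by simp)⟩)
    (by
      intro r hr
      have hr' : r ∈ [17, 20, 21, 23] := by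
        simp only [List.mem_cons, List.not_mem_nil, or_false] at hr ⊢
        rcases hr with rfl | rfl | rfl <;> simp
      refine ⟨?_, d4nc_pos r hr'⟩
      simp only [List.mem_cons, List.not_mem_nil, or_false] at hr
      rcases hr with rfl | rfl | rfl <;> decide)
    g hg e
  have e1 := h2 17 (by simp)
  have e2 := h2 20 (by simp)
  simp only [List.mem_cons, List.not_mem_nil, or_false] at e1 e2
  have a1 := h4 17 (by decide)
  have a2 := h4 20 (by decide)
  rw [e1] at a1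
  rw [e2] at a2
  omega

end Cfsg.Agent.Lib.helper14.TWI
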