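import Mathlib
import Cfsg.Prelude.Def_ChevStructure
import Cfsg.Agent.Lib.helper14.TWI.D4Defs

/-!
# Project TWI, pieces TAB and LS0: the elements of `W(D₄)` with the property `JPropT`

`d4WTab` lists the 192 elements of `W(D₄)` as lists of the images of the 24 roots (generated by a script: closure of the
identity under `r ↦ reflectRoot i r`); it is closed under the fundamental reflections (`decide +kernel`), so it contains the table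
of every valid word.
-/

set_option autoImplicit false

namespace Cfsg.Agent.Lib.helper14.TWI

open Cfsg.Lie Cfsg.Lie.ChevalleyDatum Cfsg.Agent.Lib.helper8 Cfsg.Agent.Lib.helper14
  Cfsg.Agent.Lib.helper14.INV

/-- the 192 elements of `W(D₄)` -/
def d4WTab : List (List ℕ) :=
  [[0, 1, 2, 3, 4, 5, 6, 7, 8, 9, 10, 11, 12, 13, 14, 15, 16, 17, 18, 19, 20, 21, 22, 23],
   [0, 6, 7, 8, 9, 18, 1, 2, 3, 4, 10, 11, 12, 13, 19, 20, 21, 22, 5, 14, 15, 16, 17, 23],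
   [1, 0, 2, 3, 5, 4, 6, 10, 11, 14, 7, 8, 15, 16, 9, 12, 13, 17, 19, 18, 20, 21, 23, 22],
   [0, 3, 4, 1, 2, 5, 8, 9, 6, 7, 13, 11, 12, 10, 16, 17, 14, 15, 18, 21, 22, 19, 20, 23],
   [0, 2, 1, 4, 3, 5, 7, 6, 9, 8, 10, 12, 11, 13, 15, 14, 17, 16, 18, 20, 19, 22, 21, 23],
   [1, 6, 10, 11, 14, 19, 0, 2, 3, 5, 7, 8, 15, 16, 18, 20, 21, 23, 4, 9, 12, 13, 17, 22],
   [0, 8, 9, 6, 7, 18, 3, 4, 1, 2, 13, 11, 12, 10, 21, 22, 19, 20, 5, 16, 17, 14, 15, 23],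
   [0, 7, 6, 9, 8, 18, 2, 1, 4, 3, 10, 12, 11, 13, 20, 19, 22, 21, 5, 15, 14, 17, 16, 23],
   [6, 0, 7, 8, 18, 9, 1, 10, 11, 19, 2, 3, 20, 21, 4, 12, 13, 22, 14, 5, 15, 16, 23, 17],
   [3, 0, 4, 1, 5, 2, 8, 13, 11, 16, 9, 6, 17, 14, 7, 12, 10, 15, 21, 18, 22, 19, 23, 20],
   [2, 0, 1, 4, 5, 3, 7, 10, 12, 15, 6, 9, 14, 17, 8, 11, 13, 16, 20, 18, 19, 22, 23, 21],
   [1, 3, 5, 0, 2, 4, 11, 14, 6, 10, 16, 8, 15, 7, 13, 17, 9, 12, 19, 21, 23, 18, 20, 22],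
   [0, 4, 3, 2, 1, 5, 9, 8, 7, 6, 13, 12, 11, 10, 17, 16, 15, 14, 18, 22, 21, 20, 19, 23],
   [1, 2, 0, 5, 3, 4, 10, 6, 14, 11, 7, 15, 8, 16, 12, 9, 17, 13, 19, 20, 18, 23, 21, 22],
   [6, 1, 10, 11, 19, 14, 0, 7, 8, 18, 2, 3, 20, 21, 5, 15, 16, 23, 9, 4, 12, 13, 22, 17],
   [3, 8, 13, 11, 16, 21, 0, 4, 1, 5, 9, 6, 17, 14, 18, 22, 19, 23, 2, 7, 12, 10, 15, 20],
   [2, 7, 10, 12, 15, 20, 0, 1, 4, 5, 6, 9, 14, 17, 18, 19, 22, 23, 3, 8, 11, 13, 16, 21],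
   [1, 11, 14, 6, 10, 19, 3, 5, 0, 2, 16, 8, 15, 7, 21, 23, 18, 20, 4, 13, 17, 9, 12, 22],
   [0, 9, 8, 7, 6, 18, 4, 3, 2, 1, 13, 12, 11, 10, 22, 21, 20, 19, 5, 17, 16, 15, 14, 23],
   [1, 10, 6, 14, 11, 19, 2, 0, 5, 3, 7, 15, 8, 16, 20, 18, 23, 21, 4, 12, 9, 17, 13, 22],
   [8, 0, 9, 6, 18, 7, 3, 13, 11, 21, 4, 1, 22, 19, 2, 12, 10, 20, 16, 5, 17, 14, 23, 15],
   [7, 0, 6, 9, 18, 8, 2, 10, 12, 20, 1, 4, 19, 22, 3, 11, 13, 21, 15, 5, 14, 17, 23, 16],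
   [3, 1, 5, 0, 4, 2, 11, 16, 8, 13, 14, 6, 17, 9, 10, 15, 7, 12, 21, 19, 23, 18, 22, 20],
   [4, 0, 3, 2, 5, 1, 9, 13, 12, 17, 8, 7, 16, 15, 6, 11, 10, 14, 22, 18, 21, 20, 23, 19],
   [2, 1, 0, 5, 4, 3, 10, 7, 15, 12, 6, 14, 9, 17, 11, 8, 16, 13, 20, 19, 18, 23, 22, 21],
   [6, 8, 18, 0, 7, 9, 11, 19, 1, 10, 21, 3, 20, 2, 13, 22, 4, 12, 14, 16, 23, 5, 15, 17],
   [2, 4, 5, 0, 1, 3, 12, 15, 7, 10, 17, 9, 14, 6, 13, 16, 8, 11, 20, 22, 23, 18, 19, 21],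
   [1, 5, 3, 2, 0, 4, 14, 11, 10, 6, 16, 15, 8, 7, 17, 13, 12, 9, 19, 23, 21, 20, 18, 22],
   [6, 7, 0, 18, 8, 9, 10, 1, 19, 11, 2, 20, 3, 21, 12, 4, 22, 13, 14, 15, 5, 23, 16, 17],
   [3, 4, 0, 5, 1, 2, 13, 8, 16, 11, 9, 17, 6, 14, 12, 7, 15, 10, 21, 22, 18, 23, 19, 20],
   [8, 3, 13, 11, 21, 16, 0, 9, 6, 18, 4, 1, 22, 19, 5, 17, 14, 23, 7, 2, 12, 10, 20, 15],
   [7, 2, 10, 12, 20, 15, 0, 6, 9, 18, 1, 4, 19, 22, 5, 14, 17, 23, 8, 3, 11, 13, 21, 16],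
   [3, 11, 16, 8, 13, 21, 1, 5, 0, 4, 14, 6, 17, 9, 19, 23, 18, 22, 2, 10, 15, 7, 12, 20],
   [4, 9, 13, 12, 17, 22, 0, 3, 2, 5, 8, 7, 16, 15, 18, 21, 20, 23, 1, 6, 11, 10, 14, 19],
   [2, 10, 7, 15, 12, 20, 1, 0, 5, 4, 6, 14, 9, 17, 19, 18, 23, 22, 3, 11, 8, 16, 13, 21],
   [6, 11, 19, 1, 10, 14, 8, 18, 0, 7, 21, 3, 20, 2, 16, 23, 5, 15, 9, 13, 22, 4, 12, 17],
   [2, 12, 15, 7, 10, 20, 4, 5, 0, 1, 17, 9, 14, 6, 22, 23, 18, 19, 3, 13, 16, 8, 11, 21],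
   [1, 14, 11, 10, 6, 19, 5, 3, 2, 0, 16, 15, 8, 7, 23, 21, 20, 18, 4, 17, 13, 12, 9, 22],
   [6, 10, 1, 19, 11, 14, 7, 0, 18, 8, 2, 20, 3, 21, 15, 5, 23, 16, 9, 12, 4, 22, 13, 17],
   [3, 13, 8, 16, 11, 21, 4, 0, 5, 1, 9, 17, 6, 14, 22, 18, 23, 19, 2, 12, 7, 15, 10, 20],
   [11, 1, 14, 6, 19, 10, 3, 16, 8, 21, 5, 0, 23, 18, 2, 15, 7, 20, 13, 4, 17, 9, 22, 12],
   [9, 0, 8, 7, 18, 6, 4, 13, 12, 22, 3, 2, 21, 20, 1, 11, 10, 19, 17, 5, 16, 15, 23, 14],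
   [10, 1, 6, 14, 19, 11, 2, 7, 15, 20, 0, 5, 18, 23, 3, 8, 16, 21, 12, 4, 9, 17, 22, 13],
   [8, 6, 18, 0, 9, 7, 11, 21, 3, 13, 19, 1, 22, 4, 10, 20, 2, 12, 16, 14, 23, 5, 17, 15],
   [4, 2, 5, 0, 3, 1, 12, 17, 9, 13, 15, 7, 16, 8, 10, 14, 6, 11, 22, 20, 23, 18, 21, 19],
   [5, 1, 3, 2, 4, 0, 14, 16, 15, 17, 11, 10, 13, 12, 6, 8, 7, 9, 23, 19, 21, 20, 22, 18],
   [7, 6, 0, 18, 9, 8, 10, 2, 20, 12, 1, 19, 4, 22, 11, 3, 21, 13, 15, 14, 5, 23, 17, 16],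
   [4, 3, 0, 5, 2, 1, 13, 9, 17, 12, 8, 16, 7, 15, 11, 6, 14, 10, 22, 21, 18, 23, 20, 19],
   [7, 9, 18, 0, 6, 8, 12, 20, 2, 10, 22, 4, 19, 1, 13, 21, 3, 11, 15, 17, 23, 5, 14, 16],
   [2, 5, 4, 1, 0, 3, 15, 12, 10, 7, 17, 14, 9, 6, 16, 13, 11, 8, 20, 23, 22, 19, 18, 21],
   [6, 18, 8, 7, 0, 9, 19, 11, 10, 1, 21, 20, 3, 2, 22, 13, 12, 4, 14, 23, 16, 15, 5, 17],
   [3, 5, 1, 4, 0, 2, 16, 11, 13, 8, 14, 17, 6, 9, 15, 10, 12, 7, 21, 23, 19, 22, 18, 20],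
   [8, 9, 0, 18, 6, 7, 13, 3, 21, 11, 4, 22, 1, 19, 12, 2, 20, 10, 16, 17, 5, 23, 14, 15],
   [11, 3, 16, 8, 21, 13, 1, 14, 6, 19, 5, 0, 23, 18, 4, 17, 9, 22, 10, 2, 15, 7, 20, 12],
   [9, 4, 13, 12, 22, 17, 0, 8, 7, 18, 3, 2, 21, 20, 5, 16, 15, 23, 6, 1, 11, 10, 19, 14],
   [10, 2, 7, 15, 20, 12, 1, 6, 14, 19, 0, 5, 18, 23, 4, 9, 17, 22, 11, 3, 8, 16, 21, 13],
   [8, 11, 21, 3, 13, 16, 6, 18, 0, 9, 19, 1, 22, 4, 14, 23, 5, 17, 7, 10, 20, 2, 12, 15],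
   [4, 12, 17, 9, 13, 22, 2, 5, 0, 3, 15, 7, 16, 8, 20, 23, 18, 21, 1, 10, 14, 6, 11, 19],
   [5, 14, 16, 15, 17, 23, 1, 3, 2, 4, 11, 10, 13, 12, 19, 21, 20, 22, 0, 6, 8, 7, 9, 18],
   [7, 10, 2, 20, 12, 15, 6, 0, 18, 9, 1, 19, 4, 22, 14, 5, 23, 17, 8, 11, 3, 21, 13, 16],
   [4, 13, 9, 17, 12, 22, 3, 0, 5, 2, 8, 16, 7, 15, 21, 18, 23, 20, 1, 11, 6, 14, 10, 19],
   [7, 12, 20, 2, 10, 15, 9, 18, 0, 6, 22, 4, 19, 1, 17, 23, 5, 14, 8, 13, 21, 3, 11, 16],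
   [2, 15, 12, 10, 7, 20, 5, 4, 1, 0, 17, 14, 9, 6, 23, 22, 19, 18, 3, 16, 13, 11, 8, 21],
   [6, 19, 11, 10, 1, 14, 18, 8, 7, 0, 21, 20, 3, 2, 23, 16, 15, 5, 9, 22, 13, 12, 4, 17],
   [3, 16, 11, 13, 8, 21, 5, 1, 4, 0, 14, 17, 6, 9, 23, 19, 22, 18, 2, 15, 10, 12, 7, 20],
   [8, 13, 3, 21, 11, 16, 9, 0, 18, 6, 4, 22, 1, 19, 17, 5, 23, 14, 7, 12, 2, 20, 10, 15],
   [11, 6, 19, 1, 14, 10, 8, 21, 3, 16, 18, 0, 23, 5, 7, 20, 2, 15, 13, 9, 22, 4, 17, 12],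
   [12, 2, 15, 7, 20, 10, 4, 17, 9, 22, 5, 0, 23, 18, 1, 14, 6, 19, 13, 3, 16, 8, 21, 11],
   [14, 1, 11, 10, 19, 6, 5, 16, 15, 23, 3, 2, 21, 20, 0, 8, 7, 18, 17, 4, 13, 12, 22, 9],
   [10, 6, 1, 19, 14, 11, 7, 2, 20, 15, 0, 18, 5, 23, 8, 3, 21, 16, 12, 9, 4, 22, 17, 13],
   [13, 3, 8, 16, 21, 11, 4, 9, 17, 22, 0, 5, 18, 23, 1, 6, 14, 19, 12, 2, 7, 15, 20, 10],
   [9, 7, 18, 0, 8, 6, 12, 22, 4, 13, 20, 2, 21, 3, 10, 19, 1, 11, 17, 15, 23, 5, 16, 14],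
   [5, 2, 4, 1, 3, 0, 15, 17, 14, 16, 12, 10, 13, 11, 7, 9, 6, 8, 23, 20, 22, 19, 21, 18],
   [18, 6, 8, 7, 9, 0, 19, 21, 20, 22, 11, 10, 13, 12, 1, 3, 2, 4, 23, 14, 16, 15, 17, 5],
   [5, 3, 1, 4, 2, 0, 16, 14, 17, 15, 11, 13, 10, 12, 8, 6, 9, 7, 23, 21, 19, 22, 20, 18],
   [9, 8, 0, 18, 7, 6, 13, 4, 22, 12, 3, 21, 2, 20, 11, 1, 19, 10, 17, 16, 5, 23, 15, 14],
   [10, 14, 19, 1, 6, 11, 15, 20, 2, 7, 23, 5, 18, 0, 16, 21, 3, 8, 12, 17, 22, 4, 9, 13],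
   [7, 18, 9, 6, 0, 8, 20, 12, 10, 2, 22, 19, 4, 1, 21, 13, 11, 3, 15, 23, 17, 14, 5, 16],
   [4, 5, 2, 3, 0, 1, 17, 12, 13, 9, 15, 16, 7, 8, 14, 10, 11, 6, 22, 23, 20, 21, 18, 19],
   [8, 18, 6, 9, 0, 7, 21, 11, 13, 3, 19, 22, 1, 4, 20, 10, 12, 2, 16, 23, 14, 17, 5, 15],
   [11, 14, 1, 19, 6, 10, 16, 3, 21, 8, 5, 23, 0, 18, 15, 2, 20, 7, 13, 17, 4, 22, 9, 12],
   [11, 8, 21, 3, 16, 13, 6, 19, 1, 14, 18, 0, 23, 5, 9, 22, 4, 17, 10, 7, 20, 2, 15, 12],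
   [12, 4, 17, 9, 22, 13, 2, 15, 7, 20, 5, 0, 23, 18, 3, 16, 8, 21, 10, 1, 14, 6, 19, 11],
   [14, 5, 16, 15, 23, 17, 1, 11, 10, 19, 3, 2, 21, 20, 4, 13, 12, 22, 6, 0, 8, 7, 18, 9],
   [10, 7, 2, 20, 15, 12, 6, 1, 19, 14, 0, 18, 5, 23, 9, 4, 22, 17, 11, 8, 3, 21, 16, 13],
   [13, 4, 9, 17, 22, 12, 3, 8, 16, 21, 0, 5, 18, 23, 2, 7, 15, 20, 11, 1, 6, 14, 19, 10],
   [9, 12, 22, 4, 13, 17, 7, 18, 0, 8, 20, 2, 21, 3, 15, 23, 5, 16, 6, 10, 19, 1, 11, 14],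
   [5, 15, 17, 14, 16, 23, 2, 4, 1, 3, 12, 10, 13, 11, 20, 22, 19, 21, 0, 7, 9, 6, 8, 18],
   [18, 19, 21, 20, 22, 23, 6, 8, 7, 9, 11, 10, 13, 12, 14, 16, 15, 17, 0, 1, 3, 2, 4, 5],
   [5, 16, 14, 17, 15, 23, 3, 1, 4, 2, 11, 13, 10, 12, 21, 19, 22, 20, 0, 8, 6, 9, 7, 18],
   [9, 13, 4, 22, 12, 17, 8, 0, 18, 7, 3, 21, 2, 20, 16, 5, 23, 15, 6, 11, 1, 19, 10, 14],
   [10, 15, 20, 2, 7, 12, 14, 19, 1, 6, 23, 5, 18, 0, 17, 22, 4, 9, 11, 16, 21, 3, 8, 13],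
   [7, 20, 12, 10, 2, 15, 18, 9, 6, 0, 22, 19, 4, 1, 23, 17, 14, 5, 8, 21, 13, 11, 3, 16],
   [4, 17, 12, 13, 9, 22, 5, 2, 3, 0, 15, 16, 7, 8, 23, 20, 21, 18, 1, 14, 10, 11, 6, 19],
   [8, 21, 11, 13, 3, 16, 18, 6, 9, 0, 19, 22, 1, 4, 23, 14, 17, 5, 7, 20, 10, 12, 2, 15],
   [11, 16, 3, 21, 8, 13, 14, 1, 19, 6, 5, 23, 0, 18, 17, 4, 22, 9, 10, 15, 2, 20, 7, 12],
   [12, 7, 20, 2, 15, 10, 9, 22, 4, 17, 18, 0, 23, 5, 6, 19, 1, 14, 13, 8, 21, 3, 16, 11],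
   [15, 2, 12, 10, 20, 7, 5, 17, 14, 23, 4, 1, 22, 19, 0, 9, 6, 18, 16, 3, 13, 11, 21, 8],
   [19, 6, 11, 10, 14, 1, 18, 21, 20, 23, 8, 7, 16, 15, 0, 3, 2, 5, 22, 9, 13, 12, 17, 4],
   [16, 3, 11, 13, 21, 8, 5, 14, 17, 23, 1, 4, 19, 22, 0, 6, 9, 18, 15, 2, 10, 12, 20, 7],
   [13, 8, 3, 21, 16, 11, 9, 4, 22, 17, 0, 18, 5, 23, 6, 1, 19, 14, 12, 7, 2, 20, 15, 10],
   [14, 10, 19, 1, 11, 6, 15, 23, 5, 16, 20, 2, 21, 3, 7, 18, 0, 8, 17, 12, 22, 4, 13, 9],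
   [18, 7, 9, 6, 8, 0, 20, 22, 19, 21, 12, 10, 13, 11, 2, 4, 1, 3, 23, 15, 17, 14, 16, 5],
   [5, 4, 2, 3, 1, 0, 17, 15, 16, 14, 12, 13, 10, 11, 9, 7, 8, 6, 23, 22, 20, 21, 19, 18],
   [18, 8, 6, 9, 7, 0, 21, 19, 22, 20, 11, 13, 10, 12, 3, 1, 4, 2, 23, 16, 14, 17, 15, 5],
   [14, 11, 1, 19, 10, 6, 16, 5, 23, 15, 3, 21, 2, 20, 8, 0, 18, 7, 17, 13, 4, 22, 12, 9],
   [10, 19, 14, 6, 1, 11, 20, 15, 7, 2, 23, 18, 5, 0, 21, 16, 8, 3, 12, 22, 17, 9, 4, 13],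
   [13, 16, 21, 3, 8, 11, 17, 22, 4, 9, 23, 5, 18, 0, 14, 19, 1, 6, 12, 15, 20, 2, 7, 10],
   [9, 18, 7, 8, 0, 6, 22, 12, 13, 4, 20, 21, 2, 3, 19, 10, 11, 1, 17, 23, 15, 16, 5, 14],
   [11, 19, 6, 14, 1, 10, 21, 8, 16, 3, 18, 23, 0, 5, 20, 7, 15, 2, 13, 22, 9, 17, 4, 12],
   [12, 15, 2, 20, 7, 10, 17, 4, 22, 9, 5, 23, 0, 18, 14, 1, 19, 6, 13, 16, 3, 21, 8, 11],
   [12, 9, 22, 4, 17, 13, 7, 20, 2, 15, 18, 0, 23, 5, 8, 21, 3, 16, 10, 6, 19, 1, 14, 11],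
   [15, 5, 17, 14, 23, 16, 2, 12, 10, 20, 4, 1, 22, 19, 3, 13, 11, 21, 7, 0, 9, 6, 18, 8],
   [19, 18, 21, 20, 23, 22, 6, 11, 10, 14, 8, 7, 16, 15, 9, 13, 12, 17, 1, 0, 3, 2, 5, 4],
   [16, 5, 14, 17, 23, 15, 3, 11, 13, 21, 1, 4, 19, 22, 2, 10, 12, 20, 8, 0, 6, 9, 18, 7],
   [13, 9, 4, 22, 17, 12, 8, 3, 21, 16, 0, 18, 5, 23, 7, 2, 20, 15, 11, 6, 1, 19, 14, 10],
   [14, 15, 23, 5, 16, 17, 10, 19, 1, 11, 20, 2, 21, 3, 12, 22, 4, 13, 6, 7, 18, 0, 8, 9],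
   [18, 20, 22, 19, 21, 23, 7, 9, 6, 8, 12, 10, 13, 11, 15, 17, 14, 16, 0, 2, 4, 1, 3, 5],
   [5, 17, 15, 16, 14, 23, 4, 2, 3, 1, 12, 13, 10, 11, 22, 20, 21, 19, 0, 9, 7, 8, 6, 18],
   [18, 21, 19, 22, 20, 23, 8, 6, 9, 7, 11, 13, 10, 12, 16, 14, 17, 15, 0, 3, 1, 4, 2, 5],
   [14, 16, 5, 23, 15, 17, 11, 1, 19, 10, 3, 21, 2, 20, 13, 4, 22, 12, 6, 8, 0, 18, 7, 9],
   [10, 20, 15, 7, 2, 12, 19, 14, 6, 1, 23, 18, 5, 0, 22, 17, 9, 4, 11, 21, 16, 8, 3, 13],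
   [13, 17, 22, 4, 9, 12, 16, 21, 3, 8, 23, 5, 18, 0, 15, 20, 2, 7, 11, 14, 19, 1, 6, 10],
   [9, 22, 12, 13, 4, 17, 18, 7, 8, 0, 20, 21, 2, 3, 23, 15, 16, 5, 6, 19, 10, 11, 1, 14],
   [11, 21, 8, 16, 3, 13, 19, 6, 14, 1, 18, 23, 0, 5, 22, 9, 17, 4, 10, 20, 7, 15, 2, 12],
   [12, 17, 4, 22, 9, 13, 15, 2, 20, 7, 5, 23, 0, 18, 16, 3, 21, 8, 10, 14, 1, 19, 6, 11],
   [15, 10, 20, 2, 12, 7, 14, 23, 5, 17, 19, 1, 22, 4, 6, 18, 0, 9, 16, 11, 21, 3, 13, 8],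
   [20, 7, 12, 10, 15, 2, 18, 22, 19, 23, 9, 6, 17, 14, 0, 4, 1, 5, 21, 8, 13, 11, 16, 3],
   [17, 4, 12, 13, 22, 9, 5, 15, 16, 23, 2, 3, 20, 21, 0, 7, 8, 18, 14, 1, 10, 11, 19, 6],
   [21, 8, 11, 13, 16, 3, 18, 19, 22, 23, 6, 9, 14, 17, 0, 1, 4, 5, 20, 7, 10, 12, 15, 2],
   [16, 11, 3, 21, 13, 8, 14, 5, 23, 17, 1, 19, 4, 22, 6, 0, 18, 9, 15, 10, 2, 20, 12, 7],
   [19, 10, 14, 6, 11, 1, 20, 23, 18, 21, 15, 7, 16, 8, 2, 5, 0, 3, 22, 12, 17, 9, 13, 4],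
   [16, 13, 21, 3, 11, 8, 17, 23, 5, 14, 22, 4, 19, 1, 9, 18, 0, 6, 15, 12, 20, 2, 10, 7],
   [18, 9, 7, 8, 6, 0, 22, 20, 21, 19, 12, 13, 10, 11, 4, 2, 3, 1, 23, 17, 15, 16, 14, 5],
   [19, 11, 6, 14, 10, 1, 21, 18, 23, 20, 8, 16, 7, 15, 3, 0, 5, 2, 22, 13, 9, 17, 12, 4],
   [15, 12, 2, 20, 10, 7, 17, 5, 23, 14, 4, 22, 1, 19, 9, 0, 18, 6, 16, 13, 3, 21, 11, 8],
   [13, 21, 16, 8, 3, 11, 22, 17, 9, 4, 23, 18, 5, 0, 19, 14, 6, 1, 12, 20, 15, 7, 2, 10],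
   [14, 19, 10, 11, 1, 6, 23, 15, 16, 5, 20, 21, 2, 3, 18, 7, 8, 0, 17, 22, 12, 13, 4, 9],
   [12, 20, 7, 15, 2, 10, 22, 9, 17, 4, 18, 23, 0, 5, 19, 6, 14, 1, 13, 21, 8, 16, 3, 11],
   [15, 14, 23, 5, 17, 16, 10, 20, 2, 12, 19, 1, 22, 4, 11, 21, 3, 13, 7, 6, 18, 0, 9, 8],
   [20, 18, 22, 19, 23, 21, 7, 12, 10, 15, 9, 6, 17, 14, 8, 13, 11, 16, 2, 0, 4, 1, 5, 3],
   [17, 5, 15, 16, 23, 14, 4, 12, 13, 22, 2, 3, 20, 21, 1, 10, 11, 19, 9, 0, 7, 8, 18, 6],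
   [21, 18, 19, 22, 23, 20, 8, 11, 13, 16, 6, 9, 14, 17, 7, 10, 12, 15, 3, 0, 1, 4, 5, 2],
   [16, 14, 5, 23, 17, 15, 11, 3, 21, 13, 1, 19, 4, 22, 10, 2, 20, 12, 8, 6, 0, 18, 9, 7],
   [19, 20, 23, 18, 21, 22, 10, 14, 6, 11, 15, 7, 16, 8, 12, 17, 9, 13, 1, 2, 5, 0, 3, 4],
   [16, 17, 23, 5, 14, 15, 13, 21, 3, 11, 22, 4, 19, 1, 12, 20, 2, 10, 8, 9, 18, 0, 6, 7],
   [18, 22, 20, 21, 19, 23, 9, 7, 8, 6, 12, 13, 10, 11, 17, 15, 16, 14, 0, 4, 2, 3, 1, 5],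
   [19, 21, 18, 23, 20, 22, 11, 6, 14, 10, 8, 16, 7, 15, 13, 9, 17, 12, 1, 3, 0, 5, 2, 4],
   [15, 17, 5, 23, 14, 16, 12, 2, 20, 10, 4, 22, 1, 19, 13, 3, 21, 11, 7, 9, 0, 18, 6, 8],
   [13, 22, 17, 9, 4, 12, 21, 16, 8, 3, 23, 18, 5, 0, 20, 15, 7, 2, 11, 19, 14, 6, 1, 10],
   [14, 23, 15, 16, 5, 17, 19, 10, 11, 1, 20, 21, 2, 3, 22, 12, 13, 4, 6, 18, 7, 8, 0, 9],
   [12, 22, 9, 17, 4, 13, 20, 7, 15, 2, 18, 23, 0, 5, 21, 8, 16, 3, 10, 19, 6, 14, 1, 11],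
   [20, 10, 15, 7, 12, 2, 19, 23, 18, 22, 14, 6, 17, 9, 1, 5, 0, 4, 21, 11, 16, 8, 13, 3],
   [17, 13, 22, 4, 12, 9, 16, 23, 5, 15, 21, 3, 20, 2, 8, 18, 0, 7, 14, 11, 19, 1, 10, 6],
   [22, 9, 12, 13, 17, 4, 18, 20, 21, 23, 7, 8, 15, 16, 0, 2, 3, 5, 19, 6, 10, 11, 14, 1],
   [21, 11, 8, 16, 13, 3, 19, 18, 23, 22, 6, 14, 9, 17, 1, 0, 5, 4, 20, 10, 7, 15, 12, 2],
   [17, 12, 4, 22, 13, 9, 15, 5, 23, 16, 2, 20, 3, 21, 7, 0, 18, 8, 14, 10, 1, 19, 11, 6],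
   [21, 13, 16, 8, 11, 3, 22, 23, 18, 19, 17, 9, 14, 6, 4, 5, 0, 1, 20, 12, 15, 7, 10, 2],
   [19, 14, 10, 11, 6, 1, 23, 20, 21, 18, 15, 16, 7, 8, 5, 2, 3, 0, 22, 17, 12, 13, 9, 4],
   [20, 12, 7, 15, 10, 2, 22, 18, 23, 19, 9, 17, 6, 14, 4, 0, 5, 1, 21, 13, 8, 16, 11, 3],
   [16, 21, 13, 11, 3, 8, 23, 17, 14, 5, 22, 19, 4, 1, 18, 9, 6, 0, 15, 20, 12, 10, 2, 7],
   [15, 20, 10, 12, 2, 7, 23, 14, 17, 5, 19, 22, 1, 4, 18, 6, 9, 0, 16, 21, 11, 13, 3, 8],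
   [20, 19, 23, 18, 22, 21, 10, 15, 7, 12, 14, 6, 17, 9, 11, 16, 8, 13, 2, 1, 5, 0, 4, 3],
   [17, 16, 23, 5, 15, 14, 13, 22, 4, 12, 21, 3, 20, 2, 11, 19, 1, 10, 9, 8, 18, 0, 7, 6],
   [22, 18, 20, 21, 23, 19, 9, 12, 13, 17, 7, 8, 15, 16, 6, 10, 11, 14, 4, 0, 2, 3, 5, 1],
   [21, 19, 18, 23, 22, 20, 11, 8, 16, 13, 6, 14, 9, 17, 10, 7, 15, 12, 3, 1, 0, 5, 4, 2],
   [17, 15, 5, 23, 16, 14, 12, 4, 22, 13, 2, 20, 3, 21, 10, 1, 19, 11, 9, 7, 0, 18, 8, 6],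
   [21, 22, 23, 18, 19, 20, 13, 16, 8, 11, 17, 9, 14, 6, 12, 15, 7, 10, 3, 4, 5, 0, 1, 2],
   [19, 23, 20, 21, 18, 22, 14, 10, 11, 6, 15, 16, 7, 8, 17, 12, 13, 9, 1, 5, 2, 3, 0, 4],
   [20, 22, 18, 23, 19, 21, 12, 7, 15, 10, 9, 17, 6, 14, 13, 8, 16, 11, 2, 4, 0, 5, 1, 3],
   [16, 23, 17, 14, 5, 15, 21, 13, 11, 3, 22, 19, 4, 1, 20, 12, 10, 2, 8, 18, 9, 6, 0, 7],
   [15, 23, 14, 17, 5, 16, 20, 10, 12, 2, 19, 22, 1, 4, 21, 11, 13, 3, 7, 18, 6, 9, 0, 8],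
   [22, 13, 17, 9, 12, 4, 21, 23, 18, 20, 16, 8, 15, 7, 3, 5, 0, 2, 19, 11, 14, 6, 10, 1],
   [23, 14, 15, 16, 17, 5, 19, 20, 21, 22, 10, 11, 12, 13, 1, 2, 3, 4, 18, 6, 7, 8, 9, 0],
   [22, 12, 9, 17, 13, 4, 20, 18, 23, 21, 7, 15, 8, 16, 2, 0, 5, 3, 19, 10, 6, 14, 11, 1],
   [21, 16, 13, 11, 8, 3, 23, 22, 19, 18, 17, 14, 9, 6, 5, 4, 1, 0, 20, 15, 12, 10, 7, 2],
   [20, 15, 10, 12, 7, 2, 23, 19, 22, 18, 14, 17, 6, 9, 5, 1, 4, 0, 21, 16, 11, 13, 8, 3],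
   [17, 22, 13, 12, 4, 9, 23, 16, 15, 5, 21, 20, 3, 2, 18, 8, 7, 0, 14, 19, 11, 10, 1, 6],
   [22, 21, 23, 18, 20, 19, 13, 17, 9, 12, 16, 8, 15, 7, 11, 14, 6, 10, 4, 3, 5, 0, 2, 1],
   [23, 19, 20, 21, 22, 18, 14, 15, 16, 17, 10, 11, 12, 13, 6, 7, 8, 9, 5, 1, 2, 3, 4, 0],
   [22, 20, 18, 23, 21, 19, 12, 9, 17, 13, 7, 15, 8, 16, 10, 6, 14, 11, 4, 2, 0, 5, 3, 1],
   [21, 23, 22, 19, 18, 20, 16, 13, 11, 8, 17, 14, 9, 6, 15, 12, 10, 7, 3, 5, 4, 1, 0, 2],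
   [20, 23, 19, 22, 18, 21, 15, 10, 12, 7, 14, 17, 6, 9, 16, 11, 13, 8, 2, 5, 1, 4, 0, 3],
   [17, 23, 16, 15, 5, 14, 22, 13, 12, 4, 21, 20, 3, 2, 19, 11, 10, 1, 9, 18, 8, 7, 0, 6],
   [23, 16, 17, 14, 15, 5, 21, 22, 19, 20, 13, 11, 12, 10, 3, 4, 1, 2, 18, 8, 9, 6, 7, 0],
   [23, 15, 14, 17, 16, 5, 20, 19, 22, 21, 10, 12, 11, 13, 2, 1, 4, 3, 18, 7, 6, 9, 8, 0],
   [22, 17, 13, 12, 9, 4, 23, 21, 20, 18, 16, 15, 8, 7, 5, 3, 2, 0, 19, 14, 11, 10, 6, 1],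
   [23, 21, 22, 19, 20, 18, 16, 17, 14, 15, 13, 11, 12, 10, 8, 9, 6, 7, 5, 3, 4, 1, 2, 0],
   [23, 20, 19, 22, 21, 18, 15, 14, 17, 16, 10, 12, 11, 13, 7, 6, 9, 8, 5, 2, 1, 4, 3, 0],
   [22, 23, 21, 20, 18, 19, 17, 13, 12, 9, 16, 15, 8, 7, 14, 11, 10, 6, 4, 5, 3, 2, 0, 1],
   [23, 17, 16, 15, 14, 5, 22, 21, 20, 19, 13, 12, 11, 10, 4, 3, 2, 1, 18, 9, 8, 7, 6, 0],
   [23, 22, 21, 20, 19, 18, 17, 16, 15, 14, 13, 12, 11, 10, 9, 8, 7, 6, 5, 4, 3, 2, 1, 0]]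

set_option maxRecDepth 1000000 in
theorem d4WTab_closed : ∀ T ∈ d4WTab, ∀ i < 4, T.map (chevD4.reflectRoot i) ∈ d4WTab := by
  decide +kernel

theorem d4WTab_id : (List.range 24).map (fun r => r) ∈ d4WTab := by decide

/-- the table of a valid word -/
theorem d4_word_tab (w : List ℕ) (hw : ValidW chevD4 w) :
    (List.range 24).map (h8sW chevD4 w) ∈ d4WTab := by
  induction w with
  | nil => exact d4WTab_id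
  | cons i w ih =>
    have hi : i < 4 := hw i List.mem_cons_self
    have h1 := ih (fun k hk => hw k (List.mem_cons_of_mem _ hk))
    have h2 := d4WTab_closed _ h1 i hi
    rw [List.map_map] at h2
    exact h2

/-- the entry of a table -/
def tAt (T : List ℕ) (r : ℕ) : ℕ := T.getD r 0

theorem tAt_map (f : ℕ → ℕ) (r : ℕ) (hr : r < 24) : tAt ((List.range 24).map f) r = f r := by
  unfold tAt
  rw [List.getD_eq_getElem _ _ (by simpa using hr)]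
  simp

/-- the Bool form of `JPropT` for a table -/
def d4JChk (T : List ℕ) : Bool :=
  ((List.range 24).all fun r => decide (tAt T r < 24) && tAt T (tAt T r) == r) &&
  d4Orbs.all fun O =>
    (O.all fun j => O.any fun k => tAt T (chevD4.simple j) == chevD4.simple k) ||
    (O.all fun j => !decide (chevD4.IsPosRoot (tAt T (chevD4.simple j))))

set_option maxRecDepth 1000000 in
theorem d4_JChk_tabs : ∀ T ∈ d4WTab, d4JChk T = true → T ∈ d4Tabs := by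
  decide +kernel

theorem d4_simple_lt : ∀ O ∈ d4Orbs, ∀ j ∈ O, chevD4.simple j < 24 := by decide

/-- TAB : the elements of `W(D₄)` with the property `JPropT` -/
theorem d4_struct (w : List ℕ) (hw : ValidW chevD4 w) (hJ : JPropT chevD4 d4Orbs w) :
    (List.range 24).map (h8sW chevD4 w) ∈ d4Tabs := by
  have hD : chevD4 ∈ [chevG2, chevB2, chevD4, chevF4, chevE6, chevE7, chevE8] := by simp
  have hA := h8reflAll chevD4 hD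
  apply d4_JChk_tabs _ (d4_word_tab w hw)
  unfold d4JChk
  rw [Bool.and_eq_true, List.all_eq_true, List.all_eq_true]
  constructor
  · intro r hr
    have hr' : r < 24 := List.mem_range.mp hr
    have hlt : h8sW chevD4 w r < 24 := h8sW_lt chevD4 hA w hw r hr'
    rw [Bool.and_eq_true, decide_eq_true_eq, beq_iff_eq, tAt_map _ r hr', tAt_map _ _ hlt]
    exact ⟨hlt, hJ.1 r hr'⟩
  · intro O hO
    rw [Bool.or_eq_true]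
    rcases hJ.2 O hO with hp | hn
    · left
      rw [List.all_eq_true]
      intro j hj
      rw [List.any_eq_true]
      obtain ⟨k, hk, e⟩ := hp j hj
      refine ⟨k, hk, ?_⟩
      rw [beq_iff_eq, tAt_map _ _ (d4_simple_lt O hO j hj)]
      exact e
    · right
      rw [List.all_eq_true]
      intro j hj
      rw [tAt_map _ _ (d4_simple_lt O hO j hj)]
      simpa using hn j hj

/-- the Bool form of the trivial LS property -/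
def d4LSChk (T : List ℕ) : Bool :=
  (List.range 24).all fun r =>
    !decide (chevD4.IsPosRoot r) || !decide (chevD4.IsPosRoot (tAt T r)) ||
    d4Orbs.any fun O =>
      (O.all fun j => O.any fun k => tAt T (chevD4.simple j) == chevD4.simple k) &&
      O.any fun j => r == chevD4.simple j

theorem d4_LSChk_tabs : ∀ k < 3, d4LSChk (d4Tabs.getD k []) = true := by
  decide +kernel

/-- LS0 : for the three nontrivial tables the positive roots mapped to positive roots are fundamental roots of an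
orbit permuted by `w` -/
theorem d4_LS (w : List ℕ) (hw : ValidW chevD4 w) (hJ : JPropT chevD4 d4Orbs w)
    (hid : ∃ r < chevD4.nroots, h8sW chevD4 w r ≠ r) : LSProp chevD4 d4Orbs w := by
  have hD : chevD4 ∈ [chevG2, chevB2, chevD4, chevF4, chevE6, chevE7, chevE8] := by simp
  have hA := h8reflAll chevD4 hD
  have htab := d4_struct w hw hJ
  obtain ⟨k, hk, hkeq⟩ := List.getElem_of_mem htab
  have hk4 : k < 4 := hk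
  have hT : d4Tabs.getD k [] = (List.range 24).map (h8sW chevD4 w) := by
    rw [List.getD_eq_getElem _ _ hk]; exact hkeq
  have hk3 : k < 3 := by
    by_contra hcon
    have hk3' : k = 3 := by omega
    subst hk3'
    obtain ⟨r, hr, hrne⟩ := hid
    apply hrne
    have hr' : r < 24 := hr
    rw [← tAt_map (h8sW chevD4 w) r hr', ← hT]
    have : ∀ r < 24, tAt (d4Tabs.getD 3 []) r = r := by decide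
    exact this r hr'
  have hchk := d4_LSChk_tabs k hk3
  rw [hT] at hchk
  unfold d4LSChk at hchk
  rw [List.all_eq_true] at hchk
  intro S hSne hS
  obtain ⟨r₀, hr₀⟩ := hSne
  obtain ⟨hp, hpw⟩ := hS r₀ hr₀
  have hr₀lt : r₀ < 24 := hp.1
  have h1 := hchk r₀ (List.mem_range.mpr hr₀lt)
  rw [tAt_map _ _ hr₀lt] at h1
  simp only [Bool.or_eq_true, Bool.not_eq_true', decide_eq_false_iff_not, List.any_eq_true,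
    Bool.and_eq_true, List.all_eq_true, beq_iff_eq] at h1
  rcases h1 with (h1 | h1) | h1
  · exact absurd hp h1
  · exact absurd hpw h1
  · obtain ⟨O, hO, hperm, j, hj, ej⟩ := h1
    refine ⟨[], by simp, ?_, r₀, hr₀, O, hO, ?_, j, hj, ?_⟩
    · intro r hr
      exact (hS r hr).1
    · intro j' hj'
      obtain ⟨k', hk', e'⟩ := hperm j' hj'
      refine ⟨k', hk', ?_⟩
      rw [tAt_map _ _ (d4_simple_lt O hO j' hj')] at e'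
      exact e'
    · exact ej

end Cfsg.Agent.Lib.helper14.TWI
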