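import Mathlib
import Cfsg.Prelude.Def_ChevStructure
import Cfsg.Prelude.Def_LieTwisted
import Cfsg.Agent.Lib.helper6.TWIE6.Defs
import Cfsg.Agent.Lib.helper14.INVFUSEb
import Cfsg.Agent.Lib.Helper11.INVSTDN
import Cfsg.Agent.Lib.helper8.ChevTwE6c
import Cfsg.Agent.Lib.helper8.ChevTwE6U
import Cfsg.Agent.Lib.helper8.ChevTwB7

/-!
# Project TWIE6 (S2182), piece FUSEB: the fusion of `x_66(1) x_68(1) x_71(1)` into the class of `x_68(1) x_66(1)` inside `²E₆(q)`

The conjugating element is `g = x_50(c) x_48(c^q)` with `c + c^q = 1`: `[x_50(c), x_66(1)] = x_71(c)`, `[x_48(c^q), x_68(1)] = x_71(c^q)`,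
all other pairs among the roots `48, 50, 66, 68, 71` commute (characteristic two), so `g` maps `x_66 x_68 x_71` to
`x_66 x_68 x_71(1 + c + c^q) = x_66 x_68`. `g = n (x_42(c) x_37(c^q)) n⁻¹` with `n = n_{p₂} n_{p₄}` lies in `²E₆(q)`.
-/

set_option autoImplicit false
set_option linter.unusedVariables false

namespace Cfsg.Agent.Lib.helper6.TWIE6

open Cfsg.Lie Cfsg.Lie.ChevalleyDatum Cfsg.Agent.Lib.helper8 Cfsg.Agent.Lib.helper14
  Cfsg.Agent.Lib.helper14.INV Cfsg.Agent.Lib.helper14.TWI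

universe u

section generic

variable {F : Type u} [Field F]

/-- conjugation of a root element by `n_i(1)` in characteristic two, any coefficient -/
theorem twie6fuseb_conj_x [CharP F 2] (D : ChevalleyDatum) (hB : H8Base.{u} D) (hA : H8ReflAll D)
    (i : ℕ) (hi : i < D.rank) (s : ℕ) (hs : s < D.nroots) (t : F) :
    h8nU D hB (D.simple i) (1 : F) * h8xU D hB s t * (h8nU D hB (D.simple i) (1 : F))⁻¹ =
      h8xU D hB (D.reflectRoot i s) t := by
  obtain ⟨η, hη, h1⟩ := h8n_simple_conj_all (F := F) D hA i s hi hs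
  rw [mul_inv_eq_iff_eq_mul]
  apply Units.ext
  rw [Units.val_mul, Units.val_mul, h8nU_val, h8xU_val, h8xU_val, h1 t]
  have e : ((η : F) * t) = t := by
    rcases hη with rfl | rfl
    · simp
    · have : (-1 : F) = 1 := CharTwo.neg_eq 1
      simp [this]
  rw [e]

/-- conjugation of a root element by `n_v` in characteristic two, any coefficient -/
theorem twie6fuseb_conj_w [CharP F 2] (D : ChevalleyDatum) (hB : H8Base.{u} D) (hA : H8ReflAll D)
    (v : List ℕ) (hv : ValidW D v) (s : ℕ) (hs : s < D.nroots) (t : F) :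
    (h8nWU D hB v : GL D.Idx F) * h8xU D hB s t * (h8nWU D hB v : GL D.Idx F)⁻¹ =
      h8xU D hB (h8sW D v s) t := by
  induction v with
  | nil =>
    have e : (h8nWU D hB [] : GL D.Idx F) = 1 := by
      unfold h8nWU
      simp
    rw [e, one_mul, inv_one, mul_one]
    rfl
  | cons i v ih =>
    have hv' : ValidW D v := fun j hj => hv j (List.mem_cons_of_mem _ hj)
    have hi : i < D.rank := hv i List.mem_cons_self
    have e2 : h8sW D (i :: v) s = D.reflectRoot i (h8sW D v s) := rfl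
    rw [h8nWU_cons, e2, ← twie6fuseb_conj_x D hB hA i hi _ (h8sW_lt D hA v hv' s hs) t, ← ih hv']
    group

/-- the commutator of two root elements whose roots add up to a root `m` with no further combinations, in characteristic two -/
theorem twie6fuseb_comm [CharP F 2] (D : ChevalleyDatum) (hB : H8Base.{u} D) (hC : H8CommAll.{u} D)
    (r s m : ℕ) (N : ℤ) (hr : r < D.nroots) (hs : s < D.nroots) (hm : m < D.nroots) (hsr : s ≠ r)
    (hsn : s ≠ D.negIdx.getD r 0) (hct : D.commTerms r s = [(m, N, 1, 1)]) (hN : N = 1 ∨ N = -1)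
    (hrm : ∀ a b : F, Commute (h8xU D hB r a) (h8xU D hB m b)) (t a : F) :
    h8xU D hB r t * h8xU D hB s a * (h8xU D hB r t)⁻¹ = h8xU D hB s a * h8xU D hB m (t * a) := by
  have h4 : h8xU D hB s a * h8xU D hB r t = h8xU D hB r t * h8xU D hB s a *
      h8wordU D hB (D.commWord F r s t a) := by
    apply Units.ext
    rw [Units.val_mul, Units.val_mul, Units.val_mul, h8xU_val, h8xU_val, h8wordU_val]
    exact hC.all r hr s hs hsr hsn F t a
  have hw : h8wordU D hB (D.commWord F r s t a) = h8xU D hB m (t * a) := by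
    unfold ChevalleyDatum.commWord
    rw [hct, List.map_cons, List.map_nil, h8wordU_cons]
    have e0 : h8wordU D hB ([] : List (ℕ × F)) = 1 := by
      unfold h8wordU
      simp
    rw [e0, mul_one]
    congr 1
    have hneg : (-t : F) = t := CharTwo.neg_eq t
    rcases hN with rfl | rfl
    · simp [hneg]
    · have : (-1 : F) = 1 := CharTwo.neg_eq 1
      simp [hneg, this]
  rw [hw] at h4
  have hZZ : h8xU D hB m (t * a) * h8xU D hB m (t * a) = 1 := by
    rw [h8xU_add D hB m hm, CharTwo.add_self_eq_zero, h8xU_zero]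
  have hc := (hrm t (t * a)).eq
  have h5 : h8xU D hB r t * h8xU D hB s a = h8xU D hB s a * h8xU D hB r t * h8xU D hB m (t * a) := by
    rw [h4, mul_assoc (h8xU D hB r t * h8xU D hB s a), hZZ, mul_one]
  calc h8xU D hB r t * h8xU D hB s a * (h8xU D hB r t)⁻¹
      = h8xU D hB s a * h8xU D hB r t * h8xU D hB m (t * a) * (h8xU D hB r t)⁻¹ := by rw [h5]
    _ = h8xU D hB s a * (h8xU D hB r t * h8xU D hB m (t * a) * (h8xU D hB r t)⁻¹) := by group
    _ = h8xU D hB s a * h8xU D hB m (t * a) := by rw [hc, mul_inv_cancel_right]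

end generic

variable {K : Type u} [Field K]

theorem twie6fuseb_data :
    chevE6.commTerms 50 66 = [(71, 1, 1, 1)] ∧ chevE6.commTerms 48 68 = [(71, 1, 1, 1)] ∧
    invstdnChk1 chevE6 50 48 = true ∧ invstdnChk1 chevE6 50 68 = true ∧
    invstdnChk1 chevE6 50 71 = true ∧ invstdnChk1 chevE6 48 66 = true ∧
    invstdnChk1 chevE6 48 71 = true ∧ invstdnChk1 chevE6 66 68 = true ∧
    invstdnChk1 chevE6 66 71 = true ∧ invstdnChk1 chevE6 68 71 = true ∧
    invstdnChk1 chevE6 42 37 = true ∧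
    h8sW chevE6 [1, 3] 42 = 50 ∧ h8sW chevE6 [1, 3] 37 = 48 ∧
    (66 : ℕ) ≠ chevE6.negIdx.getD 50 0 ∧ (68 : ℕ) ≠ chevE6.negIdx.getD 48 0 := by
  decide +kernel

/-- an element of trace one -/
theorem twie6fuseb_trace [Fintype K] [CharP K 2] (q : ℕ) (hq : IsPrimePow q)
    (hK : Fintype.card K = q ^ 2) : ∃ c : K, c + c ^ q = 1 := by
  obtain ⟨f, hf, hff2, hneg⟩ := h8frob_exists hq 2 (by norm_num) hK
  have hff : ∀ t, f (f t) = t := fun t => hff2 t
  have hfc : Nat.card {c : K // f c = c} = q :=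
    h8frob_fix_card hq.one_lt (by norm_num) hK f hf hff2
  have hex : ∃ a : K, f a ≠ a := by
    by_contra hcon
    push_neg at hcon
    have h1 : Nat.card {c : K // f c = c} = Nat.card K :=
      Nat.card_congr (Equiv.subtypeUnivEquiv hcon)
    rw [hfc, Nat.card_eq_fintype_card, hK] at h1
    have h2 := hq.one_lt
    nlinarith
  obtain ⟨a, ha⟩ := hex
  have hne : a + f a ≠ 0 := by
    intro h
    apply ha
    have : f a = -a := by
      rw [eq_neg_iff_add_eq_zero, add_comm]
      exact h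
    rw [this, CharTwo.neg_eq]
  refine ⟨a / (a + f a), ?_⟩
  rw [← hf, map_div₀, map_add, hff, add_comm (f a) a, ← add_div, div_self hne]

/-- FUSEB : the fusion of `x_66(1) x_68(1) x_71(1)` into the class of `x_68(1) x_66(1)` by `x_50(c) x_48(c^q)`, `c + c^q = 1` -/
theorem te6_fuse_trace [Fintype K] [CharP K 2] (q : ℕ) (hq : IsPrimePow q)
    (hK : Fintype.card K = q ^ 2) (hB : H8Base.{u} chevE6) :
    CjS chevE6 (twistedE6 K q) (w1 chevE6 hB [66, 68, 71] : GL chevE6.Idx K)
      (w1 chevE6 hB [68, 66]) := by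
  have hD : chevE6 ∈ [chevG2, chevB2, chevD4, chevF4, chevE6, chevE7, chevE8] := by simp
  have hA := h8reflAll chevE6 hD
  have hC := h8commAll.{u} chevE6 hD
  obtain ⟨c, hc⟩ := twie6fuseb_trace (K := K) q hq hK
  obtain ⟨ct1, ct2, k1, k2, k3, k4, k5, k6, k7, k8, k9, e1, e2, n1', n2'⟩ := twie6fuseb_data
  set a := h8xU chevE6 hB 50 c with ha
  set b := h8xU chevE6 hB 48 (c ^ q) with hb
  set x := h8xU chevE6 hB 66 (1 : K) with hx
  set y := h8xU chevE6 hB 68 (1 : K) with hy
  set z := h8xU chevE6 hB 71 (1 : K) with hz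
  set zc := h8xU chevE6 hB 71 (c * 1) with hzc
  set zd := h8xU chevE6 hB 71 (c ^ q * 1) with hzd
  have cm := fun r s (h : invstdnChk1 chevE6 r s = true) (t v : K) =>
    invstdn_comm1 (F := K) chevE6 hB hC r s h t v
  -- membership
  have hneg : (-1 : K) ^ q = -1 := by
    rw [CharTwo.neg_eq, one_pow]
  have hn1 : (h8nWU chevE6 hB [1] : GL chevE6.Idx K) ∈ twistedE6 K q :=
    h8twE6_nJ hB hC q hneg [⟨1, by decide⟩] (by decide)
  have hn3 : (h8nWU chevE6 hB [3] : GL chevE6.Idx K) ∈ twistedE6 K q :=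
    h8twE6_nJ hB hC q hneg [⟨3, by decide⟩] (by decide)
  have hn : (h8nWU chevE6 hB [1, 3] : GL chevE6.Idx K) ∈ twistedE6 K q := by
    have : ([1, 3] : List ℕ) = [1] ++ [3] := rfl
    rw [this, h8nWU_append]
    exact Subgroup.mul_mem _ hn1 hn3
  have hv : ValidW chevE6 [1, 3] := by
    intro j hj
    simp only [List.mem_cons, List.not_mem_nil, or_false] at hj
    rcases hj with rfl | rfl <;> decide
  have hgen : h8xU chevE6 hB 42 c * h8xU chevE6 hB 37 (c ^ q) ∈ twistedE6 K q :=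
    h8twE6_x2 hB q 42 37 (by simp) c
  have hg : a * b ∈ twistedE6 K q := by
    have e : a * b = h8nWU chevE6 hB [1, 3] * (h8xU chevE6 hB 42 c * h8xU chevE6 hB 37 (c ^ q)) *
        (h8nWU chevE6 hB [1, 3] : GL chevE6.Idx K)⁻¹ := by
      rw [ha, hb, ← e1, ← e2, ← twie6fuseb_conj_w chevE6 hB hA [1, 3] hv 42 (by decide) c,
        ← twie6fuseb_conj_w chevE6 hB hA [1, 3] hv 37 (by decide) (c ^ q)]
      group
    rw [e]
    exact Subgroup.mul_mem _ (Subgroup.mul_mem _ hn hgen) (Subgroup.inv_mem _ hn)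
  -- the computation
  have hax : a * x * a⁻¹ = x * zc :=
    twie6fuseb_comm chevE6 hB hC 50 66 71 1 (by decide) (by decide) (by decide) (by decide) n1' ct1
      (Or.inl rfl) (fun s t => cm 50 71 k3 s t) c 1
  have hby : b * y * b⁻¹ = y * zd :=
    twie6fuseb_comm chevE6 hB hC 48 68 71 1 (by decide) (by decide) (by decide) (by decide) n2' ct2
      (Or.inl rfl) (fun s t => cm 48 71 k5 s t) (c ^ q) 1
  have hbx : b * x * b⁻¹ = x := by
    rw [(cm 48 66 k4 (c ^ q) 1).eq, mul_inv_cancel_right]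
  have hay : a * y * a⁻¹ = y := by
    rw [(cm 50 68 k2 c 1).eq, mul_inv_cancel_right]
  have hazd : a * zd * a⁻¹ = zd := by
    rw [(cm 50 71 k3 c (c ^ q * 1)).eq, mul_inv_cancel_right]
  have haz : a * z * a⁻¹ = z := by
    rw [(cm 50 71 k3 c 1).eq, mul_inv_cancel_right]
  have hbz : b * z * b⁻¹ = z := by
    rw [(cm 48 71 k5 (c ^ q) 1).eq, mul_inv_cancel_right]
  have hgx : (a * b) * x * (a * b)⁻¹ = x * zc := by
    calc (a * b) * x * (a * b)⁻¹ = a * (b * x * b⁻¹) * a⁻¹ := by group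
      _ = x * zc := by rw [hbx, hax]
  have hgy : (a * b) * y * (a * b)⁻¹ = y * zd := by
    calc (a * b) * y * (a * b)⁻¹ = a * (b * y * b⁻¹) * a⁻¹ := by group
      _ = (a * y * a⁻¹) * (a * zd * a⁻¹) := by rw [hby]; group
      _ = y * zd := by rw [hay, hazd]
  have hgz : (a * b) * z * (a * b)⁻¹ = z := by
    calc (a * b) * z * (a * b)⁻¹ = a * (b * z * b⁻¹) * a⁻¹ := by group
      _ = z := by rw [hbz, haz]
  have hzzz : zc * zd * z = 1 := by
    rw [hzc, hzd, hz, h8xU_add chevE6 hB 71 (by decide), h8xU_add chevE6 hB 71 (by decide), mul_one,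
      mul_one, hc, CharTwo.add_self_eq_zero, h8xU_zero]
  have hzcy : zc * y = y * zc := ((cm 68 71 k8 1 (c * 1)).eq).symm
  have hxy : x * y = y * x := (cm 66 68 k6 1 1).eq
  refine ⟨a * b, hg, ?_⟩
  rw [w1_cons, w1_cons, w1_cons, w1_nil, w1_cons, w1_cons, w1_nil, mul_one, mul_one]
  calc (a * b) * (x * (y * z)) * (a * b)⁻¹
      = ((a * b) * x * (a * b)⁻¹) * ((a * b) * y * (a * b)⁻¹) * ((a * b) * z * (a * b)⁻¹) := by group
    _ = x * zc * (y * zd) * z := by rw [hgx, hgy, hgz]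
    _ = x * (zc * y) * zd * z := by group
    _ = x * y * (zc * zd * z) := by rw [hzcy]; group
    _ = y * x := by rw [hzzz, mul_one, hxy]

end Cfsg.Agent.Lib.helper6.TWIE6
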