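import Mathlib
import Cfsg.Prelude.Def_ChevStructure
import Cfsg.Agent.Lib.helper14.TWI.Defs
import Cfsg.Agent.Lib.helper14.INVGT
import Cfsg.Agent.Lib.helper14.INVLSb
import Cfsg.Agent.Lib.helper14.INVLENb
import Cfsg.Agent.Lib.helper8.ChevInvE8n
import Cfsg.Agent.Lib.Helper1.TWIORB3
import Cfsg.Agent.Lib.Helper16.TWIORB1
import Cfsg.Agent.Lib.Helper24.INVMAX

/-!
# Project TWI: the twisted form of the lemma LS, for any datum and any family of orthogonal orbits

`ls_twisted` : `JPropT D orbs w → LSProp D orbs w`, under checkable hypotheses on `D` (`gtChk`, `lsChk`), on the orbits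
and on a "graph automorphism" `ρ` of the root indices commuting with the orbit reflections and transitive on the
fundamental roots of every orbit.

Proof. (1) `twils_struct`: a positive root which `w` maps to a positive root lies in the subsystem `Φ_J` of the
fundamental roots `J` of the orbits permuted by `w` (as `gt_struct`). (2) Among the products `v` of permuted orbits
keeping `S` positive take one of maximal length; if no root of `v S` is a fundamental root of `J` then every permuted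
orbit keeps `v S` positive, and one of them makes `v` longer: otherwise `v⁻¹` makes all fundamental roots of `J`
negative, hence all positive roots of `Φ_J`, hence the roots of `S`.
-/

set_option autoImplicit false

namespace Cfsg.Agent.Lib.helper14.TWI

open Cfsg.Lie Cfsg.Lie.ChevalleyDatum Cfsg.Agent.Lib.helper8 Cfsg.Agent.Lib.helper14
  Cfsg.Agent.Lib.helper14.INV

/-- the fundamental roots of the orbits permuted by `w` -/
def PermJ (D : ChevalleyDatum) (orbs : List (List ℕ)) (w : List ℕ) : Set ℕ :=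
  {k | ∃ O ∈ orbs, PermO D w O ∧ k ∈ O}

/-- the coordinates outside `J` of `w p_m`, `m ∈ J`, vanish -/
theorem twils_perm_cf (D : ChevalleyDatum) (h : gtChk D = true) (orbs : List (List ℕ))
    (hlt : ∀ O ∈ orbs, ∀ j ∈ O, j < D.rank) (w : List ℕ) (m : ℕ)
    (hm : m ∈ PermJ D orbs w) (k : ℕ) (hk : k < D.rank) (hkJ : k ∉ PermJ D orbs w) :
    cf D (h8sW D w (D.simple m)) k = 0 := by
  obtain ⟨O, hO, hP, hmO⟩ := hm
  obtain ⟨m', hm'O, e⟩ := hP m hmO
  rw [e, gtChk_simple D h m' k (hlt O hO m' hm'O) hk, if_neg]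
  rintro rfl
  exact hkJ ⟨O, hO, hP, hm'O⟩

/-- `w` maps `Φ_J` into itself -/
theorem twils_stable (D : ChevalleyDatum) (hA : H8ReflAll D) (h : gtChk D = true)
    (orbs : List (List ℕ)) (hlt : ∀ O ∈ orbs, ∀ j ∈ O, j < D.rank) (w : List ℕ) (hw : ValidW D w)
    (s : ℕ) (hs : D.InRootSub (PermJ D orbs w) s) : D.InRootSub (PermJ D orbs w) (h8sW D w s) := by
  refine ⟨h8sW_lt D hA w hw s hs.1, fun k hk hkJ => ?_⟩
  show cf D (h8sW D w s) k = 0
  rw [gt_lin D hA h w hw s hs.1 k hk]
  apply Finset.sum_eq_zero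
  intro m hm
  by_cases hmJ : m ∈ PermJ D orbs w
  · rw [twils_perm_cf D h orbs hlt w m hmJ k hk hkJ, mul_zero]
  · have : cf D s m = 0 := hs.2 m (Finset.mem_range.mp hm) hmJ
    rw [this, zero_mul]

/-- a positive root mapped to a positive root by `w` lies in the subsystem of the fundamental roots of the orbits
permuted by `w` -/
theorem twils_struct (D : ChevalleyDatum) (hB : H8Base.{0} D) (hA : H8ReflAll D)
    (h : gtChk D = true) (orbs : List (List ℕ)) (hlt : ∀ O ∈ orbs, ∀ j ∈ O, j < D.rank)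
    (hcov : ∀ k < D.rank, ∃ O ∈ orbs, k ∈ O)
    (w : List ℕ) (hw : ValidW D w) (hJ : JPropT D orbs w) (r : ℕ) (hp : D.IsPosRoot r)
    (hp' : D.IsPosRoot (h8sW D w r)) : D.InRootSub (PermJ D orbs w) r := by
  classical
  refine ⟨hp.1, ?_⟩
  by_contra hcon
  push_neg at hcon
  obtain ⟨k₀, hk₀, hk₀J, hk₀c⟩ := hcon
  set J := PermJ D orbs w with hJdef
  set K := (Finset.range D.rank).filter (fun k => k ∉ J) with hK
  have hrc : ∀ m, 0 ≤ cf D r m := gt_pos_cf D r hp
  have hk₀1 : 1 ≤ cf D r k₀ := by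
    have := hrc k₀
    have hne : cf D r k₀ ≠ 0 := hk₀c
    omega
  have hT : ∑ k ∈ K, cf D (h8sW D w r) k =
      ∑ m ∈ Finset.range D.rank, cf D r m * ∑ k ∈ K, cf D (h8sW D w (D.simple m)) k := by
    have e1 : ∀ k ∈ K, cf D (h8sW D w r) k =
        ∑ m ∈ Finset.range D.rank, cf D r m * cf D (h8sW D w (D.simple m)) k := by
      intro k hk
      rw [hK, Finset.mem_filter, Finset.mem_range] at hk
      exact gt_lin D hA h w hw r hp.1 k hk.1
    rw [Finset.sum_congr rfl e1, Finset.sum_comm]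
    apply Finset.sum_congr rfl
    intro m _
    rw [Finset.mul_sum]
  have hT0 : 0 ≤ ∑ k ∈ K, cf D (h8sW D w r) k :=
    Finset.sum_nonneg (fun k _ => gt_pos_cf D _ hp' k)
  have hS : ∀ m ∈ Finset.range D.rank,
      cf D r m * ∑ k ∈ K, cf D (h8sW D w (D.simple m)) k ≤ if m ∈ J then 0 else - cf D r m := by
    intro m hm
    have hm' := Finset.mem_range.mp hm
    by_cases hmJ : m ∈ J
    · rw [if_pos hmJ]
      have : ∑ k ∈ K, cf D (h8sW D w (D.simple m)) k = 0 := by
        apply Finset.sum_eq_zero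
        intro k hk
        rw [hK, Finset.mem_filter, Finset.mem_range] at hk
        exact twils_perm_cf D h orbs hlt w m hmJ k hk.1 hk.2
      rw [this, mul_zero]
    · rw [if_neg hmJ]
      have hmlt := gtChk_simple_lt D h m hm'
      have himlt := h8sW_lt D hA w hw _ hmlt
      have hnp : ¬ D.IsPosRoot (h8sW D w (D.simple m)) := by
        obtain ⟨O, hO, hmO⟩ := hcov m hm'
        rcases hJ.2 O hO with h1 | h1
        · exact absurd ⟨O, hO, h1, hmO⟩ hmJ
        · exact h1 m hmO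
      have hneg : D.IsNegRoot (h8sW D w (D.simple m)) := by
        rcases hB.posneg _ himlt with h1 | h1
        · exact absurd h1 hnp
        · exact h1
      have hle : ∀ k, cf D (h8sW D w (D.simple m)) k ≤ 0 := gt_neg_cf D _ hneg
      have hS1 : ∑ k ∈ K, cf D (h8sW D w (D.simple m)) k ≤ -1 := by
        by_contra hcon
        push_neg at hcon
        have hsum0 : ∑ k ∈ K, cf D (h8sW D w (D.simple m)) k = 0 := by
          have : ∑ k ∈ K, cf D (h8sW D w (D.simple m)) k ≤ 0 :=
            Finset.sum_nonpos (fun k _ => hle k)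
          omega
        have hall : ∀ k ∈ K, cf D (h8sW D w (D.simple m)) k = 0 := by
          intro k hk
          by_contra hne
          have hlt' : cf D (h8sW D w (D.simple m)) k < 0 := lt_of_le_of_ne (hle k) hne
          have : ∑ k ∈ K, cf D (h8sW D w (D.simple m)) k < 0 :=
            Finset.sum_neg' (fun k _ => hle k) ⟨k, hk, hlt'⟩
          omega
        have hin : D.InRootSub J (h8sW D w (D.simple m)) := by
          refine ⟨himlt, fun i hi hiJ => hall i ?_⟩
          rw [hK, Finset.mem_filter, Finset.mem_range]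
          exact ⟨hi, hiJ⟩
        have hst := twils_stable D hA h orbs hlt w hw _ hin
        rw [hJ.1 _ hmlt] at hst
        have h1 := hst.2 m hm' hmJ
        have h2 := gtChk_simple D h m m hm' hm'
        rw [if_pos rfl] at h2
        have h3 : cf D (D.simple m) m = 0 := h1
        omega
      have := hrc m
      nlinarith
  have hfin : ∑ m ∈ Finset.range D.rank, (if m ∈ J then (0 : ℤ) else - cf D r m) ≤ -1 := by
    have hterm : ∀ m ∈ Finset.range D.rank, (if m ∈ J then (0 : ℤ) else - cf D r m) ≤ 0 := by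
      intro m _
      split_ifs
      · exact le_refl _
      · have := hrc m; omega
    have h1 : ∑ m ∈ Finset.range D.rank, (if m ∈ J then (0 : ℤ) else - cf D r m) ≤
        (if k₀ ∈ J then (0 : ℤ) else - cf D r k₀) := by
      have := Finset.sum_le_sum_of_subset_of_nonneg (s := {k₀}) (t := Finset.range D.rank)
        (f := fun m => - (if m ∈ J then (0 : ℤ) else - cf D r m))
        (by intro x hx; rw [Finset.mem_singleton] at hx; rw [hx]; exact Finset.mem_range.mpr hk₀)
        (by intro m hm _; have := hterm m hm; omega)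
      rw [Finset.sum_singleton, Finset.sum_neg_distrib] at this
      omega
    rw [if_neg hk₀J] at h1
    omega
  have := Finset.sum_le_sum hS
  rw [← hT] at this
  omega

/-- the length of the inverse -/
theorem twils_len_reverse (D : ChevalleyDatum) (hB : H8Base.{0} D) (hA : H8ReflAll D)
    (hBN : H8BN D) (hW : H8BN2 D) (hO2 : H8Ord2 D) (w : List ℕ) (hw : ValidW D w) :
    len D hA w.reverse = len D hA w := by
  unfold len
  rw [← h8wPerm_inv]
  exact h8Ninv_inv D hB hA hBN hW hO2 _ (lenb_wPerm_mem D hA w hw)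

theorem twils_isOrb_reverse (D : ChevalleyDatum) (O : List ℕ) (hO : IsOrb D O) :
    IsOrb D O.reverse :=
  ⟨List.nodup_reverse.mpr hO.1, fun j hj => hO.2.1 j (List.mem_reverse.mp hj),
    fun j hj k hk hjk => hO.2.2 j (List.mem_reverse.mp hj) k (List.mem_reverse.mp hk) hjk⟩

/-- left multiplication by an orbit whose fundamental roots are mapped to positive roots by `v⁻¹` -/
theorem twils_len_left (D : ChevalleyDatum) (hB : H8Base.{0} D) (hA : H8ReflAll D)
    (hBN : H8BN D) (hW : H8BN2 D) (hO2 : H8Ord2 D) (O : List ℕ) (hO : IsOrb D O) (v : List ℕ)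
    (hv : ValidW D v) (hpos : ∀ j ∈ O, D.IsPosRoot (h8sW D v.reverse (D.simple j))) :
    len D hA (O ++ v) = len D hA v + O.length := by
  have hOv : ValidW D (O ++ v) := by
    intro k hk
    rcases List.mem_append.mp hk with hk | hk
    · exact hO.2.1 k hk
    · exact hv k hk
  have hvr : ValidW D v.reverse := fun k hk => hv k (List.mem_reverse.mp hk)
  rw [← twils_len_reverse D hB hA hBN hW hO2 (O ++ v) hOv, List.reverse_append,
    len_append_orb D hB hA hBN hW hO2 O.reverse (twils_isOrb_reverse D O hO) v.reverse hvr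
      (fun j hj => hpos j (List.mem_reverse.mp hj)),
    twils_len_reverse D hB hA hBN hW hO2 v hv, List.length_reverse]

/-- an orbit inside `J` maps `Φ_J` into itself -/
theorem twils_orb_stable (D : ChevalleyDatum) (hA : H8ReflAll D) (hls : lsChk D = true)
    (J : Set ℕ) (x : List ℕ) (hx : ∀ j ∈ x, j < D.rank ∧ j ∈ J) (s : ℕ) (hs : D.InRootSub J s) :
    D.InRootSub J (h8sW D x s) := by
  induction x with
  | nil => exact hs
  | cons i x ih =>
    have hx' : ∀ j ∈ x, j < D.rank ∧ j ∈ J := fun j hj => hx j (List.mem_cons_of_mem _ hj)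
    have hi := hx i List.mem_cons_self
    have h1 := ih hx'
    have hxv : ValidW D x := fun j hj => (hx' j hj).1
    have hiv : ValidW D (i :: x) := fun j hj => (hx j hj).1
    refine ⟨h8sW_lt D hA _ hiv s hs.1, fun k hk hkJ => ?_⟩
    have hki : k ≠ i := by
      rintro rfl
      exact hkJ hi.2
    show (D.coroot.getD (D.reflectRoot i (h8sW D x s)) #[]).getD k 0 = 0
    rw [lsChk_coord D hls _ i k h1.1 hi.1 hk hki]
    exact h1.2 k hk hkJ

/-- a positive root has a positive coordinate -/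
theorem twils_pos_coord (D : ChevalleyDatum) (hls : lsChk D = true) (r : ℕ) (hr : D.IsPosRoot r) :
    ∃ i < D.rank, 0 < cf D r i := by
  by_cases hs : ∃ i < D.rank, D.simple i = r
  · obtain ⟨i, hi, rfl⟩ := hs
    exact ⟨i, hi, lsChk_simple D hls i hi⟩
  · push_neg at hs
    obtain ⟨i, hi, h1, _⟩ := lsChk_step D hls r hr hs
    exact ⟨i, hi, h1⟩

/-- the inverse of a product of orbits commutes with `ρ` -/
theorem twils_rev_comm (D : ChevalleyDatum) (hB : H8Base.{0} D) (hA : H8ReflAll D) (hBN : H8BN D)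
    (hW : H8BN2 D) (hO2 : H8Ord2 D) (orbs : List (List ℕ)) (horb : ∀ O ∈ orbs, IsOrb D O)
    (ρ : ℕ → ℕ) (hρlt : ∀ r < D.nroots, ρ r < D.nroots)
    (hρcomm : ∀ O ∈ orbs, ∀ r < D.nroots, h8sW D O (ρ r) = ρ (h8sW D O r))
    (vs : List (List ℕ)) (hvs : ∀ O ∈ vs, O ∈ orbs) :
    ∀ r < D.nroots, h8sW D vs.flatten.reverse (ρ r) = ρ (h8sW D vs.flatten.reverse r) := by
  induction vs with
  | nil => intro r _; rfl
  | cons O vs ih =>
    intro r hr
    have hO := hvs O List.mem_cons_self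
    have hOrb := horb O hO
    have h4 := (orb_sW D hB hA hBN hW hO2 O hOrb).2.2.2
    have hOv : ValidW D O := hOrb.2.1
    rw [List.flatten_cons, List.reverse_append, h8sW_append, h8sW_append,
      h4 (ρ r) (hρlt r hr), hρcomm O hO r hr, h4 r hr]
    exact ih (fun O' hO' => hvs O' (List.mem_cons_of_mem _ hO')) _ (h8sW_lt D hA O hOv r hr)

theorem twils_iter_comm (D : ChevalleyDatum) (ρ : ℕ → ℕ) (hρlt : ∀ r < D.nroots, ρ r < D.nroots)
    (f : ℕ → ℕ) (hf : ∀ r < D.nroots, f (ρ r) = ρ (f r)) (a : ℕ) :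
    ∀ r < D.nroots, f (ρ^[a] r) = ρ^[a] (f r) ∧ ρ^[a] r < D.nroots := by
  induction a with
  | zero => intro r hr; exact ⟨rfl, hr⟩
  | succ a ih =>
    intro r hr
    obtain ⟨h1, h2⟩ := ih r hr
    rw [Function.iterate_succ_apply', Function.iterate_succ_apply', hf _ h2, h1]
    exact ⟨rfl, hρlt _ h2⟩

theorem twils_iter_pos (D : ChevalleyDatum) (ρ : ℕ → ℕ) (hρlt : ∀ r < D.nroots, ρ r < D.nroots)
    (hρpos : ∀ r < D.nroots, D.IsPosRoot (ρ r) → D.IsPosRoot r) (a : ℕ) :
    ∀ r < D.nroots, D.IsPosRoot (ρ^[a] r) → D.IsPosRoot r := by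
  induction a with
  | zero => intro r _ h; exact h
  | succ a ih =>
    intro r hr h
    rw [Function.iterate_succ_apply] at h
    exact hρpos r hr (ih (ρ r) (hρlt r hr) h)

/-- some permuted orbit makes the product longer -/
theorem twils_longer (D : ChevalleyDatum) (hB : H8Base.{0} D) (hA : H8ReflAll D) (hBN : H8BN D)
    (hW : H8BN2 D) (hO2 : H8Ord2 D) (hgt : gtChk D = true) (hls : lsChk D = true)
    (orbs : List (List ℕ)) (horb : ∀ O ∈ orbs, IsOrb D O)
    (ρ : ℕ → ℕ) (hρlt : ∀ r < D.nroots, ρ r < D.nroots)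
    (hρpos : ∀ r < D.nroots, D.IsPosRoot (ρ r) → D.IsPosRoot r)
    (hρcomm : ∀ O ∈ orbs, ∀ r < D.nroots, h8sW D O (ρ r) = ρ (h8sW D O r))
    (hρtrans : ∀ O ∈ orbs, ∀ j ∈ O, ∀ k ∈ O, ∃ a : ℕ, ρ^[a] (D.simple j) = D.simple k)
    (w : List ℕ) (vs : List (List ℕ)) (hvs : ∀ O ∈ vs, O ∈ orbs ∧ PermO D w O)
    (r₁ : ℕ) (hr₁ : D.IsPosRoot r₁)
    (hr' : D.IsPosRoot (h8sW D vs.flatten r₁))
    (hin : D.InRootSub (PermJ D orbs w) (h8sW D vs.flatten r₁)) :
    ∃ O ∈ orbs, PermO D w O ∧ ∀ j ∈ O, D.IsPosRoot (h8sW D vs.flatten.reverse (D.simple j)) := by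
  by_contra hcon
  push_neg at hcon
  set v := vs.flatten with hv
  have hvV : ValidW D v := by
    intro i hi
    rw [hv, List.mem_flatten] at hi
    obtain ⟨O, hO, hiO⟩ := hi
    exact (horb O (hvs O hO).1).2.1 i hiO
  have hvrV : ValidW D v.reverse := fun i hi => hvV i (List.mem_reverse.mp hi)
  have hcomm := twils_rev_comm D hB hA hBN hW hO2 orbs horb ρ hρlt hρcomm vs
    (fun O hO => (hvs O hO).1)
  -- `v⁻¹` makes every fundamental root of `J` negative
  have hneg : ∀ k ∈ PermJ D orbs w, ∀ n, cf D (h8sW D v.reverse (D.simple k)) n ≤ 0 := by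
    intro k ⟨O, hO, hP, hkO⟩ n
    obtain ⟨j, hjO, hjn⟩ := hcon O hO hP
    have hjr : j < D.rank := (horb O hO).2.1 j hjO
    have hkr : k < D.rank := (horb O hO).2.1 k hkO
    have hjlt := gtChk_simple_lt D hgt j hjr
    have hklt := gtChk_simple_lt D hgt k hkr
    obtain ⟨a, ha⟩ := hρtrans O hO j hjO k hkO
    -- `ρ^a p_j = p_k`, so `v⁻¹ p_k = ρ^a (v⁻¹ p_j)`
    have h1 := (twils_iter_comm D ρ hρlt (h8sW D v.reverse) hcomm a (D.simple j) hjlt).1
    rw [ha] at h1
    have hnp : ¬ D.IsPosRoot (h8sW D v.reverse (D.simple k)) := by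
      intro hp
      rw [h1] at hp
      exact hjn (twils_iter_pos D ρ hρlt hρpos a _ (h8sW_lt D hA v.reverse hvrV _ hjlt) hp)
    rcases hB.posneg _ (h8sW_lt D hA v.reverse hvrV _ hklt) with h2 | h2
    · exact absurd h2 hnp
    · exact gt_neg_cf D _ h2 n
  -- `r₁ = v⁻¹ (v r₁)` has nonpositive coordinates
  have hback : h8sW D v.reverse (h8sW D v r₁) = r₁ := by
    have := h8sW_reverse D hA v.reverse hvrV r₁ hr₁.1
    rwa [List.reverse_reverse] at this
  obtain ⟨i, hi, hci⟩ := twils_pos_coord D hls r₁ hr₁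
  have hle : cf D r₁ i ≤ 0 := by
    rw [← hback, gt_lin D hA hgt v.reverse hvrV _ hr'.1 i hi]
    apply Finset.sum_nonpos
    intro m hm
    by_cases hmJ : m ∈ PermJ D orbs w
    · exact mul_nonpos_of_nonneg_of_nonpos (gt_pos_cf D _ hr' m) (hneg m hmJ i)
    · have : cf D (h8sW D v r₁) m = 0 := hin.2 m (Finset.mem_range.mp hm) hmJ
      rw [this, zero_mul]
  omega

/-- LS, twisted form -/
theorem ls_twisted (D : ChevalleyDatum) (hB : H8Base.{0} D) (hA : H8ReflAll D) (hBN : H8BN D)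
    (hW : H8BN2 D) (hO2 : H8Ord2 D) (hgt : gtChk D = true) (hls : lsChk D = true)
    (orbs : List (List ℕ)) (horb : ∀ O ∈ orbs, IsOrb D O ∧ O ≠ [])
    (hcov : ∀ k < D.rank, ∃ O ∈ orbs, k ∈ O)
    (ρ : ℕ → ℕ) (hρlt : ∀ r < D.nroots, ρ r < D.nroots)
    (hρpos : ∀ r < D.nroots, D.IsPosRoot (ρ r) → D.IsPosRoot r)
    (hρcomm : ∀ O ∈ orbs, ∀ r < D.nroots, h8sW D O (ρ r) = ρ (h8sW D O r))
    (hρtrans : ∀ O ∈ orbs, ∀ j ∈ O, ∀ k ∈ O, ∃ a : ℕ, ρ^[a] (D.simple j) = D.simple k)
    (w : List ℕ) (hw : ValidW D w) (hJ : JPropT D orbs w) : LSProp D orbs w := by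
  classical
  intro S hS hSJ
  have horb' : ∀ O ∈ orbs, IsOrb D O := fun O hO => (horb O hO).1
  have hlt : ∀ O ∈ orbs, ∀ j ∈ O, j < D.rank := fun O hO => (horb' O hO).2.1
  have hSin : ∀ r ∈ S, D.InRootSub (PermJ D orbs w) r := fun r hr =>
    twils_struct D hB hA hgt orbs hlt hcov w hw hJ r (hSJ r hr).1 (hSJ r hr).2
  -- one step
  have step : ∀ vs : List (List ℕ), (∀ O ∈ vs, O ∈ orbs ∧ PermO D w O) →
      (∀ r ∈ S, D.IsPosRoot (h8sW D vs.flatten r)) →
      (∃ r₀ ∈ S, ∃ O ∈ orbs, PermO D w O ∧ ∃ j ∈ O, h8sW D vs.flatten r₀ = D.simple j) ∨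
      ∃ vs' : List (List ℕ), (∀ O ∈ vs', O ∈ orbs ∧ PermO D w O) ∧
        (∀ r ∈ S, D.IsPosRoot (h8sW D vs'.flatten r)) ∧
        len D hA vs.flatten < len D hA vs'.flatten := by
    intro vs hvs hpos
    by_cases hsim : ∃ r₀ ∈ S, ∃ O ∈ orbs, PermO D w O ∧ ∃ j ∈ O,
        h8sW D vs.flatten r₀ = D.simple j
    · exact Or.inl hsim
    · right
      push_neg at hsim
      obtain ⟨r₁, hr₁⟩ := hS
      have hvJ : ∀ i ∈ vs.flatten, i < D.rank ∧ i ∈ PermJ D orbs w := by
        intro i hi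
        rw [List.mem_flatten] at hi
        obtain ⟨O, hO, hiO⟩ := hi
        exact ⟨hlt O (hvs O hO).1 i hiO, O, (hvs O hO).1, (hvs O hO).2, hiO⟩
      have hvV : ValidW D vs.flatten := fun i hi => (hvJ i hi).1
      have hin := twils_orb_stable D hA hls _ vs.flatten hvJ r₁ (hSin r₁ hr₁)
      obtain ⟨O, hO, hP, hOpos⟩ := twils_longer D hB hA hBN hW hO2 hgt hls orbs horb' ρ hρlt hρpos
        hρcomm hρtrans w vs hvs r₁ (hSJ r₁ hr₁).1 (hpos r₁ hr₁) hin
      refine ⟨O :: vs, ?_, ?_, ?_⟩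
      · intro O' hO'
        rcases List.mem_cons.mp hO' with rfl | hO'
        · exact ⟨hO, hP⟩
        · exact hvs O' hO'
      · intro r hr
        rw [List.flatten_cons, h8sW_append]
        exact ((orb_sW D hB hA hBN hW hO2 O (horb' O hO)).2.1 _ (hpos r hr)
          (fun j hj => hsim r hr O hO hP j hj)).1
      · rw [List.flatten_cons, twils_len_left D hB hA hBN hW hO2 O (horb' O hO) vs.flatten hvV hOpos]
        have := List.length_pos_of_ne_nil (horb O hO).2
        omega
  have key : ∀ n : ℕ, ∀ vs : List (List ℕ), (∀ O ∈ vs, O ∈ orbs ∧ PermO D w O) →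
      (∀ r ∈ S, D.IsPosRoot (h8sW D vs.flatten r)) → D.nroots - len D hA vs.flatten ≤ n →
      ∃ vs : List (List ℕ), (∀ O ∈ vs, O ∈ orbs ∧ PermO D w O) ∧
        (∀ r ∈ S, D.IsPosRoot (h8sW D vs.flatten r)) ∧
        ∃ r₀ ∈ S, ∃ O ∈ orbs, PermO D w O ∧ ∃ j ∈ O, h8sW D vs.flatten r₀ = D.simple j := by
    intro n
    induction n with
    | zero =>
      intro vs hvs hpos hn
      rcases step vs hvs hpos with h1 | ⟨vs', _, _, hl⟩
      · exact ⟨vs, hvs, hpos, h1⟩
      · have := invmax_len_le D hA vs'.flatten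
        omega
    | succ n ih =>
      intro vs hvs hpos hn
      rcases step vs hvs hpos with h1 | ⟨vs', hvs', hpos', hl⟩
      · exact ⟨vs, hvs, hpos, h1⟩
      · have := invmax_len_le D hA vs'.flatten
        exact ih vs' hvs' hpos' (by omega)
  exact key D.nroots [] (fun O hO => absurd hO List.not_mem_nil)
    (fun r hr => (hSJ r hr).1) (by omega)

end Cfsg.Agent.Lib.helper14.TWI
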