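import Mathlib
import Cfsg.Prelude.Def_ChevStructure
import Cfsg.Prelude.Def_ChevE6
import Cfsg.Agent.Lib.helper14.TWILS
import Cfsg.Agent.Lib.helper14.ChevFiltAll
import Cfsg.Agent.Lib.helper8.ChevTwE6

/-!
# Project TWI / TWIE6: the lemma LS for `²E₆` (instance of `ls_twisted`)

`twilse6_LS : JPropT chevE6 [[1], [3], [2, 4], [0, 5]] w → LSProp chevE6 [[1], [3], [2, 4], [0, 5]] w`; the graph
automorphism is helper8's `h8sE6`.
-/

set_option autoImplicit false

namespace Cfsg.Agent.Lib.helper14.TWI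

open Cfsg.Lie Cfsg.Lie.ChevalleyDatum Cfsg.Agent.Lib.helper8 Cfsg.Agent.Lib.helper14
  Cfsg.Agent.Lib.helper14.INV

theorem twilse6_gt : gtChk chevE6 = true := by decide +kernel

theorem twilse6_ls : lsChk chevE6 = true := by decide +kernel

set_option maxRecDepth 100000 in
theorem twilse6_orb : ∀ O ∈ ([[1], [3], [2, 4], [0, 5]] : List (List ℕ)), IsOrb chevE6 O ∧ O ≠ [] := by
  simp only [IsOrb]
  decide +kernel

theorem twilse6_cov : ∀ k < chevE6.rank, ∃ O ∈ ([[1], [3], [2, 4], [0, 5]] : List (List ℕ)), k ∈ O := by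
  decide +kernel

theorem twilse6_lt : ∀ r < chevE6.nroots, h8sE6 r < chevE6.nroots := by decide +kernel

set_option maxRecDepth 100000 in
theorem twilse6_comm : ∀ O ∈ ([[1], [3], [2, 4], [0, 5]] : List (List ℕ)), ∀ r < chevE6.nroots,
    h8sW chevE6 O (h8sE6 r) = h8sE6 (h8sW chevE6 O r) := by
  decide +kernel

set_option maxRecDepth 100000 in
theorem twilse6_trans : ∀ O ∈ ([[1], [3], [2, 4], [0, 5]] : List (List ℕ)), ∀ j ∈ O, ∀ k ∈ O,
    ∃ a < 2, h8sE6^[a] (chevE6.simple j) = chevE6.simple k := by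
  decide +kernel

/-- LS for `²E₆` -/
theorem twilse6_LS (w : List ℕ) (hw : ValidW chevE6 w)
    (hJ : JPropT chevE6 [[1], [3], [2, 4], [0, 5]] w) :
    LSProp chevE6 [[1], [3], [2, 4], [0, 5]] w := by
  have hD : chevE6 ∈ [chevG2, chevB2, chevD4, chevF4, chevE6, chevE7, chevE8] := by simp
  have hB0 := h8base_all.{0} chevE6 hD
  have hA := h8reflAll chevE6 hD
  have hBN := h8bn_all chevE6 hD
  have hW := h8bn2_all chevE6 hD
  obtain ⟨hO, hO2⟩ := h8ord_all chevE6 hD
  exact ls_twisted chevE6 hB0 hA hBN hW hO2 twilse6_gt twilse6_ls _ twilse6_orb twilse6_cov h8sE6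
    twilse6_lt (fun r hr h => (h8twE6_pos r hr).mp h) twilse6_comm
    (fun O hO j hj k hk => by
      obtain ⟨a, _, h⟩ := twilse6_trans O hO j hj k hk
      exact ⟨a, h⟩) w hw hJ

end Cfsg.Agent.Lib.helper14.TWI
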