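import Mathlib
import Cfsg.Prelude.Def_ChevStructure
import Cfsg.Prelude.Def_LieTwisted
import Cfsg.Agent.Lib.helper6.TWIE6.Defs
import Cfsg.Agent.Lib.helper14.TWILSE6

/-!
# Project TWIE6 (S2182), piece LS: the twisted form of the lemma LS for `E₆` (wrapper of `twilse6_LS`)
-/

set_option autoImplicit false
set_option linter.unusedVariables false

namespace Cfsg.Agent.Lib.helper6.TWIE6

open Cfsg.Lie Cfsg.Lie.ChevalleyDatum Cfsg.Agent.Lib.helper8 Cfsg.Agent.Lib.helper14
  Cfsg.Agent.Lib.helper14.INV Cfsg.Agent.Lib.helper14.TWI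

/-- LS : the twisted form of the lemma LS for `E₆` -/
theorem te6_LS (w : List ℕ) (hw : ValidW chevE6 w) (hJ : JPropT chevE6 te6Orbs w)
    (hid : ∃ r < chevE6.nroots, h8sW chevE6 w r ≠ r) : LSProp chevE6 te6Orbs w :=
  twilse6_LS w hw hJ

end Cfsg.Agent.Lib.helper6.TWIE6
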