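import Mathlib
import Cfsg.Prelude.Def_ChevStructure
import Cfsg.Agent.Lib.helper14.TWILS
import Cfsg.Agent.Lib.helper14.INVGT2

/-!
# Project TWI: identification of the Weyl group elements with `JPropT` through a table (any datum, any orbits)

`twils_table`: given a table `T` of pairs `(Js, c)`, one for every sublist `Js` of the list of orbits, where the word `c`
has the positive roots outside `Φ_J` (`J` the union of `Js`) as its inversion set (checked by `twTabChk`), every word
`w` with `JPropT` acts on the roots as the word `c` of the entry whose `Js` are the orbits permuted by `w`.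
-/

set_option autoImplicit false

namespace Cfsg.Agent.Lib.helper14.TWI

open Cfsg.Lie Cfsg.Lie.ChevalleyDatum Cfsg.Agent.Lib.helper8 Cfsg.Agent.Lib.helper14
  Cfsg.Agent.Lib.helper14.INV

/-- `w` maps the positive roots of `Φ_J`, `J` the fundamental roots of the orbits permuted by `w`, to positive roots -/
theorem twitabg_pos (D : ChevalleyDatum) (hB : H8Base.{0} D) (hA : H8ReflAll D)
    (hgt : gtChk D = true) (hls : lsChk D = true) (orbs : List (List ℕ))
    (hlt : ∀ O ∈ orbs, ∀ j ∈ O, j < D.rank)
    (w : List ℕ) (hw : ValidW D w) (hJ : JPropT D orbs w) (r : ℕ) (hp : D.IsPosRoot r)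
    (hin : D.InRootSub (PermJ D orbs w) r) : D.IsPosRoot (h8sW D w r) := by
  have hwr := h8sW_lt D hA w hw r hp.1
  have hrc : ∀ m, 0 ≤ cf D r m := gt_pos_cf D r hp
  have hterm : ∀ k < D.rank, ∀ m ∈ Finset.range D.rank,
      0 ≤ cf D r m * cf D (h8sW D w (D.simple m)) k := by
    intro k hk m hm
    have hm' := Finset.mem_range.mp hm
    by_cases hmJ : m ∈ PermJ D orbs w
    · obtain ⟨O, hO, hP, hmO⟩ := hmJ
      obtain ⟨m', hm'O, e⟩ := hP m hmO
      rw [e, gtChk_simple D hgt m' k (hlt O hO m' hm'O) hk]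
      have := hrc m
      split_ifs
      · simpa using this
      · simp
    · have : cf D r m = 0 := hin.2 m hm' hmJ
      rw [this, zero_mul]
  have hge : ∀ k < D.rank, 0 ≤ cf D (h8sW D w r) k := by
    intro k hk
    rw [gt_lin D hA hgt w hw r hp.1 k hk]
    exact Finset.sum_nonneg (hterm k hk)
  rcases hB.posneg _ hwr with h1 | h1
  · exact h1
  · exfalso
    have hz : ∀ k < D.rank, cf D (h8sW D w r) k = 0 := by
      intro k hk
      have h2 := gt_neg_cf D _ h1 k
      have h3 := hge k hk
      omega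
    have hr0 : ∀ k < D.rank, cf D r k = 0 := by
      intro k hk
      have h2 := gt_lin D hA hgt w hw (h8sW D w r) hwr k hk
      rw [hJ.1 r hp.1] at h2
      rw [h2]
      apply Finset.sum_eq_zero
      intro m hm
      rw [hz m (Finset.mem_range.mp hm), zero_mul]
    obtain ⟨i, hi, hpos⟩ := twils_pos_coord D hls r hp
    have := hr0 i hi
    omega

/-- every sublist of the list of orbits has an entry, and the entries are correct -/
def twTabChk (D : ChevalleyDatum) (orbs : List (List ℕ)) (T : List (List (List ℕ) × List ℕ)) : Bool :=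
  (orbs.sublists.all fun Js => T.any fun e => e.1 == Js) &&
  T.all fun e => gtInvChk D e.1.flatten e.2

theorem twils_table (D : ChevalleyDatum) (hB : H8Base.{0} D) (hA : H8ReflAll D) (hBN : H8BN D)
    (hW : H8BN2 D) (hO2 : H8Ord2 D) (hgt : gtChk D = true) (hls : lsChk D = true)
    (orbs : List (List ℕ)) (hlt : ∀ O ∈ orbs, ∀ j ∈ O, j < D.rank)
    (hcov : ∀ k < D.rank, ∃ O ∈ orbs, k ∈ O)
    (T : List (List (List ℕ) × List ℕ)) (hT : twTabChk D orbs T = true)
    (w : List ℕ) (hw : ValidW D w) (hJ : JPropT D orbs w) :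
    ∃ e ∈ T, (∀ O, O ∈ e.1 ↔ O ∈ orbs ∧ PermO D w O) ∧ ValidW D e.2 ∧
      ∀ r < D.nroots, h8sW D w r = h8sW D e.2 r := by
  classical
  unfold twTabChk at hT
  rw [Bool.and_eq_true, List.all_eq_true, List.all_eq_true] at hT
  set Jl := orbs.filter (fun O => decide (PermO D w O)) with hJl
  have hsub : Jl ∈ orbs.sublists := List.mem_sublists.mpr List.filter_sublist
  have h1 := hT.1 Jl hsub
  rw [List.any_eq_true] at h1
  obtain ⟨e, he, heJ⟩ := h1
  have heJ' : e.1 = Jl := by simpa using heJ
  have hmem : ∀ O, O ∈ e.1 ↔ O ∈ orbs ∧ PermO D w O := by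
    intro O
    rw [heJ', hJl, List.mem_filter, decide_eq_true_eq]
  have hmemJ : ∀ i, i ∈ e.1.flatten ↔ i ∈ PermJ D orbs w := by
    intro i
    rw [List.mem_flatten]
    constructor
    · rintro ⟨O, hO, hiO⟩
      exact ⟨O, ((hmem O).mp hO).1, ((hmem O).mp hO).2, hiO⟩
    · rintro ⟨O, hO, hP, hiO⟩
      exact ⟨O, (hmem O).mpr ⟨hO, hP⟩, hiO⟩
  have h2 := hT.2 e he
  unfold gtInvChk at h2
  rw [Bool.and_eq_true, List.all_eq_true, List.all_eq_true] at h2
  have hv : ValidW D e.2 := by
    intro i hi
    have := h2.1 i hi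
    simpa using this
  refine ⟨e, he, hmem, hv, ?_⟩
  apply gt_unique D hB hA hBN hW hO2 w e.2 hw hv
  intro r hr
  have h3 := h2.2 r (List.mem_range.mpr hr.1)
  rw [Bool.or_eq_true] at h3
  rcases h3 with h3 | h3
  · simp only [Bool.not_eq_true', decide_eq_false_iff_not] at h3
    exact absurd hr h3
  · rw [beq_iff_eq] at h3
    have hiff : D.IsPosRoot (h8sW D e.2 r) ↔ D.InRootSub (PermJ D orbs w) r := by
      rw [← decide_eq_true_iff (p := D.IsPosRoot (h8sW D e.2 r)), h3, List.all_eq_true]
      constructor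
      · intro hall
        refine ⟨hr.1, fun i hi hiJ => ?_⟩
        have := hall i (List.mem_range.mpr hi)
        rw [Bool.or_eq_true, List.contains_iff_mem, decide_eq_true_eq] at this
        rcases this with h4 | h4
        · exact absurd ((hmemJ i).mp h4) hiJ
        · exact h4
      · intro hin i hi
        rw [Bool.or_eq_true, List.contains_iff_mem, decide_eq_true_eq]
        by_cases hiJ : i ∈ PermJ D orbs w
        · exact Or.inl ((hmemJ i).mpr hiJ)
        · exact Or.inr (hin.2 i (List.mem_range.mp hi) hiJ)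
    rw [hiff]
    constructor
    · exact twils_struct D hB hA hgt orbs hlt hcov w hw hJ r hr
    · exact twitabg_pos D hB hA hgt hls orbs hlt w hw hJ r hr

end Cfsg.Agent.Lib.helper14.TWI
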