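import Mathlib
import Cfsg.Prelude.Def_ChevStructure
import Cfsg.Prelude.Def_LieTwisted
import Cfsg.Agent.Lib.helper6.TWIE6.Defs
import Cfsg.Agent.Lib.helper14.TWITABG
import Cfsg.Agent.Lib.helper14.TWILSE6

/-!
# Project TWIE6 (S2182), piece TAB: the elements of `W(E₆)` with the property `JPropT`

Instance of `twils_table` (helper14.TWITABG): the table `twie6tab_T` has one entry `(Js, c)` for each of the 16 sublists `Js` of the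
list of orbits, `c` a word for `w₀ w_J` (`J` the union of `Js`); for 4 of them `w₀ w_J` does not permute the fundamental roots of every
orbit of `Js`, the other 12 give the tables `te6Tabs`.
-/

set_option autoImplicit false
set_option linter.unusedVariables false

namespace Cfsg.Agent.Lib.helper6.TWIE6

open Cfsg.Lie Cfsg.Lie.ChevalleyDatum Cfsg.Agent.Lib.helper8 Cfsg.Agent.Lib.helper14
  Cfsg.Agent.Lib.helper14.INV Cfsg.Agent.Lib.helper14.TWI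

/-- the words `w₀ w_J` for the 16 unions `J` of orbits -/
def twie6tab_T : List (List (List ℕ) × List ℕ) :=
  [
   ([], [0, 1, 2, 0, 3, 1, 2, 0, 3, 2, 4, 3, 1, 2, 0, 3, 2, 4, 3, 1, 5, 4, 3, 1, 2, 0, 3, 2, 4, 3, 1, 5, 4, 3, 2, 0]),
   ([[0, 5]], [1, 2, 0, 3, 1, 2, 0, 3, 2, 4, 3, 1, 2, 0, 3, 2, 4, 3, 1, 5, 4, 3, 1, 2, 0, 3, 2, 4, 3, 1, 5, 4, 3, 2]),
   ([[2, 4]], [0, 1, 2, 3, 1, 2, 0, 3, 2, 4, 3, 1, 2, 0, 3, 2, 4, 3, 5, 4, 3, 1, 2, 0, 3, 2, 4, 3, 1, 5, 4, 3, 2, 0]),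
   ([[2, 4], [0, 5]], [1, 3, 1, 2, 0, 3, 2, 4, 3, 1, 2, 0, 3, 2, 4, 3, 5, 4, 3, 1, 2, 0, 3, 2, 4, 3, 1, 5, 4, 3]),
   ([[3]], [0, 1, 2, 0, 3, 1, 2, 0, 3, 4, 3, 1, 2, 0, 3, 2, 4, 3, 1, 5, 4, 3, 1, 2, 0, 3, 2, 4, 3, 1, 5, 4, 3, 2, 0]),
   ([[3], [0, 5]], [1, 2, 0, 3, 1, 2, 0, 3, 4, 3, 1, 2, 0, 3, 2, 4, 3, 1, 5, 4, 3, 1, 2, 0, 3, 2, 4, 3, 1, 5, 4, 3, 2]),
   ([[3], [2, 4]], [0, 1, 2, 3, 1, 2, 0, 4, 3, 1, 2, 0, 3, 4, 5, 4, 3, 1, 2, 0, 3, 2, 4, 3, 1, 5, 4, 3, 2, 0]),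
   ([[3], [2, 4], [0, 5]], [1, 3, 2, 0, 4, 3, 1, 2, 3, 4, 5, 4, 3, 1, 2, 0, 3, 2, 4, 3, 1]),
   ([[1]], [0, 2, 0, 3, 1, 2, 0, 3, 2, 4, 3, 1, 2, 0, 3, 2, 4, 3, 1, 5, 4, 3, 1, 2, 0, 3, 2, 4, 3, 1, 5, 4, 3, 2, 0]),
   ([[1], [0, 5]], [2, 0, 3, 1, 2, 0, 3, 2, 4, 3, 1, 2, 0, 3, 2, 4, 3, 1, 5, 4, 3, 1, 2, 0, 3, 2, 4, 3, 1, 5, 4, 3, 2]),
   ([[1], [2, 4]], [0, 2, 3, 1, 2, 0, 3, 2, 4, 3, 1, 2, 0, 3, 2, 4, 3, 5, 4, 3, 1, 2, 0, 3, 2, 4, 3, 1, 5, 4, 3, 2, 0]),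
   ([[1], [2, 4], [0, 5]], [3, 1, 2, 0, 3, 2, 4, 3, 1, 2, 0, 3, 2, 4, 3, 5, 4, 3, 1, 2, 0, 3, 2, 4, 3, 1, 5, 4, 3]),
   ([[1], [3]], [0, 2, 0, 3, 1, 2, 3, 4, 3, 1, 2, 0, 3, 2, 4, 3, 1, 5, 4, 3, 1, 2, 0, 3, 2, 4, 3, 1, 5, 4, 3, 2, 0]),
   ([[1], [3], [0, 5]], [2, 0, 3, 1, 2, 3, 4, 3, 1, 2, 0, 3, 2, 4, 3, 1, 5, 4, 3, 1, 2, 0, 3, 2, 4, 3, 1, 5, 4, 3, 2]),
   ([[1], [3], [2, 4]], [0, 2, 3, 1, 4, 3, 2, 0, 5, 4, 3, 1, 2, 0, 3, 2, 4, 3, 1, 5, 4, 3, 2, 0]),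
   ([[1], [3], [2, 4], [0, 5]], [])]

theorem twie6tab_chk : twTabChk chevE6 te6Orbs twie6tab_T = true := by decide +kernel

/-- Bool form of "the word of the entry permutes the fundamental roots of each of its orbits" -/
def twie6tab_good (e : List (List ℕ) × List ℕ) : Bool :=
  e.1.all fun O => O.all fun j => O.any fun k =>
    h8sW chevE6 e.2 (chevE6.simple j) == chevE6.simple k

set_option maxRecDepth 100000 in
theorem twie6tab_mem : ∀ e ∈ twie6tab_T, twie6tab_good e = true →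
    (List.range 72).map (h8sW chevE6 e.2) ∈ te6Tabs := by decide +kernel

theorem twie6tab_simple_lt : ∀ j < chevE6.rank, chevE6.simple j < chevE6.nroots := by decide +kernel

/-- TAB : the elements of `W(E₆)` with the property `JPropT` -/
theorem te6_struct (w : List ℕ) (hw : ValidW chevE6 w) (hJ : JPropT chevE6 te6Orbs w) :
    (List.range 72).map (h8sW chevE6 w) ∈ te6Tabs := by
  have hD : chevE6 ∈ [chevG2, chevB2, chevD4, chevF4, chevE6, chevE7, chevE8] := by simp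
  have hB0 := h8base_all.{0} chevE6 hD
  have hA := h8reflAll chevE6 hD
  have hBN := h8bn_all chevE6 hD
  have hW := h8bn2_all chevE6 hD
  obtain ⟨hO, hO2⟩ := h8ord_all chevE6 hD
  have hlt : ∀ O ∈ te6Orbs, ∀ j ∈ O, j < chevE6.rank :=
    fun O hOo => (twilse6_orb O hOo).1.2.1
  obtain ⟨e, he, hmem, hv, heq⟩ := twils_table chevE6 hB0 hA hBN hW hO2 twilse6_gt twilse6_ls te6Orbs
    hlt twilse6_cov twie6tab_T twie6tab_chk w hw hJ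
  have hgood : twie6tab_good e = true := by
    unfold twie6tab_good
    rw [List.all_eq_true]
    intro O hOe
    obtain ⟨hOo, hP⟩ := (hmem O).mp hOe
    rw [List.all_eq_true]
    intro j hj
    obtain ⟨k, hk, e1⟩ := hP j hj
    rw [List.any_eq_true]
    refine ⟨k, hk, ?_⟩
    rw [beq_iff_eq, ← heq _ (twie6tab_simple_lt j (hlt O hOo j hj))]
    exact e1
  have h1 := twie6tab_mem e he hgood
  have h2 : (List.range 72).map (h8sW chevE6 w) = (List.range 72).map (h8sW chevE6 e.2) := by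
    apply List.map_congr_left
    intro r hr
    exact heq r (List.mem_range.mp hr)
  rw [h2]
  exact h1

end Cfsg.Agent.Lib.helper6.TWIE6
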