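import Mathlib
import Cfsg.Prelude.Def_ChevStructure
import Cfsg.Prelude.Def_LieTwisted
import Cfsg.Agent.Lib.helper14.TWI.D4Defs
import Cfsg.Agent.Lib.helper14.TWIFUSES

/-!
# Project TWI, piece FUSE (core): the fusion of `x_12 x_13 x_18 x_23` into the class of `x_17 x_20 x_21` by elements
of a subgroup containing the orbit products
-/

set_option autoImplicit false

namespace Cfsg.Agent.Lib.helper14.TWI

open Cfsg.Lie Cfsg.Lie.ChevalleyDatum Cfsg.Agent.Lib.helper8 Cfsg.Agent.Lib.helper14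
  Cfsg.Agent.Lib.helper14.INV

universe u

variable {K : Type u} [Field K]

/-- the moves `x(15,16,19)`, `x(17,20,21)`, `n(1)`, `n(0,2,3)` -/
def d4FuseMoves : List (Bool × ℕ) :=
  [(true, 19), (true, 16), (true, 15), (true, 21), (true, 20), (true, 17), (false, 1), (false, 3),
    (false, 2), (false, 0)]

set_option maxRecDepth 100000 in
theorem d4_fuse_chk : fuseb_ok chevD4 30 d4FuseMoves [12, 13, 18, 23] = true ∧
    fuseb_run chevD4 30 d4FuseMoves [12, 13, 18, 23] = [17, 20, 21] := by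
  decide +kernel

/-- FUSE (core) -/
theorem d4_fuse_core [CharP K 2] (hB : H8Base.{u} chevD4) (hA : H8ReflAll chevD4)
    (hC : H8CommAll.{u} chevD4) (hBN : H8BN chevD4) (hO : H8Ord chevD4)
    (G₁ : Subgroup (GL chevD4.Idx K))
    (h1 : (w1 chevD4 hB [15, 16, 19] : GL chevD4.Idx K) ∈ G₁)
    (h2 : (w1 chevD4 hB [17, 20, 21] : GL chevD4.Idx K) ∈ G₁)
    (h3 : (h8nWU chevD4 hB [1] : GL chevD4.Idx K) ∈ G₁)
    (h4 : (h8nWU chevD4 hB [0, 2, 3] : GL chevD4.Idx K) ∈ G₁) (k : ℕ) (hk : k < 3) :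
    CjS chevD4 G₁ (w1 chevD4 hB (d4Std.getD k []) : GL chevD4.Idx K)
      (w1 chevD4 hB (d4Rep.getD k [])) := by
  interval_cases k
  · have e := fuseb_run_elt (K := K) chevD4 hB hA hC hBN hO 30 d4FuseMoves [12, 13, 18, 23]
      d4_fuse_chk.1
    rw [d4_fuse_chk.2] at e
    refine ⟨_, ?_, e⟩
    have : ((d4FuseMoves.reverse.map fun m => if m.1 then h8xU chevD4 hB m.2 (1 : K)
        else h8nU chevD4 hB (chevD4.simple m.2) (1 : K)).prod) =
        h8nWU chevD4 hB [0, 2, 3] * h8nWU chevD4 hB [1] * w1 chevD4 hB [17, 20, 21] *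
          w1 chevD4 hB [15, 16, 19] := by
      simp only [d4FuseMoves, List.reverse_cons, List.reverse_nil, List.nil_append,
        List.cons_append, List.map_cons, List.map_nil, List.prod_cons, List.prod_nil,
        h8nWU_cons, w1_cons, w1_nil, if_true, Bool.false_eq_true, if_false, mul_one, mul_assoc]
      have e0 : (h8nWU chevD4 hB [] : GL chevD4.Idx K) = 1 := rfl
      rw [e0, one_mul, one_mul]
    rw [this]
    exact Subgroup.mul_mem _ (Subgroup.mul_mem _ (Subgroup.mul_mem _ h4 h3) h2) h1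
  · exact ⟨1, Subgroup.one_mem _, by rw [one_mul, inv_one, mul_one]; rfl⟩
  · exact ⟨1, Subgroup.one_mem _, by rw [one_mul, inv_one, mul_one]; rfl⟩

end Cfsg.Agent.Lib.helper14.TWI
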