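import Cfsg.Agent.Lib.helper14.U34a
import Cfsg.Agent.Lib.helper14.PgV
import Cfsg.Agent.S0280

set_option autoImplicit false
set_option maxRecDepth 1000000

/-!
# The unitary group `PSU₃(4)` on 65 points: kernel computations

The basic checks of the stabiliser chain, the two generating matrices are unitary of determinant one
and act on the 65 isotropic points as the two generating permutations.
-/

namespace Cfsg.Agent.Lib.helper14.U34

open Cfsg.Agent.Lib.helper23 Cfsg.Agent.Lib.helper14.PV Subgroup MulAction Matrix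

/-- the first generator (order 13) -/
def u4Px : PFun := u4gen u4TX u4IX

/-- the second generator (order 15) -/
def u4Pb : PFun := u4gen u4TB u4IB

theorem u4Px_ok : u4Px.ok 65 = true := by decide +kernel

theorem u4Pb_ok : u4Pb.ok 65 = true := by decide +kernel

/-- the first generator -/
def u4Sx : Equiv.Perm (Fin 65) := u4Px.perm 65

/-- the second generator -/
def u4Sb : Equiv.Perm (Fin 65) := u4Pb.perm 65

theorem u4Rx : PgRep u4Px.f u4Sx := PgRep.perm u4Px_ok

theorem u4Rb : PgRep u4Pb.f u4Sb := PgRep.perm u4Pb_ok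

theorem u4Rxi : PgRep u4Px.g u4Sx⁻¹ := PgRep.perm_inv u4Px_ok

theorem u4Rbi : PgRep u4Pb.g u4Sb⁻¹ := PgRep.perm_inv u4Pb_ok

/-! ### The chain of the group -/

theorem wgcchk0x4 : pgChkLvlW0 65 wgcL4 [] = true := by decide +kernel

theorem wgcchk0x3 : pgChkLvlW0 65 wgcL3 [wgcL4] = true := by decide +kernel

theorem wgcchk0x2 : pgChkLvlW0 65 wgcL2 [wgcL3, wgcL4] = true := by decide +kernel

theorem wgcchk0x1 : pgChkLvlW0 65 wgcL1 [wgcL2, wgcL3, wgcL4] = true := by decide +kernel

theorem wgchk0 : pgChk0W 65 wgC = true := by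
  unfold wgC
  rw [pgChk0W_cons, pgChk0W_cons, pgChk0W_cons, pgChk0W_cons, wgcchk0x1, wgcchk0x2, wgcchk0x3, wgcchk0x4]
  rfl

theorem wgord : pgOrdW 65 wgC = 62400 := by decide +kernel

/-! ### The matrices -/

/-- the product of a matrix and a vector, written out -/
def u4mv (M : Matrix (Fin 3) (Fin 3) F16c) (v : Fin 3 → F16c) : Fin 3 → F16c :=
  ![M 0 0 * v 0 + M 0 1 * v 1 + M 0 2 * v 2, M 1 0 * v 0 + M 1 1 * v 1 + M 1 2 * v 2,
    M 2 0 * v 0 + M 2 1 * v 1 + M 2 2 * v 2]

theorem u4mv_eq (M : Matrix (Fin 3) (Fin 3) F16c) (v : Fin 3 → F16c) : M *ᵥ v = u4mv M v := by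
  funext i
  fin_cases i <;> simp [u4mv, Matrix.mulVec, dotProduct, Fin.sum_univ_three]

/-- equality of two vectors -/
def u4eq3 (v w : Fin 3 → F16c) : Bool := decide (v 0 = w 0) && decide (v 1 = w 1) && decide (v 2 = w 2)

theorem u4eq3_iff (v w : Fin 3 → F16c) : u4eq3 v w = true ↔ v = w := by
  unfold u4eq3
  simp only [Bool.and_eq_true, decide_eq_true_eq]
  constructor
  · rintro ⟨⟨h0, h1⟩, h2⟩
    funext i
    fin_cases i
    · exact h0
    · exact h1
    · exact h2
  · rintro rfl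
    exact ⟨⟨rfl, rfl⟩, rfl⟩

/-- the matrix `M` maps the `i`-th point to the multiple by the `i`-th scalar of `S` of the point
with index the `i`-th entry of `T` -/
def u4chk (M : Matrix (Fin 3) (Fin 3) F16c) (T S : ℕ) : Bool :=
  pgAll 65 (fun i => u4eq3 (u4mv M (u4pt i)) (u4e (u4lk4 S i) • u4pt (u4lk T i)) &&
    !(decide (u4e (u4lk4 S i) = 0)))

theorem u4chk_spec {M : Matrix (Fin 3) (Fin 3) F16c} {T S : ℕ} (h : u4chk M T S = true) (i : ℕ)
    (hi : i < 65) : u4e (u4lk4 S i) ≠ 0 ∧ M *ᵥ u4pt i = u4e (u4lk4 S i) • u4pt (u4lk T i) := by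
  unfold u4chk at h
  have := (pgAll_iff _ _).1 h i hi
  simp only [Bool.and_eq_true, Bool.not_eq_eq_eq_not, Bool.not_true, decide_eq_false_iff_not,
    u4eq3_iff] at this
  exact ⟨this.2, (u4mv_eq M _).trans this.1⟩

theorem u4chkX : u4chk u4MX u4TX u4SX = true := by decide +kernel

theorem u4chkB : u4chk u4MB u4TB u4SB = true := by decide +kernel

theorem u4unitX : u4MXᵀ * u4MX.map (fun x => x ^ 4) = 1 := by decide +kernel

theorem u4unitB : u4MBᵀ * u4MB.map (fun x => x ^ 4) = 1 := by decide +kernel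

theorem u4detX : u4MX.det = 1 := by
  rw [Matrix.det_fin_three]
  decide +kernel

theorem u4detB : u4MB.det = 1 := by
  rw [Matrix.det_fin_three]
  decide +kernel

/-- two distinct points are not proportional: some minor does not vanish -/
def u4indep (i j : ℕ) : Bool :=
  !(decide (u4pt i 0 * u4pt j 1 = u4pt i 1 * u4pt j 0)) ||
  !(decide (u4pt i 0 * u4pt j 2 = u4pt i 2 * u4pt j 0)) ||
  !(decide (u4pt i 1 * u4pt j 2 = u4pt i 2 * u4pt j 1))

theorem u4indep_all : pgAll 65 (fun i => pgAll 65 (fun j => Nat.beq i j || u4indep i j)) = true := by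
  decide +kernel

/-- the four points in general position -/
theorem u4four : (∀ j : Fin 3, (fun i => u4P i j) = u4pt (u4idx j.castSucc)) ∧ u4P * u4Q = 1 ∧
    u4P *ᵥ u4a = u4pt (u4idx 3) ∧ (∀ j, u4a j ≠ 0) := by
  decide +kernel

end Cfsg.Agent.Lib.helper14.U34
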