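import Cfsg.Agent.Lib.helper14.U34d

set_option autoImplicit false
set_option maxRecDepth 100000

/-!
# The code of the hermitian unital on 65 points over the field with 5 elements

The words orthogonal to the 208 blocks, the invariance under the group, a word which is not
constant, and the certificate: a word invariant under the element of order 13 is constant.
-/

namespace Cfsg.Agent.Lib.helper14.U34

open Cfsg.Agent.Lib.helper23 Cfsg.Agent.Lib.helper14.PV Subgroup MulAction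

/-! ### the blocks -/

theorem u4blk_lt : pgAll 208 (fun k => pgAll 5 (fun j => Nat.blt (u4blk k j) 65)) = true := by
  decide +kernel

theorem u4blk_lt' (k : Fin 208) (j : Fin 5) : u4blk k.1 j.1 < 65 := by
  have := (pgAll_iff _ _).1 ((pgAll_iff _ _).1 u4blk_lt k.1 k.2) j.1 j.2
  rwa [Nat.blt_eq] at this

/-- the `j`-th point of the `k`-th block -/
def u4bp (k : Fin 208) (j : Fin 5) : Fin 65 := ⟨u4blk k.1 j.1, u4blk_lt' k j⟩

theorem u4blk_inj : pgAll 208 (fun k => pgAll 5 (fun j => pgAll 5 (fun j' =>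
    Nat.beq j j' || !(Nat.beq (u4blk k j) (u4blk k j'))))) = true := by
  decide +kernel

theorem u4bp_inj (k : Fin 208) : Function.Injective (u4bp k) := by
  intro j j' h
  have h1 := (pgAll_iff _ _).1 ((pgAll_iff _ _).1 ((pgAll_iff _ _).1 u4blk_inj k.1 k.2) j.1 j.2)
    j'.1 j'.2
  have h2 : u4blk k.1 j.1 = u4blk k.1 j'.1 := congrArg Fin.val h
  rw [Bool.or_eq_true] at h1
  rcases h1 with h1 | h1
  · rw [Nat.beq_eq] at h1
    exact Fin.ext h1
  · rw [h2] at h1
    have : Nat.beq (u4blk k.1 j'.1) (u4blk k.1 j'.1) = true := by rw [Nat.beq_eq]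
    rw [this] at h1
    exact absurd h1 (by decide)

/-- the `k`-th block -/
def u4B (k : Fin 208) : Finset (Fin 65) := Finset.image (u4bp k) Finset.univ

theorem u4B_card (k : Fin 208) : (u4B k).card = 5 := by
  unfold u4B
  rw [Finset.card_image_of_injective _ (u4bp_inj k), Finset.card_univ, Fintype.card_fin]

theorem u4B_sum (k : Fin 208) (f : Fin 65 → ZMod 5) :
    ∑ i ∈ u4B k, f i = ∑ j : Fin 5, f (u4bp k j) := by
  unfold u4B
  rw [Finset.sum_image]
  intro a _ b _ h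
  exact u4bp_inj k h

/-- the words orthogonal to all blocks -/
def u4D : AddSubgroup (Fin 65 → ZMod 5) where
  carrier := {f | ∀ k : Fin 208, ∑ i ∈ u4B k, f i = 0}
  zero_mem' := by
    intro k
    simp
  add_mem' := by
    intro f g hf hg k
    have h1 := hf k
    have h2 := hg k
    simp only [Pi.add_apply, Finset.sum_add_distrib, h1, h2, add_zero]
  neg_mem' := by
    intro f hf k
    have h1 := hf k
    simp only [Pi.neg_apply, Finset.sum_neg_distrib, h1, neg_zero]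

theorem mem_u4D (f : Fin 65 → ZMod 5) : f ∈ u4D ↔ ∀ k : Fin 208, ∑ i ∈ u4B k, f i = 0 := Iff.rfl

/-! ### invariance -/

/-- the function `F` maps the points of the `k`-th block into the block with index the `k`-th
entry of `T` -/
def u4imgChk (F : ℕ → ℕ) (T : ℕ) : Bool :=
  pgAll 208 (fun k => Nat.blt (u4lk8 T k) 208 && pgAll 5 (fun j =>
    pgAnyL [0, 1, 2, 3, 4] (fun j' => Nat.beq (F (u4blk k j)) (u4blk (u4lk8 T k) j'))))

/-- the permutation maps blocks to blocks -/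
def BlkMap (s : Equiv.Perm (Fin 65)) : Prop :=
  ∀ k : Fin 208, ∃ k' : Fin 208, Finset.image s (u4B k) = u4B k'

theorem blkMap_of_chk {F : ℕ → ℕ} {T : ℕ} {s : Equiv.Perm (Fin 65)} (hs : PgRep F s)
    (h : u4imgChk F T = true) : BlkMap s := by
  intro k
  unfold u4imgChk at h
  have h1 := (pgAll_iff _ _).1 h k.1 k.2
  rw [Bool.and_eq_true, Nat.blt_eq] at h1
  obtain ⟨hk', h2⟩ := h1
  refine ⟨⟨u4lk8 T k.1, hk'⟩, ?_⟩
  apply Finset.eq_of_subset_of_card_le
  · intro i hi
    rw [Finset.mem_image] at hi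
    obtain ⟨i0, hi0, rfl⟩ := hi
    unfold u4B at hi0
    rw [Finset.mem_image] at hi0
    obtain ⟨j, -, rfl⟩ := hi0
    have h3 := (pgAll_iff _ _).1 h2 j.1 j.2
    obtain ⟨j', hj', h4⟩ := (pgAnyL_iff _ _).1 h3
    rw [Nat.beq_eq] at h4
    have hj5 : j' < 5 := by
      simp only [List.mem_cons, List.not_mem_nil, or_false] at hj'
      omega
    unfold u4B
    rw [Finset.mem_image]
    refine ⟨⟨j', hj5⟩, Finset.mem_univ _, ?_⟩
    apply Fin.ext
    show u4blk (u4lk8 T k.1) j' = (s (u4bp k j)).1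
    rw [← h4, ← hs (u4bp k j)]
    rfl
  · rw [u4B_card, Finset.card_image_of_injective _ s.injective, u4B_card]

theorem blkMap_one : BlkMap 1 := by
  intro k
  refine ⟨k, ?_⟩
  ext i
  simp

theorem blkMap_mul {s t : Equiv.Perm (Fin 65)} (hs : BlkMap s) (ht : BlkMap t) :
    BlkMap (s * t) := by
  intro k
  obtain ⟨k1, h1⟩ := ht k
  obtain ⟨k2, h2⟩ := hs k1
  refine ⟨k2, ?_⟩
  rw [← h2, ← h1, Finset.image_image]
  rfl

theorem u4D_of_blkMap {s : Equiv.Perm (Fin 65)} (hs : BlkMap s) (f : Fin 65 → ZMod 5)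
    (hf : f ∈ u4D) : (fun i => f (s i)) ∈ u4D := by
  intro k
  obtain ⟨k', hk'⟩ := hs k
  have := hf k'
  rw [← hk', Finset.sum_image] at this
  · exact this
  · intro a _ b _ h
    exact s.injective h

theorem u4chkBX : u4imgChk u4Px.f u4BX = true := by decide +kernel

theorem u4chkBB : u4imgChk u4Pb.f u4BB = true := by decide +kernel

theorem u4chkBXi : u4imgChk u4Px.g u4BXi = true := by decide +kernel

theorem u4chkBBi : u4imgChk u4Pb.g u4BBi = true := by decide +kernel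

theorem P65_blkMap : ∀ g ∈ P65, BlkMap g ∧ BlkMap g⁻¹ := by
  intro g hg
  unfold P65 at hg
  induction hg using Subgroup.closure_induction with
  | mem s hs =>
    rcases hs with rfl | rfl
    · exact ⟨blkMap_of_chk u4Rx u4chkBX, blkMap_of_chk u4Rxi u4chkBXi⟩
    · exact ⟨blkMap_of_chk u4Rb u4chkBB, blkMap_of_chk u4Rbi u4chkBBi⟩
  | one => exact ⟨blkMap_one, by rw [inv_one]; exact blkMap_one⟩
  | mul a b _ _ iha ihb =>
    refine ⟨blkMap_mul iha.1 ihb.1, ?_⟩
    rw [mul_inv_rev]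
    exact blkMap_mul ihb.2 iha.2
  | inv a _ iha =>
    refine ⟨iha.2, ?_⟩
    rw [inv_inv]
    exact iha.1

/-- the code is invariant under the group -/
theorem u4D_inv : ∀ g ∈ P65, ∀ f ∈ u4D, (fun i => f (g i)) ∈ u4D := by
  intro g hg f hf
  exact u4D_of_blkMap (P65_blkMap g hg).1 f hf

/-! ### a word which is not constant -/

/-- a word of the code -/
def u4f0 : Fin 65 → ZMod 5 := fun i => ((u4lk4 u4F0 i.1 : ℕ) : ZMod 5)

theorem u4f0_chk : pgAll 208 (fun k => Nat.beq (Nat.mod (u4lk4 u4F0 (u4blk k 0) + u4lk4 u4F0 (u4blk k 1) +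
    u4lk4 u4F0 (u4blk k 2) + u4lk4 u4F0 (u4blk k 3) + u4lk4 u4F0 (u4blk k 4)) 5) 0) = true := by
  decide +kernel

theorem u4f0_mem : u4f0 ∈ u4D := by
  intro k
  rw [u4B_sum, Fin.sum_univ_five]
  have h := (pgAll_iff _ _).1 u4f0_chk k.1 k.2
  rw [Nat.beq_eq] at h
  unfold u4f0
  show ((u4lk4 u4F0 (u4blk k.1 0) : ℕ) : ZMod 5) + ((u4lk4 u4F0 (u4blk k.1 1) : ℕ) : ZMod 5) +
    ((u4lk4 u4F0 (u4blk k.1 2) : ℕ) : ZMod 5) + ((u4lk4 u4F0 (u4blk k.1 3) : ℕ) : ZMod 5) +
    ((u4lk4 u4F0 (u4blk k.1 4) : ℕ) : ZMod 5) = 0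
  rw [← Nat.cast_add, ← Nat.cast_add, ← Nat.cast_add, ← Nat.cast_add,
    ZMod.natCast_eq_zero_iff]
  exact Nat.dvd_of_mod_eq_zero h

theorem u4f0_nc : ∃ f ∈ u4D, ∃ i j, f i ≠ f j := by
  refine ⟨u4f0, u4f0_mem, 0, 2, ?_⟩
  decide +kernel

end Cfsg.Agent.Lib.helper14.U34
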