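import Cfsg.Agent.Lib.helper14.U34e

set_option autoImplicit false
set_option maxRecDepth 100000

/-!
# The element of order 13 fixes only the constant words of the code; elements of orders 10, 15
-/

namespace Cfsg.Agent.Lib.helper14.U34

open Cfsg.Agent.Lib.helper23 Cfsg.Agent.Lib.helper14.PV Subgroup MulAction

/-! ### the certificate -/

theorem u4cyc_chk : pgAll 65 (fun i => Nat.blt (u4lk4 u4CY i) 5 &&
    Nat.blt (u4rep (u4lk4 u4CY i)) 65 &&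
    Nat.beq (pgIter u4Px.f (u4lk4 u4EX i) (u4rep (u4lk4 u4CY i))) i) = true := by decide +kernel

theorem u4inv_pow (f : Fin 65 → ZMod 5) (hf : ∀ i, f (u4Sx i) = f i) (t : ℕ) (p : Fin 65) :
    f ((u4Sx ^ t) p) = f p := by
  induction t with
  | zero => rfl
  | succ t ih => rw [pow_succ', Equiv.Perm.mul_apply, hf, ih]

theorem u4rep_lt : ∀ a : Fin 5, u4rep a.1 < 65 := by decide +kernel

/-- selection of one of five values -/
def u4sel (c0 c1 c2 c3 c4 : ZMod 5) (a : ℕ) : ZMod 5 :=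
  if a = 0 then c0 else if a = 1 then c1 else if a = 2 then c2 else if a = 3 then c3 else c4

theorem u4f_eq (f : Fin 65 → ZMod 5) (hf : ∀ i, f (u4Sx i) = f i) (i : Fin 65) :
    f i = u4sel (f ⟨u4rep 0, u4rep_lt 0⟩) (f ⟨u4rep 1, u4rep_lt 1⟩) (f ⟨u4rep 2, u4rep_lt 2⟩)
      (f ⟨u4rep 3, u4rep_lt 3⟩) (f ⟨u4rep 4, u4rep_lt 4⟩) (u4lk4 u4CY i.1) := by
  have h := (pgAll_iff _ _).1 u4cyc_chk i.1 i.2
  rw [Bool.and_eq_true, Bool.and_eq_true, Nat.blt_eq, Nat.blt_eq, Nat.beq_eq] at h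
  obtain ⟨⟨h1, h2⟩, h3⟩ := h
  have h4 := pgIter_perm u4Sx u4Px.f u4Rx (u4lk4 u4EX i.1) ⟨u4rep (u4lk4 u4CY i.1), h2⟩
  rw [h3] at h4
  have e : (u4Sx ^ (u4lk4 u4EX i.1)) ⟨u4rep (u4lk4 u4CY i.1), h2⟩ = i := Fin.ext h4.symm
  have h5 : f i = f ⟨u4rep (u4lk4 u4CY i.1), h2⟩ := by
    have h6 := u4inv_pow f hf (u4lk4 u4EX i.1) ⟨u4rep (u4lk4 u4CY i.1), h2⟩
    rw [e] at h6
    exact h6
  rw [h5]
  generalize hc : u4lk4 u4CY i.1 = c at h1 h2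
  unfold u4sel
  interval_cases c <;> rfl

/-- the equation of a block -/
def u4eqn (c0 c1 c2 c3 c4 : ZMod 5) (k : ℕ) : ZMod 5 :=
  u4sel c0 c1 c2 c3 c4 (u4lk4 u4CY (u4blk k 0)) + u4sel c0 c1 c2 c3 c4 (u4lk4 u4CY (u4blk k 1)) +
  u4sel c0 c1 c2 c3 c4 (u4lk4 u4CY (u4blk k 2)) + u4sel c0 c1 c2 c3 c4 (u4lk4 u4CY (u4blk k 3)) +
  u4sel c0 c1 c2 c3 c4 (u4lk4 u4CY (u4blk k 4))

theorem u4lin : ∀ c0 c1 c2 c3 c4 : ZMod 5,
    u4eqn c0 c1 c2 c3 c4 0 = 0 → u4eqn c0 c1 c2 c3 c4 1 = 0 → u4eqn c0 c1 c2 c3 c4 2 = 0 →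
    u4eqn c0 c1 c2 c3 c4 6 = 0 → c1 = c0 ∧ c2 = c0 ∧ c3 = c0 ∧ c4 = c0 := by
  decide +kernel

theorem u4eqn_of (f : Fin 65 → ZMod 5) (hfD : f ∈ u4D) (hf : ∀ i, f (u4Sx i) = f i) (k : Fin 208) :
    u4eqn (f ⟨u4rep 0, u4rep_lt 0⟩) (f ⟨u4rep 1, u4rep_lt 1⟩) (f ⟨u4rep 2, u4rep_lt 2⟩)
      (f ⟨u4rep 3, u4rep_lt 3⟩) (f ⟨u4rep 4, u4rep_lt 4⟩) k.1 = 0 := by
  have h := hfD k
  rw [u4B_sum, Fin.sum_univ_five, u4f_eq f hf (u4bp k 0), u4f_eq f hf (u4bp k 1),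
    u4f_eq f hf (u4bp k 2), u4f_eq f hf (u4bp k 3), u4f_eq f hf (u4bp k 4)] at h
  exact h

/-- a word of the code invariant under the element of order 13 is constant -/
theorem u4cert : ∀ f ∈ u4D, (∀ i, f (u4Sx i) = f i) → ∀ i j, f i = f j := by
  intro f hfD hf
  obtain ⟨e1, e2, e3, e4⟩ := u4lin _ _ _ _ _ (u4eqn_of f hfD hf 0) (u4eqn_of f hfD hf 1)
    (u4eqn_of f hfD hf 2) (u4eqn_of f hfD hf 6)
  have key : ∀ i, f i = f ⟨u4rep 0, u4rep_lt 0⟩ := by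
    intro i
    rw [u4f_eq f hf i, e1, e2, e3, e4]
    unfold u4sel
    split_ifs <;> rfl
  intro i j
  rw [key i, key j]

/-! ### elements of orders 13, 15, 10 -/

theorem u4x13chk : pgAll 65 (fun p => Nat.beq (pgIter u4Px.f 13 p) p) = true := by decide +kernel

theorem u4Sx_pow : u4Sx ^ 13 = 1 := by
  ext p
  have := (pgAll_iff _ _).1 u4x13chk p.1 p.2
  rw [Nat.beq_eq, pgIter_perm u4Sx u4Px.f u4Rx 13 p] at this
  rw [this]
  rfl

theorem u4x0 : u4Px.f 0 ≠ 0 := by decide +kernel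

theorem u4Sx_ne : u4Sx ≠ 1 := by
  intro h
  have := u4Rx (⟨0, by norm_num⟩ : Fin 65)
  rw [h] at this
  exact u4x0 this

theorem u4Sx_order : orderOf u4Sx = 13 := by
  have : Fact (Nat.Prime 13) := ⟨by norm_num⟩
  exact orderOf_eq_prime u4Sx_pow u4Sx_ne

theorem pow_ne_one_of_iter {F : ℕ → ℕ} {s : Equiv.Perm (Fin 65)} (hs : PgRep F s) (k : ℕ)
    (h : pgIter F k 0 ≠ 0) : s ^ k ≠ 1 := by
  intro h1
  have := pgIter_perm s F hs k (⟨0, by norm_num⟩ : Fin 65)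
  rw [h1] at this
  exact h this

theorem pow_eq_one_of_iter {F : ℕ → ℕ} {s : Equiv.Perm (Fin 65)} (hs : PgRep F s) (k : ℕ)
    (h : pgAll 65 (fun p => Nat.beq (pgIter F k p) p) = true) : s ^ k = 1 := by
  ext p
  have := (pgAll_iff _ _).1 h p.1 p.2
  rw [Nat.beq_eq, pgIter_perm s F hs k p] at this
  rw [this]
  rfl

theorem u4b15chk : pgAll 65 (fun p => Nat.beq (pgIter u4Pb.f 15 p) p) = true := by decide +kernel

theorem u4b5 : pgIter u4Pb.f 5 0 ≠ 0 := by decide +kernel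

theorem u4b3 : pgIter u4Pb.f 3 0 ≠ 0 := by decide +kernel

theorem u4Sb_order : orderOf u4Sb = 15 := by
  apply orderOf_eq_of_pow_and_pow_div_prime (by norm_num) (pow_eq_one_of_iter u4Rb 15 u4b15chk)
  intro p hp hpd
  have h15 : (15 : ℕ) = 3 * 5 := by norm_num
  rw [h15] at hpd
  rcases (Nat.Prime.dvd_mul hp).1 hpd with h | h
  · have : p = 3 := (Nat.prime_dvd_prime_iff_eq hp (by norm_num)).1 h
    subst this
    exact pow_ne_one_of_iter u4Rb 5 u4b5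
  · have : p = 5 := (Nat.prime_dvd_prime_iff_eq hp (by norm_num)).1 h
    subst this
    exact pow_ne_one_of_iter u4Rb 3 u4b3

/-- an element of order 10 -/
def u4Sw : Equiv.Perm (Fin 65) := u4Sx * (u4Sb * u4Sb)

/-- its function -/
def u4wf : ℕ → ℕ := fun p => u4Px.f (u4Pb.f (u4Pb.f p))

theorem u4Rw : PgRep u4wf u4Sw := by
  have h1 : PgRep (fun p => u4Pb.f (u4Pb.f p)) (u4Sb * u4Sb) := PgRep.mul u4Rb u4Rb
  have h2 : PgRep (fun p => u4Px.f ((fun p => u4Pb.f (u4Pb.f p)) p)) (u4Sx * (u4Sb * u4Sb)) :=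
    PgRep.mul (f := u4Px.f) (g := fun p => u4Pb.f (u4Pb.f p)) u4Rx h1
  exact h2

theorem u4w10chk : pgAll 65 (fun p => Nat.beq (pgIter u4wf 10 p) p) = true := by decide +kernel

theorem u4w5 : pgIter u4wf 5 0 ≠ 0 := by decide +kernel

theorem u4w2 : pgIter u4wf 2 0 ≠ 0 := by decide +kernel

theorem u4Sw_order : orderOf u4Sw = 10 := by
  apply orderOf_eq_of_pow_and_pow_div_prime (by norm_num) (pow_eq_one_of_iter u4Rw 10 u4w10chk)
  intro p hp hpd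
  have h10 : (10 : ℕ) = 2 * 5 := by norm_num
  rw [h10] at hpd
  rcases (Nat.Prime.dvd_mul hp).1 hpd with h | h
  · have : p = 2 := (Nat.prime_dvd_prime_iff_eq hp (by norm_num)).1 h
    subst this
    exact pow_ne_one_of_iter u4Rw 5 u4w5
  · have : p = 5 := (Nat.prime_dvd_prime_iff_eq hp (by norm_num)).1 h
    subst this
    exact pow_ne_one_of_iter u4Rw 2 u4w2

theorem u4Sx_mem : u4Sx ∈ P65 := subset_closure (Or.inl rfl)

theorem u4Sb_mem : u4Sb ∈ P65 := subset_closure (Or.inr rfl)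

theorem u4Sw_mem : u4Sw ∈ P65 := mul_mem u4Sx_mem (mul_mem u4Sb_mem u4Sb_mem)

end Cfsg.Agent.Lib.helper14.U34
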