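import Cfsg.Agent.Lib.helper14.U34f
import Cfsg.Agent.Lib.Helper22.U34M
import Cfsg.Agent.Lib.Helper22.U34G
import Cfsg.Agent.Lib.Helper22.U34S
import Cfsg.Agent.Lib.Helper1.U35D

set_option autoImplicit false

/-!
# Groups of arbitrarily large order with the prime graph of `PSU₃(4)`
-/

namespace Cfsg.Agent.Lib.helper14.U34

open Subgroup

/-- the abstract assembly -/
theorem assemble (L : Subgroup (Equiv.Perm (Fin 65))) (hcard : Nat.card ↥L = 62400)
    (D : AddSubgroup (Fin 65 → ZMod 5))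
    (hinv : ∀ g ∈ L, ∀ f ∈ D, (fun i => f (g i)) ∈ D)
    (hnc : ∃ f ∈ D, ∃ i j, f i ≠ f j)
    (g10 g15 g13 : ↥L) (h10 : orderOf g10 = 10) (h15 : orderOf g15 = 15) (h13 : orderOf g13 = 13)
    (hcert : ∀ f ∈ D, (∀ i, f ((g13 : Equiv.Perm (Fin 65)) i) = f i) → ∀ i j, f i = f j)
    (N : ℕ) :
    ∃ (H : Type) (_ : Group H) (_ : Finite H), N < Nat.card H ∧
      ((∀ p : ℕ, p.Prime → (p ∣ Nat.card ↥L ↔ p ∣ Nat.card H)) ∧
      (∀ p q : ℕ, p.Prime → q.Prime → p ≠ q →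
        ((∃ g : ↥L, orderOf g = p * q) ↔ (∃ g : H, orderOf g = p * q)))) := by
  have i5 : Fact (Nat.Prime 5) := ⟨by norm_num⟩
  have i13 : Fact (Nat.Prime 13) := ⟨by norm_num⟩
  obtain ⟨V, i1, i2, i3, i4, hV, hfixV⟩ := Cfsg.Agent.Lib.Helper22.U34.exists_module L 5 D hinv hnc
  refine @Cfsg.Agent.Lib.Helper22.U34.exists_large_same_graph ↥L _ _ 5 _ V i1 i2 i3 i4 hV (by rw [hcard]; norm_num) ?_ N
  intro q hq hq5 y hy hfix
  have hqd : q ∣ 62400 := by
    rw [← hcard, ← hy]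
    exact orderOf_dvd_natCard y
  have hq' : q = 2 ∨ q = 3 ∨ q = 13 := by
    have h1 : (62400 : ℕ) = 2 ^ 6 * 3 * 5 ^ 2 * 13 := by norm_num
    rw [h1] at hqd
    rcases (Nat.Prime.dvd_mul hq).1 hqd with h | h
    · rcases (Nat.Prime.dvd_mul hq).1 h with h | h
      · rcases (Nat.Prime.dvd_mul hq).1 h with h | h
        · left
          exact (Nat.prime_dvd_prime_iff_eq hq (by norm_num)).1 (hq.dvd_of_dvd_pow h)
        · right; left
          exact (Nat.prime_dvd_prime_iff_eq hq (by norm_num)).1 h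
      · exact absurd ((Nat.prime_dvd_prime_iff_eq hq (by norm_num)).1 (hq.dvd_of_dvd_pow h)) hq5
    · right; right
      exact (Nat.prime_dvd_prime_iff_eq hq (by norm_num)).1 h
  rcases hq' with rfl | rfl | rfl
  · exact ⟨g10, h10⟩
  · exact ⟨g15, h15⟩
  · exfalso
    have hcop : (orderOf y).Coprime 5 := by rw [hy]; norm_num
    have h1 := hfixV y hcop hfix
    obtain ⟨f, hfD, ⟨i, j, hij⟩, hfg⟩ := Cfsg.Agent.Lib.Helper22.U34.invariant_word_transfer L 5 13 D hinv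
      (by rw [hcard]; norm_num) g13 y h13 hy h1
    exact hij (hcert f hfD hfg i j)

/-- the permutation group on 65 points -/
theorem P65_main (N : ℕ) :
    ∃ (H : Type) (_ : Group H) (_ : Finite H), N < Nat.card H ∧
      ((∀ p : ℕ, p.Prime → (p ∣ Nat.card ↥P65 ↔ p ∣ Nat.card H)) ∧
      (∀ p q : ℕ, p.Prime → q.Prime → p ≠ q →
        ((∃ g : ↥P65, orderOf g = p * q) ↔ (∃ g : H, orderOf g = p * q)))) :=
  assemble P65 P65_card u4D u4D_inv u4f0_nc ⟨u4Sw, u4Sw_mem⟩ ⟨u4Sb, u4Sb_mem⟩ ⟨u4Sx, u4Sx_mem⟩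
    (by rw [Subgroup.orderOf_mk]; exact u4Sw_order) (by rw [Subgroup.orderOf_mk]; exact u4Sb_order)
    (by rw [Subgroup.orderOf_mk]; exact u4Sx_order) u4cert N

/-- transfer along an isomorphism -/
theorem graph_transfer {L L' : Type*} [Group L] [Group L'] (e : L ≃* L') (N : ℕ)
    (h : ∃ (H : Type) (_ : Group H) (_ : Finite H), N < Nat.card H ∧
      ((∀ p : ℕ, p.Prime → (p ∣ Nat.card L ↔ p ∣ Nat.card H)) ∧
      (∀ p q : ℕ, p.Prime → q.Prime → p ≠ q →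
        ((∃ g : L, orderOf g = p * q) ↔ (∃ g : H, orderOf g = p * q))))) :
    ∃ (H : Type) (_ : Group H) (_ : Finite H), N < Nat.card H ∧
      ((∀ p : ℕ, p.Prime → (p ∣ Nat.card L' ↔ p ∣ Nat.card H)) ∧
      (∀ p q : ℕ, p.Prime → q.Prime → p ≠ q →
        ((∃ g : L', orderOf g = p * q) ↔ (∃ g : H, orderOf g = p * q)))) := by
  obtain ⟨H, i1, i2, hN, h1, h2⟩ := h
  refine ⟨H, i1, i2, hN, ?_, ?_⟩
  · intro p hp
    rw [← Nat.card_congr e.toEquiv]
    exact h1 p hp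
  · intro p q hp hq hpq
    rw [← h2 p q hp hq hpq]
    constructor
    · rintro ⟨g, hg⟩
      exact ⟨e.symm g, by rw [MulEquiv.orderOf_eq]; exact hg⟩
    · rintro ⟨g, hg⟩
      exact ⟨e g, by rw [MulEquiv.orderOf_eq]; exact hg⟩

/-- groups of arbitrarily large order with the prime graph of `PSU₃(4)` -/
theorem psu_main {F : Type*} [Field F] [Fintype F] (hF : Fintype.card F = 16) (N : ℕ) :
    ∃ (H : Type) (_ : Group H) (_ : Finite H), N < Nat.card H ∧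
      ((∀ p : ℕ, p.Prime → (p ∣ Nat.card (Cfsg.PSU 3 F 4) ↔ p ∣ Nat.card H)) ∧
      (∀ p q : ℕ, p.Prime → q.Prime → p ≠ q →
        ((∃ g : (Cfsg.PSU 3 F 4), orderOf g = p * q) ↔ (∃ g : H, orderOf g = p * q)))) := by
  obtain ⟨e⟩ := P65_iso
  have φ : F16c ≃+* F := FiniteField.ringEquivOfCardEq (by rw [F16c.card, hF])
  obtain ⟨e'⟩ := Cfsg.Agent.Lib.Helper1.U35.psu_congr φ 3 4
  exact graph_transfer e' N (graph_transfer e N (P65_main N))

end Cfsg.Agent.Lib.helper14.U34
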