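import Cfsg.Agent.Lib.helper14.U35b
import Cfsg.Agent.Lib.helper14.PgV3
import Cfsg.Agent.S0280

set_option autoImplicit false
set_option maxRecDepth 1000000

/-!
# The unitary group `PSU₃(5)` on 126 points: kernel computations

The basic checks of the stabiliser chain, the two generating matrices are unitary of determinant one
and act on the 126 isotropic points as the two generating permutations.
-/

namespace Cfsg.Agent.Lib.helper14.U35

open Cfsg.Agent.Lib.helper23 Cfsg.Agent.Lib.helper14.PV Subgroup MulAction Matrix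

/-- the first generator (order 7) -/
def u5Px : PFun := u5gen u5TX u5IX

/-- the second generator -/
def u5Pb : PFun := u5gen u5TB u5IB

/-- the third permutation (order 3) -/
def u5Py : PFun := u5gen u5TY u5IY

theorem u5Px_ok : u5Px.ok 126 = true := by decide +kernel

theorem u5Pb_ok : u5Pb.ok 126 = true := by decide +kernel

theorem u5Py_ok : u5Py.ok 126 = true := by decide +kernel

/-- the first generator -/
def u5Sx : Equiv.Perm (Fin 126) := u5Px.perm 126

/-- the second generator -/
def u5Sb : Equiv.Perm (Fin 126) := u5Pb.perm 126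

/-- the third permutation -/
def u5Sy : Equiv.Perm (Fin 126) := u5Py.perm 126

theorem u5Rx : PgRep u5Px.f u5Sx := PgRep.perm u5Px_ok

theorem u5Rb : PgRep u5Pb.f u5Sb := PgRep.perm u5Pb_ok

theorem u5Ry : PgRep u5Py.f u5Sy := PgRep.perm u5Py_ok

theorem u5Rxi : PgRep u5Px.g u5Sx⁻¹ := PgRep.perm_inv u5Px_ok

/-! ### The chain of the group -/

theorem ugcchk0x3 : pgChkLvlW0 126 ugcL3 [] = true := by decide +kernel

theorem ugcchk0x2 : pgChkLvlW0 126 ugcL2 [ugcL3] = true := by decide +kernel

theorem ugcchk0x1 : pgChkLvlW0 126 ugcL1 [ugcL2, ugcL3] = true := by decide +kernel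

theorem ugchk0 : pgChk0W 126 ugC = true := by
  unfold ugC
  rw [pgChk0W_cons, pgChk0W_cons, pgChk0W_cons, ugcchk0x1, ugcchk0x2, ugcchk0x3]
  rfl

theorem ugord : pgOrdW 126 ugC = 126000 := by decide +kernel

/-! ### The matrices -/

/-- the product of a matrix and a vector, written out -/
def u5mv (M : Matrix (Fin 3) (Fin 3) F25) (v : Fin 3 → F25) : Fin 3 → F25 :=
  ![M 0 0 * v 0 + M 0 1 * v 1 + M 0 2 * v 2, M 1 0 * v 0 + M 1 1 * v 1 + M 1 2 * v 2,
    M 2 0 * v 0 + M 2 1 * v 1 + M 2 2 * v 2]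

theorem u5mv_eq (M : Matrix (Fin 3) (Fin 3) F25) (v : Fin 3 → F25) : M *ᵥ v = u5mv M v := by
  funext i
  fin_cases i <;> simp [u5mv, Matrix.mulVec, dotProduct, Fin.sum_univ_three]

/-- equality of two vectors -/
def u5eq3 (v w : Fin 3 → F25) : Bool := decide (v 0 = w 0) && decide (v 1 = w 1) && decide (v 2 = w 2)

theorem u5eq3_iff (v w : Fin 3 → F25) : u5eq3 v w = true ↔ v = w := by
  unfold u5eq3
  simp only [Bool.and_eq_true, decide_eq_true_eq]
  constructor
  · rintro ⟨⟨h0, h1⟩, h2⟩
    funext i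
    fin_cases i
    · exact h0
    · exact h1
    · exact h2
  · rintro rfl
    exact ⟨⟨rfl, rfl⟩, rfl⟩

/-- the matrix `M` maps the `i`-th point to the multiple by the `i`-th scalar of `S` of the point
with index the `i`-th entry of `T` -/
def u5chk (M : Matrix (Fin 3) (Fin 3) F25) (T S : ℕ) : Bool :=
  pgAll 126 (fun i => u5eq3 (u5mv M (u5pt i)) (u5e (u5lk5 S i) • u5pt (u5lk T i)) &&
    !(decide (u5e (u5lk5 S i) = 0)))

theorem u5chk_spec {M : Matrix (Fin 3) (Fin 3) F25} {T S : ℕ} (h : u5chk M T S = true) (i : ℕ)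
    (hi : i < 126) : u5e (u5lk5 S i) ≠ 0 ∧ M *ᵥ u5pt i = u5e (u5lk5 S i) • u5pt (u5lk T i) := by
  unfold u5chk at h
  have := (pgAll_iff _ _).1 h i hi
  simp only [Bool.and_eq_true, Bool.not_eq_eq_eq_not, Bool.not_true, decide_eq_false_iff_not,
    u5eq3_iff] at this
  exact ⟨this.2, (u5mv_eq M _).trans this.1⟩

theorem u5chkX : u5chk u5MX u5TX u5SX = true := by decide +kernel

theorem u5chkB : u5chk u5MB u5TB u5SB = true := by decide +kernel

theorem u5unitX : u5MXᵀ * u5MX.map (fun x => x ^ 5) = 1 := by decide +kernel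

theorem u5unitB : u5MBᵀ * u5MB.map (fun x => x ^ 5) = 1 := by decide +kernel

theorem u5detX : u5MX.det = 1 := by
  rw [Matrix.det_fin_three]
  decide +kernel

theorem u5detB : u5MB.det = 1 := by
  rw [Matrix.det_fin_three]
  decide +kernel

/-- two distinct points are not proportional: some minor does not vanish -/
def u5indep (i j : ℕ) : Bool :=
  !(decide (u5pt i 0 * u5pt j 1 = u5pt i 1 * u5pt j 0)) ||
  !(decide (u5pt i 0 * u5pt j 2 = u5pt i 2 * u5pt j 0)) ||
  !(decide (u5pt i 1 * u5pt j 2 = u5pt i 2 * u5pt j 1))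

theorem u5indep_all : pgAll 126 (fun i => pgAll 126 (fun j => Nat.beq i j || u5indep i j)) = true := by
  decide +kernel

/-- the four points in general position -/
theorem u5four : (∀ j : Fin 3, (fun i => u5P i j) = u5pt (u5idx j.castSucc)) ∧ u5P * u5Q = 1 ∧
    u5P *ᵥ u5a = u5pt (u5idx 3) ∧ (∀ j, u5a j ≠ 0) := by
  decide +kernel

end Cfsg.Agent.Lib.helper14.U35
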