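import Cfsg.Agent.Lib.helper14.U35c
import Cfsg.Agent.Lib.Helper10.U35U
import Cfsg.Agent.Lib.Helper12.U62.Gen

set_option autoImplicit false
set_option maxRecDepth 100000

/-!
# The unitary group `PSU₃(5)` is isomorphic to the group on 126 points
-/

namespace Cfsg.Agent.Lib.helper14.U35

open Cfsg.Agent.Lib.helper23 Cfsg.Agent.Lib.helper14.PV Subgroup MulAction Matrix

/-- the group on 126 points -/
def P126 : Subgroup (Equiv.Perm (Fin 126)) := closure {u5Sx, u5Sb}

theorem ugset_eq : pgSet 126 ugcL1.own = {u5Sx, u5Sb} := by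
  ext x
  constructor
  · rintro ⟨P, hP, rfl⟩
    change P ∈ [u5Px, u5Pb] at hP
    simp only [List.mem_cons, List.not_mem_nil, or_false] at hP
    rcases hP with rfl | rfl
    · exact Or.inl rfl
    · exact Or.inr rfl
  · rintro (rfl | rfl)
    · exact ⟨u5Px, List.mem_cons_self, rfl⟩
    · exact ⟨u5Pb, List.mem_cons_of_mem _ List.mem_cons_self, rfl⟩

theorem uggrp_eq : pgGrpW 126 ugC = P126 := by
  unfold P126
  rw [← ugset_eq]
  rfl

theorem P126_card_ge : 126000 ≤ Nat.card ↥P126 := by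
  have := pgCardW_ge ugC ugchk0
  rw [ugord, uggrp_eq] at this
  exact this

/-- the special unitary group -/
abbrev SU35 : Type := ↥(Cfsg.SU 3 F25 5)

/-- the matrix of an element -/
def u5mat (M : SU35) : Matrix (Fin 3) (Fin 3) F25 := M.1.1

theorem u5mat_mul (M N : SU35) : u5mat (M * N) = u5mat M * u5mat N := rfl

theorem u5mat_one : u5mat 1 = 1 := rfl

theorem u5mat_inv_mul (M : SU35) : u5mat M⁻¹ * u5mat M = 1 := by
  rw [← u5mat_mul, inv_mul_cancel, u5mat_one]

/-- the compatibility of a permutation of the points and a matrix -/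
def Compat (g : Equiv.Perm (Fin 126)) (M : SU35) : Prop :=
  ∀ i : Fin 126, ∃ c : F25, c ≠ 0 ∧ u5mat M *ᵥ u5pt i.1 = c • u5pt (g i).1

theorem compat_one : Compat 1 1 := by
  intro i
  refine ⟨1, one_ne_zero, ?_⟩
  rw [u5mat_one, Matrix.one_mulVec, one_smul]
  rfl

theorem compat_mul (g g' : Equiv.Perm (Fin 126)) (M M' : SU35) (h : Compat g M)
    (h' : Compat g' M') : Compat (g * g') (M * M') := by
  intro i
  obtain ⟨c', hc', e'⟩ := h' i
  obtain ⟨c, hc, e⟩ := h (g' i)
  refine ⟨c' * c, mul_ne_zero hc' hc, ?_⟩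
  rw [u5mat_mul, ← Matrix.mulVec_mulVec, e', Matrix.mulVec_smul, e, smul_smul, Equiv.Perm.mul_apply]

theorem compat_inv (g : Equiv.Perm (Fin 126)) (M : SU35) (h : Compat g M) : Compat g⁻¹ M⁻¹ := by
  intro i
  obtain ⟨c, hc, e⟩ := h (g⁻¹ i)
  have hgi : g (g⁻¹ i) = i := by simp
  rw [hgi] at e
  refine ⟨c⁻¹, inv_ne_zero hc, ?_⟩
  have h1 : u5mat M⁻¹ *ᵥ (u5mat M *ᵥ u5pt (g⁻¹ i).1) = u5pt (g⁻¹ i).1 := by
    rw [Matrix.mulVec_mulVec, u5mat_inv_mul, Matrix.one_mulVec]
  rw [e, Matrix.mulVec_smul] at h1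
  rw [← h1, smul_smul, inv_mul_cancel₀ hc, one_smul]

theorem F25.card' : Fintype.card F25 = 5 ^ 2 := by rw [F25.card]; norm_num

/-- a scalar matrix of the special unitary group is central -/
theorem central_of_scalar (M : SU35) (d : F25) (h : u5mat M = Matrix.scalar (Fin 3) d) :
    M ∈ center SU35 := by
  rw [Subgroup.mem_center_iff]
  intro N
  apply Subtype.ext
  apply Subtype.ext
  show u5mat N * u5mat M = u5mat M * u5mat N
  rw [h]
  exact ((Matrix.scalar_commute d (fun r => mul_comm d r) (u5mat N)).eq).symm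

theorem compat_uniq (M : SU35) (h : Compat 1 M) : M ∈ center SU35 := by
  obtain ⟨hcol, hPQ, h4, ha⟩ := u5four
  have hlt : ∀ j : Fin 4, u5idx j < 126 := by decide
  choose c hc he using fun j : Fin 4 => h ⟨u5idx j, hlt j⟩
  have key := Cfsg.Agent.Lib.Helper10.U35.scalar_of_fix (u5mat M) u5P u5Q hPQ (fun j => c j.castSucc)
    (by
      intro j
      rw [hcol j]
      exact he j.castSucc)
    u5a ha (c 3)
    (by
      rw [h4]
      exact he 3)
  exact central_of_scalar M _ key

/-- the first generating matrix as an element of the special linear group -/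
def u5slX : Matrix.SpecialLinearGroup (Fin 3) F25 := ⟨u5MX, u5detX⟩

/-- the second generating matrix as an element of the special linear group -/
def u5slB : Matrix.SpecialLinearGroup (Fin 3) F25 := ⟨u5MB, u5detB⟩

theorem exists_gX : ∃ M : SU35, u5mat M = u5MX := by
  obtain ⟨σ, hσ⟩ := Cfsg.Agent.Lib.Lead.exists_frob (F := F25) (q := 5) F25.card'
  have : u5MX.map σ = u5MX.map (fun x => x ^ 5) := by
    apply Matrix.ext
    intro i j
    rw [Matrix.map_apply, Matrix.map_apply, hσ]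
  refine ⟨⟨u5slX, (Cfsg.Agent.S0279.mem_SU_iff' σ hσ u5slX).2 ?_⟩, rfl⟩
  show u5MXᵀ * u5MX.map σ = 1
  rw [this]
  exact u5unitX

theorem exists_gB : ∃ M : SU35, u5mat M = u5MB := by
  obtain ⟨σ, hσ⟩ := Cfsg.Agent.Lib.Lead.exists_frob (F := F25) (q := 5) F25.card'
  have : u5MB.map σ = u5MB.map (fun x => x ^ 5) := by
    apply Matrix.ext
    intro i j
    rw [Matrix.map_apply, Matrix.map_apply, hσ]
  refine ⟨⟨u5slB, (Cfsg.Agent.S0279.mem_SU_iff' σ hσ u5slB).2 ?_⟩, rfl⟩
  show u5MBᵀ * u5MB.map σ = 1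
  rw [this]
  exact u5unitB

theorem compat_of_chk {P : PFun} {T T' S : ℕ} (hP : P = u5gen T T') (hok : P.ok 126 = true)
    {M : SU35} {M0 : Matrix (Fin 3) (Fin 3) F25} (hM : u5mat M = M0) (h : u5chk M0 T S = true) :
    Compat (P.perm 126) M := by
  intro i
  obtain ⟨h1, h2⟩ := u5chk_spec h i.1 i.2
  refine ⟨_, h1, ?_⟩
  rw [hM, h2]
  have : ((P.perm 126) i).1 = u5lk T i.1 := by
    rw [← (PgRep.perm hok) i, hP]
    rfl
  rw [this]

theorem exists_compat : ∀ h ∈ P126, ∃ M : SU35, Compat h M := by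
  intro h hh
  unfold P126 at hh
  induction hh using Subgroup.closure_induction with
  | mem s hs =>
    rcases hs with rfl | rfl
    · obtain ⟨M, hM⟩ := exists_gX
      exact ⟨M, compat_of_chk rfl u5Px_ok hM u5chkX⟩
    · obtain ⟨M, hM⟩ := exists_gB
      exact ⟨M, compat_of_chk rfl u5Pb_ok hM u5chkB⟩
  | one => exact ⟨1, compat_one⟩
  | mul a b _ _ iha ihb =>
    obtain ⟨M, hM⟩ := iha
    obtain ⟨M', hM'⟩ := ihb
    exact ⟨M * M', compat_mul _ _ _ _ hM hM'⟩
  | inv a _ iha =>
    obtain ⟨M, hM⟩ := iha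
    exact ⟨M⁻¹, compat_inv _ _ hM⟩

theorem u5indep_spec {i j : ℕ} (hi : i < 126) (hj : j < 126) (hij : i ≠ j) (l c : F25)
    (hc : c ≠ 0) (h : l • u5pt i = c • u5pt j) : False := by
  have h1 := (pgAll_iff _ _).1 ((pgAll_iff _ _).1 u5indep_all i hi) j hj
  have hne : Nat.beq i j = false := by
    cases hb : Nat.beq i j with
    | true => rw [Nat.beq_eq] at hb; exact absurd hb hij
    | false => rfl
  rw [hne, Bool.false_or] at h1
  have hw : ∀ a : Fin 3, u5pt j a = (c⁻¹ * l) * u5pt i a := by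
    intro a
    have := congrFun h a
    simp only [Pi.smul_apply, smul_eq_mul] at this
    rw [mul_assoc, this, ← mul_assoc, inv_mul_cancel₀ hc, one_mul]
  unfold u5indep at h1
  simp only [Bool.or_eq_true, Bool.not_eq_eq_eq_not, Bool.not_true, decide_eq_false_iff_not] at h1
  rcases h1 with (h1 | h1) | h1
  · apply h1; rw [hw 0, hw 1]; ring
  · apply h1; rw [hw 0, hw 2]; ring
  · apply h1; rw [hw 1, hw 2]; ring

theorem psu_card : Nat.card (Cfsg.PSU 3 F25 5) = 126000 := by
  have h := Cfsg.Agent.S0280.result (F := F25) (q := 5) F25.card' 3 (by norm_num)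
  rw [Finset.prod_range_succ, Finset.prod_range_succ, Finset.prod_range_succ,
    Finset.prod_range_zero] at h
  have e0 : Even 0 := by decide
  have e1 : ¬ Even 1 := by decide
  have e2 : Even 2 := by decide
  rw [if_pos e0, if_neg e1, if_pos e2] at h
  norm_num at h
  omega

/-- the isomorphism -/
theorem P126_iso : Nonempty (↥P126 ≃* Cfsg.PSU 3 F25 5) := by
  obtain ⟨Θ, hΘ⟩ := Cfsg.Agent.Lib.Helper12.U62.exists_hom_of_compat P126 (center SU35) Compat
    compat_mul compat_inv compat_uniq exists_compat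
  have hinj : Function.Injective Θ := by
    rw [injective_iff_map_eq_one]
    intro h hh
    obtain ⟨M, hM⟩ := exists_compat h.1 h.2
    have h1 := hΘ h M hM
    rw [hh] at h1
    have hMc : M ∈ center SU35 := by
      rw [← QuotientGroup.eq_one_iff]
      exact h1.symm
    obtain ⟨l, hl⟩ := Cfsg.Agent.S0279.central_is_scalar F25.card' (by norm_num) M.1 (by
      intro B hB
      have := Subgroup.mem_center_iff.1 hMc ⟨B, hB⟩
      exact (congrArg Subtype.val this).symm)
    apply Subtype.ext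
    apply Equiv.ext
    intro i
    by_contra hne
    obtain ⟨c, hc, e⟩ := hM i
    have e2 : u5mat M *ᵥ u5pt i.1 = l • u5pt i.1 := by
      show (M.1.1 : Matrix (Fin 3) (Fin 3) F25) *ᵥ u5pt i.1 = _
      rw [hl, Matrix.scalar_apply, ← Matrix.smul_one_eq_diagonal, Matrix.smul_mulVec,
        Matrix.one_mulVec]
    rw [e2] at e
    apply u5indep_spec i.2 (h.1 i).2 _ l c hc e
    intro hij
    apply hne
    exact (Fin.ext hij).symm
  have hfin : Finite (Cfsg.PSU 3 F25 5) := Nat.finite_of_card_ne_zero (by rw [psu_card]; norm_num)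
  have hbij : Function.Bijective Θ := by
    apply hinj.bijective_of_nat_card_le
    rw [psu_card]
    exact P126_card_ge
  exact ⟨MulEquiv.ofBijective Θ hbij⟩

theorem P126_card : Nat.card ↥P126 = 126000 := by
  obtain ⟨e⟩ := P126_iso
  rw [Nat.card_congr e.toEquiv, psu_card]

end Cfsg.Agent.Lib.helper14.U35
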