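import Cfsg.Agent.Lib.helper14.U35c

set_option autoImplicit false
set_option maxRecDepth 1000000

/-!
# A subgroup of order 2520 of the group on 126 points: the checks of the stabiliser chain
-/

namespace Cfsg.Agent.Lib.helper14.U35

open Cfsg.Agent.Lib.helper23 Subgroup MulAction

/-- the trivial rigid ambient group: all permutations, every point in the base -/
def u5RigidTop (n : ℕ) : PgRigid n where
  A := ⊤
  base := List.range n
  rigid := by
    intro g _ h
    apply Equiv.ext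
    intro i
    exact h i.1 (List.mem_range.2 i.2) i.2

theorem u5ChkLvlW_ofAll {n : ℕ} {base : List ℕ} {L : PgLvlW} {Ls : List PgLvlW}
    (h0 : pgChkLvlW0 n L Ls = true)
    (h1 : ∀ s ∈ L.own, pgChkGenW n base L Ls s 0 n = true) :
    pgChkLvlW n base L Ls = true := by
  unfold pgChkLvlW
  rw [h0, Bool.true_and, pgAllL_iff]
  exact h1

theorem uhcchk0x3 : pgChkLvlW0 126 uhcL3 [] = true := by decide +kernel

theorem uhcchk0x2 : pgChkLvlW0 126 uhcL2 [uhcL3] = true := by decide +kernel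

theorem uhcchk0x1 : pgChkLvlW0 126 uhcL1 [uhcL2, uhcL3] = true := by decide +kernel

theorem uhccl3x0 : pgChkGenW 126 (List.range 126) uhcL3 []
    (u5gen uhcT3x0 uhcI3x0) 0 126 = true := by
  decide +kernel

theorem uhccl3x1 : pgChkGenW 126 (List.range 126) uhcL3 []
    (u5gen uhcT3x1 uhcI3x1) 0 126 = true := by
  decide +kernel

theorem uhccl2x0 : pgChkGenW 126 (List.range 126) uhcL2 [uhcL3]
    (u5gen uhcT2x0 uhcI2x0) 0 126 = true := by
  decide +kernel

theorem uhccl2x1 : pgChkGenW 126 (List.range 126) uhcL2 [uhcL3]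
    (u5gen uhcT2x1 uhcI2x1) 0 126 = true := by
  decide +kernel

theorem uhccl1x0 : pgChkGenW 126 (List.range 126) uhcL1 [uhcL2, uhcL3]
    (u5gen uhcT1x0 uhcI1x0) 0 126 = true := by
  decide +kernel

theorem uhccl1x1 : pgChkGenW 126 (List.range 126) uhcL1 [uhcL2, uhcL3]
    (u5gen uhcT1x1 uhcI1x1) 0 126 = true := by
  decide +kernel

theorem uhcchkL3 : pgChkLvlW 126 (List.range 126) uhcL3 [] = true := by
  apply u5ChkLvlW_ofAll uhcchk0x3
  intro s hs
  change s ∈ [u5gen uhcT3x0 uhcI3x0, u5gen uhcT3x1 uhcI3x1] at hs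
  simp only [List.mem_cons, List.not_mem_nil, or_false] at hs
  rcases hs with rfl | rfl
  · exact uhccl3x0
  · exact uhccl3x1

theorem uhcchkL2 : pgChkLvlW 126 (List.range 126) uhcL2 [uhcL3] = true := by
  apply u5ChkLvlW_ofAll uhcchk0x2
  intro s hs
  change s ∈ [u5gen uhcT2x0 uhcI2x0, u5gen uhcT2x1 uhcI2x1] at hs
  simp only [List.mem_cons, List.not_mem_nil, or_false] at hs
  rcases hs with rfl | rfl
  · exact uhccl2x0
  · exact uhccl2x1

theorem uhcchkL1 : pgChkLvlW 126 (List.range 126) uhcL1 [uhcL2, uhcL3] = true := by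
  apply u5ChkLvlW_ofAll uhcchk0x1
  intro s hs
  change s ∈ [u5gen uhcT1x0 uhcI1x0, u5gen uhcT1x1 uhcI1x1] at hs
  simp only [List.mem_cons, List.not_mem_nil, or_false] at hs
  rcases hs with rfl | rfl
  · exact uhccl1x0
  · exact uhccl1x1

theorem uhchkC : pgChkW 126 (u5RigidTop 126).base uhC = true := by
  change pgChkW 126 (List.range 126) [uhcL1, uhcL2, uhcL3] = true
  rw [pgChkW_cons, pgChkW_cons, pgChkW_cons, uhcchkL1, uhcchkL2, uhcchkL3]
  rfl

theorem uhok : ∀ P ∈ pgOwnW uhC, P.ok 126 = true :=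
  pgChkW_own_ok 126 (u5RigidTop 126).base uhC uhchkC

theorem uhord : pgOrdW 126 uhC = 2520 := by decide +kernel

theorem uhcard : Nat.card (pgGrpW 126 uhC) = 2520 := by
  rw [pgCardW (u5RigidTop 126) uhC uhchkC le_top, uhord]

end Cfsg.Agent.Lib.helper14.U35
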