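import Cfsg.Agent.Lib.helper14.U35d
import Cfsg.Agent.Lib.helper14.U35e
import Cfsg.Agent.Lib.Helper27.U35A
import Cfsg.Agent.Lib.Helper10.U35T
import Cfsg.Agent.Lib.Helper1.U35D
import Cfsg.Agent.Lib.Helper1.U35I
import Cfsg.Agent.S0283

set_option autoImplicit false
set_option maxRecDepth 100000

/-!
# The minimal index of a proper subgroup of `PSU₃(5)` is 50
-/

namespace Cfsg.Agent.Lib.helper14.U35

open Cfsg.Agent.Lib.helper23 Cfsg.Agent.Lib.helper14.PV Subgroup MulAction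

theorem ugvalid : PgValidW 126 ugC := by
  apply (pgValid_of_card ugC ugchk0 _).1
  rw [uggrp_eq, P126_card, ugord]

theorem u5Sx_mem : u5Sx ∈ P126 := subset_closure (Or.inl rfl)

theorem u5Sb_mem : u5Sb ∈ P126 := subset_closure (Or.inr rfl)

/-! ### the element of order 7 -/

theorem u5x7chk : pgAll 126 (fun p => Nat.beq (pgIter u5Px.f 7 p) p) = true := by decide +kernel

theorem u5Sx_pow : u5Sx ^ 7 = 1 := by
  ext p
  have := (pgAll_iff _ _).1 u5x7chk p.1 p.2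
  rw [Nat.beq_eq, pgIter_perm u5Sx u5Px.f u5Rx 7 p] at this
  rw [this]
  rfl

theorem u5x0 : u5Px.f 0 ≠ 0 := by decide +kernel

theorem u5Sx_ne : u5Sx ≠ 1 := by
  intro h
  have := u5Rx (⟨0, by norm_num⟩ : Fin 126)
  rw [h] at this
  exact u5x0 this

theorem u5Sx_order : orderOf u5Sx = 7 := by
  haveI : Fact (Nat.Prime 7) := ⟨by norm_num⟩
  exact orderOf_eq_prime u5Sx_pow u5Sx_ne

theorem ugadapt : pgAdaptedW u5Px.f ugC = true := by decide +kernel

theorem ugcentchk : pgCentCycChk 126 u5Px.f [1] 7 ugcL1.b (ugcL1 :: [ugcL2, ugcL3]) 0 126 = true := by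
  decide +kernel

theorem u5cent : ∀ h ∈ P126, h * u5Sx = u5Sx * h → h ∈ zpowers u5Sx := by
  intro h hh
  rw [← uggrp_eq] at hh
  have hx : u5Sx ∈ pgGrpW 126 ugC := by rw [uggrp_eq]; exact u5Sx_mem
  exact pgCentCyc (L := ugcL1) (C := [ugcL2, ugcL3]) ugvalid u5Px.f u5Sx u5Rx hx ugadapt [1] 7
    ugcentchk h hh

theorem ugnoconjchk : pgNoConjChk 126 u5Px.f u5Px.g [1] (ugcL1 :: [ugcL2, ugcL3]) 0 126 = true := by
  decide +kernel

theorem u5noconj : ∀ h ∈ P126, h * u5Sx ≠ u5Sx⁻¹ * h := by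
  intro h hh
  rw [← uggrp_eq] at hh
  exact pgNoConj (L := ugcL1) (C := [ugcL2, ugcL3]) ugvalid u5Px.f u5Px.g u5Sx u5Sx⁻¹ u5Rx u5Rxi
    ugadapt [1] ugnoconjchk h hh

/-! ### the stabiliser of a point -/

theorem ugcount1 : pgCount 126 ugcL1.inO = 126 := by decide +kernel

theorem stab_card_aux (G : Subgroup (Equiv.Perm (Fin 126))) (hG : G = pgGrpW 126 ugC)
    (hcard : Nat.card ↥G = 126000) : Nat.card (stabilizer ↥G (0 : Fin 126)) = 1000 := by
  subst hG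
  obtain ⟨hb, hle, hfix, horb⟩ := pgLvl_facts (L := ugcL1) (C := [ugcL2, ugcL3]) ugchk0
  have hsub := lvlSet_subset horb
  have h0 : (⟨ugcL1.b, hb⟩ : Fin 126) = 0 := rfl
  rw [h0] at hsub
  have h1 : 126 ≤ (orbit ↥(pgGrpW 126 ugC) (0 : Fin 126)).ncard := by
    have h3 := Set.ncard_le_ncard hsub (Set.toFinite _)
    rw [lvlSet_ncard, ugcount1] at h3
    exact h3
  have h2 : (orbit ↥(pgGrpW 126 ugC) (0 : Fin 126)).ncard ≤ 126 := by
    have := Set.ncard_le_card (orbit ↥(pgGrpW 126 ugC) (0 : Fin 126))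
    rwa [Nat.card_eq_fintype_card, Fintype.card_fin] at this
  have e := card_eq_stab_mul_orbit (pgGrpW 126 ugC) (0 : Fin 126)
  rw [hcard, le_antisymm h2 h1] at e
  omega

theorem P126_stab : Nat.card (stabilizer ↥P126 (0 : Fin 126)) = 1000 :=
  stab_card_aux P126 uggrp_eq.symm P126_card

theorem ugL2all : pgAll 126 (fun z => Nat.beq z 0 || ugcL2.inO z) = true := by decide +kernel

theorem P126_trans : ∀ y z : Fin 126, y ≠ 0 → z ≠ 0 → ∃ g ∈ P126, g 0 = 0 ∧ g y = z := by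
  have hC2 : pgChk0W 126 [ugcL2, ugcL3] = true := by
    have := ugchk0
    rw [show ugC = ugcL1 :: [ugcL2, ugcL3] from rfl, pgChk0W_cons, Bool.and_eq_true] at this
    exact this.2
  obtain ⟨hb1, hle1, hfix1, -⟩ := pgLvl_facts (L := ugcL1) (C := [ugcL2, ugcL3]) ugchk0
  obtain ⟨hb2, -, -, horb2⟩ := pgLvl_facts (L := ugcL2) (C := [ugcL3]) hC2
  have h0 : (⟨ugcL1.b, hb1⟩ : Fin 126) = 0 := rfl
  rw [h0] at hfix1
  have key : ∀ y : Fin 126, y ≠ 0 → ∃ g ∈ pgGrpW 126 [ugcL2, ugcL3], g ⟨ugcL2.b, hb2⟩ = y := by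
    intro y hy
    apply horb2
    have := (pgAll_iff _ _).1 ugL2all y.1 y.2
    rw [Bool.or_eq_true, Nat.beq_eq] at this
    rcases this with h | h
    · exact absurd (Fin.ext h) hy
    · exact h
  intro y z hy hz
  obtain ⟨g1, hg1, e1⟩ := key y hy
  obtain ⟨g2, hg2, e2⟩ := key z hz
  refine ⟨g2 * g1⁻¹, ?_, ?_, ?_⟩
  · rw [← uggrp_eq]
    exact hle1 (mul_mem hg2 (inv_mem hg1))
  · exact hfix1 _ (mul_mem hg2 (inv_mem hg1))
  · rw [Equiv.Perm.mul_apply, ← e1]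
    simp [e2]

/-! ### the minimal index -/

theorem P126_simple : IsSimpleGroup ↥P126 := by
  obtain ⟨e⟩ := P126_iso
  have hsimple := Cfsg.Agent.S0283.result (F := F25) (q := 5) F25.card' 3 (le_refl 3) (by norm_num)
  exact e.isSimpleGroup

theorem P126_min : ∀ H : Subgroup ↥P126, H ≠ ⊤ → 50 ≤ H.index := by
  have hsimple := P126_simple
  obtain ⟨P, hN, hTI⟩ := Cfsg.Agent.Lib.Helper10.U35.exists_ti_sylow P126 P126_card 0 P126_stab
    P126_trans
  refine Cfsg.Agent.Lib.Helper27.U35.min_index_fifty P126_card P hN hTI ⟨u5Sx, u5Sx_mem⟩ ?_ ?_ ?_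
  · rw [Subgroup.orderOf_mk]
    exact u5Sx_order
  · intro g hg
    have h1 : g.1 * u5Sx = u5Sx * g.1 := congrArg Subtype.val hg
    obtain ⟨k, hk⟩ := Subgroup.mem_zpowers_iff.1 (u5cent g.1 g.2 h1)
    rw [Subgroup.mem_zpowers_iff]
    refine ⟨k, ?_⟩
    apply Subtype.ext
    rw [← hk]
    simp
  · intro g hg
    have h1 : g.1 * u5Sx * g.1⁻¹ = u5Sx⁻¹ := congrArg Subtype.val hg
    apply u5noconj g.1 g.2
    rw [← h1]
    group

/-! ### a subgroup of index 50 -/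

/-- the subgroup of order 2520 -/
def H126 : Subgroup (Equiv.Perm (Fin 126)) := closure {u5Sx, u5Sy}

theorem uhset_eq : pgSet 126 uhcL1.own = {u5Sx, u5Sy} := by
  ext x
  constructor
  · rintro ⟨P, hP, rfl⟩
    change P ∈ [u5Px, u5Py] at hP
    simp only [List.mem_cons, List.not_mem_nil, or_false] at hP
    rcases hP with rfl | rfl
    · exact Or.inl rfl
    · exact Or.inr rfl
  · rintro (rfl | rfl)
    · exact ⟨u5Px, List.mem_cons_self, rfl⟩
    · exact ⟨u5Py, List.mem_cons_of_mem _ List.mem_cons_self, rfl⟩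

theorem uhgrp_eq : pgGrpW 126 uhC = H126 := by
  unfold H126
  rw [← uhset_eq]
  rfl

theorem H126_card : Nat.card ↥H126 = 2520 := by
  rw [← uhgrp_eq]
  exact uhcard

theorem u5ysift : pgSiftW 126 (List.range 126) ugC u5Py.f = true := by decide +kernel

theorem u5Sy_mem : u5Sy ∈ P126 := by
  rw [← uggrp_eq]
  exact pgSiftW_sound' ugC ugchk0 u5Py.f u5Sy u5Ry u5ysift

theorem H126_le : H126 ≤ P126 := by
  unfold H126
  rw [closure_le]
  rintro x (rfl | rfl)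
  · exact u5Sx_mem
  · exact u5Sy_mem

theorem P126_index : ∃ H : Subgroup ↥P126, H.index = 50 := by
  refine ⟨H126.subgroupOf P126, ?_⟩
  have h1 : Nat.card ↥(H126.subgroupOf P126) = 2520 := by
    rw [Nat.card_congr (Subgroup.subgroupOfEquivOfLe H126_le).toEquiv, H126_card]
  have h2 := Subgroup.card_mul_index (H126.subgroupOf P126)
  rw [h1, P126_card] at h2
  omega

theorem P126_main : (∀ H : Subgroup ↥P126, H ≠ ⊤ → 50 ≤ H.index) ∧
    ∃ H : Subgroup ↥P126, H.index = 50 := ⟨P126_min, P126_index⟩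

theorem psu25_main : (∀ H : Subgroup (Cfsg.PSU 3 F25 5), H ≠ ⊤ → 50 ≤ H.index) ∧
    ∃ H : Subgroup (Cfsg.PSU 3 F25 5), H.index = 50 := by
  obtain ⟨e⟩ := P126_iso
  exact Cfsg.Agent.Lib.Helper1.U35.index_transfer e 50 P126_main

/-- the minimal index of a proper subgroup of `PSU₃(5)` -/
theorem psu_main {F : Type*} [Field F] [Fintype F] (hF : Fintype.card F = 25) :
    (∀ H : Subgroup (Cfsg.PSU 3 F 5), H ≠ ⊤ → 50 ≤ H.index) ∧
    ∃ H : Subgroup (Cfsg.PSU 3 F 5), H.index = 50 := by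
  have φ : F25 ≃+* F := FiniteField.ringEquivOfCardEq (by rw [F25.card, hF])
  obtain ⟨e⟩ := Cfsg.Agent.Lib.Helper1.U35.psu_congr φ 3 5
  exact Cfsg.Agent.Lib.Helper1.U35.index_transfer e 50 psu25_main

end Cfsg.Agent.Lib.helper14.U35
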