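import Cfsg.Agent.Lib.helper14.UPolA

/-!
# The Levi factor of the stabiliser of a pair of complementary totally singular subspaces
-/

set_option autoImplicit false

namespace Cfsg.Agent.Lib.helper14.UPolB

open Matrix Cfsg.Agent.Lib.helper14.UPolA

variable {F : Type*} [Field F] {n m : ℕ}

/-- the model Levi matrix `diag(A, σ(A'ᵀ))` (with `A' = A⁻¹`) -/
def LA (σ : F →+* F) (A A' : Matrix (Fin m) (Fin m) F) : Matrix (Fin m ⊕ Fin m) (Fin m ⊕ Fin m) F :=
  Matrix.fromBlocks A 0 0 ((A'ᵀ).map σ)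

theorem LA_mul (σ : F →+* F) (A A' B B' : Matrix (Fin m) (Fin m) F) :
    LA σ A A' * LA σ B B' = LA σ (A * B) (B' * A') := by
  simp only [LA, Matrix.fromBlocks_multiply, Matrix.mul_zero, Matrix.zero_mul, add_zero, zero_add,
    Matrix.transpose_mul, Matrix.map_mul]

theorem LA_one (σ : F →+* F) : LA σ (1 : Matrix (Fin m) (Fin m) F) 1 = 1 := by
  simp only [LA, Matrix.transpose_one]
  rw [Matrix.map_one σ (map_zero σ) (map_one σ), Matrix.fromBlocks_one]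

theorem LA_mulVec_inl (σ : F →+* F) (A A' : Matrix (Fin m) (Fin m) F) (x : Fin m ⊕ Fin m → F) (i : Fin m) :
    (LA σ A A' *ᵥ x) (Sum.inl i) = (A *ᵥ (x ∘ Sum.inl)) i := by
  simp [LA, Matrix.fromBlocks_mulVec]

theorem LA_mulVec_inr (σ : F →+* F) (A A' : Matrix (Fin m) (Fin m) F) (x : Fin m ⊕ Fin m → F) (i : Fin m) :
    (LA σ A A' *ᵥ x) (Sum.inr i) = (((A'ᵀ).map σ) *ᵥ (x ∘ Sum.inr)) i := by
  simp [LA, Matrix.fromBlocks_mulVec]

theorem hyp_eq_dot (σ : F →+* F) (x y : Fin m ⊕ Fin m → F) :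
    hyp σ x y = (x ∘ Sum.inl) ⬝ᵥ (σ ∘ (y ∘ Sum.inr)) + (x ∘ Sum.inr) ⬝ᵥ (σ ∘ (y ∘ Sum.inl)) := by
  simp only [hyp, dotProduct, Function.comp_apply, Finset.sum_add_distrib]

theorem sigma_mulVec (σ : F →+* F) (M : Matrix (Fin m) (Fin m) F) (v : Fin m → F) :
    σ ∘ (M *ᵥ v) = (M.map σ) *ᵥ (σ ∘ v) := by
  funext i
  simp only [Function.comp_apply, Matrix.mulVec, dotProduct, map_sum, map_mul, Matrix.map_apply]

/-- the model Levi matrix preserves the hyperbolic form -/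
theorem LA_hyp (σ : F →+* F) (hσσ : ∀ x, σ (σ x) = x) (A A' : Matrix (Fin m) (Fin m) F)
    (h : A' * A = 1) (x y : Fin m ⊕ Fin m → F) :
    hyp σ (LA σ A A' *ᵥ x) (LA σ A A' *ᵥ y) = hyp σ x y := by
  have hmm : ((A'ᵀ).map σ).map σ = A'ᵀ := by
    ext i j
    simp [hσσ]
  have e1 : (LA σ A A' *ᵥ x) ∘ Sum.inl = A *ᵥ (x ∘ Sum.inl) := by
    funext i; exact LA_mulVec_inl σ A A' x i
  have e2 : (LA σ A A' *ᵥ x) ∘ Sum.inr = ((A'ᵀ).map σ) *ᵥ (x ∘ Sum.inr) := by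
    funext i; exact LA_mulVec_inr σ A A' x i
  have e3 : (LA σ A A' *ᵥ y) ∘ Sum.inl = A *ᵥ (y ∘ Sum.inl) := by
    funext i; exact LA_mulVec_inl σ A A' y i
  have e4 : (LA σ A A' *ᵥ y) ∘ Sum.inr = ((A'ᵀ).map σ) *ᵥ (y ∘ Sum.inr) := by
    funext i; exact LA_mulVec_inr σ A A' y i
  rw [hyp_eq_dot, hyp_eq_dot, e1, e2, e3, e4, sigma_mulVec, sigma_mulVec, hmm]
  congr 1
  · rw [Matrix.dotProduct_mulVec, Matrix.vecMul_transpose, Matrix.mulVec_mulVec, h, Matrix.one_mulVec]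
  · rw [Matrix.dotProduct_mulVec, ← Matrix.vecMul_transpose, Matrix.vecMul_vecMul,
      Matrix.transpose_map, Matrix.transpose_transpose, ← Matrix.map_mul, h,
      Matrix.map_one σ (map_zero σ) (map_one σ), Matrix.vecMul_one]


section levi

variable (σ : F →+* F) (P : Matrix (Fin n) (Fin m ⊕ Fin m) F) (P' : Matrix (Fin m ⊕ Fin m) (Fin n) F)

/-- the Levi map into matrices -/
noncomputable def leviMat (h : P * P' = 1) (h' : P' * P = 1) :
    GL (Fin m) F →* Matrix (Fin n) (Fin n) F where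
  toFun A := P * LA σ (A : Matrix (Fin m) (Fin m) F) ((A⁻¹ : GL (Fin m) F) : Matrix (Fin m) (Fin m) F) * P'
  map_one' := by
    rw [inv_one, Units.val_one, LA_one, Matrix.mul_one, h]
  map_mul' A B := by
    rw [_root_.mul_inv_rev, Units.val_mul, Units.val_mul, ← LA_mul]
    generalize LA σ (A : Matrix (Fin m) (Fin m) F) ((A⁻¹ : GL (Fin m) F) : Matrix (Fin m) (Fin m) F) = X
    generalize LA σ (B : Matrix (Fin m) (Fin m) F) ((B⁻¹ : GL (Fin m) F) : Matrix (Fin m) (Fin m) F) = Y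
    calc P * (X * Y) * P'
        = P * X * (1 : Matrix (Fin m ⊕ Fin m) (Fin m ⊕ Fin m) F) * (Y * P') := by
          rw [Matrix.mul_one]; simp only [Matrix.mul_assoc]
      _ = P * X * P' * (P * Y * P') := by
          rw [← h']; simp only [Matrix.mul_assoc]

/-- the Levi map `GL_m(F) → GL_n(F)` -/
noncomputable def levi (h : P * P' = 1) (h' : P' * P = 1) : GL (Fin m) F →* GL (Fin n) F :=
  (leviMat σ P P' h h').toHomUnits

theorem levi_coe (h : P * P' = 1) (h' : P' * P = 1) (A : GL (Fin m) F) :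
    ((levi σ P P' h h' A : GL (Fin n) F) : Matrix (Fin n) (Fin n) F) =
      P * LA σ (A : Matrix (Fin m) (Fin m) F) ((A⁻¹ : GL (Fin m) F) : Matrix (Fin m) (Fin m) F) * P' := rfl

theorem levi_mulVec (h : P * P' = 1) (h' : P' * P = 1) (A : GL (Fin m) F) (v : Fin n → F) :
    P' *ᵥ (((levi σ P P' h h' A : GL (Fin n) F) : Matrix (Fin n) (Fin n) F) *ᵥ v) =
      LA σ (A : Matrix (Fin m) (Fin m) F) ((A⁻¹ : GL (Fin m) F) : Matrix (Fin m) (Fin m) F) *ᵥ (P' *ᵥ v) := by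
  rw [levi_coe, Matrix.mulVec_mulVec, Matrix.mulVec_mulVec]
  congr 1
  generalize LA σ (A : Matrix (Fin m) (Fin m) F) ((A⁻¹ : GL (Fin m) F) : Matrix (Fin m) (Fin m) F) = X
  calc P' * (P * X * P') = (P' * P) * X * P' := by simp only [Matrix.mul_assoc]
    _ = X * P' := by rw [h', Matrix.one_mul]

theorem levi_injective (h : P * P' = 1) (h' : P' * P = 1) : Function.Injective (levi σ P P' h h') := by
  rw [injective_iff_map_eq_one]
  intro A hA
  have h1 : P * LA σ (A : Matrix (Fin m) (Fin m) F) ((A⁻¹ : GL (Fin m) F) : Matrix (Fin m) (Fin m) F) * P' = 1 := by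
    rw [← levi_coe σ P P' h h' A, hA, Units.val_one]
  have h2 : LA σ (A : Matrix (Fin m) (Fin m) F) ((A⁻¹ : GL (Fin m) F) : Matrix (Fin m) (Fin m) F) = 1 := by
    revert h1
    generalize LA σ (A : Matrix (Fin m) (Fin m) F) ((A⁻¹ : GL (Fin m) F) : Matrix (Fin m) (Fin m) F) = X
    intro h1
    calc X = (P' * P) * X * (P' * P) := by rw [h', Matrix.one_mul, Matrix.mul_one]
      _ = P' * (P * X * P') * P := by simp only [Matrix.mul_assoc]
      _ = 1 := by rw [h1, Matrix.mul_one, h']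
  have h3 := congrArg Matrix.toBlocks₁₁ h2
  rw [LA, Matrix.toBlocks_fromBlocks₁₁, ← Matrix.fromBlocks_one, Matrix.toBlocks_fromBlocks₁₁] at h3
  exact Units.ext h3

theorem levi_det (h : P * P' = 1) (h' : P' * P = 1) (A : GL (Fin m) F) :
    ((levi σ P P' h h' A : GL (Fin n) F) : Matrix (Fin n) (Fin n) F).det =
      (A : Matrix (Fin m) (Fin m) F).det * σ ((A⁻¹ : GL (Fin m) F) : Matrix (Fin m) (Fin m) F).det := by
  rw [levi_coe, Matrix.det_conj_of_mul_eq_one h h', LA, Matrix.det_fromBlocks_zero₂₁]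
  congr 1
  have : ((((A⁻¹ : GL (Fin m) F) : Matrix (Fin m) (Fin m) F))ᵀ).map σ =
      σ.mapMatrix (((A⁻¹ : GL (Fin m) F) : Matrix (Fin m) (Fin m) F))ᵀ := rfl
  rw [this, ← RingHom.map_det, Matrix.det_transpose]


variable {σ P P'} {U W : Submodule F (Fin n → F)}

theorem levi_apply (hC : Coord σ U W P P') (A : GL (Fin m) F) (v : Fin n → F) :
    ((levi σ P P' hC.mul hC.mul' A : GL (Fin n) F) : Matrix (Fin n) (Fin n) F) *ᵥ v =
      P *ᵥ (LA σ (A : Matrix (Fin m) (Fin m) F) ((A⁻¹ : GL (Fin m) F) : Matrix (Fin m) (Fin m) F) *ᵥ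
        (P' *ᵥ v)) := by
  rw [levi_coe, Matrix.mulVec_mulVec, Matrix.mulVec_mulVec]

theorem coord_PP' (hC : Coord σ U W P P') (v : Fin n → F) : P *ᵥ (P' *ᵥ v) = v := by
  rw [Matrix.mulVec_mulVec, hC.mul, Matrix.one_mulVec]

theorem levi_iso (hC : Coord σ U W P P') (hσσ : ∀ x, σ (σ x) = x) (A : GL (Fin m) F)
    (v v' : Fin n → F) :
    hs σ (((levi σ P P' hC.mul hC.mul' A : GL (Fin n) F) : Matrix (Fin n) (Fin n) F) *ᵥ v)
      (((levi σ P P' hC.mul hC.mul' A : GL (Fin n) F) : Matrix (Fin n) (Fin n) F) *ᵥ v') = hs σ v v' := by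
  have hAA : ((A⁻¹ : GL (Fin m) F) : Matrix (Fin m) (Fin m) F) * (A : Matrix (Fin m) (Fin m) F) = 1 := by
    rw [← Units.val_mul, inv_mul_cancel, Units.val_one]
  rw [levi_apply hC, levi_apply hC, hC.iso, LA_hyp σ hσσ _ _ hAA, ← hC.iso, coord_PP' hC, coord_PP' hC]

theorem levi_memU (hC : Coord σ U W P P') (A : GL (Fin m) F) {v : Fin n → F} (hv : v ∈ U) :
    ((levi σ P P' hC.mul hC.mul' A : GL (Fin n) F) : Matrix (Fin n) (Fin n) F) *ᵥ v ∈ U := by
  rw [hC.memU] at hv ⊢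
  intro j
  rw [levi_mulVec, LA_mulVec_inr]
  have : (P' *ᵥ v) ∘ Sum.inr = 0 := funext hv
  rw [this, Matrix.mulVec_zero]
  rfl

theorem levi_memW (hC : Coord σ U W P P') (A : GL (Fin m) F) {v : Fin n → F} (hv : v ∈ W) :
    ((levi σ P P' hC.mul hC.mul' A : GL (Fin n) F) : Matrix (Fin n) (Fin n) F) *ᵥ v ∈ W := by
  rw [hC.memW] at hv ⊢
  intro i
  rw [levi_mulVec, LA_mulVec_inl]
  have : (P' *ᵥ v) ∘ Sum.inl = 0 := funext hv
  rw [this, Matrix.mulVec_zero]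
  rfl

/-- an invertible matrix mapping a subspace into itself, whose inverse does too, maps it onto itself -/
theorem map_eq_of_mem (S : Submodule F (Fin n → F)) (g : GL (Fin n) F)
    (h1 : ∀ v ∈ S, (g : Matrix (Fin n) (Fin n) F) *ᵥ v ∈ S)
    (h2 : ∀ v ∈ S, ((g⁻¹ : GL (Fin n) F) : Matrix (Fin n) (Fin n) F) *ᵥ v ∈ S) :
    S.map (Matrix.toLin' (g : Matrix (Fin n) (Fin n) F)) = S := by
  apply le_antisymm
  · rintro _ ⟨v, hv, rfl⟩
    rw [Matrix.toLin'_apply]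
    exact h1 v hv
  · intro v hv
    refine ⟨((g⁻¹ : GL (Fin n) F) : Matrix (Fin n) (Fin n) F) *ᵥ v, h2 v hv, ?_⟩
    rw [Matrix.toLin'_apply, Matrix.mulVec_mulVec, ← Units.val_mul, mul_inv_cancel, Units.val_one,
      Matrix.one_mulVec]

theorem levi_mapU (hC : Coord σ U W P P') (A : GL (Fin m) F) :
    U.map (Matrix.toLin' ((levi σ P P' hC.mul hC.mul' A : GL (Fin n) F) : Matrix (Fin n) (Fin n) F)) = U := by
  apply map_eq_of_mem
  · intro v hv
    exact levi_memU hC A hv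
  · intro v hv
    rw [← map_inv]
    exact levi_memU hC A⁻¹ hv

theorem levi_mapW (hC : Coord σ U W P P') (A : GL (Fin m) F) :
    W.map (Matrix.toLin' ((levi σ P P' hC.mul hC.mul' A : GL (Fin n) F) : Matrix (Fin n) (Fin n) F)) = W := by
  apply map_eq_of_mem
  · intro v hv
    exact levi_memW hC A hv
  · intro v hv
    rw [← map_inv]
    exact levi_memW hC A⁻¹ hv

end levi

end Cfsg.Agent.Lib.helper14.UPolB
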