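import Cfsg.Agent.Lib.helper14.UPolB
import Cfsg.Agent.Lib.helper14.UPolC
import Cfsg.Agent.S0277
import Cfsg.Agent.S0278
import Cfsg.Prelude.Def_GeometricClasses
import Cfsg.Prelude.Def_LieClassical

/-!
# S5984, part D: the index of the polar-pair stabilizer in `SU_n(q)` (glue)
-/

set_option autoImplicit false
open scoped MatrixGroups

namespace Cfsg.Agent.Lib.helper14.UPolD

open Matrix Cfsg.Agent.Lib.helper14.UPolA Cfsg.Agent.Lib.helper14.UPolB

variable {F : Type*} [Field F]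

theorem isCompl_of_dec {ι : Type} [Fintype ι] [DecidableEq ι] {k : ℕ}
    (D : Fin 2 → Submodule F (ι → F)) (hD : Cfsg.Geo.IsMDecomposition k D) : IsCompl (D 0) (D 1) := by
  constructor
  · exact hD.indep.pairwiseDisjoint (by decide : (0 : Fin 2) ≠ 1)
  · rw [codisjoint_iff, eq_top_iff, ← hD.iSup_eq_top]
    apply iSup_le
    intro i
    fin_cases i
    · exact le_sup_left
    · exact le_sup_right

theorem herm_eq_hs {n q : ℕ} (σ : F →+* F) (hσ : ∀ x, σ x = x ^ q) (u v : Fin n → F) :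
    Cfsg.hermForm n F q u v = hs σ u v := by
  simp only [Cfsg.hermForm, hs, hσ]

theorem mem_GU_iff_hs {n q : ℕ} (σ : F →+* F) (hσ : ∀ x, σ x = x ^ q) (g : GL (Fin n) F) :
    g ∈ Cfsg.GU n F q ↔ ∀ u v, hs σ ((g : Matrix (Fin n) (Fin n) F) *ᵥ u)
      ((g : Matrix (Fin n) (Fin n) F) *ᵥ v) = hs σ u v := by
  rw [Cfsg.Agent.S0278.mem_GU_iff]
  simp only [herm_eq_hs σ hσ]

theorem q_prime_pow [Fintype F] {p : ℕ} [Fact p.Prime] [CharP F p] {q : ℕ}
    (hq : Fintype.card F = q ^ 2) : ∃ k, 0 < k ∧ q = p ^ k := by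
  obtain ⟨k, -, hk⟩ := FiniteField.card F p
  have hdvd : q ∣ p ^ (k : ℕ) := ⟨q, by rw [← hk, hq]; ring⟩
  obtain ⟨j, -, rfl⟩ := (Nat.dvd_prime_pow (Fact.out : p.Prime)).mp hdvd
  refine ⟨j, ?_, rfl⟩
  rcases Nat.eq_zero_or_pos j with h | h
  · exfalso
    subst h
    have : 1 < Fintype.card F := Fintype.one_lt_card
    rw [hq] at this
    simp at this
  · exact h


/-- the relative index of `SL` in a subgroup `L` of `GU` divides `q + 1` -/
theorem relIndex_SL_dvd [Fintype F] [DecidableEq F] {n q : ℕ} (hq : Fintype.card F = q ^ 2) (hn : 1 ≤ n)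
    (L : Subgroup (GL (Fin n) F)) (hL : L ≤ Cfsg.GU n F q) :
    (Cfsg.GU n F q ⊓ Cfsg.Geo.specialLinear (Fin n) F).relIndex L ∣ q + 1 := by
  have h1 : (Cfsg.GU n F q ⊓ Cfsg.Geo.specialLinear (Fin n) F).relIndex L =
      (Cfsg.Geo.specialLinear (Fin n) F).relIndex L := by
    rw [← Subgroup.inf_relIndex_right, ← Subgroup.inf_relIndex_right (Cfsg.Geo.specialLinear (Fin n) F)]
    congr 1
    rw [inf_assoc, inf_comm (Cfsg.GU n F q), inf_assoc, inf_eq_left.mpr hL]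
  rw [h1]
  let φ : L →* Fˣ := (Matrix.GeneralLinearGroup.det : GL (Fin n) F →* Fˣ).comp L.subtype
  have h2 : (Cfsg.Geo.specialLinear (Fin n) F).subgroupOf L = φ.ker := by
    ext x
    rw [Subgroup.mem_subgroupOf, MonoidHom.mem_ker]
    rfl
  rw [Subgroup.relIndex, h2, Subgroup.index_ker]
  have h3 : φ.range ≤ (powMonoidHom (q + 1) : Fˣ →* Fˣ).ker := by
    rintro _ ⟨x, rfl⟩
    rw [← Cfsg.Agent.S0278.range_detGU hq hn]
    exact ⟨⟨x.1, hL x.2⟩, rfl⟩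
  have h4 := Subgroup.card_dvd_of_le h3
  rw [IsCyclic.card_powMonoidHom_ker] at h4
  exact h4.trans (Nat.gcd_dvd_right _ _)

theorem index_arith [Fintype F] {p : ℕ} [Fact p.Prime] [CharP F p] {q : ℕ} (hq : Fintype.card F = q ^ 2)
    (n : ℕ) (hn : 4 ≤ n) (he : Even n) (D : Fin 2 → Submodule F (Fin n → F))
    (hD : Cfsg.Geo.IsMDecomposition (n / 2) D)
    (hDs : ∀ i, Cfsg.Geo.IsTotallySingularFor (Cfsg.hermForm n F q) (D i))
    (r : ℕ) [Fact r.Prime] (hrp : r ≠ p)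
    (hΩ : r ∣ (Cfsg.Geo.decompositionStabilizer D).relIndex
      (Cfsg.GU n F q ⊓ Cfsg.Geo.specialLinear (Fin n) F)) :
    ∃ j, Odd j ∧ j ≤ n - 1 ∧ r ∣ q ^ j + 1 := by
  classical
  obtain ⟨σ, hσ⟩ := Cfsg.Agent.Lib.Lead.exists_frob hq
  have hσσ := Cfsg.Agent.Lib.Lead.frob_frob hq σ hσ
  obtain ⟨m, hm⟩ := he
  have hm2 : n / 2 = m := by omega
  rw [hm2] at hD
  have hc := isCompl_of_dec D hD
  have hU : ∀ u ∈ D 0, ∀ v ∈ D 0, hs σ u v = 0 := by
    intro u hu v hv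
    rw [← herm_eq_hs σ hσ]
    exact hDs 0 u hu v hv
  have hW : ∀ u ∈ D 1, ∀ v ∈ D 1, hs σ u v = 0 := by
    intro u hu v hv
    rw [← herm_eq_hs σ hσ]
    exact hDs 1 u hu v hv
  obtain ⟨P, P', hC⟩ := exists_coord hm σ hσσ (D 0) (D 1) hc hU hW (hD.finrank_eq 0) (hD.finrank_eq 1)
  set ψ := levi σ P P' hC.mul hC.mul' with hψ
  set L := ψ.range with hL
  have hLGU : L ≤ Cfsg.GU n F q := by
    rintro _ ⟨A, rfl⟩
    rw [mem_GU_iff_hs σ hσ]
    exact levi_iso hC hσσ A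
  have hLH : L ≤ Cfsg.Geo.decompositionStabilizer D := by
    rintro _ ⟨A, rfl⟩
    refine ⟨1, fun i => ?_⟩
    fin_cases i
    · exact levi_mapU hC A
    · exact levi_mapW hC A
  have hcardL : Nat.card L = Nat.card (GL (Fin m) F) :=
    (Nat.card_congr (MonoidHom.ofInjective (levi_injective σ P P' hC.mul hC.mul')).toEquiv).symm
  have h := Cfsg.Agent.Lib.helper14.UPolC.relIndex_mul_card_dvd (Cfsg.GU n F q)
    (Cfsg.GU n F q ⊓ Cfsg.Geo.specialLinear (Fin n) F) (Cfsg.Geo.decompositionStabilizer D) L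
    inf_le_left hLH (q + 1) (relIndex_SL_dvd hq (by omega) L hLGU)
  rw [hcardL, Matrix.card_GL_field, Cfsg.Agent.S0277.result hq n, hq] at h
  have hn2 : n = 2 * m := by omega
  generalize (Cfsg.Geo.decompositionStabilizer D).relIndex
    (Cfsg.GU n F q ⊓ Cfsg.Geo.specialLinear (Fin n) F) = X at h hΩ
  rw [hn2] at h
  obtain ⟨k, hk, hqk⟩ := q_prime_pow (p := p) hq
  have hq2 : 2 ≤ q := by
    rw [hqk]
    calc 2 ≤ p := (Fact.out : p.Prime).two_le
      _ = p ^ 1 := (pow_one p).symm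
      _ ≤ p ^ k := Nat.pow_le_pow_right (Fact.out : p.Prime).pos hk
  have hrq : ¬ r ∣ q := by
    intro hdvd
    rw [hqk] at hdvd
    have := (Fact.out : r.Prime).dvd_of_dvd_pow hdvd
    exact hrp ((Nat.prime_dvd_prime_iff_eq Fact.out Fact.out).mp this)
  rcases Cfsg.Agent.Lib.helper14.UPolC.arith q m r _ _ Fact.out hq2 hrq hΩ h with h1 | ⟨k', hk', h1⟩
  · exact ⟨1, odd_one, by omega, by rwa [pow_one]⟩
  · exact ⟨2 * k' + 1, ⟨k', rfl⟩, by omega, h1⟩

end Cfsg.Agent.Lib.helper14.UPolD
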