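import Cfsg.Agent.Lib.helper14.UPolD

/-!
# S5984, part E: `SU_n(q)` is transitive on ordered polar pairs (given hyperbolic coordinates)
-/

set_option autoImplicit false
open scoped MatrixGroups

namespace Cfsg.Agent.Lib.helper14.UPolE

open Matrix Cfsg.Agent.Lib.helper14.UPolA Cfsg.Agent.Lib.helper14.UPolB Cfsg.Agent.Lib.helper14.UPolD

variable {F : Type*} [Field F]

theorem card_units_sq [Fintype F] {q : ℕ} (hF : Fintype.card F = q ^ 2) :
    Nat.card Fˣ = (q - 1) * (q + 1) := by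
  rw [Nat.card_units, Nat.card_eq_fintype_card, hF]
  have : 1 ≤ q := by
    rcases Nat.eq_zero_or_pos q with h | h
    · subst h
      have : 1 < Fintype.card F := Fintype.one_lt_card
      rw [hF] at this
      simp at this
    · exact h
  obtain ⟨k, rfl⟩ : ∃ k, q = k + 1 := ⟨q - 1, by omega⟩
  simp only [Nat.add_sub_cancel]
  have : (k + 1) ^ 2 = k * (k + 1 + 1) + 1 := by ring
  omega

/-- Hilbert 90 for the quadratic extension of finite fields, cyclic group version. -/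
theorem exists_pow_q_sub_one [Fintype F] [DecidableEq F] {q : ℕ} (hF : Fintype.card F = q ^ 2) (hq2 : 2 ≤ q)
    (t : Fˣ) (ht : t ^ (q + 1) = 1) : ∃ d : Fˣ, d ^ (q - 1) = t := by
  have hle : (powMonoidHom (q - 1) : Fˣ →* Fˣ).range ≤ (powMonoidHom (q + 1) : Fˣ →* Fˣ).ker := by
    rintro _ ⟨x, rfl⟩
    rw [MonoidHom.mem_ker, powMonoidHom_apply, powMonoidHom_apply, ← pow_mul, ← card_units_sq hF]
    exact pow_card_eq_one'
  have hcard : Nat.card ↥((powMonoidHom (q + 1) : Fˣ →* Fˣ).ker) ≤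
      Nat.card ↥((powMonoidHom (q - 1) : Fˣ →* Fˣ).range) := by
    rw [IsCyclic.card_powMonoidHom_ker, IsCyclic.card_powMonoidHom_range, card_units_sq hF,
      Nat.gcd_mul_right_left, Nat.gcd_mul_left_left, Nat.mul_div_cancel_left _ (by omega : 0 < q - 1)]
  have heq := Subgroup.eq_of_le_of_card_ge hle hcard
  have : t ∈ (powMonoidHom (q - 1) : Fˣ →* Fˣ).range := by
    rw [heq, MonoidHom.mem_ker, powMonoidHom_apply]
    exact ht
  obtain ⟨d, hd⟩ := this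
  exact ⟨d, hd⟩

/-- an invertible matrix mapping `S` into `S'`, whose inverse maps `S'` into `S`, maps `S` onto `S'` -/
theorem map_eq_of_mem2 {n : ℕ} (S S' : Submodule F (Fin n → F)) (g : GL (Fin n) F)
    (h1 : ∀ v ∈ S, (g : Matrix (Fin n) (Fin n) F) *ᵥ v ∈ S')
    (h2 : ∀ v ∈ S', ((g⁻¹ : GL (Fin n) F) : Matrix (Fin n) (Fin n) F) *ᵥ v ∈ S) :
    S.map (Matrix.toLin' (g : Matrix (Fin n) (Fin n) F)) = S' := by
  apply le_antisymm
  · rintro _ ⟨v, hv, rfl⟩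
    rw [Matrix.toLin'_apply]
    exact h1 v hv
  · intro v hv
    refine ⟨((g⁻¹ : GL (Fin n) F) : Matrix (Fin n) (Fin n) F) *ᵥ v, h2 v hv, ?_⟩
    rw [Matrix.toLin'_apply, Matrix.mulVec_mulVec, ← Units.val_mul, mul_inv_cancel, Units.val_one,
      Matrix.one_mulVec]


theorem su_trans_coord [Fintype F] {q : ℕ} (hq : Fintype.card F = q ^ 2) (hq2 : 2 ≤ q) {n m : ℕ} (hm : 1 ≤ m)
    (hn : 1 ≤ n)
    (σ : F →+* F) (hσ : ∀ x, σ x = x ^ q) (hσσ : ∀ x, σ (σ x) = x)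
    (U W U' W' : Submodule F (Fin n → F))
    {P Q : Matrix (Fin n) (Fin m ⊕ Fin m) F} {P' Q' : Matrix (Fin m ⊕ Fin m) (Fin n) F}
    (hC : Coord σ U W P P') (hC' : Coord σ U' W' Q Q') :
    ∃ g : GL (Fin n) F, g ∈ Cfsg.GU n F q ⊓ Cfsg.Geo.specialLinear (Fin n) F ∧
      U.map (Matrix.toLin' (g : Matrix (Fin n) (Fin n) F)) = U' ∧
      W.map (Matrix.toLin' (g : Matrix (Fin n) (Fin n) F)) = W' := by
  classical
  have e1 : (Q * P') * (P * Q') = 1 := by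
    calc (Q * P') * (P * Q') = Q * (P' * P) * Q' := by simp only [Matrix.mul_assoc]
      _ = 1 := by rw [hC.mul', Matrix.mul_one, hC'.mul]
  have e2 : (P * Q') * (Q * P') = 1 := by
    calc (P * Q') * (Q * P') = P * (Q' * Q) * P' := by simp only [Matrix.mul_assoc]
      _ = 1 := by rw [hC'.mul', Matrix.mul_one, hC.mul]
  let g0 : GL (Fin n) F := ⟨Q * P', P * Q', e1, e2⟩
  have hg0 : (g0 : Matrix (Fin n) (Fin n) F) = Q * P' := rfl
  have hg0i : ((g0⁻¹ : GL (Fin n) F) : Matrix (Fin n) (Fin n) F) = P * Q' := rfl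
  have hg0GU : g0 ∈ Cfsg.GU n F q := by
    rw [mem_GU_iff_hs σ hσ]
    intro u v
    rw [hg0, ← Matrix.mulVec_mulVec, ← Matrix.mulVec_mulVec, hC'.iso, ← hC.iso, coord_PP' hC,
      coord_PP' hC]
  have hQQ : ∀ x, Q' *ᵥ (Q *ᵥ x) = x := by
    intro x
    rw [Matrix.mulVec_mulVec, hC'.mul', Matrix.one_mulVec]
  have hPP : ∀ x, P' *ᵥ (P *ᵥ x) = x := by
    intro x
    rw [Matrix.mulVec_mulVec, hC.mul', Matrix.one_mulVec]
  have hgU : ∀ v ∈ U, (g0 : Matrix (Fin n) (Fin n) F) *ᵥ v ∈ U' := by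
    intro v hv
    rw [hC'.memU, hg0, ← Matrix.mulVec_mulVec, hQQ]
    exact (hC.memU v).mp hv
  have hgW : ∀ v ∈ W, (g0 : Matrix (Fin n) (Fin n) F) *ᵥ v ∈ W' := by
    intro v hv
    rw [hC'.memW, hg0, ← Matrix.mulVec_mulVec, hQQ]
    exact (hC.memW v).mp hv
  have hgU' : ∀ v ∈ U', ((g0⁻¹ : GL (Fin n) F) : Matrix (Fin n) (Fin n) F) *ᵥ v ∈ U := by
    intro v hv
    rw [hC.memU, hg0i, ← Matrix.mulVec_mulVec, hPP]
    exact (hC'.memU v).mp hv
  have hgW' : ∀ v ∈ W', ((g0⁻¹ : GL (Fin n) F) : Matrix (Fin n) (Fin n) F) *ᵥ v ∈ W := by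
    intro v hv
    rw [hC.memW, hg0i, ← Matrix.mulVec_mulVec, hPP]
    exact (hC'.memW v).mp hv
  -- the determinant
  set c : Fˣ := Matrix.GeneralLinearGroup.det g0 with hc
  have hcN : c ^ (q + 1) = 1 := by
    have : c ∈ (Cfsg.Agent.S0278.detGU n F q).range := ⟨⟨g0, hg0GU⟩, rfl⟩
    rw [Cfsg.Agent.S0278.range_detGU hq hn, MonoidHom.mem_ker, powMonoidHom_apply] at this
    exact this
  obtain ⟨d, hd⟩ := exists_pow_q_sub_one hq hq2 c hcN
  haveI : Nonempty (Fin m) := ⟨⟨0, hm⟩⟩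
  obtain ⟨A, hA⟩ := Matrix.GeneralLinearGroup.det_surjective (n := Fin m) d
  set l : GL (Fin n) F := levi σ Q Q' hC'.mul hC'.mul' A with hl
  have hlGU : l ∈ Cfsg.GU n F q := by
    rw [mem_GU_iff_hs σ hσ]
    exact levi_iso hC' hσσ A
  have hdet : Matrix.GeneralLinearGroup.det (l * g0) = 1 := by
    rw [map_mul, ← hc]
    apply Units.ext
    rw [Units.val_mul, Matrix.GeneralLinearGroup.val_det_apply, hl, levi_det, Units.val_one]
    have h1 : (A : Matrix (Fin m) (Fin m) F).det = (d : F) := by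
      rw [← Matrix.GeneralLinearGroup.val_det_apply, hA]
    have h2 : ((A⁻¹ : GL (Fin m) F) : Matrix (Fin m) (Fin m) F).det = ((d⁻¹ : Fˣ) : F) := by
      rw [← Matrix.GeneralLinearGroup.val_det_apply, map_inv, hA]
    rw [h1, h2, ← hd, hσ, Units.val_pow_eq_pow_val, Units.val_inv_eq_inv_val, inv_pow]
    have hd0 : (d : F) ≠ 0 := d.ne_zero
    have : (d : F) ^ q = (d : F) ^ (q - 1) * d := by
      rw [← pow_succ]
      congr 1
      omega
    rw [this]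
    have h3 : (d : F) ^ (q - 1) ≠ 0 := pow_ne_zero _ hd0
    field_simp
  refine ⟨l * g0, ⟨mul_mem hlGU hg0GU, hdet⟩, ?_, ?_⟩
  · rw [Units.val_mul, Matrix.toLin'_mul, Submodule.map_comp, map_eq_of_mem2 U U' g0 hgU hgU']
    exact levi_mapU hC' A
  · rw [Units.val_mul, Matrix.toLin'_mul, Submodule.map_comp, map_eq_of_mem2 W W' g0 hgW hgW']
    exact levi_mapW hC' A


theorem two_le_q [Fintype F] {q : ℕ} (hq : Fintype.card F = q ^ 2) : 2 ≤ q := by
  by_contra h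
  have h1 : q = 0 ∨ q = 1 := by omega
  have : 1 < Fintype.card F := Fintype.one_lt_card
  rw [hq] at this
  rcases h1 with h1 | h1 <;> simp [h1] at this

/-- hyperbolic coordinates for a polar pair given as in the statement -/
theorem exists_coord_dec [Fintype F] {q : ℕ} (hq : Fintype.card F = q ^ 2) {n m : ℕ} (hn : n = m + m)
    (σ : F →+* F) (hσ : ∀ x, σ x = x ^ q) (hσσ : ∀ x, σ (σ x) = x)
    (D : Fin 2 → Submodule F (Fin n → F)) (hD : Cfsg.Geo.IsMDecomposition m D)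
    (hDs : ∀ i, Cfsg.Geo.IsTotallySingularFor (Cfsg.hermForm n F q) (D i)) :
    ∃ (P : Matrix (Fin n) (Fin m ⊕ Fin m) F) (P' : Matrix (Fin m ⊕ Fin m) (Fin n) F),
      Coord σ (D 0) (D 1) P P' := by
  have hc := isCompl_of_dec D hD
  have hU : ∀ u ∈ D 0, ∀ v ∈ D 0, hs σ u v = 0 := by
    intro u hu v hv
    rw [← herm_eq_hs σ hσ]
    exact hDs 0 u hu v hv
  have hW : ∀ u ∈ D 1, ∀ v ∈ D 1, hs σ u v = 0 := by
    intro u hu v hv
    rw [← herm_eq_hs σ hσ]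
    exact hDs 1 u hu v hv
  exact exists_coord hn σ hσσ (D 0) (D 1) hc hU hW (hD.finrank_eq 0) (hD.finrank_eq 1)

/-- `SU_n(q)` is transitive on (ordered) polar pairs -/
theorem su_trans [Fintype F] {q : ℕ} (hq : Fintype.card F = q ^ 2) {n m : ℕ} (hn : n = m + m) (hm : 1 ≤ m)
    (D D' : Fin 2 → Submodule F (Fin n → F)) (hD : Cfsg.Geo.IsMDecomposition m D)
    (hDs : ∀ i, Cfsg.Geo.IsTotallySingularFor (Cfsg.hermForm n F q) (D i))
    (hD' : Cfsg.Geo.IsMDecomposition m D')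
    (hDs' : ∀ i, Cfsg.Geo.IsTotallySingularFor (Cfsg.hermForm n F q) (D' i)) :
    ∃ g : GL (Fin n) F, g ∈ Cfsg.GU n F q ⊓ Cfsg.Geo.specialLinear (Fin n) F ∧
      ∀ i, (D i).map (Matrix.toLin' (g : Matrix (Fin n) (Fin n) F)) = D' i := by
  obtain ⟨σ, hσ⟩ := Cfsg.Agent.Lib.Lead.exists_frob hq
  have hσσ := Cfsg.Agent.Lib.Lead.frob_frob hq σ hσ
  obtain ⟨P, P', hC⟩ := exists_coord_dec hq hn σ hσ hσσ D hD hDs
  obtain ⟨Q, Q', hC'⟩ := exists_coord_dec hq hn σ hσ hσσ D' hD' hDs'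
  obtain ⟨g, hg, h0, h1⟩ := su_trans_coord hq (two_le_q hq) hm (by omega) σ hσ hσσ _ _ _ _ hC hC'
  refine ⟨g, hg, fun i => ?_⟩
  fin_cases i
  · exact h0
  · exact h1

/-- an element stabilising some polar pair is `SU`-conjugate into the stabiliser of the given one -/
theorem conj_mem_stab [Fintype F] {q : ℕ} (hq : Fintype.card F = q ^ 2) {n m : ℕ} (hn : n = m + m) (hm : 1 ≤ m)
    (D D' : Fin 2 → Submodule F (Fin n → F)) (hD : Cfsg.Geo.IsMDecomposition m D)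
    (hDs : ∀ i, Cfsg.Geo.IsTotallySingularFor (Cfsg.hermForm n F q) (D i))
    (hD' : Cfsg.Geo.IsMDecomposition m D')
    (hDs' : ∀ i, Cfsg.Geo.IsTotallySingularFor (Cfsg.hermForm n F q) (D' i))
    (x : GL (Fin n) F) (hx : x ∈ Cfsg.Geo.decompositionStabilizer D') :
    ∃ g ∈ Cfsg.GU n F q ⊓ Cfsg.Geo.specialLinear (Fin n) F,
      g⁻¹ * x * g ∈ Cfsg.Geo.decompositionStabilizer D := by
  obtain ⟨g, hg, hgD⟩ := su_trans hq hn hm D D' hD hDs hD' hDs'
  refine ⟨g, hg, ?_⟩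
  obtain ⟨π, hπ⟩ := hx
  refine ⟨π, fun i => ?_⟩
  have hinv : ∀ j, (D' j).map (Matrix.toLin' ((g⁻¹ : GL (Fin n) F) : Matrix (Fin n) (Fin n) F)) = D j := by
    intro j
    rw [← hgD j, ← Submodule.map_comp, ← Matrix.toLin'_mul, ← Units.val_mul, inv_mul_cancel,
      Units.val_one, Matrix.toLin'_one, Submodule.map_id]
  rw [Units.val_mul, Units.val_mul, Matrix.toLin'_mul, Matrix.toLin'_mul, Submodule.map_comp,
    Submodule.map_comp, hgD, hπ, hinv]

end Cfsg.Agent.Lib.helper14.UPolE
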