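import Cfsg.Agent.Lib.helper14.UPolE

/-!
# S5984, part F: polar pairs from totally singular complements and from hyperbolic frames
-/

set_option autoImplicit false
open scoped MatrixGroups

namespace Cfsg.Agent.Lib.helper14.UPolF

open Matrix Cfsg.Agent.Lib.helper14.UPolA Cfsg.Agent.Lib.helper14.UPolB Cfsg.Agent.Lib.helper14.UPolD

variable {F : Type*} [Field F]

/-- if `U`, `W` are complementary and `U` is totally singular then `dim U ≤ dim W` -/
theorem finrank_le_of_ts {n : ℕ} (σ : F →+* F)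
    (U W : Submodule F (Fin n → F)) (hc : IsCompl U W)
    (hU : ∀ u ∈ U, ∀ v ∈ U, hs σ u v = 0) :
    Module.finrank F U ≤ Module.finrank F W := by
  classical
  obtain ⟨k, hk⟩ : ∃ k, Module.finrank F W = k := ⟨_, rfl⟩
  let bW : Module.Basis (Fin k) F W := Module.finBasisOfFinrankEq F W hk
  let Φ : U →ₗ[F] (Fin k → F) :=
    { toFun := fun u j => hs σ (u : Fin n → F) (bW j : Fin n → F)
      map_add' := by
        intro u u'
        funext j
        simp only [Submodule.coe_add, Pi.add_apply, hs_add_left]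
      map_smul' := by
        intro c u
        funext j
        simp only [Submodule.coe_smul, Pi.smul_apply, hs_smul_left, RingHom.id_apply, smul_eq_mul] }
  have hinj : Function.Injective Φ := by
    rw [← LinearMap.ker_eq_bot, LinearMap.ker_eq_bot']
    intro u hu
    have hj : ∀ j, hs σ (u : Fin n → F) (bW j : Fin n → F) = 0 := fun j => congrFun hu j
    have hw : ∀ w ∈ W, hs σ (u : Fin n → F) w = 0 := by
      intro w hw
      have hrepr := bW.sum_repr ⟨w, hw⟩
      have hw' : w = ∑ j, (bW.repr ⟨w, hw⟩ j) • (bW j : Fin n → F) := by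
        have := congrArg (fun x : W => (x : Fin n → F)) hrepr
        simp only [Submodule.coe_sum, Submodule.coe_smul] at this
        exact this.symm
      rw [hw', hs_sum_right]
      apply Finset.sum_eq_zero
      intro j _
      rw [hs_smul_right, hj j, mul_zero]
    have h0 : (u : Fin n → F) = 0 := by
      apply hs_nondeg σ
      intro v
      have hv : v ∈ U ⊔ W := by rw [hc.sup_eq_top]; exact Submodule.mem_top
      obtain ⟨u', hu', w', hw', rfl⟩ := Submodule.mem_sup.mp hv
      rw [hs_add_right, hU _ u.2 _ hu', hw _ hw', add_zero]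
    exact Subtype.ext h0
  have := LinearMap.finrank_le_finrank_of_injective hinj
  rw [Module.finrank_fintype_fun_eq_card, Fintype.card_fin] at this
  rw [hk]
  exact this

theorem finrank_eq_of_ts_pair {n m : ℕ} (hn : n = m + m) (σ : F →+* F)
    (U W : Submodule F (Fin n → F)) (hc : IsCompl U W)
    (hU : ∀ u ∈ U, ∀ v ∈ U, hs σ u v = 0) (hW : ∀ u ∈ W, ∀ v ∈ W, hs σ u v = 0) :
    Module.finrank F U = m ∧ Module.finrank F W = m := by
  have h1 := finrank_le_of_ts σ U W hc hU
  have h2 := finrank_le_of_ts σ W U hc.symm hW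
  have h3 := Submodule.finrank_add_eq_of_isCompl hc
  rw [Module.finrank_fintype_fun_eq_card, Fintype.card_fin] at h3
  omega

/-- a pair of complementary totally singular subspaces is a polar pair in the sense of the statement -/
theorem dec_of_ts_pair {n m q : ℕ} (hn : n = m + m) (hm : 0 < m) (σ : F →+* F) (hσ : ∀ x, σ x = x ^ q)
    (U W : Submodule F (Fin n → F)) (hc : IsCompl U W)
    (hU : ∀ u ∈ U, ∀ v ∈ U, hs σ u v = 0) (hW : ∀ u ∈ W, ∀ v ∈ W, hs σ u v = 0) :
    Cfsg.Geo.IsMDecomposition m ![U, W] ∧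
      ∀ i, Cfsg.Geo.IsTotallySingularFor (Cfsg.hermForm n F q) (![U, W] i) := by
  obtain ⟨h1, h2⟩ := finrank_eq_of_ts_pair hn σ U W hc hU hW
  refine ⟨⟨le_refl 2, hm, ?_, ?_, ?_⟩, ?_⟩
  · intro i
    fin_cases i
    · exact h1
    · exact h2
  · rw [iSupIndep_pair (by decide : (0 : Fin 2) ≠ 1) (by intro k; fin_cases k <;> simp)]
    exact hc.disjoint
  · rw [eq_top_iff, ← hc.sup_eq_top]
    apply sup_le
    · exact le_iSup (![U, W]) 0
    · exact le_iSup (![U, W]) 1
  · intro i
    fin_cases i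
    · intro u hu v hv
      rw [herm_eq_hs σ hσ]
      exact hU u hu v hv
    · intro u hu v hv
      rw [herm_eq_hs σ hσ]
      exact hW u hu v hv


/-- hyperbolic coordinates from a given hyperbolic frame -/
theorem coord_of_frame {n m : ℕ} (hn : n = m + m) (σ : F →+* F) (hσσ : ∀ x, σ (σ x) = x)
    (U W : Submodule F (Fin n → F))
    (hU : ∀ u ∈ U, ∀ v ∈ U, hs σ u v = 0) (hW : ∀ u ∈ W, ∀ v ∈ W, hs σ u v = 0)
    (a b : Fin m → Fin n → F) (haU : ∀ i, a i ∈ U) (hbW : ∀ j, b j ∈ W)
    (hab : ∀ i j, hs σ (a i) (b j) = if i = j then 1 else 0) :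
    ∃ (P : Matrix (Fin n) (Fin m ⊕ Fin m) F) (P' : Matrix (Fin m ⊕ Fin m) (Fin n) F),
      Coord σ U W P P' := by
  classical
  have haa : ∀ i j, hs σ (a i) (a j) = 0 := fun i j => hU _ (haU i) _ (haU j)
  have hbb : ∀ i j, hs σ (b i) (b j) = 0 := fun i j => hW _ (hbW i) _ (hbW j)
  set P : Matrix (Fin n) (Fin m ⊕ Fin m) F := colMat (Sum.elim a b) with hP
  have hiso := frame_isometry σ hσσ a b haa hbb hab
  let β : (Fin m ⊕ Fin m → F) →ₗ[F] (Fin n → F) := Matrix.toLin' P
  have hβ : ∀ x, β x = P *ᵥ x := fun x => Matrix.toLin'_apply P x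
  have hinj : Function.Injective β := by
    rw [← LinearMap.ker_eq_bot, LinearMap.ker_eq_bot']
    intro x hx
    apply hyp_nondeg σ
    intro y
    rw [← hiso, ← hβ, hx, hs_zero_left]
  have hfr : Module.finrank F (Fin m ⊕ Fin m → F) = Module.finrank F (Fin n → F) := by
    rw [Module.finrank_fintype_fun_eq_card, Module.finrank_fintype_fun_eq_card, Fintype.card_sum,
      Fintype.card_fin, Fintype.card_fin, hn]
  let βe : (Fin m ⊕ Fin m → F) ≃ₗ[F] (Fin n → F) := LinearEquiv.ofInjectiveOfFinrankEq β hinj hfr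
  have hβe : ∀ x, βe x = P *ᵥ x := fun x => hβ x
  set P' : Matrix (Fin m ⊕ Fin m) (Fin n) F :=
    LinearMap.toMatrix' (βe.symm : (Fin n → F) →ₗ[F] (Fin m ⊕ Fin m → F)) with hP'
  have hP'v : ∀ v, P' *ᵥ v = βe.symm v := fun v => by
    rw [hP', LinearMap.toMatrix'_mulVec]; rfl
  have h1 : ∀ v, P *ᵥ (P' *ᵥ v) = v := by
    intro v
    rw [hP'v, ← hβe, LinearEquiv.apply_symm_apply]
  have h2 : ∀ x, P' *ᵥ (P *ᵥ x) = x := by
    intro x
    rw [hP'v, ← hβe, LinearEquiv.symm_apply_apply]
  have hmul : P * P' = 1 := by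
    rw [Matrix.ext_iff_mulVec]
    intro v
    rw [← Matrix.mulVec_mulVec, h1, Matrix.one_mulVec]
  have hmul' : P' * P = 1 := by
    rw [Matrix.ext_iff_mulVec]
    intro v
    rw [← Matrix.mulVec_mulVec, h2, Matrix.one_mulVec]
  have hPa : ∀ i, P *ᵥ Pi.single (Sum.inl i) 1 = a i := fun i => by
    rw [hP, colMat_single]; rfl
  have hPb : ∀ j, P *ᵥ Pi.single (Sum.inr j) 1 = b j := fun j => by
    rw [hP, colMat_single]; rfl
  have hcoordR : ∀ v j, (P' *ᵥ v) (Sum.inr j) = hs σ v (a j) := by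
    intro v j
    conv_rhs => rw [← h1 v, ← hPa j, hiso, hyp_single_inl]
  have hcoordL : ∀ v i, (P' *ᵥ v) (Sum.inl i) = hs σ v (b i) := by
    intro v i
    conv_rhs => rw [← h1 v, ← hPb i, hiso, hyp_single_inr]
  have hexp : ∀ v, v = ∑ i, (P' *ᵥ v) (Sum.inl i) • a i + ∑ j, (P' *ᵥ v) (Sum.inr j) • b j := by
    intro v
    conv_lhs => rw [← h1 v, hP, colMat_mulVec, Fintype.sum_sum_type]
    rfl
  refine ⟨P, P', hmul, hmul', hiso, fun v => ⟨fun hv j => ?_, fun hv => ?_⟩,
    fun v => ⟨fun hv i => ?_, fun hv => ?_⟩⟩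
  · rw [hcoordR]
    exact hU _ hv _ (haU j)
  · rw [hexp v]
    simp only [hv, zero_smul, Finset.sum_const_zero, add_zero]
    exact Submodule.sum_mem _ (fun i _ => Submodule.smul_mem _ _ (haU i))
  · rw [hcoordL]
    exact hW _ hv _ (hbW i)
  · rw [hexp v]
    simp only [hv, zero_smul, Finset.sum_const_zero, zero_add]
    exact Submodule.sum_mem _ (fun i _ => Submodule.smul_mem _ _ (hbW i))


theorem isCompl_of_coord {n m : ℕ} {σ : F →+* F} {U W : Submodule F (Fin n → F)}
    {P : Matrix (Fin n) (Fin m ⊕ Fin m) F} {P' : Matrix (Fin m ⊕ Fin m) (Fin n) F}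
    (hC : Coord σ U W P P') : IsCompl U W := by
  have hPP : ∀ x, P' *ᵥ (P *ᵥ x) = x := by
    intro x
    rw [Matrix.mulVec_mulVec, hC.mul', Matrix.one_mulVec]
  constructor
  · rw [Submodule.disjoint_def]
    intro v hU hW
    rw [hC.memU] at hU
    rw [hC.memW] at hW
    have h0 : P' *ᵥ v = 0 := by
      funext s
      rcases s with i | j
      · exact hW i
      · exact hU j
    rw [← coord_PP' hC v, h0, Matrix.mulVec_zero]
  · rw [codisjoint_iff, eq_top_iff]
    intro v _
    rw [Submodule.mem_sup]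
    refine ⟨P *ᵥ (Sum.elim (fun i => (P' *ᵥ v) (Sum.inl i)) (fun _ => 0)), ?_,
      P *ᵥ (Sum.elim (fun _ => 0) (fun j => (P' *ᵥ v) (Sum.inr j))), ?_, ?_⟩
    · rw [hC.memU]
      intro j
      rw [hPP]
      rfl
    · rw [hC.memW]
      intro i
      rw [hPP]
      rfl
    · rw [← Matrix.mulVec_add]
      conv_rhs => rw [← coord_PP' hC v]
      congr 1
      funext s
      rcases s with i | j
      · simp
      · simp

/-- the span of a family with vanishing Gram matrix is totally singular -/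
theorem ts_span {n : ℕ} {κ : Type*} (σ : F →+* F) (a : κ → Fin n → F)
    (haa : ∀ i j, hs σ (a i) (a j) = 0) :
    ∀ u ∈ Submodule.span F (Set.range a), ∀ v ∈ Submodule.span F (Set.range a), hs σ u v = 0 := by
  intro u hu v hv
  induction hu using Submodule.span_induction with
  | mem x hx =>
    obtain ⟨i, rfl⟩ := hx
    induction hv using Submodule.span_induction with
    | mem y hy =>
      obtain ⟨j, rfl⟩ := hy
      exact haa i j
    | zero => exact hs_zero_right σ _
    | add y y' _ _ h1 h2 => rw [hs_add_right, h1, h2, add_zero]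
    | smul c y _ h1 => rw [hs_smul_right, h1, mul_zero]
  | zero => exact hs_zero_left σ _
  | add x x' _ _ h1 h2 => rw [hs_add_left, h1, h2, add_zero]
  | smul c x _ h1 => rw [hs_smul_left, h1, mul_zero]


/-- a hyperbolic frame spans a polar pair -/
theorem dec_of_frame {n m q : ℕ} (hn : n = m + m) (hm : 0 < m) (σ : F →+* F) (hσ : ∀ x, σ x = x ^ q)
    (hσσ : ∀ x, σ (σ x) = x) (a b : Fin m → Fin n → F)
    (haa : ∀ i j, hs σ (a i) (a j) = 0) (hbb : ∀ i j, hs σ (b i) (b j) = 0)
    (hab : ∀ i j, hs σ (a i) (b j) = if i = j then 1 else 0) :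
    Cfsg.Geo.IsMDecomposition m ![Submodule.span F (Set.range a), Submodule.span F (Set.range b)] ∧
      ∀ i, Cfsg.Geo.IsTotallySingularFor (Cfsg.hermForm n F q)
        (![Submodule.span F (Set.range a), Submodule.span F (Set.range b)] i) := by
  have hU := ts_span σ a haa
  have hW := ts_span σ b hbb
  obtain ⟨P, P', hC⟩ := coord_of_frame hn σ hσσ _ _ hU hW a b
    (fun i => Submodule.subset_span ⟨i, rfl⟩) (fun j => Submodule.subset_span ⟨j, rfl⟩) hab
  exact dec_of_ts_pair hn hm σ hσ _ _ (isCompl_of_coord hC) hU hW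

theorem gl_mulVec_injective {n : ℕ} (g : GL (Fin n) F) :
    Function.Injective (Matrix.toLin' (g : Matrix (Fin n) (Fin n) F)) := by
  apply Function.LeftInverse.injective (g := Matrix.toLin' ((g⁻¹ : GL (Fin n) F) : Matrix (Fin n) (Fin n) F))
  intro v
  rw [Matrix.toLin'_apply, Matrix.toLin'_apply, Matrix.mulVec_mulVec, ← Units.val_mul, inv_mul_cancel,
    Units.val_one, Matrix.one_mulVec]

/-- an invertible matrix mapping a subspace into itself maps it onto itself -/
theorem map_eq_of_le {n : ℕ} (S : Submodule F (Fin n → F)) (g : GL (Fin n) F)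
    (h : S.map (Matrix.toLin' (g : Matrix (Fin n) (Fin n) F)) ≤ S) :
    S.map (Matrix.toLin' (g : Matrix (Fin n) (Fin n) F)) = S := by
  apply Submodule.eq_of_le_of_finrank_eq h
  exact (Submodule.equivMapOfInjective _ (gl_mulVec_injective g) S).finrank_eq.symm

theorem mem_stab_of_le {n : ℕ} (U W : Submodule F (Fin n → F)) (x : GL (Fin n) F)
    (hU : U.map (Matrix.toLin' (x : Matrix (Fin n) (Fin n) F)) ≤ U)
    (hW : W.map (Matrix.toLin' (x : Matrix (Fin n) (Fin n) F)) ≤ W) :
    x ∈ Cfsg.Geo.decompositionStabilizer ![U, W] := by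
  refine ⟨1, fun i => ?_⟩
  fin_cases i
  · exact map_eq_of_le U x hU
  · exact map_eq_of_le W x hW

/-- `x` maps the span of a family of eigenvectors into itself -/
theorem map_span_le_of_eigen {n : ℕ} {κ : Type*} (x : Matrix (Fin n) (Fin n) F) (a : κ → Fin n → F)
    (c : κ → F) (h : ∀ i, x *ᵥ a i = c i • a i) :
    (Submodule.span F (Set.range a)).map (Matrix.toLin' x) ≤ Submodule.span F (Set.range a) := by
  rw [Submodule.map_span_le]
  rintro _ ⟨i, rfl⟩
  rw [Matrix.toLin'_apply, h]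
  exact Submodule.smul_mem _ _ (Submodule.subset_span ⟨i, rfl⟩)

end Cfsg.Agent.Lib.helper14.UPolF
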