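import Cfsg.Agent.Lib.helper14.UPolF

/-!
# S5984, part G: eigenspaces of an isometry `x` with `x² = μ²`
-/

set_option autoImplicit false
open scoped MatrixGroups

namespace Cfsg.Agent.Lib.helper14.UPolG

open Matrix Cfsg.Agent.Lib.helper14.UPolA Cfsg.Agent.Lib.helper14.UPolB Cfsg.Agent.Lib.helper14.UPolD

variable {F : Type*} [Field F] {n : ℕ}

/-- the `c`-eigenspace of the matrix `x` -/
def eig (x : Matrix (Fin n) (Fin n) F) (c : F) : Submodule F (Fin n → F) where
  carrier := {v | x *ᵥ v = c • v}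
  add_mem' := by
    intro u v hu hv
    simp only [Set.mem_setOf_eq] at hu hv ⊢
    rw [Matrix.mulVec_add, hu, hv, smul_add]
  zero_mem' := by
    simp only [Set.mem_setOf_eq]
    rw [Matrix.mulVec_zero, smul_zero]
  smul_mem' := by
    intro a v hv
    simp only [Set.mem_setOf_eq] at hv ⊢
    rw [Matrix.mulVec_smul, hv, smul_comm]

theorem mem_eig (x : Matrix (Fin n) (Fin n) F) (c : F) (v : Fin n → F) :
    v ∈ eig x c ↔ x *ᵥ v = c • v := Iff.rfl

theorem isCompl_eig (x : Matrix (Fin n) (Fin n) F) (μ : F) (hμ : μ ≠ 0) (h2 : (2 : F) ≠ 0)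
    (hx : x * x = (μ * μ) • (1 : Matrix (Fin n) (Fin n) F)) :
    IsCompl (eig x μ) (eig x (-μ)) := by
  have hXX : ∀ v, x *ᵥ (x *ᵥ v) = (μ * μ) • v := by
    intro v
    rw [Matrix.mulVec_mulVec, hx, Matrix.smul_mulVec, Matrix.one_mulVec]
  have h2μ : (2 : F) * μ ≠ 0 := mul_ne_zero h2 hμ
  constructor
  · rw [Submodule.disjoint_def]
    intro v hp hm
    rw [mem_eig] at hp hm
    have : ((2 : F) * μ) • v = 0 := by
      have h3 : μ • v = (-μ) • v := by rw [← hp, hm]
      rw [neg_smul] at h3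
      rw [mul_smul, two_smul]
      nth_rewrite 1 [h3]
      rw [neg_add_cancel]
    exact (smul_eq_zero.mp this).resolve_left h2μ
  · rw [codisjoint_iff, eq_top_iff]
    intro v _
    have hp : x *ᵥ v + μ • v ∈ eig x μ := by
      rw [mem_eig, Matrix.mulVec_add, hXX, Matrix.mulVec_smul, mul_smul, smul_add, add_comm]
    have hm : x *ᵥ v - μ • v ∈ eig x (-μ) := by
      rw [mem_eig, Matrix.mulVec_sub, hXX, Matrix.mulVec_smul, mul_smul, smul_sub, neg_smul, neg_smul,
        neg_sub_neg]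
    have : v = ((2 : F) * μ)⁻¹ • (x *ᵥ v + μ • v) + (-((2 : F) * μ)⁻¹) • (x *ᵥ v - μ • v) := by
      rw [neg_smul, ← sub_eq_add_neg, ← smul_sub]
      have : x *ᵥ v + μ • v - (x *ᵥ v - μ • v) = ((2 : F) * μ) • v := by
        rw [mul_smul, two_smul]; abel
      rw [this, smul_smul, inv_mul_cancel₀ h2μ, one_smul]
    rw [this]
    exact Submodule.add_mem_sup ((eig x μ).smul_mem _ hp) ((eig x (-μ)).smul_mem _ hm)

/-- eigenspaces of an isometry for eigenvalues `c`, `d` with `c σ(d) ≠ 1` are orthogonal -/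
theorem eig_orth (σ : F →+* F) (x : Matrix (Fin n) (Fin n) F)
    (hiso : ∀ u v, hs σ (x *ᵥ u) (x *ᵥ v) = hs σ u v) (c d : F) (hcd : c * σ d ≠ 1) :
    ∀ u ∈ eig x c, ∀ v ∈ eig x d, hs σ u v = 0 := by
  intro u hu v hv
  rw [mem_eig] at hu hv
  have h := hiso u v
  rw [hu, hv, hs_smul_left, hs_smul_right] at h
  have h' : (c * σ d - 1) * hs σ u v = 0 := by linear_combination h
  rcases mul_eq_zero.mp h' with h0 | h0
  · exact absurd (sub_eq_zero.mp h0) hcd
  · exact h0

theorem map_eig_le (x : Matrix (Fin n) (Fin n) F) (c : F) :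
    (eig x c).map (Matrix.toLin' x) ≤ eig x c := by
  rintro _ ⟨v, hv, rfl⟩
  rw [Matrix.toLin'_apply]
  have hv' : x *ᵥ v = c • v := hv
  rw [hv']
  exact (eig x c).smul_mem _ hv

/-- non-degeneracy of one of two complementary mutually orthogonal subspaces -/
theorem nondeg_of_orth [DecidableEq (Fin n)] (σ : F →+* F) (U W : Submodule F (Fin n → F)) (hc : IsCompl U W)
    (horth : ∀ u ∈ U, ∀ w ∈ W, hs σ u w = 0) :
    ∀ u ∈ U, (∀ v ∈ U, hs σ u v = 0) → u = 0 := by
  intro u hu h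
  apply hs_nondeg σ
  intro v
  have hv : v ∈ U ⊔ W := by rw [hc.sup_eq_top]; exact Submodule.mem_top
  obtain ⟨u', hu', w', hw', rfl⟩ := Submodule.mem_sup.mp hv
  rw [hs_add_right, h _ hu', horth _ hu _ hw', add_zero]

end Cfsg.Agent.Lib.helper14.UPolG
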