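import Cfsg.Agent.Lib.helper14.UPolG
import Cfsg.Agent.Lib.helper6.HermGram
import Cfsg.Agent.Lib.helper14.InvD

/-!
# S5984, part H: hyperbolic frames from orthonormal families
-/

set_option autoImplicit false
open scoped MatrixGroups

namespace Cfsg.Agent.Lib.helper14.UPolH

open Matrix Cfsg.Agent.Lib.helper14.UPolA Cfsg.Agent.Lib.helper14.UPolB Cfsg.Agent.Lib.helper14.UPolD
  Cfsg.Agent.Lib.helper14.UPolF Cfsg.Agent.Lib.helper14.UPolG

variable {F : Type*} [Field F] {n : ℕ}

/-- from an orthonormal family of even size, a hyperbolic frame inside its span -/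
theorem pair_frame {k' : ℕ} (σ : F →+* F) (c : Fin (2 * k') → Fin n → F)
    (hc : ∀ i j, hs σ (c i) (c j) = if i = j then 1 else 0) (ω : F) (hω : ω * σ ω = -1)
    (h2 : (2 : F) ≠ 0) :
    ∃ a b : Fin k' → Fin n → F,
      (∀ i j, hs σ (a i) (a j) = 0) ∧ (∀ i j, hs σ (b i) (b j) = 0) ∧
      (∀ i j, hs σ (a i) (b j) = if i = j then 1 else 0) ∧
      (∀ i, a i ∈ Submodule.span F (Set.range c)) ∧ (∀ i, b i ∈ Submodule.span F (Set.range c)) := by
  have h00 : ∀ i j : Fin k', hs σ (c ⟨2 * i.1, by have := i.2; omega⟩) (c ⟨2 * j.1, by have := j.2; omega⟩) =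
      if i = j then 1 else 0 := by
    intro i j
    rw [hc]
    by_cases hij : i = j
    · rw [if_pos hij, if_pos (by rw [hij])]
    · rw [if_neg hij, if_neg]
      intro h
      apply hij
      apply Fin.ext
      have := congrArg Fin.val h
      simp only at this
      omega
  have h11 : ∀ i j : Fin k', hs σ (c ⟨2 * i.1 + 1, by have := i.2; omega⟩)
      (c ⟨2 * j.1 + 1, by have := j.2; omega⟩) = if i = j then 1 else 0 := by
    intro i j
    rw [hc]
    by_cases hij : i = j
    · rw [if_pos hij, if_pos (by rw [hij])]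
    · rw [if_neg hij, if_neg]
      intro h
      apply hij
      apply Fin.ext
      have := congrArg Fin.val h
      simp only at this
      omega
  have h01 : ∀ i j : Fin k', hs σ (c ⟨2 * i.1, by have := i.2; omega⟩)
      (c ⟨2 * j.1 + 1, by have := j.2; omega⟩) = 0 := by
    intro i j
    rw [hc, if_neg]
    intro h
    have := congrArg Fin.val h
    simp only at this
    omega
  have h10 : ∀ i j : Fin k', hs σ (c ⟨2 * i.1 + 1, by have := i.2; omega⟩)
      (c ⟨2 * j.1, by have := j.2; omega⟩) = 0 := by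
    intro i j
    rw [hc, if_neg]
    intro h
    have := congrArg Fin.val h
    simp only at this
    omega
  have hσ2 : σ (2⁻¹ : F) = 2⁻¹ := by
    rw [map_inv₀, map_ofNat]
  refine ⟨fun i => c ⟨2 * i.1, by have := i.2; omega⟩ + ω • c ⟨2 * i.1 + 1, by have := i.2; omega⟩,
    fun i => (2⁻¹ : F) • (c ⟨2 * i.1, by have := i.2; omega⟩ - ω • c ⟨2 * i.1 + 1, by have := i.2; omega⟩),
    ?_, ?_, ?_, ?_, ?_⟩
  · intro i j
    simp only [hs_add_left, hs_add_right, hs_smul_left, hs_smul_right, h00, h01, h10, h11]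
    by_cases hij : i = j
    · simp only [if_pos hij]
      linear_combination hω
    · simp only [if_neg hij]
      ring
  · intro i j
    simp only [hs_sub_left, hs_sub_right, hs_smul_left, hs_smul_right, h00, h01, h10, h11]
    by_cases hij : i = j
    · simp only [if_pos hij]
      linear_combination (2⁻¹ * σ 2⁻¹) * hω
    · simp only [if_neg hij]
      ring
  · intro i j
    simp only [hs_add_left, hs_sub_right, hs_smul_left, hs_smul_right, h00, h01, h10, h11, hσ2]
    by_cases hij : i = j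
    · simp only [if_pos hij]
      have : (2⁻¹ : F) * 2 = 1 := inv_mul_cancel₀ h2
      linear_combination this - (2⁻¹ : F) * hω
    · simp only [if_neg hij]
      ring
  · intro i
    exact Submodule.add_mem _ (Submodule.subset_span ⟨_, rfl⟩)
      (Submodule.smul_mem _ _ (Submodule.subset_span ⟨_, rfl⟩))
  · intro i
    exact Submodule.smul_mem _ _ (Submodule.sub_mem _ (Submodule.subset_span ⟨_, rfl⟩)
      (Submodule.smul_mem _ _ (Submodule.subset_span ⟨_, rfl⟩)))


/-- hyperbolic frames of two mutually orthogonal subspaces combine -/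
theorem frame_sum {k' l' m : ℕ} (hm : m = k' + l') (σ : F →+* F)
    (U W : Submodule F (Fin n → F))
    (horth : ∀ u ∈ U, ∀ w ∈ W, hs σ u w = 0) (horth' : ∀ w ∈ W, ∀ u ∈ U, hs σ w u = 0)
    (aU bU : Fin k' → Fin n → F) (aW bW : Fin l' → Fin n → F)
    (haU : ∀ i, aU i ∈ U) (hbU : ∀ i, bU i ∈ U) (haW : ∀ i, aW i ∈ W) (hbW : ∀ i, bW i ∈ W)
    (haaU : ∀ i j, hs σ (aU i) (aU j) = 0) (hbbU : ∀ i j, hs σ (bU i) (bU j) = 0)
    (habU : ∀ i j, hs σ (aU i) (bU j) = if i = j then 1 else 0)
    (haaW : ∀ i j, hs σ (aW i) (aW j) = 0) (hbbW : ∀ i j, hs σ (bW i) (bW j) = 0)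
    (habW : ∀ i j, hs σ (aW i) (bW j) = if i = j then 1 else 0) :
    ∃ a b : Fin m → Fin n → F,
      (∀ i j, hs σ (a i) (a j) = 0) ∧ (∀ i j, hs σ (b i) (b j) = 0) ∧
      (∀ i j, hs σ (a i) (b j) = if i = j then 1 else 0) ∧
      (∀ i, a i ∈ U ∨ a i ∈ W) ∧ (∀ i, b i ∈ U ∨ b i ∈ W) := by
  let ε : Fin m ≃ Fin k' ⊕ Fin l' := (finCongr hm).trans finSumFinEquiv.symm
  refine ⟨fun i => Sum.elim aU aW (ε i), fun i => Sum.elim bU bW (ε i), ?_, ?_, ?_, ?_, ?_⟩
  · intro i j
    show hs σ (Sum.elim aU aW (ε i)) (Sum.elim aU aW (ε j)) = 0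
    rcases ε i with i' | i' <;> rcases ε j with j' | j'
    · exact haaU i' j'
    · exact horth _ (haU i') _ (haW j')
    · exact horth' _ (haW i') _ (haU j')
    · exact haaW i' j'
  · intro i j
    show hs σ (Sum.elim bU bW (ε i)) (Sum.elim bU bW (ε j)) = 0
    rcases ε i with i' | i' <;> rcases ε j with j' | j'
    · exact hbbU i' j'
    · exact horth _ (hbU i') _ (hbW j')
    · exact horth' _ (hbW i') _ (hbU j')
    · exact hbbW i' j'
  · intro i j
    show hs σ (Sum.elim aU aW (ε i)) (Sum.elim bU bW (ε j)) = _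
    by_cases hij : i = j
    · subst hij
      rw [if_pos rfl]
      rcases ε i with i' | i'
      · exact (habU i' i').trans (if_pos rfl)
      · exact (habW i' i').trans (if_pos rfl)
    · rw [if_neg hij]
      have hne : ε i ≠ ε j := fun h => hij (ε.injective h)
      revert hne
      rcases ε i with i' | i' <;> rcases ε j with j' | j' <;> intro hne
      · rw [Sum.elim_inl, Sum.elim_inl, habU, if_neg]
        intro h
        exact hne (congrArg _ h)
      · exact horth _ (haU i') _ (hbW j')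
      · exact horth' _ (haW i') _ (hbU j')
      · rw [Sum.elim_inr, Sum.elim_inr, habW, if_neg]
        intro h
        exact hne (congrArg _ h)
  · intro i
    show Sum.elim aU aW (ε i) ∈ U ∨ Sum.elim aU aW (ε i) ∈ W
    rcases ε i with i' | i'
    · exact Or.inl (haU i')
    · exact Or.inr (haW i')
  · intro i
    show Sum.elim bU bW (ε i) ∈ U ∨ Sum.elim bU bW (ε i) ∈ W
    rcases ε i with i' | i'
    · exact Or.inl (hbU i')
    · exact Or.inr (hbW i')


/-- the determinant in terms of the dimensions of the eigenspaces -/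
theorem det_eig (x : Matrix (Fin n) (Fin n) F) (μ : F) (hμ : μ ≠ 0) (h2 : (2 : F) ≠ 0)
    (hx : x * x = (μ * μ) • (1 : Matrix (Fin n) (Fin n) F)) :
    x.det = μ ^ (Module.finrank F (eig x μ)) * (-μ) ^ (Module.finrank F (eig x (-μ))) ∧
      Module.finrank F (eig x μ) + Module.finrank F (eig x (-μ)) = n := by
  have hcompl := isCompl_eig x μ hμ h2 hx
  let bp : Module.Basis (Fin (Module.finrank F (eig x μ))) F (eig x μ) := Module.finBasis F _
  let bm : Module.Basis (Fin (Module.finrank F (eig x (-μ)))) F (eig x (-μ)) := Module.finBasis F _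
  let B : Module.Basis (Fin (Module.finrank F (eig x μ)) ⊕ Fin (Module.finrank F (eig x (-μ)))) F (Fin n → F) :=
    (bp.prod bm).map (Submodule.prodEquivOfIsCompl _ _ hcompl)
  apply Cfsg.Agent.Lib.helper14.InvD.det_of_eigen x μ _ _ B
  · intro i
    have hB : B (Sum.inl i) = (bp i : Fin n → F) := by
      simp [B, Submodule.coe_prodEquivOfIsCompl']
    rw [hB]
    exact (bp i).2
  · intro j
    have hB : B (Sum.inr j) = (bm j : Fin n → F) := by
      simp [B, Submodule.coe_prodEquivOfIsCompl']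
    rw [hB]
    exact (bm j).2


/-- a hyperbolic frame inside a non-degenerate subspace of even dimension -/
theorem frame_of_nondeg [Fintype F] {q : ℕ} (hq : Fintype.card F = q ^ 2) (σ : F →+* F)
    (hσ : ∀ x, σ x = x ^ q) (U : Submodule F (Fin n → F))
    (hU : ∀ u ∈ U, (∀ v ∈ U, hs σ u v = 0) → u = 0) (k' : ℕ) (hk : Module.finrank F U = 2 * k')
    (ω : F) (hω : ω * σ ω = -1) (h2 : (2 : F) ≠ 0) :
    ∃ a b : Fin k' → Fin n → F,
      (∀ i j, hs σ (a i) (a j) = 0) ∧ (∀ i j, hs σ (b i) (b j) = 0) ∧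
      (∀ i j, hs σ (a i) (b j) = if i = j then 1 else 0) ∧
      (∀ i, a i ∈ U) ∧ (∀ i, b i ∈ U) := by
  have h := Cfsg.Agent.Lib.helper6.HF.exists_orthonormal hq U (by
    intro u hu h
    apply hU u hu
    intro v hv
    rw [← herm_eq_hs σ hσ]
    exact h v hv)
  rw [hk] at h
  obtain ⟨c, -, hspan, hon⟩ := h
  have hon' : ∀ i j, hs σ (c i) (c j) = if i = j then 1 else 0 := by
    intro i j
    rw [← herm_eq_hs σ hσ]
    exact hon i j
  obtain ⟨a, b, haa, hbb, hab, ha, hb⟩ := pair_frame σ c hon' ω hω h2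
  rw [hspan] at ha hb
  exact ⟨a, b, haa, hbb, hab, ha, hb⟩

/-- Case 1 of the classification: `x = μ y` with `y` an involution of `GU`, `dim V₋` even -/
theorem case_one [Fintype F] {q : ℕ} (hq : Fintype.card F = q ^ 2) {m : ℕ} (hn : n = m + m) (hm : 0 < m)
    (σ : F →+* F) (hσ : ∀ x, σ x = x ^ q) (hσσ : ∀ x, σ (σ x) = x)
    (x : GL (Fin n) F)
    (hiso : ∀ u v, hs σ ((x : Matrix (Fin n) (Fin n) F) *ᵥ u) ((x : Matrix (Fin n) (Fin n) F) *ᵥ v) = hs σ u v)
    (μ : F) (hμ : μ ≠ 0) (h2 : (2 : F) ≠ 0)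
    (hx : (x : Matrix (Fin n) (Fin n) F) * (x : Matrix (Fin n) (Fin n) F) =
      (μ * μ) • (1 : Matrix (Fin n) (Fin n) F))
    (hμN : μ * σ μ = 1) (ω : F) (hω : ω * σ ω = -1)
    (heven : Even (Module.finrank F (eig (x : Matrix (Fin n) (Fin n) F) (-μ)))) :
    ∃ D' : Fin 2 → Submodule F (Fin n → F), Cfsg.Geo.IsMDecomposition m D' ∧
      (∀ i, Cfsg.Geo.IsTotallySingularFor (Cfsg.hermForm n F q) (D' i)) ∧
      x ∈ Cfsg.Geo.decompositionStabilizer D' := by
  classical
  set X : Matrix (Fin n) (Fin n) F := (x : Matrix (Fin n) (Fin n) F) with hX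
  set U := eig X μ with hUdef
  set W := eig X (-μ) with hWdef
  have hc : IsCompl U W := isCompl_eig X μ hμ h2 hx
  have hne : (-1 : F) ≠ 1 := by
    intro h
    apply h2
    have : (2 : F) = 1 - (-1) := by ring
    rw [this, h, sub_self]
  have horth : ∀ u ∈ U, ∀ w ∈ W, hs σ u w = 0 := by
    apply eig_orth σ X hiso
    rw [map_neg, mul_neg, hμN]
    exact hne
  have horth' : ∀ w ∈ W, ∀ u ∈ U, hs σ w u = 0 := by
    apply eig_orth σ X hiso
    rw [neg_mul, hμN]
    exact hne
  have hUnd := nondeg_of_orth σ U W hc horth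
  have hWnd := nondeg_of_orth σ W U hc.symm horth'
  obtain ⟨l', hl'⟩ := heven
  have hsum := Submodule.finrank_add_eq_of_isCompl hc
  rw [Module.finrank_fintype_fun_eq_card, Fintype.card_fin] at hsum
  have hl2 : Module.finrank F W = 2 * l' := by rw [hl']; ring
  obtain ⟨k', hk'⟩ : ∃ k', Module.finrank F U = 2 * k' := ⟨m - l', by omega⟩
  have hmkl : m = k' + l' := by omega
  obtain ⟨aU, bU, haaU, hbbU, habU, haU, hbU⟩ := frame_of_nondeg hq σ hσ U hUnd k' hk' ω hω h2
  obtain ⟨aW, bW, haaW, hbbW, habW, haW, hbW⟩ := frame_of_nondeg hq σ hσ W hWnd l' hl2 ω hω h2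
  obtain ⟨a, b, haa, hbb, hab, ha, hb⟩ := frame_sum hmkl σ U W horth horth' aU bU aW bW haU hbU haW hbW
    haaU hbbU habU haaW hbbW habW
  obtain ⟨hD1, hD2⟩ := dec_of_frame hn hm σ hσ hσσ a b haa hbb hab
  refine ⟨_, hD1, hD2, ?_⟩
  have hxa : ∀ i, X *ᵥ a i = (if a i ∈ U then μ else -μ) • a i := by
    intro i
    by_cases h : a i ∈ U
    · rw [if_pos h]
      exact h
    · rw [if_neg h]
      exact (ha i).resolve_left h
  have hxb : ∀ i, X *ᵥ b i = (if b i ∈ U then μ else -μ) • b i := by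
    intro i
    by_cases h : b i ∈ U
    · rw [if_pos h]
      exact h
    · rw [if_neg h]
      exact (hb i).resolve_left h
  exact mem_stab_of_le _ _ x (map_span_le_of_eigen X a _ hxa) (map_span_le_of_eigen X b _ hxb)

end Cfsg.Agent.Lib.helper14.UPolH
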