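import Cfsg.Agent.Lib.helper14.UPolH

/-!
# S5984, part I: scalars, case 2, and the backward direction
-/

set_option autoImplicit false
open scoped MatrixGroups

namespace Cfsg.Agent.Lib.helper14.UPolI

open Matrix Cfsg.Agent.Lib.helper14.UPolA Cfsg.Agent.Lib.helper14.UPolB Cfsg.Agent.Lib.helper14.UPolD
  Cfsg.Agent.Lib.helper14.UPolE Cfsg.Agent.Lib.helper14.UPolF Cfsg.Agent.Lib.helper14.UPolG
  Cfsg.Agent.Lib.helper14.UPolH

variable {F : Type*} [Field F]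

/-- the arithmetic heart: `gcd (q + 1) (2 n) ∣ n` when `(q+1)_2 ≤ n_2` -/
theorem gcd_dvd_of_val (A n : ℕ) (hA : A ≠ 0) (hn : n ≠ 0)
    (hv : padicValNat 2 A ≤ padicValNat 2 n) : Nat.gcd A (2 * n) ∣ n := by
  obtain ⟨s, c, hc, rfl⟩ := Nat.exists_eq_two_pow_mul_odd hA
  have hs : padicValNat 2 (2 ^ s * c) = s := by
    have hc0 : c ≠ 0 := by
      rintro rfl
      simp at hc
    rw [padicValNat.mul (pow_ne_zero _ two_ne_zero) hc0, padicValNat.prime_pow,
      padicValNat.eq_zero_of_not_dvd (by rw [Nat.two_dvd_ne_zero]; exact Nat.odd_iff.mp hc), add_zero]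
  rw [hs] at hv
  have hdvd : 2 ^ s ∣ n := (padicValNat_dvd_iff_le hn).mpr hv
  obtain ⟨n1, rfl⟩ := hdvd
  have e : 2 * (2 ^ s * n1) = 2 ^ s * (2 * n1) := by ring
  rw [e, Nat.gcd_mul_left]
  apply Nat.mul_dvd_mul_left
  have hcop : Nat.Coprime 2 c :=
    (Nat.Prime.coprime_iff_not_dvd Nat.prime_two).mpr (by
      rw [Nat.two_dvd_ne_zero]; exact Nat.odd_iff.mp hc)
  rw [Nat.Coprime.gcd_mul_left_cancel_right n1 hcop]
  exact Nat.gcd_dvd_right _ _

/-- parity of the `(-μ)`-eigenspace from `det = 1` -/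
theorem even_of_det (μ : F) (h2 : (2 : F) ≠ 0) (q n k l : ℕ) (hn0 : n ≠ 0) (hkl : k + l = n)
    (hμq : μ ^ (q + 1) = 1) (hdet : μ ^ k * (-μ) ^ l = 1)
    (hv : padicValNat 2 (q + 1) ≤ padicValNat 2 n) : Even l := by
  by_contra hodd
  rw [Nat.not_even_iff_odd] at hodd
  have h1 : μ ^ n = -1 := by
    rw [Odd.neg_pow hodd, mul_neg, ← pow_add, hkl] at hdet
    linear_combination -hdet
  have h3 : μ ^ (2 * n) = 1 := by
    rw [mul_comm, pow_mul, h1]
    ring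
  have h4 := pow_gcd_eq_one.mpr ⟨hμq, h3⟩
  obtain ⟨t, ht⟩ := gcd_dvd_of_val (q + 1) n (Nat.succ_ne_zero q) hn0 hv
  have h5 : μ ^ n = 1 := by
    rw [ht, pow_mul, h4, one_pow]
  rw [h5] at h1
  apply h2
  have : (2 : F) = 1 - (-1) := by ring
  rw [this, ← h1, sub_self]


/-- the square of an isometry, if scalar `z`, has `z σ(z) = 1` -/
theorem z_norm {n : ℕ} (hn : 0 < n) (σ : F →+* F) (X : Matrix (Fin n) (Fin n) F)
    (hiso : ∀ u v, hs σ (X *ᵥ u) (X *ᵥ v) = hs σ u v) (z : F)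
    (hxx : X * X = z • (1 : Matrix (Fin n) (Fin n) F)) : z * σ z = 1 := by
  classical
  have hXX : ∀ v, X *ᵥ (X *ᵥ v) = z • v := by
    intro v
    rw [Matrix.mulVec_mulVec, hxx, Matrix.smul_mulVec, Matrix.one_mulVec]
  have h := hiso (X *ᵥ Pi.single ⟨0, hn⟩ 1) (X *ᵥ Pi.single ⟨0, hn⟩ 1)
  rw [hXX, hiso, hs_smul_left, hs_smul_right, hs_single_right, Pi.single_eq_same, mul_one] at h
  exact h

theorem two_ne_zero_of_odd [Fintype F] {p : ℕ} [Fact p.Prime] [CharP F p] {q : ℕ}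
    (hq : Fintype.card F = q ^ 2) (hodd : Odd q) : (2 : F) ≠ 0 := by
  intro h
  have h' : ((2 : ℕ) : F) = 0 := by exact_mod_cast h
  rw [CharP.cast_eq_zero_iff F p] at h'
  obtain ⟨k, hk, hqk⟩ := q_prime_pow (p := p) hq
  have hp2 : p = 2 := (Nat.prime_dvd_prime_iff_eq Fact.out Nat.prime_two).mp h'
  rw [hqk, hp2] at hodd
  have : Even (2 ^ k) := (Nat.even_pow' (by omega)).mpr even_two
  exact (Nat.not_even_iff_odd.mpr hodd) this

/-- square roots of norm-one elements, `q` odd -/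
theorem exists_sqrt [Fintype F] {q : ℕ} (hq : Fintype.card F = q ^ 2) (hodd : Odd q) (h2 : (2 : F) ≠ 0)
    (σ : F →+* F) (hσ : ∀ x, σ x = x ^ q) (z : F) (hz : z * σ z = 1) :
    ∃ μ : F, μ * μ = z ∧ μ ≠ 0 ∧ (μ * σ μ = 1 ∨ μ * σ μ = -1) := by
  have hz0 : z ≠ 0 := by
    rintro rfl
    rw [zero_mul] at hz
    exact zero_ne_one hz
  have hchar : ringChar F ≠ 2 := by
    intro h
    apply h2
    have := ringChar.Nat.cast_ringChar (R := F)
    rw [h] at this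
    exact_mod_cast this
  have hzq : z ^ (q + 1) = 1 := by
    rw [pow_succ, ← hσ, mul_comm]
    exact hz
  have hsq : IsSquare z := by
    rw [FiniteField.isSquare_iff hchar hz0, hq]
    obtain ⟨j, hj⟩ := hodd
    have e : q ^ 2 / 2 = (q + 1) * j := by
      rw [hj]
      have : (2 * j + 1) ^ 2 = 2 * ((2 * j + 1 + 1) * j) + 1 := by ring
      rw [this]
      omega
    rw [e, pow_mul, hzq, one_pow]
  obtain ⟨μ, hμ⟩ := hsq
  have hμ0 : μ ≠ 0 := by
    rintro rfl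
    rw [mul_zero] at hμ
    exact hz0 hμ
  refine ⟨μ, hμ.symm, hμ0, ?_⟩
  have : (μ * σ μ) * (μ * σ μ) = 1 := by
    calc (μ * σ μ) * (μ * σ μ) = (μ * μ) * σ (μ * μ) := by rw [map_mul]; ring
      _ = 1 := by rw [← hμ, hz]
  exact mul_self_eq_one_iff.mp this

/-- an element of norm `-1`, `q` odd -/
theorem exists_omega [Fintype F] {q : ℕ} (hq : Fintype.card F = q ^ 2) (hodd : Odd q)
    (σ : F →+* F) (hσ : ∀ x, σ x = x ^ q) : ∃ ω : F, ω * σ ω = -1 := by
  classical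
  have hq2 := two_le_q hq
  have hle : (powMonoidHom (q + 1) : Fˣ →* Fˣ).range ≤ (powMonoidHom (q - 1) : Fˣ →* Fˣ).ker := by
    rintro _ ⟨x, rfl⟩
    rw [MonoidHom.mem_ker, powMonoidHom_apply, powMonoidHom_apply, ← pow_mul, mul_comm,
      ← card_units_sq hq]
    exact pow_card_eq_one'
  have hcard : Nat.card ↥((powMonoidHom (q - 1) : Fˣ →* Fˣ).ker) ≤
      Nat.card ↥((powMonoidHom (q + 1) : Fˣ →* Fˣ).range) := by
    rw [IsCyclic.card_powMonoidHom_ker, IsCyclic.card_powMonoidHom_range, card_units_sq hq,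
      Nat.gcd_mul_right_left, Nat.gcd_mul_left_left, Nat.mul_div_cancel _ (by omega : 0 < q + 1)]
  have heq := Subgroup.eq_of_le_of_card_ge hle hcard
  have : (-1 : Fˣ) ∈ (powMonoidHom (q + 1) : Fˣ →* Fˣ).range := by
    rw [heq, MonoidHom.mem_ker, powMonoidHom_apply]
    obtain ⟨j, hj⟩ := hodd
    have : q - 1 = 2 * j := by omega
    rw [this, pow_mul]
    simp
  obtain ⟨d, hd⟩ := this
  refine ⟨(d : F), ?_⟩
  rw [hσ, ← pow_succ']
  have := congrArg Units.val hd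
  rw [powMonoidHom_apply, Units.val_pow_eq_pow_val, Units.val_neg, Units.val_one] at this
  exact this


/-- Case 2 of the classification: `x² = μ²` with `μ^(q+1) = -1`: the eigenspaces form a polar pair -/
theorem case_two {n q m : ℕ} (hn : n = m + m) (hm : 0 < m)
    (σ : F →+* F) (hσ : ∀ x, σ x = x ^ q)
    (x : GL (Fin n) F)
    (hiso : ∀ u v, hs σ ((x : Matrix (Fin n) (Fin n) F) *ᵥ u) ((x : Matrix (Fin n) (Fin n) F) *ᵥ v) = hs σ u v)
    (μ : F) (hμ : μ ≠ 0) (h2 : (2 : F) ≠ 0)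
    (hx : (x : Matrix (Fin n) (Fin n) F) * (x : Matrix (Fin n) (Fin n) F) =
      (μ * μ) • (1 : Matrix (Fin n) (Fin n) F))
    (hμN : μ * σ μ = -1) :
    ∃ D' : Fin 2 → Submodule F (Fin n → F), Cfsg.Geo.IsMDecomposition m D' ∧
      (∀ i, Cfsg.Geo.IsTotallySingularFor (Cfsg.hermForm n F q) (D' i)) ∧
      x ∈ Cfsg.Geo.decompositionStabilizer D' := by
  set X : Matrix (Fin n) (Fin n) F := (x : Matrix (Fin n) (Fin n) F) with hX
  have hc : IsCompl (eig X μ) (eig X (-μ)) := isCompl_eig X μ hμ h2 hx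
  have hne : (-1 : F) ≠ 1 := by
    intro h
    apply h2
    have : (2 : F) = 1 - (-1) := by ring
    rw [this, h, sub_self]
  have hU : ∀ u ∈ eig X μ, ∀ v ∈ eig X μ, hs σ u v = 0 := by
    apply eig_orth σ X hiso
    rw [hμN]
    exact hne
  have hW : ∀ u ∈ eig X (-μ), ∀ v ∈ eig X (-μ), hs σ u v = 0 := by
    apply eig_orth σ X hiso
    rw [map_neg, neg_mul_neg, hμN]
    exact hne
  obtain ⟨h1, h2'⟩ := dec_of_ts_pair hn hm σ hσ _ _ hc hU hW
  exact ⟨_, h1, h2', mem_stab_of_le _ _ x (map_eig_le X μ) (map_eig_le X (-μ))⟩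

/-- the backward direction of S5984 -/
theorem backward [Fintype F] {p : ℕ} [Fact p.Prime] [CharP F p] {q : ℕ} (hq : Fintype.card F = q ^ 2)
    (n : ℕ) (hn : 4 ≤ n) (he : Even n) (D : Fin 2 → Submodule F (Fin n → F))
    (hD : Cfsg.Geo.IsMDecomposition (n / 2) D)
    (hDs : ∀ i, Cfsg.Geo.IsTotallySingularFor (Cfsg.hermForm n F q) (D i))
    (hodd : Odd q) (hv : padicValNat 2 (q + 1) ≤ padicValNat 2 n)
    (x : GL (Fin n) F) (hx : x ∈ Cfsg.GU n F q ⊓ Cfsg.Geo.specialLinear (Fin n) F)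
    (z : F) (hz : ((x ^ 2 : GL (Fin n) F) : Matrix (Fin n) (Fin n) F) = z • (1 : Matrix (Fin n) (Fin n) F)) :
    ∃ g ∈ Cfsg.GU n F q ⊓ Cfsg.Geo.specialLinear (Fin n) F,
      g⁻¹ * x * g ∈ Cfsg.Geo.decompositionStabilizer D := by
  classical
  obtain ⟨σ, hσ⟩ := Cfsg.Agent.Lib.Lead.exists_frob hq
  have hσσ := Cfsg.Agent.Lib.Lead.frob_frob hq σ hσ
  obtain ⟨m, hm⟩ := he
  have hm2 : n / 2 = m := by omega
  rw [hm2] at hD
  have hm0 : 0 < m := by omega
  set X : Matrix (Fin n) (Fin n) F := (x : Matrix (Fin n) (Fin n) F) with hX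
  have hxx : X * X = z • (1 : Matrix (Fin n) (Fin n) F) := by
    rw [← hz, sq, Units.val_mul]
  have hiso : ∀ u v, hs σ (X *ᵥ u) (X *ᵥ v) = hs σ u v := (mem_GU_iff_hs σ hσ x).mp hx.1
  have hzN := z_norm (by omega) σ X hiso z hxx
  have h2 := two_ne_zero_of_odd (p := p) hq hodd
  obtain ⟨μ, hμμ, hμ0, hcase⟩ := exists_sqrt hq hodd h2 σ hσ z hzN
  rw [← hμμ] at hxx
  have key : ∃ D' : Fin 2 → Submodule F (Fin n → F), Cfsg.Geo.IsMDecomposition m D' ∧
      (∀ i, Cfsg.Geo.IsTotallySingularFor (Cfsg.hermForm n F q) (D' i)) ∧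
      x ∈ Cfsg.Geo.decompositionStabilizer D' := by
    rcases hcase with h1 | h1
    · obtain ⟨ω, hω⟩ := exists_omega hq hodd σ hσ
      obtain ⟨hdet, hsum⟩ := det_eig X μ hμ0 h2 hxx
      have hdet1 : X.det = 1 := by
        have := MonoidHom.mem_ker.mp hx.2
        have h' := congrArg Units.val this
        rw [Matrix.GeneralLinearGroup.val_det_apply, Units.val_one] at h'
        exact h'
      rw [hdet1] at hdet
      have hμq : μ ^ (q + 1) = 1 := by
        rw [pow_succ, ← hσ, mul_comm]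
        exact h1
      have heven := even_of_det μ h2 q n _ _ (by omega) hsum hμq hdet.symm hv
      exact case_one hq hm hm0 σ hσ hσσ x hiso μ hμ0 h2 hxx h1 ω hω heven
    · exact case_two hm hm0 σ hσ x hiso μ hμ0 h2 hxx h1
  obtain ⟨D', hD', hDs', hxD'⟩ := key
  exact conj_mem_stab hq hm hm0 D D' hD hDs hD' hDs' x hxD'

end Cfsg.Agent.Lib.helper14.UPolI
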