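import Cfsg.Agent.Lib.helper14.UPolI

/-!
# S5984, part J: derangement criteria
-/

set_option autoImplicit false
open scoped MatrixGroups

namespace Cfsg.Agent.Lib.helper14.UPolJ

open Matrix Cfsg.Agent.Lib.helper14.UPolA Cfsg.Agent.Lib.helper14.UPolB Cfsg.Agent.Lib.helper14.UPolD
  Cfsg.Agent.Lib.helper14.UPolE Cfsg.Agent.Lib.helper14.UPolF Cfsg.Agent.Lib.helper14.UPolG

variable {F : Type*} [Field F] {n : ℕ}

/-- `X` fixes or interchanges no polar pair -/
def NoPair (σ : F →+* F) (X : Matrix (Fin n) (Fin n) F) : Prop :=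
  ∀ U W : Submodule F (Fin n → F), IsCompl U W → (∀ u ∈ U, ∀ v ∈ U, hs σ u v = 0) →
    (∀ u ∈ W, ∀ v ∈ W, hs σ u v = 0) → 2 ≤ Module.finrank F U →
    ¬ ((U.map (Matrix.toLin' X) = U ∧ W.map (Matrix.toLin' X) = W) ∨
       (U.map (Matrix.toLin' X) = W ∧ W.map (Matrix.toLin' X) = U))

/-- image of a subspace under an invertible matrix: complementarity is preserved -/
theorem isCompl_map_gl (g : GL (Fin n) F) (U W : Submodule F (Fin n → F)) (hc : IsCompl U W) :
    IsCompl (U.map (Matrix.toLin' (g : Matrix (Fin n) (Fin n) F)))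
      (W.map (Matrix.toLin' (g : Matrix (Fin n) (Fin n) F))) := by
  have hinj := gl_mulVec_injective g
  constructor
  · rw [Submodule.disjoint_def]
    rintro _ ⟨u, hu, rfl⟩ ⟨w, hw, hwu⟩
    have : w = u := hinj hwu
    subst this
    have : w = 0 := by
      have := hc.disjoint
      rw [Submodule.disjoint_def] at this
      exact this w hu hw
    rw [this, map_zero]
  · rw [codisjoint_iff, eq_top_iff]
    intro v _
    have hv : ((g⁻¹ : GL (Fin n) F) : Matrix (Fin n) (Fin n) F) *ᵥ v ∈ U ⊔ W := by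
      rw [hc.sup_eq_top]; exact Submodule.mem_top
    obtain ⟨u, hu, w, hw, huw⟩ := Submodule.mem_sup.mp hv
    rw [Submodule.mem_sup]
    refine ⟨_, Submodule.mem_map_of_mem hu, _, Submodule.mem_map_of_mem hw, ?_⟩
    rw [← map_add, huw, Matrix.toLin'_apply, Matrix.mulVec_mulVec, ← Units.val_mul, mul_inv_cancel,
      Units.val_one, Matrix.one_mulVec]

/-- from "no polar pair" to "no conjugate in the stabiliser" -/
theorem not_conj_of_noPair {q m : ℕ} (hm : 2 ≤ m) (σ : F →+* F) (hσ : ∀ x, σ x = x ^ q)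
    (D : Fin 2 → Submodule F (Fin n → F)) (hD : Cfsg.Geo.IsMDecomposition m D)
    (hDs : ∀ i, Cfsg.Geo.IsTotallySingularFor (Cfsg.hermForm n F q) (D i))
    (x : GL (Fin n) F) (hx : NoPair σ (x : Matrix (Fin n) (Fin n) F))
    (g : GL (Fin n) F) (hg : g ∈ Cfsg.GU n F q) :
    g⁻¹ * x * g ∉ Cfsg.Geo.decompositionStabilizer D := by
  rintro ⟨π, hπ⟩
  have hgiso := (mem_GU_iff_hs σ hσ g).mp hg
  have hc := isCompl_of_dec D hD
  have hts : ∀ i, ∀ u ∈ (D i).map (Matrix.toLin' (g : Matrix (Fin n) (Fin n) F)),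
      ∀ v ∈ (D i).map (Matrix.toLin' (g : Matrix (Fin n) (Fin n) F)), hs σ u v = 0 := by
    rintro i _ ⟨u, hu, rfl⟩ _ ⟨v, hv, rfl⟩
    rw [Matrix.toLin'_apply, Matrix.toLin'_apply, hgiso, ← herm_eq_hs σ hσ]
    exact hDs i u hu v hv
  have hmap : ∀ i, ((D i).map (Matrix.toLin' (g : Matrix (Fin n) (Fin n) F))).map
      (Matrix.toLin' (x : Matrix (Fin n) (Fin n) F)) =
      (D (π i)).map (Matrix.toLin' (g : Matrix (Fin n) (Fin n) F)) := by
    intro i
    rw [← hπ i, ← Submodule.map_comp, ← Submodule.map_comp, ← Matrix.toLin'_mul, ← Matrix.toLin'_mul,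
      ← Units.val_mul, ← Units.val_mul]
    congr 3
    group
  have hdim : 2 ≤ Module.finrank F ((D 0).map (Matrix.toLin' (g : Matrix (Fin n) (Fin n) F))) := by
    rw [← (Submodule.equivMapOfInjective _ (gl_mulVec_injective g) (D 0)).finrank_eq, hD.finrank_eq]
    exact hm
  apply hx _ _ (isCompl_map_gl g _ _ hc) (hts 0) (hts 1) hdim
  have h0 := hmap 0
  have h1 := hmap 1
  have hπcases : (π 0 = 0 ∧ π 1 = 1) ∨ (π 0 = 1 ∧ π 1 = 0) := by
    have hinj := π.injective
    have h01 : π 0 ≠ π 1 := fun h => by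
      have := hinj h
      exact absurd this (by decide)
    generalize π 0 = a at h01
    generalize π 1 = b at h01
    fin_cases a <;> fin_cases b <;> simp_all
  rcases hπcases with ⟨e0, e1⟩ | ⟨e0, e1⟩
  · left
    rw [e0] at h0
    rw [e1] at h1
    exact ⟨h0, h1⟩
  · right
    rw [e0] at h0
    rw [e1] at h1
    exact ⟨h0, h1⟩


theorem map_le_mem {X : Matrix (Fin n) (Fin n) F} {U U' : Submodule F (Fin n → F)}
    (h : U.map (Matrix.toLin' X) = U') : ∀ u ∈ U, X *ᵥ u ∈ U' := by
  intro u hu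
  rw [← h, ← Matrix.toLin'_apply]
  exact Submodule.mem_map_of_mem hu

/-- auxiliary: `X` stabilises `U`, `W`, `X - c` has image in `F v`, and `v ∉ W` ⟹ `X = c` -/
theorem rank_one_aux [DecidableEq (Fin n)] (σ : F →+* F) (X : Matrix (Fin n) (Fin n) F)
    (hiso : ∀ u v, hs σ (X *ᵥ u) (X *ᵥ v) = hs σ u v) (c : F) (hc : c * σ c = 1)
    (v : Fin n → F) (hv : ∀ u, ∃ t : F, X *ᵥ u - c • u = t • v)
    (U W : Submodule F (Fin n → F)) (hcompl : IsCompl U W)
    (hU : ∀ u ∈ U, ∀ v ∈ U, hs σ u v = 0)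
    (hXU : ∀ u ∈ U, X *ᵥ u ∈ U) (hXW : ∀ w ∈ W, X *ᵥ w ∈ W) (hvW : v ∉ W) :
    ∀ u, X *ᵥ u = c • u := by
  have hW1 : ∀ w ∈ W, X *ᵥ w = c • w := by
    intro w hw
    obtain ⟨t, ht⟩ := hv w
    have hmem : t • v ∈ W := by
      rw [← ht]
      exact W.sub_mem (hXW w hw) (W.smul_mem _ hw)
    by_cases ht0 : t = 0
    · rw [ht0, zero_smul] at ht
      exact sub_eq_zero.mp ht
    · exfalso
      apply hvW
      have := W.smul_mem t⁻¹ hmem
      rwa [smul_smul, inv_mul_cancel₀ ht0, one_smul] at this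
  have hU1 : ∀ u ∈ U, X *ᵥ u = c • u := by
    intro u hu
    have hd : X *ᵥ u - c • u ∈ U := U.sub_mem (hXU u hu) (U.smul_mem _ hu)
    have h0 : X *ᵥ u - c • u = 0 := by
      apply hs_nondeg σ
      intro y
      have hy : y ∈ U ⊔ W := by rw [hcompl.sup_eq_top]; exact Submodule.mem_top
      obtain ⟨u', hu', w', hw', rfl⟩ := Submodule.mem_sup.mp hy
      rw [hs_add_right, hU _ hd _ hu', zero_add, hs_sub_left, hs_smul_left]
      have h1 := hiso u w'
      rw [hW1 w' hw', hs_smul_right] at h1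
      have h2 : hs σ (X *ᵥ u) w' = c * hs σ u w' := by
        calc hs σ (X *ᵥ u) w' = (c * σ c) * hs σ (X *ᵥ u) w' := by rw [hc, one_mul]
          _ = c * (σ c * hs σ (X *ᵥ u) w') := by ring
          _ = c * hs σ u w' := by rw [h1]
      rw [h2, sub_self]
    exact sub_eq_zero.mp h0
  intro y
  have hy : y ∈ U ⊔ W := by rw [hcompl.sup_eq_top]; exact Submodule.mem_top
  obtain ⟨u', hu', w', hw', rfl⟩ := Submodule.mem_sup.mp hy
  rw [Matrix.mulVec_add, hU1 u' hu', hW1 w' hw', smul_add]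

/-- an isometry `X ≠ c` with `c σ(c) = 1` and `X - c` of rank one fixes or interchanges no polar pair -/
theorem noPair_of_rank_one [DecidableEq (Fin n)] (σ : F →+* F) (hσσ : ∀ x, σ (σ x) = x)
    (X : Matrix (Fin n) (Fin n) F)
    (hiso : ∀ u v, hs σ (X *ᵥ u) (X *ᵥ v) = hs σ u v) (c : F) (hc : c * σ c = 1)
    (v : Fin n → F) (hv : ∀ u, ∃ t : F, X *ᵥ u - c • u = t • v)
    (hne : X ≠ c • (1 : Matrix (Fin n) (Fin n) F)) : NoPair σ X := by
  intro U W hcompl hU hW hdim hcases
  have hc0 : c ≠ 0 := by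
    rintro rfl
    rw [zero_mul] at hc
    exact zero_ne_one hc
  rcases hcases with ⟨h1, h2⟩ | ⟨h1, h2⟩
  · apply hne
    have hXU := map_le_mem h1
    have hXW := map_le_mem h2
    have hall : ∀ u, X *ᵥ u = c • u := by
      by_cases hvW : v ∈ W
      · by_cases hvU : v ∈ U
        · have hv0 : v = 0 := by
            have := hcompl.disjoint
            rw [Submodule.disjoint_def] at this
            exact this v hvU hvW
          intro u
          obtain ⟨t, ht⟩ := hv u
          rw [hv0, smul_zero] at ht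
          exact sub_eq_zero.mp ht
        · exact rank_one_aux σ X hiso c hc v hv W U hcompl.symm hW hXW hXU hvU
      · exact rank_one_aux σ X hiso c hc v hv U W hcompl hU hXU hXW hvW
    rw [Matrix.ext_iff_mulVec]
    intro u
    rw [hall u, Matrix.smul_mulVec, Matrix.one_mulVec]
  · -- swap: `X - c` is injective on `U`
    have hXU := map_le_mem h1
    let φ0 : (Fin n → F) →ₗ[F] (Fin n → F) := Matrix.toLin' X - c • LinearMap.id
    have hφ0 : ∀ u, φ0 u = X *ᵥ u - c • u := by
      intro u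
      simp only [φ0, LinearMap.sub_apply, Matrix.toLin'_apply, LinearMap.smul_apply, LinearMap.id_apply]
    let φ : U →ₗ[F] Submodule.span F ({v} : Set (Fin n → F)) :=
      LinearMap.codRestrict _ (φ0.domRestrict U) (by
        intro u
        rw [LinearMap.domRestrict_apply, hφ0]
        obtain ⟨t, ht⟩ := hv u
        rw [ht]
        exact Submodule.smul_mem _ _ (Submodule.mem_span_singleton_self v))
    have hinj : Function.Injective φ := by
      rw [← LinearMap.ker_eq_bot, LinearMap.ker_eq_bot']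
      intro u hu
      have h3 : φ0 (u : Fin n → F) = 0 := by
        have := congrArg Subtype.val hu
        exact this
      rw [hφ0, sub_eq_zero] at h3
      have h4 : c • (u : Fin n → F) ∈ W := by
        rw [← h3]
        exact hXU _ u.2
      have h5 : (u : Fin n → F) ∈ W := by
        have := W.smul_mem c⁻¹ h4
        rwa [smul_smul, inv_mul_cancel₀ hc0, one_smul] at this
      have h6 : (u : Fin n → F) = 0 := by
        have := hcompl.disjoint
        rw [Submodule.disjoint_def] at this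
        exact this _ u.2 h5
      exact Subtype.ext h6
    have h7 := LinearMap.finrank_le_finrank_of_injective hinj
    have h8 : Module.finrank F (Submodule.span F ({v} : Set (Fin n → F))) ≤ 1 := by
      have := finrank_span_le_card (R := F) ({v} : Set (Fin n → F))
      simpa using this
    omega

end Cfsg.Agent.Lib.helper14.UPolJ
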