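import Cfsg.Agent.Lib.helper14.UPolJ

set_option autoImplicit false
open scoped MatrixGroups

namespace Cfsg.Agent.Lib.helper14.UPolK

open Matrix Cfsg.Agent.Lib.helper14.UPolA Cfsg.Agent.Lib.helper14.UPolB Cfsg.Agent.Lib.helper14.UPolD
  Cfsg.Agent.Lib.helper14.UPolE Cfsg.Agent.Lib.helper14.UPolF Cfsg.Agent.Lib.helper14.UPolG
  Cfsg.Agent.Lib.helper14.UPolI Cfsg.Agent.Lib.helper14.UPolJ

/-- in a finite cyclic group of order `T`, the `K`-th powers are the elements killed by `T / gcd T K` -/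
theorem range_pow_eq_ker {G : Type*} [CommGroup G] [IsCyclic G] [Finite G] (K : ℕ) :
    (powMonoidHom K : G →* G).range =
      (powMonoidHom (Nat.card G / (Nat.card G).gcd K) : G →* G).ker := by
  have hT : 0 < Nat.card G := Nat.card_pos
  have hg : 0 < (Nat.card G).gcd K := Nat.gcd_pos_of_pos_left _ hT
  have hle : (powMonoidHom K : G →* G).range ≤
      (powMonoidHom (Nat.card G / (Nat.card G).gcd K) : G →* G).ker := by
    rintro _ ⟨x, rfl⟩
    rw [MonoidHom.mem_ker, powMonoidHom_apply, powMonoidHom_apply, ← pow_mul]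
    obtain ⟨k', hk'⟩ := Nat.gcd_dvd_right (Nat.card G) K
    have h1 : (Nat.card G).gcd K * (Nat.card G / (Nat.card G).gcd K) = Nat.card G :=
      Nat.mul_div_cancel' (Nat.gcd_dvd_left (Nat.card G) K)
    have e : K * (Nat.card G / (Nat.card G).gcd K) = Nat.card G * k' := by
      generalize (Nat.card G).gcd K = g at hk' h1
      rw [hk', mul_comm g k', mul_assoc, h1, mul_comm]
    rw [e, pow_mul, pow_card_eq_one', one_pow]
  apply Subgroup.eq_of_le_of_card_ge hle
  rw [IsCyclic.card_powMonoidHom_ker, IsCyclic.card_powMonoidHom_range]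
  apply le_of_eq
  apply Nat.gcd_eq_right
  exact Nat.div_dvd_of_dvd (Nat.gcd_dvd_left _ _)

theorem even_quot (A n : ℕ) (hn : n ≠ 0) (hv : padicValNat 2 n < padicValNat 2 A) :
    Even (A / A.gcd n) := by
  have hA : A ≠ 0 := by
    rintro rfl
    simp at hv
  by_contra hodd
  rw [Nat.not_even_iff_odd] at hodd
  have hg0 : A.gcd n ≠ 0 := Nat.gcd_ne_zero_left hA
  have hE0 : A / A.gcd n ≠ 0 := by
    intro h
    rw [h] at hodd
    simp at hodd
  have hmul : A.gcd n * (A / A.gcd n) = A := Nat.mul_div_cancel' (Nat.gcd_dvd_left _ _)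
  have h1 : padicValNat 2 A = padicValNat 2 (A.gcd n) := by
    conv_lhs => rw [← hmul]
    have h0 : padicValNat 2 (A / A.gcd n) = 0 :=
      padicValNat.eq_zero_of_not_dvd (by rw [Nat.two_dvd_ne_zero]; exact Nat.odd_iff.mp hodd)
    rw [padicValNat.mul hg0 hE0, h0, add_zero]
  have h2 : padicValNat 2 (A.gcd n) ≤ padicValNat 2 n := by
    rw [← padicValNat_dvd_iff_le hn]
    exact (pow_padicValNat_dvd).trans (Nat.gcd_dvd_right _ _)
  omega

variable {F : Type*} [Field F]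

/-- a scalar of norm one with `μ^n = -1` when `n_2 < (q+1)_2` -/
theorem exists_mu [Fintype F] {q : ℕ} (hq : Fintype.card F = q ^ 2) (n : ℕ) (hn : n ≠ 0)
    (hv : padicValNat 2 n < padicValNat 2 (q + 1)) (σ : F →+* F) (hσ : ∀ x, σ x = x ^ q) :
    ∃ μ : F, μ * σ μ = 1 ∧ μ ^ n = -1 := by
  classical
  have hq2 := two_le_q hq
  have hcard := card_units_sq hq
  have hmem : (-1 : Fˣ) ∈ (powMonoidHom ((q - 1) * n) : Fˣ →* Fˣ).range := by
    rw [range_pow_eq_ker, MonoidHom.mem_ker, powMonoidHom_apply, hcard, Nat.gcd_mul_left,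
      Nat.mul_div_mul_left _ _ (by omega : 0 < q - 1)]
    obtain ⟨k, hk⟩ := even_quot (q + 1) n hn hv
    rw [hk, ← two_mul, pow_mul]
    simp
  obtain ⟨d, hd⟩ := hmem
  rw [powMonoidHom_apply] at hd
  refine ⟨((d ^ (q - 1) : Fˣ) : F), ?_, ?_⟩
  · rw [hσ, ← pow_succ', ← Units.val_pow_eq_pow_val, ← pow_mul, ← hcard, pow_card_eq_one', Units.val_one]
  · rw [← Units.val_pow_eq_pow_val, ← pow_mul, hd, Units.val_neg, Units.val_one]


/-- the shape of a derangement statement in S5984 -/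
def Derange {n : ℕ} (q : ℕ) (D : Fin 2 → Submodule F (Fin n → F)) (r : ℕ) : Prop :=
  ∃ x ∈ Cfsg.GU n F q ⊓ Cfsg.Geo.specialLinear (Fin n) F,
    (∃ z : F, ((x ^ r : GL (Fin n) F) : Matrix (Fin n) (Fin n) F) = z • (1 : Matrix (Fin n) (Fin n) F)) ∧
    (∀ z : F, (x : Matrix (Fin n) (Fin n) F) ≠ z • (1 : Matrix (Fin n) (Fin n) F)) ∧
    ∀ g ∈ Cfsg.GU n F q ⊓ Cfsg.Geo.specialLinear (Fin n) F,
      g⁻¹ * x * g ∉ Cfsg.Geo.decompositionStabilizer D

/-- generic wrapper -/
theorem derange_of_noPair {n q : ℕ} (hn : 4 ≤ n) (σ : F →+* F) (hσ : ∀ x, σ x = x ^ q)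
    (D : Fin 2 → Submodule F (Fin n → F)) (hD : Cfsg.Geo.IsMDecomposition (n / 2) D)
    (hDs : ∀ i, Cfsg.Geo.IsTotallySingularFor (Cfsg.hermForm n F q) (D i)) (r : ℕ)
    (x : GL (Fin n) F) (hxG : x ∈ Cfsg.GU n F q ⊓ Cfsg.Geo.specialLinear (Fin n) F)
    (hxr : ∃ z : F, ((x ^ r : GL (Fin n) F) : Matrix (Fin n) (Fin n) F) = z • (1 : Matrix (Fin n) (Fin n) F))
    (hxs : ∀ z : F, (x : Matrix (Fin n) (Fin n) F) ≠ z • (1 : Matrix (Fin n) (Fin n) F))
    (hx : NoPair σ (x : Matrix (Fin n) (Fin n) F)) : Derange q D r :=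
  ⟨x, hxG, hxr, hxs, fun g hg => not_conj_of_noPair (by omega) σ hσ D hD hDs x hx g hg.1⟩

/-- (B): `r = 2`, `q` odd, `n_2 < (q+1)_2` -/
theorem der_two [Fintype F] {p : ℕ} [Fact p.Prime] [CharP F p] {q : ℕ} (hq : Fintype.card F = q ^ 2)
    (n : ℕ) (hn : 4 ≤ n) (D : Fin 2 → Submodule F (Fin n → F))
    (hD : Cfsg.Geo.IsMDecomposition (n / 2) D)
    (hDs : ∀ i, Cfsg.Geo.IsTotallySingularFor (Cfsg.hermForm n F q) (D i))
    (hodd : Odd q) (hv : padicValNat 2 n < padicValNat 2 (q + 1)) : Derange q D 2 := by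
  classical
  obtain ⟨σ, hσ⟩ := Cfsg.Agent.Lib.Lead.exists_frob hq
  have hσσ := Cfsg.Agent.Lib.Lead.frob_frob hq σ hσ
  have h2 := two_ne_zero_of_odd (p := p) hq hodd
  obtain ⟨μ, hμN, hμn⟩ := exists_mu hq n (by omega) hv σ hσ
  have hμ0 : μ ≠ 0 := by
    rintro rfl
    rw [zero_mul] at hμN
    exact zero_ne_one hμN
  let i0 : Fin n := ⟨0, by omega⟩
  let i1 : Fin n := ⟨1, by omega⟩
  have hi01 : i1 ≠ i0 := by
    intro h
    have := congrArg Fin.val h
    simp [i0, i1] at this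
  let d : Fin n → F := fun i => if i = i0 then -1 else 1
  have hdd : ∀ i, d i * d i = 1 := by
    intro i
    simp only [d]
    split_ifs <;> ring
  have hdσ : ∀ i, d i * σ (d i) = 1 := by
    intro i
    simp only [d]
    split_ifs
    · rw [map_neg, map_one]; ring
    · rw [map_one]; ring
  have hDD : Matrix.diagonal d * Matrix.diagonal d = 1 := by
    rw [Matrix.diagonal_mul_diagonal]
    have : (fun i => d i * d i) = fun _ => (1 : F) := funext hdd
    rw [this, Matrix.diagonal_one]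
  let Xm : Matrix (Fin n) (Fin n) F := μ • Matrix.diagonal d
  let Xi : Matrix (Fin n) (Fin n) F := μ⁻¹ • Matrix.diagonal d
  have hXX : Xm * Xm = (μ * μ) • (1 : Matrix (Fin n) (Fin n) F) := by
    simp only [Xm]
    rw [Matrix.smul_mul, Matrix.mul_smul, hDD, smul_smul]
  have e1 : Xm * Xi = 1 := by
    simp only [Xm, Xi]
    rw [Matrix.smul_mul, Matrix.mul_smul, hDD, smul_smul, mul_inv_cancel₀ hμ0, one_smul]
  have e2 : Xi * Xm = 1 := by
    simp only [Xm, Xi]
    rw [Matrix.smul_mul, Matrix.mul_smul, hDD, smul_smul, inv_mul_cancel₀ hμ0, one_smul]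
  let x : GL (Fin n) F := ⟨Xm, Xi, e1, e2⟩
  have hxv : (x : Matrix (Fin n) (Fin n) F) = Xm := rfl
  have hXu : ∀ u i, (Xm *ᵥ u) i = μ * (d i * u i) := by
    intro u i
    simp only [Xm]
    rw [Matrix.smul_mulVec, Pi.smul_apply, Matrix.mulVec_diagonal, smul_eq_mul]
  have hiso : ∀ u v, hs σ (Xm *ᵥ u) (Xm *ᵥ v) = hs σ u v := by
    intro u v
    simp only [hs, hXu, map_mul]
    apply Finset.sum_congr rfl
    intro i _
    linear_combination (u i * σ (v i) * (d i * σ (d i))) * hμN + (u i * σ (v i)) * hdσ i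
  have hdet : Xm.det = 1 := by
    simp only [Xm]
    rw [Matrix.det_smul, Matrix.det_diagonal, Fintype.card_fin, hμn]
    simp only [d]
    rw [Finset.prod_ite_eq' Finset.univ i0 (fun _ => (-1 : F))]
    simp
  have hxG : x ∈ Cfsg.GU n F q ⊓ Cfsg.Geo.specialLinear (Fin n) F := by
    refine ⟨(mem_GU_iff_hs σ hσ x).mpr hiso, ?_⟩
    show x ∈ (Matrix.GeneralLinearGroup.det : GL (Fin n) F →* Fˣ).ker
    rw [MonoidHom.mem_ker]
    apply Units.ext
    rw [Matrix.GeneralLinearGroup.val_det_apply, hxv, hdet, Units.val_one]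
  have hns : ∀ z : F, Xm ≠ z • (1 : Matrix (Fin n) (Fin n) F) := by
    intro z hz
    have h00 := congrFun (congrFun hz i0) i0
    have h11 := congrFun (congrFun hz i1) i1
    simp only [Xm, Matrix.smul_apply, Matrix.diagonal_apply_eq, Matrix.one_apply_eq, smul_eq_mul, d,
      if_true, if_neg hi01] at h00 h11
    apply hμ0
    have : (2 : F) * μ = 0 := by linear_combination h11 - h00
    exact (mul_eq_zero.mp this).resolve_left h2
  apply derange_of_noPair hn σ hσ D hD hDs 2 x hxG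
  · refine ⟨μ * μ, ?_⟩
    rw [sq, Units.val_mul, hxv, hXX]
  · exact hns
  · rw [hxv]
    apply noPair_of_rank_one σ hσσ Xm hiso μ hμN (Pi.single i0 1)
    · intro u
      refine ⟨-2 * μ * u i0, ?_⟩
      funext i
      rw [Pi.sub_apply, hXu, Pi.smul_apply, Pi.smul_apply, smul_eq_mul, smul_eq_mul]
      by_cases hi : i = i0
      · subst hi
        simp only [d, if_true, Pi.single_eq_same]
        ring
      · simp only [d, if_neg hi, Pi.single_eq_of_ne hi]
        ring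
    · intro h
      exact hns μ h

end Cfsg.Agent.Lib.helper14.UPolK
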