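import Cfsg.Agent.Lib.helper14.UPolK

set_option autoImplicit false
open scoped MatrixGroups

namespace Cfsg.Agent.Lib.helper14.UPolL

open Matrix Cfsg.Agent.Lib.helper14.UPolA Cfsg.Agent.Lib.helper14.UPolB Cfsg.Agent.Lib.helper14.UPolD
  Cfsg.Agent.Lib.helper14.UPolE Cfsg.Agent.Lib.helper14.UPolF Cfsg.Agent.Lib.helper14.UPolG
  Cfsg.Agent.Lib.helper14.UPolI Cfsg.Agent.Lib.helper14.UPolJ Cfsg.Agent.Lib.helper14.UPolK

variable {F : Type*} [Field F] {n : ℕ}

/-- the unitary transvection matrix `1 + a v v^*` -/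
def Tm (σ : F →+* F) (v : Fin n → F) (a : F) : Matrix (Fin n) (Fin n) F :=
  1 + a • Matrix.vecMulVec v (fun j => σ (v j))

theorem Tm_mulVec (σ : F →+* F) (v : Fin n → F) (a : F) (u : Fin n → F) :
    Tm σ v a *ᵥ u = u + (a * hs σ u v) • v := by
  rw [Tm, Matrix.add_mulVec, Matrix.one_mulVec, Matrix.smul_mulVec]
  congr 1
  funext i
  rw [Pi.smul_apply, Pi.smul_apply, smul_eq_mul, smul_eq_mul, Matrix.mulVec, dotProduct]
  simp only [Matrix.vecMulVec_apply, hs]
  rw [mul_assoc a, Finset.sum_mul, Finset.mul_sum, Finset.mul_sum]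
  apply Finset.sum_congr rfl
  intro j _
  ring

theorem Tm_zero (σ : F →+* F) (v : Fin n → F) : Tm σ v 0 = 1 := by
  simp [Tm]

theorem Tm_mul (σ : F →+* F) (v : Fin n → F) (hv : hs σ v v = 0) (a b : F) :
    Tm σ v a * Tm σ v b = Tm σ v (a + b) := by
  rw [Matrix.ext_iff_mulVec]
  intro u
  rw [← Matrix.mulVec_mulVec, Tm_mulVec, Tm_mulVec, Tm_mulVec, hs_add_left, hs_smul_left, hv, mul_zero,
    add_zero, add_assoc, ← add_smul]
  congr 2
  ring

theorem Tm_pow (σ : F →+* F) (v : Fin n → F) (hv : hs σ v v = 0) (a : F) (k : ℕ) :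
    Tm σ v a ^ k = Tm σ v (k * a) := by
  induction k with
  | zero => rw [pow_zero, Nat.cast_zero, zero_mul, Tm_zero]
  | succ k ih =>
    rw [pow_succ, ih, Tm_mul σ v hv]
    congr 1
    push_cast
    ring

theorem Tm_iso (σ : F →+* F) (hσσ : ∀ x, σ (σ x) = x) (v : Fin n → F) (hv : hs σ v v = 0) (a : F)
    (ha : σ a = -a) (u u' : Fin n → F) :
    hs σ (Tm σ v a *ᵥ u) (Tm σ v a *ᵥ u') = hs σ u u' := by
  rw [Tm_mulVec, Tm_mulVec, hs_add_left, hs_add_right, hs_add_right, hs_smul_left, hs_smul_left,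
    hs_smul_right, hs_smul_right, hv, map_mul, ha, hs_symm σ hσσ v u']
  ring

theorem Tm_det (σ : F →+* F) (v : Fin n → F) (hv : hs σ v v = 0) (a : F) : (Tm σ v a).det = 1 := by
  have h : Tm σ v a = 1 + Matrix.replicateCol (Fin 1) (a • v) * Matrix.replicateRow (Fin 1) (fun j => σ (v j)) := by
    ext i j
    simp [Tm, Matrix.vecMulVec_apply, Matrix.mul_apply, mul_assoc]
  have : (fun j => σ (v j)) ⬝ᵥ (a • v) = a * hs σ v v := by
    simp only [dotProduct, hs, Pi.smul_apply, smul_eq_mul, Finset.mul_sum]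
    apply Finset.sum_congr rfl
    intro j _
    ring
  rw [h, Matrix.det_one_add_mul_comm, Matrix.det_fin_one, Matrix.add_apply, Matrix.one_apply_eq,
    Matrix.replicateRow_mul_replicateCol_apply, this, hv, mul_zero, add_zero]


theorem neg_one_pow_q (σ : F →+* F) {q : ℕ} (hσ : ∀ x, σ x = x ^ q) : (-1 : F) ^ q = -1 := by
  rw [← hσ, map_neg, map_one]

/-- an element of norm `-1` (any `q`) -/
theorem exists_omega' [Fintype F] {q : ℕ} (hq : Fintype.card F = q ^ 2)
    (σ : F →+* F) (hσ : ∀ x, σ x = x ^ q) : ∃ ω : F, ω * σ ω = -1 := by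
  classical
  have hq2 := two_le_q hq
  have hle : (powMonoidHom (q + 1) : Fˣ →* Fˣ).range ≤ (powMonoidHom (q - 1) : Fˣ →* Fˣ).ker := by
    rintro _ ⟨x, rfl⟩
    rw [MonoidHom.mem_ker, powMonoidHom_apply, powMonoidHom_apply, ← pow_mul, mul_comm,
      ← card_units_sq hq]
    exact pow_card_eq_one'
  have hcard : Nat.card ↥((powMonoidHom (q - 1) : Fˣ →* Fˣ).ker) ≤
      Nat.card ↥((powMonoidHom (q + 1) : Fˣ →* Fˣ).range) := by
    rw [IsCyclic.card_powMonoidHom_ker, IsCyclic.card_powMonoidHom_range, card_units_sq hq,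
      Nat.gcd_mul_right_left, Nat.gcd_mul_left_left, Nat.mul_div_cancel _ (by omega : 0 < q + 1)]
  have heq := Subgroup.eq_of_le_of_card_ge hle hcard
  have : (-1 : Fˣ) ∈ (powMonoidHom (q + 1) : Fˣ →* Fˣ).range := by
    rw [heq, MonoidHom.mem_ker, powMonoidHom_apply]
    apply Units.ext
    rw [Units.val_pow_eq_pow_val, Units.val_neg, Units.val_one]
    have h1 := neg_one_pow_q σ hσ
    have h2 : (-1 : F) ^ q = (-1) ^ (q - 1) * (-1) := by
      rw [← pow_succ]
      congr 1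
      omega
    rw [h2] at h1
    linear_combination -h1
  obtain ⟨d, hd⟩ := this
  refine ⟨(d : F), ?_⟩
  rw [hσ, ← pow_succ']
  have := congrArg Units.val hd
  rw [powMonoidHom_apply, Units.val_pow_eq_pow_val, Units.val_neg, Units.val_one] at this
  exact this

/-- a nonzero skew element -/
theorem exists_skew [Fintype F] {q : ℕ} (hq : Fintype.card F = q ^ 2)
    (σ : F →+* F) (hσ : ∀ x, σ x = x ^ q) : ∃ a : F, a ≠ 0 ∧ σ a = -a := by
  classical
  have hq2 := two_le_q hq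
  have h1 : (-1 : Fˣ) ^ (q + 1) = 1 := by
    apply Units.ext
    rw [Units.val_pow_eq_pow_val, Units.val_neg, Units.val_one, pow_succ, neg_one_pow_q σ hσ]
    ring
  obtain ⟨d, hd⟩ := exists_pow_q_sub_one hq hq2 (-1 : Fˣ) h1
  refine ⟨(d : F), d.ne_zero, ?_⟩
  have h2 : (d : F) ^ q = (d : F) ^ (q - 1) * d := by
    rw [← pow_succ]
    congr 1
    omega
  have h3 := congrArg Units.val hd
  rw [Units.val_pow_eq_pow_val, Units.val_neg, Units.val_one] at h3
  rw [hσ, h2, h3]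
  ring

/-- (A): `r = p` -/
theorem der_p [Fintype F] {p : ℕ} [Fact p.Prime] [CharP F p] {q : ℕ} (hq : Fintype.card F = q ^ 2)
    (n : ℕ) (hn : 4 ≤ n) (D : Fin 2 → Submodule F (Fin n → F))
    (hD : Cfsg.Geo.IsMDecomposition (n / 2) D)
    (hDs : ∀ i, Cfsg.Geo.IsTotallySingularFor (Cfsg.hermForm n F q) (D i)) : Derange q D p := by
  classical
  obtain ⟨σ, hσ⟩ := Cfsg.Agent.Lib.Lead.exists_frob hq
  have hσσ := Cfsg.Agent.Lib.Lead.frob_frob hq σ hσ
  obtain ⟨ω, hω⟩ := exists_omega' hq σ hσ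
  obtain ⟨a, ha0, ha⟩ := exists_skew hq σ hσ
  have hω0 : ω ≠ 0 := by
    rintro rfl
    rw [zero_mul] at hω
    exact zero_ne_one (neg_eq_zero.mp hω.symm).symm
  let i0 : Fin n := ⟨0, by omega⟩
  let i1 : Fin n := ⟨1, by omega⟩
  have hi01 : i1 ≠ i0 := by
    intro h
    have := congrArg Fin.val h
    simp [i0, i1] at this
  let v : Fin n → F := Pi.single i0 1 + ω • Pi.single i1 1
  have hv0 : v i0 = 1 := by
    simp only [v, Pi.add_apply, Pi.smul_apply, Pi.single_eq_same, Pi.single_eq_of_ne hi01.symm, smul_eq_mul,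
      mul_zero, add_zero]
  have hv1 : v i1 = ω := by
    simp only [v, Pi.add_apply, Pi.smul_apply, Pi.single_eq_same, Pi.single_eq_of_ne hi01, smul_eq_mul,
      mul_one, zero_add]
  have hvv : hs σ v v = 0 := by
    have : hs σ v v = hs σ v (Pi.single i0 1) + σ ω * hs σ v (Pi.single i1 1) := by
      conv_lhs => rw [show v = Pi.single i0 1 + ω • Pi.single i1 1 from rfl]
      rw [hs_add_right, hs_smul_right]
    rw [this, hs_single_right, hs_single_right, hv0, hv1]
    linear_combination hω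
  have e1 : Tm σ v a * Tm σ v (-a) = 1 := by rw [Tm_mul σ v hvv, add_neg_cancel, Tm_zero]
  have e2 : Tm σ v (-a) * Tm σ v a = 1 := by rw [Tm_mul σ v hvv, neg_add_cancel, Tm_zero]
  let x : GL (Fin n) F := ⟨Tm σ v a, Tm σ v (-a), e1, e2⟩
  have hxv : (x : Matrix (Fin n) (Fin n) F) = Tm σ v a := rfl
  have hiso := Tm_iso σ hσσ v hvv a ha
  have hxG : x ∈ Cfsg.GU n F q ⊓ Cfsg.Geo.specialLinear (Fin n) F := by
    refine ⟨(mem_GU_iff_hs σ hσ x).mpr hiso, ?_⟩
    show x ∈ (Matrix.GeneralLinearGroup.det : GL (Fin n) F →* Fˣ).ker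
    rw [MonoidHom.mem_ker]
    apply Units.ext
    rw [Matrix.GeneralLinearGroup.val_det_apply, hxv, Tm_det σ v hvv, Units.val_one]
  have he0 : hs σ (Pi.single i0 1) v = 1 := by
    rw [hs_symm σ hσσ, hs_single_right, hv0, map_one]
  have hns : ∀ z : F, Tm σ v a ≠ z • (1 : Matrix (Fin n) (Fin n) F) := by
    intro z hz
    have h1 := congrFun (congrArg (fun M => M *ᵥ (Pi.single i0 (1 : F))) hz) i1
    simp only [Tm_mulVec, he0, mul_one, Matrix.smul_mulVec, Matrix.one_mulVec, Pi.add_apply, Pi.smul_apply,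
      Pi.single_eq_of_ne hi01, hv1, smul_eq_mul, mul_zero, zero_add] at h1
    rcases mul_eq_zero.mp h1 with h | h
    · exact ha0 h
    · exact hω0 h
  apply derange_of_noPair hn σ hσ D hD hDs p x hxG
  · refine ⟨1, ?_⟩
    rw [Units.val_pow_eq_pow_val, hxv, Tm_pow σ v hvv, CharP.cast_eq_zero, zero_mul, Tm_zero, one_smul]
  · exact hns
  · rw [hxv]
    apply noPair_of_rank_one σ hσσ (Tm σ v a) hiso 1 (by rw [map_one, one_mul]) v
    · intro u
      refine ⟨a * hs σ u v, ?_⟩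
      rw [Tm_mulVec, one_smul, add_sub_cancel_left]
    · intro h
      exact hns 1 h

end Cfsg.Agent.Lib.helper14.UPolL
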