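import Cfsg.Agent.Lib.helper14.UPolL

/-!
# S5984, part M: assembly modulo the odd-prime derangement (C)
-/

set_option autoImplicit false
open scoped MatrixGroups

namespace Cfsg.Agent.Lib.helper14.UPolM

open Matrix Cfsg.Agent.Lib.helper14.UPolA Cfsg.Agent.Lib.helper14.UPolB Cfsg.Agent.Lib.helper14.UPolD
  Cfsg.Agent.Lib.helper14.UPolE Cfsg.Agent.Lib.helper14.UPolF Cfsg.Agent.Lib.helper14.UPolG
  Cfsg.Agent.Lib.helper14.UPolI Cfsg.Agent.Lib.helper14.UPolJ Cfsg.Agent.Lib.helper14.UPolK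
  Cfsg.Agent.Lib.helper14.UPolL

variable {F : Type*} [Field F]

theorem main_of_C [Fintype F] {p : ℕ} [Fact p.Prime] [CharP F p] {q : ℕ} (hq : Fintype.card F = q ^ 2)
    (n : ℕ) (hn : 4 ≤ n) (he : Even n) (D : Fin 2 → Submodule F (Fin n → F))
    (hD : Cfsg.Geo.IsMDecomposition (n / 2) D)
    (hDs : ∀ i, Cfsg.Geo.IsTotallySingularFor (Cfsg.hermForm n F q) (D i))
    (r : ℕ) [Fact r.Prime]
    (hΩ : r ∣ (Cfsg.Geo.decompositionStabilizer D).relIndex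
      (Cfsg.GU n F q ⊓ Cfsg.Geo.specialLinear (Fin n) F))
    (hC : r ≠ 2 → r ≠ p → ∀ j, Odd j → j ≤ n - 1 → r ∣ q ^ j + 1 →
      ∃ x ∈ Cfsg.GU n F q ⊓ Cfsg.Geo.specialLinear (Fin n) F,
        (∃ z : F, ((x ^ r : GL (Fin n) F) : Matrix (Fin n) (Fin n) F) = z • (1 : Matrix (Fin n) (Fin n) F)) ∧
        (∀ z : F, (x : Matrix (Fin n) (Fin n) F) ≠ z • (1 : Matrix (Fin n) (Fin n) F)) ∧
        ∀ g ∈ Cfsg.GU n F q ⊓ Cfsg.Geo.specialLinear (Fin n) F,
          g⁻¹ * x * g ∉ Cfsg.Geo.decompositionStabilizer D) :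
    (∀ x ∈ Cfsg.GU n F q ⊓ Cfsg.Geo.specialLinear (Fin n) F,
      (∃ z : F, ((x ^ r : GL (Fin n) F) : Matrix (Fin n) (Fin n) F) = z • (1 : Matrix (Fin n) (Fin n) F)) →
      (∀ z : F, (x : Matrix (Fin n) (Fin n) F) ≠ z • (1 : Matrix (Fin n) (Fin n) F)) →
      ∃ g ∈ Cfsg.GU n F q ⊓ Cfsg.Geo.specialLinear (Fin n) F,
        g⁻¹ * x * g ∈ Cfsg.Geo.decompositionStabilizer D) ↔
    (r = 2 ∧ Odd q ∧ padicValNat 2 (q + 1) ≤ padicValNat 2 n) := by
  constructor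
  · intro h
    have hcontra : ∀ r' : ℕ, r' = r → Derange q D r' → False := by
      rintro r' rfl ⟨x, hxG, hxr, hxs, hno⟩
      obtain ⟨g, hg, hmem⟩ := h x hxG hxr hxs
      exact hno g hg hmem
    have hrp : r ≠ p := by
      intro hrp
      exact hcontra p hrp.symm (der_p hq n hn D hD hDs)
    have hr2 : r = 2 := by
      by_contra hr2
      obtain ⟨j, hj, hjn, hrj⟩ := index_arith hq n hn he D hD hDs r hrp hΩ
      exact hcontra r rfl (hC hr2 hrp j hj hjn hrj)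
    have hodd : Odd q := by
      obtain ⟨k, hk, hqk⟩ := q_prime_pow (p := p) hq
      rw [hqk]
      apply Odd.pow
      apply (Fact.out : p.Prime).odd_of_ne_two
      intro hp2
      exact hrp (hr2.trans hp2.symm)
    refine ⟨hr2, hodd, ?_⟩
    by_contra hv
    push Not at hv
    exact hcontra 2 hr2.symm (der_two hq n hn D hD hDs hodd hv)
  · rintro ⟨hr2, hodd, hv⟩ x hx ⟨z, hz⟩ _
    subst hr2
    exact backward hq n hn he D hD hDs hodd hv x hx z hz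

end Cfsg.Agent.Lib.helper14.UPolM
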