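import Mathlib
import Cfsg.Agent.S0751
import Cfsg.Agent.S0755

set_option autoImplicit false

/-! Conjugacy of involutions in a unitary group in characteristic two (abstract form):
`a = 1 + N`, `N² = 0`, `N` self-adjoint for the Hermitian form `B`
(`B` semilinear in the first variable). -/

namespace Cfsg.Agent.Lib.helper14.UnitInv

open Module LinearMap

universe u

variable {F : Type*} [Field F] {V : Type u} [AddCommGroup V] [Module F V] {σ : F →+* F}

/-- `N = a - 1` for an involution `a` of the unitary group. -/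
structure IsInvPartH (B : V →ₛₗ[σ] V →ₗ[F] F) (N : V →ₗ[F] V) : Prop where
  sq : ∀ v, N (N v) = 0
  sa : ∀ u v, B (N u) v = B u (N v)

variable {B : V →ₛₗ[σ] V →ₗ[F] F}

theorem betaN_herm (hS : B.IsSymm) {N : V →ₗ[F] V} (hN : IsInvPartH B N) (x y : V) :
    σ (B x (N y)) = B y (N x) := by
  rw [hS.eq, hN.sa]

theorem adjust (hS : B.IsSymm) (htr : ∀ s, σ s = s → ∃ t, t + σ t = s) {N : V →ₗ[F] V}
    (hN : IsInvPartH B N) {ι : Type*} [Fintype ι] [LinearOrder ι] (v d : ι → V)
    (hd1 : ∀ i, B (v i) (N (d i)) = 1)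
    (hd0 : ∀ i j, i ≠ j → B (v i) (N (d j)) = 0) :
    ∃ u : ι → V, (∀ i j, B (u i) (u j) = 0) ∧ (∀ j, N (u j) = N (v j)) ∧
      (∀ i j, B (u i) (N (u j)) = B (v i) (N (v j))) := by
  classical
  have htex : ∀ i, ∃ t, t + σ t = B (v i) (v i) := fun i => htr _ (hS.eq _ _)
  choose t ht using htex
  set M : ι → ι → F := fun k j => if k < j then -B (v k) (v j) else if k = j then -t j else 0
    with hM
  set c : ι → V := fun j => ∑ k, M k j • d k with hc
  have hvc : ∀ i j, B (v i) (N (c j)) = M i j := by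
    intro i j
    simp only [hc, map_sum, map_smul, smul_eq_mul]
    rw [Finset.sum_eq_single i]
    · rw [hd1, mul_one]
    · intro k _ hki
      rw [hd0 i k (Ne.symm hki), mul_zero]
    · intro h
      exact absurd (Finset.mem_univ i) h
  have hNN : ∀ x y, B (N x) (N y) = 0 := by
    intro x y
    rw [hN.sa, hN.sq, map_zero]
  refine ⟨fun j => v j + N (c j), ?_, ?_, ?_⟩
  · intro i j
    simp only [map_add, LinearMap.add_apply]
    rw [hvc, hNN, ← hS.eq (v j) (N (c i)), hvc, add_zero]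
    simp only [hM]
    rcases lt_trichotomy i j with h | h | h
    · rw [if_pos h, if_neg (not_lt.mpr h.le), if_neg (ne_of_gt h), map_zero]
      ring
    · subst h
      rw [if_neg (lt_irrefl _), if_pos rfl, map_neg, ← ht i]
      ring
    · rw [if_neg (not_lt.mpr h.le), if_neg (ne_of_gt h), if_pos h, map_neg, hS.eq]
      ring
  · intro j
    simp only [map_add]
    rw [hN.sq, add_zero]
  · intro i j
    simp only [map_add, LinearMap.add_apply]
    rw [hN.sq]
    simp only [map_zero, add_zero]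
    rw [hNN, add_zero]

theorem gram_nd {N : V →ₗ[F] V} (hN : IsInvPartH B N) {ι : Type*} [Fintype ι]
    (G : ι → ι → F) (hG : ∀ a : ι → F, (∀ j, ∑ i, a i * G i j = 0) → a = 0)
    (u : ι → V) (h1 : ∀ i j, B (u i) (u j) = 0) (h2 : ∀ i j, B (u i) (N (u j)) = G i j)
    (c : ι ⊕ ι → F)
    (hc : ∀ l, B (∑ k, c k • Sum.elim u (fun i => N (u i)) k)
      (Sum.elim u (fun i => N (u i)) l) = 0) : c = 0 := by
  have hNN : ∀ x y, B (N x) (N y) = 0 := by
    intro x y
    rw [hN.sa, hN.sq, map_zero]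
  have e1 : (fun i => σ (c (Sum.inl i))) = 0 := by
    apply hG
    intro j
    have := hc (Sum.inr j)
    simp only [map_sum, LinearMap.sum_apply, LinearMap.map_smulₛₗ, LinearMap.smul_apply,
      smul_eq_mul, map_add, LinearMap.add_apply,
      Fintype.sum_sum_type, Sum.elim_inl, Sum.elim_inr, h2, hNN, mul_zero, Finset.sum_const_zero,
      add_zero] at this
    exact this
  have e2 : (fun i => σ (c (Sum.inr i))) = 0 := by
    apply hG
    intro j
    have := hc (Sum.inl j)
    simp only [map_sum, LinearMap.sum_apply, LinearMap.map_smulₛₗ, LinearMap.smul_apply,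
      smul_eq_mul, map_add, LinearMap.add_apply,
      Fintype.sum_sum_type, Sum.elim_inl, Sum.elim_inr, h1, hN.sa, h2, mul_zero,
      Finset.sum_const_zero, zero_add] at this
    exact this
  funext k
  rcases k with i | i
  · have := congrFun e1 i
    exact (map_eq_zero σ).mp this
  · have := congrFun e2 i
    exact (map_eq_zero σ).mp this

theorem glue [Finite F] [FiniteDimensional F V] (hσ : σ ≠ RingHom.id F)
    (hσ2 : ∀ a : F, σ (σ a) = a) (hS : B.IsSymm) (hB : B.Nondegenerate)
    {N N' : V →ₗ[F] V}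
    (hN : IsInvPartH B N) (hN' : IsInvPartH B N') {ι : Type*} [Fintype ι] (G : ι → ι → F)
    (hG : ∀ a : ι → F, (∀ j, ∑ i, a i * G i j = 0) → a = 0)
    (u u' : ι → V) (h1 : ∀ i j, B (u i) (u j) = 0) (h2 : ∀ i j, B (u i) (N (u j)) = G i j)
    (h1' : ∀ i j, B (u' i) (u' j) = 0) (h2' : ∀ i j, B (u' i) (N' (u' j)) = G i j)
    (hsp : ∀ v, N v ∈ Submodule.span F (Set.range (fun i => N (u i))))
    (hsp' : ∀ v, N' v ∈ Submodule.span F (Set.range (fun i => N' (u' i)))) :
    ∃ g : V ≃ₗ[F] V, (∀ x y, B (g x) (g y) = B x y) ∧ ∀ v, g (N v) = N' (g v) := by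
  classical
  set w : ι ⊕ ι → V := Sum.elim u (fun i => N (u i)) with hw
  set w' : ι ⊕ ι → V := Sum.elim u' (fun i => N' (u' i)) with hw'
  have hΓ : ∀ k l, B (w k) (w l) = B (w' k) (w' l) := by
    rintro (i | i) (j | j)
    · show B (u i) (u j) = B (u' i) (u' j)
      rw [h1, h1']
    · show B (u i) (N (u j)) = B (u' i) (N' (u' j))
      rw [h2, h2']
    · show B (N (u i)) (u j) = B (N' (u' i)) (u' j)
      rw [hN.sa, hN'.sa, h2, h2']
    · show B (N (u i)) (N (u j)) = B (N' (u' i)) (N' (u' j))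
      rw [hN.sa, hN.sq, hN'.sa, hN'.sq, map_zero, map_zero]
  have hli : LinearIndependent F w := by
    rw [Fintype.linearIndependent_iff]
    intro c hc
    have := gram_nd hN G hG u h1 h2 c (fun l => by
      show B (∑ k, c k • w k) (w l) = 0
      rw [hc, map_zero, LinearMap.zero_apply])
    intro k
    exact congrFun this k
  have hli' : LinearIndependent F w' := by
    rw [Fintype.linearIndependent_iff]
    intro c hc
    have := gram_nd hN' G hG u' h1' h2' c (fun l => by
      show B (∑ k, c k • w' k) (w' l) = 0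
      rw [hc, map_zero, LinearMap.zero_apply])
    intro k
    exact congrFun this k
  set X := Submodule.span F (Set.range w) with hX
  set Y := Submodule.span F (Set.range w') with hY
  set bX : Basis (ι ⊕ ι) F X := Basis.span hli with hbX
  set bY : Basis (ι ⊕ ι) F Y := Basis.span hli' with hbY
  have hbXv : ∀ k, (bX k : V) = w k := fun k => congrArg Subtype.val (Basis.span_apply hli k)
  have hbYv : ∀ k, (bY k : V) = w' k := fun k => congrArg Subtype.val (Basis.span_apply hli' k)
  set φ : X ≃ₗ[F] Y := bX.equiv bY (Equiv.refl _) with hφdef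
  have hφb : ∀ k, φ (bX k) = bY k := fun k => by
    rw [hφdef, Basis.equiv_apply, Equiv.refl_apply]
  have hcoe : ∀ x : X, (x : V) = ∑ i, bX.repr x i • w i := by
    intro x
    conv_lhs => rw [← bX.sum_repr x]
    rw [Submodule.coe_sum]
    refine Finset.sum_congr rfl (fun i _ => ?_)
    rw [Submodule.coe_smul, hbXv]
  have hcoe' : ∀ x : X, (φ x : V) = ∑ i, bX.repr x i • w' i := by
    intro x
    have h1 : φ x = ∑ i, bX.repr x i • bY i := by
      conv_lhs => rw [← bX.sum_repr x]
      rw [map_sum]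
      refine Finset.sum_congr rfl (fun i _ => ?_)
      rw [map_smul, hφb]
    rw [h1, Submodule.coe_sum]
    refine Finset.sum_congr rfl (fun i _ => ?_)
    rw [Submodule.coe_smul, hbYv]
  have hφ : ∀ x x' : X, B (φ x : V) (φ x' : V) = B (x : V) (x' : V) := by
    intro x x'
    rw [hcoe x, hcoe x', hcoe' x, hcoe' x']
    simp only [map_sum, LinearMap.sum_apply, LinearMap.map_smulₛₗ, LinearMap.smul_apply,
      map_smul, hΓ]
  obtain ⟨g, hgiso, hgX⟩ := Cfsg.Agent.S0751.result σ hσ hσ2 B hS hB X Y φ hφ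
  have hgw : ∀ k, g (w k) = w' k := by
    intro k
    have := hgX (bX k)
    rw [hφb, hbXv, hbYv] at this
    exact this
  have hgu : ∀ i, g (u i) = u' i := fun i => hgw (Sum.inl i)
  have hgNu : ∀ i, g (N (u i)) = N' (u' i) := fun i => hgw (Sum.inr i)
  refine ⟨g, hgiso, ?_⟩
  have hEw : ∀ k, g (N (w k)) = N' (g (w k)) := by
    rintro (i | i)
    · show g (N (u i)) = N' (g (u i))
      rw [hgNu, hgu]
    · show g (N (N (u i))) = N' (g (N (u i)))
      rw [hN.sq, map_zero, hgNu, hN'.sq]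
  intro v
  have hmemY : g (N v) - N' (g v) ∈ Y := by
    apply Submodule.sub_mem
    · have h := hsp v
      have hle : Submodule.span F (Set.range (fun i => N (u i))) ≤ Y.comap (g : V →ₗ[F] V) := by
        rw [Submodule.span_le]
        rintro _ ⟨i, rfl⟩
        show g (N (u i)) ∈ Y
        rw [hgNu]
        exact Submodule.subset_span ⟨Sum.inr i, rfl⟩
      exact hle h
    · have h := hsp' (g v)
      have hle : Submodule.span F (Set.range (fun i => N' (u' i))) ≤ Y := by
        rw [Submodule.span_le]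
        rintro _ ⟨i, rfl⟩
        exact Submodule.subset_span ⟨Sum.inr i, rfl⟩
      exact hle h
  obtain ⟨c, hc⟩ := (Submodule.mem_span_range_iff_exists_fun F).mp hmemY
  have hc0 : c = 0 := by
    apply gram_nd hN' G hG u' h1' h2' c
    intro l
    show B (∑ k, c k • w' k) (w' l) = 0
    rw [hc, ← hgw l, map_sub, LinearMap.sub_apply, hgiso, hN'.sa, ← hEw, hgiso, hN.sa, sub_self]
  rw [hc0] at hc
  simp only [Pi.zero_apply, zero_smul, Finset.sum_const_zero] at hc
  exact sub_eq_zero.mp hc.symm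

/-- the normal form of the nilpotent part: a totally isotropic family `u` with
`B (u i) (N (u j)) = δ_ij` whose images span the range of `N` -/
theorem normal_form [Finite F] [FiniteDimensional F V] (hσ : σ ≠ RingHom.id F)
    (hσ2 : ∀ a : F, σ (σ a) = a) (hS : B.IsSymm) (hB : B.Nondegenerate)
    (htr : ∀ s, σ s = s → ∃ t, t + σ t = s)
    {N : V →ₗ[F] V} (hN : IsInvPartH B N) :
    ∃ u : Fin (finrank F (LinearMap.range N)) → V, (∀ i j, B (u i) (u j) = 0) ∧
      (∀ i j, B (u i) (N (u j)) = if i = j then 1 else 0) ∧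
      (∀ v, N v ∈ Submodule.span F (Set.range (fun i => N (u i)))) := by
  classical
  obtain ⟨U₀, hU₀⟩ := Submodule.exists_isCompl (LinearMap.ker N)
  have hdec : ∀ v : V, ∃ k ∈ LinearMap.ker N, ∃ x ∈ U₀, k + x = v := by
    intro v
    have : v ∈ LinearMap.ker N ⊔ U₀ := by rw [hU₀.sup_eq_top]; exact Submodule.mem_top
    exact Submodule.mem_sup.mp this
  have h5 : ∀ v, ∃ x : U₀, N v = N (x : V) := by
    intro v
    obtain ⟨k, hk, x, hx, rfl⟩ := hdec v
    refine ⟨⟨x, hx⟩, ?_⟩
    rw [map_add, LinearMap.mem_ker.mp hk, zero_add]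
  set β₀ : U₀ →ₛₗ[σ] U₀ →ₗ[F] F := (B.compl₂ N).domRestrict₁₂ U₀ U₀ with hβ₀
  have hβ₀a : ∀ x y : U₀, β₀ x y = B (x : V) (N (y : V)) := by
    intro x y
    rw [hβ₀, LinearMap.domRestrict₁₂_apply, LinearMap.compl₂_apply]
  have hS₀ : β₀.IsSymm := by
    constructor
    intro x y
    rw [hβ₀a, hβ₀a]
    exact betaN_herm hS hN _ _
  have hsepL : ∀ x : U₀, (∀ y : U₀, β₀ x y = 0) → x = 0 := by
    intro x hx
    have hNx : N (x : V) = 0 := by
      apply hB.1
      intro v
      obtain ⟨y, hy⟩ := h5 v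
      rw [hN.sa, hy, ← hβ₀a]
      exact hx y
    have hmem : (x : V) ∈ LinearMap.ker N ⊓ U₀ := ⟨LinearMap.mem_ker.mpr hNx, x.2⟩
    rw [hU₀.inf_eq_bot, Submodule.mem_bot] at hmem
    exact Subtype.ext hmem
  have hB₀ : β₀.Nondegenerate := by
    refine ⟨hsepL, ?_⟩
    intro y hy
    apply hsepL
    intro x
    have := hS₀.eq y x
    rw [hy x] at this
    exact (map_eq_zero σ).mp this
  have hdim : finrank F U₀ = finrank F (LinearMap.range N) := by
    have e1 := LinearMap.finrank_range_add_finrank_ker N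
    have e2 := Submodule.finrank_add_eq_of_isCompl hU₀
    omega
  obtain ⟨b₀, hb₀⟩ := Cfsg.Agent.S0755.result σ hσ hσ2 β₀ hS₀ hB₀
  set b : Basis (Fin (finrank F (LinearMap.range N))) F U₀ := b₀.reindex (finCongr hdim) with hb
  have hbb : ∀ i j, B (b i : V) (N (b j : V)) = if i = j then 1 else 0 := by
    intro i j
    rw [← hβ₀a, hb, Basis.reindex_apply, Basis.reindex_apply, hb₀]
    simp only [EmbeddingLike.apply_eq_iff_eq]
  obtain ⟨u, hu1, hu2, hu3⟩ := adjust hS htr hN (fun i => (b i : V)) (fun i => (b i : V))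
    (fun i => by rw [hbb, if_pos rfl]) (fun i j hij => by rw [hbb, if_neg hij])
  refine ⟨u, hu1, fun i j => by rw [hu3, hbb], ?_⟩
  intro v
  obtain ⟨x, hx⟩ := h5 v
  rw [hx, ← b.sum_repr x]
  simp only [Submodule.coe_sum, Submodule.coe_smul, map_sum, map_smul]
  apply Submodule.sum_mem
  intro i _
  apply Submodule.smul_mem
  apply Submodule.subset_span
  exact ⟨i, hu2 i⟩

theorem exists_isometry_conj [Finite F] [FiniteDimensional F V] (hσ : σ ≠ RingHom.id F)
    (hσ2 : ∀ a : F, σ (σ a) = a) (hS : B.IsSymm) (hB : B.Nondegenerate)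
    (htr : ∀ s, σ s = s → ∃ t, t + σ t = s)
    {N N' : V →ₗ[F] V} (hN : IsInvPartH B N) (hN' : IsInvPartH B N')
    (hrank : finrank F (LinearMap.range N) = finrank F (LinearMap.range N')) :
    ∃ g : V ≃ₗ[F] V, (∀ x y, B (g x) (g y) = B x y) ∧ ∀ v, g (N v) = N' (g v) := by
  classical
  obtain ⟨u, hu1, hu2, hu3⟩ := normal_form hσ hσ2 hS hB htr hN
  obtain ⟨u', hu1', hu2', hu3'⟩ := normal_form hσ hσ2 hS hB htr hN'
  revert u'
  rw [← hrank]
  intro u' hu1' hu2' hu3'
  refine glue hσ hσ2 hS hB hN hN' (fun i j => if i = j then 1 else 0) ?_ u u' hu1 hu2 hu1' hu2'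
    hu3 hu3'
  intro a ha
  funext j
  have := ha j
  simpa using this

/-- a hyperbolic pair `(u, N u)` when `N ≠ 0` -/
theorem exists_hyp_vector [Finite F] [FiniteDimensional F V] (hσ : σ ≠ RingHom.id F)
    (hσ2 : ∀ a : F, σ (σ a) = a) (hS : B.IsSymm) (hB : B.Nondegenerate)
    (htr : ∀ s, σ s = s → ∃ t, t + σ t = s)
    {N : V →ₗ[F] V} (hN : IsInvPartH B N) (hN0 : N ≠ 0) :
    ∃ u : V, B u u = 0 ∧ B u (N u) = 1 := by
  obtain ⟨u, hu1, hu2, hu3⟩ := normal_form hσ hσ2 hS hB htr hN
  have hpos : 0 < finrank F (LinearMap.range N) := by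
    rw [Module.finrank_pos_iff, Submodule.nontrivial_iff_ne_bot]
    intro h
    apply hN0
    rw [LinearMap.range_eq_bot] at h
    exact h
  refine ⟨u ⟨0, hpos⟩, hu1 _ _, ?_⟩
  rw [hu2, if_pos rfl]

end Cfsg.Agent.Lib.helper14.UnitInv
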