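import Mathlib
import Cfsg.Agent.Lib.helper14.UnitInv
import Cfsg.Agent.Lib.helper6.HermGram

set_option autoImplicit false

/-! Elements of `GU_n(q)` centralising an involution with prescribed determinant (q even). -/

namespace Cfsg.Agent.Lib.helper14.UnitInv

open Cfsg.Agent.Lib.Lead Cfsg.Agent.Lib.Lead.HI Cfsg.Agent.Lib.helper6.HF Matrix

section qr

variable {F : Type*} [Field F] {q n : ℕ}

local notation "H" => Cfsg.hermForm n F q

/-- the map `x ↦ x + c (H(x,p') p + H(x,p) p')` preserves the form when `(1+c)^(q+1) = 1` and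
`(p, p')` is a hyperbolic pair -/
theorem qr_preserve (σ : F →+* F) (hσ : ∀ x, σ x = x ^ q) (hσσ : ∀ x, σ (σ x) = x)
    (p p' : Fin n → F) (c : F) (hpp : H p p = 0) (hp'p' : H p' p' = 0)
    (hpp' : H p p' = 1) (hp'p : H p' p = 1) (hc : c + c ^ q + c ^ (q + 1) = 0)
    (x y : Fin n → F) :
    H (x + c • (H x p' • p + H x p • p')) (y + c • (H y p' • p + H y p • p')) = H x y := by
  have e1 : H p y = (H y p) ^ q := by rw [herm_symm σ hσ hσσ, hσ]
  have e2 : H p' y = (H y p') ^ q := by rw [herm_symm σ hσ hσσ, hσ]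
  simp only [herm_add_left, herm_add_right σ hσ, herm_smul_left, herm_smul_right, hpp, hp'p',
    hpp', hp'p, e1, e2]
  linear_combination (H x p * (H y p') ^ q + H x p' * (H y p) ^ q) * hc

end qr

section Z

variable {F : Type*} [Field F] {q n : ℕ}

local notation "H" => Cfsg.hermForm n F q

/-- left factor -/
def colMat (p p' : Fin n → F) (c : F) : Matrix (Fin n) (Fin 2) F :=
  Matrix.of (fun i k => if k = 0 then c * p i else c * p' i)

/-- right factor -/
def rowMat (q : ℕ) (p p' : Fin n → F) : Matrix (Fin 2) (Fin n) F :=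
  Matrix.of (fun k j => if k = 0 then (p' j) ^ q else (p j) ^ q)

/-- the quasi-reflection matrix -/
def zMat (q : ℕ) (p p' : Fin n → F) (c : F) : Matrix (Fin n) (Fin n) F :=
  1 + colMat p p' c * rowMat q p p'

theorem zMat_mulVec (p p' : Fin n → F) (c : F) (x : Fin n → F) :
    zMat q p p' c *ᵥ x = x + c • (H x p' • p + H x p • p') := by
  unfold zMat
  rw [Matrix.add_mulVec, Matrix.one_mulVec, ← Matrix.mulVec_mulVec]
  congr 1
  funext i
  simp only [Matrix.mulVec, dotProduct, colMat, rowMat, Matrix.of_apply, Fin.sum_univ_two,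
    Fin.isValue, if_true, one_ne_zero, if_false, Pi.smul_apply, Pi.add_apply, smul_eq_mul,
    Cfsg.hermForm]
  have h1 : ∑ j, p' j ^ q * x j = ∑ j, x j * p' j ^ q :=
    Finset.sum_congr rfl (fun j _ => mul_comm _ _)
  have h2 : ∑ j, p j ^ q * x j = ∑ j, x j * p j ^ q :=
    Finset.sum_congr rfl (fun j _ => mul_comm _ _)
  rw [h1, h2]
  ring

theorem zMat_det (p p' : Fin n → F) (c : F) (hpp : H p p = 0) (hp'p' : H p' p' = 0)
    (hpp' : H p p' = 1) (hp'p : H p' p = 1) :
    (zMat q p p' c).det = (1 + c) ^ 2 := by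
  unfold zMat
  rw [Matrix.det_one_add_mul_comm, Matrix.det_fin_two]
  have e00 : (rowMat q p p' * colMat p p' c) 0 0 = c := by
    simp only [Matrix.mul_apply, rowMat, colMat, Matrix.of_apply, if_true]
    have : ∑ j, p' j ^ q * (c * p j) = c * H p p' := by
      simp only [Cfsg.hermForm, Finset.mul_sum]
      exact Finset.sum_congr rfl (fun j _ => by ring)
    rw [this, hpp', mul_one]
  have e01 : (rowMat q p p' * colMat p p' c) 0 1 = 0 := by
    simp only [Matrix.mul_apply, rowMat, colMat, Matrix.of_apply, if_true, Fin.isValue,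
      one_ne_zero, if_false]
    have : ∑ j, p' j ^ q * (c * p' j) = c * H p' p' := by
      simp only [Cfsg.hermForm, Finset.mul_sum]
      exact Finset.sum_congr rfl (fun j _ => by ring)
    rw [this, hp'p', mul_zero]
  have e10 : (rowMat q p p' * colMat p p' c) 1 0 = 0 := by
    simp only [Matrix.mul_apply, rowMat, colMat, Matrix.of_apply, if_true, Fin.isValue,
      one_ne_zero, if_false]
    have : ∑ j, p j ^ q * (c * p j) = c * H p p := by
      simp only [Cfsg.hermForm, Finset.mul_sum]
      exact Finset.sum_congr rfl (fun j _ => by ring)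
    rw [this, hpp, mul_zero]
  have e11 : (rowMat q p p' * colMat p p' c) 1 1 = c := by
    simp only [Matrix.mul_apply, rowMat, colMat, Matrix.of_apply, Fin.isValue,
      one_ne_zero, if_false]
    have : ∑ j, p j ^ q * (c * p' j) = c * H p' p := by
      simp only [Cfsg.hermForm, Finset.mul_sum]
      exact Finset.sum_congr rfl (fun j _ => by ring)
    rw [this, hp'p, mul_one]
  simp only [Matrix.add_apply, e00, e01, e10, e11, Matrix.one_apply_eq, Matrix.one_apply_ne,
    Fin.isValue, ne_eq, one_ne_zero, not_false_eq_true, zero_ne_one, add_zero]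
  ring

end Z

end Cfsg.Agent.Lib.helper14.UnitInv
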